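import Mathlib.LinearAlgebra.Matrix.GeneralLinearGroup.Card
import Mathlib.LinearAlgebra.Matrix.GeneralLinearGroup.Projective
import Mathlib.GroupTheory.SpecificGroups.Cyclic
import Mathlib.RingTheory.IntegralDomain
import Mathlib.FieldTheory.Finite.Basic
import Mathlib.GroupTheory.Sylow
import Mathlib.Algebra.BigOperators.Intervals

/-!
Orders of GL, SL, PGL, PSL over finite fields, and the order of their centres.
-/

set_option autoImplicit false

namespace CfsgLib.Lie.Orders

open Matrix
open scoped MatrixGroups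

variable {n : Type*} [Fintype n] [DecidableEq n] {F : Type*} [Field F]

theorem toGL_range_eq_det_ker :
    (Matrix.SpecialLinearGroup.toGL : Matrix.SpecialLinearGroup n F →* GL n F).range =
      (Matrix.GeneralLinearGroup.det : GL n F →* Fˣ).ker := by
  ext g
  simp only [MonoidHom.mem_range, MonoidHom.mem_ker]
  constructor
  · rintro ⟨s, rfl⟩
    exact Units.ext (by simp)
  · intro h
    refine ⟨⟨(g : Matrix n n F), ?_⟩, Units.ext rfl⟩
    simpa using congrArg Units.val h

theorem card_det_ker :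
    Nat.card (Matrix.GeneralLinearGroup.det : GL n F →* Fˣ).ker =
      Nat.card (Matrix.SpecialLinearGroup n F) := by
  rw [← toGL_range_eq_det_ker]
  exact (Nat.card_congr (MonoidHom.ofInjective
    (f := (Matrix.SpecialLinearGroup.toGL : Matrix.SpecialLinearGroup n F →* GL n F))
    Matrix.SpecialLinearGroup.toGL_injective).toEquiv).symm

variable [Finite F]

theorem card_units_eq : Nat.card Fˣ = Nat.card F - 1 := by
  have := Nat.card_eq_card_units_add_one F
  omega

theorem card_GL_eq_mul_card_SL [Nonempty n] :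
    Nat.card (GL n F) = (Nat.card F - 1) * Nat.card (Matrix.SpecialLinearGroup n F) := by
  rw [← Subgroup.card_mul_index (Matrix.GeneralLinearGroup.det : GL n F →* Fˣ).ker,
    card_det_ker, Subgroup.index_ker,
    MonoidHom.range_eq_top.2 Matrix.GeneralLinearGroup.det_surjective,
    Subgroup.card_top, card_units_eq, mul_comm]

theorem card_GL_center [Nonempty n] :
    Nat.card (Subgroup.center (GL n F)) = Nat.card F - 1 := by
  rw [Matrix.GeneralLinearGroup.center_eq_range_scalar, ← card_units_eq (F := F)]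
  refine (Nat.card_congr (MonoidHom.ofInjective ?_).toEquiv).symm
  intro a b h
  obtain ⟨i⟩ := ‹Nonempty n›
  exact Units.ext (by simpa using congrArg (fun g : GL n F => (g : Matrix n n F) i i) h)

theorem card_PGL [Nonempty n] :
    Nat.card (Matrix.ProjGenLinGroup n F) = Nat.card (Matrix.SpecialLinearGroup n F) := by
  have h := Subgroup.card_eq_card_quotient_mul_card_subgroup (Subgroup.center (GL n F))
  rw [card_GL_eq_mul_card_SL, card_GL_center, mul_comm] at h
  have h2 : 1 < Nat.card F := Finite.one_lt_card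
  have h3 : 0 < Nat.card F - 1 := by omega
  exact (Nat.eq_of_mul_eq_mul_right h3 h).symm

theorem card_center_SL [Nonempty n] :
    Nat.card (Subgroup.center (Matrix.SpecialLinearGroup n F)) =
      Nat.gcd (Fintype.card n) (Nat.card F - 1) := by
  obtain ⟨i⟩ := ‹Nonempty n›
  rw [Nat.card_congr (Matrix.SpecialLinearGroup.center_equiv_rootsOfUnity' i).toEquiv,
    ← card_units_eq (F := F), Nat.gcd_comm]
  exact IsCyclic.card_powMonoidHom_ker (G := Fˣ) (Fintype.card n)

theorem card_PSL_mul [Nonempty n] :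
    Nat.gcd (Fintype.card n) (Nat.card F - 1) *
      Nat.card (Matrix.ProjectiveSpecialLinearGroup n F) =
      Nat.card (Matrix.SpecialLinearGroup n F) := by
  rw [← card_center_SL, mul_comm]
  exact (Subgroup.card_eq_card_quotient_mul_card_subgroup _).symm

theorem card_GL_fin {F : Type*} [Field F] [Fintype F] {q : ℕ} (hF : Fintype.card F = q) (n : ℕ) :
    Nat.card (GL (Fin n) F) = ∏ i : Fin n, (q ^ n - q ^ (i : ℕ)) := by
  subst hF
  exact Matrix.card_GL_field n

theorem card_SL_mul {F : Type*} [Field F] [Fintype F] {q : ℕ} (hF : Fintype.card F = q) (n : ℕ)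
    (hn : 1 ≤ n) :
    (q - 1) * Nat.card (Matrix.SpecialLinearGroup (Fin n) F) =
      ∏ i : Fin n, (q ^ n - q ^ (i : ℕ)) := by
  have : Nonempty (Fin n) := ⟨⟨0, hn⟩⟩
  rw [← card_GL_fin hF n, card_GL_eq_mul_card_SL, ← hF, Nat.card_eq_fintype_card (α := F)]

/-- |SL₂(q)| = q(q²-1). -/
theorem card_SL_two {F : Type*} [Field F] [Fintype F] {q : ℕ} (hF : Fintype.card F = q) :
    Nat.card (Matrix.SpecialLinearGroup (Fin 2) F) = q * (q ^ 2 - 1) := by
  have h := card_SL_mul hF 2 (by norm_num)
  have h2 : 1 < q := hF ▸ Fintype.one_lt_card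
  have h3 : 0 < q - 1 := by omega
  apply Nat.eq_of_mul_eq_mul_left h3
  rw [h, Fin.prod_univ_two]
  simp only [Fin.val_zero, pow_zero, Fin.val_one, pow_one]
  rw [show q ^ 2 - q = q * (q - 1) by rw [Nat.mul_sub_one, sq]]
  ring

end CfsgLib.Lie.Orders

namespace CfsgLib.Lie.Orders

theorem prod_sub_eq (q n : ℕ) :
    ∏ i : Fin n, (q ^ n - q ^ (i : ℕ)) =
      q ^ (n * (n - 1) / 2) * ∏ i : Fin n, (q ^ (n - (i : ℕ)) - 1) := by
  rw [← Finset.sum_range_id, ← Finset.prod_pow_eq_pow_sum, ← Fin.prod_univ_eq_prod_range,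
    ← Finset.prod_mul_distrib]
  refine Finset.prod_congr rfl fun i _ => ?_
  rw [Nat.mul_sub_one, ← pow_add]
  congr 2
  have := i.isLt
  omega

theorem exists_card_eq_pow {F : Type*} [Field F] [Fintype F] {q : ℕ} (hF : Fintype.card F = q)
    (p : ℕ) [Fact p.Prime] [CharP F p] : ∃ f : ℕ, 1 ≤ f ∧ q = p ^ f := by
  obtain ⟨f, -, hf⟩ := FiniteField.card F p
  exact ⟨f, f.pos, hF ▸ hf⟩

theorem card_sylow_GL {F : Type*} [Field F] [Fintype F] {q : ℕ} (hF : Fintype.card F = q)
    (p : ℕ) [Fact p.Prime] [CharP F p] (n : ℕ) (P : Sylow p (Matrix.GeneralLinearGroup (Fin n) F)) :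
    Nat.card P = q ^ (n * (n - 1) / 2) := by
  obtain ⟨f, hf1, hf⟩ := exists_card_eq_pow hF p
  have hp := Fact.out (p := p.Prime)
  have h1q : 1 < q := hF ▸ Fintype.one_lt_card
  have hm : ¬ p ∣ ∏ i : Fin n, (q ^ (n - (i : ℕ)) - 1) := by
    intro h
    obtain ⟨i, -, hi⟩ := (Prime.dvd_finsetProd_iff hp.prime _).1 h
    have hk : n - (i : ℕ) ≠ 0 := by omega
    have hpd : p ∣ q ^ (n - (i : ℕ)) :=
      dvd_pow (hf ▸ dvd_pow_self p (by omega)) hk
    have hge : 1 ≤ q ^ (n - (i : ℕ)) := Nat.one_le_pow _ _ (by omega)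
    have h1 : p ∣ 1 := by simpa [Nat.sub_sub_self hge] using Nat.dvd_sub hpd hi
    exact hp.one_lt.ne' (Nat.dvd_one.1 h1)
  rw [P.card_eq_multiplicity]
  rw [show Nat.card (Matrix.GeneralLinearGroup (Fin n) F) = _ from card_GL_fin hF n, prod_sub_eq]
  rw [Nat.factorization_mul (pow_ne_zero _ (by omega)) (fun h => hm (by rw [h]; exact dvd_zero p)),
    Finsupp.add_apply, Nat.factorization_eq_zero_of_not_dvd hm, add_zero, hf, ← pow_mul,
    hp.factorization_pow, Finsupp.single_eq_same]

end CfsgLib.Lie.Orders
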