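import Mathlib
import Cfsg.Agent.Lie.Orders

/-!
The projective line: sharp triple transitivity of PGL₂, small isomorphisms of PSL₂.
-/

set_option autoImplicit false
set_option linter.unusedSimpArgs false

namespace CfsgLib.Lie.ProjLine

open Matrix
open scoped MatrixGroups LinearAlgebra.Projectivization

variable {F : Type*} [Field F]

abbrev Pt (F : Type*) [Field F] : Type _ := ℙ F (Fin 2 → F)

def P0 : Pt F := Projectivization.mk F ![1, 0] (by simp)
def P1 : Pt F := Projectivization.mk F ![0, 1] (by simp)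
def P2 : Pt F := Projectivization.mk F ![1, 1] (by simp)

theorem smul_mk_eq (g : GL (Fin 2) F) (v : Fin 2 → F) (hv : v ≠ 0) (p : Pt F) (a : F)
    (h : a • p.rep = (g : Matrix (Fin 2) (Fin 2) F) *ᵥ v) :
    g • Projectivization.mk F v hv = p := by
  rw [Projectivization.smul_mk]
  conv_rhs => rw [← p.mk_rep]
  rw [Projectivization.mk_eq_mk_iff']
  exact ⟨a, h⟩

theorem eq_of_det_eq_zero {p q : Pt F} (h : p.rep 0 * q.rep 1 - p.rep 1 * q.rep 0 = 0) : p = q := by
  rw [← p.mk_rep, ← q.mk_rep, Projectivization.mk_eq_mk_iff']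
  rcases eq_or_ne (q.rep 0) 0 with h0 | h0
  · have h1 : q.rep 1 ≠ 0 := fun h1 => q.rep_nonzero (by
      funext i; fin_cases i <;> simp [h0, h1])
    refine ⟨p.rep 1 / q.rep 1, funext fun i => ?_⟩
    have h2 : p.rep 0 = 0 := by simpa [h0, h1] using h
    fin_cases i <;> simp [h0, h1, h2]
  · refine ⟨p.rep 0 / q.rep 0, funext fun i => ?_⟩
    fin_cases i
    · simp [h0]
    · simp only [Fin.mk_one, Pi.smul_apply, smul_eq_mul]
      field_simp
      linear_combination h

theorem exists_frame {a b c : Pt F} (hab : a ≠ b) (hac : a ≠ c) (hbc : b ≠ c) :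
    ∃ g : GL (Fin 2) F, g • (P0 : Pt F) = a ∧ g • (P1 : Pt F) = b ∧ g • (P2 : Pt F) = c := by
  set u := a.rep with hu
  set v := b.rep with hv
  set w := c.rep with hw
  have hd : u 0 * v 1 - u 1 * v 0 ≠ 0 := fun h => hab (eq_of_det_eq_zero h)
  have hwv : w 0 * v 1 - w 1 * v 0 ≠ 0 := fun h => hbc (eq_of_det_eq_zero h).symm
  have huw : u 0 * w 1 - u 1 * w 0 ≠ 0 := fun h => hac (eq_of_det_eq_zero h)
  set d := u 0 * v 1 - u 1 * v 0 with hd'
  set α := (w 0 * v 1 - w 1 * v 0) / d with hα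
  set β := (u 0 * w 1 - u 1 * w 0) / d with hβ
  let M : Matrix (Fin 2) (Fin 2) F := !![α * u 0, β * v 0; α * u 1, β * v 1]
  have hM : M.det ≠ 0 := by
    have : M.det = α * β * d := by simp [M, Matrix.det_fin_two, hd']; ring
    rw [this, hα, hβ]
    exact mul_ne_zero (mul_ne_zero (div_ne_zero hwv hd) (div_ne_zero huw hd)) hd
  refine ⟨Matrix.GeneralLinearGroup.mkOfDetNeZero M hM, ?_, ?_, ?_⟩
  · refine smul_mk_eq _ _ _ _ α (funext fun i => ?_)
    fin_cases i <;> simp [M, ← hu, Matrix.GeneralLinearGroup.mkOfDetNeZero, Matrix.mulVec,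
      dotProduct, Fin.sum_univ_two]
  · refine smul_mk_eq _ _ _ _ β (funext fun i => ?_)
    fin_cases i <;> simp [M, ← hv, Matrix.GeneralLinearGroup.mkOfDetNeZero, Matrix.mulVec,
      dotProduct, Fin.sum_univ_two]
  · refine smul_mk_eq _ _ _ _ 1 (funext fun i => ?_)
    fin_cases i <;> simp [M, ← hw, Matrix.GeneralLinearGroup.mkOfDetNeZero, Matrix.mulVec,
      dotProduct, Fin.sum_univ_two, hα, hβ] <;> field_simp <;> rw [hd'] <;> ring

theorem GL_three_transitive {a b c a' b' c' : Pt F} (hab : a ≠ b) (hac : a ≠ c) (hbc : b ≠ c)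
    (hab' : a' ≠ b') (hac' : a' ≠ c') (hbc' : b' ≠ c') :
    ∃ g : GL (Fin 2) F, g • a = a' ∧ g • b = b' ∧ g • c = c' := by
  obtain ⟨g, h1, h2, h3⟩ := exists_frame hab hac hbc
  obtain ⟨k, k1, k2, k3⟩ := exists_frame hab' hac' hbc'
  exact ⟨k * g⁻¹, by rw [← h1, mul_smul, inv_smul_smul, k1],
    by rw [← h2, mul_smul, inv_smul_smul, k2], by rw [← h3, mul_smul, inv_smul_smul, k3]⟩

theorem scalar_of_fix {g : GL (Fin 2) F} (h0 : g • (P0 : Pt F) = P0) (h1 : g • (P1 : Pt F) = P1)
    (h2 : g • (P2 : Pt F) = P2) : g ∈ Subgroup.center (GL (Fin 2) F) := by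
  unfold P0 at h0
  unfold P1 at h1
  unfold P2 at h2
  rw [Projectivization.smul_mk, Projectivization.mk_eq_mk_iff'] at h0 h1 h2
  obtain ⟨x, hx⟩ := h0
  obtain ⟨y, hy⟩ := h1
  obtain ⟨z, hz⟩ := h2
  change _ = (g : Matrix (Fin 2) (Fin 2) F) *ᵥ _ at hx hy hz
  have e00 := congrFun hx 0
  have e10 := congrFun hx 1
  have e01 := congrFun hy 0
  have e11 := congrFun hy 1
  have e20 := congrFun hz 0
  have e21 := congrFun hz 1
  simp [Matrix.mulVec, dotProduct, Fin.sum_univ_two] at e00 e10 e01 e11 e20 e21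
  refine Subgroup.mem_center_iff.2 fun k => Units.ext ?_
  have hg : (g : Matrix (Fin 2) (Fin 2) F) = z • (1 : Matrix (Fin 2) (Fin 2) F) := by
    rw [← e01, add_zero] at e20
    rw [← e10, zero_add] at e21
    ext i j
    fin_cases i <;> fin_cases j <;> simp [e10.symm, e01.symm, e20.symm, e21.symm]
  rw [Units.val_mul, Units.val_mul, hg, Matrix.smul_mul, Matrix.mul_smul, one_mul, mul_one]

theorem PGL_three_transitive :
    MulAction.IsMultiplyPretransitive (Matrix.ProjGenLinGroup (Fin 2) F) (Pt F) 3 := by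
  rw [MulAction.isMultiplyPretransitive_iff]
  intro x y
  have hne : ∀ (z : Fin 3 ↪ Pt F) (i j : Fin 3), i ≠ j → z i ≠ z j := fun z i j h hh =>
    h (z.injective hh)
  obtain ⟨g, g0, g1, g2⟩ := GL_three_transitive (hne x 0 1 (by decide)) (hne x 0 2 (by decide))
    (hne x 1 2 (by decide)) (hne y 0 1 (by decide)) (hne y 0 2 (by decide)) (hne y 1 2 (by decide))
  refine ⟨Matrix.ProjGenLinGroup.mk g, ?_⟩
  ext i
  rw [Function.Embedding.smul_apply]
  fin_cases i <;> assumption

theorem PGL_eq_one {g : Matrix.ProjGenLinGroup (Fin 2) F} {a b c : Pt F} (hab : a ≠ b)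
    (hac : a ≠ c) (hbc : b ≠ c) (ha : g • a = a) (hb : g • b = b) (hc : g • c = c) : g = 1 := by
  induction g using Matrix.ProjGenLinGroup.induction_on with
  | mk g =>
    change g • a = a at ha
    change g • b = b at hb
    change g • c = c at hc
    obtain ⟨k, k1, k2, k3⟩ := exists_frame hab hac hbc
    have := scalar_of_fix (g := k⁻¹ * g * k) (by rw [mul_smul, mul_smul, k1, ha, ← k1, inv_smul_smul])
      (by rw [mul_smul, mul_smul, k2, hb, ← k2, inv_smul_smul])
      (by rw [mul_smul, mul_smul, k3, hc, ← k3, inv_smul_smul])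
    rw [Matrix.ProjGenLinGroup.mk_eq_one]
    have h2 : g = k⁻¹ * g * k := by
      have h3 := Subgroup.mem_center_iff.1 this k
      rw [← mul_left_inj k, ← h3]
      group
    rwa [h2]

theorem SL_three_transitive_of_char_two [Finite F] (h : ringChar F = 2) :
    MulAction.IsMultiplyPretransitive (Matrix.SpecialLinearGroup (Fin 2) F) (Pt F) 3 := by
  rw [MulAction.isMultiplyPretransitive_iff]
  intro x y
  have hne : ∀ (z : Fin 3 ↪ Pt F) (i j : Fin 3), i ≠ j → z i ≠ z j := fun z i j h hh =>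
    h (z.injective hh)
  obtain ⟨g, g0, g1, g2⟩ := GL_three_transitive (hne x 0 1 (by decide)) (hne x 0 2 (by decide))
    (hne x 1 2 (by decide)) (hne y 0 1 (by decide)) (hne y 0 2 (by decide)) (hne y 1 2 (by decide))
  obtain ⟨s, hs⟩ := FiniteField.isSquare_of_char_two h ((g : Matrix (Fin 2) (Fin 2) F).det)⁻¹
  have hd : (g : Matrix (Fin 2) (Fin 2) F).det ≠ 0 := g.det_ne_zero
  have hs0 : s ≠ 0 := fun h0 => hd (by simpa [h0] using hs)
  let M : Matrix.SpecialLinearGroup (Fin 2) F := ⟨s • (g : Matrix (Fin 2) (Fin 2) F), by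
    rw [Matrix.det_smul, Fintype.card_fin, pow_two, ← hs, inv_mul_cancel₀ hd]⟩
  have key : ∀ p : Pt F, M • p = g • p := by
    intro p
    induction p using Projectivization.ind with
    | _ v hv =>
      rw [Projectivization.smul_mk, Projectivization.smul_mk, Projectivization.mk_eq_mk_iff']
      exact ⟨s, (Matrix.smul_mulVec s _ v).symm⟩
  refine ⟨M, ?_⟩
  ext i
  rw [Function.Embedding.smul_apply, key]
  fin_cases i <;> assumption

theorem char_two_of_SL_three_transitive [Finite F]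
    (h : MulAction.IsMultiplyPretransitive (Matrix.SpecialLinearGroup (Fin 2) F) (Pt F) 3) :
    ringChar F = 2 := by
  classical
  by_contra h2
  obtain ⟨ε, hε⟩ := FiniteField.exists_nonsquare h2
  have he : ε ≠ 0 := fun h0 => hε (h0 ▸ IsSquare.zero)
  let Q : Pt F := Projectivization.mk F ![1, ε] (by simp)
  have n01 : (P0 : Pt F) ≠ P1 := by simp [P0, P1, Projectivization.mk_eq_mk_iff']
  have n02 : (P0 : Pt F) ≠ P2 := by simp [P0, P2, Projectivization.mk_eq_mk_iff']
  have n12 : (P1 : Pt F) ≠ P2 := by simp [P1, P2, Projectivization.mk_eq_mk_iff']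
  have m02 : (P0 : Pt F) ≠ Q := by simp [P0, Q, Projectivization.mk_eq_mk_iff', he, he.symm]
  have m12 : (P1 : Pt F) ≠ Q := by simp [P1, Q, Projectivization.mk_eq_mk_iff']
  let x : Fin 3 ↪ Pt F := ⟨![P0, P1, P2], by
    intro i j hij
    fin_cases i <;> fin_cases j <;> simp_all [n01, n02, n12, n01.symm, n02.symm, n12.symm]⟩
  let y : Fin 3 ↪ Pt F := ⟨![P0, P1, Q], by
    intro i j hij
    fin_cases i <;> fin_cases j <;> simp_all [n01, m02, m12, n01.symm, m02.symm, m12.symm]⟩
  obtain ⟨g, hg⟩ := MulAction.isMultiplyPretransitive_iff.1 h x y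
  have h0 : g • (P0 : Pt F) = P0 := congrFun (congrArg DFunLike.coe hg) 0
  have h1 : g • (P1 : Pt F) = P1 := congrFun (congrArg DFunLike.coe hg) 1
  have h3 : g • (P2 : Pt F) = Q := congrFun (congrArg DFunLike.coe hg) 2
  unfold P0 at h0
  unfold P1 at h1
  unfold P2 at h3
  rw [Projectivization.smul_mk, Projectivization.mk_eq_mk_iff'] at h0 h1 h3
  obtain ⟨x0, hx⟩ := h0
  obtain ⟨y0, hy⟩ := h1
  obtain ⟨z0, hz⟩ := h3
  change _ = (g : Matrix (Fin 2) (Fin 2) F) *ᵥ _ at hx hy hz
  have e10 := congrFun hx 1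
  have e01 := congrFun hy 0
  have e20 := congrFun hz 0
  have e21 := congrFun hz 1
  simp [Matrix.mulVec, dotProduct, Fin.sum_univ_two] at e10 e01 e20 e21
  rw [← e01, add_zero] at e20
  rw [← e10, zero_add] at e21
  have hdet : (g : Matrix (Fin 2) (Fin 2) F).det = 1 := g.2
  rw [Matrix.det_fin_two, ← e10, ← e20, ← e21] at hdet
  simp at hdet
  have hz0 : z0 ≠ 0 := fun h0 => by simp [h0] at hdet
  refine hε ⟨z0⁻¹, ?_⟩
  field_simp
  linear_combination hdet

theorem perm_hom_injective :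
    Function.Injective (MulAction.toPermHom (Matrix.ProjectiveSpecialLinearGroup (Fin 2) F) (Pt F)) :=
  MulAction.toPerm_injective

theorem exists_perm_hom [Fintype F] {q : ℕ} (hF : Fintype.card F = q) :
    ∃ φ : Matrix.ProjectiveSpecialLinearGroup (Fin 2) F →* Equiv.Perm (Fin (q + 1)),
      Function.Injective φ := by
  have hc : Nat.card (Pt F) = q + 1 := by
    rw [Projectivization.card_of_finrank_two F (Fin 2 → F) (by simp), Nat.card_eq_fintype_card, hF]
  exact ⟨(Finite.equivFinOfCardEq hc).permCongrHom.toMonoidHom.comp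
    (MulAction.toPermHom _ (Pt F)),
    (Finite.equivFinOfCardEq hc).permCongrHom.injective.comp perm_hom_injective⟩

theorem card_PSL_two [Fintype F] {q : ℕ} (hF : Fintype.card F = q) :
    Nat.gcd 2 (q - 1) * Nat.card (Matrix.ProjectiveSpecialLinearGroup (Fin 2) F) = q * (q ^ 2 - 1) := by
  rw [← Orders.card_SL_two hF, ← hF, ← Nat.card_eq_fintype_card, ← Orders.card_PSL_mul,
    Fintype.card_fin]

/-- A small PSL₂ is alternating, by its action on points. -/
theorem equiv_alternating [Fintype F] {q : ℕ} (hF : Fintype.card F = q) (hq : 2 ≤ q + 1)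
    (h : 2 * (q * (q ^ 2 - 1)) = Nat.gcd 2 (q - 1) * (q + 1).factorial) :
    Nonempty (Matrix.ProjectiveSpecialLinearGroup (Fin 2) F ≃* alternatingGroup (Fin (q + 1))) := by
  obtain ⟨φ, hφ⟩ := exists_perm_hom hF
  have hc := card_PSL_two hF
  have hr : Nat.card φ.range * 2 = (q + 1).factorial := by
    rw [← Nat.card_congr (MonoidHom.ofInjective hφ).toEquiv]
    have hg : 0 < Nat.gcd 2 (q - 1) := Nat.gcd_pos_of_pos_left _ two_pos
    refine Nat.eq_of_mul_eq_mul_left hg ?_
    rw [← mul_assoc, hc, mul_comm, h]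
  have hi : φ.range.index = 2 := by
    have h1 := φ.range.card_mul_index
    rw [Nat.card_eq_fintype_card (α := Equiv.Perm (Fin (q + 1))), Fintype.card_perm,
      Fintype.card_fin, ← hr] at h1
    exact Nat.eq_of_mul_eq_mul_left Nat.card_pos h1
  have : Nontrivial (Fin (q + 1)) := Fin.nontrivial_iff_two_le.2 hq
  exact ⟨(MonoidHom.ofInjective hφ).trans
    (MulEquiv.subgroupCongr (Equiv.Perm.eq_alternatingGroup_of_index_eq_two hi))⟩

end CfsgLib.Lie.ProjLine
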