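import Mathlib.LinearAlgebra.Projectivization.PSL.PSL2
import Mathlib.LinearAlgebra.Matrix.GeneralLinearGroup.Basic

/-!
Generation of SL_n over a field by transvections, perfectness, commutator subgroup of GL_n,
simplicity of PSL_n.
-/

set_option autoImplicit false
set_option linter.unusedSimpArgs false

namespace CfsgLib.Lie.SLn

open Matrix
open scoped MatrixGroups commutatorElement

variable {ι : Type*} [Fintype ι] [DecidableEq ι] {F : Type*} [Field F]

theorem transv_mulVec (i j : ι) (b : F) (v : ι → F) :
    Matrix.transvection i j b *ᵥ v = v + (b * v j) • Pi.single i (1 : F) := by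
  simp only [Matrix.transvection, Matrix.add_mulVec, Matrix.one_mulVec, Matrix.single_mulVec_eq,
    smul_eq_mul]

theorem transv_mulVec_apply (i j : ι) (b : F) (v : ι → F) (k : ι) :
    (Matrix.transvection i j b *ᵥ v) k = v k + if k = i then b * v j else 0 := by
  rw [transv_mulVec]
  by_cases h : k = i <;> simp [Pi.single_apply, h]

theorem tv_coe {i j : ι} (hij : i ≠ j) (b : F) :
    ((SpecialLinearGroup.transvection hij b : SpecialLinearGroup ι F) : Matrix ι ι F) =
      Matrix.transvection i j b := rfl

theorem coe_ext {A B : SpecialLinearGroup ι F}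
    (h : (A : Matrix ι ι F) = (B : Matrix ι ι F)) : A = B := Subtype.ext h

/-- `diag2n` is a product of six transvections. -/
theorem diag2n_decompose {i j : ι} (hij : i ≠ j) (a : F) (ha : a ≠ 0) :
    SpecialLinearGroup.diag2n hij a ha =
      SpecialLinearGroup.transvection hij a * SpecialLinearGroup.transvection hij.symm (-a⁻¹) *
      SpecialLinearGroup.transvection hij a * SpecialLinearGroup.transvection hij (-1) *
      SpecialLinearGroup.transvection hij.symm 1 * SpecialLinearGroup.transvection hij (-1) := by
  apply coe_ext
  change Matrix.diagonal (fun k => if k = i then a else if k = j then a⁻¹ else 1) =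
    Matrix.transvection i j a * Matrix.transvection j i (-a⁻¹) * Matrix.transvection i j a *
      Matrix.transvection i j (-1) * Matrix.transvection j i 1 * Matrix.transvection i j (-1)
  apply Matrix.ext_of_mulVec_single
  intro l
  funext k
  simp only [← Matrix.mulVec_mulVec, transv_mulVec_apply, Matrix.mulVec_diagonal]
  by_cases hki : k = i
  · subst hki
    by_cases hlk : l = k
    · subst hlk; simp [hij, hij.symm, Pi.single_apply] <;> (try field_simp) <;> (try ring_nf) <;> (try simp)
    · by_cases hlj : l = j
      · subst hlj; simp [hij, hij.symm, Pi.single_apply] <;> (try field_simp) <;> (try ring_nf) <;> (try simp)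
      · simp [hij, hij.symm, Pi.single_apply, Ne.symm hlk, Ne.symm hlj]
  · by_cases hkj : k = j
    · subst hkj
      by_cases hlk : l = k
      · subst hlk; simp [hij, hij.symm, Pi.single_apply] <;> (try field_simp) <;> (try ring_nf) <;> (try simp)
      · by_cases hli : l = i
        · subst hli; simp [hij, hij.symm, Pi.single_apply] <;> (try field_simp) <;> (try ring_nf) <;> (try simp)
        · simp [hij, hij.symm, Pi.single_apply, Ne.symm hlk, Ne.symm hli]
    · simp [hki, hkj]

/-- SL_n is generated by the elementary transvections. -/
theorem eq_top_of_transvection_mem (H : Subgroup (SpecialLinearGroup ι F))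
    (h : ∀ (i j : ι) (hij : i ≠ j) (c : F), SpecialLinearGroup.transvection hij c ∈ H) : H = ⊤ := by
  rcases subsingleton_or_nontrivial ι with hs | hn
  · exact Subsingleton.elim _ _
  refine eq_top_iff.2 fun M hM => ?_
  clear hM
  induction M using SpecialLinearGroup.diagonal_transvection_induction' with
  | hdiag i j hij hc =>
    rw [diag2n_decompose hij _ hc]
    exact H.mul_mem (H.mul_mem (H.mul_mem (H.mul_mem (H.mul_mem (h _ _ _ _) (h _ _ _ _))
      (h _ _ _ _)) (h _ _ _ _)) (h _ _ _ _)) (h _ _ _ _)
  | htransvec i j hij a => exact h i j hij a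
  | hmul A B hA hB => exact H.mul_mem hA hB

/-- The commutator of two transvections with indices chained is a transvection. -/
theorem commutator_transvection {i j k : ι} (hik : i ≠ k) (hkj : k ≠ j) (hij : i ≠ j) (c d : F) :
    ⁅SpecialLinearGroup.transvection hik c, SpecialLinearGroup.transvection hkj d⁆ =
      SpecialLinearGroup.transvection hij (c * d) := by
  rw [commutatorElement_def, SpecialLinearGroup.transvection_inv, SpecialLinearGroup.transvection_inv]
  apply coe_ext
  change Matrix.transvection i k c * Matrix.transvection k j d * Matrix.transvection i k (-c) *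
    Matrix.transvection k j (-d) = Matrix.transvection i j (c * d)
  apply Matrix.ext_of_mulVec_single
  intro l
  funext m
  simp only [← Matrix.mulVec_mulVec, transv_mulVec_apply]
  by_cases hmi : m = i
  · subst hmi
    simp [hik, hkj, hij, hik.symm, hkj.symm, hij.symm]
    ring
  · by_cases hmk : m = k
    · subst hmk
      simp [hik, hkj, hij, hik.symm, hkj.symm, hij.symm]
    · simp [hmi, hmk]

theorem transvection_mem_commutatorSet_of_three {i j k : ι} (hik : i ≠ k) (hkj : k ≠ j)
    (hij : i ≠ j) (c : F) :
    SpecialLinearGroup.transvection hij c ∈ commutatorSet (SpecialLinearGroup ι F) :=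
  ⟨SpecialLinearGroup.transvection hik c, SpecialLinearGroup.transvection hkj 1, by
    rw [commutator_transvection hik hkj hij, mul_one]⟩

theorem commutator_diag2n_transvection {i j : ι} (hij : i ≠ j) (a : F) (ha : a ≠ 0) (b : F) :
    ⁅SpecialLinearGroup.diag2n hij a ha, SpecialLinearGroup.transvection hij b⁆ =
      SpecialLinearGroup.transvection hij (b * (a ^ 2 - 1)) := by
  rw [commutatorElement_def, mul_inv_eq_iff_eq_mul, mul_inv_eq_iff_eq_mul]
  apply coe_ext
  change Matrix.diagonal (fun k => if k = i then a else if k = j then a⁻¹ else 1) *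
      Matrix.transvection i j b = Matrix.transvection i j (b * (a ^ 2 - 1)) *
      Matrix.transvection i j b *
        Matrix.diagonal (fun k => if k = i then a else if k = j then a⁻¹ else 1)
  apply Matrix.ext_of_mulVec_single
  intro l
  funext m
  simp only [← Matrix.mulVec_mulVec, transv_mulVec_apply, Matrix.mulVec_diagonal]
  by_cases hmi : m = i
  · subst hmi
    simp [hij.symm]
    field_simp
    ring
  · simp [hmi]

theorem transvection_mem_commutatorSet_of_field {i j : ι} (hij : i ≠ j) {a : F} (ha : a ≠ 0)
    (ha2 : a ^ 2 ≠ 1) (c : F) :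
    SpecialLinearGroup.transvection hij c ∈ commutatorSet (SpecialLinearGroup ι F) :=
  ⟨SpecialLinearGroup.diag2n hij a ha, SpecialLinearGroup.transvection hij (c / (a ^ 2 - 1)), by
    rw [commutator_diag2n_transvection, div_mul_cancel₀ c (sub_ne_zero_of_ne ha2)]⟩

/-- For n ≥ 3 (any field), or a field with an element a ≠ 0 with a² ≠ 1, every transvection is
a commutator. -/
theorem transvection_mem_commutatorSet {i j : ι} (hij : i ≠ j)
    (h : 3 ≤ Fintype.card ι ∨ ∃ a : F, a ≠ 0 ∧ a ^ 2 ≠ 1) (c : F) :
    SpecialLinearGroup.transvection hij c ∈ commutatorSet (SpecialLinearGroup ι F) := by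
  rcases h with h | ⟨a, ha, ha2⟩
  · obtain ⟨k, hk⟩ : ∃ k, k ∉ ({i, j} : Finset ι) := by
      by_contra hc
      push_neg at hc
      have h2 : Fintype.card ι ≤ 2 := by
        rw [← Finset.card_univ]
        exact (Finset.card_le_card fun x _ => hc x).trans Finset.card_le_two
      omega
    simp only [Finset.mem_insert, Finset.mem_singleton, not_or] at hk
    exact transvection_mem_commutatorSet_of_three (Ne.symm hk.1) hk.2 hij c
  · exact transvection_mem_commutatorSet_of_field hij ha ha2 c

/-- SL_n is perfect, except SL₂(2), SL₂(3). -/
theorem commutator_eq_top (h : 3 ≤ Fintype.card ι ∨ ∃ a : F, a ≠ 0 ∧ a ^ 2 ≠ 1) :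
    commutator (SpecialLinearGroup ι F) = ⊤ :=
  eq_top_of_transvection_mem _ fun i j hij c => by
    rw [commutator_eq_closure]
    exact Subgroup.subset_closure (transvection_mem_commutatorSet hij h c)

/-- The Iwasawa structure of PSL_n on projective space. -/
noncomputable def iwasawa :
    MulAction.IwasawaStructure (Matrix.ProjectiveSpecialLinearGroup ι F)
      (Projectivization F (ι → F)) where
  T := PSL.iwasawaT
  is_comm p := by
    have hSL : IsMulCommutative
        (SpecialLinearGroup.lineStab (F := F) (ι := ι) p.submodule) := by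
      rw [← Projectivization.mk_rep p, Projectivization.submodule_mk]
      exact SpecialLinearGroup.lineStab_isMulCommutative_of_span p.rep p.rep_nonzero
    exact Subgroup.map_isMulCommutative _ _
  is_conj g p := by
    obtain ⟨g', rfl⟩ := QuotientGroup.mk_surjective g
    rw [Matrix.ProjectiveSpecialLinearGroup.smul_proj_mk]
    change Subgroup.map _ _ = _
    rw [PSL.smul_submodule, Matrix.SpecialLinearGroup.lineStab_smul, PSL.iwasawaT_map_conj]
  is_generator := by
    have htop : (⨆ p : Projectivization F (ι → F),
        SpecialLinearGroup.lineStab p.submodule) = (⊤ : Subgroup (SpecialLinearGroup ι F)) :=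
      eq_top_of_transvection_mem _ fun i j hij c => by
        refine Subgroup.mem_iSup_of_mem
          (Projectivization.mk F (Pi.single i (1 : F)) (Pi.single_ne_zero_iff.2 one_ne_zero)) ?_
        rw [Projectivization.submodule_mk]
        exact SL2Gen.transvection_mem_lineStab hij c
    have step : iSup (PSL.iwasawaT (F := F) (ι := ι)) =
        Subgroup.map (QuotientGroup.mk' (Subgroup.center (SpecialLinearGroup ι F)))
          (⨆ p : Projectivization F (ι → F), SpecialLinearGroup.lineStab p.submodule) := by
      rw [Subgroup.map_iSup]
    rw [step, htop]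
    exact Subgroup.map_top_of_surjective _ (QuotientGroup.mk'_surjective _)

/-- PSL_n is simple, except PSL₂(2), PSL₂(3). -/
theorem isSimpleGroup_PSL [Nontrivial ι]
    (h : 3 ≤ Fintype.card ι ∨ ∃ a : F, a ≠ 0 ∧ a ^ 2 ≠ 1) :
    IsSimpleGroup (Matrix.ProjectiveSpecialLinearGroup ι F) := by
  refine iwasawa.isSimpleGroup ?_ inferInstance
  have : Group.IsPerfect (SpecialLinearGroup ι F) := ⟨commutator_eq_top h⟩
  have : Group.IsPerfect (Matrix.ProjectiveSpecialLinearGroup ι F) := inferInstance
  exact this.commutator_eq_top

/-- The commutator subgroup of GL_n is the kernel of det, except GL₂(2). -/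
theorem commutator_GL (h : Fintype.card ι = 2 → ∃ a : F, a ≠ 0 ∧ a ≠ 1) :
    commutator (GL ι F) = (Matrix.GeneralLinearGroup.det : GL ι F →* Fˣ).ker := by
  refine le_antisymm (Abelianization.commutator_subset_ker _) ?_
  have key : ((commutator (GL ι F)).comap
      (SpecialLinearGroup.toGL : SpecialLinearGroup ι F →* GL ι F)) = ⊤ := by
    refine eq_top_of_transvection_mem _ fun i j hij c => ?_
    rw [Subgroup.mem_comap]
    by_cases h3 : 3 ≤ Fintype.card ι
    · obtain ⟨x, y, hxy⟩ := transvection_mem_commutatorSet hij (Or.inl h3) c
      rw [← hxy, map_commutatorElement]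
      exact Subgroup.commutator_mem_commutator (Subgroup.mem_top _) (Subgroup.mem_top _)
    · have hle := Fintype.card_le_one_iff_subsingleton (α := ι)
      have hc2 : Fintype.card ι = 2 := by
        have : 1 < Fintype.card ι := Fintype.one_lt_card_iff.2 ⟨i, j, hij⟩
        omega
      obtain ⟨a, ha, ha1⟩ := h hc2
      let dv : ι → F := fun k => if k = i then a else 1
      have hdet : IsUnit (Matrix.diagonal dv).det := by
        simp [dv, Finset.prod_ite_eq', ha]
      let D : GL ι F := Matrix.GeneralLinearGroup.mk'' (Matrix.diagonal dv) hdet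
      have hcomm : ⁅D, SpecialLinearGroup.toGL (SpecialLinearGroup.transvection hij (c / (a - 1)))⁆ =
          SpecialLinearGroup.toGL (SpecialLinearGroup.transvection hij c) := by
        rw [commutatorElement_def, mul_inv_eq_iff_eq_mul, mul_inv_eq_iff_eq_mul]
        apply Units.ext
        change Matrix.diagonal dv * Matrix.transvection i j (c / (a - 1)) =
          Matrix.transvection i j c * Matrix.transvection i j (c / (a - 1)) * Matrix.diagonal dv
        apply Matrix.ext_of_mulVec_single
        intro l
        funext m
        simp only [← Matrix.mulVec_mulVec, transv_mulVec_apply, Matrix.mulVec_diagonal]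
        by_cases hmi : m = i
        · subst hmi
          have : a - 1 ≠ 0 := sub_ne_zero_of_ne ha1
          simp [dv, hij.symm]
          field_simp
          ring
        · simp [dv, hmi]
      rw [← hcomm]
      exact Subgroup.commutator_mem_commutator (Subgroup.mem_top _) (Subgroup.mem_top _)
  intro g hg
  have hdet : (g : Matrix ι ι F).det = 1 := by simpa using congrArg Units.val (MonoidHom.mem_ker.1 hg)
  let s : SpecialLinearGroup ι F := ⟨(g : Matrix ι ι F), hdet⟩
  have hm : s ∈ (commutator (GL ι F)).comap
      (SpecialLinearGroup.toGL : SpecialLinearGroup ι F →* GL ι F) := by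
    rw [key]; exact Subgroup.mem_top _
  rw [Subgroup.mem_comap] at hm
  convert hm
  exact Units.ext rfl

end CfsgLib.Lie.SLn
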