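import Mathlib

/-!
Orthogonal families, orthonormal bases over finite fields, normal form of alternating forms.
-/

set_option autoImplicit false
set_option linter.unusedSimpArgs false
set_option linter.unusedSectionVars false

namespace CfsgLib.Lie.OrthBasis

variable {F V : Type*} [Field F] [AddCommGroup V] [Module F V] [FiniteDimensional F V]
variable {σ : F →+* F} (B : V →ₛₗ[σ] V →ₗ[F] F)

theorem indep {ι : Type*} [Fintype ι] {e : ι → V} (ho : ∀ i j, i ≠ j → B (e i) (e j) = 0)
    (hd : ∀ i, B (e i) (e i) ≠ 0) : LinearIndependent F e := by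
  classical
  rw [Fintype.linearIndependent_iff]
  intro g hg i
  have h := congrArg (B (e i)) hg
  rw [map_sum, Finset.sum_eq_single i (fun j _ hj => by rw [map_smul, ho i j (Ne.symm hj), smul_zero])
    (fun h => absurd (Finset.mem_univ i) h), map_zero, map_smul, smul_eq_mul] at h
  exact (mul_eq_zero.1 h).resolve_right (hd i)

/-- Next vector of an orthogonal family. -/
theorem exists_next {m : ℕ} (hS : ∀ a b, σ (B a b) = B b a) (hB : B.SeparatingLeft)
    (hpol : ∀ W : Submodule F V, (∀ w ∈ W, B w w = 0) → ∀ a ∈ W, ∀ b ∈ W, B a b = 0)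
    (e : Fin m → V) (ho : ∀ i j, i ≠ j → B (e i) (e j) = 0) (hd : ∀ i, B (e i) (e i) ≠ 0)
    (hm : m < Module.finrank F V) :
    ∃ x, (∀ i, B (e i) x = 0) ∧ (∀ i, B x (e i) = 0) ∧ B x x ≠ 0 := by
  classical
  let L : V →ₗ[F] (Fin m → F) := LinearMap.pi fun i => B (e i)
  by_contra hc
  push_neg at hc
  have hL : ∀ w, w ∈ LinearMap.ker L ↔ ∀ i, B (e i) w = 0 := fun w => by
    rw [LinearMap.mem_ker, funext_iff]; rfl
  have hsym : ∀ w ∈ LinearMap.ker L, ∀ i, B w (e i) = 0 := fun w hw i => by
    rw [← hS, (hL w).1 hw i, map_zero]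
  have h0 : ∀ w ∈ LinearMap.ker L, B w w = 0 := fun w hw => hc w ((hL w).1 hw) (hsym w hw)
  have hz := hpol _ h0
  have hbot : LinearMap.ker L = ⊥ := by
    rw [Submodule.eq_bot_iff]
    intro w hw
    refine hB w fun v => ?_
    set c : Fin m → F := fun i => (B (e i) (e i))⁻¹ * B (e i) v
    have hr : v - ∑ i, c i • e i ∈ LinearMap.ker L := by
      rw [hL]
      intro j
      rw [map_sub, map_sum, Finset.sum_eq_single j
        (fun i _ hi => by rw [map_smul, ho j i (Ne.symm hi), smul_zero])
        (fun h => absurd (Finset.mem_univ j) h), map_smul, smul_eq_mul]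
      have := hd j
      simp only [c]
      field_simp
      ring
    have h1 := hz w hw _ hr
    rw [map_sub, map_sum, Finset.sum_eq_zero (fun i _ => by rw [map_smul, hsym w hw i, smul_zero]),
      sub_zero] at h1
    exact h1
  have := LinearMap.finrank_le_finrank_of_injective (LinearMap.ker_eq_bot.1 hbot)
  rw [Module.finrank_fin_fun] at this
  omega

theorem snoc_orth {m : ℕ} (hS : ∀ a b, σ (B a b) = B b a) {e : Fin m → V}
    (ho : ∀ i j, i ≠ j → B (e i) (e j) = 0) {x : V} (hx : ∀ i, B (e i) x = 0) :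
    ∀ i j, i ≠ j → B (Fin.snoc (α := fun _ => V) e x i) (Fin.snoc (α := fun _ => V) e x j) = 0 := by
  intro i j hij
  induction i using Fin.lastCases with
  | last =>
    induction j using Fin.lastCases with
    | last => exact absurd rfl hij
    | cast j => rw [Fin.snoc_last, Fin.snoc_castSucc, ← hS, hx, map_zero]
  | cast i =>
    induction j using Fin.lastCases with
    | last => rw [Fin.snoc_last, Fin.snoc_castSucc, hx]
    | cast j =>
      rw [Fin.snoc_castSucc, Fin.snoc_castSucc]
      exact ho i j fun h => hij (congrArg _ h)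

theorem value_smul (a : F) (x : V) : B (a • x) (a • x) = a * σ a * B x x := by
  simp only [LinearMap.map_smulₛₗ, LinearMap.smul_apply, smul_eq_mul, RingHom.id_apply]
  ring

theorem hpol_herm (hσ : ∃ a, σ a ≠ a) (hS : ∀ a b, σ (B a b) = B b a) (W : Submodule F V)
    (h0 : ∀ w ∈ W, B w w = 0) : ∀ a ∈ W, ∀ b ∈ W, B a b = 0 := by
  intro a ha b hb
  obtain ⟨c, hc⟩ := hσ
  have key : ∀ b ∈ W, B a b + B b a = 0 := fun b hb => by
    have h := h0 _ (W.add_mem ha hb)
    simp only [map_add, LinearMap.add_apply, h0 a ha, h0 b hb] at h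
    linear_combination h
  have h1 := key _ (W.smul_mem c hb)
  have h2 := key b hb
  rw [map_smul, LinearMap.map_smulₛₗ, LinearMap.smul_apply, smul_eq_mul, smul_eq_mul] at h1
  have h3 : (c - σ c) * B a b = 0 := by linear_combination h1 - σ c * h2
  exact (mul_eq_zero.1 h3).resolve_left (sub_ne_zero.2 (Ne.symm hc))

theorem hpol_symm (h2 : (2 : F) ≠ 0) (B : V →ₗ[F] V →ₗ[F] F) (hS : ∀ a b, B a b = B b a)
    (W : Submodule F V) (h0 : ∀ w ∈ W, B w w = 0) : ∀ a ∈ W, ∀ b ∈ W, B a b = 0 := by
  intro a ha b hb
  have h := h0 _ (W.add_mem ha hb)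
  simp only [map_add, LinearMap.add_apply, h0 a ha, h0 b hb, hS b a] at h
  have : (2 : F) * B a b = 0 := by linear_combination h
  exact (mul_eq_zero.1 this).resolve_left h2

/-- Norm surjectivity for an involution of a finite field. -/
theorem exists_norm {F : Type*} [Field F] [Finite F] (σ : F →+* F) (hσ : σ ≠ RingHom.id F)
    (hσ2 : ∀ a, σ (σ a) = a) (c : F) (hc0 : c ≠ 0) (hc : σ c = c) : ∃ a, a * σ a = c := by
  classical
  let s : Fˣ →* Fˣ := Units.map σ.toMonoidHom
  let N : Fˣ →* Fˣ := MonoidHom.id Fˣ * s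
  let T : Fˣ →* Fˣ := MonoidHom.id Fˣ / s
  have hs2 : ∀ u, s (s u) = u := fun u => Units.ext (hσ2 u)
  have hTN : T.range = N.ker := by
    refine le_antisymm ?_ fun u hu => ?_
    · rintro _ ⟨v, rfl⟩
      change v / s v * s (v / s v) = 1
      rw [map_div, hs2, div_mul_div_cancel, div_self']
    · have hu' : (u : F) * σ u = 1 := congrArg Units.val hu
      obtain ⟨z, hz⟩ : ∃ z : F, z + (u : F) * σ z ≠ 0 := by
        by_contra h
        push_neg at h
        have h1 := h 1
        rw [map_one, mul_one] at h1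
        exact hσ (RingHom.ext fun z => show σ z = z by linear_combination σ z * h1 - h z)
      refine ⟨Units.mk0 _ hz, ?_⟩
      change Units.mk0 _ hz / s (Units.mk0 _ hz) = u
      rw [div_eq_iff_eq_mul]
      refine Units.ext ?_
      change z + (u : F) * σ z = u * σ (z + u * σ z)
      rw [map_add, map_mul, hσ2]
      linear_combination (-z) * hu'
  have hle : N.range ≤ T.ker := by
    rintro _ ⟨v, rfl⟩
    change v * s v / s (v * s v) = 1
    rw [map_mul, hs2, mul_comm (s v) v, div_self']
  have heq : N.range = T.ker := by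
    refine Subgroup.eq_of_le_of_card_ge hle (Nat.le_of_eq ?_)
    have h1 := N.ker.card_mul_index
    have h2 := T.ker.card_mul_index
    rw [Subgroup.index_ker] at h1 h2
    rw [hTN] at h2
    exact Nat.eq_of_mul_eq_mul_right (Nat.card_pos (α := N.ker)) (by rw [h2, mul_comm, h1])
  obtain ⟨a, ha⟩ : Units.mk0 c hc0 ∈ N.range := by
    rw [heq]
    change Units.mk0 c hc0 / s (Units.mk0 c hc0) = 1
    rw [div_eq_one]
    exact Units.ext hc.symm
  exact ⟨a, congrArg Units.val ha⟩

theorem exists_orthonormal (hS : ∀ a b, σ (B a b) = B b a) (hB : B.SeparatingLeft)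
    (hpol : ∀ W : Submodule F V, (∀ w ∈ W, B w w = 0) → ∀ a ∈ W, ∀ b ∈ W, B a b = 0)
    (hnorm : ∀ c, c ≠ 0 → σ c = c → ∃ a, a * σ a = c) :
    ∀ m, m ≤ Module.finrank F V →
      ∃ e : Fin m → V, ∀ i j, B (e i) (e j) = if i = j then 1 else 0
  | 0, _ => ⟨Fin.elim0, fun i => i.elim0⟩
  | m + 1, hm => by
    classical
    obtain ⟨e, he⟩ := exists_orthonormal hS hB hpol hnorm m (by omega)
    have ho : ∀ i j, i ≠ j → B (e i) (e j) = 0 := fun i j h => by rw [he, if_neg h]
    obtain ⟨x, hx1, -, hx3⟩ := exists_next B hS hB hpol e ho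
      (fun i => by rw [he, if_pos rfl]; exact one_ne_zero) (by omega)
    obtain ⟨a, ha⟩ := hnorm (B x x)⁻¹ (inv_ne_zero hx3) (by rw [map_inv₀, hS])
    have hx : ∀ i, B (e i) (a • x) = 0 := fun i => by rw [map_smul, hx1, smul_zero]
    refine ⟨Fin.snoc e (a • x), fun i j => ?_⟩
    by_cases hij : i = j
    · subst hij
      rw [if_pos rfl]
      induction i using Fin.lastCases with
      | last => rw [Fin.snoc_last, value_smul, ha, inv_mul_cancel₀ hx3]
      | cast i => rw [Fin.snoc_castSucc, he, if_pos rfl]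
    · rw [if_neg hij]
      exact snoc_orth B hS ho hx i j hij

section Symm

variable (C : V →ₗ[F] V →ₗ[F] F)

theorem exists_ones [Finite F] (h2 : (2 : F) ≠ 0) (hS : ∀ a b, C a b = C b a)
    (hB : C.SeparatingLeft) : ∀ m, m < Module.finrank F V →
      ∃ e : Fin m → V, ∀ i j, C (e i) (e j) = if i = j then 1 else 0
  | 0, _ => ⟨Fin.elim0, fun i => i.elim0⟩
  | m + 1, hm => by
    classical
    have := Fintype.ofFinite F
    obtain ⟨e, he⟩ := exists_ones h2 hS hB m (by omega)
    have hS' : ∀ a b, (RingHom.id F) (C a b) = C b a := fun a b => hS a b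
    have hpol := hpol_symm h2 C hS
    have ho : ∀ i j, i ≠ j → C (e i) (e j) = 0 := fun i j h => by rw [he, if_neg h]
    have hd : ∀ i, C (e i) (e i) ≠ 0 := fun i => by rw [he, if_pos rfl]; exact one_ne_zero
    obtain ⟨x, hx1, -, hx3⟩ := exists_next C hS' hB hpol e ho hd (by omega)
    obtain ⟨y, hy1, -, hy3⟩ := exists_next C hS' hB hpol (Fin.snoc e x) (snoc_orth C hS' ho hx1)
      (fun i => by
        induction i using Fin.lastCases with
        | last => rwa [Fin.snoc_last]
        | cast i => rw [Fin.snoc_castSucc]; exact hd i)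
      (by omega)
    have hxy : C x y = 0 := by simpa using hy1 (Fin.last m)
    have hey : ∀ i, C (e i) y = 0 := fun i => by simpa using hy1 i.castSucc
    obtain ⟨s, t, hst⟩ : ∃ s t : F, C x x * s ^ 2 + C y y * t ^ 2 = 1 := by
      have hodd : Fintype.card F % 2 = 1 := by
        refine FiniteField.odd_card_of_char_ne_two fun h => h2 ?_
        have := ringChar.spec F 2
        rw [h] at this
        exact_mod_cast this.2 dvd_rfl
      obtain ⟨s, t, hst⟩ := FiniteField.exists_root_sum_quadratic
        (f := Polynomial.C (C x x) * Polynomial.X ^ 2)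
        (g := Polynomial.C (C y y) * Polynomial.X ^ 2 - Polynomial.C 1)
        (by rw [Polynomial.degree_C_mul_X_pow 2 hx3]; rfl)
        (by rw [Polynomial.degree_sub_C, Polynomial.degree_C_mul_X_pow 2 hy3]
            · rfl
            · rw [Polynomial.degree_C_mul_X_pow 2 hy3]; exact WithBot.coe_lt_coe.2 two_pos) hodd
      refine ⟨s, t, ?_⟩
      simp at hst
      linear_combination hst
    have hx : ∀ i, C (e i) (s • x + t • y) = 0 := fun i => by simp [hx1, hey]
    refine ⟨Fin.snoc e (s • x + t • y), fun i j => ?_⟩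
    by_cases hij : i = j
    · subst hij
      rw [if_pos rfl]
      induction i using Fin.lastCases with
      | last =>
        rw [Fin.snoc_last]
        simp [hxy, hS y x]
        linear_combination hst
      | cast i => rw [Fin.snoc_castSucc, he, if_pos rfl]
    · rw [if_neg hij]
      exact snoc_orth C hS' ho hx i j hij

theorem exists_basis_discr [Finite F] (h2 : (2 : F) ≠ 0) (hS : ∀ a b, C a b = C b a)
    (hB : C.SeparatingLeft) {n : ℕ} (hn : Module.finrank F V = n + 1) (α : F) (hα : ¬ IsSquare α) :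
    ∃ b : Module.Basis (Fin (n + 1)) F V, (∀ i j, i ≠ j → C (b i) (b j) = 0) ∧
      (∀ i, i ≠ Fin.last n → C (b i) (b i) = 1) ∧
      (C (b (Fin.last n)) (b (Fin.last n)) = 1 ∨ C (b (Fin.last n)) (b (Fin.last n)) = α) := by
  classical
  have := Fintype.ofFinite F
  obtain ⟨e, he⟩ := exists_ones C h2 hS hB n (by omega)
  have hS' : ∀ a b, (RingHom.id F) (C a b) = C b a := fun a b => hS a b
  have ho : ∀ i j, i ≠ j → C (e i) (e j) = 0 := fun i j h => by rw [he, if_neg h]
  have hd : ∀ i, C (e i) (e i) ≠ 0 := fun i => by rw [he, if_pos rfl]; exact one_ne_zero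
  obtain ⟨x, hx1, -, hx3⟩ := exists_next C hS' hB (hpol_symm h2 C hS) e ho hd (by omega)
  obtain ⟨a, ha0, hval⟩ : ∃ a : F, a ≠ 0 ∧ (a * a * C x x = 1 ∨ a * a * C x x = α) := by
    have hα0 : α ≠ 0 := fun h => hα (h ▸ IsSquare.zero)
    by_cases hsq : IsSquare (C x x)
    · obtain ⟨r, hr⟩ := hsq
      have hr0 : r ≠ 0 := fun h => hx3 (by rw [hr, h, mul_zero])
      exact ⟨r⁻¹, inv_ne_zero hr0, Or.inl (by rw [hr]; field_simp)⟩
    · have h1 : quadraticChar F (α / C x x) = 1 := by
        have ha := quadraticChar_neg_one_iff_not_isSquare.2 hα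
        have hb := quadraticChar_neg_one_iff_not_isSquare.2 hsq
        have hm := map_mul (quadraticChar F) (α / C x x) (C x x)
        rw [div_mul_cancel₀ _ hx3, ha, hb] at hm
        linarith
      obtain ⟨r, hr⟩ := (quadraticChar_one_iff_isSquare (div_ne_zero hα0 hx3)).1 h1
      refine ⟨r, fun h => div_ne_zero hα0 hx3 (by rw [hr, h, mul_zero]), Or.inr ?_⟩
      rw [← hr, div_mul_cancel₀ _ hx3]
  have hx : ∀ i, C (e i) (a • x) = 0 := fun i => by rw [map_smul, hx1, smul_zero]
  have horth := snoc_orth C hS' ho hx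
  have hv : C (a • x) (a • x) = a * a * C x x := value_smul C a x
  have hdiag : ∀ i, C (Fin.snoc (α := fun _ => V) e (a • x) i) (Fin.snoc (α := fun _ => V) e (a • x) i) ≠ 0 := by
    intro i
    induction i using Fin.lastCases with
    | last => rw [Fin.snoc_last, hv]; exact mul_ne_zero (mul_ne_zero ha0 ha0) hx3
    | cast i => rw [Fin.snoc_castSucc]; exact hd i
  refine ⟨basisOfLinearIndependentOfCardEqFinrank (indep C horth hdiag) (by rw [Fintype.card_fin, hn]),
    fun i j h => ?_, fun i hi => ?_, ?_⟩
  · simpa using horth i j h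
  · obtain ⟨j, rfl⟩ := Fin.eq_castSucc_or_eq_last i |>.resolve_right hi
    simp [he]
  · simpa [hv, mul_assoc] using hval

end Symm

section Alt

variable (A : V →ₗ[F] V →ₗ[F] F)

/-- A hyperbolic family. -/
def IsHyp {m : ℕ} (e f : Fin m → V) : Prop :=
  (∀ i j, A (e i) (f j) = if i = j then 1 else 0) ∧ (∀ i j, A (e i) (e j) = 0) ∧
    (∀ i j, A (f i) (f j) = 0)

theorem exists_symplectic (hA : ∀ v, A v v = 0) :
    ∃ (m k : ℕ) (b : Module.Basis ((Fin m ⊕ Fin m) ⊕ Fin k) F V),
      (∀ i j : Fin m, A (b (Sum.inl (Sum.inl i))) (b (Sum.inl (Sum.inr j))) = if i = j then 1 else 0) ∧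
      (∀ i j : Fin m, A (b (Sum.inl (Sum.inl i))) (b (Sum.inl (Sum.inl j))) = 0) ∧
      (∀ i j : Fin m, A (b (Sum.inl (Sum.inr i))) (b (Sum.inl (Sum.inr j))) = 0) ∧
      (∀ (j : Fin k) (v : V), A (b (Sum.inr j)) v = 0) := by
  classical
  have hS : ∀ a b, A b a = - A a b := fun a b => by
    have h := hA (a + b)
    simp only [map_add, LinearMap.add_apply, hA] at h
    linear_combination h
  -- largest family
  have hbound : ∀ (m : ℕ) (e f : Fin m → V), IsHyp A e f → LinearIndependent F f := by
    intro m e f ⟨h1, _, _⟩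
    rw [Fintype.linearIndependent_iff]
    intro g hg i
    have h := congrArg (A (e i)) hg
    simpa [map_sum, h1] using h
  let P : ℕ → Prop := fun m => ∃ e f : Fin m → V, IsHyp A e f
  have hP0 : P 0 := ⟨Fin.elim0, Fin.elim0, fun i => i.elim0, fun i => i.elim0, fun i => i.elim0⟩
  have hPb : ∀ m, P m → m ≤ Module.finrank F V := fun m ⟨e, f, h⟩ => by
    simpa using (hbound m e f h).fintype_card_le_finrank
  set m := Nat.findGreatest P (Module.finrank F V) with hm
  obtain ⟨e, f, h1, h2, h3⟩ : P m := Nat.findGreatest_spec (Nat.zero_le _) hP0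
  have h4 : ∀ i j, A (f i) (e j) = if i = j then -1 else 0 := fun i j => by
    rw [hS, h1]
    by_cases h : i = j
    · subst h; simp
    · simp [h, Ne.symm h]
  let W : Submodule F V := LinearMap.ker
    ((LinearMap.pi fun i => A (e i)).prod (LinearMap.pi fun i => A (f i)))
  have hW : ∀ w, w ∈ W ↔ (∀ i, A (e i) w = 0) ∧ ∀ i, A (f i) w = 0 := fun w => by
    rw [LinearMap.mem_ker, Prod.ext_iff, funext_iff, funext_iff]; rfl
  have hW0 : ∀ a ∈ W, ∀ b ∈ W, A a b = 0 := by
    intro a ha b hb
    by_contra hab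
    have hP : P (m + 1) := by
      refine ⟨Fin.snoc e a, Fin.snoc f ((A a b)⁻¹ • b), ?_, ?_, ?_⟩
      · intro i j
        induction i using Fin.lastCases with
        | last =>
          induction j using Fin.lastCases with
          | last => simp [hab]
          | cast j => simp [hS (f j) a, ((hW a).1 ha).2 j, (Fin.castSucc_lt_last j).ne']
        | cast i =>
          induction j using Fin.lastCases with
          | last => simp [((hW b).1 hb).1 i, (Fin.castSucc_lt_last i).ne]
          | cast j => simp [h1]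
      · intro i j
        induction i using Fin.lastCases with
        | last =>
          induction j using Fin.lastCases with
          | last => simp [hA]
          | cast j => simp [hS (e j) a, ((hW a).1 ha).1 j]
        | cast i =>
          induction j using Fin.lastCases with
          | last => simp [((hW a).1 ha).1 i]
          | cast j => simp [h2]
      · intro i j
        induction i using Fin.lastCases with
        | last =>
          induction j using Fin.lastCases with
          | last => simp [hA]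
          | cast j => simp [hS (f j) b, ((hW b).1 hb).2 j]
        | cast i =>
          induction j using Fin.lastCases with
          | last => simp [((hW b).1 hb).2 i]
          | cast j => simp [h3]
    have := Nat.le_findGreatest (hPb _ hP) hP
    omega
  let k := Module.finrank F W
  let bw := Module.finBasis F W
  let v : (Fin m ⊕ Fin m) ⊕ Fin k → V := Sum.elim (Sum.elim e f) (fun j => (bw j : V))
  have hwe : ∀ j i, A (e i) (bw j : V) = 0 := fun j i => ((hW _).1 (bw j).2).1 i
  have hwf : ∀ j i, A (f i) (bw j : V) = 0 := fun j i => ((hW _).1 (bw j).2).2 i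
  have hli : LinearIndependent F v := by
    rw [Fintype.linearIndependent_iff]
    intro g hg
    simp only [Fintype.sum_sum_type, v, Sum.elim_inl, Sum.elim_inr] at hg
    have he : ∀ i, g (.inl (.inl i)) = 0 := fun i => by
      have h := congrArg (A (f i)) hg
      simpa [map_sum, h3, h4, hwf] using h
    have hf : ∀ i, g (.inl (.inr i)) = 0 := fun i => by
      have h := congrArg (A (e i)) hg
      simpa [map_sum, h1, h2, hwe] using h
    intro i
    rcases i with (i | i) | i
    · exact he i
    · exact hf i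
    · simp only [he, hf, zero_smul, Finset.sum_const_zero, zero_add] at hg
      refine Fintype.linearIndependent_iff.1 bw.linearIndependent (fun j => g (.inr j)) ?_ i
      apply Subtype.ext
      simpa using hg
  have hdec : ∀ x : V, x - (∑ i, (-A (f i) x) • e i + ∑ i, A (e i) x • f i) ∈ W := by
    intro x
    rw [hW]
    exact ⟨fun j => by simp [map_sum, h1, h2], fun j => by simp [map_sum, h3, h4]⟩
  have hspan : ⊤ ≤ Submodule.span F (Set.range v) := by
    intro x _
    have hx : x = (∑ i, (-A (f i) x) • e i + ∑ i, A (e i) x • f i) +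
        ∑ j, bw.repr ⟨_, hdec x⟩ j • (bw j : V) := by
      have := congrArg Subtype.val (bw.sum_repr ⟨_, hdec x⟩)
      simp only [Submodule.coe_sum, Submodule.coe_smul] at this
      rw [this]; abel
    rw [hx]
    refine add_mem (add_mem ?_ ?_) ?_ <;> refine sum_mem fun i _ => Submodule.smul_mem _ _ ?_
    · exact Submodule.subset_span ⟨.inl (.inl i), rfl⟩
    · exact Submodule.subset_span ⟨.inl (.inr i), rfl⟩
    · exact Submodule.subset_span ⟨.inr i, rfl⟩
  refine ⟨m, k, Module.Basis.mk hli hspan, ?_, ?_, ?_, ?_⟩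
  · intro i j; simp [v, h1]
  · intro i j; simp [v, h2]
  · intro i j; simp [v, h3]
  · intro j x
    have e1 : ∀ i, A (bw j : V) (e i) = 0 := fun i => by rw [hS, hwe, neg_zero]
    have e2 : ∀ i, A (bw j : V) (f i) = 0 := fun i => by rw [hS, hwf, neg_zero]
    have e3 := hW0 _ (bw j).2 _ (hdec x)
    simp [map_sum, e1, e2] at e3
    simpa [v] using e3

end Alt

end CfsgLib.Lie.OrthBasis
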