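import Cfsg.Agent.Lie.OrthForms

/-!
The standard form in odd dimension as a quadratic form.
-/

set_option autoImplicit false
set_option linter.unusedSimpArgs false

namespace CfsgLib.Lie.OrthStd

open Matrix
open CfsgLib.Lie.OrthOrder (polar_eq plusQ plusQ_apply hyp hyp_apply hyp_nondeg)

variable {F : Type*} [Field F]

/-- the coordinates of the odd dimensional space -/
def oddEquiv (m : ℕ) (F : Type*) [Field F] :
    (Unit ⊕ (Fin m ⊕ Fin m) → F) ≃ₗ[F] (Fin m ⊕ Fin m → F) × F where
  toFun v := (v ∘ Sum.inr, v (.inl ()))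
  invFun z := Sum.elim (fun _ => z.2) z.1
  left_inv v := funext fun i => by rcases i with i | i <;> rfl
  right_inv z := rfl
  map_add' _ _ := rfl
  map_smul' _ _ := rfl

/-- the odd dimensional form -/
def oddQ (m : ℕ) (F : Type*) [Field F] : QuadraticForm F (Unit ⊕ (Fin m ⊕ Fin m) → F) :=
  (hyp m (QuadraticMap.sq : QuadraticForm F F)).comp (oddEquiv m F).toLinearMap

theorem oddQ_apply (m : ℕ) (v : Unit ⊕ (Fin m ⊕ Fin m) → F) : oddQ m F v = Cfsg.quadFormOdd m F v := by
  simp [oddQ, hyp_apply, oddEquiv, Cfsg.quadFormOdd, Cfsg.quadFormPlus, pow_two, add_comm]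

theorem odd_nondeg [Fintype F] (h2 : (2 : F) ≠ 0) (m : ℕ) : (QuadraticMap.polarBilin (oddQ m F)).Nondegenerate := by
  have hsq : (QuadraticMap.polarBilin (QuadraticMap.sq : QuadraticForm F F)).Nondegenerate := by
    have hL : ∀ x : F, (∀ y, QuadraticMap.polar ⇑(QuadraticMap.sq : QuadraticForm F F) x y = 0) → x = 0 := by
      intro x hx
      have := hx 1
      simp only [QuadraticMap.polar, QuadraticMap.sq_apply] at this
      exact (mul_eq_zero.1 (show 2 * x = 0 by linear_combination this)).resolve_left h2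
    exact ⟨hL, fun x hx => hL x fun y => (QuadraticMap.polar_comm (f := ⇑(QuadraticMap.sq : QuadraticForm F F)) x y).trans (hx y)⟩
  have h := hyp_nondeg m (QuadraticMap.sq : QuadraticForm F F) hsq
  have hL : ∀ z, (∀ w, QuadraticMap.polar ⇑(oddQ m F) z w = 0) → z = 0 := by
    intro z hz
    refine (oddEquiv m F).injective ?_
    rw [map_zero]
    refine h.1 _ fun y => ?_
    have h1 := hz ((oddEquiv m F).symm y)
    simp only [polar_eq, oddQ, QuadraticMap.comp_apply, map_add, LinearEquiv.coe_coe,
      LinearEquiv.apply_symm_apply] at h1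
    rw [QuadraticMap.polarBilin_apply_apply, polar_eq]
    exact h1
  exact ⟨hL, fun z hz => hL z fun w => (QuadraticMap.polar_comm (f := ⇑(oddQ m F)) z w).trans (hz w)⟩

end CfsgLib.Lie.OrthStd
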