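import Cfsg.Agent.Lie.OrthOrder

/-!
Orders of the three orthogonal series.
-/

set_option autoImplicit false
set_option linter.unusedSimpArgs false
set_option linter.unusedSectionVars false

namespace CfsgLib.Lie.OrthOrder

open Matrix

variable {F : Type*} [Field F] [Fintype F]

theorem two_ne_zero_of_odd {q : ℕ} (hF : Fintype.card F = q) (hodd : Odd q) : (2 : F) ≠ 0 :=
  Ring.two_ne_zero fun h => by
    have := FiniteField.even_card_iff_char_two.1 h
    rw [hF] at this
    exact absurd (Nat.odd_iff.1 hodd) (by omega)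

/-- zero form on the trivial space -/
def zeroQ (F : Type*) [Field F] : QuadraticForm F (Fin 0 → F) := 0

theorem card_plus {q : ℕ} (hF : Fintype.card F = q) : ∀ m : ℕ, 1 ≤ m →
    Nat.card (Cfsg.isometryGroup F (Cfsg.quadFormPlus m F)) =
      2 * q ^ (m * (m - 1)) * (q ^ m - 1) * ∏ i ∈ Finset.range (m - 1), (q ^ (2 * (i + 1)) - 1) := by
  classical
  have hq : 1 < q := hF ▸ Fintype.one_lt_card
  have hiso : ∀ m, Nat.card (Cfsg.isometryGroup F (Cfsg.quadFormPlus m F)) =
      Nat.card (Iso (hyp m (zeroQ F))) := fun m =>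
    card_isometryGroup _ _
      { toFun := fun v => (v, 0)
        invFun := Prod.fst
        left_inv := fun v => rfl
        right_inv := fun z => Prod.ext rfl (Subsingleton.elim _ _)
        map_add' := fun _ _ => Prod.ext rfl (Subsingleton.elim _ _)
        map_smul' := fun _ _ => Prod.ext rfl (Subsingleton.elim _ _) }
      (fun v => by simp [hyp_apply, zeroQ])
  have hR : (QuadraticMap.polarBilin (zeroQ F)).Nondegenerate :=
    ⟨fun x _ => Subsingleton.elim _ _, fun x _ => Subsingleton.elim _ _⟩
  have hstep : ∀ m, Nat.card (Iso (hyp (m + 1) (zeroQ F))) =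
      ((q ^ (m + 1) - 1) * (q ^ m + 1)) * q ^ (2 * m) * Nat.card (Iso (hyp m (zeroQ F))) := by
    intro m
    rw [card_hyp_succ (zeroQ F) hR m, hF, Nat.card_eq_one_iff_unique.2
      ⟨(inferInstance : Subsingleton (Fin 0 → F)), ⟨0⟩⟩, mul_one]
    congr 2
    have h := QuadCount.card_zeros_plus hF (m + 1)
    rw [← Nat.card_congr ((Equiv.prodUnique _ (Fin 0 → F)).subtypeEquiv
      (p := fun z => Cfsg.quadFormPlus (m + 1) F z.1 + zeroQ F z.2 = 0) (fun z => by simp [zeroQ]))] at h
    generalize Nat.card _ = Z at h ⊢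
    have h1 : 1 ≤ q ^ (m + 1) := Nat.one_le_pow _ _ (by omega)
    have hZ : (Z : ℤ) = ((q : ℤ) ^ (m + 1) - 1) * ((q : ℤ) ^ m + 1) + 1 := by
      have h' := congrArg (Nat.cast : ℕ → ℤ) h
      push_cast at h'
      refine mul_left_cancel₀ (show (q : ℤ) ≠ 0 by omega) ?_
      linear_combination h'
    have : Z = (q ^ (m + 1) - 1) * (q ^ m + 1) + 1 := by
      apply Nat.cast_injective (R := ℤ)
      rw [hZ, Nat.cast_add, Nat.cast_mul, Nat.cast_sub h1]
      push_cast; ring
    omega
  have h0 : Nat.card (Iso (hyp 0 (zeroQ F))) = 1 := by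
    rw [card_hyp_zero]
    exact Nat.card_eq_one_iff_unique.2
      ⟨⟨fun a b => Subtype.ext (LinearEquiv.ext fun _ => Subsingleton.elim _ _)⟩,
        ⟨⟨LinearEquiv.refl _ _, fun _ => rfl⟩⟩⟩
  intro m hm
  induction m, hm using Nat.le_induction with
  | base => rw [hiso, hstep, h0]; simp; ring
  | succ m hm ih =>
    rw [hiso, hstep, ← hiso, ih]
    obtain ⟨k, rfl⟩ : ∃ k, m = k + 1 := ⟨m - 1, by omega⟩
    simp only [Nat.add_sub_cancel]
    rw [Finset.prod_range_succ, show 2 * (k + 1) = (k + 1) * 2 by ring, pow_mul q (k + 1) 2]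
    have : (q ^ (k + 1)) ^ 2 - 1 = (q ^ (k + 1) + 1) * (q ^ (k + 1) - 1) := by
      simpa using Nat.sq_sub_sq (q ^ (k + 1)) 1
    rw [this, show (k + 1 + 1) * (k + 1) = (k + 1) * k + (k + 1) * 2 by ring, pow_add q ((k + 1) * k) ((k + 1) * 2),
      pow_mul q (k + 1) 2]
    ring

theorem card_odd {q : ℕ} (hF : Fintype.card F = q) (hodd : Odd q) : ∀ m : ℕ,
    Nat.card (Cfsg.isometryGroup F (Cfsg.quadFormOdd m F)) =
      2 * q ^ (m ^ 2) * ∏ i ∈ Finset.range m, (q ^ (2 * (i + 1)) - 1) := by
  classical
  have h2 := two_ne_zero_of_odd hF hodd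
  let R : QuadraticForm F F := QuadraticMap.sq
  have hiso : ∀ m, Nat.card (Cfsg.isometryGroup F (Cfsg.quadFormOdd m F)) = Nat.card (Iso (hyp m R)) := fun m =>
    card_isometryGroup _ _
      { toFun := fun v => (v ∘ Sum.inr, v (.inl ()))
        invFun := fun z => Sum.elim (fun _ => z.2) z.1
        left_inv := fun v => by funext i; rcases i with i | i <;> rfl
        right_inv := fun z => rfl
        map_add' := fun _ _ => rfl
        map_smul' := fun _ _ => rfl }
      (fun v => by
        rw [hyp_apply]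
        change _ = Cfsg.quadFormPlus m F (v ∘ Sum.inr) + R (v (.inl ()))
        simp [R, Cfsg.quadFormOdd, Cfsg.quadFormPlus, pow_two, add_comm])
  have hL : ∀ x : F, (∀ y, QuadraticMap.polar ⇑R x y = 0) → x = 0 := fun x hx => by
    have h := hx 1
    simp [R, QuadraticMap.polar] at h
    have : (2 : F) * x = 0 := by linear_combination h
    exact (mul_eq_zero.1 this).resolve_left h2
  have hR : (QuadraticMap.polarBilin R).Nondegenerate :=
    ⟨hL, fun x hx => hL x fun y => (QuadraticMap.polar_comm (f := ⇑R) x y).trans (hx y)⟩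
  have h0 : Nat.card (Iso R) = 2 := by
    rw [Nat.card_eq_two_iff]
    refine ⟨⟨LinearEquiv.refl _ _, fun _ => rfl⟩, ⟨LinearEquiv.neg F, fun v => by simp [R]⟩, fun h => ?_, ?_⟩
    · have h' := congrArg (fun g : Iso R => g.1 1) h
      simp at h'
      exact h2 (by linear_combination h')
    · ext g
      simp only [Set.mem_insert_iff, Set.mem_singleton_iff, Set.mem_univ, iff_true]
      have h := g.2 1
      simp only [R, QuadraticMap.sq_apply, one_mul] at h
      have hg : ∀ v, g.1 v = v * g.1 1 := fun v => by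
        conv_lhs => rw [← mul_one v, ← smul_eq_mul, map_smul, smul_eq_mul]
      rcases mul_self_eq_one_iff.1 h with h | h
      · exact Or.inl (Subtype.ext (LinearEquiv.ext fun v => by rw [hg, h]; simp))
      · exact Or.inr (Subtype.ext (LinearEquiv.ext fun v => by rw [hg, h]; simp))
  intro m
  induction m with
  | zero => rw [hiso, card_hyp_zero, h0]; simp
  | succ m ih =>
    rw [hiso, card_hyp_succ R hR m, ← hiso, ih, hF, Finset.prod_range_succ]
    have hZ : Nat.card {z : (Fin (m + 1) ⊕ Fin (m + 1) → F) × F //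
        Cfsg.quadFormPlus (m + 1) F z.1 + R z.2 = 0} = q ^ (2 * (m + 1)) := by
      rw [← QuadCount.card_zeros_odd hF (m + 1)]
      exact Nat.card_congr (Equiv.subtypeEquiv
        { toFun := fun z => Sum.elim (fun _ => z.2) z.1
          invFun := fun v => (v ∘ Sum.inr, v (.inl ()))
          left_inv := fun z => rfl
          right_inv := fun v => by funext i; rcases i with i | i <;> rfl }
        (fun z => by
          change _ ↔ Cfsg.quadFormOdd (m + 1) F (Sum.elim (fun _ => z.2) z.1) = 0
          simp [R, Cfsg.quadFormOdd, Cfsg.quadFormPlus, pow_two, add_comm]))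
    rw [hZ, Nat.card_eq_fintype_card, hF, ← pow_succ, show (m + 1) ^ 2 = m ^ 2 + (2 * m + 1) by ring,
      pow_add q (m ^ 2)]
    ring

/-- binary form -/
def binQ (a b : F) : QuadraticForm F (F × F) :=
  QuadraticMap.linMulLin (LinearMap.fst F F F) (LinearMap.fst F F F) +
    a • QuadraticMap.linMulLin (LinearMap.fst F F F) (LinearMap.snd F F F) +
    b • QuadraticMap.linMulLin (LinearMap.snd F F F) (LinearMap.snd F F F)

theorem binQ_apply (a b : F) (z : F × F) :
    binQ a b z = z.1 ^ 2 + a * z.1 * z.2 + b * z.2 ^ 2 := by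
  simp [binQ]; ring

variable {a b : F} (hab : ∀ z₁ z₂ : F, z₁ ^ 2 + a * z₁ * z₂ + b * z₂ ^ 2 = 0 → z₁ = 0 ∧ z₂ = 0)
include hab

theorem bin_a_ne (h2 : (2 : F) = 0) : a ≠ 0 := by
  intro ha
  have hc : ringChar F = 2 := by
    by_contra hc; exact Ring.two_ne_zero hc h2
  obtain ⟨r, hr⟩ := FiniteField.isSquare_of_char_two hc b
  exact one_ne_zero (hab r 1 (by rw [ha, hr]; linear_combination (r * r) * h2)).2

theorem bin_nondeg : (QuadraticMap.polarBilin (binQ a b)).Nondegenerate := by
  have hL : ∀ z : F × F, (∀ w, QuadraticMap.polar ⇑(binQ a b) z w = 0) → z = 0 := by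
    intro z hz
    have e1 := hz (1, 0)
    have e2 := hz (0, 1)
    simp only [polar_eq, binQ_apply, Prod.fst_add, Prod.snd_add] at e1 e2
    have f1 : 2 * z.1 + a * z.2 = 0 := by linear_combination e1
    have f2 : a * z.1 + 2 * b * z.2 = 0 := by linear_combination e2
    by_cases h2 : (2 : F) = 0
    · have ha := bin_a_ne hab h2
      refine Prod.ext ((mul_eq_zero.1 (show a * z.1 = 0 by linear_combination f2 - b * z.2 * h2)).resolve_left ha)
        ((mul_eq_zero.1 (show a * z.2 = 0 by linear_combination f1 - z.1 * h2)).resolve_left ha)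
    · have h := hab z.1 z.2 (mul_left_cancel₀ h2 (by rw [mul_zero]; linear_combination z.1 * f1 + z.2 * f2))
      exact Prod.ext h.1 h.2
  exact ⟨hL, fun z hz => hL z fun w => (QuadraticMap.polar_comm (f := ⇑(binQ a b)) z w).trans (hz w)⟩

theorem card_bin {q : ℕ} (hF : Fintype.card F = q) : Nat.card (Iso (binQ a b)) = 2 * (q + 1) := by
  classical
  let M : F × F → (F × F →ₗ[F] F × F) := fun z =>
    { toFun := fun w => (z.1 * w.1 - b * (z.2 * w.2), z.1 * w.2 + z.2 * w.1 + a * (z.2 * w.2))
      map_add' := fun x y => by ext <;> simp <;> ring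
      map_smul' := fun c x => by ext <;> simp <;> ring }
  have hMQ : ∀ z w, binQ a b (M z w) = binQ a b z * binQ a b w := fun z w => by
    simp only [binQ_apply, M, LinearMap.coe_mk, AddHom.coe_mk]; ring
  have hM1 : ∀ z, M z (1, 0) = z := fun z => by simp [M]
  have h0 : ∀ w, binQ a b w = 0 → w = 0 := fun w hw => by
    rw [binQ_apply] at hw; exact Prod.ext (hab _ _ hw).1 (hab _ _ hw).2
  have hMinj : ∀ z, binQ a b z ≠ 0 → Function.Injective (M z) := fun z hz => by
    rw [injective_iff_map_eq_zero]
    intro w hw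
    refine h0 w ((mul_eq_zero.1 ((hMQ z w).symm.trans (by rw [hw, map_zero]))).resolve_left hz)
  have hMbij : ∀ z, binQ a b z ≠ 0 → Function.Bijective (M z) := fun z hz =>
    ⟨hMinj z hz, (LinearMap.injective_iff_surjective).1 (hMinj z hz)⟩
  have hsurj : ∀ c : F, ∃ z, binQ a b z = c := by
    intro c
    by_cases h2 : (2 : F) = 0
    · have hc : ringChar F = 2 := by
        by_contra hc; exact Ring.two_ne_zero hc h2
      obtain ⟨r, hr⟩ := FiniteField.isSquare_of_char_two hc c
      exact ⟨(r, 0), by rw [binQ_apply, hr]; ring⟩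
    · have h4 : (4 : F) ≠ 0 := by rw [show (4 : F) = 2 * 2 by norm_num]; exact mul_ne_zero h2 h2
      set D := 4 * b - a ^ 2 with hD
      have hD0 : D ≠ 0 := fun h =>
        h2 ((neg_eq_zero).1 (show -(2 : F) = 0 from (hab a (-2) (by linear_combination h)).2))
      obtain ⟨x, y, hxy⟩ := FiniteField.exists_root_sum_quadratic
        (f := Polynomial.X ^ 2 - Polynomial.C (4 * c)) (g := Polynomial.C D * Polynomial.X ^ 2)
        (Polynomial.degree_X_pow_sub_C two_pos _) (by rw [Polynomial.degree_C_mul_X_pow 2 hD0]; rfl)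
        (by rw [hF]; rcases Nat.even_or_odd q with h | h
            · exfalso
              apply h2
              have hc : ringChar F = 2 := by
                rw [FiniteField.even_card_iff_char_two, hF]; exact Nat.even_iff.1 h
              have : CharP F 2 := ringChar.of_eq hc
              exact CharTwo.two_eq_zero
            · exact Nat.odd_iff.1 h)
      simp at hxy
      refine ⟨((x - a * y) / 2, y), ?_⟩
      rw [binQ_apply]
      field_simp
      linear_combination hxy
  -- norm one
  let N1 := {z : F × F // binQ a b z = 1}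
  have hq : 1 < q := hF ▸ Fintype.one_lt_card
  have hN1 : Nat.card N1 = q + 1 := by
    choose t ht using hsurj
    have hfib : ∀ c : {c : F // c ≠ 0}, Nat.card {z : F × F // binQ a b z = c.1} = Nat.card N1 := by
      intro c
      refine (Nat.card_congr ((Equiv.ofBijective _ (hMbij (t c.1) (by rw [ht]; exact c.2))).subtypeEquiv
        (p := fun w => binQ a b w = 1) (fun w => ?_))).symm
      change _ ↔ binQ a b (M (t c.1) w) = c.1
      rw [hMQ, ht]
      exact ⟨fun h => by rw [h, mul_one], fun h => by simpa [c.2] using h⟩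
    have e : {z : F × F // z ≠ 0} ≃ Σ c : {c : F // c ≠ 0}, {z : F × F // binQ a b z = c.1} :=
      { toFun := fun z => ⟨⟨binQ a b z.1, fun h => z.2 (h0 _ h)⟩, z.1, rfl⟩
        invFun := fun s => ⟨s.2.1, fun h => s.1.2 (by rw [← s.2.2, h, map_zero])⟩
        left_inv := fun z => rfl
        right_inv := fun s => Sigma.subtype_ext (Subtype.ext s.2.2) rfl }
    have h := Nat.card_congr e
    rw [Nat.card_sigma, Finset.sum_congr rfl (fun c _ => hfib c), Finset.sum_const, smul_eq_mul,
      Finset.card_univ, Nat.card_eq_fintype_card, Fintype.card_subtype_compl, Fintype.card_subtype_compl,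
      Fintype.card_subtype_eq, Fintype.card_prod, hF, Fintype.card_subtype_eq] at h
    refine Nat.eq_of_mul_eq_mul_left (show 0 < q - 1 by omega) (h.symm.trans ?_)
    rw [← pow_two]
    simpa [mul_comm] using Nat.sq_sub_sq q 1
  -- stabiliser
  let S := {g : Iso (binQ a b) // g.1 (1, 0) = (1, 0)}
  have hS : Nat.card S = 2 := by
    have hval : ∀ g : S, g.1.1 (0, 1) = (0, 1) ∨ g.1.1 (0, 1) = (a, -1) := by
      intro g
      have e0 := g.1.2 (0, 1)
      have e1 := g.1.2 ((1, 0) + (0, 1))
      rw [map_add, g.2] at e1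
      simp only [binQ_apply, Prod.fst_add, Prod.snd_add] at e0 e1
      set x := (g.1.1 (0, 1)).1
      set y := (g.1.1 (0, 1)).2
      have f1 : 2 * x + a * y = a := by linear_combination e1 - e0
      have f0 : x ^ 2 + a * x * y + b * y ^ 2 = b := by linear_combination e0
      have hy : (y - 1) * (y + 1) = 0 ∨ (2 : F) = 0 := by
        by_cases h2 : (2 : F) = 0
        · exact Or.inr h2
        · left
          refine (mul_eq_zero.1 (show (4 * b - a ^ 2) * ((y - 1) * (y + 1)) = 0 by
            linear_combination 4 * f0 - (2 * x + a * y + a) * f1)).resolve_left fun h => ?_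
          exact h2 ((neg_eq_zero).1 (show -(2 : F) = 0 from (hab a (-2) (by linear_combination h)).2))
      rcases hy with hy | h2
      · by_cases h2 : (2 : F) = 0
        · have hy1 : y = 1 := mul_left_cancel₀ (bin_a_ne hab h2) (by linear_combination f1 - x * h2)
          rw [hy1] at f0
          rcases mul_eq_zero.1 (show x * (x + a) = 0 by linear_combination f0) with hx | hx
          · exact Or.inl (Prod.ext hx hy1)
          · refine Or.inr (Prod.ext ?_ ?_)
            · linear_combination hx - a * h2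
            · change y = -1; linear_combination hy1 + h2
        · rcases mul_eq_zero.1 hy with h | h
          · exact Or.inl (Prod.ext (mul_left_cancel₀ h2 (show 2 * x = 2 * 0 by linear_combination f1 - a * h))
              (sub_eq_zero.1 h))
          · exact Or.inr (Prod.ext (mul_left_cancel₀ h2 (show 2 * x = 2 * a by linear_combination f1 - a * h))
              (eq_neg_of_add_eq_zero_left h))
      · have hy1 : y = 1 := mul_left_cancel₀ (bin_a_ne hab h2) (by linear_combination f1 - x * h2)
        rw [hy1] at f0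
        rcases mul_eq_zero.1 (show x * (x + a) = 0 by linear_combination f0) with hx | hx
        · exact Or.inl (Prod.ext hx hy1)
        · refine Or.inr (Prod.ext ?_ ?_)
          · linear_combination hx - a * h2
          · change y = -1; linear_combination hy1 + h2
    let r : (F × F) ≃ₗ[F] (F × F) :=
      { toFun := fun w => (w.1 + a * w.2, -w.2)
        invFun := fun w => (w.1 + a * w.2, -w.2)
        left_inv := fun w => by simp
        right_inv := fun w => by simp
        map_add' := fun x y => by ext <;> simp <;> ring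
        map_smul' := fun c x => by ext <;> simp <;> ring }
    rw [Nat.card_eq_two_iff]
    refine ⟨⟨⟨LinearEquiv.refl _ _, fun _ => rfl⟩, rfl⟩, ⟨⟨r, fun v => ?_⟩, ?_⟩, fun h => ?_, ?_⟩
    · simp only [binQ_apply, r, LinearEquiv.coe_mk, LinearMap.coe_mk, AddHom.coe_mk]; ring
    · simp [r]
    · have h' := congrArg (fun g : S => g.1.1 (0, 1)) h
      simp [r] at h'
      exact bin_a_ne hab (by linear_combination h'.2) h'.1.symm
    · ext g
      simp only [Set.mem_insert_iff, Set.mem_singleton_iff, Set.mem_univ, iff_true]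
      have hg : ∀ w : F × F, g.1.1 w = w.1 • ((1, 0) : F × F) + w.2 • g.1.1 (0, 1) := fun w => by
        conv_lhs => rw [show w = w.1 • ((1, 0) : F × F) + w.2 • ((0, 1) : F × F) by ext <;> simp]
        rw [map_add, map_smul, map_smul, g.2]
      rcases hval g with h | h
      · exact Or.inl (Subtype.ext (Subtype.ext (LinearEquiv.ext fun w => by rw [hg, h]; ext <;> simp)))
      · exact Or.inr (Subtype.ext (Subtype.ext (LinearEquiv.ext fun w => by
          rw [hg, h]; ext <;> simp [r, mul_comm])))
  -- orbit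
  let μ : N1 → Iso (binQ a b) := fun z => ⟨LinearEquiv.ofBijective (M z.1) (hMbij z.1 (by rw [z.2]; exact one_ne_zero)),
    fun w => by rw [LinearEquiv.ofBijective_apply, hMQ, z.2, one_mul]⟩
  have hμ : ∀ z, (μ z).1 (1, 0) = z.1 := fun z => hM1 _
  have e : Iso (binQ a b) ≃ N1 × S :=
    let pr : Iso (binQ a b) → N1 := fun g => ⟨g.1 (1, 0), by rw [g.2, binQ_apply]; ring⟩
    { toFun := fun g => (pr g, ⟨⟨g.1.trans (μ (pr g)).1.symm, fun v => by
          rw [LinearEquiv.trans_apply]
          conv_lhs => rw [← (μ (pr g)).2, LinearEquiv.apply_symm_apply, g.2]⟩, by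
          change (μ (pr g)).1.symm (g.1 (1, 0)) = (1, 0)
          rw [LinearEquiv.symm_apply_eq]; exact (hμ (pr g)).symm⟩)
      invFun := fun y => ⟨y.2.1.1.trans (μ y.1).1, fun v => by
        rw [LinearEquiv.trans_apply, (μ y.1).2, y.2.1.2]⟩
      left_inv := fun g => Subtype.ext (LinearEquiv.ext fun v => by simp)
      right_inv := fun y => by
        obtain ⟨z, s⟩ := y
        have hp : pr ⟨s.1.1.trans (μ z).1, fun v => by
            rw [LinearEquiv.trans_apply, (μ z).2, s.1.2]⟩ = z := Subtype.ext (by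
          change (μ z).1 (s.1.1 (1, 0)) = z.1
          rw [s.2, hμ])
        refine Prod.ext hp (Subtype.ext (Subtype.ext (LinearEquiv.ext fun v => ?_)))
        change (μ (pr _)).1.symm ((μ z).1 (s.1.1 v)) = s.1.1 v
        rw [hp, LinearEquiv.symm_apply_apply] }
  rw [Nat.card_congr e, Nat.card_prod, hS, hN1, mul_comm]

theorem card_minus {q : ℕ} (hF : Fintype.card F = q) : ∀ k : ℕ,
    Nat.card (Cfsg.isometryGroup F (Cfsg.quadFormMinus k F a b)) =
      2 * q ^ ((k + 1) * k) * (q ^ (k + 1) + 1) * ∏ i ∈ Finset.range k, (q ^ (2 * (i + 1)) - 1) := by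
  classical
  have hq : 1 < q := hF ▸ Fintype.one_lt_card
  have hiso : ∀ k, Nat.card (Cfsg.isometryGroup F (Cfsg.quadFormMinus k F a b)) =
      Nat.card (Iso (hyp k (binQ a b))) := fun k =>
    card_isometryGroup _ _
      { toFun := fun v => (v ∘ Sum.inl, (v (.inr 0), v (.inr 1)))
        invFun := fun z => Sum.elim z.1 ![z.2.1, z.2.2]
        left_inv := fun v => by funext i; rcases i with i | i <;> [rfl; fin_cases i <;> rfl]
        right_inv := fun z => rfl
        map_add' := fun _ _ => rfl
        map_smul' := fun _ _ => rfl }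
      (fun v => by
        rw [hyp_apply, binQ_apply]
        rfl)
  intro k
  induction k with
  | zero => rw [hiso, card_hyp_zero, card_bin hab hF]; simp
  | succ k ih =>
    rw [hiso, card_hyp_succ _ (bin_nondeg hab) k, ← hiso, ih, hF, Finset.prod_range_succ]
    have h := QuadCount.count (fun z : F × F => binQ a b z) 0 (k + 1)
    have hN : Nat.card {z : F × F // binQ a b z = 0} = 1 :=
      Nat.card_eq_one_iff_unique.2 ⟨⟨fun x y => Subtype.ext (by
        have hx := x.2; have hy := y.2
        rw [binQ_apply] at hx hy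
        exact Prod.ext ((hab _ _ hx).1.trans (hab _ _ hy).1.symm) ((hab _ _ hx).2.trans (hab _ _ hy).2.symm))⟩,
        ⟨⟨0, map_zero _⟩⟩⟩
    rw [hN, mul_one, Nat.card_prod, Nat.card_eq_fintype_card (α := F), hF] at h
    rw [Nat.card_prod (α := F) (β := F), Nat.card_eq_fintype_card (α := F), hF]
    generalize Nat.card {z : (Fin (k + 1) ⊕ Fin (k + 1) → F) × F × F //
      Cfsg.quadFormPlus (k + 1) F z.1 + binQ a b z.2 = 0} = Z at h ⊢
    have h1 : 1 ≤ q ^ (k + 1) := Nat.one_le_pow _ _ (by omega)
    have hZ : Z - 1 = (q ^ (k + 2) + 1) * (q ^ (k + 1) - 1) := by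
      have : Z = (q ^ (k + 2) + 1) * (q ^ (k + 1) - 1) + 1 := by
        apply Nat.cast_injective (R := ℤ)
        have h' := congrArg (Nat.cast : ℕ → ℤ) h
        push_cast at h'
        rw [Nat.cast_add, Nat.cast_mul, Nat.cast_sub h1]
        push_cast
        refine mul_left_cancel₀ (show (q : ℤ) ≠ 0 by omega) ?_
        linear_combination h'
      omega
    rw [hZ, show 2 * (k + 1) = (k + 1) * 2 by ring, pow_mul q (k + 1) 2]
    have : (q ^ (k + 1)) ^ 2 - 1 = (q ^ (k + 1) + 1) * (q ^ (k + 1) - 1) := by
      simpa using Nat.sq_sub_sq (q ^ (k + 1)) 1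
    rw [this, show (k + 1 + 1) * (k + 1) = (k + 1) * k + (2 * k + 2) by ring, pow_add q ((k + 1) * k),
      pow_add q (2 * k) 2, show k + 1 + 1 = k + 2 by ring]
    ring

end CfsgLib.Lie.OrthOrder
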