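import Cfsg.Agent.Lie.OrthChar
import Cfsg.Agent.Lie.OrthOrder2

/-!
The standard forms as quadratic forms, minus the identity, subgroups of index two.
-/

set_option autoImplicit false
set_option linter.unusedSimpArgs false
set_option linter.unusedSectionVars false

namespace CfsgLib.Lie.OrthForms

open Matrix
open CfsgLib.Lie.OrthOrder (polar_eq plusQ plusQ_apply hyp hyp_apply hyp_nondeg binQ binQ_apply bin_nondeg)
open CfsgLib.Lie.OrthChar (chi)

variable {F : Type*} [Field F] [Fintype F] {a b : F}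

theorem card_norm_one (hab : ∀ z₁ z₂ : F, z₁ ^ 2 + a * z₁ * z₂ + b * z₂ ^ 2 = 0 → z₁ = 0 ∧ z₂ = 0) {q : ℕ}
    (hF : Fintype.card F = q) : Nat.card {z : F × F // binQ a b z = 1} = q + 1 := by
  classical
  let M : F × F → (F × F →ₗ[F] F × F) := fun z =>
    { toFun := fun w => (z.1 * w.1 - b * (z.2 * w.2), z.1 * w.2 + z.2 * w.1 + a * (z.2 * w.2))
      map_add' := fun x y => by ext <;> simp <;> ring
      map_smul' := fun c x => by ext <;> simp <;> ring }
  have hMQ : ∀ z w, binQ a b (M z w) = binQ a b z * binQ a b w := fun z w => by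
    simp only [binQ_apply, M, LinearMap.coe_mk, AddHom.coe_mk]; ring
  have hM1 : ∀ z, M z (1, 0) = z := fun z => by simp [M]
  have h0 : ∀ w, binQ a b w = 0 → w = 0 := fun w hw => by
    rw [binQ_apply] at hw; exact Prod.ext (hab _ _ hw).1 (hab _ _ hw).2
  have hMinj : ∀ z, binQ a b z ≠ 0 → Function.Injective (M z) := fun z hz => by
    rw [injective_iff_map_eq_zero]
    intro w hw
    refine h0 w ((mul_eq_zero.1 ((hMQ z w).symm.trans (by rw [hw, map_zero]))).resolve_left hz)
  have hMbij : ∀ z, binQ a b z ≠ 0 → Function.Bijective (M z) := fun z hz =>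
    ⟨hMinj z hz, (LinearMap.injective_iff_surjective).1 (hMinj z hz)⟩
  have hsurj : ∀ c : F, ∃ z, binQ a b z = c := by
    intro c
    by_cases h2 : (2 : F) = 0
    · have hc : ringChar F = 2 := by
        by_contra hc; exact Ring.two_ne_zero hc h2
      obtain ⟨r, hr⟩ := FiniteField.isSquare_of_char_two hc c
      exact ⟨(r, 0), by rw [binQ_apply, hr]; ring⟩
    · have h4 : (4 : F) ≠ 0 := by rw [show (4 : F) = 2 * 2 by norm_num]; exact mul_ne_zero h2 h2
      set D := 4 * b - a ^ 2 with hD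
      have hD0 : D ≠ 0 := fun h =>
        h2 ((neg_eq_zero).1 (show -(2 : F) = 0 from (hab a (-2) (by linear_combination h)).2))
      obtain ⟨x, y, hxy⟩ := FiniteField.exists_root_sum_quadratic
        (f := Polynomial.X ^ 2 - Polynomial.C (4 * c)) (g := Polynomial.C D * Polynomial.X ^ 2)
        (Polynomial.degree_X_pow_sub_C two_pos _) (by rw [Polynomial.degree_C_mul_X_pow 2 hD0]; rfl)
        (by rw [hF]; rcases Nat.even_or_odd q with h | h
            · exfalso
              apply h2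
              have hc : ringChar F = 2 := by
                rw [FiniteField.even_card_iff_char_two, hF]; exact Nat.even_iff.1 h
              have : CharP F 2 := ringChar.of_eq hc
              exact CharTwo.two_eq_zero
            · exact Nat.odd_iff.1 h)
      simp at hxy
      refine ⟨((x - a * y) / 2, y), ?_⟩
      rw [binQ_apply]
      field_simp
      linear_combination hxy
  -- norm one
  let N1 := {z : F × F // binQ a b z = 1}
  have hq : 1 < q := hF ▸ Fintype.one_lt_card
  have hN1 : Nat.card N1 = q + 1 := by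
    choose t ht using hsurj
    have hfib : ∀ c : {c : F // c ≠ 0}, Nat.card {z : F × F // binQ a b z = c.1} = Nat.card N1 := by
      intro c
      refine (Nat.card_congr ((Equiv.ofBijective _ (hMbij (t c.1) (by rw [ht]; exact c.2))).subtypeEquiv
        (p := fun w => binQ a b w = 1) (fun w => ?_))).symm
      change _ ↔ binQ a b (M (t c.1) w) = c.1
      rw [hMQ, ht]
      exact ⟨fun h => by rw [h, mul_one], fun h => by simpa [c.2] using h⟩
    have e : {z : F × F // z ≠ 0} ≃ Σ c : {c : F // c ≠ 0}, {z : F × F // binQ a b z = c.1} :=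
      { toFun := fun z => ⟨⟨binQ a b z.1, fun h => z.2 (h0 _ h)⟩, z.1, rfl⟩
        invFun := fun s => ⟨s.2.1, fun h => s.1.2 (by rw [← s.2.2, h, map_zero])⟩
        left_inv := fun z => rfl
        right_inv := fun s => Sigma.subtype_ext (Subtype.ext s.2.2) rfl }
    have h := Nat.card_congr e
    rw [Nat.card_sigma, Finset.sum_congr rfl (fun c _ => hfib c), Finset.sum_const, smul_eq_mul,
      Finset.card_univ, Nat.card_eq_fintype_card, Fintype.card_subtype_compl, Fintype.card_subtype_compl,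
      Fintype.card_subtype_eq, Fintype.card_prod, hF, Fintype.card_subtype_eq] at h
    refine Nat.eq_of_mul_eq_mul_left (show 0 < q - 1 by omega) (h.symm.trans ?_)
    rw [← pow_two]
    simpa [mul_comm] using Nat.sq_sub_sq q 1
  exact hN1

theorem plus_nondeg (m : ℕ) : (QuadraticMap.polarBilin (plusQ m F)).Nondegenerate := by
  have hL : ∀ z : Fin m ⊕ Fin m → F, (∀ w, QuadraticMap.polar ⇑(plusQ m F) z w = 0) → z = 0 := by
    intro z hz
    funext i
    rcases i with i | i
    · have := hz (Pi.single (.inr i) 1)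
      rw [OrthOrder.polar_plus] at this
      simpa [Pi.single_apply] using this
    · have := hz (Pi.single (.inl i) 1)
      rw [OrthOrder.polar_plus] at this
      simpa [Pi.single_apply] using this
  exact ⟨hL, fun z hz => hL z fun w => (QuadraticMap.polar_comm (f := ⇑(plusQ m F)) z w).trans (hz w)⟩

/-- the coordinates of the minus type space -/
def minusEquiv (m : ℕ) (F : Type*) [Field F] :
    ((Fin m ⊕ Fin m) ⊕ Fin 2 → F) ≃ₗ[F] (Fin m ⊕ Fin m → F) × (F × F) where
  toFun v := (fun i => v (.inl i), (v (.inr 0), v (.inr 1)))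
  invFun z := Sum.elim z.1 ![z.2.1, z.2.2]
  left_inv v := funext fun i => by
    rcases i with i | i
    · rfl
    · fin_cases i <;> rfl
  right_inv z := rfl
  map_add' _ _ := rfl
  map_smul' _ _ := rfl

/-- the minus type form -/
def minusQ (m : ℕ) (a b : F) : QuadraticForm F ((Fin m ⊕ Fin m) ⊕ Fin 2 → F) :=
  (hyp m (binQ a b)).comp (minusEquiv m F).toLinearMap

theorem minusQ_apply (m : ℕ) (v : (Fin m ⊕ Fin m) ⊕ Fin 2 → F) :
    minusQ m a b v = Cfsg.quadFormMinus m F a b v := by
  simp [minusQ, hyp_apply, binQ_apply, minusEquiv, Cfsg.quadFormMinus, Cfsg.quadFormPlus]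

theorem minus_nondeg (hab : ∀ z₁ z₂ : F, z₁ ^ 2 + a * z₁ * z₂ + b * z₂ ^ 2 = 0 → z₁ = 0 ∧ z₂ = 0) (m : ℕ) :
    (QuadraticMap.polarBilin (minusQ m a b)).Nondegenerate := by
  have h := hyp_nondeg m (binQ a b) (bin_nondeg hab)
  have hL : ∀ z, (∀ w, QuadraticMap.polar ⇑(minusQ m a b) z w = 0) → z = 0 := by
    intro z hz
    refine (minusEquiv m F).injective ?_
    rw [map_zero]
    refine h.1 _ fun y => ?_
    have h1 := hz ((minusEquiv m F).symm y)
    simp only [polar_eq, minusQ, QuadraticMap.comp_apply, map_add, LinearEquiv.coe_coe,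
      LinearEquiv.apply_symm_apply] at h1
    rw [QuadraticMap.polarBilin_apply_apply, polar_eq]
    exact h1
  exact ⟨hL, fun z hz => hL z fun w => (QuadraticMap.polar_comm (f := ⇑(minusQ m a b)) z w).trans (hz w)⟩

section

variable {ι : Type} [Fintype ι] [DecidableEq ι] {Q : QuadraticForm F (ι → F)}

variable (Q) in
/-- minus the identity -/
def negI : Cfsg.isometryGroup F ⇑Q :=
  ⟨-1, fun x _ => by
    show Q ((-1 : Matrix ι ι F) *ᵥ x) = Q x
    rw [Matrix.neg_mulVec, Matrix.one_mulVec, QuadraticMap.map_neg]⟩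

theorem negI_omega (h2 : (2 : F) ≠ 0) (hQ : (QuadraticMap.polarBilin Q).Nondegenerate)
    (hn : 2 ≤ Fintype.card ι) (heven : Even (Fintype.card ι)) :
    negI Q ∈ Cfsg.Omega F ⇑Q ↔ Nat.card {x : ι → F // Q x = 1} % 4 = 0 := by
  classical
  rw [OrthChar.mem_omega_iff h2 hQ hn]
  have hd : ((negI Q : GL ι F) : Matrix ι ι F).det = 1 := by
    show (-1 : Matrix ι ι F).det = 1
    rw [Matrix.det_neg, Matrix.det_one, mul_one, heven.neg_one_pow]
  obtain ⟨k, hk, hs⟩ := OrthChar.sign_of_involution (OrthChar.permHom Q (negI Q)) (by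
    rw [← map_mul, show negI Q * negI Q = 1 from Subtype.ext (by simp [negI]), map_one])
  have e : (OrthChar.permHom Q (negI Q)).support = Finset.univ := by
    refine Finset.eq_univ_iff_forall.2 fun x => Equiv.Perm.mem_support.2 fun h => ?_
    have h' : (-1 : Matrix ι ι F) *ᵥ x.1 = x.1 := congrArg Subtype.val h
    rw [Matrix.neg_mulVec, Matrix.one_mulVec] at h'
    have h0 : x.1 = 0 := by
      funext i
      have := congrFun h' i
      simp only [Pi.neg_apply] at this
      exact (mul_eq_zero.1 (show (2 : F) * x.1 i = 0 by linear_combination -this)).resolve_left h2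
    have h1 : Q x.1 = 1 := x.2
    rw [h0, map_zero] at h1
    exact zero_ne_one h1
  rw [e, Finset.card_univ] at hk
  have hchi : chi Q (negI Q) = (-1) ^ k := hs
  rw [hd, hchi, Nat.card_eq_fintype_card]
  change (1 : F) = 1 ∧ _ ↔ Fintype.card (OrthChar.Sph Q) % 4 = 0
  rw [hk, eq_self_iff_true, true_and]
  rcases Nat.even_or_odd k with h | h
  · rw [h.neg_one_pow]
    obtain ⟨j, rfl⟩ := h
    simp; omega
  · rw [h.neg_one_pow]
    obtain ⟨j, rfl⟩ := h
    simp; omega

end

theorem exists_negI {ι : Type} [Fintype ι] [DecidableEq ι] (Q : QuadraticForm F (ι → F)) :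
    (∃ g : Cfsg.isometryGroup F ⇑Q, g ∈ Cfsg.Omega F ⇑Q ∧ ((g : GL ι F) : Matrix ι ι F) = -1) ↔
      negI Q ∈ Cfsg.Omega F ⇑Q := by
  constructor
  · rintro ⟨g, hg, he⟩
    have : g = negI Q := Subtype.ext (Units.ext he)
    rwa [← this]
  · exact fun h => ⟨negI Q, h, rfl⟩

theorem pow_facts {q : ℕ} (hodd : Odd q) (m : ℕ) : q ^ m % 2 = 1 := Nat.odd_iff.1 hodd.pow

theorem negI_plus {q : ℕ} (hF : Fintype.card F = q) (hodd : Odd q) (m : ℕ) (hm : 1 ≤ m) :
    negI (plusQ m F) ∈ Cfsg.Omega F ⇑(plusQ m F) ↔ q ^ m % 4 = 1 := by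
  rw [negI_omega (OrthOrder.two_ne_zero_of_odd hF hodd) (plus_nondeg m) (by simp; omega) (by simp)]
  have h := QuadCount.count (fun _ : Unit => (0 : F)) 1 m
  rw [Nat.card_congr ((Equiv.prodPUnit _).subtypeEquiv
    (q := fun v => plusQ m F v = 1) (fun z => by simp [plusQ_apply]))] at h
  have : IsEmpty {w : Unit // (0 : F) = 1} := ⟨fun w => zero_ne_one w.2⟩
  rw [Nat.card_of_isEmpty (α := {w : Unit // (0 : F) = 1}), mul_zero, zero_add, Nat.card_unique (α := Unit), mul_one, mul_one,
    Nat.card_eq_fintype_card (α := F), hF] at h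
  obtain ⟨N, hN⟩ : ∃ N, N = Nat.card {x : Fin m ⊕ Fin m → F // plusQ m F x = 1} := ⟨_, rfl⟩
  rw [← hN] at h ⊢
  obtain ⟨t, ht⟩ : ∃ t, t = q ^ m := ⟨_, rfl⟩
  rw [show q ^ (2 * m) = t * t by rw [ht, two_mul, pow_add], ← ht] at h
  rw [← ht]
  have h1 : (q * N + t) % 4 = t * t % 4 := by rw [h]
  rw [Nat.add_mod, Nat.mul_mod, Nat.mul_mod t t] at h1
  have h2 : t % 2 = 1 := ht ▸ pow_facts hodd m
  have h3 : q % 4 = 1 ∨ q % 4 = 3 := by have := Nat.odd_iff.1 hodd; omega
  have h4 : t % 4 = 1 ∨ t % 4 = 3 := by omega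
  rcases h3 with h3 | h3 <;> rcases h4 with h4 | h4 <;> rw [h3, h4] at h1 <;> omega

theorem negI_minus {q : ℕ} (hF : Fintype.card F = q) (hodd : Odd q) (m : ℕ)
    (hab : ∀ z₁ z₂ : F, z₁ ^ 2 + a * z₁ * z₂ + b * z₂ ^ 2 = 0 → z₁ = 0 ∧ z₂ = 0) :
    negI (minusQ m a b) ∈ Cfsg.Omega F ⇑(minusQ m a b) ↔ q ^ (m + 1) % 4 = 3 := by
  rw [negI_omega (OrthOrder.two_ne_zero_of_odd hF hodd) (minus_nondeg hab m) (by simp)
    (by simp [parity_simps])]
  have h := QuadCount.count (fun z : F × F => binQ a b z) 1 m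
  rw [← Nat.card_congr ((minusEquiv m F).toEquiv.subtypeEquiv
    (p := fun v : (Fin m ⊕ Fin m) ⊕ Fin 2 → F => minusQ m a b v = 1) (fun v => by simp [minusQ, hyp_apply]))] at h
  rw [card_norm_one hab hF, Nat.card_prod, Nat.card_eq_fintype_card (α := F), hF] at h
  obtain ⟨N, hN⟩ : ∃ N, N = Nat.card {x : (Fin m ⊕ Fin m) ⊕ Fin 2 → F // minusQ m a b x = 1} := ⟨_, rfl⟩
  rw [← hN] at h ⊢
  obtain ⟨t, ht⟩ : ∃ t, t = q ^ m := ⟨_, rfl⟩
  rw [pow_succ, show q ^ (2 * m) = t * t by rw [ht, two_mul, pow_add], ← ht] at h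
  rw [pow_succ, ← ht]
  have key : ∀ x N t : ZMod 4, (x = 1 ∨ x = 3) → (t = 1 ∨ t = 3) →
      x * N + t * (x * x) = t * x * (x + 1) + t * t * (x * x) → (N = 0 ↔ t * x = 3) := by decide
  have odd4 : ∀ r : ℕ, r % 2 = 1 → (r : ZMod 4) = 1 ∨ (r : ZMod 4) = 3 := by
    intro r hr
    rw [← ZMod.natCast_mod r 4]
    rcases (show r % 4 = 1 ∨ r % 4 = 3 by omega) with e | e <;> simp [e]
  have h1 := congrArg (Nat.cast : ℕ → ZMod 4) h
  push_cast at h1
  have iff4 : ∀ x c : ℕ, c < 4 → ((x : ZMod 4) = (c : ZMod 4) ↔ x % 4 = c) := fun x c hc => by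
    rw [ZMod.natCast_eq_natCast_iff', Nat.mod_eq_of_lt hc]
  have k := key (q : ZMod 4) N t (odd4 q (Nat.odd_iff.1 hodd)) (odd4 t (ht ▸ pow_facts hodd m))
    (by linear_combination h1)
  have a0 := iff4 N 0 (by norm_num)
  have a3 := iff4 (t * q) 3 (by norm_num)
  push_cast at a0 a3
  rw [← a0, ← a3]
  exact k

/-- subgroups of index two -/
theorem card_index_two {ι : Type} [Fintype ι] [DecidableEq ι] {Q : QuadraticForm F (ι → F)} (h2 : (2 : F) ≠ 0)
    (hQ : (QuadraticMap.polarBilin Q).Nondegenerate) (hn : 2 ≤ Fintype.card ι) :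
    Nat.card {H : Subgroup (Cfsg.isometryGroup F ⇑Q) // H.index = 2} = 3 := by
  classical
  obtain ⟨v, v', hv, hv', hns, hprod⟩ := OrthChar.exists_pair h2 hQ hn
  have hne : (-1 : F) ≠ 1 := fun h => h2 (by linear_combination -h)
  obtain ⟨d, hd⟩ : ∃ d : Cfsg.isometryGroup F ⇑Q →* ℤˣ,
      ∀ g, d g = if ((g : GL ι F) : Matrix ι ι F).det = 1 then 1 else -1 := by
    have two : ∀ g : Cfsg.isometryGroup F ⇑Q, ((g : GL ι F) : Matrix ι ι F).det = 1 ∨
        ((g : GL ι F) : Matrix ι ι F).det = -1 := by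
      intro g
      rcases OrthChar.reps h2 hQ hv hv' hns g with h | h | h | h
      · exact Or.inl (OrthChar.det_omega h)
      · have := OrthChar.det_omega h
        rw [OrthChar.det_mul, OrthChar.R_det hv] at this
        exact Or.inr (by linear_combination -this)
      · have := OrthChar.det_omega h
        rw [OrthChar.det_mul, OrthChar.R_det hv'] at this
        exact Or.inr (by linear_combination -this)
      · have := OrthChar.det_omega h
        rw [OrthChar.det_mul, OrthChar.det_mul, OrthChar.R_det hv, OrthChar.R_det hv'] at this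
        exact Or.inl (by linear_combination this)
    refine ⟨MonoidHom.mk' (fun g => if ((g : GL ι F) : Matrix ι ι F).det = 1 then 1 else -1) fun g h => ?_,
      fun g => rfl⟩
    rw [OrthChar.det_mul]
    rcases two g with e | e <;> rcases two h with e' | e' <;> simp [e, e', hne]
  have hdv : d (OrthChar.R Q v) = -1 := by rw [hd, OrthChar.R_det hv, if_neg hne]
  have hdv' : d (OrthChar.R Q v') = -1 := by rw [hd, OrthChar.R_det hv', if_neg hne]
  -- containment of the derived subgroup, and membership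
  have key : ∀ H : Subgroup (Cfsg.isometryGroup F ⇑Q), H.index = 2 → Cfsg.Omega F ⇑Q ≤ H := by
    intro H hH
    rw [Cfsg.Omega, commutator_def, Subgroup.commutator_le]
    intro x _ y _
    rw [commutatorElement_def, Subgroup.mul_mem_iff_of_index_two hH, Subgroup.mul_mem_iff_of_index_two hH,
      Subgroup.mul_mem_iff_of_index_two hH, inv_mem_iff, inv_mem_iff]
    tauto
  obtain ⟨code, hcode⟩ : ∃ code : Subgroup (Cfsg.isometryGroup F ⇑Q) → Bool × Bool,
      code = fun H => (decide (OrthChar.R Q v ∈ H), decide (OrthChar.R Q v' ∈ H)) := ⟨_, rfl⟩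
  have hdet : ∀ H : Subgroup (Cfsg.isometryGroup F ⇑Q), H.index = 2 → ∀ K : Subgroup (Cfsg.isometryGroup F ⇑Q),
      K.index = 2 → code H = code K → H ≤ K := by
    intro H hH K hK hc g hg
    simp only [hcode, Prod.mk.injEq, decide_eq_decide] at hc
    rcases OrthChar.reps h2 hQ hv hv' hns g with h | h | h | h
    · exact key K hK h
    all_goals
      have h1 := key H hH h
      have h3 := key K hK h
      simp only [Subgroup.mul_mem_iff_of_index_two hH, Subgroup.mul_mem_iff_of_index_two hK] at h1 h3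
      tauto
  have hcode_ne : ∀ H : Subgroup (Cfsg.isometryGroup F ⇑Q), H.index = 2 → code H ≠ (true, true) := by
    intro H hH hc
    simp only [hcode, Prod.mk.injEq, decide_eq_true_iff] at hc
    have : H = ⊤ := top_le_iff.1 fun g _ => by
      rcases OrthChar.reps h2 hQ hv hv' hns g with h | h | h | h
      · exact key H hH h
      all_goals
        have h1 := key H hH h
        simp only [Subgroup.mul_mem_iff_of_index_two hH] at h1
        tauto
    rw [this, Subgroup.index_top] at hH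
    omega
  have hker : ∀ (φ : Cfsg.isometryGroup F ⇑Q →* ℤˣ) (z : Cfsg.isometryGroup F ⇑Q), φ z = -1 → φ.ker.index = 2 := by
    intro φ z hz
    rw [Subgroup.index_ker, show φ.range = ⊤ from ?_, Subgroup.card_top]
    · simp [Nat.card_eq_fintype_card]
    refine top_le_iff.1 fun u _ => ?_
    rcases Int.units_eq_one_or u with rfl | rfl
    · exact one_mem _
    · exact ⟨z, hz⟩
  have hchi : chi Q (OrthChar.R Q v) = -1 ∨ chi Q (OrthChar.R Q v') = -1 := by
    rcases Int.units_eq_one_or (chi Q (OrthChar.R Q v)) with e | e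
    · rw [e, one_mul] at hprod; exact Or.inr hprod
    · exact Or.inl e
  obtain ⟨e, he⟩ : ∃ e : {H : Subgroup (Cfsg.isometryGroup F ⇑Q) // H.index = 2} → {c : Bool × Bool // c ≠ (true, true)},
      e = fun H => ⟨code H.1, hcode_ne H.1 H.2⟩ := ⟨_, rfl⟩
  rw [Nat.card_eq_of_bijective e ⟨?_, ?_⟩]
  · rw [Nat.card_eq_fintype_card]; decide
  · intro H K h
    rw [he] at h
    have h' : code H.1 = code K.1 := congrArg Subtype.val h
    exact Subtype.ext (le_antisymm (hdet _ H.2 _ K.2 h') (hdet _ K.2 _ H.2 h'.symm))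
  · rintro ⟨⟨x, y⟩, hxy⟩
    have h1 : (x = false ∧ y = false) ∨ (x = true ∧ y = false) ∨ (x = false ∧ y = true) := by
      revert hxy; revert x y; decide
    rcases Int.units_eq_one_or (chi Q (OrthChar.R Q v)) with ev | ev
    · rw [ev, one_mul] at hprod
      rcases h1 with ⟨rfl, rfl⟩ | ⟨rfl, rfl⟩ | ⟨rfl, rfl⟩
      · exact ⟨⟨d.ker, hker d _ hdv⟩, by simp [he, hcode, MonoidHom.mem_ker, hdv, hdv']⟩
      · exact ⟨⟨(chi Q).ker, hker _ _ hprod⟩, by simp [he, hcode, MonoidHom.mem_ker, ev, hprod]⟩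
      · exact ⟨⟨(d * chi Q).ker, hker _ (OrthChar.R Q v) (by simp [hdv, ev])⟩,
          by simp [he, hcode, MonoidHom.mem_ker, hdv, hdv', ev, hprod]⟩
    · have ev' : chi Q (OrthChar.R Q v') = 1 := by
        rcases Int.units_eq_one_or (chi Q (OrthChar.R Q v')) with e' | e'
        · exact e'
        · rw [ev, e'] at hprod; simp at hprod
      rcases h1 with ⟨rfl, rfl⟩ | ⟨rfl, rfl⟩ | ⟨rfl, rfl⟩
      · exact ⟨⟨d.ker, hker d _ hdv⟩, by simp [he, hcode, MonoidHom.mem_ker, hdv, hdv']⟩
      · exact ⟨⟨(d * chi Q).ker, hker _ (OrthChar.R Q v') (by simp [hdv', ev'])⟩,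
          by simp [he, hcode, MonoidHom.mem_ker, hdv, hdv', ev, ev']⟩
      · exact ⟨⟨(chi Q).ker, hker _ _ ev⟩, by simp [he, hcode, MonoidHom.mem_ker, ev, ev']⟩

end CfsgLib.Lie.OrthForms
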