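import Cfsg.Agent.Lie.OrthChar

/-!
Root elements of the orthogonal groups: they are commutators, they generate the derived group in dimension at
least five, and that group is perfect. All characteristics.
-/

set_option autoImplicit false
set_option linter.unusedSimpArgs false
set_option linter.unusedSectionVars false

namespace CfsgLib.Lie.OrthRoot

open Matrix QuadraticMap
open CfsgLib.Lie.Refl (act act_mul act_one act_inv act_inj act_Q act_polar act_ext)
open CfsgLib.Lie.OrthChar (R R_act R_conj R_smul map_add' polar_self')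
open scoped commutatorElement

variable {F : Type*} [Field F] [Fintype F] {ι : Type} [Fintype ι] [DecidableEq ι]
  {Q : QuadraticForm F (ι → F)}

theorem act_add (g : Cfsg.isometryGroup F ⇑Q) (x y : ι → F) : act Q g (x + y) = act Q g x + act Q g y :=
  Matrix.mulVec_add _ _ _

theorem act_sub (g : Cfsg.isometryGroup F ⇑Q) (x y : ι → F) : act Q g (x - y) = act Q g x - act Q g y :=
  Matrix.mulVec_sub _ _ _

theorem act_smul (g : Cfsg.isometryGroup F ⇑Q) (t : F) (x : ι → F) : act Q g (t • x) = t • act Q g x :=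
  Matrix.mulVec_smul _ _ _

/-! ### Linear algebra -/

variable (Q) in
/-- the orthogonal complement of one vector -/
def perp (v : ι → F) : Submodule F (ι → F) := LinearMap.ker (QuadraticMap.polarBilin Q v)

theorem mem_perp {v x : ι → F} : x ∈ perp Q v ↔ polar ⇑Q v x = 0 := by
  rw [perp, LinearMap.mem_ker, QuadraticMap.polarBilin_apply_apply]

theorem finrank_inf_perp (W : Submodule F (ι → F)) (v : ι → F) :
    Module.finrank F W ≤ Module.finrank F (W ⊓ perp Q v : Submodule F (ι → F)) + 1 := by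
  let L : W →ₗ[F] F := (QuadraticMap.polarBilin Q v) ∘ₗ W.subtype
  have h1 := LinearMap.finrank_range_add_finrank_ker L
  have h2 : Module.finrank F (LinearMap.range L) ≤ 1 := by
    have := Submodule.finrank_le (LinearMap.range L)
    rwa [Module.finrank_self] at this
  have h3 : (LinearMap.ker L).map W.subtype = W ⊓ perp Q v := by
    ext x
    simp [L, mem_perp, QuadraticMap.polarBilin_apply_apply, and_comm]
  rw [← h3, Submodule.finrank_map_subtype_eq]
  omega

theorem finrank_perp (v : ι → F) : Fintype.card ι ≤ Module.finrank F (perp Q v) + 1 := by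
  have h := finrank_inf_perp (Q := Q) ⊤ v
  rwa [top_inf_eq, finrank_top, Module.finrank_fintype_fun_eq_card] at h

theorem finrank_perp2 (u v : ι → F) :
    Fintype.card ι ≤ Module.finrank F (perp Q u ⊓ perp Q v : Submodule F (ι → F)) + 2 := by
  have := finrank_inf_perp (Q := Q) (perp Q u) v
  have := finrank_perp (Q := Q) u
  omega

theorem exists_ne_zero (W : Submodule F (ι → F)) (h : 1 ≤ Module.finrank F W) : ∃ x ∈ W, x ≠ 0 :=
  Submodule.exists_mem_ne_zero_of_ne_bot fun hb => by rw [hb, finrank_bot] at h; omega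

theorem exists_notMem_span (W : Submodule F (ι → F)) (h : 2 ≤ Module.finrank F W) (v : ι → F) :
    ∃ x ∈ W, ∀ t : F, x ≠ t • v := by
  by_contra hc
  push Not at hc
  have hle : W ≤ Submodule.span F {v} := fun x hx => by
    obtain ⟨t, ht⟩ := hc x hx
    exact Submodule.mem_span_singleton.2 ⟨t, ht.symm⟩
  have h1 := Submodule.finrank_mono hle
  have h2 : Module.finrank F (Submodule.span F ({v} : Set (ι → F))) ≤ 1 := by
    simpa using finrank_span_le_card (R := F) ({v} : Set (ι → F))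
  omega

theorem char_two_of (h2 : (2 : F) = 0) : CharP F 2 := CharTwo.of_one_ne_zero_of_two_eq_zero one_ne_zero h2

theorem exists_singular (W : Submodule F (ι → F)) (h : 3 ≤ Module.finrank F W) :
    ∃ x ∈ W, x ≠ 0 ∧ Q x = 0 := by
  by_contra hcon
  push Not at hcon
  obtain ⟨x, hx, hx0⟩ := exists_ne_zero W (by omega)
  have hW1 := finrank_inf_perp (Q := Q) W x
  obtain ⟨y, ⟨hyW, hxy⟩, hy⟩ := exists_notMem_span (W ⊓ perp Q x) (by omega) x
  rw [SetLike.mem_coe, mem_perp] at hxy
  have hQx := hcon x hx hx0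
  have hy0 : y ≠ 0 := fun h => hy 0 (by rw [h, zero_smul])
  have hQy := hcon y hyW hy0
  by_cases h2 : (2 : F) = 0
  · have := char_two_of h2
    obtain ⟨s, hs⟩ := Quad.char_two_sq (F := F) (Q y / Q x)
    refine hcon (y - s • x) (sub_mem hyW (Submodule.smul_mem _ _ hx)) (fun h0 => hy s (sub_eq_zero.1 h0)) ?_
    rw [Quad.map_sub_smul, hxy, hs, mul_zero, sub_zero, div_mul_cancel₀ _ hQx]
    rw [← two_mul, h2, zero_mul]
  · have hW2 := finrank_inf_perp (Q := Q) (W ⊓ perp Q x) y
    obtain ⟨z, ⟨⟨hzW, hxz⟩, hyz⟩, hz0⟩ := exists_ne_zero (W ⊓ perp Q x ⊓ perp Q y) (by omega)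
    rw [SetLike.mem_coe, mem_perp] at hxz hyz
    have hQz := hcon z hzW hz0
    obtain ⟨p, s, hps⟩ := OrthChar.exists_binary h2 hQx hQy (-Q z)
    refine hcon (p • x + s • y + z)
      (add_mem (add_mem (Submodule.smul_mem _ _ hx) (Submodule.smul_mem _ _ hyW)) hzW) (fun h0 => ?_) ?_
    · have e : polar ⇑Q (p • x + s • y + z) z = 0 := by rw [h0, QuadraticMap.polar_zero_left]
      rw [QuadraticMap.polar_add_left, QuadraticMap.polar_add_left, QuadraticMap.polar_smul_left,
        QuadraticMap.polar_smul_left, hxz, hyz, smul_zero, smul_zero, zero_add, zero_add, polar_self'] at e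
      exact hQz ((mul_eq_zero.1 e).resolve_left h2)
    · rw [map_add', OrthChar.map_comb p s x y hxy, QuadraticMap.polar_add_left, QuadraticMap.polar_smul_left,
        QuadraticMap.polar_smul_left, hxz, hyz, hps]
      simp

/-- a subspace which is more than half of the space is not totally isotropic -/
theorem exists_not_isotropic (hQ : (QuadraticMap.polarBilin Q).Nondegenerate) (W : Submodule F (ι → F))
    (h : Fintype.card ι < 2 * Module.finrank F W) : ∃ a ∈ W, ∃ b ∈ W, polar ⇑Q a b ≠ 0 := by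
  by_contra hcon
  push Not at hcon
  let S : (ι → F) →ₗ[F] (W →ₗ[F] F) := LinearMap.domRestrict' W ∘ₗ QuadraticMap.polarBilin Q
  have hker : W ≤ LinearMap.ker S := fun u hu => LinearMap.ext fun v => hcon u hu v v.2
  have hsurj : Function.Surjective S := by
    intro ψ
    obtain ⟨ψ', hψ'⟩ := LinearMap.exists_extend ψ
    obtain ⟨z, hz⟩ := Quad.exists_rep _ hQ ψ'
    refine ⟨z, LinearMap.ext fun v => ?_⟩
    rw [← hψ']
    exact ((QuadraticMap.polar_comm (f := ⇑Q) z (v : ι → F)).trans (hz v))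
  have d1 := LinearMap.finrank_range_add_finrank_ker S
  rw [LinearMap.range_eq_top.2 hsurj, finrank_top, Subspace.dual_finrank_eq,
    Module.finrank_fintype_fun_eq_card] at d1
  have d2 := Submodule.finrank_mono hker
  omega

theorem exists_value (hQ : (QuadraticMap.polarBilin Q).Nondegenerate) (W : Submodule F (ι → F))
    (h : Fintype.card ι < 2 * Module.finrank F W) : ∃ x ∈ W, Q x ≠ 0 := by
  obtain ⟨a, ha, b, hb, hab⟩ := exists_not_isotropic hQ W h
  by_contra hcon
  push Not at hcon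
  exact hab (by rw [QuadraticMap.polar, hcon _ ha, hcon _ hb, hcon _ (add_mem ha hb)]; simp)

/-- a singular partner -/
theorem exists_partner (hQ : (QuadraticMap.polarBilin Q).Nondegenerate) {e v : ι → F} (he : Q e = 0)
    (hev : polar ⇑Q e v = 0) (hli : LinearIndependent F ![v, e]) :
    ∃ f, Q f = 0 ∧ polar ⇑Q e f = 1 ∧ polar ⇑Q v f = 0 := by
  obtain ⟨z, hz1, hz2⟩ := Refl.exists_polar hQ hli
  refine ⟨z - Q z • e, ?_, ?_, ?_⟩
  · rw [Quad.map_sub_smul, hz2, he]; ring
  · rw [sub_eq_add_neg, ← neg_smul, QuadraticMap.polar_add_right, QuadraticMap.polar_smul_right,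
      QuadraticMap.polar_self, he, hz2]
    simp
  · rw [sub_eq_add_neg, ← neg_smul, QuadraticMap.polar_add_right, QuadraticMap.polar_smul_right,
      QuadraticMap.polar_comm (f := ⇑Q) v e, hev, hz1]
    simp

theorem li_pair {u v : ι → F} (hu : u ≠ 0) (h : ∀ t : F, v ≠ t • u) : LinearIndependent F ![u, v] := by
  rw [LinearIndependent.pair_iff' hu]
  exact fun t ht => h t ht.symm

theorem li_pair' {u v : ι → F} (hu : u ≠ 0) (h : ∀ t : F, v ≠ t • u) : LinearIndependent F ![v, u] := by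
  rw [LinearIndependent.pair_iff]
  intro s t hst
  have := LinearIndependent.pair_iff.1 (li_pair hu h) t s (by rw [add_comm]; exact hst)
  exact this.symm

/-- separating by singular vectors -/
theorem singular_sep (W : Submodule F (ι → F)) {e f : ι → F} (heW : e ∈ W) (hfW : f ∈ W) (he : Q e = 0)
    (hf : Q f = 0) (hef : polar ⇑Q e f = 1) (φ : (ι → F) →ₗ[F] F) (hφ : ∃ z ∈ W, φ z ≠ 0) :
    ∃ x ∈ W, Q x = 0 ∧ φ x ≠ 0 := by
  by_contra hcon
  push Not at hcon
  obtain ⟨z, hz, hz0⟩ := hφ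
  have h1 := hcon e heW he
  have h2 := hcon f hfW hf
  obtain ⟨z', hz'⟩ : ∃ z', z' = z - polar ⇑Q z e • f - polar ⇑Q z f • e := ⟨_, rfl⟩
  have hmem : z' ∈ W := hz' ▸ sub_mem (sub_mem hz (Submodule.smul_mem _ _ hfW)) (Submodule.smul_mem _ _ heW)
  have hfe : polar ⇑Q f e = 1 := by rw [QuadraticMap.polar_comm, hef]
  have ee : polar ⇑Q e e = 0 := by rw [QuadraticMap.polar_self, he, smul_zero]
  have ff : polar ⇑Q f f = 0 := by rw [QuadraticMap.polar_self, hf, smul_zero]
  have pe : polar ⇑Q z' e = 0 := by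
    rw [hz']
    simp [sub_eq_add_neg, QuadraticMap.polar_add_left, QuadraticMap.polar_neg_left, QuadraticMap.polar_smul_left,
      hfe, ee]
  have pf : polar ⇑Q z' f = 0 := by
    rw [hz']
    simp [sub_eq_add_neg, QuadraticMap.polar_add_left, QuadraticMap.polar_neg_left, QuadraticMap.polar_smul_left,
      hef, ff]
  have hQ0 : Q (z' + (-Q z') • e + f) = 0 := by
    rw [map_add', map_add', OrthChar.map_smul', QuadraticMap.polar_add_left, QuadraticMap.polar_smul_right,
      QuadraticMap.polar_smul_left, pe, pf, he, hf, hef]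
    simp
  have h3 := hcon _ (add_mem (add_mem hmem (Submodule.smul_mem _ _ heW)) hfW) hQ0
  simp [hz', h1, h2] at h3
  exact hz0 h3

theorem perp_hyp (hQ : (QuadraticMap.polarBilin Q).Nondegenerate) (h5 : 5 ≤ Fintype.card ι) {u : ι → F}
    (hu0 : u ≠ 0) (hu : Q u = 0) :
    ∃ e f, e ∈ perp Q u ∧ f ∈ perp Q u ∧ Q e = 0 ∧ Q f = 0 ∧ polar ⇑Q e f = 1 := by
  obtain ⟨z, hz⟩ : ∃ z, polar ⇑Q u z ≠ 0 := by
    by_contra hc; push Not at hc; exact hu0 (hQ.1 u hc)
  have h3 := finrank_perp2 (Q := Q) u z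
  obtain ⟨e, ⟨heu, hez⟩, he0, he⟩ := exists_singular (Q := Q) (perp Q u ⊓ perp Q z) (by omega)
  rw [SetLike.mem_coe, mem_perp] at heu hez
  obtain ⟨f, hf, hef, huf⟩ := exists_partner hQ he (v := u) (by rw [QuadraticMap.polar_comm]; exact heu)
    (li_pair hu0 fun t ht => by
      rw [ht, QuadraticMap.polar_smul_right, QuadraticMap.polar_comm (f := ⇑Q) z u, smul_eq_mul] at hez
      exact he0 (by rw [ht, (mul_eq_zero.1 hez).resolve_right hz, zero_smul]))
  exact ⟨e, f, mem_perp.2 heu, mem_perp.2 huf, he, hf, hef⟩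

theorem span_singular (hQ : (QuadraticMap.polarBilin Q).Nondegenerate) (h5 : 5 ≤ Fintype.card ι) {u : ι → F}
    (hu0 : u ≠ 0) (hu : Q u = 0) {a : ι → F} (ha : polar ⇑Q u a = 0) :
    a ∈ Submodule.span F {x : ι → F | Q x = 0 ∧ polar ⇑Q u x = 0} := by
  by_contra hna
  obtain ⟨φ, hφa, hφ⟩ := Submodule.exists_dual_map_eq_bot_of_notMem hna inferInstance
  obtain ⟨e, f, he', hf', he, hf, hef⟩ := perp_hyp hQ h5 hu0 hu
  obtain ⟨x, hx, hxQ, hx0⟩ := singular_sep (perp Q u) he' hf' he hf hef φ ⟨a, mem_perp.2 ha, hφa⟩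
  have : φ x ∈ (Submodule.span F {x : ι → F | Q x = 0 ∧ polar ⇑Q u x = 0}).map φ :=
    Submodule.mem_map_of_mem (Submodule.subset_span ⟨hxQ, mem_perp.1 hx⟩)
  rw [hφ, Submodule.mem_bot] at this
  exact hx0 this

/-! ### The transformations -/

variable (Q) in
/-- the matrix of a root transformation -/
def eMat (e a : ι → F) : Matrix ι ι F :=
  1 + (Matrix.vecMulVec a (Cfsg.polarVec ⇑Q e) - Matrix.vecMulVec e (Cfsg.polarVec ⇑Q a))
    - Q a • Matrix.vecMulVec e (Cfsg.polarVec ⇑Q e)

theorem eMat_mulVec (e a x : ι → F) : eMat Q e a *ᵥ x =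
    x + (polar ⇑Q e x • a - polar ⇑Q a x • e) - (Q a * polar ⇑Q e x) • e := by
  simp only [eMat, Matrix.sub_mulVec, Matrix.add_mulVec, Matrix.one_mulVec, Matrix.smul_mulVec,
    Matrix.vecMulVec_mulVec, op_smul_eq_smul, Quad.polarVec_dot, smul_smul]

theorem eMat_mul {e a b : ι → F} (he : Q e = 0) (ha : polar ⇑Q e a = 0) (hb : polar ⇑Q e b = 0) :
    eMat Q e a * eMat Q e b = eMat Q e (a + b) := by
  refine Matrix.ext_of_mulVec_single fun i => ?_
  rw [← Matrix.mulVec_mulVec, eMat_mulVec, eMat_mulVec, eMat_mulVec]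
  simp only [sub_eq_add_neg, ← neg_smul, QuadraticMap.polar_add_right, QuadraticMap.polar_add_left,
    QuadraticMap.polar_smul_right, QuadraticMap.polar_comm (f := ⇑Q) a e, QuadraticMap.polar_self, he, ha, hb,
    map_add', smul_eq_mul]
  match_scalars <;> ring

theorem eMat_zero (e : ι → F) : eMat Q e 0 = 1 := by
  refine Matrix.ext_of_mulVec_single fun i => ?_
  rw [eMat_mulVec, Matrix.one_mulVec]
  simp

theorem eMat_isometry {e a : ι → F} (he : Q e = 0) (ha : polar ⇑Q e a = 0) (x : ι → F) :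
    Q (eMat Q e a *ᵥ x) = Q x := by
  rw [eMat_mulVec]
  simp only [sub_eq_add_neg, ← neg_smul, map_add', OrthChar.map_smul', QuadraticMap.polar_add_left,
    QuadraticMap.polar_add_right, QuadraticMap.polar_smul_left, QuadraticMap.polar_smul_right,
    QuadraticMap.polar_self, he, ha, QuadraticMap.polar_comm (f := ⇑Q) x e,
    QuadraticMap.polar_comm (f := ⇑Q) x a, QuadraticMap.polar_comm (f := ⇑Q) a e, smul_eq_mul]
  ring

theorem E_exists {e a : ι → F} (he : Q e = 0) (ha : polar ⇑Q e a = 0) :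
    ∃ g : Cfsg.isometryGroup F ⇑Q, ((g : GL ι F) : Matrix ι ι F) = eMat Q e a := by
  have hna : polar ⇑Q e (-a) = 0 := by rw [QuadraticMap.polar_neg_right, ha, neg_zero]
  exact ⟨⟨⟨eMat Q e a, eMat Q e (-a), by rw [eMat_mul he ha hna, add_neg_cancel, eMat_zero],
    by rw [eMat_mul he hna ha, neg_add_cancel, eMat_zero]⟩, fun x _ => eMat_isometry he ha x⟩, rfl⟩

variable (Q) in
open Classical in
/-- the root transformation attached to a singular vector and a vector orthogonal to it (else the identity) -/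
noncomputable def E (e a : ι → F) : Cfsg.isometryGroup F ⇑Q :=
  if h : Q e = 0 ∧ polar ⇑Q e a = 0 then (E_exists h.1 h.2).choose else 1

theorem E_val {e a : ι → F} (he : Q e = 0) (ha : polar ⇑Q e a = 0) :
    ((E Q e a : GL ι F) : Matrix ι ι F) = eMat Q e a := by
  rw [E, dif_pos ⟨he, ha⟩]
  exact (E_exists he ha).choose_spec

theorem E_act {e a : ι → F} (he : Q e = 0) (ha : polar ⇑Q e a = 0) (x : ι → F) :
    act Q (E Q e a) x = x + (polar ⇑Q e x • a - polar ⇑Q a x • e) - (Q a * polar ⇑Q e x) • e := by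
  rw [act, E_val he ha, eMat_mulVec]

theorem E_add {e a b : ι → F} (he : Q e = 0) (ha : polar ⇑Q e a = 0) (hb : polar ⇑Q e b = 0) :
    E Q e (a + b) = E Q e a * E Q e b := by
  refine Subtype.ext (Units.ext ?_)
  rw [Subgroup.coe_mul, Units.val_mul, E_val he (by rw [QuadraticMap.polar_add_right, ha, hb, add_zero]),
    E_val he ha, E_val he hb, eMat_mul he ha hb]

theorem E_zero {e : ι → F} (he : Q e = 0) : E Q e 0 = 1 := by
  refine Subtype.ext (Units.ext ?_)
  rw [E_val he (QuadraticMap.polar_zero_right Q e), eMat_zero]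
  rfl

theorem E_neg {e a : ι → F} (he : Q e = 0) (ha : polar ⇑Q e a = 0) : E Q e (-a) = (E Q e a)⁻¹ := by
  refine eq_inv_of_mul_eq_one_left ?_
  rw [← E_add he (by rw [QuadraticMap.polar_neg_right, ha, neg_zero]) ha, neg_add_cancel, E_zero he]

theorem E_self {e : ι → F} (he : Q e = 0) (k : F) : E Q e (k • e) = 1 := by
  have hp : polar ⇑Q e (k • e) = 0 := by
    rw [QuadraticMap.polar_smul_right, QuadraticMap.polar_self, he]; simp
  refine act_ext fun x => ?_
  rw [E_act he hp, act_one, OrthChar.map_smul', he, QuadraticMap.polar_smul_left, smul_eq_mul]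
  match_scalars <;> ring

theorem E_of_eq_zero {e : ι → F} (he : e = 0) (a : ι → F) : E Q e a = 1 := by
  subst he
  refine act_ext fun x => ?_
  rw [E_act (map_zero Q) (QuadraticMap.polar_zero_left Q a), act_one]
  simp

theorem E_smul {e a : ι → F} (he : Q e = 0) (ha : polar ⇑Q e a = 0) (t : F) :
    E Q (t • e) a = E Q e (t • a) := by
  refine act_ext fun x => ?_
  rw [E_act (by rw [OrthChar.map_smul', he, mul_zero]) (by rw [QuadraticMap.polar_smul_left, ha, smul_zero]),
    E_act he (by rw [QuadraticMap.polar_smul_right, ha, smul_zero]), OrthChar.map_smul',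
    QuadraticMap.polar_smul_left, QuadraticMap.polar_smul_left, smul_eq_mul, smul_eq_mul]
  match_scalars <;> ring

theorem E_conj (g : Cfsg.isometryGroup F ⇑Q) {e a : ι → F} (he : Q e = 0) (ha : polar ⇑Q e a = 0) :
    g * E Q e a * g⁻¹ = E Q (act Q g e) (act Q g a) := by
  refine act_ext fun x => ?_
  obtain ⟨y, rfl⟩ : ∃ y, act Q g y = x := ⟨act Q g⁻¹ x, by rw [← act_mul, mul_inv_cancel, act_one]⟩
  rw [act_mul, act_mul, act_inv, E_act he ha, E_act (by rw [act_Q, he]) (by rw [act_polar, ha])]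
  simp only [act_Q, act_polar, act_add, act_sub, act_smul]

theorem E_siegel {u v : ι → F} (hu : Q u = 0) (hv : Q v = 0) (huv : polar ⇑Q u v = 0) (c : F) :
    ((E Q u (c • v) : GL ι F) : Matrix ι ι F) = Cfsg.siegelMatrix ⇑Q u v c := by
  have hp : polar ⇑Q u (c • v) = 0 := by rw [QuadraticMap.polar_smul_right, huv, smul_zero]
  rw [E_val hu hp]
  refine Matrix.ext_of_mulVec_single fun i => ?_
  rw [eMat_mulVec, Quad.siegel_mulVec, OrthChar.map_smul', hv, QuadraticMap.polar_smul_left, smul_eq_mul]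
  match_scalars <;> ring

theorem siegel_eq {u v : ι → F} (hu : Q u = 0) (hv : Q v = 0) (huv : polar ⇑Q u v = 0) (c : F)
    {g : Cfsg.isometryGroup F ⇑Q} (hg : ((g : GL ι F) : Matrix ι ι F) = Cfsg.siegelMatrix ⇑Q u v c) :
    g = E Q u (c • v) :=
  Subtype.ext (Units.ext (hg.trans (E_siegel hu hv huv c).symm))

/-! ### Generation -/

variable (Q) in
/-- the group generated by the long root elements -/
def T : Subgroup (Cfsg.isometryGroup F ⇑Q) :=
  Subgroup.closure {g | ∃ (u v : ι → F) (c : F), Q u = 0 ∧ Q v = 0 ∧ polar ⇑Q u v = 0 ∧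
    ((g : GL ι F) : Matrix ι ι F) = Cfsg.siegelMatrix ⇑Q u v c}

theorem E_mem_gen {u v : ι → F} (hu : Q u = 0) (hv : Q v = 0) (huv : polar ⇑Q u v = 0) (c : F) :
    E Q u (c • v) ∈ T Q := Subgroup.subset_closure ⟨u, v, c, hu, hv, huv, E_siegel hu hv huv c⟩

theorem T_normal : (T Q).Normal := by
  refine ⟨fun x hx g => ?_⟩
  refine (show T Q ≤ (T Q).comap (MulAut.conj g).toMonoidHom from ?_) hx
  rw [T, Subgroup.closure_le]
  rintro s ⟨u, v, c, hu, hv, huv, hs⟩
  rw [siegel_eq hu hv huv c hs]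
  change g * E Q u (c • v) * g⁻¹ ∈ T Q
  rw [E_conj g hu (by rw [QuadraticMap.polar_smul_right, huv, smul_zero]), act_smul]
  exact E_mem_gen (by rw [act_Q, hu]) (by rw [act_Q, hv]) (by rw [act_polar, huv]) c

theorem E_mem (hQ : (QuadraticMap.polarBilin Q).Nondegenerate) (h5 : 5 ≤ Fintype.card ι) {e a : ι → F}
    (he : Q e = 0) (ha : polar ⇑Q e a = 0) : E Q e a ∈ T Q := by
  rcases eq_or_ne e 0 with h0 | h0
  · rw [E_of_eq_zero h0]; exact one_mem _
  suffices key : ∀ c : F, polar ⇑Q e a = 0 ∧ E Q e (c • a) ∈ T Q by simpa using (key 1).2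
  have hmem := span_singular hQ h5 h0 he ha
  clear ha
  induction hmem using Submodule.span_induction with
  | mem x hx => exact fun c => ⟨hx.2, E_mem_gen he hx.1 hx.2 c⟩
  | zero => exact fun c => ⟨QuadraticMap.polar_zero_right Q e, by rw [smul_zero, E_zero he]; exact one_mem _⟩
  | add x y _ _ hx hy =>
    intro c
    refine ⟨by rw [QuadraticMap.polar_add_right, (hx c).1, (hy c).1, add_zero], ?_⟩
    rw [smul_add, E_add he (by rw [QuadraticMap.polar_smul_right, (hx c).1, smul_zero])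
      (by rw [QuadraticMap.polar_smul_right, (hy c).1, smul_zero])]
    exact mul_mem (hx c).2 (hy c).2
  | smul t x _ hx =>
    intro c
    exact ⟨by rw [QuadraticMap.polar_smul_right, (hx c).1, smul_zero], by rw [smul_smul]; exact (hx _).2⟩

theorem R_shift {v e : ι → F} (hv : Q v ≠ 0) (he : Q e = 0) (hev : polar ⇑Q e v = 0) :
    R Q (v + e) * R Q v = E Q ((Q v)⁻¹ • e) (-v) := by
  have hve : polar ⇑Q v e = 0 := by rw [QuadraticMap.polar_comm, hev]
  have hv' : Q (v + e) = Q v := by rw [map_add', he, hve, add_zero, add_zero]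
  refine act_ext fun x => ?_
  rw [act_mul, R_act (hv'.symm ▸ hv), R_act hv, hv', E_act (by rw [OrthChar.map_smul', he, mul_zero])
    (by rw [QuadraticMap.polar_smul_left, QuadraticMap.polar_neg_right, hev, neg_zero, smul_zero]),
    QuadraticMap.map_neg]
  simp only [sub_eq_add_neg, ← neg_smul, smul_neg, QuadraticMap.polar_add_left, QuadraticMap.polar_add_right,
    QuadraticMap.polar_neg_left, QuadraticMap.polar_smul_left, QuadraticMap.polar_smul_right,
    QuadraticMap.polar_self, hev, hve, smul_eq_mul]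
  match_scalars <;> (field_simp <;> ring)

variable (hQ : (QuadraticMap.polarBilin Q).Nondegenerate) (h5 : 5 ≤ Fintype.card ι)

include hQ h5 in
theorem R_congr {v w : ι → F} (hv : Q v ≠ 0) (hw : Q w = Q v) : R Q w * R Q v ∈ T Q := by
  have hv0 : v ≠ 0 := fun h => hv (by rw [h, map_zero])
  -- degenerate step
  have step : ∀ {v w : ι → F}, Q v ≠ 0 → Q (w - v) = 0 → polar ⇑Q (w - v) v = 0 → R Q w * R Q v ∈ T Q := by
    intro v w hv h1 h2
    have := R_shift hv h1 h2
    rw [add_sub_cancel] at this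
    rw [this]
    exact E_mem hQ h5 (by rw [OrthChar.map_smul', h1, mul_zero])
      (by rw [QuadraticMap.polar_smul_left, QuadraticMap.polar_neg_right, h2, neg_zero, smul_zero])
  by_cases hdep : ∃ t : F, w = t • v
  · obtain ⟨t, rfl⟩ := hdep
    have ht : t ≠ 0 := fun h => hv (by rw [← hw, h, zero_smul, map_zero])
    rw [R_smul hv ht, OrthChar.R_mul_self hv]
    exact one_mem _
  push Not at hdep
  have hli := li_pair hv0 hdep
  have hwv : Q (w - v) = 2 * Q v - polar ⇑Q v w := by
    rw [show w - v = w - (1 : F) • v by simp, Quad.map_sub_smul, hw]; ring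
  by_cases hc : 2 * Q v - polar ⇑Q v w = 0
  · refine step hv (hwv.trans hc) ?_
    rw [sub_eq_add_neg, QuadraticMap.polar_add_left, QuadraticMap.polar_neg_left, polar_self',
      QuadraticMap.polar_comm (f := ⇑Q) w v]
    linear_combination -hc
  have hd := finrank_perp (Q := Q) v
  obtain ⟨e0, hve0, he00, he0⟩ := exists_singular (Q := Q) (perp Q v) (by omega)
  rw [mem_perp] at hve0
  obtain ⟨f0, hf0, hef0, hvf0⟩ := exists_partner hQ he0 (v := v) (by rw [QuadraticMap.polar_comm]; exact hve0)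
    (li_pair hv0 fun t ht => by
      rw [ht, OrthChar.map_smul'] at he0
      rcases mul_eq_zero.1 he0 with h | h
      · exact he00 (by rw [ht, mul_self_eq_zero.1 h, zero_smul])
      · exact hv h)
  obtain ⟨z, hz1, hz2⟩ := Refl.exists_polar hQ hli
  obtain ⟨e1, he1v, he1, he1w⟩ := singular_sep (perp Q v) (mem_perp.2 hve0) (mem_perp.2 hvf0) he0 hf0 hef0
    (QuadraticMap.polarBilin Q w) ⟨z, mem_perp.2 hz1, by
      rw [QuadraticMap.polarBilin_apply_apply, hz2]; exact one_ne_zero⟩
  rw [mem_perp] at he1v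
  rw [QuadraticMap.polarBilin_apply_apply] at he1w
  obtain ⟨e, he⟩ : ∃ e, e = ((2 * Q v - polar ⇑Q v w) / polar ⇑Q w e1) • e1 := ⟨_, rfl⟩
  have heQ : Q e = 0 := by rw [he, OrthChar.map_smul', he1, mul_zero]
  have hev : polar ⇑Q v e = 0 := by rw [he, QuadraticMap.polar_smul_right, he1v, smul_zero]
  have hwe : polar ⇑Q w e = 2 * Q v - polar ⇑Q v w := by
    rw [he, QuadraticMap.polar_smul_right, smul_eq_mul, div_mul_cancel₀ _ he1w]
  have hu : Q (v + e) = Q v := by rw [map_add', heQ, hev, add_zero, add_zero]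
  have h1 : R Q (v + e) * R Q v ∈ T Q :=
    step hv (by rw [add_sub_cancel_left, heQ]) (by rw [add_sub_cancel_left, QuadraticMap.polar_comm, hev])
  have h2 : R Q w * R Q (v + e) ∈ T Q := by
    refine step (hu.symm ▸ hv) ?_ ?_
    · rw [show w - (v + e) = w - (1 : F) • (v + e) by simp, Quad.map_sub_smul, hu, hw,
        QuadraticMap.polar_add_left, QuadraticMap.polar_comm (f := ⇑Q) e w, hwe]
      ring
    · rw [sub_eq_add_neg, QuadraticMap.polar_add_left, QuadraticMap.polar_neg_left, polar_self', hu,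
        QuadraticMap.polar_add_right, hwe, QuadraticMap.polar_comm (f := ⇑Q) w v]
      ring
  have := mul_mem h2 h1
  rwa [mul_assoc, ← mul_assoc (R Q (v + e)), OrthChar.R_mul_self (hu.symm ▸ hv), one_mul] at this

include hQ h5 in
theorem omega_le : Cfsg.Omega F ⇑Q ≤ T Q := by
  have := T_normal (Q := Q)
  let π : Cfsg.isometryGroup F ⇑Q →* Cfsg.isometryGroup F ⇑Q ⧸ T Q := QuotientGroup.mk' _
  have hW : Refl.W Q ≤ (Subgroup.center _).comap π := by
    rw [Refl.W, Subgroup.closure_le]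
    rintro r ⟨v, hv, hr⟩
    have hrv : r = R Q v := Subtype.ext (Units.ext (hr.trans (OrthChar.R_val hv).symm))
    rw [SetLike.mem_coe, Subgroup.mem_comap, Subgroup.mem_center_iff]
    intro y
    obtain ⟨g, rfl⟩ := QuotientGroup.mk'_surjective (T Q) y
    have h1 : g * R Q v * g⁻¹ * R Q v ∈ T Q := by
      rw [R_conj g hv]
      exact R_congr hQ h5 hv (act_Q g v)
    have e := (QuotientGroup.eq_one_iff _).2 h1
    rw [hrv]
    change π g * π (R Q v) = π (R Q v) * π g
    have e' : π g * π (R Q v) * (π g)⁻¹ * π (R Q v) = 1 := by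
      rw [← map_inv, ← map_mul, ← map_mul, ← map_mul]; exact e
    have e2 : π (R Q v) * π (R Q v) = 1 := by rw [← map_mul, OrthChar.R_mul_self hv, map_one]
    have e3 := eq_inv_of_mul_eq_one_left e'
    rw [inv_eq_of_mul_eq_one_right e2] at e3
    exact mul_inv_eq_iff_eq_mul.1 e3
  rw [Cfsg.Omega, commutator_def, Subgroup.commutator_le]
  intro g _ h _
  have hg : g ∈ Refl.W Q := by rw [Refl.W_eq_top hQ (Or.inr (by omega))]; trivial
  have hc := Subgroup.mem_center_iff.1 (Subgroup.mem_comap.1 (hW hg)) (π h)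
  refine (QuotientGroup.eq_one_iff _).1 ?_
  change π ⁅g, h⁆ = 1
  rw [commutatorElement_def, map_mul, map_mul, map_mul, map_inv, map_inv, ← hc]
  group

include hQ h5 in
theorem root_commutator {u v : ι → F} (hu : Q u = 0) (hv : Q v = 0) (huv : polar ⇑Q u v = 0) (c : F) :
    ∃ g ∈ T Q, ∃ h ∈ T Q, ⁅g, h⁆ = E Q u (c • v) := by
  rcases eq_or_ne u 0 with h0 | h0
  · exact ⟨1, one_mem _, 1, one_mem _, by rw [E_of_eq_zero h0]; simp⟩
  by_cases hdep : ∃ t : F, v = t • u
  · obtain ⟨t, rfl⟩ := hdep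
    exact ⟨1, one_mem _, 1, one_mem _, by rw [smul_smul, E_self hu]; simp⟩
  have hd := finrank_perp2 (Q := Q) u v
  obtain ⟨a, ⟨hau, hav⟩, b, ⟨hbu, hbv⟩, hab⟩ := exists_not_isotropic hQ (perp Q u ⊓ perp Q v) (by omega)
  rw [SetLike.mem_coe, mem_perp] at hau hav hbu hbv
  obtain ⟨b', hb'⟩ : ∃ b', b' = (-(polar ⇑Q a b)⁻¹) • b := ⟨_, rfl⟩
  have hvb : polar ⇑Q v b' = 0 := by rw [hb', QuadraticMap.polar_smul_right, hbv, smul_zero]
  have hub : polar ⇑Q b' u = 0 := by
    rw [hb', QuadraticMap.polar_smul_left, QuadraticMap.polar_comm (f := ⇑Q) b u, hbu, smul_zero]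
  have hba : polar ⇑Q b' a = -1 := by
    rw [hb', QuadraticMap.polar_smul_left, smul_eq_mul, QuadraticMap.polar_comm (f := ⇑Q) b a,
      neg_mul, inv_mul_cancel₀ hab]
  have hca : polar ⇑Q u (c • a) = 0 := by rw [QuadraticMap.polar_smul_right, hau, smul_zero]
  have hcv : polar ⇑Q u (c • v) = 0 := by rw [QuadraticMap.polar_smul_right, huv, smul_zero]
  refine ⟨E Q v b', E_mem hQ h5 hv hvb, E Q u (c • a), E_mem hQ h5 hu hca, ?_⟩
  have hgu : act Q (E Q v b') u = u := by
    rw [E_act hv hvb, QuadraticMap.polar_comm (f := ⇑Q) v u, huv, hub]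
    simp
  have hga : act Q (E Q v b') (c • a) = c • a + c • v := by
    rw [act_smul, E_act hv hvb, hav, hba]
    simp [smul_add]
  rw [commutatorElement_def, E_conj _ hu hca, hgu, hga, E_add hu hca hcv, mul_assoc]
  rw [show E Q u (c • v) * (E Q u (c • a))⁻¹ = (E Q u (c • a))⁻¹ * E Q u (c • v) from ?_]
  · rw [← mul_assoc, mul_inv_cancel, one_mul]
  rw [← E_neg hu hca, ← E_add hu hcv (by rw [QuadraticMap.polar_neg_right, hca, neg_zero]),
    ← E_add hu (by rw [QuadraticMap.polar_neg_right, hca, neg_zero]) hcv, add_comm]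

include hQ h5 in
theorem siegel_commutatorSet {u v : ι → F} (hu : Q u = 0) (hv : Q v = 0) (huv : polar ⇑Q u v = 0) (c : F)
    {g : Cfsg.isometryGroup F ⇑Q} (hg : ((g : GL ι F) : Matrix ι ι F) = Cfsg.siegelMatrix ⇑Q u v c) :
    g ∈ commutatorSet (Cfsg.isometryGroup F ⇑Q) ∧ g ∈ Cfsg.Omega F ⇑Q := by
  obtain ⟨x, -, y, -, hxy⟩ := root_commutator hQ h5 hu hv huv c
  rw [siegel_eq hu hv huv c hg, ← hxy]
  exact ⟨⟨x, y, rfl⟩, Subgroup.commutator_mem_commutator (Subgroup.mem_top x) (Subgroup.mem_top y)⟩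

include hQ h5 in
theorem omega_eq : Cfsg.Omega F ⇑Q = T Q := by
  refine le_antisymm (omega_le hQ h5) ?_
  rw [T, Subgroup.closure_le]
  rintro g ⟨u, v, c, hu, hv, huv, hg⟩
  exact (siegel_commutatorSet hQ h5 hu hv huv c hg).2

include hQ h5 in
theorem perfect : ⁅Cfsg.Omega F ⇑Q, Cfsg.Omega F ⇑Q⁆ = Cfsg.Omega F ⇑Q := by
  rw [omega_eq hQ h5]
  refine le_antisymm (Subgroup.commutator_le.2 fun x hx y hy => ?_) ?_
  · rw [commutatorElement_def]
    exact mul_mem (mul_mem (mul_mem hx hy) (inv_mem hx)) (inv_mem hy)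
  · conv_lhs => rw [T]
    rw [Subgroup.closure_le]
    rintro g ⟨u, v, c, hu, hv, huv, hg⟩
    obtain ⟨x, hx, y, hy, hxy⟩ := root_commutator hQ h5 hu hv huv c
    rw [siegel_eq hu hv huv c hg, ← hxy]
    exact Subgroup.commutator_mem_commutator hx hy

end CfsgLib.Lie.OrthRoot
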