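import Cfsg.Agent.Lie.OrthChar
import Cfsg.Agent.Lie.OrthRoot

/-!
The Dickson invariant, and the index of the derived subgroup of an orthogonal group in characteristic two.
-/

set_option autoImplicit false
set_option linter.unusedSectionVars false

namespace CfsgLib.Lie.OrthDickson

open QuadraticMap
open scoped commutatorElement
open CfsgLib.Lie.Refl (act act_mul act_one act_inv act_inj act_Q act_polar act_ext)
open CfsgLib.Lie.OrthChar (R R_val R_act R_mul_self R_smul R_conj R_inv R_det map_smul' map_add' polar_self')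

variable {F : Type*} [Field F] [Fintype F] {ι : Type} [Fintype ι] [DecidableEq ι]
  {Q : QuadraticForm F (ι → F)}

/-- the fixed space -/
def fix (g : Cfsg.isometryGroup F ⇑Q) : Submodule F (ι → F) :=
  LinearMap.ker (Matrix.toLin' ((g : GL ι F) : Matrix ι ι F) - LinearMap.id)

theorem mem_fix {g : Cfsg.isometryGroup F ⇑Q} {x : ι → F} : x ∈ fix g ↔ act Q g x = x := by
  rw [fix, LinearMap.mem_ker, LinearMap.sub_apply, sub_eq_zero]
  rfl

theorem fix_one : fix (1 : Cfsg.isometryGroup F ⇑Q) = ⊤ :=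
  top_le_iff.1 fun _ _ => mem_fix.2 (act_one _)

/-- parity of the codimension of the fixed space -/
noncomputable def sgn (g : Cfsg.isometryGroup F ⇑Q) : ℤˣ :=
  (-1) ^ (Fintype.card ι + Module.finrank F (fix g))

theorem sgn_one : sgn (1 : Cfsg.isometryGroup F ⇑Q) = 1 := by
  rw [sgn, fix_one, finrank_top, Module.finrank_fintype_fun_eq_card, ← two_mul, pow_mul]
  simp

theorem act_inv' (g : Cfsg.isometryGroup F ⇑Q) (x : ι → F) : act Q g (act Q g⁻¹ x) = x := by
  rw [← act_mul, mul_inv_cancel, act_one]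

theorem sgn_mul_refl (hQ : (QuadraticMap.polarBilin Q).Nondegenerate) (g : Cfsg.isometryGroup F ⇑Q)
    {v : ι → F} (hv : Q v ≠ 0) : sgn (g * R Q v) = - sgn g := by
  classical
  let L : (ι → F) →ₗ[F] (ι → F) := Matrix.toLin' (((g⁻¹ : Cfsg.isometryGroup F ⇑Q) : GL ι F) : Matrix ι ι F) - LinearMap.id
  have hL : ∀ x, L x = act Q g⁻¹ x - x := fun x => rfl
  have hK : ∀ x, x ∈ fix g ↔ L x = 0 := fun x => by
    rw [mem_fix, hL, sub_eq_zero]
    exact ⟨fun h => by conv_lhs => rw [← h, act_inv], fun h => by conv_lhs => rw [← h, act_inv']⟩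
  have hperp : ∀ u, ∀ k ∈ fix g, polar ⇑Q (L u) k = 0 := fun u k hk => by
    have h1 : act Q g⁻¹ k = k := by conv_lhs => rw [← mem_fix.1 hk, act_inv]
    rw [hL, sub_eq_add_neg, polar_add_left, polar_neg_left]
    conv_lhs => arg 1; rw [← h1, act_polar]
    exact add_neg_cancel _
  have hker : LinearMap.ker L = fix g := by
    ext x; rw [LinearMap.mem_ker, ← hK]
  have hrange : ∀ w, (∀ k ∈ fix g, polar ⇑Q w k = 0) → w ∈ LinearMap.range L := by
    have hB : LinearMap.BilinForm.Nondegenerate (QuadraticMap.polarBilin Q) := hQ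
    have hle : LinearMap.range L ≤ LinearMap.BilinForm.orthogonal (QuadraticMap.polarBilin Q) (fix g) := by
      rintro _ ⟨u, rfl⟩ k hk
      show polar ⇑Q k (L u) = 0
      rw [polar_comm]; exact hperp u k hk
    have heq := Submodule.eq_of_le_of_finrank_le hle (by
      rw [LinearMap.BilinForm.finrank_orthogonal hB]
      have := LinearMap.finrank_range_add_finrank_ker L
      rw [hker] at this
      omega)
    intro w hw
    rw [heq]
    intro k hk
    show polar ⇑Q k w = 0
    rw [polar_comm]; exact hw k hk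
  have hiff : ∀ x, x ∈ fix (g * R Q v) ↔ L x = (-((Q v)⁻¹ * polar ⇑Q v x)) • v := fun x => by
    rw [mem_fix, act_mul, R_act hv, hL, neg_smul]
    constructor
    · intro h
      have h9 := congrArg (act Q g⁻¹) h
      rw [act_inv] at h9
      rw [← h9]; abel
    · intro h
      have h9 : act Q g⁻¹ x = x - ((Q v)⁻¹ * polar ⇑Q v x) • v := by
        rw [sub_eq_iff_eq_add] at h; rw [h]; abel
      rw [← h9, act_inv']
  suffices h : Module.finrank F (fix (g * R Q v)) + 1 = Module.finrank F (fix g) ∨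
      Module.finrank F (fix (g * R Q v)) = Module.finrank F (fix g) + 1 by
    unfold sgn
    rcases h with h | h
    · rw [← h, ← add_assoc, pow_succ, mul_neg_one, neg_neg]
    · rw [h, ← add_assoc, pow_succ, mul_neg_one]
  by_cases hvI : v ∈ LinearMap.range L
  · obtain ⟨u, hu⟩ := hvI
    refine Or.inr ?_
    have hpu : polar ⇑Q v u = - Q v := by
      have h1 : Q (u + v) = Q u := by rw [← hu, hL, add_sub_cancel, act_Q]
      rw [map_add', polar_comm] at h1
      linear_combination h1
    have huK : u ∉ fix g := fun h => hv (by rw [← hu, (hK u).1 h]; simp)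
    have hset : fix (g * R Q v) = fix g ⊔ Submodule.span F {u} := by
      refine le_antisymm (fun x hx => ?_) (sup_le (fun k hk => ?_) ?_)
      · rw [hiff] at hx
        refine Submodule.mem_sup.2 ⟨x + ((Q v)⁻¹ * polar ⇑Q v x) • u, ?_, -((Q v)⁻¹ * polar ⇑Q v x) • u,
          Submodule.smul_mem _ _ (Submodule.mem_span_singleton_self u), by rw [neg_smul]; abel⟩
        rw [hK, map_add, map_smul, hu, hx, ← add_smul, neg_add_cancel, zero_smul]
      · have h0 : polar ⇑Q v k = 0 := by rw [← hu]; exact hperp u k hk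
        rw [hiff, (hK k).1 hk, h0]; simp
      · rw [Submodule.span_le, Set.singleton_subset_iff, SetLike.mem_coe, hiff, hu, hpu, mul_neg,
          inv_mul_cancel₀ hv, neg_neg, one_smul]
    have hdis : fix g ⊓ Submodule.span F {u} = ⊥ := by
      rw [Submodule.eq_bot_iff]
      rintro x ⟨hx, hxu⟩
      obtain ⟨c, rfl⟩ := Submodule.mem_span_singleton.1 hxu
      by_cases hc : c = 0
      · rw [hc, zero_smul]
      · exact absurd (by simpa [smul_smul, hc] using (fix g).smul_mem c⁻¹ hx) huK
    have h := Submodule.finrank_sup_add_finrank_inf_eq (fix g) (Submodule.span F {u})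
    rw [hdis, finrank_bot, ← hset, finrank_span_singleton (fun h0 => huK (by rw [h0]; exact (fix g).zero_mem))] at h
    omega
  · refine Or.inl ?_
    obtain ⟨k, hk, hkv⟩ : ∃ k ∈ fix g, polar ⇑Q v k ≠ 0 := by
      by_contra hc
      push Not at hc
      exact hvI (hrange v hc)
    let φ : fix g →ₗ[F] F := (QuadraticMap.polarBilin Q v).comp (fix g).subtype
    have hφ : Function.Surjective φ := fun c => ⟨(c / polar ⇑Q v k) • ⟨k, hk⟩, by
      simp [φ, div_mul_cancel₀ _ hkv]⟩
    have h := LinearMap.finrank_range_add_finrank_ker φ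
    rw [LinearMap.range_eq_top.2 hφ, finrank_top, Module.finrank_self] at h
    have hset : fix (g * R Q v) = (LinearMap.ker φ).map (fix g).subtype := by
      ext x
      rw [hiff, Submodule.mem_map]
      constructor
      · intro hx
        have ht : (Q v)⁻¹ * polar ⇑Q v x = 0 := by
          by_contra ht
          refine hvI ⟨(-((Q v)⁻¹ * polar ⇑Q v x))⁻¹ • x, ?_⟩
          rw [map_smul, hx, smul_smul, inv_mul_cancel₀ (neg_ne_zero.2 ht), one_smul]
        rw [ht, neg_zero, zero_smul] at hx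
        exact ⟨⟨x, (hK x).2 hx⟩, (mul_eq_zero.1 ht).resolve_left (inv_ne_zero hv), rfl⟩
      · rintro ⟨y, hy, rfl⟩
        have hy' : polar ⇑Q v y.1 = 0 := hy
        rw [Submodule.subtype_apply, (hK _).1 y.2, hy']; simp
    rw [hset, ← (Submodule.equivMapOfInjective _ (fix g).subtype_injective _).finrank_eq]
    omega

/-- the Dickson homomorphism -/
noncomputable def dickson (hQ : (QuadraticMap.polarBilin Q).Nondegenerate)
    (h : Fintype.card F ≠ 2 ∨ Fintype.card ι ≠ 4) : Cfsg.isometryGroup F ⇑Q →* ℤˣ :=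
  MonoidHom.mk' sgn (fun g w => by
    have hw : w ∈ Refl.W Q := by rw [Refl.W_eq_top hQ h]; trivial
    clear h
    revert g
    refine Subgroup.closure_induction (p := fun w _ => ∀ g, sgn (g * w) = sgn g * sgn w) ?_ ?_ ?_ ?_ hw
    · rintro r ⟨v, hv, hr⟩ g
      obtain rfl : r = R Q v := Subtype.ext (Units.ext (by rw [hr, R_val hv]))
      rw [sgn_mul_refl hQ g hv, show sgn (R Q v) = -1 by
        rw [← one_mul (R Q v), sgn_mul_refl hQ 1 hv, sgn_one], mul_neg_one]
    · intro g; rw [mul_one, sgn_one, mul_one]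
    · intro a b _ _ ha hb g
      rw [← mul_assoc, hb, ha, mul_assoc, ← hb]
    · intro a _ ha g
      have h1 := ha (g * a⁻¹)
      rw [inv_mul_cancel_right] at h1
      have h2 := ha a⁻¹
      rw [inv_mul_cancel, sgn_one] at h2
      rw [h1, mul_assoc, mul_comm (sgn a), ← h2, mul_one])

theorem dickson_refl (hQ : (QuadraticMap.polarBilin Q).Nondegenerate)
    (h : Fintype.card F ≠ 2 ∨ Fintype.card ι ≠ 4) {v : ι → F} (hv : Q v ≠ 0) :
    dickson hQ h (R Q v) = -1 := by
  show sgn (R Q v) = -1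
  rw [← one_mul (R Q v), sgn_mul_refl hQ 1 hv, sgn_one]

variable [CharP F 2]

theorem exists_sqrt (a : F) : ∃ r : F, r * r = a := by
  obtain ⟨r, hr⟩ := FiniteField.isSquare_of_char_two (ringChar.eq F 2) a
  exact ⟨r, hr.symm⟩

theorem conj_step {v w : ι → F} (hv : Q v = 1) (hw : Q w = 1) (h : polar ⇑Q v w ≠ 0) :
    ∃ g : Cfsg.isometryGroup F ⇑Q, act Q g v = w := by
  have h2 : (2 : F) = 0 := CharTwo.two_eq_zero
  have hz : Q (v + w) = polar ⇑Q v w := by rw [map_add', hv, hw]; linear_combination h2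
  refine ⟨R Q (v + w), ?_⟩
  rw [R_act (by rw [hz]; exact h), hz, polar_add_left, polar_self', hv, h2, zero_mul, zero_add,
    polar_comm (f := ⇑Q) w v, inv_mul_cancel₀ h, one_smul, ← sub_sub, sub_self, zero_sub]
  funext i
  exact CharTwo.neg_eq (w i)

theorem exists_mid (hQ : (QuadraticMap.polarBilin Q).Nondegenerate)
    (h : Fintype.card F ≠ 2 ∨ Fintype.card ι ≠ 4) {v w : ι → F} (hv : Q v = 1) (hw : Q w = 1)
    (hvw : polar ⇑Q v w = 0) (hne : v ≠ w) :
    ∃ x, Q x = 1 ∧ polar ⇑Q v x ≠ 0 ∧ polar ⇑Q x w ≠ 0 := by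
  classical
  have h2 : (2 : F) = 0 := CharTwo.two_eq_zero
  have hpv : ∀ x : ι → F, polar ⇑Q x x = 0 := fun x => by rw [polar_self', h2, zero_mul]
  have hv0 : v ≠ 0 := fun h0 => by rw [h0, QuadraticMap.map_zero] at hv; exact zero_ne_one hv
  have hli : ∀ t : F, w ≠ t • v := fun t ht => by
    have : t * t = 1 := by rw [ht, map_smul', hv, mul_one] at hw; exact hw
    have ht1 : t = 1 := by
      have h9 : (t + 1) * (t + 1) = 0 := by linear_combination this + (t + 1) * h2
      have := mul_self_eq_zero.1 h9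
      linear_combination this - h2
    exact hne (by rw [ht, ht1, one_smul])
  obtain ⟨z1, hz1, hz1'⟩ := Refl.exists_polar hQ (OrthRoot.li_pair hv0 hli)
  obtain ⟨z2, hz2, hz2'⟩ := Refl.exists_polar hQ (OrthRoot.li_pair' hv0 hli)
  have hz : ∀ b, polar ⇑Q v (z2 + b • z1) = 1 ∧ polar ⇑Q w (z2 + b • z1) = b := fun b => by
    simp [polar_add_right, polar_smul_right, hz1, hz1', hz2, hz2']
  have hsum : Q (v + w) = 0 := by rw [map_add', hv, hw, hvw]; linear_combination h2
  by_cases hb : ∃ b : F, b ≠ 0 ∧ b ≠ 1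
  · obtain ⟨b, hb0, hb1⟩ := hb
    have hb1' : (1 : F) + b ≠ 0 := fun h0 => hb1 (by linear_combination h0 - h2)
    obtain ⟨z, hzdef⟩ : ∃ z, z = z2 + b • z1 := ⟨_, rfl⟩
    obtain ⟨hzv, hzw⟩ := hz b
    rw [← hzdef] at hzv hzw
    refine ⟨z + ((1 + Q z) / (1 + b)) • (v + w), ?_, ?_, ?_⟩
    · rw [map_add', map_smul', hsum, polar_smul_right, polar_add_right, polar_comm (f := ⇑Q) _ v, hzv,
        polar_comm (f := ⇑Q) _ w, hzw, smul_eq_mul, div_mul_cancel₀ _ hb1']
      linear_combination Q z * h2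
    · rw [polar_add_right, polar_smul_right, polar_add_right, hzv, hpv, hvw]; simp
    · rw [polar_comm, polar_add_right, polar_smul_right, polar_add_right, hzw, hpv, polar_comm (f := ⇑Q) w v, hvw]
      simp [hb0]
  · push Not at hb
    have hall : ∀ b : F, b = 0 ∨ b = 1 := fun b => (em (b = 0)).imp_right (hb b)
    obtain ⟨z, hzdef⟩ : ∃ z, z = z2 + (1 : F) • z1 := ⟨_, rfl⟩
    obtain ⟨hzv, hzw⟩ := hz 1
    rw [← hzdef] at hzv hzw
    suffices hk : ∃ k, polar ⇑Q v k = 0 ∧ polar ⇑Q w k = 0 ∧ Q z + polar ⇑Q z k + Q k = 1 by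
      obtain ⟨k, hk1, hk2, hk3⟩ := hk
      refine ⟨z + k, by rw [map_add']; linear_combination hk3, ?_, ?_⟩
      · rw [polar_add_right, hzv, hk1]; simp
      · rw [polar_comm, polar_add_right, hzw, hk2]; simp
    rcases hall (Q z) with hQz | hQz
    swap
    · exact ⟨0, polar_zero_right Q v, polar_zero_right Q w, by rw [polar_zero_right Q z, QuadraticMap.map_zero, hQz]; ring⟩
    let L : (ι → F) →ₗ[F] F × F := (QuadraticMap.polarBilin Q v).prod (QuadraticMap.polarBilin Q w)
    have hL : ∀ x, L x = 0 ↔ polar ⇑Q v x = 0 ∧ polar ⇑Q w x = 0 := fun x => by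
      simp [L, Prod.ext_iff]
    obtain ⟨k, l, hk, hl, hkl⟩ : ∃ k l, L k = 0 ∧ L l = 0 ∧ polar ⇑Q k l = 1 := by
      by_contra hc
      push Not at hc
      have hc' : ∀ k l, L k = 0 → L l = 0 → polar ⇑Q k l = 0 := fun k l hk hl =>
        (hall _).resolve_right (hc k l hk hl)
      let φ : LinearMap.ker L →ₗ[F] F × F :=
        ((QuadraticMap.polarBilin Q z2).prod (QuadraticMap.polarBilin Q z1)).comp (LinearMap.ker L).subtype
      have hφ : Function.Injective φ := (injective_iff_map_eq_zero φ).2 fun k hk => by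
        have e1 : polar ⇑Q z2 k.1 = 0 := congrArg Prod.fst hk
        have e2 : polar ⇑Q z1 k.1 = 0 := congrArg Prod.snd hk
        refine Subtype.ext (hQ.1 _ fun x => ?_)
        show polar ⇑Q k.1 x = 0
        have hx : L (x - polar ⇑Q v x • z2 - polar ⇑Q w x • z1) = 0 := by
          rw [hL]
          constructor <;> simp [sub_eq_add_neg, polar_add_right, polar_neg_right, polar_smul_right, hz1, hz1', hz2, hz2']
        have h9 := hc' _ _ k.2 hx
        simp only [sub_eq_add_neg, polar_add_right, polar_neg_right, polar_smul_right, smul_eq_mul,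
          polar_comm (f := ⇑Q) k.1 z2, polar_comm (f := ⇑Q) k.1 z1, e1, e2] at h9
        simpa using h9
      have h1 := LinearMap.finrank_le_finrank_of_injective hφ
      have hLs : Function.Surjective L := fun p => ⟨p.1 • z2 + p.2 • z1, by
        simp [L, polar_add_right, polar_smul_right, hz1, hz1', hz2, hz2']⟩
      have h3 := LinearMap.finrank_range_add_finrank_ker L
      rw [LinearMap.range_eq_top.2 hLs, finrank_top, Module.finrank_prod, Module.finrank_self,
        Module.finrank_fintype_fun_eq_card] at h3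
      rw [Module.finrank_prod, Module.finrank_self] at h1
      have h4 : 2 ≤ Module.finrank F (LinearMap.ker L) := by
        have hle : Submodule.span F (Set.range ![v, w]) ≤ LinearMap.ker L := by
          rw [Submodule.span_le]
          rintro _ ⟨i, rfl⟩
          fin_cases i
          · simp [L, hpv, polar_comm (f := ⇑Q) w v, hvw]
          · simp [L, hpv, hvw]
        have := Submodule.finrank_mono hle
        rw [finrank_span_eq_card (OrthRoot.li_pair hv0 hli), Fintype.card_fin] at this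
        exact this
      refine h.elim (fun hq => hq ?_) (fun h4' => h4' (by omega))
      rw [← Finset.card_univ, show (Finset.univ : Finset F) = {0, 1} by
        ext b; simpa using hall b, Finset.card_pair zero_ne_one]
    obtain ⟨hk1, hk2⟩ := (hL k).1 hk
    obtain ⟨hl1, hl2⟩ := (hL l).1 hl
    rcases hall (Q z + polar ⇑Q z k + Q k) with a1 | a1
    swap
    · exact ⟨k, hk1, hk2, a1⟩
    rcases hall (Q z + polar ⇑Q z l + Q l) with a2 | a2
    swap
    · exact ⟨l, hl1, hl2, a2⟩
    refine ⟨k + l, by rw [polar_add_right, hk1, hl1, add_zero], by rw [polar_add_right, hk2, hl2, add_zero], ?_⟩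
    rw [polar_add_right, map_add', hkl]
    linear_combination a1 + a2 - hQz

theorem omega_index (hQ : (QuadraticMap.polarBilin Q).Nondegenerate)
    (h : Fintype.card F ≠ 2 ∨ Fintype.card ι ≠ 4) [Nonempty ι] :
    (Cfsg.Omega F ⇑Q).index = 2 := by
  classical
  obtain ⟨v0, hv0⟩ : ∃ v, Q v ≠ 0 := by
    by_contra hc
    push Not at hc
    have := hQ.1 (Pi.single (Classical.arbitrary ι) 1) fun y => by
      show polar ⇑Q _ y = 0
      simp [polar, hc]
    simpa using congrFun this (Classical.arbitrary ι)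
  obtain ⟨r, hr⟩ := exists_sqrt (Q v0)⁻¹
  obtain ⟨v, hv⟩ : ∃ v, Q v = 1 := ⟨r • v0, by rw [map_smul', hr, inv_mul_cancel₀ hv0]⟩
  have hv1 : Q v ≠ 0 := by rw [hv]; exact one_ne_zero
  have hconj : ∀ w, Q w = 1 → R Q v * R Q w ∈ Cfsg.Omega F ⇑Q := by
    intro w hw
    obtain ⟨g, hg⟩ : ∃ g : Cfsg.isometryGroup F ⇑Q, act Q g v = w := by
      by_cases h0 : v = w
      · exact ⟨1, by rw [act_one, h0]⟩
      by_cases hp : polar ⇑Q v w = 0
      · obtain ⟨x, hx, h1, h3⟩ := exists_mid hQ h hv hw hp h0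
        obtain ⟨a, ha⟩ := conj_step hv hx h1
        obtain ⟨b, hb⟩ := conj_step hx hw h3
        exact ⟨b * a, by rw [act_mul, ha, hb]⟩
      · exact conj_step hv hw hp
    rw [← hg, ← R_conj g hv1, show R Q v * (g * R Q v * g⁻¹) = ⁅R Q v, g⁆ by
      rw [commutatorElement_def, R_inv hv1]; group]
    exact Subgroup.commutator_mem_commutator (Subgroup.mem_top _) (Subgroup.mem_top _)
  have hΩ : ∀ x ∈ Cfsg.Omega F ⇑Q, dickson hQ h x = 1 := fun x hx =>
    (Abelianization.commutator_subset_ker (dickson hQ h)) hx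
  haveI : (Cfsg.Omega F ⇑Q).Normal := inferInstanceAs (commutator (Cfsg.isometryGroup F ⇑Q)).Normal
  rw [Subgroup.index_eq_two_iff]
  refine ⟨R Q v, fun b => ?_⟩
  have hor : b * R Q v ∈ Cfsg.Omega F ⇑Q ∨ b ∈ Cfsg.Omega F ⇑Q := by
    have hb : b ∈ Refl.W Q := by rw [Refl.W_eq_top hQ h]; trivial
    refine Subgroup.closure_induction (p := fun b _ => b * R Q v ∈ Cfsg.Omega F ⇑Q ∨ b ∈ Cfsg.Omega F ⇑Q)
      ?_ (Or.inr (one_mem _)) ?_ ?_ hb
    · rintro s ⟨u, hu, hs⟩
      obtain rfl : s = R Q u := Subtype.ext (Units.ext (by rw [hs, R_val hu]))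
      obtain ⟨t, ht⟩ := exists_sqrt (Q u)⁻¹
      have ht0 : t ≠ 0 := fun h0 => inv_ne_zero hu (by rw [← ht, h0, mul_zero])
      left
      rw [← R_smul hu ht0]
      refine (Subgroup.Normal.mem_comm_iff inferInstance).1 (hconj _ ?_)
      rw [map_smul', ht, inv_mul_cancel₀ hu]
    · intro a c _ _ ha hc
      rcases ha with ha | ha <;> rcases hc with hc | hc
      · right
        have h9 := mul_mem ha ((Subgroup.Normal.mem_comm_iff inferInstance).1 hc)
        rwa [← mul_assoc, mul_assoc a, R_mul_self hv1, mul_one] at h9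
      · left
        rw [show a * c * R Q v = (a * R Q v) * ((R Q v)⁻¹ * c * R Q v) by group]
        exact mul_mem ha (by simpa using Subgroup.Normal.conj_mem inferInstance c hc (R Q v)⁻¹)
      · left; rw [mul_assoc]; exact mul_mem ha hc
      · right; exact mul_mem ha hc
    · intro a _ ha
      rcases ha with ha | ha
      · left
        refine (Subgroup.Normal.mem_comm_iff inferInstance).1 ?_
        have h9 := inv_mem ha
        rwa [mul_inv_rev, R_inv hv1] at h9
      · right; exact inv_mem ha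
  rcases hor with hb | hb
  · exact Or.inl ⟨hb, fun hb' => by
      have := hΩ _ hb
      rw [map_mul, hΩ b hb', dickson_refl hQ h hv1] at this
      simp at this⟩
  · exact Or.inr ⟨hb, fun hb' => by
      have := hΩ _ hb'
      rw [map_mul, hΩ b hb, dickson_refl hQ h hv1] at this
      simp at this⟩

end CfsgLib.Lie.OrthDickson
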