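import Cfsg.Agent.Lie.OrthOrder

/-!
The two families of maximal totally singular subspaces of a hyperbolic space.
-/

set_option autoImplicit false
set_option linter.unusedSectionVars false

namespace CfsgLib.Lie.OrthFamilies

open QuadraticMap

variable {F V : Type*} [Field F] [AddCommGroup V] [Module F V] [FiniteDimensional F V]
  {Q : QuadraticForm F V} {m : ℕ}

/-- totally singular of dimension `m` -/
def MTS (Q : QuadraticForm F V) (m : ℕ) (W : Submodule F V) : Prop :=
  Module.finrank F W = m ∧ ∀ w ∈ W, Q w = 0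

/-- orthogonal space -/
def oc (Q : QuadraticForm F V) (W : Submodule F V) : Submodule F V :=
  LinearMap.BilinForm.orthogonal (QuadraticMap.polarBilin Q) W

theorem mem_oc {W : Submodule F V} {x : V} : x ∈ oc Q W ↔ ∀ w ∈ W, polar ⇑Q w x = 0 := Iff.rfl

theorem map_add'' (x y : V) : Q (x + y) = Q x + Q y + polar ⇑Q x y := by
  rw [QuadraticMap.polar]; ring

theorem orth_of_singular {W : Submodule F V} (h : ∀ w ∈ W, Q w = 0) {x y : V} (hx : x ∈ W) (hy : y ∈ W) :
    polar ⇑Q x y = 0 := by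
  rw [QuadraticMap.polar, h x hx, h y hy, h _ (W.add_mem hx hy)]; ring

theorem singular_sup {W : Submodule F V} (h : ∀ w ∈ W, Q w = 0) {x : V} (hx : Q x = 0)
    (hWx : ∀ w ∈ W, polar ⇑Q w x = 0) : ∀ w ∈ W ⊔ Submodule.span F {x}, Q w = 0 := by
  intro w hw
  obtain ⟨a, ha, b, hb, rfl⟩ := Submodule.mem_sup.1 hw
  obtain ⟨c, rfl⟩ := Submodule.mem_span_singleton.1 hb
  rw [map_add'', h a ha, QuadraticMap.map_smul, hx, polar_smul_right, hWx a ha]
  simp

variable (hQ : (QuadraticMap.polarBilin Q).Nondegenerate) (hV : Module.finrank F V = 2 * m)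

include hQ hV in
theorem finrank_oc (W : Submodule F V) : Module.finrank F (oc Q W) = 2 * m - Module.finrank F W := by
  rw [oc, LinearMap.BilinForm.finrank_orthogonal hQ, hV]

include hQ hV in
theorem oc_self {W : Submodule F V} (hW : MTS Q m W) : oc Q W = W := by
  refine (Submodule.eq_of_le_of_finrank_le (fun x hx => mem_oc.2 fun w hw => orth_of_singular hW.2 hw hx) ?_).symm
  rw [finrank_oc hQ hV, hW.1]
  omega

theorem finrank_sup_span {W : Submodule F V} {x : V} (hx : x ∉ W) :
    Module.finrank F (W ⊔ Submodule.span F {x} : Submodule F V) = Module.finrank F W + 1 := by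
  have hdis : W ⊓ Submodule.span F {x} = ⊥ := by
    rw [Submodule.eq_bot_iff]
    rintro y ⟨hy, hyx⟩
    obtain ⟨c, rfl⟩ := Submodule.mem_span_singleton.1 hyx
    by_cases hc : c = 0
    · rw [hc, zero_smul]
    · exact absurd (by simpa [smul_smul, hc] using W.smul_mem c⁻¹ hy) hx
  have h := Submodule.finrank_sup_add_finrank_inf_eq W (Submodule.span F {x})
  rw [hdis, finrank_bot, finrank_span_singleton (fun h0 => hx (by rw [h0]; exact W.zero_mem))] at h
  omega

include hQ hV in
/-- The singular vectors orthogonal to a hyperplane `H` of two maximal subspaces lie in one of them. -/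
theorem singular_in {W W' H : Submodule F V} (hW : MTS Q m W) (hW' : MTS Q m W') (hHW : H ≤ W) (hHW' : H ≤ W')
    (hH : Module.finrank F H + 1 = m) (hne : W ≠ W') :
    oc Q H = W ⊔ W' ∧ ∀ u ∈ oc Q H, Q u = 0 → u ∈ W ∨ u ∈ W' := by
  have hsub : ∀ {X : Submodule F V}, MTS Q m X → H ≤ X → X ≤ oc Q H := fun hX hHX x hx =>
    mem_oc.2 fun h hh => orth_of_singular hX.2 (hHX hh) hx
  obtain ⟨e, he, heW'⟩ : ∃ e ∈ W, e ∉ W' := SetLike.not_le_iff_exists.1 fun hle =>
    hne (Submodule.eq_of_le_of_finrank_le hle (by rw [hW.1, hW'.1]))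
  obtain ⟨f, hf, hfW⟩ : ∃ f ∈ W', f ∉ W := SetLike.not_le_iff_exists.1 fun hle =>
    hne (Submodule.eq_of_le_of_finrank_le hle (by rw [hW.1, hW'.1])).symm
  have hWe : H ⊔ Submodule.span F {e} = W := by
    refine Submodule.eq_of_le_of_finrank_le (sup_le hHW ((Submodule.span_singleton_le_iff_mem _ _).2 he)) ?_
    rw [finrank_sup_span (fun h => heW' (hHW' h)), hW.1]; omega
  have hWf : H ⊔ Submodule.span F {f} = W' := by
    refine Submodule.eq_of_le_of_finrank_le (sup_le hHW' ((Submodule.span_singleton_le_iff_mem _ _).2 hf)) ?_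
    rw [finrank_sup_span (fun h => hfW (hHW h)), hW'.1]; omega
  have heq : oc Q H = W ⊔ W' := by
    refine (Submodule.eq_of_le_of_finrank_le (sup_le (hsub hW hHW) (hsub hW' hHW')) ?_).symm
    have h1 : W < W ⊔ W' := lt_of_le_of_ne le_sup_left fun h => hfW (h ▸ Submodule.mem_sup_right hf)
    have h3 := Submodule.finrank_lt_finrank_of_lt h1
    rw [hW.1] at h3
    rw [finrank_oc hQ hV]
    omega
  have hef : polar ⇑Q e f ≠ 0 := fun h0 => heW' (by
    have : e ∈ oc Q W' := by
      rw [← hWf]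
      refine mem_oc.2 fun w hw => ?_
      obtain ⟨a, ha, b, hb, rfl⟩ := Submodule.mem_sup.1 hw
      obtain ⟨c, rfl⟩ := Submodule.mem_span_singleton.1 hb
      rw [polar_add_left, polar_smul_left, orth_of_singular hW.2 (hHW ha) he, polar_comm (f := ⇑Q) f e, h0]
      simp
    rwa [oc_self hQ hV hW'] at this)
  refine ⟨heq, fun u hu huQ => ?_⟩
  rw [heq, ← hWe, ← hWf] at hu
  obtain ⟨a, ha, b, hb, rfl⟩ := Submodule.mem_sup.1 hu
  obtain ⟨h1, hh1, x, hx, rfl⟩ := Submodule.mem_sup.1 ha
  obtain ⟨s, rfl⟩ := Submodule.mem_span_singleton.1 hx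
  obtain ⟨h2, hh2, y, hy, rfl⟩ := Submodule.mem_sup.1 hb
  obtain ⟨t, rfl⟩ := Submodule.mem_span_singleton.1 hy
  have hA : Q (h1 + s • e) = 0 := hW.2 _ (W.add_mem (hHW hh1) (W.smul_mem _ he))
  have hB : Q (h2 + t • f) = 0 := hW'.2 _ (W'.add_mem (hHW' hh2) (W'.smul_mem _ hf))
  have hpol : polar ⇑Q (h1 + s • e) (h2 + t • f) = s * t * polar ⇑Q e f := by
    simp only [polar_add_left, polar_add_right, polar_smul_left, polar_smul_right,
      orth_of_singular hW.2 (hHW hh1) (hHW hh2), orth_of_singular hW'.2 (hHW' hh1) hf,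
      orth_of_singular hW.2 he (hHW hh2), smul_eq_mul]
    ring
  rw [map_add'', hA, hB, hpol, zero_add, zero_add] at huQ
  rcases mul_eq_zero.1 ((mul_eq_zero.1 huQ).resolve_right hef) with h0 | h0
  · exact Or.inr (W'.add_mem (by rw [h0, zero_smul, add_zero]; exact hHW' hh1)
      (W'.add_mem (hHW' hh2) (W'.smul_mem _ hf)))
  · exact Or.inl (W.add_mem (W.add_mem (hHW hh1) (W.smul_mem _ he))
      (by rw [h0, zero_smul, add_zero]; exact hHW hh2))

include hQ hV in
/-- adjacent maximal subspaces meet any third one in dimensions differing by one -/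
theorem step {U W W' H : Submodule F V} (hU : MTS Q m U) (hW : MTS Q m W) (hW' : MTS Q m W') (hHW : H ≤ W)
    (hHW' : H ≤ W') (hH : Module.finrank F H + 1 = m) (hne : W ≠ W') :
    Module.finrank F (U ⊓ W : Submodule F V) = Module.finrank F (U ⊓ W' : Submodule F V) + 1 ∨
      Module.finrank F (U ⊓ W' : Submodule F V) = Module.finrank F (U ⊓ W : Submodule F V) + 1 := by
  obtain ⟨heq, hsing⟩ := singular_in hQ hV hW hW' hHW hHW' hH hne
  obtain ⟨T, hT⟩ : ∃ T, T = U ⊓ oc Q H := ⟨_, rfl⟩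
  have hUHT : U ⊓ H ≤ T := hT ▸ inf_le_inf_left U (heq ▸ le_sup_of_le_left hHW)
  have hTd : Module.finrank F T = Module.finrank F (U ⊓ H : Submodule F V) + 1 := by
    have e : T = oc Q (U ⊔ H) := by
      rw [hT]
      ext x
      refine ⟨fun ⟨hxU, hxH⟩ => mem_oc.2 fun w hw => ?_, fun hx => ⟨?_, ?_⟩⟩
      · obtain ⟨a, ha, b, hb, rfl⟩ := Submodule.mem_sup.1 hw
        rw [polar_add_left, orth_of_singular hU.2 ha hxU, mem_oc.1 hxH b hb, add_zero]
      · rw [← oc_self hQ hV hU]
        exact mem_oc.2 fun w hw => mem_oc.1 hx w (Submodule.mem_sup_left hw)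
      · exact mem_oc.2 fun w hw => mem_oc.1 hx w (Submodule.mem_sup_right hw)
    have h1 := Submodule.finrank_sup_add_finrank_inf_eq U H
    have h3 := Submodule.finrank_le (U ⊔ H)
    rw [hV] at h3
    rw [e, finrank_oc hQ hV]
    have := hU.1
    omega
  have hcap : ∀ {W : Submodule F V}, W ≤ oc Q H → H ≤ W →
      (U ⊓ H ≤ U ⊓ W ∧ U ⊓ W ≤ T) := fun hle hHle =>
    ⟨inf_le_inf_left U hHle, hT ▸ inf_le_inf_left U hle⟩
  obtain ⟨u, huT, huH⟩ : ∃ u ∈ T, u ∉ U ⊓ H := SetLike.not_le_iff_exists.1 fun hle => by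
    have := Submodule.finrank_mono hle
    omega
  have hu : u ∈ U ∧ u ∈ oc Q H := by rw [hT] at huT; exact huT
  have main : ∀ {W W' : Submodule F V}, W ≤ oc Q H → W' ≤ oc Q H → H ≤ W → H ≤ W' → W ⊓ W' = H → u ∈ W →
      Module.finrank F (U ⊓ W : Submodule F V) = Module.finrank F (U ⊓ W' : Submodule F V) + 1 := by
    intro W W' hle hle' hHle hHle' hWW' huW
    obtain ⟨a1, a2⟩ := hcap hle hHle
    obtain ⟨b1, b2⟩ := hcap hle' hHle'
    have hTW : U ⊓ W = T := Submodule.eq_of_le_of_finrank_le a2 (by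
      have hlt : U ⊓ H < U ⊓ W := lt_of_le_of_ne a1 fun h => huH (h ▸ ⟨hu.1, huW⟩)
      have := Submodule.finrank_lt_finrank_of_lt hlt
      omega)
    have hW'eq : U ⊓ W' = U ⊓ H := by
      refine le_antisymm (fun x hx => ⟨hx.1, ?_⟩) b1
      have hxW : x ∈ U ⊓ W := hTW ▸ b2 hx
      rw [← hWW']
      exact ⟨hxW.2, hx.2⟩
    rw [hW'eq, hTW, hTd]
  have hWW' : W ⊓ W' = H := (Submodule.eq_of_le_of_finrank_le (le_inf hHW hHW') (by
    have hlt : W ⊓ W' < W := lt_of_le_of_ne inf_le_left fun h =>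
      hne (Submodule.eq_of_le_of_finrank_le (h ▸ inf_le_right) (by rw [hW.1, hW'.1]))
    have := Submodule.finrank_lt_finrank_of_lt hlt
    rw [hW.1] at this
    omega)).symm
  rcases hsing u hu.2 (hU.2 u hu.1) with h | h
  · exact Or.inl (main (heq ▸ le_sup_left) (heq ▸ le_sup_right) hHW hHW' hWW' h)
  · exact Or.inr (main (heq ▸ le_sup_right) (heq ▸ le_sup_left) hHW' hHW (inf_comm W W' ▸ hWW') h)

include hQ hV in
theorem parity : ∀ (d : ℕ) (U W X : Submodule F V), MTS Q m U → MTS Q m W → MTS Q m X →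
    Module.finrank F (W ⊓ X : Submodule F V) + d = m →
    Even ((m - Module.finrank F (U ⊓ W : Submodule F V)) + (m - Module.finrank F (W ⊓ X : Submodule F V)) +
      (m - Module.finrank F (U ⊓ X : Submodule F V)))
  | 0, U, W, X, hU, hW, hX, hd => by
    have h1 : W ⊓ X = W := Submodule.eq_of_le_of_finrank_le inf_le_left (by rw [hW.1]; omega)
    have h2 : W = X := Submodule.eq_of_le_of_finrank_le (h1 ▸ inf_le_right) (by rw [hW.1, hX.1])
    subst h2
    rw [inf_idem, hW.1]
    exact ⟨m - Module.finrank F (U ⊓ W : Submodule F V), by omega⟩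
  | d + 1, U, W, X, hU, hW, hX, hd => by
    obtain ⟨x, hxX, hxW⟩ : ∃ x ∈ X, x ∉ W := SetLike.not_le_iff_exists.1 fun hle => by
      have h1 : X = W := Submodule.eq_of_le_of_finrank_le hle (by rw [hW.1, hX.1])
      subst h1
      rw [inf_idem, hX.1] at hd
      omega
    obtain ⟨H, hHdef⟩ : ∃ H, H = W ⊓ LinearMap.ker (QuadraticMap.polarBilin Q x) := ⟨_, rfl⟩
    have hHW : H ≤ W := hHdef ▸ inf_le_left
    have hHx : ∀ h ∈ H, polar ⇑Q h x = 0 := fun h hh => by
      rw [hHdef] at hh
      rw [polar_comm]; exact hh.2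
    have hlt : H < W := lt_of_le_of_ne hHW fun h => hxW (by
      rw [← oc_self hQ hV hW]
      exact mem_oc.2 fun w hw => hHx w (h ▸ hw))
    have hH1 : Module.finrank F H + 1 = m := by
      have h1 := Submodule.finrank_lt_finrank_of_lt hlt
      let φ : W →ₗ[F] F := (QuadraticMap.polarBilin Q x).comp W.subtype
      have h3 := LinearMap.finrank_range_add_finrank_ker φ
      have h4 := Submodule.finrank_le (LinearMap.range φ)
      rw [Module.finrank_self] at h4
      have h5 : (LinearMap.ker φ).map W.subtype ≤ H := by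
        rintro _ ⟨y, hy, rfl⟩
        rw [hHdef]
        exact ⟨y.2, hy⟩
      have h6 := Submodule.finrank_mono h5
      rw [← (Submodule.equivMapOfInjective _ W.subtype_injective (LinearMap.ker φ)).finrank_eq] at h6
      rw [hW.1] at h1 h3
      omega
    have hxH : x ∉ H := fun h => hxW (hHW h)
    obtain ⟨W', hW'def⟩ : ∃ W', W' = H ⊔ Submodule.span F {x} := ⟨_, rfl⟩
    have hW' : MTS Q m W' := ⟨by rw [hW'def, finrank_sup_span hxH, hH1],
      hW'def ▸ singular_sup (fun w hw => hW.2 w (hHW hw)) (hX.2 x hxX) hHx⟩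
    have hxW' : x ∈ W' := hW'def ▸ Submodule.mem_sup_right (Submodule.mem_span_singleton_self x)
    have hHW' : H ≤ W' := hW'def ▸ le_sup_left
    have hne : W ≠ W' := fun h => hxW (h ▸ hxW')
    have hmore : Module.finrank F (X ⊓ W' : Submodule F V) = Module.finrank F (X ⊓ W : Submodule F V) + 1 := by
      have hlt : X ⊓ W < X ⊓ W' := by
        refine lt_of_le_of_ne (fun y hy => ⟨hy.1, hHW' ?_⟩) fun h => hxW (h.ge ⟨hxX, hxW'⟩).2
        rw [hHdef]
        refine ⟨hy.2, ?_⟩
        show polar ⇑Q x y = 0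
        exact orth_of_singular hX.2 hxX hy.1
      have := Submodule.finrank_lt_finrank_of_lt hlt
      rcases step hQ hV hX hW hW' hHW hHW' hH1 hne with h | h <;> omega
    rw [inf_comm X W', inf_comm X W] at hmore
    have ih := parity d U W' X hU hW' hX (by omega)
    have hs := step hQ hV hU hW hW' hHW hHW' hH1 hne
    have b1 := Submodule.finrank_mono (inf_le_left : U ⊓ W ≤ U)
    have b2 := Submodule.finrank_mono (inf_le_left : U ⊓ W' ≤ U)
    rw [hU.1] at b1 b2
    rw [Nat.even_iff] at ih ⊢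
    omega

include hQ hV in
theorem two_over {U X : Submodule F V} (hX : MTS Q m X) (hU : Module.finrank F U + 1 = m)
    (hU0 : ∀ u ∈ U, Q u = 0) :
    ∃ W W', W ≠ W' ∧ ∀ S, (MTS Q m S ∧ U ≤ S) ↔ S = W ∨ S = W' := by
  obtain ⟨e, he, heU, heQ⟩ : ∃ e ∈ oc Q U, e ∉ U ∧ Q e = 0 := by
    by_contra hc
    push Not at hc
    have hle : X ⊓ oc Q U ≤ X ⊓ U := fun x hx => ⟨hx.1, by
      by_contra hxU
      exact hc x hx.2 hxU (hX.2 x hx.1)⟩
    have h1 := Submodule.finrank_mono hle
    have h3 : X ⊓ oc Q U = oc Q (X ⊔ U) := by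
      ext x
      refine ⟨fun ⟨hxX, hxU⟩ => mem_oc.2 fun w hw => ?_, fun hx => ⟨?_, ?_⟩⟩
      · obtain ⟨a, ha, b, hb, rfl⟩ := Submodule.mem_sup.1 hw
        rw [polar_add_left, orth_of_singular hX.2 ha hxX, mem_oc.1 hxU b hb, add_zero]
      · rw [← oc_self hQ hV hX]
        exact mem_oc.2 fun w hw => mem_oc.1 hx w (Submodule.mem_sup_left hw)
      · exact mem_oc.2 fun w hw => mem_oc.1 hx w (Submodule.mem_sup_right hw)
    rw [h3, finrank_oc hQ hV] at h1
    have h4 := Submodule.finrank_sup_add_finrank_inf_eq X U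
    have := hX.1
    omega
  obtain ⟨W, hWdef⟩ : ∃ W, W = U ⊔ Submodule.span F {e} := ⟨_, rfl⟩
  have hW : MTS Q m W := ⟨by rw [hWdef, finrank_sup_span heU, hU],
    hWdef ▸ singular_sup hU0 heQ (mem_oc.1 he)⟩
  have heW : e ∈ W := hWdef ▸ Submodule.mem_sup_right (Submodule.mem_span_singleton_self e)
  have hUW : U ≤ W := hWdef ▸ le_sup_left
  obtain ⟨f, hf, hef⟩ : ∃ f ∈ oc Q U, polar ⇑Q e f ≠ 0 := by
    by_contra hc
    push Not at hc
    have hle : oc Q U ≤ oc Q W := fun x hx => mem_oc.2 fun w hw => by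
      rw [hWdef] at hw
      obtain ⟨a, ha, b, hb, rfl⟩ := Submodule.mem_sup.1 hw
      obtain ⟨c, rfl⟩ := Submodule.mem_span_singleton.1 hb
      rw [polar_add_left, mem_oc.1 hx a ha, polar_smul_left, hc x hx, smul_zero, add_zero]
    have := Submodule.finrank_mono hle
    rw [oc_self hQ hV hW, hW.1, finrank_oc hQ hV] at this
    omega
  obtain ⟨f', hf'def⟩ : ∃ f', f' = f + (-(Q f / polar ⇑Q e f)) • e := ⟨_, rfl⟩
  have hf'Q : Q f' = 0 := by
    rw [hf'def, map_add'', QuadraticMap.map_smul, heQ, smul_zero, add_zero, polar_smul_right,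
      polar_comm (f := ⇑Q) f e, smul_eq_mul, neg_mul, div_mul_cancel₀ _ hef, add_neg_cancel]
  have hf' : f' ∈ oc Q U := hf'def ▸ (oc Q U).add_mem hf ((oc Q U).smul_mem _ he)
  have hef' : polar ⇑Q e f' = polar ⇑Q e f := by
    rw [hf'def, polar_add_right, polar_smul_right, orth_of_singular hW.2 heW heW, smul_zero, add_zero]
  have hf'U : f' ∉ U := fun h => hef (by rw [← hef', polar_comm, mem_oc.1 he f' h])
  obtain ⟨W', hW'def⟩ : ∃ W', W' = U ⊔ Submodule.span F {f'} := ⟨_, rfl⟩
  have hW' : MTS Q m W' := ⟨by rw [hW'def, finrank_sup_span hf'U, hU],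
    hW'def ▸ singular_sup hU0 hf'Q (mem_oc.1 hf')⟩
  have hne : W ≠ W' := fun h => hef (by
    rw [← hef']
    exact orth_of_singular hW'.2 (h ▸ heW)
      (hW'def ▸ Submodule.mem_sup_right (Submodule.mem_span_singleton_self f')))
  have hUW' : U ≤ W' := hW'def ▸ le_sup_left
  refine ⟨W, W', hne, fun S => ⟨fun ⟨hS, hUS⟩ => ?_, ?_⟩⟩
  · obtain ⟨-, hsing⟩ := singular_in hQ hV hW hW' hUW hUW' hU hne
    obtain ⟨x, hx, hxU⟩ : ∃ x ∈ S, x ∉ U := SetLike.not_le_iff_exists.1 fun hle => by
      have := Submodule.finrank_mono hle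
      rw [hS.1] at this
      omega
    have key : ∀ {T : Submodule F V}, MTS Q m T → U ≤ T → x ∈ T → T = U ⊔ Submodule.span F {x} := fun hT hUT hxT =>
      (Submodule.eq_of_le_of_finrank_le (sup_le hUT ((Submodule.span_singleton_le_iff_mem _ _).2 hxT))
        (by rw [finrank_sup_span hxU, hT.1]; omega)).symm
    rcases hsing x (mem_oc.2 fun w hw => orth_of_singular hS.2 (hUS hw) hx) (hS.2 x hx) with h | h
    · exact Or.inl ((key hS hUS hx).trans (key hW hUW h).symm)
    · exact Or.inr ((key hS hUS hx).trans (key hW' hUW' h).symm)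
  · rintro (rfl | rfl)
    · exact ⟨hW, hUW⟩
    · exact ⟨hW', hUW'⟩

/-! ### the standard model -/

theorem plus_nondeg' (m : ℕ) :
    (QuadraticMap.polarBilin (OrthOrder.plusQ m F)).Nondegenerate := by
  have hL : ∀ z : Fin m ⊕ Fin m → F, (∀ w, polar ⇑(OrthOrder.plusQ m F) z w = 0) → z = 0 := by
    intro z hz
    funext i
    rcases i with i | i
    · have := hz (Pi.single (.inr i) 1)
      rw [OrthOrder.polar_plus] at this
      simpa [Pi.single_apply] using this
    · have := hz (Pi.single (.inl i) 1)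
      rw [OrthOrder.polar_plus] at this
      simpa [Pi.single_apply] using this
  exact ⟨hL, fun z hz => hL z fun w => (QuadraticMap.polar_comm (f := ⇑(OrthOrder.plusQ m F)) z w).trans (hz w)⟩

/-- coordinate subspace picked out by a choice of side in each pair -/
def side (s : Fin m → Bool) : Submodule F (Fin m ⊕ Fin m → F) where
  carrier := {v | ∀ i, v (if s i then .inl i else .inr i) = 0}
  add_mem' := fun {u v} hu hv i => by simp [Pi.add_apply, hu i, hv i]
  zero_mem' := fun i => rfl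
  smul_mem' := fun c v hv i => by simp [Pi.smul_apply, hv i]

theorem side_mts (s : Fin m → Bool) : MTS (OrthOrder.plusQ m F) m (side s) := by
  refine ⟨?_, fun w hw => ?_⟩
  · let e : side (F := F) s ≃ₗ[F] (Fin m → F) :=
      { toFun := fun v i => v.1 (if s i then .inr i else .inl i)
        map_add' := fun _ _ => rfl
        map_smul' := fun _ _ => rfl
        invFun := fun u => ⟨Sum.elim (fun i => if s i then 0 else u i) (fun i => if s i then u i else 0),
          fun i => by cases h : s i <;> simp [h]⟩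
        left_inv := fun v => Subtype.ext (funext fun j => by
          have h9 := fun i => v.2 i
          rcases j with i | i <;> have h8 := h9 i <;> cases h : s i <;> simp_all)
        right_inv := fun u => funext fun i => by cases h : s i <;> simp [h] }
    rw [e.finrank_eq, Module.finrank_fin_fun]
  · rw [OrthOrder.plusQ_apply, Cfsg.quadFormPlus]
    refine Finset.sum_eq_zero fun i _ => ?_
    have := hw i
    cases h : s i <;> simp_all

end CfsgLib.Lie.OrthFamilies
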