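import Mathlib

/-!
Witt's lemma for non-degenerate alternating, Hermitian and quadratic forms.
-/

set_option autoImplicit false
set_option linter.unusedSectionVars false
set_option linter.unusedSimpArgs false

namespace CfsgLib.Lie.Witt

variable {F V : Type*} [Field F] [AddCommGroup V] [Module F V] [FiniteDimensional F V]

/-- A linear equivalence from a linear map with a linear inverse-free injectivity. -/
theorem exists_equiv (L : V →ₗ[F] V) (hL : Function.Injective L) : ∃ g : V ≃ₗ[F] V, ∀ v, g v = L v :=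
  ⟨LinearEquiv.ofInjectiveEndo L hL, fun _ => rfl⟩

/-- Extension from one step. -/
theorem extend (Iso : (V ≃ₗ[F] V) → Prop) (Emb : ∀ X : Submodule F V, (X →ₗ[F] V) → Prop)
    (hrefl : Iso (LinearEquiv.refl F V))
    (htrans : ∀ g h, Iso g → Iso h → Iso (g.trans h))
    (hsymm : ∀ g, Iso g → Iso g.symm)
    (hres : ∀ X (H : Submodule F V) (hle : H ≤ X) f, Emb X f → Emb H (f.comp (Submodule.inclusion hle)))
    (hcomp : ∀ X f g, Emb X f → Iso g → Emb X ((g : V →ₗ[F] V).comp f))
    (step : ∀ (X H : Submodule F V) (x : V) (f : X →ₗ[F] V), Function.Injective f → Emb X f →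
      H ≤ X → (hx : x ∈ X) → x ∉ H → H ⊔ Submodule.span F {x} = X →
      (∀ a : X, (a : V) ∈ H → f a = (a : V)) →
      ∃ g, Iso g ∧ (∀ h ∈ H, g h = h) ∧ g x = f ⟨x, hx⟩) :
    ∀ (X : Submodule F V) (f : X →ₗ[F] V), Function.Injective f → Emb X f →
      ∃ g, Iso g ∧ ∀ a : X, g (a : V) = f a := by
  suffices hn : ∀ (n : ℕ) (X : Submodule F V), Module.finrank F X = n →
      ∀ (f : X →ₗ[F] V), Function.Injective f → Emb X f → ∃ g, Iso g ∧ ∀ a : X, g (a : V) = f a from
    fun X => hn _ X rfl
  intro n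
  induction n with
  | zero =>
    intro X hX f _ _
    refine ⟨_, hrefl, fun a => ?_⟩
    have h0 : X = ⊥ := Submodule.finrank_eq_zero.1 hX
    have : a = 0 := by
      ext
      exact (Submodule.mem_bot F).1 (h0 ▸ a.2)
    subst this
    simp
  | succ n ih =>
    intro X hX f hf hE
    let b := Module.finBasisOfFinrankEq F X hX
    let H : Submodule F V := (Submodule.span F (Set.range (b ∘ Fin.castSucc))).map X.subtype
    let x : V := b (Fin.last n)
    have hle : H ≤ X := Submodule.map_subtype_le _ _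
    have hH : Module.finrank F H = n := by
      rw [← (Submodule.equivMapOfInjective X.subtype X.injective_subtype _).finrank_eq,
        finrank_span_eq_card (b.linearIndependent.comp _ (Fin.castSucc_injective n)), Fintype.card_fin]
    have hxH : x ∉ H := by
      rintro ⟨y, hy, he⟩
      have : y = b (Fin.last n) := Subtype.ext he
      subst this
      rw [Set.range_comp] at hy
      exact b.linearIndependent.notMem_span_image (by simp) hy
    have hsup : H ⊔ Submodule.span F {x} = X := by
      refine le_antisymm (sup_le hle ((Submodule.span_singleton_le_iff_mem _ _).2 (b (Fin.last n)).2)) ?_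
      refine Submodule.eq_of_le_of_finrank_le (sup_le hle ((Submodule.span_singleton_le_iff_mem _ _).2
        (b (Fin.last n)).2)) ?_ |>.ge
      have hlt : H < H ⊔ Submodule.span F {x} := lt_of_le_of_ne le_sup_left fun he =>
        hxH (he.symm ▸ Submodule.mem_sup_right (Submodule.mem_span_singleton_self x))
      have := Submodule.finrank_lt_finrank_of_lt hlt
      change Module.finrank F X ≤ Module.finrank F (H ⊔ Submodule.span F {x} : Submodule F V)
      omega
    obtain ⟨g0, hg0, hg0'⟩ := ih H hH (f.comp (Submodule.inclusion hle))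
      (hf.comp (Submodule.inclusion_injective hle)) (hres X H hle f hE)
    obtain ⟨g1, hg1, hfix, hg1x⟩ := step X H x ((g0.symm : V →ₗ[F] V).comp f) (g0.symm.injective.comp hf)
      (hcomp _ _ _ hE (hsymm _ hg0)) hle (b (Fin.last n)).2 hxH hsup (fun a ha => by
        change g0.symm (f a) = (a : V)
        rw [LinearEquiv.symm_apply_eq]
        exact (hg0' ⟨a, ha⟩).symm)
    refine ⟨g1.trans g0, htrans _ _ hg1 hg0, fun a => ?_⟩
    obtain ⟨h, hh, z, hz, hs⟩ := Submodule.mem_sup.1 (hsup.symm ▸ a.2 : (a : V) ∈ H ⊔ Submodule.span F {x})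
    obtain ⟨c, rfl⟩ := Submodule.mem_span_singleton.1 hz
    have e1 : a = (⟨h, hle hh⟩ : X) + c • b (Fin.last n) := Subtype.ext hs.symm
    change g0 (g1 (a : V)) = f a
    rw [← hs, map_add, map_smul, hfix h hh, hg1x, map_add, map_smul]
    conv_rhs => rw [e1, map_add, map_smul]
    rw [hg0' ⟨h, hh⟩]
    change _ + c • g0 (g0.symm (f (b (Fin.last n)))) = _
    rw [g0.apply_symm_apply]
    rfl

/-- Vector with prescribed functional values. -/
theorem exists_dual {H : Submodule F V} {x : V} (hx : x ∉ H) :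
    ∃ φ : V →ₗ[F] F, φ x = 1 ∧ ∀ h ∈ H, φ h = 0 := by
  obtain ⟨φ, hφ, hφ0⟩ := Submodule.exists_dual_map_eq_bot_of_notMem hx inferInstance
  refine ⟨(φ x)⁻¹ • φ, by simp [hφ], fun h hh => ?_⟩
  have : φ h ∈ H.map φ := ⟨h, hh, rfl⟩
  rw [hφ0, Submodule.mem_bot] at this
  simp [this]

/-- Sesquilinear representation of functionals. -/
theorem exists_rep {σ : F →+* F} [RingHomSurjective σ] (B : V →ₛₗ[σ] V →ₗ[F] F)
    (hB : B.SeparatingLeft) (φ : V →ₗ[F] F) : ∃ y, B y = φ := by
  let b := Module.finBasis F V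
  let c : Fin (Module.finrank F V) → Module.Dual F V := fun i => B (b i)
  have hli : LinearIndependent F c := by
    rw [Fintype.linearIndependent_iff]
    intro g hg i
    choose g' hg' using fun i => RingHom.surjective σ (g i)
    have hz : B (∑ i, g' i • b i) = 0 := by
      rw [map_sum, ← hg]
      exact Finset.sum_congr rfl fun j _ => by rw [LinearMap.map_smulₛₗ, hg']
    have := Fintype.linearIndependent_iff.1 b.linearIndependent g'
      (hB _ fun v => LinearMap.congr_fun hz v) i
    rw [← hg' i, this, map_zero]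
  have htop := hli.span_eq_top_of_card_eq_finrank' (by rw [Fintype.card_fin, Subspace.dual_finrank_eq])
  obtain ⟨g, hg⟩ := (Submodule.mem_span_range_iff_exists_fun F).1 (htop.symm ▸ Submodule.mem_top :
    φ ∈ Submodule.span F (Set.range c))
  choose g' hg' using fun i => RingHom.surjective σ (g i)
  refine ⟨∑ i, g' i • b i, ?_⟩
  rw [map_sum, ← hg]
  exact Finset.sum_congr rfl fun j _ => by rw [LinearMap.map_smulₛₗ, hg']

section Quadratic

variable (Q : QuadraticForm F V)

theorem quad_step (hQ : (QuadraticMap.polarBilin Q).Nondegenerate)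
    (X H : Submodule F V) (x : V) (f : X →ₗ[F] V) (hf : Function.Injective f)
    (hE : ∀ a : X, Q (f a) = Q (a : V)) (hle : H ≤ X) (hx : x ∈ X) (hxH : x ∉ H)
    (hsup : H ⊔ Submodule.span F {x} = X) (hfix : ∀ a : X, (a : V) ∈ H → f a = (a : V)) :
    ∃ g : V ≃ₗ[F] V, (∀ v, Q (g v) = Q v) ∧ (∀ h ∈ H, g h = h) ∧ g x = f ⟨x, hx⟩ := by
  set P := QuadraticMap.polarBilin Q with hP
  have hPs : ∀ a b, P a b = P b a := fun a b => QuadraticMap.polar_comm (f := ⇑Q) a b
  have hadd : ∀ a b, Q (a + b) = Q a + Q b + P a b := fun a b => QuadraticMap.map_add (f := ⇑Q) a b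
  have hsmul : ∀ (c : F) a, Q (c • a) = c * c * Q a := fun c a => by
    rw [QuadraticMap.map_smul, smul_eq_mul]
  have hPself : ∀ a, P a a = 2 * Q a := fun a => by
    rw [hP, QuadraticMap.polarBilin_apply_apply, QuadraticMap.polar_self, two_smul, two_mul]
  have hQinj : ∀ L : V →ₗ[F] V, (∀ v, Q (L v) = Q v) → Function.Injective L := fun L hL => by
    rw [← LinearMap.ker_eq_bot, Submodule.eq_bot_iff]
    intro v hv
    refine hQ.1 v fun w => ?_
    have h1 := hadd (L v) (L w)
    rw [LinearMap.mem_ker.1 hv, map_zero (f := P), LinearMap.zero_apply, add_zero, zero_add, hL,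
      QuadraticMap.map_zero, zero_add] at h1
    have h2 := hadd v w
    have h3 := hL (v + w)
    rw [map_add, LinearMap.mem_ker.1 hv, zero_add, hL] at h3
    have h4 := hL v
    rw [LinearMap.mem_ker.1 hv, QuadraticMap.map_zero] at h4
    linear_combination -h3 - h2 + h4
  set y := f ⟨x, hx⟩ with hy
  set z := y - x with hz
  have hQy : Q y = Q x := hE ⟨x, hx⟩
  have hyH : y ∉ H := fun h => by
    have h2 := hfix ⟨y, hle h⟩ h
    have := hf (h2.trans rfl : f ⟨y, hle h⟩ = f ⟨x, hx⟩)
    have he : y = x := congrArg Subtype.val this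
    rw [he] at h
    exact hxH h
  have hzH : ∀ h ∈ H, P h z = 0 := fun h hh => by
    have h1 := hE (⟨h, hle hh⟩ + ⟨x, hx⟩)
    rw [map_add, hfix _ hh, ← hy] at h1
    change Q (h + y) = Q (h + x) at h1
    rw [hadd, hadd, hQy] at h1
    rw [hz, map_sub]
    linear_combination h1
  have hyz : y = x + z := by rw [hz]; abel
  have hzx : P x z = - Q z := by
    have := hadd x z
    rw [← hyz, hQy] at this
    linear_combination -this
  by_cases hQz : Q z ≠ 0
  · let L : V →ₗ[F] V := LinearMap.id - (LinearMap.toSpanSingleton F V z).comp ((Q z)⁻¹ • P z)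
    have hL : ∀ v, L v = v + (-((Q z)⁻¹ * P z v)) • z := fun v => by
      simp [L, LinearMap.toSpanSingleton_apply, sub_eq_add_neg]
    have hiso : ∀ v, Q (L v) = Q v := fun v => by
      rw [hL, hadd, hsmul, map_smul, smul_eq_mul, hPs v z]
      field_simp
      ring
    obtain ⟨g, hg⟩ := exists_equiv L (hQinj L hiso)
    refine ⟨g, fun v => by rw [hg, hiso], fun h hh => ?_, ?_⟩
    · rw [hg, hL, hPs, hzH h hh]; simp
    · rw [hg, hL, hPs, hzx, mul_neg, neg_neg, inv_mul_cancel₀ hQz, one_smul, ← hyz]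
  push_neg at hQz
  rw [hQz, neg_zero] at hzx
  have hzz : P z z = 0 := by rw [hPself, hQz, mul_zero]
  by_cases hxz : x ∈ H ⊔ Submodule.span F {z}
  · -- z is a singular radical vector of X
    obtain ⟨h0, hh0, z', hz', hsum⟩ := Submodule.mem_sup.1 hxz
    obtain ⟨c, rfl⟩ := Submodule.mem_span_singleton.1 hz'
    have hc : c ≠ 0 := fun hc => hxH (by rw [← hsum, hc, zero_smul, add_zero]; exact hh0)
    have hznH : z ∉ H := fun hzH' => hxH (by rw [← hsum]; exact H.add_mem hh0 (H.smul_mem c hzH'))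
    obtain ⟨φ, hφz, hφH⟩ := exists_dual hznH
    obtain ⟨w, hw⟩ := exists_rep P hQ.1 φ
    let u : V := w - Q w • z
    have huz : P u z = 1 := by
      simp [u, hzz, hw, hφz]
    have huH : ∀ h ∈ H, P u h = 0 := fun h hh => by
      simp [u, hw, hφH h hh, hPs z h, hzH h hh]
    have hQu : Q u = 0 := by
      simp only [u, sub_eq_add_neg, ← neg_smul]
      rw [hadd, hsmul, hQz, map_smul, smul_eq_mul, hw, hφz]
      ring
    let lam : F := (c + 1) / c
    have hlam : c + 1 ≠ 0 := fun hc1 => hyH (by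
      have : y = h0 + (c + 1) • z := by rw [hyz, add_smul, one_smul, ← add_assoc, hsum]
      rw [this, hc1, zero_smul, add_zero]; exact hh0)
    let L : V →ₗ[F] V := LinearMap.id + (LinearMap.toSpanSingleton F V z).comp ((lam - 1) • P u) +
      (LinearMap.toSpanSingleton F V u).comp ((lam⁻¹ - 1) • P z)
    have hL : ∀ v, L v = v + ((lam - 1) * P u v) • z + ((lam⁻¹ - 1) * P z v) • u := fun v => by
      simp [L, LinearMap.toSpanSingleton_apply]
    have hzu : P z u = 1 := by rw [hPs, huz]
    have hlam0 : lam ≠ 0 := div_ne_zero hlam hc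
    have hiso : ∀ v, Q (L v) = Q v := fun v => by
      rw [hL, hadd, hadd, hsmul, hsmul, hQz, hQu]
      simp only [map_add, map_smul, LinearMap.add_apply, LinearMap.smul_apply, smul_eq_mul, hzu,
        hPs v z, hPs v u]
      field_simp
      ring
    obtain ⟨g, hg⟩ := exists_equiv L (hQinj L hiso)
    refine ⟨g, fun v => by rw [hg, hiso], fun h hh => ?_, ?_⟩
    · rw [hg, hL, huH h hh, hPs z h, hzH h hh]; simp
    · rw [hg, hL, ← hsum]
      simp only [map_add, map_smul, smul_eq_mul, huH h0 hh0, hPs z h0, hzH h0 hh0, huz, hzz]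
      rw [hyz, ← hsum]
      simp only [lam, zero_add, mul_zero, zero_smul, add_zero, mul_one]
      rw [show ((c + 1) / c - 1) * c = 1 by field_simp; ring, one_smul]
  · obtain ⟨φ, hφx, hφ0⟩ := exists_dual hxz
    obtain ⟨w, hw⟩ := exists_rep P hQ.1 φ
    have hwz : P w z = 0 := by
      rw [hw]; exact hφ0 z (Submodule.mem_sup_right (Submodule.mem_span_singleton_self z))
    let L : V →ₗ[F] V := LinearMap.id + (LinearMap.toSpanSingleton F V z).comp (P w - Q w • P z) -
      (LinearMap.toSpanSingleton F V w).comp (P z)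
    have hL : ∀ v, L v = v + (P w v - Q w * P z v) • z + (- P z v) • w := fun v => by
      simp [L, LinearMap.toSpanSingleton_apply, sub_eq_add_neg]
    have hzw : P z w = 0 := by rw [hPs, hwz]
    have hiso : ∀ v, Q (L v) = Q v := fun v => by
      rw [hL, hadd, hadd, hsmul, hsmul, hQz]
      simp only [map_add, map_smul, LinearMap.add_apply, LinearMap.smul_apply, smul_eq_mul, hzw,
        hPs v z, hPs v w]
      ring
    obtain ⟨g, hg⟩ := exists_equiv L (hQinj L hiso)
    refine ⟨g, fun v => by rw [hg, hiso], fun h hh => ?_, ?_⟩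
    · rw [hg, hL, hw, hφ0 h (Submodule.mem_sup_left hh), hPs z h, hzH h hh]; simp
    · rw [hg, hL, hw, hφx, hPs z x, hzx]
      simp [hyz]

theorem witt_quadratic (hQ : (QuadraticMap.polarBilin Q).Nondegenerate) (X : Submodule F V)
    (f : X →ₗ[F] V) (hf : Function.Injective f) (hE : ∀ a : X, Q (f a) = Q (a : V)) :
    ∃ g : V ≃ₗ[F] V, (∀ v, Q (g v) = Q v) ∧ ∀ a : X, g (a : V) = f a :=
  extend (fun g => ∀ v, Q (g v) = Q v) (fun X f => ∀ a : X, Q (f a) = Q (a : V))
    (fun _ => rfl) (fun g h hg hh v => by rw [LinearEquiv.trans_apply, hh, hg])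
    (fun g hg v => by conv_rhs => rw [← g.apply_symm_apply v, hg])
    (fun X H hle f h a => h (Submodule.inclusion hle a))
    (fun X f g h hg a => (hg (f a)).trans (h a))
    (fun X H x f hf hE hle hx hxH hsup hfix => quad_step Q hQ X H x f hf hE hle hx hxH hsup hfix)
    X f hf hE

end Quadratic

section Sesqui

variable {σ : F →+* F} [RingHomSurjective σ] (B : V →ₛₗ[σ] V →ₗ[F] F)

/-- Step for Hermitian forms: values in the fixed field are traces. -/
theorem herm_step (hσ2 : ∀ a, σ (σ a) = a) (htr : ∀ a, σ a = a → ∃ k, k + σ k = a)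
    (hS : ∀ a b, σ (B a b) = B b a) (hB : B.SeparatingLeft)
    (X H : Submodule F V) (x : V) (f : X →ₗ[F] V) (hf : Function.Injective f)
    (hE : ∀ a b : X, B (f a) (f b) = B (a : V) (b : V)) (hle : H ≤ X) (hx : x ∈ X) (hxH : x ∉ H)
    (_hsup : H ⊔ Submodule.span F {x} = X) (hfix : ∀ a : X, (a : V) ∈ H → f a = (a : V)) :
    ∃ g : V ≃ₗ[F] V, (∀ u v, B (g u) (g v) = B u v) ∧ (∀ h ∈ H, g h = h) ∧ g x = f ⟨x, hx⟩ := by
  have hinj : ∀ L : V →ₗ[F] V, (∀ u v, B (L u) (L v) = B u v) → Function.Injective L := fun L hL => by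
    rw [← LinearMap.ker_eq_bot, Submodule.eq_bot_iff]
    intro v hv
    refine hB v fun w => ?_
    rw [← hL, LinearMap.mem_ker.1 hv, map_zero, LinearMap.zero_apply]
  set y := f ⟨x, hx⟩ with hy
  set z := y - x with hz
  have hyy : B y y = B x x := hE _ _
  have hyH : y ∉ H := fun h => by
    have := hf ((hfix ⟨y, hle h⟩ h).trans rfl : f ⟨y, hle h⟩ = f ⟨x, hx⟩)
    have he : y = x := congrArg Subtype.val this
    rw [he] at h
    exact hxH h
  have hzH : ∀ h ∈ H, B h z = 0 := fun h hh => by
    have h1 := hE ⟨h, hle hh⟩ ⟨x, hx⟩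
    rw [hfix _ hh, ← hy] at h1
    rw [hz, map_sub]
    exact sub_eq_zero.2 h1
  have hzH' : ∀ h ∈ H, B z h = 0 := fun h hh => by rw [← hS, hzH h hh, map_zero]
  have hyz : y = x + z := by rw [hz]; abel
  have hsum : B x z + B z x + B z z = 0 := by
    have := hyy
    rw [hyz] at this
    simp only [map_add, LinearMap.add_apply] at this
    linear_combination this
  by_cases hb : B z x ≠ 0
  · set a := (B z x)⁻¹ with ha
    let L : V →ₗ[F] V := LinearMap.id + (LinearMap.toSpanSingleton F V z).comp (a • B z)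
    have hL : ∀ v, L v = v + (a * B z v) • z := fun v => by simp [L, LinearMap.toSpanSingleton_apply]
    have hσa : σ a = (B x z)⁻¹ := by rw [ha, map_inv₀, hS]
    have hxz : B x z ≠ 0 := fun h => hb (by rw [← hS, h, map_zero])
    have hiso : ∀ u v, B (L u) (L v) = B u v := fun u v => by
      rw [hL, hL]
      simp only [map_add, map_smul, LinearMap.map_smulₛₗ, LinearMap.add_apply, LinearMap.smul_apply,
        smul_eq_mul, map_mul, hσa, hS]
      rw [ha]
      field_simp
      linear_combination (B u z * B z v) * hsum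
    obtain ⟨g, hg⟩ := exists_equiv L (hinj L hiso)
    refine ⟨g, fun u v => by rw [hg, hg, hiso], fun h hh => ?_, ?_⟩
    · rw [hg, hL, hzH' h hh]; simp
    · rw [hg, hL, ha, inv_mul_cancel₀ hb, one_smul, ← hyz]
  push_neg at hb
  have hxz0 : B x z = 0 := by rw [← hS, hb, map_zero]
  have hzz : B z z = 0 := by linear_combination hsum - hxz0 - hb
  by_cases hxz : x ∈ H ⊔ Submodule.span F {z}
  · obtain ⟨h0, hh0, z', hz', hsum'⟩ := Submodule.mem_sup.1 hxz
    obtain ⟨c, rfl⟩ := Submodule.mem_span_singleton.1 hz'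
    have hc : c ≠ 0 := fun hc => hxH (by rw [← hsum', hc, zero_smul, add_zero]; exact hh0)
    have hznH : z ∉ H := fun hzH'' => hxH (by rw [← hsum']; exact H.add_mem hh0 (H.smul_mem c hzH''))
    obtain ⟨φ, hφz, hφH⟩ := exists_dual hznH
    obtain ⟨w, hw⟩ := exists_rep B hB φ
    obtain ⟨k, hk⟩ := htr (- B w w) (by rw [map_neg, hS])
    have hwz : B w z = 1 := by rw [hw, hφz]
    have hzw : B z w = 1 := by rw [← hS, hwz, map_one]
    let u : V := w + k • z
    have huz : B u z = 1 := by simp [u, LinearMap.map_smulₛₗ, hzz, hwz]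
    have hzu : B z u = 1 := by simp [u, hzz, hzw]
    have huu : B u u = 0 := by
      simp [u, LinearMap.map_smulₛₗ, hzz, hzw, hwz]
      linear_combination hk
    have huH : ∀ h ∈ H, B u h = 0 := fun h hh => by
      simp [u, LinearMap.map_smulₛₗ, hw, hφH h hh, hzH' h hh]
    have hlam : c + 1 ≠ 0 := fun hc1 => hyH (by
      have : y = h0 + (c + 1) • z := by rw [hyz, add_smul, one_smul, ← add_assoc, hsum']
      rw [this, hc1, zero_smul, add_zero]; exact hh0)
    set lam : F := (c + 1) / c with hlamdef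
    have hlam0 : lam ≠ 0 := div_ne_zero hlam hc
    have hslam : σ lam ≠ 0 := fun h => hlam0 (by rw [← hσ2 lam, h, map_zero])
    let L : V →ₗ[F] V := LinearMap.id + (LinearMap.toSpanSingleton F V z).comp ((lam - 1) • B u) +
      (LinearMap.toSpanSingleton F V u).comp (((σ lam)⁻¹ - 1) • B z)
    have hL : ∀ v, L v = v + ((lam - 1) * B u v) • z + (((σ lam)⁻¹ - 1) * B z v) • u := fun v => by
      simp [L, LinearMap.toSpanSingleton_apply]
    have hiso : ∀ p q, B (L p) (L q) = B p q := fun p q => by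
      rw [hL, hL]
      simp only [map_add, map_smul, LinearMap.map_smulₛₗ, LinearMap.add_apply, LinearMap.smul_apply,
        smul_eq_mul, map_mul, map_sub, map_inv₀, map_one, hσ2, hS, hzz, huu, huz, hzu]
      field_simp
      ring
    obtain ⟨g, hg⟩ := exists_equiv L (hinj L hiso)
    refine ⟨g, fun p q => by rw [hg, hg, hiso], fun h hh => ?_, ?_⟩
    · rw [hg, hL, huH h hh, hzH' h hh]; simp
    · rw [hg, hL, ← hsum']
      simp only [map_add, map_smul, smul_eq_mul, huH h0 hh0, hzH' h0 hh0, huz, hzz]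
      rw [hyz, ← hsum']
      simp only [zero_add, mul_zero, zero_smul, add_zero, mul_one, hlamdef]
      rw [show ((c + 1) / c - 1) * c = 1 by field_simp; ring, one_smul]
  · obtain ⟨φ, hφx, hφ0⟩ := exists_dual hxz
    obtain ⟨w, hw⟩ := exists_rep B hB φ
    have hwz : B w z = 0 := by
      rw [hw]; exact hφ0 z (Submodule.mem_sup_right (Submodule.mem_span_singleton_self z))
    have hzw : B z w = 0 := by rw [← hS, hwz, map_zero]
    obtain ⟨k, hk⟩ := htr (- B w w) (by rw [map_neg, hS])
    let L : V →ₗ[F] V := LinearMap.id + (LinearMap.toSpanSingleton F V z).comp (B w + k • B z) -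
      (LinearMap.toSpanSingleton F V w).comp (B z)
    have hL : ∀ v, L v = v + (B w v + k * B z v) • z + (- B z v) • w := fun v => by
      simp [L, LinearMap.toSpanSingleton_apply, sub_eq_add_neg]
    have hiso : ∀ p q, B (L p) (L q) = B p q := fun p q => by
      rw [hL, hL]
      simp only [map_add, map_smul, LinearMap.map_smulₛₗ, LinearMap.add_apply, LinearMap.smul_apply,
        smul_eq_mul, map_mul, map_neg, hS, hzz, hzw, hwz]
      linear_combination (B p z * B z q) * hk
    obtain ⟨g, hg⟩ := exists_equiv L (hinj L hiso)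
    refine ⟨g, fun p q => by rw [hg, hg, hiso], fun h hh => ?_, ?_⟩
    · rw [hg, hL, hw, hφ0 h (Submodule.mem_sup_left hh), hzH' h hh]; simp
    · rw [hg, hL, hw, hφx, hb]
      simp [hyz]

theorem witt_hermitian (hσ2 : ∀ a, σ (σ a) = a) (htr : ∀ a, σ a = a → ∃ k, k + σ k = a)
    (hS : ∀ a b, σ (B a b) = B b a) (hB : B.SeparatingLeft) (X : Submodule F V) (f : X →ₗ[F] V)
    (hf : Function.Injective f) (hE : ∀ a b : X, B (f a) (f b) = B (a : V) (b : V)) :
    ∃ g : V ≃ₗ[F] V, (∀ u v, B (g u) (g v) = B u v) ∧ ∀ a : X, g (a : V) = f a :=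
  extend (fun g => ∀ u v, B (g u) (g v) = B u v)
    (fun X f => ∀ a b : X, B (f a) (f b) = B (a : V) (b : V))
    (fun _ _ => rfl) (fun g h hg hh u v => (hh (g u) (g v)).trans (hg u v))
    (fun g hg u v => by conv_rhs => rw [← g.apply_symm_apply u, ← g.apply_symm_apply v, hg])
    (fun X H hle f h a b => h (Submodule.inclusion hle a) (Submodule.inclusion hle b))
    (fun X f g h hg a b => (hg (f a) (f b)).trans (h a b))
    (fun X H x f hf hE hle hx hxH hsup hfix =>
      herm_step B hσ2 htr hS hB X H x f hf hE hle hx hxH hsup hfix)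
    X f hf hE

end Sesqui

section Alternating

variable (B : LinearMap.BilinForm F V)

theorem alt_step (hA : ∀ v, B v v = 0) (hB : B.SeparatingLeft)
    (X H : Submodule F V) (x : V) (f : X →ₗ[F] V) (hf : Function.Injective f)
    (hE : ∀ a b : X, B (f a) (f b) = B (a : V) (b : V)) (hle : H ≤ X) (hx : x ∈ X) (hxH : x ∉ H)
    (_hsup : H ⊔ Submodule.span F {x} = X) (hfix : ∀ a : X, (a : V) ∈ H → f a = (a : V)) :
    ∃ g : V ≃ₗ[F] V, (∀ u v, B (g u) (g v) = B u v) ∧ (∀ h ∈ H, g h = h) ∧ g x = f ⟨x, hx⟩ := by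
  have hS : ∀ a b, B b a = - B a b := fun a b => by
    have h := hA (a + b)
    simp only [map_add, LinearMap.add_apply, hA] at h
    linear_combination h
  have hinj : ∀ L : V →ₗ[F] V, (∀ u v, B (L u) (L v) = B u v) → Function.Injective L := fun L hL => by
    rw [← LinearMap.ker_eq_bot, Submodule.eq_bot_iff]
    intro v hv
    refine hB v fun w => ?_
    rw [← hL, LinearMap.mem_ker.1 hv, map_zero, LinearMap.zero_apply]
  set y := f ⟨x, hx⟩ with hy
  set z := y - x with hz
  have hyH : y ∉ H := fun h => by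
    have := hf ((hfix ⟨y, hle h⟩ h).trans rfl : f ⟨y, hle h⟩ = f ⟨x, hx⟩)
    have he : y = x := congrArg Subtype.val this
    rw [he] at h
    exact hxH h
  have hzH : ∀ h ∈ H, B h z = 0 := fun h hh => by
    have h1 := hE ⟨h, hle hh⟩ ⟨x, hx⟩
    rw [hfix _ hh, ← hy] at h1
    rw [hz, map_sub]
    exact sub_eq_zero.2 h1
  have hzH' : ∀ h ∈ H, B z h = 0 := fun h hh => by rw [hS, hzH h hh, neg_zero]
  have hyz : y = x + z := by rw [hz]; abel
  by_cases hb : B z x ≠ 0
  · let L : V →ₗ[F] V := LinearMap.id + (LinearMap.toSpanSingleton F V z).comp ((B z x)⁻¹ • B z)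
    have hL : ∀ v, L v = v + ((B z x)⁻¹ * B z v) • z := fun v => by
      simp [L, LinearMap.toSpanSingleton_apply]
    have hiso : ∀ u v, B (L u) (L v) = B u v := fun u v => by
      rw [hL, hL]
      simp only [map_add, map_smul, LinearMap.add_apply, LinearMap.smul_apply, smul_eq_mul, hA, hS z u]
      ring
    obtain ⟨g, hg⟩ := exists_equiv L (hinj L hiso)
    refine ⟨g, fun u v => by rw [hg, hg, hiso], fun h hh => ?_, ?_⟩
    · rw [hg, hL, hzH' h hh]; simp
    · rw [hg, hL, inv_mul_cancel₀ hb, one_smul, ← hyz]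
  push_neg at hb
  by_cases hxz : x ∈ H ⊔ Submodule.span F {z}
  · obtain ⟨h0, hh0, z', hz', hsum'⟩ := Submodule.mem_sup.1 hxz
    obtain ⟨c, rfl⟩ := Submodule.mem_span_singleton.1 hz'
    have hc : c ≠ 0 := fun hc => hxH (by rw [← hsum', hc, zero_smul, add_zero]; exact hh0)
    have hznH : z ∉ H := fun hzH'' => hxH (by rw [← hsum']; exact H.add_mem hh0 (H.smul_mem c hzH''))
    obtain ⟨φ, hφz, hφH⟩ := exists_dual hznH
    obtain ⟨u, hu⟩ := exists_rep B hB φ
    have huz : B u z = 1 := by rw [hu, hφz]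
    have hlam : c + 1 ≠ 0 := fun hc1 => hyH (by
      have : y = h0 + (c + 1) • z := by rw [hyz, add_smul, one_smul, ← add_assoc, hsum']
      rw [this, hc1, zero_smul, add_zero]; exact hh0)
    set lam : F := (c + 1) / c with hlamdef
    have hlam0 : lam ≠ 0 := div_ne_zero hlam hc
    let L : V →ₗ[F] V := LinearMap.id + (LinearMap.toSpanSingleton F V z).comp ((lam - 1) • B u) -
      (LinearMap.toSpanSingleton F V u).comp ((lam⁻¹ - 1) • B z)
    have hL : ∀ v, L v = v + ((lam - 1) * B u v) • z + (-((lam⁻¹ - 1) * B z v)) • u := fun v => by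
      simp [L, LinearMap.toSpanSingleton_apply, sub_eq_add_neg]
    have hiso : ∀ p q, B (L p) (L q) = B p q := fun p q => by
      rw [hL, hL]
      simp only [map_add, map_smul, LinearMap.add_apply, LinearMap.smul_apply, smul_eq_mul, hA,
        hS z p, hS u p, hS u z, huz]
      field_simp
      ring
    obtain ⟨g, hg⟩ := exists_equiv L (hinj L hiso)
    refine ⟨g, fun p q => by rw [hg, hg, hiso], fun h hh => ?_, ?_⟩
    · rw [hg, hL, hu, hφH h hh, hzH' h hh]; simp
    · rw [hg, hL, ← hsum']
      have hu0 : B u h0 = 0 := by rw [hu]; exact hφH h0 hh0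
      simp only [map_add, map_smul, smul_eq_mul, hu0, hzH' h0 hh0, huz, hA]
      rw [hyz, ← hsum']
      simp only [zero_add, mul_zero, neg_zero, zero_smul, add_zero, mul_one, hlamdef]
      rw [show ((c + 1) / c - 1) * c = 1 by field_simp; ring, one_smul]
  · obtain ⟨φ, hφx, hφ0⟩ := exists_dual hxz
    obtain ⟨w, hw⟩ := exists_rep B hB φ
    have hwz : B w z = 0 := by
      rw [hw]; exact hφ0 z (Submodule.mem_sup_right (Submodule.mem_span_singleton_self z))
    let L : V →ₗ[F] V := LinearMap.id + (LinearMap.toSpanSingleton F V z).comp (B w) +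
      (LinearMap.toSpanSingleton F V w).comp (B z)
    have hL : ∀ v, L v = v + B w v • z + B z v • w := fun v => by
      simp [L, LinearMap.toSpanSingleton_apply]
    have hiso : ∀ p q, B (L p) (L q) = B p q := fun p q => by
      rw [hL, hL]
      simp only [map_add, map_smul, LinearMap.add_apply, LinearMap.smul_apply, smul_eq_mul, hA,
        hS z p, hS w p, hS w z, hwz]
      ring
    obtain ⟨g, hg⟩ := exists_equiv L (hinj L hiso)
    refine ⟨g, fun p q => by rw [hg, hg, hiso], fun h hh => ?_, ?_⟩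
    · rw [hg, hL, hw, hφ0 h (Submodule.mem_sup_left hh), hzH' h hh]; simp
    · rw [hg, hL, hw, hφx, hb]
      simp [hyz]

theorem witt_alternating (hA : ∀ v, B v v = 0) (hB : B.SeparatingLeft) (X : Submodule F V)
    (f : X →ₗ[F] V) (hf : Function.Injective f)
    (hE : ∀ a b : X, B (f a) (f b) = B (a : V) (b : V)) :
    ∃ g : V ≃ₗ[F] V, (∀ u v, B (g u) (g v) = B u v) ∧ ∀ a : X, g (a : V) = f a :=
  extend (fun g => ∀ u v, B (g u) (g v) = B u v)
    (fun X f => ∀ a b : X, B (f a) (f b) = B (a : V) (b : V))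
    (fun _ _ => rfl) (fun g h hg hh u v => (hh (g u) (g v)).trans (hg u v))
    (fun g hg u v => by conv_rhs => rw [← g.apply_symm_apply u, ← g.apply_symm_apply v, hg])
    (fun X H hle f h a b => h (Submodule.inclusion hle a) (Submodule.inclusion hle b))
    (fun X f g h hg a b => (hg (f a) (f b)).trans (h a b))
    (fun X H x f hf hE hle hx hxH hsup hfix =>
      alt_step B hA hB X H x f hf hE hle hx hxH hsup hfix)
    X f hf hE

end Alternating

end CfsgLib.Lie.Witt

namespace CfsgLib.Lie.Witt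

theorem exists_trace {F : Type*} [Field F] (σ : F →+* F) (hσ : σ ≠ RingHom.id F)
    (hσ2 : ∀ a, σ (σ a) = a) : ∀ a, σ a = a → ∃ k, k + σ k = a := by
  obtain ⟨c, hc⟩ : ∃ c, c + σ c ≠ 0 := by
    by_contra h
    push_neg at h
    have h1 := h 1
    rw [map_one] at h1
    exact hσ (RingHom.ext fun c => show σ c = c by linear_combination h c - c * h1)
  intro a ha
  refine ⟨a * c / (c + σ c), ?_⟩
  rw [map_div₀, map_mul, map_add, hσ2, ha, add_comm (σ c) c]
  field_simp

end CfsgLib.Lie.Witt
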