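import Cfsg.Agent.Fus.PSL2Dihedral
import Cfsg.Agent.Fus.Dickson
import Cfsg.Agent.Solv.UniqueSub
import Cfsg.Agent.Lie.Orders
import Mathlib.GroupTheory.SpecificGroups.Quaternion

/-!
The Sylow 2-subgroups of the two-dimensional special linear groups in odd characteristic.
-/

set_option autoImplicit false
set_option linter.unusedSectionVars false

namespace CfsgLib.Lie.SL2Sylow

variable {F : Type*} [Field F] [Fintype F]

local notation "SL2" => Matrix.SpecialLinearGroup (Fin 2) F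

theorem neg_one_ne_one (hodd : Fintype.card F % 2 = 1) : (-1 : SL2) ≠ 1 := fun h => by
  have h1 : (-1 : F) = 1 := by simpa using congrArg (fun g : SL2 => g 0 0) h
  exact CfsgLib.Fus.PSL2Two.two_ne_zero' hodd (by linear_combination -h1)

theorem exists_standard (hodd : Fintype.card F % 2 = 1) :
    ∃ (k : ℕ) (b w : SL2), 1 ≤ k ∧ orderOf b = 2 * 2 ^ k ∧ w * b * w⁻¹ = b⁻¹ ∧ w * w = -1 ∧
      ∃ S : Sylow 2 SL2, ∀ x, x ∈ (S : Subgroup SL2) ↔ (x ∈ Subgroup.zpowers b ∨ w⁻¹ * x ∈ Subgroup.zpowers b) := by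
  haveI : Fact (Nat.Prime 2) := ⟨Nat.prime_two⟩
  obtain ⟨n, n', a, w, ha, hwa, hww, hnn, hn'⟩ := CfsgLib.Fus.PSL2Two.exists_torus hodd
  have hq3 : 3 ≤ Fintype.card F := by have := Fintype.one_lt_card (α := F); omega
  obtain ⟨c, hc⟩ : ∃ c, Fintype.card F = 2 * c + 1 := ⟨Fintype.card F / 2, by omega⟩
  have h8 : 8 ∣ Fintype.card F ^ 2 - 1 := by
    obtain ⟨d, hd⟩ := Nat.even_mul_succ_self c
    refine ⟨d, ?_⟩
    have : Fintype.card F ^ 2 = 4 * (c * (c + 1)) + 1 := by rw [hc]; ring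
    rw [this, hd]; omega
  have hn0 : n ≠ 0 := ha ▸ (orderOf_pos a).ne'
  obtain ⟨K, m, hm, hKm⟩ := Nat.exists_eq_two_pow_mul_odd hn0
  obtain ⟨m', hm'⟩ : ∃ m', n' = 2 * m' := ⟨n' / 2, by omega⟩
  have hm'o : Odd m' := Nat.odd_iff.2 (by omega)
  have hK : 2 ≤ K := by
    by_contra hlt
    have h8' : 2 ^ 3 ∣ 2 ^ (K + 1) * (m * m') := by
      rw [show 2 ^ (K + 1) * (m * m') = n * n' by rw [hKm, hm']; ring, hnn]; exact h8
    have := (Nat.pow_dvd_pow_iff_le_right (by norm_num : 1 < 2)).1 ((Nat.Coprime.dvd_of_dvd_mul_right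
      (Nat.Coprime.pow_left 3 (Nat.coprime_two_left.2 (hm.mul hm'o))) h8'))
    omega
  obtain ⟨b, hb⟩ : ∃ b, b = a ^ m := ⟨_, rfl⟩
  have hbo : orderOf b = 2 ^ K := by
    rw [hb, orderOf_pow' _ hm.pos.ne', ha, hKm, Nat.gcd_eq_right (dvd_mul_left _ _), Nat.mul_div_cancel _ hm.pos]
  have hwb : w * b * w⁻¹ = b⁻¹ := by rw [hb, ← conj_pow, hwa, inv_pow]
  have hwn : w ∉ Subgroup.zpowers b := fun hmem => by
    obtain ⟨i, hi⟩ := Subgroup.mem_zpowers_iff.1 hmem
    rw [← hi, ((Commute.refl b).zpow_left i).eq, mul_inv_cancel_right] at hwb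
    have h2 : b ^ 2 = 1 := by rw [pow_two]; nth_rewrite 1 [hwb]; exact inv_mul_cancel b
    have h3 := orderOf_dvd_of_pow_eq_one h2
    rw [hbo] at h3
    have h4 := Nat.le_of_dvd two_pos h3
    have h5 : 2 ^ 2 ≤ 2 ^ K := Nat.pow_le_pow_right two_pos hK
    omega
  have hneg : (-1 : SL2) ∈ Subgroup.zpowers b := by
    have h1 : b ^ 2 ^ (K - 1) * b ^ 2 ^ (K - 1) = 1 := by
      rw [← pow_add, ← two_mul, ← pow_succ', Nat.sub_add_cancel (by omega), ← hbo, pow_orderOf_eq_one]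
    rcases CfsgLib.Fus.PSL2Two.sq_eq_one_cases hodd h1 with h | h
    · exfalso
      have h2 := orderOf_dvd_of_pow_eq_one h
      rw [hbo, Nat.pow_dvd_pow_iff_le_right (by norm_num : 1 < 2)] at h2
      omega
    · exact h ▸ Subgroup.npow_mem_zpowers b _
  have hflip : ∀ y ∈ Subgroup.zpowers b, w⁻¹ * y * w ∈ Subgroup.zpowers b := fun y hy => by
    obtain ⟨i, rfl⟩ := Subgroup.mem_zpowers_iff.1 hy
    have : w⁻¹ * b⁻¹ * w = b := by rw [← hwb]; group
    have h2 : w⁻¹ * b ^ i * w = (b⁻¹) ^ i := by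
      have h3 : w⁻¹ * b * w = b⁻¹ := by
        rw [← inv_inj, inv_inv, mul_inv_rev, mul_inv_rev, inv_inv, ← mul_assoc]; exact this
      rw [← h3]
      conv_rhs => rw [show w⁻¹ * b * w = w⁻¹ * b * w⁻¹⁻¹ by rw [inv_inv]]
      rw [conj_zpow, inv_inv]
    rw [h2, inv_zpow]; exact inv_mem (Subgroup.zpow_mem_zpowers b i)
  have hww' : ∀ y ∈ Subgroup.zpowers b, w * w * y ∈ Subgroup.zpowers b := fun y hy => by
    rw [hww]; exact mul_mem hneg hy
  let S₀ : Subgroup SL2 :=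
    { carrier := {x | x ∈ Subgroup.zpowers b ∨ w⁻¹ * x ∈ Subgroup.zpowers b}
      one_mem' := Or.inl (one_mem _)
      mul_mem' := fun {x y} hx hy => by
        rcases hx with hx | hx <;> rcases hy with hy | hy
        · exact Or.inl (mul_mem hx hy)
        · refine Or.inr ?_
          have := mul_mem (hflip x hx) hy
          rwa [show w⁻¹ * x * w * (w⁻¹ * y) = w⁻¹ * (x * y) by group] at this
        · exact Or.inr (by rw [← mul_assoc]; exact mul_mem hx hy)
        · refine Or.inl ?_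
          have := hww' _ (mul_mem (hflip _ hx) hy)
          rwa [show w * w * (w⁻¹ * (w⁻¹ * x) * w * (w⁻¹ * y)) = x * y by group] at this
      inv_mem' := fun {x} hx => by
        rcases hx with hx | hx
        · exact Or.inl (inv_mem hx)
        · refine Or.inr ?_
          have h1 := hflip _ (inv_mem hx)
          have h2 := mul_mem (inv_mem hneg) h1
          rw [← hww] at h2
          rwa [show (w * w)⁻¹ * (w⁻¹ * (w⁻¹ * x)⁻¹ * w) = w⁻¹ * ((w * w)⁻¹ * x⁻¹ * (w * w)) by group,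
            hww, show (-1 : SL2)⁻¹ * x⁻¹ * -1 = x⁻¹ by
              have hc : Commute (-1 : SL2) x⁻¹ := Subgroup.mem_center_iff.1 CfsgLib.Fus.PSL2Two.neg_one_mem_center x⁻¹ |>.symm
              rw [mul_assoc, ← hc.eq, inv_mul_cancel_left]] at h2 }
  have hcard : Nat.card S₀ = 2 ^ (K + 1) := by
    classical
    have e : {x // x ∈ S₀} ≃ Bool × Subgroup.zpowers b :=
      { toFun := fun x => if h : x.1 ∈ Subgroup.zpowers b then (false, ⟨x.1, h⟩)
          else (true, ⟨w⁻¹ * x.1, x.2.resolve_left h⟩)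
        invFun := fun p => if p.1 then ⟨w * p.2.1, Or.inr (by rw [inv_mul_cancel_left]; exact p.2.2)⟩
          else ⟨p.2.1, Or.inl p.2.2⟩
        left_inv := fun x => by
          by_cases h : x.1 ∈ Subgroup.zpowers b
          · simp [h]
          · simp [h]
        right_inv := fun p => by
          obtain ⟨s, y, hy⟩ := p
          cases s
          · simp [hy]
          · have : w * y ∉ Subgroup.zpowers b := fun h => hwn (by
              have := mul_mem h (inv_mem hy)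
              rwa [mul_inv_cancel_right] at this)
            simp [this] }
    rw [Nat.card_congr e, Nat.card_prod, Nat.card_zpowers, hbo, Nat.card_eq_fintype_card, Fintype.card_bool,
      pow_succ']
  have hmax : ∀ P : Sylow 2 SL2, Nat.card (P : Subgroup SL2) = 2 ^ (K + 1) := fun P => by
    rw [P.card_eq_multiplicity, Orders.card_SL_two rfl, ← hnn, hKm, hm']
    congr 1
    have ho : Odd (Fintype.card F * (m * m')) := (Nat.odd_iff.2 hodd).mul (hm.mul hm'o)
    rw [show Fintype.card F * (2 ^ K * m * (2 * m')) = 2 ^ (K + 1) * (Fintype.card F * (m * m')) by ring,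
      Nat.factorization_mul (by positivity) ho.pos.ne', Finsupp.add_apply, Nat.factorization_pow,
      Finsupp.smul_apply, Nat.Prime.factorization_self Nat.prime_two,
      Nat.factorization_eq_zero_of_not_dvd ho.not_two_dvd_nat]
    simp
  obtain ⟨P, hP⟩ := (IsPGroup.of_card hcard).exists_le_sylow
  have heq : S₀ = (P : Subgroup SL2) := Subgroup.eq_of_le_of_card_ge hP (by rw [hmax, hcard])
  refine ⟨K - 1, b, w, by omega, ?_, hwb, hww, P, fun x => ?_⟩
  · rw [hbo, ← pow_succ']; congr 1; omega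
  · rw [← heq]; rfl

/-- Non-commutative 2-subgroups are generalised quaternion. -/
theorem quaternion_of_noncomm (hodd : Fintype.card F % 2 = 1) {T : Subgroup SL2} (hT : IsPGroup 2 T)
    (hnc : ∃ x ∈ T, ∃ y ∈ T, x * y ≠ y * x) : ∃ k : ℕ, 1 ≤ k ∧ Nonempty (T ≃* QuaternionGroup (2 ^ k)) := by
  haveI : Fact (Nat.Prime 2) := ⟨Nat.prime_two⟩
  obtain ⟨k, b, w, -, hbo, hwb, hww, S, hS⟩ := exists_standard hodd
  obtain ⟨P, hP⟩ := hT.exists_le_sylow
  obtain ⟨g, hg⟩ := MulAction.exists_smul_eq SL2 P S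
  let U : Subgroup SL2 := T.map (MulAut.conj g).toMonoidHom
  have hUS : ∀ x ∈ U, x ∈ (S : Subgroup SL2) := by
    rintro x ⟨y, hy, rfl⟩
    rw [← hg]
    exact ⟨y, hP hy, rfl⟩
  obtain ⟨e⟩ : Nonempty (T ≃* U) := ⟨T.equivMapOfInjective _ (MulAut.conj g).injective⟩
  suffices h : ∃ j : ℕ, 1 ≤ j ∧ Nonempty (U ≃* QuaternionGroup (2 ^ j)) by
    obtain ⟨j, hj, ⟨f⟩⟩ := h
    exact ⟨j, hj, ⟨e.trans f⟩⟩
  obtain ⟨c, hc⟩ : ∃ c, Subgroup.zpowers c = U ⊓ Subgroup.zpowers b :=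
    (Subgroup.isCyclic_iff_exists_zpowers_eq_top (U ⊓ Subgroup.zpowers b)).1 (Subgroup.isCyclic_of_le inf_le_right)
  obtain ⟨u, huU, hub⟩ : ∃ u ∈ U, u ∉ Subgroup.zpowers b := by
    by_contra hcon
    push Not at hcon
    obtain ⟨x, hx, y, hy, hxy⟩ := hnc
    obtain ⟨i, hi⟩ := Subgroup.mem_zpowers_iff.1 (hcon _ ⟨x, hx, rfl⟩)
    obtain ⟨j, hj⟩ := Subgroup.mem_zpowers_iff.1 (hcon _ ⟨y, hy, rfl⟩)
    refine hxy ((MulAut.conj g).injective ?_)
    rw [map_mul, map_mul]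
    show (MulAut.conj g).toMonoidHom x * (MulAut.conj g).toMonoidHom y = (MulAut.conj g).toMonoidHom y * (MulAut.conj g).toMonoidHom x
    rw [← hi, ← hj, ← zpow_add, ← zpow_add, add_comm]
  have hu0 : w⁻¹ * u ∈ Subgroup.zpowers b := ((hS u).1 (hUS u huU)).resolve_left hub
  obtain ⟨i, hi⟩ := Subgroup.mem_zpowers_iff.1 hu0
  have hu : u = w * b ^ i := by rw [hi, mul_inv_cancel_left]
  have hinv : ∀ y ∈ Subgroup.zpowers b, u * y * u⁻¹ = y⁻¹ := fun y hy => by
    obtain ⟨j, rfl⟩ := Subgroup.mem_zpowers_iff.1 hy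
    rw [hu, mul_inv_rev, show w * b ^ i * b ^ j * ((b ^ i)⁻¹ * w⁻¹) = w * b ^ j * w⁻¹ by group, ← conj_zpow, hwb,
      inv_zpow]
  have huu : u * u = -1 := by
    have h1 : w * b ^ i * w⁻¹ = (b ^ i)⁻¹ := by rw [← conj_zpow, hwb, inv_zpow]
    rw [hu, show w * b ^ i * (w * b ^ i) = w * b ^ i * w⁻¹ * (w * w) * b ^ i by group, h1, hww]
    have hc' : Commute (-1 : SL2) (b ^ i) :=
      (Subgroup.mem_center_iff.1 CfsgLib.Fus.PSL2Two.neg_one_mem_center (b ^ i)).symm
    rw [mul_assoc, hc'.eq, inv_mul_cancel_left]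
  have hneg : (-1 : SL2) ∈ Subgroup.zpowers c := by
    rw [hc]
    refine ⟨huu ▸ mul_mem huU huU, ?_⟩
    have h1 : b ^ 2 ^ k * b ^ 2 ^ k = 1 := by rw [← pow_add, ← two_mul, ← hbo, pow_orderOf_eq_one]
    rcases CfsgLib.Fus.PSL2Two.sq_eq_one_cases hodd h1 with h | h
    · have h2 := Nat.le_of_dvd (pow_pos two_pos k) (orderOf_dvd_of_pow_eq_one h)
      rw [hbo] at h2
      have h3 : 0 < 2 ^ k := pow_pos two_pos k
      omega
    · exact h ▸ Subgroup.npow_mem_zpowers b _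
  have hcU : c ∈ U := (hc ▸ Subgroup.mem_zpowers c : c ∈ U ⊓ Subgroup.zpowers b).1
  have hcb : c ∈ Subgroup.zpowers b := (hc ▸ Subgroup.mem_zpowers c : c ∈ U ⊓ Subgroup.zpowers b).2
  have hall : ∀ x ∈ U, x ∈ Subgroup.zpowers c ∨ u⁻¹ * x ∈ Subgroup.zpowers c := fun x hx => by
    rcases (hS x).1 (hUS x hx) with h | h
    · left; rw [hc, Subgroup.mem_inf]; exact ⟨hx, h⟩
    · right; rw [hc, Subgroup.mem_inf]
      refine ⟨mul_mem (inv_mem huU) hx, ?_⟩
      rw [hu, mul_inv_rev, mul_assoc]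
      exact mul_mem (inv_mem (Subgroup.zpow_mem_zpowers b i)) h
  obtain ⟨j, hj⟩ : ∃ j, orderOf c = 2 ^ (j + 1) := by
    obtain ⟨j, hj⟩ := IsPGroup.iff_orderOf.1 (hT.map (MulAut.conj g).toMonoidHom) ⟨c, hcU⟩
    rw [Subgroup.orderOf_mk] at hj
    rcases j with - | j
    · exfalso
      have h1 : c = 1 := orderOf_eq_one_iff.1 (by simpa using hj)
      rw [h1, Subgroup.zpowers_one_eq_bot, Subgroup.mem_bot] at hneg
      exact neg_one_ne_one hodd hneg
    · exact ⟨j, hj⟩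
  have hcj : c ^ 2 ^ j = -1 := by
    have h1 : c ^ 2 ^ j * c ^ 2 ^ j = 1 := by
      rw [← pow_add, ← two_mul, ← pow_succ', ← hj, pow_orderOf_eq_one]
    rcases CfsgLib.Fus.PSL2Two.sq_eq_one_cases hodd h1 with h | h
    · have h2 := orderOf_dvd_of_pow_eq_one h
      rw [hj, Nat.pow_dvd_pow_iff_le_right (by norm_num : 1 < 2)] at h2
      omega
    · exact h
  have hj1 : 1 ≤ j := by
    by_contra h0
    obtain rfl : j = 0 := by omega
    rw [pow_zero, pow_one] at hcj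
    obtain ⟨x, hx, y, hy, hxy⟩ := hnc
    refine hxy ((MulAut.conj g).injective ?_)
    rw [map_mul, map_mul]
    have hzu : ∀ z ∈ U, Commute z u := fun z hz => by
      have key : ∀ d ∈ Subgroup.zpowers c, Commute d u := fun d hd => by
        obtain ⟨s, rfl⟩ := Subgroup.mem_zpowers_iff.1 hd
        refine Commute.zpow_left ?_ s
        rw [hcj]
        exact (Subgroup.mem_center_iff.1 CfsgLib.Fus.PSL2Two.neg_one_mem_center u).symm
      rcases hall z hz with h | h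
      · exact key z h
      · have := (Commute.refl u).mul_left (key _ h)
        rwa [mul_inv_cancel_left] at this
    have hzc : ∀ z ∈ U, Commute z c := fun z hz => by
      rw [hcj]; exact Subgroup.mem_center_iff.1 CfsgLib.Fus.PSL2Two.neg_one_mem_center z
    have hcomm : ∀ z ∈ U, ∀ z' ∈ U, Commute z z' := fun z hz z' hz' => by
      rcases hall z' hz' with h | h
      · obtain ⟨s, rfl⟩ := Subgroup.mem_zpowers_iff.1 h; exact (hzc z hz).zpow_right s
      · obtain ⟨s, hs⟩ := Subgroup.mem_zpowers_iff.1 h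
        have := (hzu z hz).mul_right ((hzc z hz).zpow_right s)
        rwa [hs, mul_inv_cancel_left] at this
    exact hcomm _ ⟨x, hx, rfl⟩ _ ⟨y, hy, rfl⟩
  have hzp : ∀ {x : U} {y : U}, (x : SL2) ∈ Subgroup.zpowers (y : SL2) → x ∈ Subgroup.zpowers y := fun {x y} h => by
    obtain ⟨s, hs⟩ := Subgroup.mem_zpowers_iff.1 h
    exact Subgroup.mem_zpowers_iff.2 ⟨s, Subtype.ext (by simpa using hs)⟩
  haveI : NeZero (2 ^ j) := ⟨by positivity⟩
  refine ⟨j, hj1, CfsgLib.Solv.quaternion_of_inverting (a := ⟨c, hcU⟩) (u := ⟨u, huU⟩) ?_ ?_ ?_ ?_ ?_⟩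
  · rw [Subgroup.orderOf_mk, hj, pow_succ']
  · exact Subtype.ext (hinv c hcb)
  · exact Subtype.ext (by simpa using huu.trans hcj.symm)
  · intro hmem
    obtain ⟨s, hs⟩ := Subgroup.mem_zpowers_iff.1 hmem
    exact hub (by
      have : (c : SL2) ^ s = u := by simpa using congrArg Subtype.val hs
      exact this ▸ zpow_mem hcb s)
  · intro x
    rcases hall x x.2 with h | h
    · exact Or.inl (hzp h)
    · exact Or.inr (hzp h)

theorem sylow_quaternion (hodd : Fintype.card F % 2 = 1) (P : Sylow 2 SL2) :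
    ∃ k : ℕ, 1 ≤ k ∧ Nonempty ((P : Subgroup SL2) ≃* QuaternionGroup (2 ^ k)) := by
  haveI : Fact (Nat.Prime 2) := ⟨Nat.prime_two⟩
  obtain ⟨k, b, w, hk, hbo, hwb, -, S, hS⟩ := exists_standard hodd
  refine (quaternion_of_noncomm hodd S.isPGroup' ⟨b, (hS b).2 (Or.inl (Subgroup.mem_zpowers b)), w,
    (hS w).2 (Or.inr (by rw [inv_mul_cancel]; exact one_mem _)), fun h => ?_⟩).imp
    fun j hj => ⟨hj.1, ⟨(P.equiv S).trans hj.2.some⟩⟩
  rw [← h, mul_inv_cancel_right] at hwb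
  have h2 : b ^ 2 = 1 := by rw [pow_two]; nth_rewrite 1 [hwb]; exact inv_mul_cancel b
  have h3 := Nat.le_of_dvd two_pos (hbo ▸ orderOf_dvd_of_pow_eq_one h2)
  have h4 : 2 ^ 1 ≤ 2 ^ k := Nat.pow_le_pow_right two_pos hk
  omega

end CfsgLib.Lie.SL2Sylow
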