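import Cfsg.Agent.Lie.DicksonPSL
import Cfsg.Agent.Lie.Orders

/-!
Orders in Dickson's list.
-/

set_option autoImplicit false
set_option linter.unusedSectionVars false
set_option linter.style.haveILetI false

namespace CfsgLib.Lie.DicksonCor

open Matrix ProjLine DicksonLine DicksonPGL

variable {F : Type*} [Field F] [Fintype F]

local notation "PSL₂" => Matrix.ProjectiveSpecialLinearGroup (Fin 2) F

theorem card_PSL (F : Type*) [Field F] [Fintype F] :
    Nat.gcd 2 (Fintype.card F - 1) * Nat.card (Matrix.ProjectiveSpecialLinearGroup (Fin 2) F) =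
      Fintype.card F * (Fintype.card F ^ 2 - 1) := ProjLine.card_PSL_two rfl

theorem card_PGL (F : Type*) [Field F] [Fintype F] :
    Nat.card (Matrix.ProjGenLinGroup (Fin 2) F) = Fintype.card F * (Fintype.card F ^ 2 - 1) := by
  rw [Orders.card_PGL, Orders.card_SL_two rfl]

theorem sq_sub_one (q : ℕ) : q ^ 2 - 1 = (q + 1) * (q - 1) := by
  have := Nat.sq_sub_sq q 1
  simpa using this

theorem gcd_cases (q : ℕ) : Nat.gcd 2 (q - 1) = 1 ∨ Nat.gcd 2 (q - 1) = 2 :=
  (Nat.dvd_prime Nat.prime_two).1 (Nat.gcd_dvd_left _ _)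

theorem gcd_mul_div {q : ℕ} (hq : 1 ≤ q) :
    Nat.gcd 2 (q - 1) * ((q - 1) / Nat.gcd 2 (q - 1)) = q - 1 ∧
      Nat.gcd 2 (q - 1) * ((q + 1) / Nat.gcd 2 (q - 1)) = q + 1 := by
  refine ⟨Nat.mul_div_cancel' (Nat.gcd_dvd_right _ _), Nat.mul_div_cancel' ?_⟩
  have := Nat.dvd_add (Nat.gcd_dvd_right 2 (q - 1)) (Nat.gcd_dvd_left 2 (q - 1))
  rwa [show q - 1 + 2 = q + 1 by omega] at this

/-- stabiliser of a point -/
noncomputable def borel (y : Pt F) : Subgroup PSL₂ :=
  (MulAction.stabilizer (Matrix.ProjGenLinGroup (Fin 2) F) y).comap ProjectiveSpecialLinearGroup.toPGL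

theorem mem_borel {y : Pt F} {g : PSL₂} : g ∈ borel y ↔ ProjectiveSpecialLinearGroup.toPGL g • y = y := Iff.rfl

theorem index_borel (y : Pt F) : (borel y).index = Fintype.card F + 1 := by
  letI : MulAction PSL₂ (Pt F) := MulAction.compHom (Pt F) ProjectiveSpecialLinearGroup.toPGL
  have h : borel y = MulAction.stabilizer PSL₂ y := Subgroup.ext fun g => Iff.rfl
  rw [h, MulAction.index_stabilizer, show MulAction.orbit PSL₂ y = Set.univ from ?_, Set.ncard_univ, card_Pt]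
  refine Set.eq_univ_of_forall fun z => ?_
  obtain ⟨a, ha⟩ := DicksonPSL.exists_smul_P0 y
  obtain ⟨b, hb⟩ := DicksonPSL.exists_smul_P0 z
  have ha' : a • (P0 : Pt F) = y := ha
  have hb' : b • (P0 : Pt F) = z := hb
  exact ⟨b * a⁻¹, by show (b * a⁻¹) • y = z; rw [← ha', mul_smul, inv_smul_smul, hb']⟩

theorem card_borel (y : Pt F) :
    Nat.gcd 2 (Fintype.card F - 1) * Nat.card (borel y) = Fintype.card F * (Fintype.card F - 1) := by
  have h := (borel y).card_mul_index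
  rw [index_borel] at h
  have hc := card_PSL F
  rw [← h, sq_sub_one] at hc
  refine Nat.eq_of_mul_eq_mul_right (Nat.succ_pos (Fintype.card F)) ?_
  rw [Nat.succ_eq_add_one]
  linear_combination hc

theorem borel_ne_top (y : Pt F) : borel y ≠ ⊤ := fun h => by
  have := index_borel y
  rw [h, Subgroup.index_top] at this
  have h1 : 1 < Fintype.card F := Fintype.one_lt_card
  omega

/-- the shapes of a subgroup of PSL₂ with orders -/
theorem psl_cases (H : Subgroup PSL₂) (hH : H ≠ ⊤) :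
    (∃ y, H ≤ borel y) ∨
    (IsCyclic H ∧ ∃ e, (e = (Fintype.card F - 1) / Nat.gcd 2 (Fintype.card F - 1) ∨
        e = (Fintype.card F + 1) / Nat.gcd 2 (Fintype.card F - 1)) ∧ Nat.card H ∣ e) ∨
    (∃ k e, 2 ≤ k ∧ (e = (Fintype.card F - 1) / Nat.gcd 2 (Fintype.card F - 1) ∨
        e = (Fintype.card F + 1) / Nat.gcd 2 (Fintype.card F - 1)) ∧ k ∣ e ∧ Nonempty (H ≃* DihedralGroup k) ∧
        Nat.card H = 2 * k) ∨
    (Nonempty (H ≃* alternatingGroup (Fin 4)) ∧ Nat.card H = 12) ∨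
    (Nonempty (H ≃* Equiv.Perm (Fin 4)) ∧ Nat.card H = 24) ∨
    (Nonempty (H ≃* alternatingGroup (Fin 5)) ∧ Nat.card H = 60) ∨
    (∃ (K₀ : Type) (_ : Field K₀) (_ : Fintype K₀) (m : ℕ), 2 ≤ m ∧ Fintype.card K₀ ^ m = Fintype.card F ∧
      3 ≤ Fintype.card K₀ ∧
      ((Nonempty (H ≃* Matrix.ProjectiveSpecialLinearGroup (Fin 2) K₀) ∧
          Nat.gcd 2 (Fintype.card K₀ - 1) * Nat.card H = Fintype.card K₀ * (Fintype.card K₀ ^ 2 - 1)) ∨
        (Nonempty (H ≃* Matrix.ProjGenLinGroup (Fin 2) K₀) ∧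
          Nat.card H = Fintype.card K₀ * (Fintype.card K₀ ^ 2 - 1)))) := by
  obtain ⟨p, hp⟩ := CharP.exists F
  haveI : Fact p.Prime := ⟨CharP.char_is_prime F p⟩
  have hinj : Function.Injective ((ProjectiveSpecialLinearGroup.toPGL (n := Fin 2) (R := F)).comp H.subtype) :=
    ProjectiveSpecialLinearGroup.toPGL_injective.comp H.subtype_injective
  have hsq : ∀ g : H, SqDet (((ProjectiveSpecialLinearGroup.toPGL (n := Fin 2) (R := F)).comp H.subtype) g) :=
    fun g => DicksonPSL.sqDet_toPGL _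
  rcases dickson p _ hinj with
    ⟨y, hy, u, hu, hup⟩ | ⟨hc, -, hk⟩ | ⟨k, hk2, ⟨-, hk⟩, ⟨d⟩⟩ | ⟨-, ⟨d⟩⟩ | ⟨-, ⟨d⟩⟩ | ⟨-, ⟨d⟩⟩ | ⟨K, i, iF, m, hm, h3, -, -, -, e⟩
  · exact Or.inl ⟨y, fun g hg => hy ⟨g, hg⟩⟩
  · right; left
    refine ⟨hc, ?_⟩
    rcases hk hsq with e | e
    · exact ⟨_, Or.inl rfl, e⟩
    · exact ⟨_, Or.inr rfl, e⟩
  · right; right; left
    have hc : Nat.card H = 2 * k := by rw [Nat.card_congr d.toEquiv, DihedralGroup.nat_card]
    rcases hk hsq with e | e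
    · exact ⟨k, _, hk2, Or.inl rfl, e, ⟨d⟩, hc⟩
    · exact ⟨k, _, hk2, Or.inr rfl, e, ⟨d⟩, hc⟩
  · refine Or.inr (Or.inr (Or.inr (Or.inl ⟨⟨d⟩, ?_⟩)))
    rw [Nat.card_congr d.toEquiv, nat_card_alternatingGroup, Nat.card_fin]; rfl
  · refine Or.inr (Or.inr (Or.inr (Or.inr (Or.inl ⟨⟨d⟩, ?_⟩))))
    rw [Nat.card_congr d.toEquiv, Nat.card_perm, Nat.card_fin]; rfl
  · refine Or.inr (Or.inr (Or.inr (Or.inr (Or.inr (Or.inl ⟨⟨d⟩, ?_⟩)))))
    rw [Nat.card_congr d.toEquiv, nat_card_alternatingGroup, Nat.card_fin]; rfl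
  · refine Or.inr (Or.inr (Or.inr (Or.inr (Or.inr (Or.inr ⟨K, i, iF, m, ?_, hm, h3, ?_⟩)))))
    · rcases Nat.lt_or_ge m 2 with hm2 | hm2
      swap
      · exact hm2
      exfalso
      have h1 : 1 < Fintype.card F := Fintype.one_lt_card
      obtain rfl : m = 1 := by
        rcases Nat.eq_zero_or_pos m with rfl | h0
        · rw [pow_zero] at hm; omega
        · omega
      rw [pow_one] at hm
      have hle : Nat.card PSL₂ ≤ Nat.card H := by
        rcases e with ⟨⟨t⟩⟩ | ⟨⟨t⟩⟩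
        · rw [Nat.card_congr t.toEquiv]
          have h2 := card_PSL K
          rw [hm, ← card_PSL F] at h2
          exact (Nat.eq_of_mul_eq_mul_left (Nat.gcd_pos_of_pos_left _ two_pos) h2).ge
        · rw [Nat.card_congr t.toEquiv, card_PGL K, hm, ← card_PSL F]
          exact Nat.le_mul_of_pos_left _ (Nat.gcd_pos_of_pos_left _ two_pos)
      exact hH (Subgroup.eq_top_of_le_card _ hle)
    · rcases e with ⟨⟨t⟩⟩ | ⟨⟨t⟩⟩
      · exact Or.inl ⟨⟨t⟩, by rw [Nat.card_congr t.toEquiv]; exact card_PSL K⟩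
      · exact Or.inr ⟨⟨t⟩, by rw [Nat.card_congr t.toEquiv]; exact card_PGL K⟩

/-- proper subgroups are no larger than point stabilisers -/
theorem card_le (hq : Fintype.card F ∉ ({2, 3, 5, 7, 9, 11} : Finset ℕ)) (H : Subgroup PSL₂) (hH : H ≠ ⊤) :
    Nat.gcd 2 (Fintype.card F - 1) * Nat.card H ≤ Fintype.card F * (Fintype.card F - 1) := by
  have hN := card_PSL F
  have hdvd : Nat.card H ∣ Nat.card PSL₂ := Subgroup.card_subgroup_dvd_card H
  have hne : Nat.card H ≠ Nat.card PSL₂ := fun e => hH (Subgroup.eq_top_of_card_eq H e)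
  obtain ⟨hd1, hd2⟩ := gcd_mul_div (Fintype.one_lt_card (α := F)).le
  have hcases := psl_cases H hH
  have hB := fun y : Pt F => card_borel y
  have hg := gcd_cases (Fintype.card F)
  have hpp := FiniteField.isPrimePow_card F
  obtain ⟨q, hqdef⟩ : ∃ q, q = Fintype.card F := ⟨_, rfl⟩
  rw [← hqdef] at hq hN hd1 hd2 hcases hB hg hpp ⊢
  obtain ⟨g, hgdef⟩ : ∃ g, g = Nat.gcd 2 (q - 1) := ⟨_, rfl⟩
  rw [← hgdef] at hN hd1 hd2 hcases hB hg ⊢
  have hq4 : q = 4 ∨ q = 8 ∨ 13 ≤ q := by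
    simp only [Finset.mem_insert, Finset.mem_singleton, not_or] at hq
    by_contra hcon
    have h2 : 2 ≤ q := hpp.two_le
    have : q = 6 ∨ q = 10 ∨ q = 12 := by omega
    obtain ⟨a, b, ha, -, hab⟩ := (isPrimePow_nat_iff q).1 hpp
    have hdiv : ∀ r : ℕ, r.Prime → r ∣ q → r = a := fun r hr hr' =>
      (Nat.prime_dvd_prime_iff_eq hr ha).1 (hr.dvd_of_dvd_pow (hab ▸ hr'))
    rcases this with rfl | rfl | rfl
    · exact absurd ((hdiv 2 Nat.prime_two (by norm_num)).trans (hdiv 3 Nat.prime_three (by norm_num)).symm) (by omega)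
    · exact absurd ((hdiv 2 Nat.prime_two (by norm_num)).trans (hdiv 5 Nat.prime_five (by norm_num)).symm) (by omega)
    · exact absurd ((hdiv 2 Nat.prime_two (by norm_num)).trans (hdiv 3 Nat.prime_three (by norm_num)).symm) (by omega)
  have hqq : 12 ≤ q * (q - 1) := by
    rcases hq4 with rfl | rfl | h
    · norm_num
    · norm_num
    · exact le_trans (by omega) (Nat.le_mul_of_pos_right q (by omega))
  have hlin : 2 * (q + 1) ≤ q * (q - 1) := by
    rcases hq4 with rfl | rfl | h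
    · norm_num
    · norm_num
    · exact le_trans (by omega) (Nat.mul_le_mul_left q (show 3 ≤ q - 1 by omega))
  have h3q : q = 4 ∨ q = 8 ∨ 156 ≤ q * (q - 1) := hq4.imp_right (Or.imp_right fun h =>
    le_trans (by norm_num) (Nat.mul_le_mul h (show 12 ≤ q - 1 by omega)))
  have hbig : ∀ n, Nat.card H = n → n = 12 ∨ n = 24 ∨ n = 60 → g * n ≤ q * (q - 1) := by
    intro n hn hcases'
    rcases h3q with rfl | rfl | h
    · have hg1 : g = 1 := hgdef.trans (by norm_num)
      subst hg1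
      norm_num at hN ⊢
      rw [hN, hn] at hdvd hne
      rcases hcases' with rfl | rfl | rfl <;> first | omega | norm_num at hdvd hne ⊢
    · have hg1 : g = 1 := hgdef.trans (by norm_num)
      subst hg1
      norm_num at hN ⊢
      rw [hN, hn] at hdvd hne
      rcases hcases' with rfl | rfl | rfl <;> first | omega | norm_num at hdvd hne ⊢
    · rcases hg with rfl | rfl <;> omega
  rcases hcases with ⟨y, hy⟩ | ⟨-, e, he, hk⟩ | ⟨k, e, -, he, hk, -, hc⟩ | ⟨-, hc⟩ | ⟨-, hc⟩ | ⟨-, hc⟩ |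
    ⟨K, _, _, m, hm2, hm, h3, hK⟩
  · rw [← hB y]
    exact Nat.mul_le_mul_left _ (Subgroup.card_le_of_le hy)
  · have hge : g * e ≤ q + 1 := by rcases he with rfl | rfl <;> omega
    have he' : g * e = q - 1 ∨ g * e = q + 1 := by
      rcases he with rfl | rfl
      · exact Or.inl hd1
      · exact Or.inr hd2
    have := Nat.le_of_dvd (Nat.pos_of_ne_zero fun h0 => by rw [h0, mul_zero] at he'; omega) hk
    exact (Nat.mul_le_mul_left g this).trans (by omega)
  · have hge : g * e ≤ q + 1 := by rcases he with rfl | rfl <;> omega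
    have he' : g * e = q - 1 ∨ g * e = q + 1 := by
      rcases he with rfl | rfl
      · exact Or.inl hd1
      · exact Or.inr hd2
    have := Nat.le_of_dvd (Nat.pos_of_ne_zero fun h0 => by rw [h0, mul_zero] at he'; omega) hk
    rw [hc, Nat.mul_left_comm]
    exact (Nat.mul_le_mul_left 2 ((Nat.mul_le_mul_left g this).trans hge)).trans hlin
  · exact hc ▸ hbig 12 hc (Or.inl rfl)
  · exact hc ▸ hbig 24 hc (Or.inr (Or.inl rfl))
  · exact hc ▸ hbig 60 hc (Or.inr (Or.inr rfl))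
  · obtain ⟨r, hr⟩ : ∃ r, r = Fintype.card K := ⟨_, rfl⟩
    rw [← hr] at hm h3 hK
    have hr2 : r ^ 2 ≤ q := hm ▸ Nat.pow_le_pow_right (by omega) hm2
    have hle : Nat.card H ≤ r * (r ^ 2 - 1) := by
      rcases hK with ⟨-, h⟩ | ⟨-, h⟩
      · rw [← h]; exact Nat.le_mul_of_pos_left _ (Nat.gcd_pos_of_pos_left _ two_pos)
      · exact h.le
    have hgr : g * r ≤ q := by
      have : g * r ≤ r * r := Nat.mul_le_mul_right r (by rcases hg with rfl | rfl <;> omega)
      rw [pow_two] at hr2; omega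
    calc g * Nat.card H ≤ g * (r * (r ^ 2 - 1)) := Nat.mul_le_mul_left g hle
      _ = g * r * (r ^ 2 - 1) := (mul_assoc _ _ _).symm
      _ ≤ q * (q - 1) := Nat.mul_le_mul hgr (Nat.sub_le_sub_right hr2 1)

theorem index_le (hq : Fintype.card F ∉ ({2, 3, 5, 7, 9, 11} : Finset ℕ)) (H : Subgroup PSL₂) (hH : H ≠ ⊤) :
    Fintype.card F + 1 ≤ H.index := by
  have h := card_le hq H hH
  have hc := card_PSL F
  rw [← H.card_mul_index, sq_sub_one] at hc
  have h1 : 1 < Fintype.card F := Fintype.one_lt_card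
  by_contra hlt
  push Not at hlt
  have hpos : 0 < Fintype.card F * (Fintype.card F - 1) := Nat.mul_pos (by omega) (by omega)
  have : Nat.gcd 2 (Fintype.card F - 1) * (Nat.card H * H.index) <
      Fintype.card F * (Fintype.card F - 1) * (Fintype.card F + 1) := by
    rw [← mul_assoc]
    exact lt_of_le_of_lt (Nat.mul_le_mul_right _ h) (Nat.mul_lt_mul_of_pos_left hlt hpos)
  rw [hc] at this
  exact lt_irrefl _ (this.trans_eq (by ring))

end CfsgLib.Lie.DicksonCor
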