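import Cfsg.Agent.Lie.DicksonBig
import Mathlib.FieldTheory.IsAlgClosed.AlgebraicClosure

/-!
Dickson's classification of the finite subgroups of PGL₂ of a finite field.
-/

set_option autoImplicit false
set_option linter.unusedSectionVars false
set_option linter.unusedSimpArgs false
set_option linter.style.haveILetI false

namespace CfsgLib.Lie.DicksonPGL

open Matrix ProjLine DicksonLine

variable {F : Type*} [Field F]

/-- an element of PGL₂ with square determinant -/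
def SqDet (g : Matrix.ProjGenLinGroup (Fin 2) F) : Prop :=
  ∃ A : GL (Fin 2) F, ProjGenLinGroup.mk A = g ∧ IsSquare A.1.det

theorem sqDet_SL (M : Matrix.SpecialLinearGroup (Fin 2) F) :
    SqDet (ProjGenLinGroup.mk (SpecialLinearGroup.toGL M)) :=
  ⟨_, rfl, 1, by rw [one_mul]; exact M.2⟩

variable [Fintype F]

/-- a number allowed as order of a cyclic subgroup prime to p -/
def OrdOK {G : Type*} [Group G] (φ : G →* Matrix.ProjGenLinGroup (Fin 2) F) (k : ℕ) : Prop :=
  (k ∣ Fintype.card F - 1 ∨ k ∣ Fintype.card F + 1) ∧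
    ((∀ g, SqDet (φ g)) → k ∣ (Fintype.card F - 1) / Nat.gcd 2 (Fintype.card F - 1) ∨
      k ∣ (Fintype.card F + 1) / Nat.gcd 2 (Fintype.card F - 1))

/-- the possible shapes -/
inductive Shape {G : Type*} [Group G] (p : ℕ) (φ : G →* Matrix.ProjGenLinGroup (Fin 2) F) : Prop
  | borel (y : Pt F) (hy : ∀ g : G, φ g • y = y) (u : G) (hu : u ≠ 1) (hup : u ^ p = 1) : Shape p φ
  | cyclic (hc : IsCyclic G) (hk : OrdOK φ (Nat.card G)) : Shape p φ
  | dihedral (k : ℕ) (hk : 2 ≤ k) (hok : OrdOK φ k) (e : Nonempty (G ≃* DihedralGroup k)) : Shape p φ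
  | alt4 (hp2 : p ≠ 2) (e : Nonempty (G ≃* alternatingGroup (Fin 4))) : Shape p φ
  | sym4 (hp2 : p ≠ 2) (e : Nonempty (G ≃* Equiv.Perm (Fin 4))) : Shape p φ
  | alt5 (hp2 : p ≠ 2) (e : Nonempty (G ≃* alternatingGroup (Fin 5))) : Shape p φ
  | subfield (K₀ : Type) (inst : Field K₀) (instF : Fintype K₀) (m : ℕ) (hm : Fintype.card K₀ ^ m = Fintype.card F)
      (h3 : 3 ≤ Fintype.card K₀) (κ : K₀ →+* F) (k : Matrix.ProjGenLinGroup (Fin 2) F)
      (hrange : ∀ g : G, k⁻¹ * φ g * k ∈ (mapPGL κ).range)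
      (e : Nonempty (G ≃* Matrix.ProjectiveSpecialLinearGroup (Fin 2) K₀) ∨
        Nonempty (G ≃* Matrix.ProjGenLinGroup (Fin 2) K₀)) : Shape p φ

theorem card_pow_of_ringHom {k : Type*} [Field k] [Fintype k] (e : k →+* F) :
    ∃ m, Fintype.card k ^ m = Fintype.card F := by
  letI := e.toAlgebra
  exact ⟨Module.finrank k F, (Module.card_eq_pow_finrank).symm⟩

theorem ordOK_of {G : Type*} [Group G] (p : ℕ) [Fact p.Prime] [CharP F p]
    (φ : G →* Matrix.ProjGenLinGroup (Fin 2) F) (hφ : Function.Injective φ) {g : G} (hg : g ^ p ≠ 1) :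
    OrdOK φ (orderOf g) := by
  let f := algebraMap F (AlgebraicClosure F)
  haveI : CharP (AlgebraicClosure F) p := charP_of_injective_ringHom f.injective p
  rw [← orderOf_injective φ hφ g]
  obtain ⟨A, hA⟩ := ProjGenLinGroup.mk_surjective (φ g)
  have hAp : ProjGenLinGroup.mk A ^ p ≠ 1 := by
    rw [hA, ← map_pow]
    exact fun h => hg (hφ (h.trans (map_one φ).symm))
  refine ⟨?_, fun hsq => ?_⟩
  · rw [← hA]
    exact (semisimple_pow p f A hAp).1.imp orderOf_dvd_of_pow_eq_one orderOf_dvd_of_pow_eq_one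
  · obtain ⟨B, hB, hBsq⟩ := hsq g
    rw [← hB]
    have hBp : ProjGenLinGroup.mk B ^ p ≠ 1 := by rw [hB, ← hA]; exact hAp
    exact ((semisimple_pow p f B hBp).2 hBsq).imp orderOf_dvd_of_pow_eq_one orderOf_dvd_of_pow_eq_one

theorem rat_of_mem (K : Type*) [Field K] (f : F →+* K) (B : Matrix.ProjGenLinGroup (Fin 2) F)
    (k : Matrix.ProjGenLinGroup (Fin 2) K) (A : GL (Fin 2) K)
    (h : ProjGenLinGroup.mk A = k⁻¹ * mapPGL f B * k) :
    ∃ r : F, (A.1 0 0 + A.1 1 1) ^ 2 = f r * A.1.det := by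
  obtain ⟨B', rfl⟩ := ProjGenLinGroup.mk_surjective B
  obtain ⟨k', rfl⟩ := ProjGenLinGroup.mk_surjective k
  rw [mapPGL_mk, ← map_inv, ← map_mul, ← map_mul] at h
  obtain ⟨u, hu⟩ := ProjGenLinGroup.mk_eq_mk_iff.1 h
  have hA : ∀ i, (k'⁻¹ * GeneralLinearGroup.map f B' * k').1 i i = A.1 i i * u := by
    intro i
    rw [← hu, Units.val_mul]
    fin_cases i <;>
      simp [Matrix.mul_apply, Fin.sum_univ_two, GeneralLinearGroup.coe_scalar, Matrix.scalar_apply]
  have hdet : (k'⁻¹ * GeneralLinearGroup.map f B' * k').1.det = A.1.det * u ^ 2 := by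
    rw [← hu, Units.val_mul, Matrix.det_mul]
    simp [GeneralLinearGroup.coe_scalar, Matrix.scalar_apply, Matrix.det_fin_two, pow_two]
  have htr : (k'⁻¹ * GeneralLinearGroup.map f B' * k').1.trace = f B'.1.trace := by
    rw [Units.val_mul, Units.val_mul, Matrix.trace_mul_comm, ← mul_assoc, ← Units.val_mul, mul_inv_cancel,
      Units.val_one, one_mul]
    exact (AddMonoidHom.map_trace f.toAddMonoidHom B'.1).symm
  have hdet' : (k'⁻¹ * GeneralLinearGroup.map f B' * k').1.det = f B'.1.det := by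
    rw [Units.val_mul, Units.val_mul, Matrix.det_units_conj']
    exact (f.map_det B'.1).symm
  rw [Matrix.trace_fin_two, hA, hA] at htr
  rw [hdet] at hdet'
  refine ⟨B'.1.trace ^ 2 / B'.1.det, mul_right_cancel₀ (pow_ne_zero 2 u.ne_zero) ?_⟩
  rw [mul_assoc _ A.1.det, hdet', ← map_mul, div_mul_cancel₀ _ B'.det_ne_zero, map_pow, ← htr]
  ring

/-- Dickson's list -/
theorem dickson {G : Type*} [Group G] [Finite G] (p : ℕ) [hp : Fact p.Prime] [CharP F p]
    (φ : G →* Matrix.ProjGenLinGroup (Fin 2) F) (hφ : Function.Injective φ) : Shape p φ := by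
  obtain ⟨f, -⟩ : ∃ f : F →+* AlgebraicClosure F, f = algebraMap F (AlgebraicClosure F) := ⟨_, rfl⟩
  haveI : CharP (AlgebraicClosure F) p := charP_of_injective_ringHom f.injective p
  let ψ := (mapPGL f).comp φ
  have hψ : Function.Injective ψ := (mapPGL_injective f).comp hφ
  let e : G ≃* ψ.range := MonoidHom.ofInjective hψ
  haveI : Finite ψ.range := Finite.of_equiv _ e.toEquiv
  have hL := isLine (K := AlgebraicClosure F) p ψ.range
  have hval : ∀ g : G, ((e g : ψ.range) : Matrix.ProjGenLinGroup (Fin 2) (AlgebraicClosure F)) = ψ g := fun g => rfl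
  have hpow : ∀ (g : G) (n : ℕ), (e g) ^ n = 1 ↔ g ^ n = 1 := fun g n => by
    rw [← map_pow, MulEquiv.map_eq_one_iff]
  rcases DicksonOrbit.classify hL (P0 : Pt (AlgebraicClosure F)) with
    ⟨x, hx⟩ | ⟨k, hk, g, hg, hgp, ⟨d⟩⟩ | ⟨hp2, ⟨d⟩⟩ | ⟨hp2, ⟨d⟩⟩ | ⟨hp2, ⟨d⟩⟩ | ⟨x, hq, hn⟩
  · by_cases hu : ∃ u : G, u ^ p = 1 ∧ u ≠ 1
    · obtain ⟨u, hup, hu1⟩ := hu
      obtain ⟨y, hy⟩ := exists_rational_fixed p (u := φ u) (by rw [← map_pow, hup, map_one])
      have hyK : ψ u • ι f y = ι f y := (smul_ι_iff f _ _).2 hy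
      have hux : ψ u • x = x := hval u ▸ hx (e u)
      have hxy : x = ι f y := by
        rcases fix_or p (g := ψ u) (fun h => hu1 (hψ (h.trans (map_one ψ).symm))) with ⟨h, -⟩ | ⟨-, a, ha⟩
        · exact absurd (by rw [← map_pow, hup, map_one]) h
        · exact ((ha x).1 hux).trans ((ha _).1 hyK).symm
      exact Shape.borel y (fun g => (smul_ι_iff f _ _).1 (hxy ▸ (hval g ▸ hx (e g) : ψ g • x = x))) u hu1 hup
    · push Not at hu
      have hP : Nat.card (DicksonOrbit.P hL x) = 1 := (DicksonOrbit.P_eq_bot hL).2 fun g _ hg => by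
        obtain ⟨g', rfl⟩ := e.surjective g
        rw [hu g' ((hpow g' p).1 hg), map_one]
      haveI := DicksonOrbit.stab_cyclic hL hP
      haveI hcyc : IsCyclic ψ.range := isCyclic_of_surjective (MulAction.stabilizer ψ.range x).subtype
        (fun g => ⟨⟨g, hx g⟩, rfl⟩)
      have hcG : IsCyclic G := isCyclic_of_surjective e.symm.toMonoidHom e.symm.surjective
      obtain ⟨g, hg⟩ := IsCyclic.exists_ofOrder_eq_natCard (α := G)
      refine Shape.cyclic hcG ?_
      by_cases hg1 : g = 1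
      · rw [← hg, hg1, orderOf_one]
        exact ⟨Or.inl (one_dvd _), fun _ => Or.inl (one_dvd _)⟩
      · exact hg ▸ ordOK_of p φ hφ (fun h => hg1 (hu g h))
  · obtain ⟨g', rfl⟩ := e.surjective g
    rw [MulEquiv.orderOf_eq] at hg
    exact Shape.dihedral k hk (hg ▸ ordOK_of p φ hφ (fun h => hgp ((hpow g' p).2 h))) ⟨e.trans d⟩
  · exact Shape.alt4 hp2 ⟨e.trans d⟩
  · exact Shape.sym4 hp2 ⟨e.trans d⟩
  · exact Shape.alt5 hp2 ⟨e.trans d⟩
  · -- the subfield case
    obtain ⟨H, hH⟩ : ∃ H, H = ψ.range := ⟨_, rfl⟩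
    have hmemP := fun g => DicksonOrbit.mem_P hL (x := x) (g := g)
    have hncard : (MulAction.orbit ψ.range x).ncard = Nat.card (DicksonOrbit.P hL x) + 1 := by
      rw [← MulAction.index_stabilizer, hn]
    obtain ⟨q, hqdef⟩ : ∃ q, q = Nat.card (DicksonOrbit.P hL x) := ⟨_, rfl⟩
    rw [← hqdef] at hq hncard
    have hfin : (MulAction.orbit ψ.range x).Finite := Set.finite_range _
    obtain ⟨y, hy, hyx⟩ := Set.exists_ne_of_one_lt_ncard (by omega : 1 < (MulAction.orbit ψ.range x).ncard) x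
    haveI : Nontrivial (DicksonOrbit.P hL x) := Finite.one_lt_card_iff_nontrivial.1 (by omega)
    obtain ⟨u, hu⟩ := exists_ne (1 : DicksonOrbit.P hL x)
    have hu1 : ((u : ψ.range) : Matrix.ProjGenLinGroup (Fin 2) (AlgebraicClosure F)) ≠ 1 := fun h =>
      hu (Subtype.ext (Subtype.ext h))
    obtain ⟨hux, hup⟩ := (hmemP _).1 u.2
    have hux' : ((u : ψ.range) : Matrix.ProjGenLinGroup (Fin 2) (AlgebraicClosure F)) • x = x := hux
    have hup' : ((u : ψ.range) : Matrix.ProjGenLinGroup (Fin 2) (AlgebraicClosure F)) ^ p = 1 :=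
      congrArg Subtype.val hup
    obtain ⟨z, hz⟩ : ∃ z, z = ((u : ψ.range) : Matrix.ProjGenLinGroup (Fin 2) (AlgebraicClosure F)) • y := ⟨_, rfl⟩
    have honly : ∀ w, ((u : ψ.range) : Matrix.ProjGenLinGroup (Fin 2) (AlgebraicClosure F)) • w = w → w = x := by
      intro w hw
      rcases fix_or p hu1 with ⟨h, -⟩ | ⟨-, a, ha⟩
      · exact absurd hup' h
      · exact ((ha w).1 hw).trans ((ha x).1 hux').symm
    have hzx : z ≠ x := fun h => hyx (smul_left_cancel _ ((hz.symm.trans h).trans hux'.symm))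
    have hzy : z ≠ y := fun h => hyx (honly y (hz.symm.trans h))
    obtain ⟨u', hu'⟩ := e.surjective (u : ψ.range)
    have hu'v : ψ u' = ((u : ψ.range) : Matrix.ProjGenLinGroup (Fin 2) (AlgebraicClosure F)) := congrArg Subtype.val hu'
    obtain ⟨yx, hyxF⟩ := exists_rational_fixed p (u := φ u') (by
      refine mapPGL_injective f ?_
      rw [map_pow, map_one]
      show ψ u' ^ p = 1
      rw [hu'v, hup'])
    have hxι : x = ι f yx := by
      refine (honly _ ?_).symm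
      rw [← hu'v]
      exact (smul_ι_iff f _ _).2 hyxF
    obtain ⟨a₁, ha₁⟩ := hy
    obtain ⟨a', ha'⟩ := e.surjective a₁
    have ha'v : ψ a' = (a₁ : Matrix.ProjGenLinGroup (Fin 2) (AlgebraicClosure F)) := congrArg Subtype.val ha'
    have hyι : y = ι f (φ a' • yx) := by
      rw [← ι_smul, ← hxι]
      show y = ψ a' • x
      rw [ha'v]; exact ha₁.symm
    have hzι : z = ι f (φ u' • φ a' • yx) := by
      rw [← ι_smul, ← hyι, hz]
      show _ = ψ u' • y
      rw [hu'v]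
    have ne1 : yx ≠ φ a' • yx := fun h => hyx (by rw [hxι, hyι, ← h])
    have ne2 : yx ≠ φ u' • φ a' • yx := fun h => hzx (by rw [hxι, hzι, ← h])
    have ne3 : φ a' • yx ≠ φ u' • φ a' • yx := fun h => hzy (by rw [hyι, hzι, ← h])
    obtain ⟨k₀, k1, k2, k3⟩ := exists_frame ne1 ne2 ne3
    obtain ⟨kF, hkF⟩ : ∃ kF, kF = ProjGenLinGroup.mk k₀ := ⟨_, rfl⟩
    obtain ⟨k, hk⟩ : ∃ k, k = mapPGL f kF := ⟨_, rfl⟩
    have k1' : k • (P0 : Pt (AlgebraicClosure F)) = x := by
      rw [hk, hxι, ← DicksonBig.ι_P0 f, ι_smul]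
      exact congrArg (ι f) (hkF ▸ k1)
    have k2' : k • (P1 : Pt (AlgebraicClosure F)) = y := by
      rw [hk, hyι, show (P1 : Pt (AlgebraicClosure F)) = ι f (P1 : Pt F) by
        rw [P1_eq, P1_eq, DicksonBig.ι_pt, map_zero], ι_smul f kF]
      exact congrArg (ι f) (hkF ▸ k2)
    have k3' : k • (P2 : Pt (AlgebraicClosure F)) = z := by
      rw [hk, hzι, show (P2 : Pt (AlgebraicClosure F)) = ι f (P2 : Pt F) by
        rw [P2_eq, P2_eq, DicksonBig.ι_pt, map_one], ι_smul f kF]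
      exact congrArg (ι f) (hkF ▸ k3)
    obtain ⟨H', hH'⟩ : ∃ H', H' = H.map (MulAut.conj k⁻¹).toMonoidHom := ⟨_, rfl⟩
    have hmem' : ∀ g, g ∈ H' ↔ ∃ a : ψ.range, g = k⁻¹ * a * k := fun g => by
      rw [hH', hH, Subgroup.mem_map]
      constructor
      · rintro ⟨a, ha, rfl⟩; exact ⟨⟨a, ha⟩, by simp⟩
      · rintro ⟨a, rfl⟩; exact ⟨a, a.2, by simp⟩
    have iso : ψ.range ≃* H' := (MulEquiv.subgroupCongr hH.symm).trans
      ((H.equivMapOfInjective _ (MulAut.conj k⁻¹).injective).trans (MulEquiv.subgroupCongr hH'.symm))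
    haveI : Finite H' := Finite.of_equiv _ iso.toEquiv
    -- translations
    have hTmem : ∀ a, DicksonBig.T a ∈ H' → ∃ v : DicksonOrbit.P hL x, k⁻¹ * ((v : ψ.range) : Matrix.ProjGenLinGroup (Fin 2) (AlgebraicClosure F)) * k = DicksonBig.T a := by
      intro a ha
      obtain ⟨v, hv⟩ := (hmem' _).1 ha
      refine ⟨⟨v, (hmemP v).2 ⟨?_, ?_⟩⟩, hv.symm⟩
      · show (v : Matrix.ProjGenLinGroup (Fin 2) (AlgebraicClosure F)) • x = x
        have := DicksonBig.T_smul_P0 a
        rw [hv, mul_smul, mul_smul, inv_smul_eq_iff, k1'] at this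
        exact this
      · refine Subtype.ext ?_
        rw [SubmonoidClass.coe_pow, OneMemClass.coe_one, ← conj_pow_eq_one k, ← hv]
        obtain ⟨A, hA⟩ := ProjGenLinGroup.mk_surjective (DicksonBig.T a)
        have hr : ratio (DicksonBig.T a) = 1 := by
          rw [DicksonBig.T, ratio_mk]; simp [GeneralLinearGroup.mkOfDetNeZero]
        exact (pow_eq_one_iff_ratio p (DicksonBig.T_smul_P0 a)).1 hr
    have hPT : ∀ v : DicksonOrbit.P hL x, ∃ a, k⁻¹ * ((v : ψ.range) : Matrix.ProjGenLinGroup (Fin 2) (AlgebraicClosure F)) * k = DicksonBig.T a := by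
      intro v
      obtain ⟨h1, h2⟩ := (hmemP _).1 v.2
      refine DicksonBig.eq_T p ?_ ((conj_pow_eq_one _ _ _).2 (congrArg Subtype.val h2))
      rw [mul_smul, mul_smul, k1', show ((v : ψ.range) : Matrix.ProjGenLinGroup (Fin 2) (AlgebraicClosure F)) • x = x
        from h1, inv_smul_eq_iff, k1']
    choose τ hτ using hPT
    have hcardA : Nat.card {a // DicksonBig.T a ∈ H'} = q := by
      rw [hqdef]
      refine (Nat.card_congr (Equiv.ofBijective (fun v => (⟨τ v, (hmem' _).2 ⟨_, (hτ v).symm⟩⟩ :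
        {a // DicksonBig.T a ∈ H'})) ⟨fun v w h => ?_, fun a => ?_⟩)).symm
      · have h' : τ v = τ w := congrArg Subtype.val h
        have := hτ v
        rw [h', ← hτ w, mul_left_inj, mul_right_inj] at this
        exact Subtype.ext (Subtype.ext this)
      · obtain ⟨v, hv⟩ := hTmem a.1 a.2
        exact ⟨v, Subtype.ext (DicksonBig.T_inj ((hτ v).symm.trans hv))⟩
    have horb : MulAction.orbit H' (P0 : Pt (AlgebraicClosure F)) =
        (fun w => k⁻¹ • w) '' MulAction.orbit ψ.range x := by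
      ext w
      constructor
      · rintro ⟨⟨g, hg⟩, rfl⟩
        obtain ⟨a, rfl⟩ := (hmem' g).1 hg
        refine ⟨(a : Matrix.ProjGenLinGroup (Fin 2) (AlgebraicClosure F)) • x, ⟨a, rfl⟩, ?_⟩
        show _ = (k⁻¹ * (a : Matrix.ProjGenLinGroup (Fin 2) (AlgebraicClosure F)) * k) • (P0 : Pt (AlgebraicClosure F))
        rw [mul_smul, mul_smul, k1']
      · rintro ⟨_, ⟨a, rfl⟩, rfl⟩
        refine ⟨⟨_, (hmem' _).2 ⟨a, rfl⟩⟩, ?_⟩
        show (k⁻¹ * (a : Matrix.ProjGenLinGroup (Fin 2) (AlgebraicClosure F)) * k) • (P0 : Pt (AlgebraicClosure F)) =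
          k⁻¹ • ((a : Matrix.ProjGenLinGroup (Fin 2) (AlgebraicClosure F)) • x)
        rw [mul_smul, mul_smul, k1']
    have h1 : DicksonBig.T (1 : AlgebraicClosure F) ∈ H' := by
      have hb := hτ u
      have : τ u = 1 := by
        refine pt_inj ?_
        have e := congrArg (fun g => g • (P1 : Pt (AlgebraicClosure F))) hb
        simp only [mul_smul, k2', ← hz] at e
        rw [P1_eq, DicksonBig.T_smul_pt, zero_add] at e
        rw [← e, inv_smul_eq_iff, ← P2_eq, k3']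
      rw [this] at hb
      exact hb ▸ (hmem' _).2 ⟨_, rfl⟩
    have hw : ∃ g ∈ H', g • (P0 : Pt (AlgebraicClosure F)) = P1 := by
      have ha := ha₁
      refine ⟨_, (hmem' _).2 ⟨a₁, rfl⟩, ?_⟩
      have ha' : (a₁ : Matrix.ProjGenLinGroup (Fin 2) (AlgebraicClosure F)) • x = y := ha
      rw [mul_smul, mul_smul, k1', ha', inv_smul_eq_iff, k2']
    obtain ⟨K₀, i1, i2, em, hrange, h3, hiso⟩ := DicksonBig.big_core p f H' (fun g hg A hA => by
        obtain ⟨⟨a, b, rfl⟩, rfl⟩ := (hmem' g).1 hg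
        exact rat_of_mem _ f (φ b) k A hA)
      q hq hcardA (by rw [horb, Set.ncard_image_of_injective _ (MulAction.injective k⁻¹), hncard]) h1 hw
    obtain ⟨m, hm⟩ := card_pow_of_ringHom em
    have hcomp : ∀ h, mapPGL (f.comp em) h = mapPGL f (mapPGL em h) := by
      intro h
      induction h using Matrix.ProjGenLinGroup.induction_on with
      | mk A => rfl
    refine Shape.subfield K₀ i1 i2 m hm h3 em kF (fun g => ?_) ?_
    · obtain ⟨h, hh⟩ := hrange ((hmem' (k⁻¹ * ψ g * k)).2 ⟨⟨ψ g, g, rfl⟩, rfl⟩)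
      refine ⟨h, mapPGL_injective f ?_⟩
      rw [← hcomp, hh, map_mul, map_mul, map_inv, ← hk]
      rfl
    rcases hiso with ⟨⟨t⟩⟩ | ⟨⟨t⟩⟩
    · exact Or.inl ⟨(e.trans iso).trans t⟩
    · exact Or.inr ⟨(e.trans iso).trans t⟩

end CfsgLib.Lie.DicksonPGL
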