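import Cfsg.Agent.S0282
import Cfsg.Prelude.Def_Classical
import Mathlib.GroupTheory.SpecificGroups.Quaternion
import Mathlib.Algebra.QuadraticAlgebra.Basic
import Mathlib.FieldTheory.Finite.GaloisField

/-!
`PSU₃(2) ≅ 3²:Q₈`: the normal subgroup of order nine and the quaternion quotient.
-/

set_option autoImplicit false
set_option linter.unusedSectionVars false
set_option maxRecDepth 4000

namespace CfsgLib.Lie.SUThreeTwo

open Matrix
open QuaternionGroup (a xa)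

/-- a homomorphism out of the quaternion group of order eight -/
def ofRel {G : Type*} [Group G] (α β : G) (h4 : α ^ 4 = 1) (h2 : β * β = α * α) (hc : α * β = β * α ^ 3) :
    QuaternionGroup 2 →* G :=
  MonoidHom.mk' (fun g => match g with
    | a i => α ^ i.val
    | xa i => β * α ^ i.val) (by
    have hp : ∀ m : ℕ, α ^ m * β = β * α ^ (3 * m) := fun m => by
      induction m with
      | zero => simp
      | succ m ih => rw [pow_succ', mul_assoc, ih, ← mul_assoc, hc, mul_assoc, ← pow_add]; congr 2; ring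
    have hm : ∀ m k : ℕ, m % 4 = k % 4 → α ^ m = α ^ k := fun m k h => by
      rw [pow_eq_pow_mod m h4, h, ← pow_eq_pow_mod k h4]
    intro g h
    rcases g with i | i <;> rcases h with j | j
    · rw [QuaternionGroup.a_mul_a]
      dsimp only
      rw [← pow_add]
      refine hm _ _ ?_
      revert i j; decide
    · rw [QuaternionGroup.a_mul_xa]
      dsimp only
      rw [← mul_assoc, hp, mul_assoc, ← pow_add]
      refine congrArg (β * ·) (hm _ _ ?_)
      revert i j; decide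
    · rw [QuaternionGroup.xa_mul_a]
      dsimp only
      rw [mul_assoc, ← pow_add]
      refine congrArg (β * ·) (hm _ _ ?_)
      revert i j; decide
    · rw [QuaternionGroup.xa_mul_xa]
      dsimp only
      rw [mul_assoc β, ← mul_assoc (α ^ _) β, hp, mul_assoc β (α ^ _), ← mul_assoc β β, h2, ← pow_add, ← pow_two α,
        ← pow_add]
      refine hm _ _ ?_
      revert i j; decide)

theorem ofRel_injective {G : Type*} [Group G] (f : QuaternionGroup 2 →* G) (h : f (a 2) ≠ 1) :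
    Function.Injective f := by
  refine (injective_iff_map_eq_one f).2 fun g hg => ?_
  have hd : ∀ g : QuaternionGroup 2, g = 1 ∨ g = a 2 ∨ g * g = a 2 := by decide
  rcases hd g with h1 | h1 | h1
  · exact h1
  · exact absurd (h1 ▸ hg) h
  · exact absurd (by rw [← h1, map_mul, hg, mul_one]) h

/-- the subgroup generated by two commuting elements of order three -/
def nine {G : Type*} [Group G] (x y : G) (hx : x ^ 3 = 1) (hy : y ^ 3 = 1) (hc : Commute x y) : Subgroup G where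
  carrier := {g | ∃ i j : Fin 3, g = x ^ i.val * y ^ j.val}
  mul_mem' := by
    rintro _ _ ⟨i, j, rfl⟩ ⟨k, l, rfl⟩
    refine ⟨⟨(i.val + k.val) % 3, Nat.mod_lt _ (by omega)⟩, ⟨(j.val + l.val) % 3, Nat.mod_lt _ (by omega)⟩, ?_⟩
    show _ = x ^ ((i.val + k.val) % 3) * y ^ ((j.val + l.val) % 3)
    rw [← pow_eq_pow_mod _ hx, ← pow_eq_pow_mod _ hy, pow_add, pow_add]
    exact (hc.symm.pow_pow _ _).mul_mul_mul_comm _ _
  one_mem' := ⟨0, 0, by simp⟩
  inv_mem' := by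
    rintro _ ⟨i, j, rfl⟩
    refine ⟨⟨(2 * i.val) % 3, Nat.mod_lt _ (by omega)⟩, ⟨(2 * j.val) % 3, Nat.mod_lt _ (by omega)⟩, ?_⟩
    show _ = x ^ ((2 * i.val) % 3) * y ^ ((2 * j.val) % 3)
    rw [← pow_eq_pow_mod _ hx, ← pow_eq_pow_mod _ hy, inv_eq_iff_mul_eq_one,
      (hc.symm.pow_pow _ _).mul_mul_mul_comm, ← pow_add, ← pow_add,
      show i.val + 2 * i.val = 3 * i.val by ring, show j.val + 2 * j.val = 3 * j.val by ring,
      pow_mul, pow_mul, hx, hy, one_pow, one_pow, mul_one]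

instance : Fact (∀ r : ZMod 2, r ^ 2 ≠ 1 + 1 * r) := ⟨by decide⟩
instance : Fact (Nat.Prime 2) := ⟨Nat.prime_two⟩

/-- the concrete field with four elements -/
abbrev E := QuadraticAlgebra (ZMod 2) 1 1

instance : Fintype E := Fintype.ofEquiv _ (QuadraticAlgebra.equivProd (1 : ZMod 2) 1).symm

def w : E := ⟨0, 1⟩
def MX : Matrix (Fin 3) (Fin 3) E := !![1, 0, 0; 0, w, 0; 0, 0, w * w]
def MY : Matrix (Fin 3) (Fin 3) E := !![0, 1, 0; 0, 0, 1; 1, 0, 0]
def MZ : Matrix (Fin 3) (Fin 3) E := !![w, 0, 0; 0, w, 0; 0, 0, w]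
def MA : Matrix (Fin 3) (Fin 3) E := !![1, 1, 1; 1, w, w * w; 1, w * w, w]
def MB : Matrix (Fin 3) (Fin 3) E := !![1, 1, w * w; 1, w, w; w, 1, w]

theorem add_sq' (x y : E) : (x + y) ^ 2 = x ^ 2 + y ^ 2 := by
  have h : (2 : E) = 0 := by decide +kernel
  linear_combination x * y * h

theorem herm_of {M : Matrix (Fin 3) (Fin 3) E}
    (h : ∀ i j, M 0 i * M 0 j ^ 2 + M 1 i * M 1 j ^ 2 + M 2 i * M 2 j ^ 2 = if i = j then 1 else 0)
    (u v : Fin 3 → E) : Cfsg.hermForm 3 E 2 (M *ᵥ u) (M *ᵥ v) = Cfsg.hermForm 3 E 2 u v := by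
  have h00 := h 0 0
  have h01 := h 0 1
  have h02 := h 0 2
  have h10 := h 1 0
  have h11 := h 1 1
  have h12 := h 1 2
  have h20 := h 2 0
  have h21 := h 2 1
  have h22 := h 2 2
  simp only [Fin.isValue, ↓reduceIte, Fin.reduceEq] at h00 h01 h02 h10 h11 h12 h20 h21 h22
  simp only [Cfsg.hermForm, Matrix.mulVec, dotProduct, Fin.sum_univ_three, add_sq', mul_pow]
  linear_combination (u 0 * v 0 ^ 2) * h00 + (u 0 * v 1 ^ 2) * h01 + (u 0 * v 2 ^ 2) * h02 +
    (u 1 * v 0 ^ 2) * h10 + (u 1 * v 1 ^ 2) * h11 + (u 1 * v 2 ^ 2) * h12 +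
    (u 2 * v 0 ^ 2) * h20 + (u 2 * v 1 ^ 2) * h21 + (u 2 * v 2 ^ 2) * h22

def mk (M : Matrix (Fin 3) (Fin 3) E) (hd : M.det = 1)
    (h : ∀ i j, M 0 i * M 0 j ^ 2 + M 1 i * M 1 j ^ 2 + M 2 i * M 2 j ^ 2 = if i = j then 1 else 0) :
    Cfsg.SU 3 E 2 :=
  ⟨⟨M, hd⟩, herm_of h⟩

def X : Cfsg.SU 3 E 2 := mk MX (by rw [Matrix.det_fin_three]; decide +kernel) (by decide +kernel)
def Y : Cfsg.SU 3 E 2 := mk MY (by rw [Matrix.det_fin_three]; decide +kernel) (by decide +kernel)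
def Z : Cfsg.SU 3 E 2 := mk MZ (by rw [Matrix.det_fin_three]; decide +kernel) (by decide +kernel)
def A : Cfsg.SU 3 E 2 := mk MA (by rw [Matrix.det_fin_three]; decide +kernel) (by decide +kernel)
def B : Cfsg.SU 3 E 2 := mk MB (by rw [Matrix.det_fin_three]; decide +kernel) (by decide +kernel)

theorem eq_of {g h : Cfsg.SU 3 E 2} (e : g.1.1 = h.1.1) : g = h := Subtype.ext (Subtype.ext e)

theorem val_mul (g h : Cfsg.SU 3 E 2) : (g * h).1.1 = g.1.1 * h.1.1 := rfl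
theorem val_one : (1 : Cfsg.SU 3 E 2).1.1 = 1 := rfl
theorem val_pow (g : Cfsg.SU 3 E 2) (n : ℕ) : (g ^ n).1.1 = g.1.1 ^ n := by
  induction n with
  | zero => rw [pow_zero, pow_zero, val_one]
  | succ n ih => rw [pow_succ, pow_succ, val_mul, ih]
theorem vX : X.1.1 = MX := rfl
theorem vY : Y.1.1 = MY := rfl
theorem vZ : Z.1.1 = MZ := rfl
theorem vA : A.1.1 = MA := rfl
theorem vB : B.1.1 = MB := rfl

theorem mX : MX * MX * MX = 1 := by decide +kernel
theorem mY : MY * MY * MY = 1 := by decide +kernel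
theorem mA : MA * MA * MA * MA = 1 := by decide +kernel
theorem m1 : ∃ k : Fin 3, MX * MY = MZ ^ k.val * (MY * MX) := by decide +kernel
theorem m2 : ∃ k : Fin 3, MA * MX = MZ ^ k.val * (MY * MA) := by decide +kernel
theorem m3 : ∃ k : Fin 3, MA * MY = MZ ^ k.val * (MX * MX * MA) := by decide +kernel
theorem m4 : ∃ k : Fin 3, MB * MX = MZ ^ k.val * (MX * MX * MY * MB) := by decide +kernel
theorem m5 : ∃ k : Fin 3, MB * MY = MZ ^ k.val * (MX * MY * MB) := by decide +kernel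
theorem m6 : ∃ k : Fin 3, MA * MA = MZ ^ k.val * (MX * (MB * MB)) := by decide +kernel
theorem m7 : ∃ k : Fin 3, MB * MA = MZ ^ k.val * (MY * (MA * MA * MA) * MB) := by decide +kernel

theorem rels : X ^ 3 = 1 ∧ Y ^ 3 = 1 ∧ (∃ k : Fin 3, X * Y = Z ^ k.val * (Y * X)) ∧
    (∃ k : Fin 3, A * X = Z ^ k.val * (Y * A)) ∧ (∃ k : Fin 3, A * Y = Z ^ k.val * (X * X * A)) ∧
    (∃ k : Fin 3, B * X = Z ^ k.val * (X * X * Y * B)) ∧ (∃ k : Fin 3, B * Y = Z ^ k.val * (X * Y * B)) ∧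
    A ^ 4 = 1 ∧ (∃ k : Fin 3, A * A = Z ^ k.val * (X * (B * B))) ∧
    (∃ k : Fin 3, B * A = Z ^ k.val * (Y * (A * A * A) * B)) := by
  refine ⟨eq_of ?_, eq_of ?_, ?_, ?_, ?_, ?_, ?_, eq_of ?_, ?_, ?_⟩
  · rw [val_pow, vX, val_one, pow_succ, pow_two]; exact mX
  · rw [val_pow, vY, val_one, pow_succ, pow_two]; exact mY
  · obtain ⟨k, hk⟩ := m1
    exact ⟨k, eq_of (by simp only [val_mul, val_pow, vX, vY, vZ, vA, vB]; exact hk)⟩
  · obtain ⟨k, hk⟩ := m2
    exact ⟨k, eq_of (by simp only [val_mul, val_pow, vX, vY, vZ, vA, vB]; exact hk)⟩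
  · obtain ⟨k, hk⟩ := m3
    exact ⟨k, eq_of (by simp only [val_mul, val_pow, vX, vY, vZ, vA, vB]; exact hk)⟩
  · obtain ⟨k, hk⟩ := m4
    exact ⟨k, eq_of (by simp only [val_mul, val_pow, vX, vY, vZ, vA, vB]; exact hk)⟩
  · obtain ⟨k, hk⟩ := m5
    exact ⟨k, eq_of (by simp only [val_mul, val_pow, vX, vY, vZ, vA, vB]; exact hk)⟩
  · rw [val_pow, vA, val_one, pow_succ, pow_succ, pow_two]; exact mA
  · obtain ⟨k, hk⟩ := m6
    exact ⟨k, eq_of (by simp only [val_mul, val_pow, vX, vY, vZ, vA, vB]; exact hk)⟩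
  · obtain ⟨k, hk⟩ := m7
    exact ⟨k, eq_of (by simp only [val_mul, val_pow, vX, vY, vZ, vA, vB]; exact hk)⟩

theorem nine_indep : ∀ i j : Fin 3, MX ^ i.val * MY ^ j.val * MX = MX * (MX ^ i.val * MY ^ j.val) →
    MX ^ i.val * MY ^ j.val * MY = MY * (MX ^ i.val * MY ^ j.val) → i = 0 ∧ j = 0 := by decide +kernel

theorem sq_indep : ∀ i j : Fin 3,
    MA * MA * (MX ^ i.val * MY ^ j.val) * MX ≠ MX * (MA * MA * (MX ^ i.val * MY ^ j.val)) := by decide +kernel

variable {F : Type*} [Field F] [Fintype F]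

/-- transfer along an isomorphism of fields -/
def tr (r : E ≃+* F) : Cfsg.SU 3 E 2 →* Cfsg.SU 3 F 2 :=
  ((Matrix.SpecialLinearGroup.map (r : E →+* F)).comp (Cfsg.SU 3 E 2).subtype).codRestrict _ fun g u v => by
    obtain ⟨u, rfl⟩ : ∃ u' : Fin 3 → E, u = r ∘ u' := ⟨r.symm ∘ u, funext fun i => (r.apply_symm_apply _).symm⟩
    obtain ⟨v, rfl⟩ : ∃ v' : Fin 3 → E, v = r ∘ v' := ⟨r.symm ∘ v, funext fun i => (r.apply_symm_apply _).symm⟩
    show Cfsg.hermForm 3 F 2 (g.1.1.map (r : E →+* F) *ᵥ ((r : E →+* F) ∘ u))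
      (g.1.1.map (r : E →+* F) *ᵥ ((r : E →+* F) ∘ v)) = Cfsg.hermForm 3 F 2 ((r : E →+* F) ∘ u) ((r : E →+* F) ∘ v)
    have e : ∀ x : Fin 3 → E, g.1.1.map (r : E →+* F) *ᵥ ((r : E →+* F) ∘ x) = (r : E →+* F) ∘ (g.1.1 *ᵥ x) :=
      fun x => funext fun i => (RingHom.map_mulVec (r : E →+* F) g.1.1 x i).symm
    have e2 : ∀ x y : Fin 3 → E, Cfsg.hermForm 3 F 2 ((r : E →+* F) ∘ x) ((r : E →+* F) ∘ y) =
        (r : E →+* F) (Cfsg.hermForm 3 E 2 x y) := fun x y => by simp [Cfsg.hermForm, map_sum]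
    rw [e, e, e2, e2]
    exact congrArg _ (g.2 u v)

theorem tr_injective (r : E ≃+* F) : Function.Injective (tr r) := fun g h e =>
  eq_of (Matrix.map_injective r.injective (congrArg (fun x : Cfsg.SU 3 F 2 => x.1.1) e))

theorem Z_central (r : E ≃+* F) : tr r Z ∈ Subgroup.center (Cfsg.SU 3 F 2) := by
  refine Subgroup.mem_center_iff.2 fun g => Subtype.ext (Subtype.ext ?_)
  have hz : (tr r Z).1.1 = Matrix.scalar (Fin 3) (r w) := by
    show MZ.map r = _
    ext i j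
    fin_cases i <;> fin_cases j <;> simp [MZ]
  show g.1.1 * (tr r Z).1.1 = (tr r Z).1.1 * g.1.1
  rw [hz]
  exact ((Matrix.scalar_commute (r w) (fun s => Commute.all _ s) g.1.1).eq).symm

/-- the normal subgroup of order nine with quaternion quotient -/
theorem structure_thm (hF : Fintype.card F = 4) :
    ∃ (N : Subgroup (Cfsg.PSU 3 F 2)) (_ : N.Normal), Nat.card N = 9 ∧ (∀ x ∈ N, x ^ 3 = 1) ∧
      Nonempty (Cfsg.PSU 3 F 2 ⧸ N ≃* QuaternionGroup 2) := by
  classical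
  have hE : Fintype.card E = Fintype.card F := by
    rw [hF, Fintype.card_congr (QuadraticAlgebra.equivProd (1 : ZMod 2) 1), Fintype.card_prod, ZMod.card]
  let r := FiniteField.ringEquivOfCardEq hE
  let π : Cfsg.SU 3 E 2 →* Cfsg.PSU 3 F 2 := (QuotientGroup.mk' _).comp (tr r)
  have hπZ : ∀ (k : ℕ) (g : Cfsg.SU 3 E 2), π (Z ^ k * g) = π g := fun k g => by
    rw [map_mul, map_pow, show π Z = 1 from (QuotientGroup.eq_one_iff _).2 (Z_central r), one_pow, one_mul]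
  have hcomm : ∀ g : Cfsg.SU 3 E 2, π g = 1 → ∀ h : Cfsg.SU 3 E 2, g.1.1 * h.1.1 = h.1.1 * g.1.1 := fun g hg h => by
    have h1 : tr r g * tr r h = tr r h * tr r g :=
      (Subgroup.mem_center_iff.1 ((QuotientGroup.eq_one_iff _).1 hg) (tr r h)).symm
    rw [← map_mul, ← map_mul] at h1
    have h2 := congrArg (fun t : Cfsg.SU 3 E 2 => t.1.1) (tr_injective r h1)
    simpa only [val_mul] using h2
  obtain ⟨rX, rY, ⟨k1, r1⟩, ⟨k2, r2⟩, ⟨k3, r3⟩, ⟨k4, r4⟩, ⟨k5, r5⟩, rA, ⟨k6, r6⟩, ⟨k7, r7⟩⟩ := rels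
  have x3 : π X ^ 3 = 1 := by rw [← map_pow, rX, map_one]
  have y3 : π Y ^ 3 = 1 := by rw [← map_pow, rY, map_one]
  have hxy : Commute (π X) (π Y) := by
    have := congrArg π r1
    rwa [hπZ, map_mul, map_mul] at this
  let N := nine (π X) (π Y) x3 y3 hxy
  have hval : ∀ i j : Fin 3, π X ^ i.val * π Y ^ j.val = π (X ^ i.val * Y ^ j.val) := fun i j => by
    rw [map_mul, map_pow, map_pow]
  have hinj : Function.Injective fun p : Fin 3 × Fin 3 =>
      (⟨π X ^ p.1.val * π Y ^ p.2.val, p.1, p.2, rfl⟩ : N) := by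
    rintro ⟨i, j⟩ ⟨k, l⟩ h
    have h' : π X ^ i.val * π Y ^ j.val = π X ^ k.val * π Y ^ l.val := congrArg Subtype.val h
    have h1 : π X ^ (((i - k : Fin 3)).val) * π Y ^ (((j - l : Fin 3)).val) = 1 := by
      have e : ∀ u v : Fin 3, (u - v).val % 3 = (u.val + 2 * v.val) % 3 := by decide
      rw [pow_eq_pow_mod _ x3, e, ← pow_eq_pow_mod _ x3, pow_eq_pow_mod (j - l).val y3, e,
        ← pow_eq_pow_mod _ y3, pow_add, pow_add, (hxy.pow_pow _ _).mul_mul_mul_comm, h',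
        (hxy.symm.pow_pow _ _).mul_mul_mul_comm, ← pow_add, ← pow_add,
        show k.val + 2 * k.val = 3 * k.val by ring, show l.val + 2 * l.val = 3 * l.val by ring,
        pow_mul, pow_mul, x3, y3, one_pow, one_pow, mul_one]
    rw [hval] at h1
    have hX := hcomm _ h1 X
    have hY := hcomm _ h1 Y
    rw [val_mul, val_pow, val_pow, vX, vY] at hX hY
    obtain ⟨a1, a2⟩ := nine_indep (i - k) (j - l) hX hY
    exact Prod.ext (sub_eq_zero.1 a1) (sub_eq_zero.1 a2)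
  have hN : Nat.card N = 9 := by
    rw [← Nat.card_congr (Equiv.ofBijective _ ⟨hinj, fun ⟨g, i, j, hg⟩ => ⟨(i, j), Subtype.ext hg.symm⟩⟩)]
    simp
  have hN3 : ∀ g ∈ N, g ^ 3 = 1 := by
    rintro _ ⟨i, j, rfl⟩
    rw [(hxy.pow_pow _ _).mul_pow, ← pow_mul, ← pow_mul, mul_comm i.val, mul_comm j.val, pow_mul, pow_mul,
      x3, y3, one_pow, one_pow, mul_one]
  have hx : π X ∈ N := ⟨1, 0, by simp⟩
  have hy : π Y ∈ N := ⟨0, 1, by simp⟩
  have hnorm : ∀ g, g * π X * g⁻¹ ∈ N → g * π Y * g⁻¹ ∈ N → g ∈ Subgroup.normalizer (N : Set _) := by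
    intro g h1 h2
    have hle : N.map (MulAut.conj g).toMonoidHom ≤ N := by
      rintro _ ⟨t, ⟨i, j, rfl⟩, rfl⟩
      rw [map_mul, map_pow, map_pow]
      exact mul_mem (pow_mem h1 _) (pow_mem h2 _)
    have heq := Subgroup.eq_of_le_of_card_ge hle (Subgroup.card_map_of_injective (MulAut.conj g).injective).ge
    refine Subgroup.mem_normalizer_iff.2 fun t => ⟨fun ht => hle ⟨t, ht, rfl⟩, fun ht => ?_⟩
    obtain ⟨s, hs, hst⟩ := heq.ge ht
    rwa [← (MulAut.conj g).injective hst]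
  have hconj : ∀ (g x : Cfsg.SU 3 E 2) (k : ℕ) (y : Cfsg.SU 3 E 2), g * x = Z ^ k * (y * g) →
      π g * π x * (π g)⁻¹ = π y := fun g x k y h => by
    rw [← map_mul, h, hπZ, map_mul, mul_inv_cancel_right]
  have hA : π A ∈ Subgroup.normalizer (N : Set _) := hnorm _
    (by rw [hconj _ _ _ _ r2]; exact hy) (by rw [hconj _ _ _ _ r3, map_mul]; exact mul_mem hx hx)
  have hB : π B ∈ Subgroup.normalizer (N : Set _) := hnorm _
    (by rw [hconj _ _ _ _ r4, map_mul, map_mul]; exact mul_mem (mul_mem hx hx) hy)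
    (by rw [hconj _ _ _ _ r5, map_mul]; exact mul_mem hx hy)
  let M := Subgroup.normalizer (N : Set (Cfsg.PSU 3 F 2))
  let K := N.subgroupOf M
  haveI : K.Normal := Subgroup.normal_in_normalizer
  let q := QuotientGroup.mk' K
  let α := q ⟨π A, hA⟩
  let β := q ⟨π B, hB⟩
  have hmk : ∀ (u v : M), (∃ n ∈ N, (u : Cfsg.PSU 3 F 2) = n * v) → q u = q v := by
    rintro u v ⟨n, hn, h⟩
    have : u * v⁻¹ ∈ K := by
      show (u : Cfsg.PSU 3 F 2) * (v : Cfsg.PSU 3 F 2)⁻¹ ∈ N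
      rw [h, mul_inv_cancel_right]; exact hn
    have h' := (QuotientGroup.eq_one_iff _).2 this
    rwa [← QuotientGroup.mk'_apply K, map_mul, map_inv, mul_inv_eq_one] at h'
  have h4 : α ^ 4 = 1 := by
    rw [← map_pow, ← map_one q]
    refine congrArg q (Subtype.ext ?_)
    show π A ^ 4 = 1
    rw [← map_pow, rA, map_one]
  have h2 : β * β = α * α := by
    rw [← map_mul, ← map_mul]
    refine (hmk _ _ ⟨π X, hx, ?_⟩).symm
    show π A * π A = π X * (π B * π B)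
    rw [← map_mul, r6, hπZ, map_mul, map_mul]
  have h3 : β * α = α ^ 3 * β := by
    rw [← map_mul, ← map_pow, ← map_mul]
    refine hmk _ _ ⟨π Y, hy, ?_⟩
    show π B * π A = π Y * (π A ^ 3 * π B)
    rw [← map_mul, r7, hπZ, map_mul, map_mul, map_mul, map_mul, mul_assoc, ← pow_two, ← pow_succ]
  have hc : α * β = β * α ^ 3 := by
    have h5 : β * α ^ 3 = α ^ 9 * β := by
      rw [pow_succ α 2, pow_two, ← mul_assoc, ← mul_assoc, h3, mul_assoc (α ^ 3), h3, ← mul_assoc, ← pow_add,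
        mul_assoc (α ^ (3 + 3)), h3, ← mul_assoc, ← pow_add]
    rw [h5, pow_eq_pow_mod 9 h4, pow_one]
  let f := ofRel α β h4 h2 hc
  have hf : Function.Injective f := ofRel_injective f fun h => by
    have h' : q (⟨π A, hA⟩ * ⟨π A, hA⟩) = 1 := by
      rw [← h, map_mul]
      show α * α = α ^ (2 : ZMod 4).val
      rw [← pow_two]; rfl
    have h'' : π A * π A ∈ N := (QuotientGroup.eq_one_iff (N := K) _).1 h'
    obtain ⟨i, j, hij⟩ := inv_mem h''
    rw [hval, inv_eq_iff_mul_eq_one, ← map_mul, ← map_mul] at hij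
    have hc' := hcomm _ hij X
    rw [val_mul, val_mul, val_mul, val_pow, val_pow, vA, vX, vY] at hc'
    exact sq_indep i j hc'
  have hP : Nat.card (Cfsg.PSU 3 F 2) = 72 := (Cfsg.Agent.S0282.result hF).1
  have hK : Nat.card K = 9 := by
    rw [Nat.card_congr (Subgroup.subgroupOfEquivOfLe Subgroup.le_normalizer).toEquiv, hN]
  have hMK : Nat.card M = Nat.card (M ⧸ K) * 9 := by rw [← hK, ← Subgroup.card_eq_card_quotient_mul_card_subgroup]
  have h8 : 8 ≤ Nat.card (M ⧸ K) := le_trans (le_of_eq (by simp [Nat.card_eq_fintype_card, QuaternionGroup.card]))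
    (Nat.card_le_card_of_injective f hf)
  have hM : M = ⊤ := Subgroup.eq_top_of_le_card _ (by rw [hP, hMK]; omega)
  have hMK' : Nat.card (M ⧸ K) = 8 := by
    have := Subgroup.card_le_card_group M
    omega
  haveI hNn : N.Normal := Subgroup.normalizer_eq_top_iff.1 hM
  refine ⟨N, hNn, hN, hN3, ⟨MulEquiv.symm ?_⟩⟩
  let φ : M ⧸ K →* Cfsg.PSU 3 F 2 ⧸ N :=
    QuotientGroup.map K N M.subtype (fun g hg => hg)
  have hφ : Function.Injective φ := (injective_iff_map_eq_one φ).2 fun g hg => by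
    obtain ⟨g, rfl⟩ := QuotientGroup.mk_surjective g
    exact (QuotientGroup.eq_one_iff _).2 ((QuotientGroup.eq_one_iff (N := N) _).1 hg)
  refine MulEquiv.ofBijective (φ.comp f) ((Nat.bijective_iff_injective_and_card _).2 ⟨hφ.comp hf, ?_⟩)
  have h9 := Subgroup.card_eq_card_quotient_mul_card_subgroup N
  rw [hP, hN] at h9
  rw [Nat.card_eq_fintype_card (α := QuaternionGroup 2), QuaternionGroup.card]
  omega

end CfsgLib.Lie.SUThreeTwo
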