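import Cfsg.Agent.Lie.Herm

/-!
Determinant, centre and transvections of the unitary groups.
-/

set_option autoImplicit false
set_option linter.unusedSimpArgs false
set_option linter.unusedSectionVars false

namespace CfsgLib.Lie.Unitary

open Matrix Herm

variable {F : Type*} [Field F] [Fintype F] {q n : ℕ}

/-- The group of norm-one elements of `Fˣ`. -/
abbrev N1 (F : Type*) [Field F] (q : ℕ) : Subgroup Fˣ := (powMonoidHom (q + 1) : Fˣ →* Fˣ).ker

theorem mem_N1 {a : Fˣ} : a ∈ N1 F q ↔ a ^ (q + 1) = 1 := Iff.rfl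

theorem card_N1 (hF : Fintype.card F = q ^ 2) : Nat.card (N1 F q) = q + 1 := by
  rw [IsCyclic.card_powMonoidHom_ker, Orders.card_units_eq, Nat.card_eq_fintype_card, hF]
  refine Nat.gcd_eq_right ⟨q - 1, ?_⟩
  simpa using Nat.sq_sub_sq q 1

/-- A norm-one element with square different from one. -/
theorem exists_N1_sq_ne (hF : Fintype.card F = q ^ 2) : ∃ a : N1 F q, a ^ 2 ≠ 1 := by
  obtain ⟨g, hg⟩ := IsCyclic.exists_generator (α := N1 F q)
  refine ⟨g, fun h => ?_⟩
  have := Nat.le_of_dvd two_pos (orderOf_dvd_of_pow_eq_one h)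
  rw [orderOf_eq_card_of_forall_mem_zpowers hg, card_N1 hF] at this
  have := two_le hF
  omega

theorem N1_val {a : Fˣ} (ha : a ∈ N1 F q) : (a : F) * (a : F) ^ q = 1 := by
  rw [← pow_succ', ← Units.val_pow_eq_pow_val, mem_N1.1 ha, Units.val_one]

theorem transpose_mul_conj (hF : Fintype.card F = q ^ 2) {A : Matrix (Fin n) (Fin n) F}
    (hA : ∀ u v, Cfsg.hermForm n F q (A *ᵥ u) (A *ᵥ v) = Cfsg.hermForm n F q u v) :
    Aᵀ * A.map (conj hF) = 1 := by
  ext i j
  have h := hA (Pi.single i 1) (Pi.single j 1)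
  rw [form_single hF, Matrix.mulVec_single_one, Matrix.mulVec_single_one] at h
  rw [Matrix.one_apply, Matrix.mul_apply]
  simp only [Matrix.transpose_apply, Matrix.map_apply, conj_apply]
  rw [show (if i = j then (1 : F) else 0) = (Pi.single i (1 : F) : Fin n → F) j by
    simp [Pi.single_apply, eq_comm]]
  exact h

theorem det_norm (hF : Fintype.card F = q ^ 2) {A : Matrix (Fin n) (Fin n) F}
    (hA : ∀ u v, Cfsg.hermForm n F q (A *ᵥ u) (A *ᵥ v) = Cfsg.hermForm n F q u v) :
    A.det * A.det ^ q = 1 := by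
  have h := congrArg Matrix.det (transpose_mul_conj hF hA)
  rw [Matrix.det_mul, Matrix.det_transpose, Matrix.det_one] at h
  rwa [← RingHom.mapMatrix_apply, ← RingHom.map_det, conj_apply] at h

/-- The determinant on GU. -/
def detN (hF : Fintype.card F = q ^ 2) (n : ℕ) : Cfsg.GU n F q →* N1 F q :=
  ((Matrix.GeneralLinearGroup.det).comp (Cfsg.GU n F q).subtype).codRestrict (N1 F q) fun g =>
    mem_N1.2 (Units.ext (by
      have h := det_norm hF (g.2 : ∀ u v, _)
      rw [← pow_succ'] at h
      simpa [Matrix.GeneralLinearGroup.val_det_apply] using h))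

theorem detN_val (hF : Fintype.card F = q ^ 2) (g : Cfsg.GU n F q) :
    ((detN hF n g : Fˣ) : F) = ((g : GL (Fin n) F) : Matrix (Fin n) (Fin n) F).det := rfl

theorem form_diagonal (d : Fin n → F) (hd : ∀ i, d i * d i ^ q = 1) (u v : Fin n → F) :
    Cfsg.hermForm n F q (diagonal d *ᵥ u) (diagonal d *ᵥ v) = Cfsg.hermForm n F q u v := by
  simp only [Cfsg.hermForm, Matrix.mulVec_diagonal]
  refine Finset.sum_congr rfl fun i _ => ?_
  calc d i * u i * (d i * v i) ^ q = (d i * d i ^ q) * (u i * v i ^ q) := by ring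
    _ = _ := by rw [hd, one_mul]

/-- Diagonal unitary matrices. -/
def diagGU (n : ℕ) : (Fin n → N1 F q) →* Cfsg.GU n F q where
  toFun d := ⟨⟨diagonal fun i => ((d i : Fˣ) : F), diagonal fun i => (((d i)⁻¹ : N1 F q) : Fˣ).1,
    by simp, by simp⟩, fun u v => form_diagonal _ (fun i => N1_val (d i).2) u v⟩
  map_one' := Subtype.ext (Units.ext (by simp))
  map_mul' d e := Subtype.ext (Units.ext (by simp))

theorem diagGU_val (d : Fin n → N1 F q) :
    ((diagGU n d : GL (Fin n) F) : Matrix (Fin n) (Fin n) F) = diagonal fun i => ((d i : Fˣ) : F) :=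
  rfl

theorem detN_diagGU (hF : Fintype.card F = q ^ 2) (d : Fin n → N1 F q) :
    detN hF n (diagGU n d) = ∏ i, d i := by
  refine Subtype.ext (Units.ext ?_)
  rw [detN_val, diagGU_val, Matrix.det_diagonal, Subgroup.val_finsetProd, Units.coe_prod]

theorem detN_surjective (hF : Fintype.card F = q ^ 2) (hn : 1 ≤ n) :
    Function.Surjective (detN hF n) := by
  intro a
  refine ⟨diagGU n (Function.update 1 ⟨0, hn⟩ a), ?_⟩
  rw [detN_diagGU, Finset.prod_update_of_mem (Finset.mem_univ _)]
  simp

/-- SU inside GU. -/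
def suToGU (n : ℕ) (F : Type*) [Field F] (q : ℕ) : Cfsg.SU n F q →* Cfsg.GU n F q :=
  (Matrix.SpecialLinearGroup.toGL.comp (Cfsg.SU n F q).subtype).codRestrict _ fun g => g.2

theorem suToGU_injective : Function.Injective (suToGU n F q) := fun a b h => by
  refine Subtype.ext (Matrix.SpecialLinearGroup.toGL_injective ?_)
  exact congrArg Subtype.val h

theorem range_suToGU (hF : Fintype.card F = q ^ 2) : (suToGU n F q).range = (detN hF n).ker := by
  ext g
  constructor
  · rintro ⟨a, rfl⟩
    exact Subtype.ext (Units.ext (by rw [detN_val]; exact a.1.2))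
  · intro h
    have h1 := congrArg (fun x : N1 F q => ((x : Fˣ) : F)) (MonoidHom.mem_ker.1 h)
    exact ⟨⟨⟨_, h1⟩, g.2⟩, Subtype.ext (Units.ext rfl)⟩

theorem card_SU (hF : Fintype.card F = q ^ 2) (hn : 1 ≤ n) :
    (q + 1) * Nat.card (Cfsg.SU n F q) = Nat.card (Cfsg.GU n F q) := by
  rw [← Subgroup.card_mul_index (detN hF n).ker, Subgroup.index_ker,
    MonoidHom.range_eq_top.2 (detN_surjective hF hn), Subgroup.card_top, card_N1 hF, ← range_suToGU hF,
    ← Nat.card_congr (MonoidHom.ofInjective (suToGU_injective (n := n) (F := F) (q := q))).toEquiv,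
    mul_comm]

/-- Scalar unitary matrices. -/
def scalarGU (n : ℕ) : N1 F q →* Cfsg.GU n F q :=
  (diagGU n).comp { toFun := fun a _ => a, map_one' := rfl, map_mul' := fun _ _ => rfl }

theorem scalarGU_val (a : N1 F q) :
    ((scalarGU n a : GL (Fin n) F) : Matrix (Fin n) (Fin n) F) = ((a : Fˣ) : F) • 1 := by
  rw [Matrix.smul_one_eq_diagonal]; rfl

theorem scalarGU_injective (hn : 1 ≤ n) : Function.Injective (scalarGU (F := F) (q := q) n) := by
  intro a b h
  have := congrArg (fun g : Cfsg.GU n F q => ((g : GL (Fin n) F) : Matrix (Fin n) (Fin n) F)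
    ⟨0, hn⟩ ⟨0, hn⟩) h
  simp [scalarGU_val] at this
  exact Subtype.ext (Units.ext this)

/-- Signed transposition matrix. -/
def swapMat (n : ℕ) (F : Type*) [Field F] (i j : Fin n) : Matrix (Fin n) (Fin n) F :=
  diagonal (Function.update 1 i (-1)) * (Equiv.swap i j).toPEquiv.toMatrix

theorem swapMat_form (hF : Fintype.card F = q ^ 2) (i j : Fin n) (u v : Fin n → F) :
    Cfsg.hermForm n F q (swapMat n F i j *ᵥ u) (swapMat n F i j *ᵥ v) = Cfsg.hermForm n F q u v := by
  rw [swapMat, ← Matrix.mulVec_mulVec, ← Matrix.mulVec_mulVec,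
    form_diagonal _ (fun k => ?_)]
  · simp only [Cfsg.hermForm, PEquiv.toMatrix_toPEquiv_mulVec, Function.comp_apply]
    exact Equiv.sum_comp (Equiv.swap i j) (fun k => u k * v k ^ q)
  · rcases eq_or_ne k i with rfl | hk
    · rw [Function.update_self, ← conj_apply hF, map_neg, map_one, neg_mul_neg, one_mul]
    · rw [Function.update_of_ne hk]; simp

theorem swapMat_det (i j : Fin n) (hij : i ≠ j) : (swapMat n F i j).det = 1 := by
  rw [swapMat, Matrix.det_mul, Matrix.det_diagonal, Finset.prod_update_of_mem (Finset.mem_univ _),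
    Matrix.det_permutation, Equiv.Perm.sign_swap hij]
  simp

/-- A matrix commuting with all of SU is scalar. -/
theorem scalar_of_commute (hF : Fintype.card F = q ^ 2) (hn : 2 ≤ n) {z : Matrix (Fin n) (Fin n) F}
    (hz : ∀ A : Matrix (Fin n) (Fin n) F, A.det = 1 →
      (∀ u v, Cfsg.hermForm n F q (A *ᵥ u) (A *ᵥ v) = Cfsg.hermForm n F q u v) → z * A = A * z) :
    z = z ⟨0, by omega⟩ ⟨0, by omega⟩ • 1 := by
  obtain ⟨a, ha⟩ := exists_N1_sq_ne hF
  have hoff : ∀ i j, i ≠ j → z i j = 0 := by
    intro i j hij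
    let d : Fin n → N1 F q := Function.update (Function.update 1 i a) j a⁻¹
    have hdet : detN hF n (diagGU n d) = 1 := by
      rw [detN_diagGU, Finset.prod_update_of_mem (Finset.mem_univ _),
        Finset.prod_update_of_mem (by simp [hij])]
      simp
    have h := congrFun (congrFun (hz (diagonal fun k => ((d k : Fˣ) : F)) (by
      rw [← diagGU_val d, ← detN_val hF, hdet]; rfl) (fun u v => (diagGU n d).2 u v)) i) j
    change (z * diagonal fun k => ((d k : Fˣ) : F)) i j = ((diagonal fun k => ((d k : Fˣ) : F)) * z) i j at h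
    rw [Matrix.mul_diagonal, Matrix.diagonal_mul] at h
    by_contra hz0
    have h1 : d j = d i := Subtype.ext (Units.ext (mul_left_cancel₀ hz0 (h.trans (mul_comm _ _))))
    simp only [d, Function.update_self, Function.update_of_ne hij] at h1
    exact ha (by rw [pow_two]; exact (inv_eq_iff_mul_eq_one.1 h1))
  ext i j
  rcases eq_or_ne i j with rfl | hij
  · simp only [Matrix.smul_apply, Matrix.one_apply_eq, smul_eq_mul, mul_one]
    rcases eq_or_ne i ⟨0, by omega⟩ with rfl | hi
    · rfl
    set k : Fin n := ⟨0, by omega⟩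
    have h := congrFun (congrFun (hz _ (swapMat_det i k hi) (swapMat_form hF i k)) i) k
    rw [Matrix.mul_apply, Matrix.mul_apply, Finset.sum_eq_single i, Finset.sum_eq_single k] at h
    · have hs : swapMat n F i k i k = -1 := by
        simp [swapMat, Matrix.diagonal_mul, PEquiv.toMatrix_apply, Equiv.swap_apply_left]
      rw [hs] at h
      simpa using h
    · intro b _ hb; rw [hoff _ _ hb, mul_zero]
    · simp
    · intro b _ hb; rw [hoff _ _ hb.symm, zero_mul]
    · simp
  · simp [Matrix.smul_apply, Matrix.one_apply_ne hij, hoff i j hij]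

theorem center_GU (hF : Fintype.card F = q ^ 2) (hn : 2 ≤ n) :
    Subgroup.center (Cfsg.GU n F q) = (scalarGU (F := F) (q := q) n).range := by
  refine le_antisymm (fun z hz => ?_) ?_
  · have h := scalar_of_commute hF hn (z := ((z : GL (Fin n) F) : Matrix (Fin n) (Fin n) F))
      (fun A hA hA' => by
        have := Subgroup.mem_center_iff.1 hz (suToGU n F q ⟨⟨A, hA⟩, hA'⟩)
        exact (congrArg (fun g : Cfsg.GU n F q => ((g : GL (Fin n) F) : Matrix (Fin n) (Fin n) F)) this).symm)
    set c := ((z : GL (Fin n) F) : Matrix (Fin n) (Fin n) F) ⟨0, by omega⟩ ⟨0, by omega⟩ with hc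
    have h1 : c * c ^ q = 1 := by
      have := z.2 (Pi.single ⟨0, by omega⟩ 1) (Pi.single ⟨0, by omega⟩ 1)
      change Cfsg.hermForm n F q (((z : GL (Fin n) F) : Matrix (Fin n) (Fin n) F) *ᵥ _)
        (((z : GL (Fin n) F) : Matrix (Fin n) (Fin n) F) *ᵥ _) = _ at this
      rw [h, Matrix.smul_mulVec, Matrix.one_mulVec, form_smul_left, form_smul_right, form_single hF,
        Pi.single_eq_same, mul_one] at this
      exact this
    have hc0 : c ≠ 0 := fun h0 => by simp [h0] at h1
    exact ⟨⟨Units.mk0 c hc0, mem_N1.2 (Units.ext (by simpa [← pow_succ'] using h1))⟩,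
      Subtype.ext (Units.ext (by rw [scalarGU_val]; exact h.symm))⟩
  · rintro _ ⟨a, rfl⟩
    refine Subgroup.mem_center_iff.2 fun g => Subtype.ext (Units.ext ?_)
    simp only [Subgroup.coe_mul, Units.val_mul, scalarGU_val, mul_smul_comm, smul_mul_assoc, mul_one,
      one_mul]

theorem detN_scalarGU (hF : Fintype.card F = q ^ 2) (a : N1 F q) : detN hF n (scalarGU n a) = a ^ n := by
  refine (detN_diagGU hF _).trans ?_
  simp

theorem card_center_SU (hF : Fintype.card F = q ^ 2) (hn : 2 ≤ n) :
    Nat.card (Subgroup.center (Cfsg.SU n F q)) = Nat.gcd n (q + 1) := by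
  have h1 : Nat.card (powMonoidHom n : N1 F q →* N1 F q).ker = Nat.gcd n (q + 1) := by
    rw [IsCyclic.card_powMonoidHom_ker, card_N1 hF, Nat.gcd_comm]
  rw [← h1]
  have hmem : ∀ a : (powMonoidHom n : N1 F q →* N1 F q).ker, ∃ z : Cfsg.SU n F q,
      suToGU n F q z = scalarGU n a.1 := fun a => by
    have : scalarGU n a.1 ∈ (suToGU n F q).range := by
      rw [range_suToGU hF, MonoidHom.mem_ker, detN_scalarGU]; exact MonoidHom.mem_ker.1 a.2
    exact this
  choose f hf using hmem
  refine Nat.card_congr (Equiv.ofBijective (fun a => (⟨f a, Subgroup.mem_center_iff.2 fun g => suToGU_injective ?_⟩ :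
    Subgroup.center (Cfsg.SU n F q))) ?_).symm
  · have hc : scalarGU n a.1 ∈ Subgroup.center (Cfsg.GU n F q) := by
      rw [center_GU hF hn]; exact ⟨_, rfl⟩
    rw [map_mul, map_mul, hf]
    exact Subgroup.mem_center_iff.1 hc _
  · constructor
    · intro a b h
      have := congrArg (fun x : Subgroup.center (Cfsg.SU n F q) => suToGU n F q x.1) h
      dsimp only at this
      rw [hf, hf] at this
      exact Subtype.ext (scalarGU_injective (by omega) this)
    · intro z
      have hzc : suToGU n F q z.1 ∈ Subgroup.center (Cfsg.GU n F q) := by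
        have h := scalar_of_commute hF hn (z := ((z.1 : Matrix.SpecialLinearGroup (Fin n) F) : Matrix (Fin n) (Fin n) F))
          (fun A hA hA' => by
            have := Subgroup.mem_center_iff.1 z.2 ⟨⟨A, hA⟩, hA'⟩
            exact (congrArg (fun g : Cfsg.SU n F q => ((g : Matrix.SpecialLinearGroup (Fin n) F) : Matrix (Fin n) (Fin n) F)) this).symm)
        refine Subgroup.mem_center_iff.2 fun g => Subtype.ext (Units.ext ?_)
        change _ * ((z.1 : Matrix.SpecialLinearGroup (Fin n) F) : Matrix (Fin n) (Fin n) F) =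
          ((z.1 : Matrix.SpecialLinearGroup (Fin n) F) : Matrix (Fin n) (Fin n) F) * _
        rw [h]
        simp
      rw [center_GU hF hn] at hzc
      obtain ⟨a, ha⟩ := hzc
      have hk : a ^ n = 1 := by
        rw [← detN_scalarGU hF, ha, ← MonoidHom.mem_ker, ← range_suToGU hF]; exact ⟨_, rfl⟩
      refine ⟨⟨a, MonoidHom.mem_ker.2 hk⟩, Subtype.ext (suToGU_injective ?_)⟩
      rw [hf]
      exact ha

theorem card_PSU (hF : Fintype.card F = q ^ 2) (hn : 2 ≤ n) :
    Nat.gcd n (q + 1) * ((q + 1) * Nat.card (Cfsg.PSU n F q)) = Nat.card (Cfsg.GU n F q) := by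
  rw [← card_SU hF (by omega), ← card_center_SU hF hn,
    ← Subgroup.card_mul_index (Subgroup.center (Cfsg.SU n F q))]
  rw [Subgroup.index_eq_card]
  ring

theorem exists_det_quot (hF : Fintype.card F = q ^ 2) (hn : 2 ≤ n) :
    ∃ φ : ↥(Cfsg.GU n F q) →* Multiplicative (ZMod (Nat.gcd n (q + 1))), Function.Surjective φ ∧
      φ.ker = (Matrix.GeneralLinearGroup.det : GL (Fin n) F →* Fˣ).ker.subgroupOf (Cfsg.GU n F q) ⊔
        Subgroup.center ↥(Cfsg.GU n F q) := by
  let H := (powMonoidHom n : N1 F q →* N1 F q).range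
  have hcard : Nat.card (N1 F q ⧸ H) = Nat.card (Multiplicative (ZMod (Nat.gcd n (q + 1)))) := by
    rw [← Subgroup.index_eq_card, IsCyclic.index_powMonoidHom_range, card_N1 hF,
      Nat.card_congr Multiplicative.toAdd, Nat.card_zmod, Nat.gcd_comm]
  have : IsCyclic (N1 F q ⧸ H) := isCyclic_of_surjective _ (QuotientGroup.mk'_surjective H)
  let e := mulEquivOfCyclicCardEq hcard
  refine ⟨e.toMonoidHom.comp ((QuotientGroup.mk' H).comp (detN hF n)),
    e.surjective.comp ((QuotientGroup.mk'_surjective H).comp (detN_surjective hF (by omega))), ?_⟩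
  have h1 : (Matrix.GeneralLinearGroup.det : GL (Fin n) F →* Fˣ).ker.subgroupOf (Cfsg.GU n F q) =
      (detN hF n).ker := by
    ext g
    exact (Subtype.ext_iff (a1 := detN hF n g) (a2 := 1)).symm
  have h2 : (Subgroup.center (Cfsg.GU n F q)).map (detN hF n) = H := by
    rw [center_GU hF hn, ← MonoidHom.range_comp]
    congr 1
    exact MonoidHom.ext fun a => detN_scalarGU hF a
  rw [h1, ← MonoidHom.comap_ker, (MonoidHom.ker_eq_bot_iff _).2 e.injective, MonoidHom.comap_bot,
    ← MonoidHom.comap_ker, QuotientGroup.ker_mk', sup_comm,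
    ← Subgroup.comap_map_eq, h2]

theorem transvection_mulVec (v : Fin n → F) (c : F) (x : Fin n → F) :
    Cfsg.unitaryTransvection n q v c *ᵥ x = x + (c * Cfsg.hermForm n F q x v) • v := by
  rw [Cfsg.unitaryTransvection, Matrix.add_mulVec, Matrix.one_mulVec, Matrix.smul_mulVec,
    Matrix.vecMulVec_mulVec]
  funext i
  simp [Cfsg.hermForm, dotProduct, mul_comm, mul_left_comm]

theorem transvection_isometry_iff (hF : Fintype.card F = q ^ 2) {v : Fin n → F} (hv : v ≠ 0)
    (hv0 : Cfsg.hermForm n F q v v = 0) (c : F) :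
    (∀ x y : Fin n → F, Cfsg.hermForm n F q (Cfsg.unitaryTransvection n q v c *ᵥ x)
      (Cfsg.unitaryTransvection n q v c *ᵥ y) = Cfsg.hermForm n F q x y) ↔
      (c = 0 ∨ c ^ (q - 1) = -1) := by
  have key : ∀ x y, Cfsg.hermForm n F q (Cfsg.unitaryTransvection n q v c *ᵥ x)
      (Cfsg.unitaryTransvection n q v c *ᵥ y) = Cfsg.hermForm n F q x y +
        (c ^ q + c) * (Cfsg.hermForm n F q x v * Cfsg.hermForm n F q v y) := by
    intro x y
    rw [transvection_mulVec, transvection_mulVec, form_add_left, form_add_right hF, form_add_right hF,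
      form_smul_left, form_smul_left, form_smul_right, form_smul_right, hv0, mul_pow, form_comm hF]
    ring
  have hiff : (∀ x y : Fin n → F, Cfsg.hermForm n F q (Cfsg.unitaryTransvection n q v c *ᵥ x)
      (Cfsg.unitaryTransvection n q v c *ᵥ y) = Cfsg.hermForm n F q x y) ↔ c ^ q + c = 0 := by
    constructor
    · intro h
      obtain ⟨i, hi⟩ := Function.ne_iff.1 hv
      have h' := h (Pi.single i 1) (Pi.single i 1)
      rw [key, add_eq_left] at h'
      rcases mul_eq_zero.1 h' with h' | h'
      · exact h'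
      · refine absurd h' ?_
        rw [← form_comm hF v (Pi.single i 1), form_single hF]
        exact mul_ne_zero (pow_ne_zero _ hi) hi
    · intro h x y; rw [key, h, zero_mul, add_zero]
  rw [hiff]
  have hq := two_le hF
  obtain ⟨k, rfl⟩ : ∃ k, q = k + 1 := ⟨q - 1, by omega⟩
  rw [Nat.add_sub_cancel, pow_succ, show c ^ k * c + c = c * (c ^ k + 1) by ring, mul_eq_zero,
    add_eq_zero_iff_eq_neg]

end CfsgLib.Lie.Unitary
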