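import Mathlib

/-!
Lattice complements from complemented intervals.
-/

set_option autoImplicit false

namespace CfsgLib.Lie.Compl

variable {G : Type*} [Group G] [Finite G]

theorem exists_compl_of_interval (T X M : Subgroup G)
    (hint : ∀ Y : Subgroup G, T ≤ Y → Y ≤ X → ∃ C : Subgroup G, T ≤ C ∧ C ≤ X ∧ Y ⊔ C = X ∧ Y ⊓ C = T)
    (hTX : T ≤ X) (huniq : ∀ M' : Subgroup G, IsCoatom M' → X ≤ M' → M' = M) (H : Subgroup G)
    (hH : ¬ H ≤ M) (hHT : H ⊓ T = ⊥) : ∃ C : Subgroup G, H ⊔ C = ⊤ ∧ H ⊓ C = ⊥ := by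
  obtain ⟨C, hTC, hCX, hsup, hinf⟩ := hint ((H ⊓ X) ⊔ T) le_sup_right (sup_le inf_le_right hTX)
  refine ⟨C, ?_, ?_⟩
  · rcases eq_top_or_exists_le_coatom (H ⊔ C) with h | ⟨M', hM', hle⟩
    · exact h
    · exfalso
      have hX : X ≤ M' := by
        rw [← hsup]
        refine sup_le (sup_le ?_ ?_) (le_trans le_sup_right hle)
        · exact le_trans (le_trans inf_le_left le_sup_left) hle
        · exact le_trans (le_trans hTC le_sup_right) hle
      exact hH (huniq M' hM' hX ▸ le_trans le_sup_left hle)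
  · rw [← le_bot_iff, ← hHT]
    refine le_inf inf_le_left (le_trans ?_ hinf.le)
    exact le_inf (le_trans (le_inf inf_le_left (le_trans inf_le_right hCX)) le_sup_left) inf_le_right

/-- Transport of a complement along an automorphism. -/
theorem compl_map (e : G ≃* G) {H C : Subgroup G} (h : H.map e.toMonoidHom ⊔ C = ⊤)
    (h' : H.map e.toMonoidHom ⊓ C = ⊥) : ∃ C' : Subgroup G, H ⊔ C' = ⊤ ∧ H ⊓ C' = ⊥ := by
  refine ⟨C.map e.symm.toMonoidHom, ?_, ?_⟩
  · refine Subgroup.map_injective (f := e.toMonoidHom) e.injective ?_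
    rw [Subgroup.map_sup, Subgroup.map_map, Subgroup.map_top_of_surjective _ e.surjective,
      show e.toMonoidHom.comp e.symm.toMonoidHom = MonoidHom.id G from
        MonoidHom.ext e.apply_symm_apply, Subgroup.map_id, h]
  · refine Subgroup.map_injective (f := e.toMonoidHom) e.injective ?_
    rw [Subgroup.map_inf _ _ _ e.injective, Subgroup.map_map, Subgroup.map_bot,
      show e.toMonoidHom.comp e.symm.toMonoidHom = MonoidHom.id G from
        MonoidHom.ext e.apply_symm_apply, Subgroup.map_id, h']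

theorem interval_bot {X : Subgroup G} (hK : ComplementedLattice (Subgroup X)) :
    ∀ Y : Subgroup G, ⊥ ≤ Y → Y ≤ X → ∃ C : Subgroup G, ⊥ ≤ C ∧ C ≤ X ∧ Y ⊔ C = X ∧ Y ⊓ C = ⊥ := by
  intro Y _ hY
  obtain ⟨C, hC⟩ := exists_isCompl (Y.subgroupOf X)
  refine ⟨C.map X.subtype, bot_le, Subgroup.map_subtype_le C, ?_, ?_⟩
  · have h := congrArg (Subgroup.map X.subtype) hC.sup_eq_top
    rwa [Subgroup.map_sup, Subgroup.map_subgroupOf_eq_of_le hY, ← MonoidHom.range_eq_map,
      Subgroup.range_subtype] at h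
  · have h := congrArg (Subgroup.map X.subtype) hC.inf_eq_bot
    rwa [Subgroup.map_inf _ _ _ X.subtype_injective, Subgroup.map_subgroupOf_eq_of_le hY,
      Subgroup.map_bot] at h

theorem interval_quot {X N : Subgroup G} (hNX : N ≤ X) [(N.subgroupOf X).Normal]
    (hK : ComplementedLattice (Subgroup (X ⧸ N.subgroupOf X))) :
    ∀ Y : Subgroup G, N ≤ Y → Y ≤ X → ∃ C : Subgroup G, N ≤ C ∧ C ≤ X ∧ Y ⊔ C = X ∧ Y ⊓ C = N := by
  intro Y hNY hY
  set π := QuotientGroup.mk' (N.subgroupOf X)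
  obtain ⟨C0, hC⟩ := exists_isCompl ((Y.subgroupOf X).map π)
  have hker : π.ker = N.subgroupOf X := QuotientGroup.ker_mk' _
  have hNsub : N.subgroupOf X ≤ Y.subgroupOf X := fun a ha => hNY ha
  have hYc : ((Y.subgroupOf X).map π).comap π = Y.subgroupOf X :=
    Subgroup.comap_map_eq_self (hker.le.trans hNsub)
  refine ⟨(C0.comap π).map X.subtype, ?_, Subgroup.map_subtype_le _, ?_, ?_⟩
  · intro x hx
    exact ⟨⟨x, hNX hx⟩, by
      change π ⟨x, hNX hx⟩ ∈ C0
      rw [show π ⟨x, hNX hx⟩ = 1 from (QuotientGroup.eq_one_iff _).2 hx]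
      exact one_mem _, rfl⟩
  · have h := congrArg (Subgroup.comap π) hC.sup_eq_top
    rw [← Subgroup.comap_sup_eq _ _ _ (QuotientGroup.mk'_surjective _), hYc, Subgroup.comap_top] at h
    have h2 := congrArg (Subgroup.map X.subtype) h
    rwa [Subgroup.map_sup, Subgroup.map_subgroupOf_eq_of_le hY, ← MonoidHom.range_eq_map,
      Subgroup.range_subtype] at h2
  · have h := congrArg (Subgroup.comap π) hC.inf_eq_bot
    rw [Subgroup.comap_inf, hYc, MonoidHom.comap_bot, hker] at h
    have h2 := congrArg (Subgroup.map X.subtype) h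
    rwa [Subgroup.map_inf _ _ _ X.subtype_injective, Subgroup.map_subgroupOf_eq_of_le hY,
      Subgroup.map_subgroupOf_eq_of_le hNX] at h2

theorem compl_of_not_le_core (X M : Subgroup G) (hK : ComplementedLattice (Subgroup X))
    (huniq : ∀ M' : Subgroup G, IsCoatom M' → X ≤ M' → M' = M) (H : Subgroup G)
    (hH : ¬ H ≤ M.normalCore) : ∃ C : Subgroup G, H ⊔ C = ⊤ ∧ H ⊓ C = ⊥ := by
  obtain ⟨h, hh, hn⟩ := SetLike.not_le_iff_exists.1 hH
  obtain ⟨g, hg⟩ : ∃ g, g * h * g⁻¹ ∉ M := not_forall.1 hn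
  have hle : ¬ H.map (MulAut.conj g).toMonoidHom ≤ M := fun hc => hg (hc ⟨h, hh, rfl⟩)
  obtain ⟨C, hC1, hC2⟩ := exists_compl_of_interval ⊥ X M (interval_bot hK) bot_le huniq _ hle
    (inf_bot_eq _)
  exact compl_map _ hC1 hC2

theorem complemented_of_central_prime [IsSimpleGroup G] (X M N : Subgroup G) (hM : IsCoatom M)
    (huniq : ∀ M' : Subgroup G, IsCoatom M' → X ≤ M' → M' = M)
    (hNX : N ≤ X) (hN : (Nat.card N).Prime) (hcen : ∀ n ∈ N, ∀ m ∈ M, m * n = n * m)
    [(N.subgroupOf X).Normal] (hK : ComplementedLattice (Subgroup (X ⧸ N.subgroupOf X))) :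
    ComplementedLattice (Subgroup G) := by
  refine ⟨fun H => ?_⟩
  by_cases h0 : H = ⊥
  · exact ⟨⊤, h0 ▸ isCompl_bot_top⟩
  by_cases h1 : H = ⊤
  · exact ⟨⊥, h1 ▸ isCompl_top_bot⟩
  obtain ⟨g, hg1, hg2⟩ : ∃ g, ¬ H.map (MulAut.conj g).toMonoidHom ≤ M ∧
      H.map (MulAut.conj g).toMonoidHom ⊓ N = ⊥ := by
    by_contra hcon
    push_neg at hcon
    have hnorm : ∀ g : G, N ≤ Subgroup.normalizer (H.map (MulAut.conj g).toMonoidHom : Set G) := by
      intro g
      by_cases hle : H.map (MulAut.conj g).toMonoidHom ≤ M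
      · intro z hz
        refine Subgroup.centralizer_le_normalizer (G := G) _ ?_
        exact Subgroup.mem_centralizer_iff.2 fun y hy => hcen z hz y (hle hy)
      · have hne := hcon g hle
        have : Fact (Nat.card N).Prime := ⟨hN⟩
        rcases (H.map (MulAut.conj g).toMonoidHom ⊓ N).subgroupOf N |>.eq_bot_or_eq_top_of_prime_card
          with hb | ht
        · exfalso
          refine hne ?_
          rw [Subgroup.subgroupOf_eq_bot, disjoint_iff, inf_assoc, inf_idem] at hb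
          exact hb
        · exact le_trans (Subgroup.subgroupOf_eq_top.1 ht |>.trans inf_le_left) Subgroup.le_normalizer
    have hcore : N ≤ (Subgroup.normalizer (H : Set G)).normalCore := by
      intro z hz g
      have h := Subgroup.mem_normalizer_iff.1 (hnorm g⁻¹ hz)
      rw [Subgroup.mem_normalizer_iff]
      intro y
      have hy := h (g⁻¹ * y * g)
      have key : ∀ w, g⁻¹ * w * g ∈ H.map (MulAut.conj g⁻¹).toMonoidHom ↔ w ∈ H := fun w => by
        constructor
        · rintro ⟨w', hw', he⟩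
          simp [MulAut.conj_apply] at he
          exact he ▸ hw'
        · intro hw; exact ⟨w, hw, by simp [MulAut.conj_apply]⟩
      rw [key, show z * (g⁻¹ * y * g) * z⁻¹ =
        g⁻¹ * ((g * z * g⁻¹) * y * (g * z * g⁻¹)⁻¹) * g by group, key] at hy
      exact hy
    rcases (Subgroup.normalCore_normal (Subgroup.normalizer (H : Set G))).eq_bot_or_eq_top with hb | ht
    · rw [hb, le_bot_iff] at hcore
      rw [hcore, Subgroup.card_bot] at hN
      exact Nat.not_prime_one hN
    · have hn : H.Normal := Subgroup.normalizer_eq_top_iff.1 (top_le_iff.1 (ht ▸ Subgroup.normalCore_le _))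
      rcases hn.eq_bot_or_eq_top with h | h
      · exact h0 h
      · exact h1 h
  obtain ⟨C, hC1, hC2⟩ := exists_compl_of_interval N X M (interval_quot hNX hK) hNX huniq _ hg1 hg2
  obtain ⟨C', h3, h4⟩ := compl_map _ hC1 hC2
  exact ⟨C', IsCompl.of_eq h4 h3⟩

theorem complemented_quot (X M : Subgroup G) (hK : ComplementedLattice (Subgroup X))
    (huniq : ∀ M' : Subgroup G, IsCoatom M' → X ≤ M' → M' = M) :
    ComplementedLattice (Subgroup (G ⧸ M.normalCore)) := by
  refine ⟨fun Hb => ?_⟩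
  set π := QuotientGroup.mk' M.normalCore
  by_cases h0 : Hb = ⊥
  · exact ⟨⊤, h0 ▸ isCompl_bot_top⟩
  have hker : π.ker = M.normalCore := QuotientGroup.ker_mk' _
  have hmap : (Hb.comap π).map π = Hb :=
    Subgroup.map_comap_eq_self_of_surjective (QuotientGroup.mk'_surjective _) _
  have hn : ¬ Hb.comap π ≤ M.normalCore := fun h => h0 (by
    rw [← hmap, Subgroup.map_eq_bot_iff, hker]; exact h)
  obtain ⟨C, hC1, hC2⟩ := compl_of_not_le_core X M hK huniq _ hn
  refine ⟨C.map π, IsCompl.of_eq ?_ ?_⟩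
  · rw [eq_bot_iff]
    rintro x ⟨hx, c, hc, rfl⟩
    have : c ∈ Hb.comap π ⊓ C := ⟨hx, hc⟩
    rw [hC2, Subgroup.mem_bot] at this
    rw [this, map_one]
    exact one_mem _
  · conv_lhs => rw [← hmap]
    rw [← Subgroup.map_sup, hC1, Subgroup.map_top_of_surjective _ (QuotientGroup.mk'_surjective _)]

end CfsgLib.Lie.Compl
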