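import Cfsg.Prelude.Def_ClassicalGeometry

/-!
The symplectic group: transvections, transitivity, generation.
-/

set_option autoImplicit false
set_option linter.unusedSimpArgs false
set_option linter.unusedSectionVars false

namespace CfsgLib.Lie.Sp

open Matrix

variable {m : ℕ} {F : Type*} [Field F]

/-- The natural module. -/
abbrev V (m : ℕ) (F : Type*) : Type _ := Fin m ⊕ Fin m → F

/-- The standard form, bilinear. -/
noncomputable def bf (m : ℕ) (F : Type*) [Field F] : V m F →ₗ[F] V m F →ₗ[F] F :=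
  Matrix.toLinearMap₂' F (Matrix.J (Fin m) F)

theorem bf_eq (u v : V m F) : bf m F u v = Cfsg.sympForm m F u v := by
  rw [bf, Matrix.toLinearMap₂'_apply']
  rfl

theorem bf_apply (u v : V m F) : bf m F u v =
    ∑ i, (u (.inr i) * v (.inl i) - u (.inl i) * v (.inr i)) := by
  rw [bf, Matrix.toLinearMap₂'_apply', dotProduct, Fintype.sum_sum_type, ← Finset.sum_add_distrib]
  refine Finset.sum_congr rfl fun i _ => ?_
  simp [Matrix.J, Matrix.fromBlocks_mulVec, Matrix.neg_mulVec, Matrix.one_mulVec]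
  ring

theorem bf_self (u : V m F) : bf m F u u = 0 := by
  rw [bf_apply]; exact Finset.sum_eq_zero fun i _ => by ring

theorem bf_swap (u v : V m F) : bf m F v u = - bf m F u v := by
  rw [bf_apply, bf_apply, ← Finset.sum_neg_distrib]
  exact Finset.sum_congr rfl fun i _ => by ring

/-- e i -/
def e (i : Fin m) : V m F := Pi.single (.inl i) 1

/-- f i -/
def f (i : Fin m) : V m F := Pi.single (.inr i) 1

theorem bf_e_left (i : Fin m) (x : V m F) : bf m F (e i) x = - x (.inr i) := by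
  simp [bf_apply, e, Pi.single_apply, Finset.sum_ite_eq']

theorem bf_f_left (i : Fin m) (x : V m F) : bf m F (f i) x = x (.inl i) := by
  simp [bf_apply, f, Pi.single_apply, Finset.sum_ite_eq']

theorem bf_f_e (i : Fin m) : bf m F (f i) (e i) = 1 := by simp [bf_f_left, e]

theorem exists_bf_eq_one {u : V m F} (hu : u ≠ 0) : ∃ v, bf m F u v = 1 := by
  obtain ⟨i, hi⟩ := Function.ne_iff.1 hu
  simp only [Pi.zero_apply] at hi
  rcases i with i | i
  · refine ⟨(-(u (.inl i))⁻¹) • f i, ?_⟩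
    rw [map_smul, bf_swap, bf_f_left, smul_eq_mul]
    field_simp
  · refine ⟨(u (.inr i))⁻¹ • e i, ?_⟩
    rw [map_smul, bf_swap, bf_e_left, smul_eq_mul]
    field_simp

/-- Independent vectors have independent functionals. -/
theorem exists_bf_zero_one {u v : V m F} (hu : u ≠ 0) (hv : ∀ c : F, v ≠ c • u) :
    ∃ x, bf m F u x = 0 ∧ bf m F v x = 1 := by
  obtain ⟨x0, hx0⟩ := exists_bf_eq_one hu
  obtain ⟨y, hy⟩ := exists_bf_eq_one (sub_ne_zero.2 (hv (bf m F v x0)))
  refine ⟨y - bf m F u y • x0, ?_, ?_⟩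
  · simp [map_sub, map_smul, hx0]
  · simp only [map_sub, map_smul, LinearMap.sub_apply, LinearMap.smul_apply, smul_eq_mul] at hy ⊢
    linear_combination hy

abbrev G (m : ℕ) (F : Type*) [Field F] := Matrix.symplecticGroup (Fin m) F

/-- Membership in the symplectic group via the form. -/
theorem mem_iff_bf {A : Matrix (Fin m ⊕ Fin m) (Fin m ⊕ Fin m) F} :
    A ∈ Matrix.symplecticGroup (Fin m) F ↔
      ∀ u v, bf m F (A *ᵥ u) (A *ᵥ v) = bf m F u v := by
  have key : ∀ u v : V m F,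
      bf m F (A *ᵥ u) (A *ᵥ v) = u ⬝ᵥ ((Aᵀ * Matrix.J (Fin m) F * A) *ᵥ v) := by
    intro u v
    rw [bf, Matrix.toLinearMap₂'_apply', Matrix.mulVec_mulVec, ← Matrix.vecMul_transpose,
      ← Matrix.dotProduct_mulVec, Matrix.mulVec_mulVec, Matrix.mul_assoc]
  rw [SymplecticGroup.mem_iff']
  constructor
  · intro h u v
    rw [key, h, bf, Matrix.toLinearMap₂'_apply']
  · intro h
    ext a b
    have := h (Pi.single a 1) (Pi.single b 1)
    rw [key, bf, Matrix.toLinearMap₂'_apply'] at this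
    simpa [Matrix.mulVec_single, single_dotProduct] using this

/-- `g • v` -/
def act (g : G m F) (v : V m F) : V m F := (g : Matrix (Fin m ⊕ Fin m) (Fin m ⊕ Fin m) F) *ᵥ v

theorem act_one (v : V m F) : act (1 : G m F) v = v := Matrix.one_mulVec v

theorem act_mul (g h : G m F) (v : V m F) : act (g * h) v = act g (act h v) :=
  (Matrix.mulVec_mulVec v _ _).symm

theorem act_inv_act (g : G m F) (v : V m F) : act g⁻¹ (act g v) = v := by
  rw [← act_mul, inv_mul_cancel, act_one]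

theorem act_act_inv (g : G m F) (v : V m F) : act g (act g⁻¹ v) = v := by
  rw [← act_mul, mul_inv_cancel, act_one]

theorem bf_act (g : G m F) (u v : V m F) : bf m F (act g u) (act g v) = bf m F u v :=
  mem_iff_bf.1 g.2 u v

theorem act_ext {g h : G m F} (H : ∀ v, act g v = act h v) : g = h :=
  Subtype.ext (Matrix.ext_of_mulVec_single fun i => H _)

theorem act_add (g : G m F) (u v : V m F) : act g (u + v) = act g u + act g v :=
  Matrix.mulVec_add _ u v

theorem act_smul (g : G m F) (c : F) (v : V m F) : act g (c • v) = c • act g v :=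
  Matrix.mulVec_smul _ c v

theorem tvMatrix_mulVec (w : V m F) (c : F) (x : V m F) :
    Cfsg.sympTransvection m w c *ᵥ x = x + (c * bf m F x w) • w := by
  rw [Cfsg.sympTransvection, Matrix.add_mulVec, Matrix.one_mulVec, Matrix.smul_mulVec,
    Matrix.vecMulVec_mulVec, op_smul_eq_smul, smul_smul, bf_eq, Cfsg.sympForm,
    dotProduct_comm x]

theorem tv_mem (w : V m F) (c : F) :
    Cfsg.sympTransvection m w c ∈ Matrix.symplecticGroup (Fin m) F := by
  rw [mem_iff_bf]
  intro u v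
  simp only [tvMatrix_mulVec, map_add, map_smul, LinearMap.add_apply, LinearMap.smul_apply,
    smul_eq_mul, bf_self, bf_swap v w]
  ring

/-- The transvection as a group element. -/
def tv (w : V m F) (c : F) : G m F := ⟨Cfsg.sympTransvection m w c, tv_mem w c⟩

theorem act_tv (w : V m F) (c : F) (x : V m F) : act (tv w c) x = x + (c * bf m F x w) • w :=
  tvMatrix_mulVec w c x

theorem tv_add (w : V m F) (c d : F) : tv w c * tv w d = tv w (c + d) := by
  refine act_ext fun x => ?_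
  rw [act_mul, act_tv, act_tv, act_tv]
  simp only [map_add, map_smul, LinearMap.add_apply, LinearMap.smul_apply, smul_eq_mul, bf_self,
    mul_zero, add_zero, add_smul, add_mul]
  abel

theorem tv_zero (w : V m F) : tv w 0 = 1 := act_ext fun x => by simp [act_tv, act_one]

theorem tv_inv (w : V m F) (c : F) : (tv w c)⁻¹ = tv w (-c) :=
  inv_eq_of_mul_eq_one_right (by rw [tv_add, add_neg_cancel, tv_zero])

theorem conj_tv (g : G m F) (w : V m F) (c : F) : g * tv w c * g⁻¹ = tv (act g w) c := by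
  refine act_ext fun x => ?_
  simp only [act_mul, act_tv, act_add, act_smul, act_act_inv]
  congr 2
  rw [← bf_act g (act g⁻¹ x) w, act_act_inv]

theorem tv_smul (w : V m F) (a c : F) : tv (a • w) c = tv w (a * a * c) :=
  act_ext fun x => by
    simp only [act_tv, map_smul, smul_eq_mul, smul_smul]
    congr 2
    ring

/-- Subgroup generated by transvections whose vectors are orthogonal to S. -/
def tgen (S : Set (V m F)) : Subgroup (G m F) :=
  Subgroup.closure {A | ∃ w c, (∀ s ∈ S, bf m F s w = 0) ∧ A = tv w c}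

theorem tv_mem_tgen {S : Set (V m F)} {w : V m F} (hw : ∀ s ∈ S, bf m F s w = 0) (c : F) :
    tv w c ∈ tgen S :=
  Subgroup.subset_closure ⟨w, c, hw, rfl⟩

theorem tgen_anti {S T : Set (V m F)} (h : S ⊆ T) : tgen T ≤ tgen S := by
  rw [tgen, Subgroup.closure_le]
  rintro _ ⟨w, c, hw, rfl⟩
  exact tv_mem_tgen (fun s hs => hw s (h hs)) c

theorem tgen_fix {S : Set (V m F)} {g : G m F} (hg : g ∈ tgen S) {s : V m F} (hs : s ∈ S) :
    act g s = s := by
  induction hg using Subgroup.closure_induction with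
  | mem x hx =>
    obtain ⟨w, c, hw, rfl⟩ := hx
    simp [act_tv, hw s hs]
  | one => exact act_one s
  | mul a b _ _ ha hb => rw [act_mul, hb, ha]
  | inv a _ ha => conv_lhs => rw [← ha, act_inv_act]

theorem move_aux {S : Set (V m F)} {u w : V m F} (hu : ∀ s ∈ S, bf m F s u = 0)
    (hw : ∀ s ∈ S, bf m F s w = 0) (h : bf m F u w ≠ 0) :
    ∃ g ∈ tgen S, act g u = w := by
  refine ⟨tv (w - u) (bf m F u w)⁻¹, tv_mem_tgen (fun s hs => by simp [hu s hs, hw s hs]) _, ?_⟩
  rw [act_tv, map_sub, bf_self, sub_zero, inv_mul_cancel₀ h, one_smul, add_sub_cancel]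

/-- Transitivity on vectors having partners. -/
theorem move {S : Set (V m F)} {u v w v' : V m F} (hu : ∀ s ∈ S, bf m F s u = 0)
    (hv : ∀ s ∈ S, bf m F s v = 0) (hw : ∀ s ∈ S, bf m F s w = 0)
    (hv' : ∀ s ∈ S, bf m F s v' = 0) (huv : bf m F u v = 1) (hwv : bf m F w v' = 1) :
    ∃ g ∈ tgen S, act g u = w := by
  obtain ⟨z, hz, hz1, hz2⟩ : ∃ z, (∀ s ∈ S, bf m F s z = 0) ∧ bf m F u z ≠ 0 ∧ bf m F z w ≠ 0 := by
    by_cases h1 : bf m F w v ≠ 0
    · exact ⟨v, hv, by simp [huv], by rw [bf_swap]; simpa using h1⟩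
    by_cases h2 : bf m F u v' ≠ 0
    · exact ⟨v', hv', h2, by rw [bf_swap]; simp [hwv]⟩
    push_neg at h1 h2
    exact ⟨v + v', fun s hs => by simp [hv s hs, hv' s hs], by simp [huv, h2],
      by rw [bf_swap]; simp [hwv, h1]⟩
  obtain ⟨g, hg, hgu⟩ := move_aux hu hz hz1
  obtain ⟨k, hk, hkz⟩ := move_aux hz hw hz2
  exact ⟨k * g, mul_mem hk hg, by rw [act_mul, hgu, hkz]⟩

/-- Transitivity on hyperbolic pairs. -/
theorem move_pair {S : Set (V m F)} {u v u' v' : V m F} (hu : ∀ s ∈ S, bf m F s u = 0)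
    (hv : ∀ s ∈ S, bf m F s v = 0) (hu' : ∀ s ∈ S, bf m F s u' = 0)
    (hv' : ∀ s ∈ S, bf m F s v' = 0) (h : bf m F u v = 1) (h' : bf m F u' v' = 1) :
    ∃ g ∈ tgen S, act g u = u' ∧ act g v = v' := by
  obtain ⟨g, hg, hgu⟩ := move hu hv hu' hv' h h'
  have hx : ∀ s ∈ S, bf m F s (act g v) = 0 := fun s hs => by
    rw [← tgen_fix hg hs, bf_act, hv s hs]
  have hux : bf m F u' (act g v) = 1 := by rw [← hgu, bf_act, h]
  have step : ∀ a b : V m F, (∀ s ∈ S, bf m F s a = 0) → (∀ s ∈ S, bf m F s b = 0) →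
      bf m F u' a = 1 → bf m F u' b = 1 → bf m F a b ≠ 0 →
      ∃ k ∈ tgen S, act k u' = u' ∧ act k a = b := by
    intro a b ha hb h1 h2 h3
    refine ⟨tv (b - a) (bf m F a b)⁻¹, tv_mem_tgen (fun s hs => by simp [ha s hs, hb s hs]) _, ?_, ?_⟩
    · simp [act_tv, h1, h2]
    · rw [act_tv, map_sub, bf_self, sub_zero, inv_mul_cancel₀ h3, one_smul, add_sub_cancel]
  set x := act g v
  by_cases hxv : bf m F x v' ≠ 0
  · obtain ⟨k, hk, hk1, hk2⟩ := step x v' hx hv' hux h' hxv
    exact ⟨k * g, mul_mem hk hg, by rw [act_mul, hgu, hk1], by rw [act_mul]; exact hk2⟩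
  push_neg at hxv
  obtain ⟨k, hk, hk1, hk2⟩ := step x (u' + x) hx (fun s hs => by simp [hu' s hs, hx s hs]) hux
    (by simp [bf_self, hux]) (by simp [bf_self, bf_swap u' x, hux])
  obtain ⟨l, hl, hl1, hl2⟩ := step (u' + x) v' (fun s hs => by simp [hu' s hs, hx s hs]) hv'
    (by simp [bf_self, hux]) h' (by simp [h', hxv])
  refine ⟨l * (k * g), mul_mem hl (mul_mem hk hg), ?_, ?_⟩
  · rw [act_mul, act_mul, hgu, hk1, hl1]
  · rw [act_mul, act_mul]
    change act l (act k x) = v'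
    rw [hk2, hl2]

theorem transitive {v w : V m F} (hv : v ≠ 0) (hw : w ≠ 0) : ∃ g : G m F, act g v = w := by
  obtain ⟨a, ha⟩ := exists_bf_eq_one hv
  obtain ⟨b, hb⟩ := exists_bf_eq_one hw
  obtain ⟨g, -, hg⟩ := move (S := (∅ : Set (V m F))) (by simp) (by simp) (by simp) (by simp) ha hb
  exact ⟨g, hg⟩

/-- first k pairs -/
def pairs (m : ℕ) (F : Type*) [Field F] (k : ℕ) : Set (V m F) :=
  {x | ∃ i : Fin m, (i : ℕ) < k ∧ (x = e i ∨ x = f i)}

theorem pairs_mono {j k : ℕ} (h : j ≤ k) : pairs m F j ⊆ pairs m F k :=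
  fun _ ⟨i, hi, hx⟩ => ⟨i, lt_of_lt_of_le hi h, hx⟩

theorem orth_pairs_iff {k : ℕ} {x : V m F} :
    (∀ s ∈ pairs m F k, bf m F s x = 0) ↔
      ∀ i : Fin m, (i : ℕ) < k → x (.inl i) = 0 ∧ x (.inr i) = 0 := by
  constructor
  · intro h i hi
    refine ⟨?_, ?_⟩
    · simpa [bf_f_left] using h (f i) ⟨i, hi, Or.inr rfl⟩
    · simpa [bf_e_left] using h (e i) ⟨i, hi, Or.inl rfl⟩
  · rintro h s ⟨i, hi, rfl | rfl⟩
    · simp [bf_e_left, (h i hi).2]
    · simp [bf_f_left, (h i hi).1]

/-- Subgroup fixing the first k hyperbolic pairs. -/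
def fixPairs (m : ℕ) (F : Type*) [Field F] (k : ℕ) : Subgroup (G m F) where
  carrier := {g | ∀ s ∈ pairs m F k, act g s = s}
  one_mem' := fun s _ => act_one s
  mul_mem' := fun {a b} ha hb s hs => by rw [act_mul, hb s hs, ha s hs]
  inv_mem' := fun {a} ha s hs => by conv_lhs => rw [← ha s hs, act_inv_act]

theorem fixPairs_zero : fixPairs m F 0 = ⊤ :=
  eq_top_iff.2 fun g _ s ⟨i, hi, _⟩ => absurd hi (Nat.not_lt_zero _)

theorem eq_one_of_mem_fixPairs {g : G m F} (hg : g ∈ fixPairs m F m) : g = 1 := by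
  refine Subtype.ext (Matrix.ext_of_mulVec_single fun i => ?_)
  rcases i with i | i
  · exact (hg (e i) ⟨i, i.isLt, Or.inl rfl⟩).trans (Matrix.one_mulVec _).symm
  · exact (hg (f i) ⟨i, i.isLt, Or.inr rfl⟩).trans (Matrix.one_mulVec _).symm

theorem e_orth {k : ℕ} (i : Fin m) (hi : k ≤ (i : ℕ)) : ∀ s ∈ pairs m F k, bf m F s (e i) = 0 :=
  orth_pairs_iff.2 fun j hj => by
    have : j ≠ i := fun h => by subst h; omega
    simp [e, this]

theorem f_orth {k : ℕ} (i : Fin m) (hi : k ≤ (i : ℕ)) : ∀ s ∈ pairs m F k, bf m F s (f i) = 0 :=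
  orth_pairs_iff.2 fun j hj => by
    have : j ≠ i := fun h => by subst h; omega
    simp [f, this]

theorem fixPairs_le_tgen (k : ℕ) (hk : k ≤ m) : fixPairs m F k ≤ tgen (pairs m F k) := by
  induction h : m - k generalizing k with
  | zero =>
    intro g hg
    have : k = m := by omega
    subst this
    rw [eq_one_of_mem_fixPairs hg]
    exact one_mem _
  | succ d ih =>
    intro g hg
    have hkm : k < m := by omega
    let i : Fin m := ⟨k, hkm⟩
    have hgv : ∀ x, (∀ s ∈ pairs m F k, bf m F s x = 0) → ∀ s ∈ pairs m F k, bf m F s (act g x) = 0 :=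
      fun x hx s hs => by rw [← hg s hs, bf_act, hx s hs]
    obtain ⟨t, ht, ht1, ht2⟩ := move_pair (hgv _ (f_orth i le_rfl)) (hgv _ (e_orth i le_rfl))
      (f_orth i le_rfl) (e_orth i le_rfl) (by rw [bf_act, bf_f_e]) (bf_f_e i)
    have hfix : t * g ∈ fixPairs m F (k + 1) := by
      rintro s ⟨j, hj, hs⟩
      rcases Nat.lt_succ_iff_lt_or_eq.1 hj with hj | hj
      · rw [act_mul, hg s ⟨j, hj, hs⟩, tgen_fix ht ⟨j, hj, hs⟩]
      · have : j = i := Fin.ext hj
        subst this
        rcases hs with rfl | rfl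
        · rw [act_mul]; exact ht2
        · rw [act_mul]; exact ht1
    have h1 := tgen_anti (pairs_mono (Nat.le_succ k)) (ih (k + 1) (by omega) (by omega) hfix)
    have : g = t⁻¹ * (t * g) := by group
    rw [this]
    exact mul_mem (inv_mem ht) h1

theorem tgen_pairs_zero_eq_top : tgen (pairs m F 0) = ⊤ :=
  top_le_iff.1 (fixPairs_zero (m := m) (F := F) ▸ fixPairs_le_tgen 0 (Nat.zero_le m))

/-- The transvections generate. -/
theorem closure_tv_eq_top :
    Subgroup.closure {A : G m F | ∃ (w : V m F) (c : F),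
      (A : Matrix (Fin m ⊕ Fin m) (Fin m ⊕ Fin m) F) = Cfsg.sympTransvection m w c} = ⊤ := by
  rw [eq_top_iff, ← tgen_pairs_zero_eq_top, tgen, Subgroup.closure_le]
  rintro _ ⟨w, c, -, rfl⟩
  exact Subgroup.subset_closure ⟨w, c, rfl⟩

theorem eq_top_of_tv_mem (H : Subgroup (G m F)) (h : ∀ w c, tv w c ∈ H) : H = ⊤ := by
  rw [eq_top_iff, ← tgen_pairs_zero_eq_top, tgen, Subgroup.closure_le]
  rintro _ ⟨w, c, -, rfl⟩
  exact h w c

end CfsgLib.Lie.Sp
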