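import Cfsg.Prelude.Def_GeometricClasses
import Cfsg.Agent.Lie.Sp

/-!
Small-field members of the imprimitive class that are not maximal.
-/

set_option autoImplicit false
set_option linter.unusedSectionVars false
set_option linter.unusedSimpArgs false

namespace CfsgLib.Lie.NonMax

open Matrix

variable {ι : Type} [Fintype ι] [DecidableEq ι] {F : Type*} [Field F]

/-- The invertible matrix x ↦ x + (w ⬝ x) u. -/
def tvGL (u w : ι → F) (h : w ⬝ᵥ u = 0) : GL ι F :=
  ⟨1 + vecMulVec u w, 1 - vecMulVec u w, by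
    simp [Matrix.add_mul, Matrix.mul_sub, Matrix.vecMulVec_mul_vecMulVec, h], by
    simp [Matrix.sub_mul, Matrix.mul_add, Matrix.vecMulVec_mul_vecMulVec, h]⟩

theorem tvGL_mulVec (u w : ι → F) (h : w ⬝ᵥ u = 0) (x : ι → F) :
    (tvGL u w h : Matrix ι ι F) *ᵥ x = x + (w ⬝ᵥ x) • u := by
  change (1 + vecMulVec u w) *ᵥ x = _
  rw [Matrix.add_mulVec, Matrix.one_mulVec, Matrix.vecMulVec_mulVec, op_smul_eq_smul]

theorem tvGL_det (u w : ι → F) (h : w ⬝ᵥ u = 0) : (tvGL u w h : Matrix ι ι F).det = 1 := by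
  change (1 + vecMulVec u w).det = 1
  rw [Matrix.vecMulVec_eq Unit, Matrix.det_one_add_replicateCol_mul_replicateRow, h, add_zero]

theorem tvGL_mem_SL (u w : ι → F) (h : w ⬝ᵥ u = 0) :
    tvGL u w h ∈ Cfsg.Geo.specialLinear ι F :=
  MonoidHom.mem_ker.2 (Units.ext (tvGL_det u w h))

section Blocks

variable {t : ℕ} (D : Fin t → Submodule F (ι → F))

/-- Sum of block components. -/
def sumMap : (∀ i, D i) →ₗ[F] (ι → F) where
  toFun x := ∑ i, (x i : ι → F)
  map_add' x y := by simp [Finset.sum_add_distrib]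
  map_smul' c x := by simp [Finset.smul_sum]

theorem sumMap_bijective (hi : iSupIndep D) (ht : iSup D = ⊤) : Function.Bijective (sumMap D) := by
  constructor
  · rw [injective_iff_map_eq_zero]
    intro x hx
    funext j
    refine Subtype.ext ?_
    change ∑ i, (x i : ι → F) = 0 at hx
    rw [← Finset.add_sum_erase _ _ (Finset.mem_univ j), add_eq_zero_iff_eq_neg] at hx
    have h1 : (x j : ι → F) ∈ ⨆ (i) (_ : i ≠ j), D i := by
      rw [hx]
      refine neg_mem (Submodule.sum_mem _ fun i hi' => ?_)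
      exact Submodule.mem_iSup_of_mem i (Submodule.mem_iSup_of_mem (Finset.mem_erase.1 hi').1 (x i).2)
    exact Submodule.disjoint_def.1 (hi j) _ (x j).2 h1
  · intro v
    have hv : v ∈ iSup D := ht ▸ Submodule.mem_top
    induction hv using Submodule.iSup_induction' with
    | mem i x hx =>
      classical
      refine ⟨Pi.single i ⟨x, hx⟩, ?_⟩
      change ∑ j, ((Pi.single i ⟨x, hx⟩ : ∀ j, D j) j : ι → F) = x
      rw [Finset.sum_eq_single i]
      · simp
      · intro j _ hj; simp [hj]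
      · simp
    | zero => exact ⟨0, map_zero _⟩
    | add x y _ _ hx hy =>
      obtain ⟨a, ha⟩ := hx
      obtain ⟨b, hb⟩ := hy
      exact ⟨a + b, by rw [map_add, ha, hb]⟩

variable {D} (hi : iSupIndep D) (ht : iSup D = ⊤)

/-- Block components. -/
noncomputable def cmp : (ι → F) ≃ₗ[F] ∀ i, D i :=
  (LinearEquiv.ofBijective (sumMap D) (sumMap_bijective D hi ht)).symm

theorem sum_cmp (v : ι → F) : ∑ i, (cmp hi ht v i : ι → F) = v :=
  (LinearEquiv.ofBijective (sumMap D) (sumMap_bijective D hi ht)).apply_symm_apply v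

theorem cmp_eq {v : ι → F} {x : ∀ i, D i} (h : ∑ i, (x i : ι → F) = v) : cmp hi ht v = x := by
  rw [cmp, LinearEquiv.symm_apply_eq]
  exact h.symm

theorem cmp_of_mem {v : ι → F} {i : Fin t} (hv : v ∈ D i) (j : Fin t) :
    (cmp hi ht v j : ι → F) = if j = i then v else 0 := by
  classical
  rw [cmp_eq hi ht (x := Pi.single i ⟨v, hv⟩) (by
    rw [Finset.sum_eq_single i] <;> simp +contextual)]
  split_ifs with h
  · subst h; simp
  · simp [h]

theorem cmp_perm {g : GL ι F} {σ : Equiv.Perm (Fin t)}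
    (hσ : ∀ i, (D i).map (Matrix.toLin' (g : Matrix ι ι F)) = D (σ i)) (v : ι → F) (i : Fin t) :
    (cmp hi ht ((g : Matrix ι ι F) *ᵥ v) (σ i) : ι → F) = (g : Matrix ι ι F) *ᵥ (cmp hi ht v i : ι → F) := by
  have hm : ∀ j, (g : Matrix ι ι F) *ᵥ (cmp hi ht v (σ.symm j) : ι → F) ∈ D j := fun j => by
    have h := hσ (σ.symm j)
    rw [σ.apply_symm_apply] at h
    rw [← h]
    exact ⟨_, (cmp hi ht v (σ.symm j)).2, Matrix.toLin'_apply _ _⟩
  rw [cmp_eq hi ht (x := fun j => ⟨_, hm j⟩) (by
    conv_rhs => rw [← sum_cmp hi ht v, Matrix.mulVec_sum]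
    exact Equiv.sum_comp σ.symm (fun i => (g : Matrix ι ι F) *ᵥ (cmp hi ht v i : ι → F)))]
  exact congrArg (fun j => (g : Matrix ι ι F) *ᵥ (cmp hi ht v j : ι → F)) (σ.symm_apply_apply i)

theorem not_perm {g : GL ι F} {i : Fin t} {v : ι → F} (hv : v ∈ D i) {j k : Fin t} (hjk : j ≠ k)
    (hj : (cmp hi ht ((g : Matrix ι ι F) *ᵥ v) j : ι → F) ≠ 0)
    (hk : (cmp hi ht ((g : Matrix ι ι F) *ᵥ v) k : ι → F) ≠ 0) :
    g ∉ Cfsg.Geo.decompositionStabilizer D := by
  rintro ⟨σ, hσ⟩
  have hm : (g : Matrix ι ι F) *ᵥ v ∈ D (σ i) := hσ i ▸ ⟨v, hv, Matrix.toLin'_apply _ _⟩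
  by_cases h : j = σ i
  · exact hk (by rw [cmp_of_mem hi ht hm, if_neg (fun h' => hjk (h.trans h'.symm))])
  · exact hj (by rw [cmp_of_mem hi ht hm, if_neg h])

/-- The number of nonzero components, as a scalar. -/
noncomputable def qc (v : ι → F) : F := by
  classical exact ∑ i, if cmp hi ht v i = 0 then 0 else 1

theorem qc_perm {g : GL ι F} (hg : g ∈ Cfsg.Geo.decompositionStabilizer D) (v : ι → F) :
    qc hi ht ((g : Matrix ι ι F) *ᵥ v) = qc hi ht v := by
  classical
  obtain ⟨σ, hσ⟩ := hg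
  rw [qc, qc, ← Equiv.sum_comp σ]
  refine Finset.sum_congr rfl fun i _ => ?_
  have hinj : Function.Injective fun x : ι → F => (g : Matrix ι ι F) *ᵥ x :=
    Matrix.mulVec_injective_of_isUnit g.isUnit
  have hiff : cmp hi ht ((g : Matrix ι ι F) *ᵥ v) (σ i) = 0 ↔ cmp hi ht v i = 0 := by
    rw [← ZeroMemClass.coe_eq_zero (x := cmp hi ht _ _), cmp_perm hi ht hσ,
      ← ZeroMemClass.coe_eq_zero (x := cmp hi ht v i)]
    exact ⟨fun h => hinj (h.trans (Matrix.mulVec_zero _).symm), fun h => by rw [h, Matrix.mulVec_zero]⟩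
  by_cases h : cmp hi ht v i = 0
  · rw [if_pos h, if_pos (hiff.2 h)]
  · rw [if_neg h, if_neg (fun h' => h (hiff.1 h'))]

end Blocks

section Two

variable [Fintype F]

theorem eq01 (hq : Fintype.card F = 2) (a : F) : a = 0 ∨ a = 1 := by
  classical
  have h : (Finset.univ : Finset F) = {0, 1} := by
    refine (Finset.eq_of_subset_of_card_le (Finset.subset_univ _) ?_).symm
    rw [Finset.card_univ, hq, Finset.card_pair zero_ne_one]
  have ha := Finset.mem_univ a
  rw [h] at ha
  simpa using ha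

theorem two_eq_zero (hq : Fintype.card F = 2) : (2 : F) = 0 := by
  rcases eq01 hq (2 : F) with h | h
  · exact h
  · exact absurd (show (1 : F) = 0 by linear_combination h) one_ne_zero

variable {t : ℕ} {D : Fin t → Submodule F (ι → F)} (hi : iSupIndep D) (ht : iSup D = ⊤)
  (B : (ι → F) →ₗ[F] (ι → F) →ₗ[F] F)

theorem qc_add (hq : Fintype.card F = 2) (hdim : ∀ i, Module.finrank F (D i) = 2)
    (halt : ∀ v, B v v = 0) (ho : ∀ i j, i ≠ j → ∀ u ∈ D i, ∀ v ∈ D j, B u v = 0)
    (hnd : ∀ i, ∀ u ∈ D i, u ≠ 0 → ∃ v ∈ D i, B u v ≠ 0) (x y : ι → F) :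
    qc hi ht (x + y) = qc hi ht x + qc hi ht y + B x y := by
  classical
  have h2 := two_eq_zero hq
  have hB : B x y = ∑ i, B (cmp hi ht x i : ι → F) (cmp hi ht y i : ι → F) := by
    conv_lhs => rw [← sum_cmp hi ht x, map_sum, LinearMap.sum_apply]
    refine Finset.sum_congr rfl fun i _ => ?_
    conv_lhs => rw [← sum_cmp hi ht y, map_sum]
    exact Finset.sum_eq_single i (fun j _ hj => ho i j hj.symm _ (cmp hi ht x i).2 _ (cmp hi ht y j).2)
      (by simp)
  have key : ∀ i, ∀ a b : D i, (if a + b = 0 then (0 : F) else 1) =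
      (if a = 0 then 0 else 1) + (if b = 0 then 0 else 1) + B (a : ι → F) (b : ι → F) := by
    intro i a b
    by_cases ha : a = 0
    · simp [ha]
    by_cases hb : b = 0
    · simp [hb]
    have hneg : ∀ c : D i, c + c = 0 := fun c => by
      rw [← two_smul F, h2, zero_smul]
    by_cases hab : a = b
    · subst hab
      rw [if_pos (hneg a), if_neg ha, halt]
      linear_combination -h2
    have hs : a + b ≠ 0 := fun h => hab (add_right_cancel (h.trans (hneg b).symm))
    have hB1 : B (a : ι → F) (b : ι → F) = 1 := by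
      refine (eq01 hq _).resolve_left fun h0 => ?_
      obtain ⟨v, hv, hav⟩ := hnd i a a.2 (fun h => ha (Subtype.ext h))
      have hli : LinearIndependent F ![a, b] := by
        rw [LinearIndependent.pair_iff]
        intro c d hcd
        rcases eq01 hq c with rfl | rfl <;> rcases eq01 hq d with rfl | rfl <;>
          simp only [zero_smul, one_smul, add_zero, zero_add] at hcd
        · exact ⟨rfl, rfl⟩
        · exact absurd hcd hb
        · exact absurd hcd ha
        · exact absurd hcd hs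
      have hsp := hli.span_eq_top_of_card_eq_finrank' (by rw [Fintype.card_fin, hdim])
      have hm : (⟨v, hv⟩ : D i) ∈ Submodule.span F (Set.range ![a, b]) := hsp ▸ Submodule.mem_top
      obtain ⟨c, hc⟩ := (Submodule.mem_span_range_iff_exists_fun F).1 hm
      apply hav
      have hc' := congrArg Subtype.val hc
      simp [Fin.sum_univ_two] at hc'
      rw [← hc', map_add, map_smul, map_smul, halt, h0]
      simp
    rw [if_neg hs, if_neg ha, if_neg hb, hB1]
    linear_combination -h2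
  rw [qc, qc, qc, hB, ← Finset.sum_add_distrib, ← Finset.sum_add_distrib, map_add]
  exact Finset.sum_congr rfl fun i _ => key i _ _

theorem qc_of_mem [Nonempty (Fin t)] {v : ι → F} {i : Fin t} (hv : v ∈ D i) (hv0 : v ≠ 0) :
    qc hi ht v = 1 := by
  classical
  rw [qc, Finset.sum_eq_single i]
  · rw [if_neg fun h => hv0 ?_]
    have := congrArg Subtype.val h
    rwa [cmp_of_mem hi ht hv, if_pos rfl] at this
  · intro j _ hj
    rw [if_pos (Subtype.ext (by rw [cmp_of_mem hi ht hv, if_neg hj]; rfl))]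
  · simp

theorem dot_single (φ : (ι → F) →ₗ[F] F) (x : ι → F) : (fun j => φ (Pi.single j 1)) ⬝ᵥ x = φ x := by
  conv_rhs => rw [pi_eq_sum_univ' x]
  simp [dotProduct, map_sum, map_smul, mul_comm]

/-- The symplectic transvection of B along u. -/
def btv (halt : ∀ v, B v v = 0) (u : ι → F) : GL ι F :=
  tvGL u (fun j => B u (Pi.single j 1)) (by rw [dot_single (B u), halt])

theorem btv_mulVec (halt : ∀ v, B v v = 0) (u x : ι → F) :
    (btv B halt u : Matrix ι ι F) *ᵥ x = x + B u x • u := by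
  rw [btv, tvGL_mulVec, dot_single (B u)]

include hi ht in
theorem blocks_nonmax (hq : Fintype.card F = 2) (h3 : 3 ≤ t) (hdim : ∀ i, Module.finrank F (D i) = 2)
    (halt : ∀ v, B v v = 0) (ho : ∀ i j, i ≠ j → ∀ u ∈ D i, ∀ v ∈ D j, B u v = 0)
    (hnd : ∀ i, ∀ u ∈ D i, u ≠ 0 → ∃ v ∈ D i, B u v ≠ 0)
    (G : Subgroup (GL ι F)) (hG : ∀ u, btv B halt u ∈ G) :
    ∃ K : Subgroup (GL ι F), Cfsg.Geo.decompositionStabilizer D ⊓ G < K ∧ K < G := by
  classical
  have h2 := two_eq_zero hq
  have : Nonempty (Fin t) := ⟨⟨0, by omega⟩⟩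
  let O := Cfsg.preserving (Units.coeHom (Matrix ι ι F)) (fun u _ : ι → F => qc hi ht u)
  have hO : ∀ g : GL ι F, g ∈ O ↔ ∀ x, qc hi ht ((g : Matrix ι ι F) *ᵥ x) = qc hi ht x :=
    fun g => ⟨fun h x => h x 0, fun h u _ => h u⟩
  have hex : ∀ i, ∃ a v : ι → F, a ∈ D i ∧ v ∈ D i ∧ B a v = 1 := by
    intro i
    have hne : D i ≠ ⊥ := fun h => by have := hdim i; rw [h, finrank_bot] at this; omega
    obtain ⟨a, ha, ha0⟩ := Submodule.exists_mem_ne_zero_of_ne_bot hne
    obtain ⟨v, hv, hv0⟩ := hnd i a ha ha0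
    exact ⟨a, v, ha, hv, (eq01 hq _).resolve_left hv0⟩
  choose a v ha hv hav using hex
  have ha0 : ∀ i, a i ≠ 0 := fun i h => by
    have := hav i; rw [h, map_zero, LinearMap.zero_apply] at this; exact zero_ne_one this
  have hv0 : ∀ i, v i ≠ 0 := fun i h => by
    have := hav i; rw [h, map_zero] at this; exact zero_ne_one this
  have hadd := qc_add hi ht B hq hdim halt ho hnd
  let i0 : Fin t := ⟨0, by omega⟩
  let i1 : Fin t := ⟨1, by omega⟩
  let i2 : Fin t := ⟨2, by omega⟩
  have h01 : i0 ≠ i1 := by simp [i0, i1]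
  have h02 : i0 ≠ i2 := by simp [i0, i2]
  have h12 : i1 ≠ i2 := by simp [i1, i2]
  refine ⟨O ⊓ G, lt_of_le_of_ne ?_ ?_, lt_of_le_of_ne inf_le_right ?_⟩
  · exact le_inf (fun g hg => (hO g).2 fun x => qc_perm hi ht hg.1 x) inf_le_right
  · intro heq
    set u := a i0 + a i1 + a i2 with hu
    have hqu : qc hi ht u = 1 := by
      rw [hu, hadd, hadd, qc_of_mem hi ht (ha _) (ha0 _), qc_of_mem hi ht (ha _) (ha0 _),
        qc_of_mem hi ht (ha _) (ha0 _), map_add, LinearMap.add_apply, ho _ _ h01 _ (ha _) _ (ha _),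
        ho _ _ h02 _ (ha _) _ (ha _), ho _ _ h12 _ (ha _) _ (ha _)]
      linear_combination h2
    have hmem : btv B halt u ∈ O ⊓ G := by
      refine ⟨(hO _).2 fun x => ?_, hG u⟩
      rw [btv_mulVec]
      rcases eq01 hq (B u x) with h | h
      · rw [h, zero_smul, add_zero]
      · have hxu : B x u = 1 := by
          have := halt (x + u)
          simp only [map_add, LinearMap.add_apply, halt, h] at this
          linear_combination this - h2
        rw [h, one_smul, hadd, hqu, hxu]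
        linear_combination h2
    rw [← heq] at hmem
    refine not_perm hi ht (hv i0) h12 ?_ ?_ hmem.1
    all_goals rw [btv_mulVec, hu]
    all_goals simp only [map_add, map_smul, LinearMap.add_apply, hav,
      ho _ _ h01.symm _ (ha _) _ (hv _), ho _ _ h02.symm _ (ha _) _ (hv _), add_zero, one_smul,
      Pi.add_apply, Submodule.coe_add, cmp_of_mem hi ht (hv i0), cmp_of_mem hi ht (ha i0),
      cmp_of_mem hi ht (ha i1), cmp_of_mem hi ht (ha i2), if_neg h01.symm, if_neg h02.symm,
      if_neg h12, if_neg h12.symm, if_pos, if_true, zero_add]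
    · exact ha0 i1
    · exact ha0 i2
  · intro heq
    set w := a i0 + a i1 with hw
    have hqw : qc hi ht w = 0 := by
      rw [hw, hadd, qc_of_mem hi ht (ha _) (ha0 _), qc_of_mem hi ht (ha _) (ha0 _),
        ho _ _ h01 _ (ha _) _ (ha _)]
      linear_combination h2
    have hmem : btv B halt w ∈ O ⊓ G := heq.symm ▸ hG w
    have h := (hO _).1 hmem.1 (v i0)
    have hwv : B w (v i0) = 1 := by
      rw [hw, map_add, LinearMap.add_apply, hav, ho _ _ h01.symm _ (ha _) _ (hv _), add_zero]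
    have hvw : B (v i0) w = 1 := by
      have := halt (v i0 + w)
      simp only [map_add, LinearMap.add_apply, halt, hwv] at this
      linear_combination this - h2
    rw [btv_mulVec, hwv, one_smul, hadd, qc_of_mem hi ht (hv _) (hv0 _), hqw, hvw] at h
    exact one_ne_zero (show (1 : F) = 0 by linear_combination h)

end Two

end CfsgLib.Lie.NonMax
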