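import Cfsg.Agent.Lie.FormMaxSL
import Cfsg.Agent.Lie.NonMax

/-!
Stabilisers of decompositions of `F^ι` into subspaces of dimension at least two are maximal in the
special linear group: transvection argument.
-/

set_option autoImplicit false
set_option linter.unusedSimpArgs false
set_option linter.unusedSectionVars false

namespace CfsgLib.Lie.DecompSL

open Matrix
open CfsgLib.Lie.FormMaxSL

variable {F : Type*} [Field F] {ι : Type} [Fintype ι] [DecidableEq ι]

/-- A separating functional with value one. -/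
theorem sep {S : Submodule F (ι → F)} {x : ι → F} (hx : x ∉ S) :
    ∃ φ : (ι → F) →ₗ[F] F, φ x = 1 ∧ ∀ s ∈ S, φ s = 0 := by
  obtain ⟨φ, h1, h2⟩ := Submodule.exists_dual_map_eq_bot_of_notMem hx inferInstance
  refine ⟨(φ x)⁻¹ • φ, by simp [h1], fun s hs => ?_⟩
  have : φ s ∈ S.map φ := Submodule.mem_map_of_mem hs
  rw [h2, Submodule.mem_bot] at this
  simp [this]

theorem finrank_pair (a b : ι → F) :
    Module.finrank F (Submodule.span F ({a, b} : Set (ι → F))) ≤ 2 := finrank_pair_le a b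

theorem exists_not_mem {W S : Submodule F (ι → F)} (h : Module.finrank F S < Module.finrank F W) :
    ∃ x ∈ W, x ∉ S := by
  by_contra hc
  push Not at hc
  exact absurd (Submodule.finrank_mono hc) (not_le.2 h)

/-- The map `x ↦ x + φ(x) u`, when invertible. -/
noncomputable def dil (u : ι → F) (φ : (ι → F) →ₗ[F] F) : GL ι F :=
  haveI := Classical.dec (1 + φ u = 0)
  if h : 1 + φ u ≠ 0 then
    { val := LinearMap.toMatrix' (LinearMap.id + φ.smulRight u)
      inv := LinearMap.toMatrix' (LinearMap.id + (-(1 + φ u)⁻¹ • φ).smulRight u)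
      val_inv := by
        rw [← LinearMap.toMatrix'_comp, ← LinearMap.toMatrix'_id]
        congr 1
        refine LinearMap.ext fun x => ?_
        simp only [LinearMap.comp_apply, LinearMap.add_apply, LinearMap.id_apply,
          LinearMap.smulRight_apply, LinearMap.smul_apply, smul_eq_mul, map_add, map_smul, add_smul,
          smul_smul]
        match_scalars <;> field_simp <;> ring
      inv_val := by
        rw [← LinearMap.toMatrix'_comp, ← LinearMap.toMatrix'_id]
        congr 1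
        refine LinearMap.ext fun x => ?_
        simp only [LinearMap.comp_apply, LinearMap.add_apply, LinearMap.id_apply,
          LinearMap.smulRight_apply, LinearMap.smul_apply, smul_eq_mul, map_add, map_smul, add_smul,
          smul_smul]
        match_scalars <;> field_simp <;> ring }
  else 1

theorem dil_mulVec {u : ι → F} {φ : (ι → F) →ₗ[F] F} (h : 1 + φ u ≠ 0) (x : ι → F) :
    (dil u φ : Matrix ι ι F) *ᵥ x = x + φ x • u := by
  rw [dil, dif_pos h]
  change LinearMap.toMatrix' (LinearMap.id + φ.smulRight u) *ᵥ x = _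
  rw [LinearMap.toMatrix'_mulVec]
  simp

theorem dil_det {u : ι → F} {φ : (ι → F) →ₗ[F] F} (h : 1 + φ u ≠ 0) :
    (dil u φ : Matrix ι ι F).det = 1 + φ u := by
  have e : ((dil u φ : GL ι F) : Matrix ι ι F) =
      1 + Matrix.replicateCol Unit u * Matrix.replicateRow Unit (fun j => φ (Pi.single j 1)) := by
    rw [← Matrix.vecMulVec_eq Unit]
    refine Matrix.toLin'.injective (LinearMap.ext fun x => ?_)
    rw [Matrix.toLin'_apply, Matrix.toLin'_apply, dil_mulVec h, Matrix.add_mulVec, Matrix.one_mulVec,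
      Matrix.vecMulVec_mulVec, op_smul_eq_smul]
    congr 2
    conv_lhs => rw [pi_eq_sum_univ' x]
    simp [dotProduct, map_sum, map_smul, mul_comm]
  rw [e, Matrix.det_one_add_replicateCol_mul_replicateRow]
  congr 1
  conv_rhs => rw [pi_eq_sum_univ' u]
  simp [dotProduct, map_sum, map_smul, mul_comm]

theorem mem_SL {g : GL ι F} (h : (g : Matrix ι ι F).det = 1) :
    g ∈ Cfsg.Geo.specialLinear ι F := MonoidHom.mem_ker.2 (Units.ext h)

theorem det_eq_one {g : GL ι F} (h : g ∈ Cfsg.Geo.specialLinear ι F) :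
    (g : Matrix ι ι F).det = 1 := congrArg Units.val (MonoidHom.mem_ker.1 h)

section Decomp

variable {t : ℕ} {D : Fin t → Submodule F (ι → F)} {m : ℕ} (hD : Cfsg.Geo.IsMDecomposition m D)
include hD

/-- The projection onto `D i`. -/
noncomputable def pr (i : Fin t) : (ι → F) →ₗ[F] (ι → F) :=
  (D i).subtype.comp ((LinearMap.proj i).comp (NonMax.cmp hD.indep hD.iSup_eq_top).toLinearMap)

theorem pr_mem (i : Fin t) (x : ι → F) : pr hD i x ∈ D i :=
  ((NonMax.cmp hD.indep hD.iSup_eq_top) x i).2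

theorem pr_self {i : Fin t} {x : ι → F} (hx : x ∈ D i) : pr hD i x = x := by
  change ((NonMax.cmp hD.indep hD.iSup_eq_top x i : D i) : ι → F) = x
  rw [NonMax.cmp_of_mem hD.indep hD.iSup_eq_top hx, if_pos rfl]

theorem pr_other {i j : Fin t} (hij : j ≠ i) {x : ι → F} (hx : x ∈ D i) : pr hD j x = 0 := by
  change ((NonMax.cmp hD.indep hD.iSup_eq_top x j : D j) : ι → F) = 0
  rw [NonMax.cmp_of_mem hD.indep hD.iSup_eq_top hx, if_neg hij]

theorem pr_sum (x : ι → F) : ∑ i, pr hD i x = x :=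
  (NonMax.cmp hD.indep hD.iSup_eq_top).symm_apply_apply x

theorem nontriv (i : Fin t) : ∃ x ∈ D i, x ≠ 0 := by
  refine Submodule.exists_mem_ne_zero_of_ne_bot fun h => ?_
  have := hD.finrank_eq i
  rw [h, finrank_bot] at this
  have := hD.pos
  omega

theorem exists_out (hm : 2 ≤ m) (i : Fin t) (a : ι → F) : ∃ x ∈ D i, x ∉ Submodule.span F {a} :=
  exists_not_mem (by rw [hD.finrank_eq i]; exact lt_of_le_of_lt (finrank_span_le_card _) (by simp; omega))

theorem mem_stab_of_maps {g : GL ι F} {σ : Equiv.Perm (Fin t)}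
    (h : ∀ i, ∀ x ∈ D i, (g : Matrix ι ι F) *ᵥ x ∈ D (σ i)) :
    g ∈ Cfsg.Geo.decompositionStabilizer D := by
  refine ⟨σ, fun i => Submodule.eq_of_le_of_finrank_eq ?_ ?_⟩
  · rintro _ ⟨x, hx, rfl⟩
    rw [Matrix.toLin'_apply]
    exact h i x hx
  · rw [(Submodule.equivMapOfInjective (Matrix.toLin' (g : Matrix ι ι F))
      (fun x y hxy => by
        rw [Matrix.toLin'_apply, Matrix.toLin'_apply] at hxy
        rw [← inv_mulVec_mulVec g x, hxy, inv_mulVec_mulVec]) (D i)).finrank_eq.symm,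
      hD.finrank_eq, hD.finrank_eq]

theorem dil_mem_stab {i : Fin t} {u : ι → F} (hu : u ∈ D i) (β : (ι → F) →ₗ[F] F)
    (h : 1 + β u ≠ 0) : dil u (β ∘ₗ pr hD i) ∈ Cfsg.Geo.decompositionStabilizer D := by
  refine mem_stab_of_maps hD (σ := 1) fun j x hx => ?_
  rw [dil_mulVec (by rwa [LinearMap.comp_apply, pr_self hD hu]), Equiv.Perm.one_apply,
    LinearMap.comp_apply]
  by_cases hji : j = i
  · subst hji; exact add_mem hx (Submodule.smul_mem _ _ hu)
  · rw [pr_other hD (Ne.symm hji) hx, map_zero, zero_smul, add_zero]; exact hx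

theorem tv_mem_H {i : Fin t} {u : ι → F} (hu : u ∈ D i) (β : (ι → F) →ₗ[F] F) (h : β u = 0) :
    tv u (β ∘ₗ pr hD i) ∈
      Cfsg.Geo.decompositionStabilizer D ⊓ Cfsg.Geo.specialLinear ι F := by
  refine ⟨mem_stab_of_maps hD (σ := 1) fun j x hx => ?_, tv_mem_SL _ _⟩
  rw [tv_mulVec (by rw [LinearMap.comp_apply, pr_self hD hu, h]), Equiv.Perm.one_apply,
    LinearMap.comp_apply]
  by_cases hji : j = i
  · subst hji; exact add_mem hx (Submodule.smul_mem _ _ hu)
  · rw [pr_other hD (Ne.symm hji) hx, map_zero, zero_smul, add_zero]; exact hx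

/-- A swap of two blocks inside the special linear group. -/
theorem exists_swap {i j : Fin t} (hij : i ≠ j) : ∃ g : GL ι F,
    g ∈ Cfsg.Geo.decompositionStabilizer D ⊓ Cfsg.Geo.specialLinear ι F ∧
      ∀ k, ∀ x ∈ D k, (g : Matrix ι ι F) *ᵥ x ∈ D (Equiv.swap i j k) := by
  obtain ⟨e⟩ : Nonempty ((D i) ≃ₗ[F] (D j)) :=
    ⟨LinearEquiv.ofFinrankEq _ _ (by rw [hD.finrank_eq, hD.finrank_eq])⟩
  let pi : (ι → F) →ₗ[F] D i := (pr hD i).codRestrict _ (pr_mem hD i)
  let pj : (ι → F) →ₗ[F] D j := (pr hD j).codRestrict _ (pr_mem hD j)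
  let L : (ι → F) →ₗ[F] (ι → F) := LinearMap.id - pr hD i - pr hD j
    + (D j).subtype ∘ₗ e.toLinearMap ∘ₗ pi + (D i).subtype ∘ₗ e.symm.toLinearMap ∘ₗ pj
  have hLi : ∀ x (hx : x ∈ D i), L x = e ⟨x, hx⟩ := by
    intro x hx
    have h1 : pi x = ⟨x, hx⟩ := Subtype.ext (pr_self hD hx)
    have h2 : pj x = 0 := Subtype.ext (pr_other hD (Ne.symm hij) hx)
    simp [L, h1, h2, pr_self hD hx, pr_other hD (Ne.symm hij) hx]
  have hLj : ∀ x (hx : x ∈ D j), L x = e.symm ⟨x, hx⟩ := by
    intro x hx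
    have h1 : pj x = ⟨x, hx⟩ := Subtype.ext (pr_self hD hx)
    have h2 : pi x = 0 := Subtype.ext (pr_other hD hij hx)
    simp [L, h1, h2, pr_self hD hx, pr_other hD hij hx]
  have hLk : ∀ k, k ≠ i → k ≠ j → ∀ x ∈ D k, L x = x := by
    intro k hki hkj x hx
    have h1 : pj x = 0 := Subtype.ext (pr_other hD (Ne.symm hkj) hx)
    have h2 : pi x = 0 := Subtype.ext (pr_other hD (Ne.symm hki) hx)
    simp [L, h1, h2, pr_other hD (Ne.symm hki) hx, pr_other hD (Ne.symm hkj) hx]
  have hLL : ∀ x, L (L x) = x := by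
    intro x
    conv_lhs => rw [← pr_sum hD x]
    conv_rhs => rw [← pr_sum hD x]
    simp only [map_sum]
    refine Finset.sum_congr rfl fun k _ => ?_
    have hk := pr_mem hD k x
    rcases eq_or_ne k i with rfl | hki
    · rw [hLi _ hk, hLj _ (e ⟨_, hk⟩).2, Subtype.coe_eta, e.symm_apply_apply]
    rcases eq_or_ne k j with rfl | hkj
    · rw [hLj _ hk, hLi _ (e.symm ⟨_, hk⟩).2, Subtype.coe_eta, e.apply_symm_apply]
    rw [hLk k hki hkj _ hk, hLk k hki hkj _ hk]
  let s : GL ι F :=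
    ⟨LinearMap.toMatrix' L, LinearMap.toMatrix' L, by
      rw [← LinearMap.toMatrix'_comp, ← LinearMap.toMatrix'_id]
      exact congrArg _ (LinearMap.ext hLL), by
      rw [← LinearMap.toMatrix'_comp, ← LinearMap.toMatrix'_id]
      exact congrArg _ (LinearMap.ext hLL)⟩
  have hs : ∀ k, ∀ x ∈ D k, (s : Matrix ι ι F) *ᵥ x ∈ D (Equiv.swap i j k) := by
    intro k x hx
    change LinearMap.toMatrix' L *ᵥ x ∈ _
    rw [LinearMap.toMatrix'_mulVec]
    rcases eq_or_ne k i with rfl | hki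
    · rw [Equiv.swap_apply_left, hLi x hx]; exact Submodule.coe_mem _
    rcases eq_or_ne k j with rfl | hkj
    · rw [Equiv.swap_apply_right, hLj x hx]; exact Submodule.coe_mem _
    rw [Equiv.swap_apply_of_ne_of_ne hki hkj, hLk k hki hkj x hx]; exact hx
  -- repair the determinant
  obtain ⟨d, hd⟩ : ∃ d : F, d = (s : Matrix ι ι F).det := ⟨_, rfl⟩
  have hd0 : d ≠ 0 := hd ▸ (Matrix.isUnits_det_units s).ne_zero
  obtain ⟨u, hu, hu0⟩ := nontriv hD i
  obtain ⟨β, hβ, -⟩ := sep (S := (⊥ : Submodule F (ι → F))) (x := u) (by simpa using hu0)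
  have hb : 1 + ((d⁻¹ - 1) • β) u = d⁻¹ := by simp [hβ]
  have hb' : 1 + (((d⁻¹ - 1) • β) ∘ₗ pr hD i) u = d⁻¹ := by
    rw [LinearMap.comp_apply, pr_self hD hu, hb]
  refine ⟨s * dil u (((d⁻¹ - 1) • β) ∘ₗ pr hD i), ⟨mul_mem (mem_stab_of_maps hD hs)
    (dil_mem_stab hD hu _ (by rw [hb]; exact inv_ne_zero hd0)), mem_SL ?_⟩, fun k x hx => ?_⟩
  · rw [Units.val_mul, Matrix.det_mul, dil_det (by rw [hb']; exact inv_ne_zero hd0), hb', ← hd,
      mul_inv_cancel₀ hd0]
  · rw [Units.val_mul, ← Matrix.mulVec_mulVec, dil_mulVec (by rw [hb']; exact inv_ne_zero hd0)]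
    refine hs k _ ?_
    rw [LinearMap.comp_apply]
    rcases eq_or_ne k i with rfl | hki
    · exact add_mem hx (Submodule.smul_mem _ _ hu)
    · rw [pr_other hD (Ne.symm hki) hx, map_zero, zero_smul, add_zero]; exact hx

variable {M : Subgroup (GL ι F)}
  (hHM : Cfsg.Geo.decompositionStabilizer D ⊓ Cfsg.Geo.specialLinear ι F ≤ M)

/-- all root elements from block `i` to block `j` lie in `M` -/
def Root (M : Subgroup (GL ι F)) (j i : Fin t) : Prop :=
  ∀ b ∈ D j, ∀ β : (ι → F) →ₗ[F] F, tv b (β ∘ₗ pr hD i) ∈ M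

omit hHM in
theorem root_apply {i j : Fin t} (hij : i ≠ j) {b : ι → F} (hb : b ∈ D j)
    (β : (ι → F) →ₗ[F] F) : (β ∘ₗ pr hD i) b = 0 := by
  rw [LinearMap.comp_apply, pr_other hD hij hb, map_zero]

include hHM

theorem root_of_one (hm : 2 ≤ m) {i j : Fin t} (hij : i ≠ j) {b : ι → F} (hb : b ∈ D j)
    (hb0 : b ≠ 0) {β : (ι → F) →ₗ[F] F} (hβ : β ∘ₗ pr hD i ≠ 0)
    (hM : tv b (β ∘ₗ pr hD i) ∈ M) : Root hD M j i := by
  have hbi : ∀ γ : (ι → F) →ₗ[F] F, (γ ∘ₗ pr hD i) b = 0 := root_apply hD hij hb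
  -- the vectors
  have hA : ∀ a ∈ D j, tv a (β ∘ₗ pr hD i) ∈ M := by
    have hout : ∀ a ∈ D j, a ∉ Submodule.span F {b} → tv a (β ∘ₗ pr hD i) ∈ M := by
      intro a ha hab
      have hba : b ∉ Submodule.span F {a} := by
        intro h
        obtain ⟨c, hc⟩ := Submodule.mem_span_singleton.1 h
        rcases eq_or_ne c 0 with rfl | hc0
        · exact hb0 (by rw [← hc, zero_smul])
        · exact hab (Submodule.mem_span_singleton.2 ⟨c⁻¹, by rw [← hc, smul_smul, inv_mul_cancel₀ hc0, one_smul]⟩)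
      obtain ⟨γ, hγb, hγ⟩ := sep hba
      have hγa : γ a = 0 := hγ a (Submodule.mem_span_singleton_self a)
      have hh := hHM (tv_mem_H hD ha γ hγa)
      have h0 : (γ ∘ₗ pr hD j) a = 0 := by rw [LinearMap.comp_apply, pr_self hD ha, hγa]
      have hm' := M.mul_mem (M.mul_mem hh hM) (M.inv_mem hh)
      rw [conj_tv _ (hbi β), tv_mulVec h0, LinearMap.comp_apply, pr_self hD hb, hγb, one_smul] at hm'
      have e2 : (β ∘ₗ pr hD i) ∘ₗ Matrix.toLin' (((tv a (γ ∘ₗ pr hD j))⁻¹ : GL ι F) : Matrix ι ι F)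
          = β ∘ₗ pr hD i := by
        refine LinearMap.ext fun x => ?_
        rw [LinearMap.comp_apply, Matrix.toLin'_apply, tv_inv h0,
          tv_mulVec (by simp [h0]), map_add, map_smul, root_apply hD hij ha β, smul_zero, add_zero]
      rw [e2] at hm'
      have hn := M.inv_mem hM
      rw [tv_inv (hbi β), tv_neg (hbi β)] at hn
      have hp := M.mul_mem hn hm'
      rwa [tv_mul_center (by rw [map_smul, hbi β, smul_zero]) (by rw [map_add, hbi β, root_apply hD hij ha β, add_zero]),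
        neg_one_smul, neg_add_cancel_left] at hp
    intro a ha
    by_cases hab : a ∈ Submodule.span F {b}
    · obtain ⟨a', ha', ha'b⟩ := exists_out hD hm j b
      have h1 := hout _ (add_mem ha ha') (fun h => ha'b (by simpa using sub_mem h hab))
      have h2 := hout _ (neg_mem ha') (fun h => ha'b (by simpa using neg_mem h))
      have h3 := M.mul_mem h1 h2
      rwa [tv_mul_center (root_apply hD hij (add_mem ha ha') β) (root_apply hD hij (neg_mem ha') β),
        add_neg_cancel_right] at h3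
    · exact hout a ha hab
  -- the functionals
  intro a ha δ
  obtain ⟨z, hz⟩ : ∃ z, (β ∘ₗ pr hD i) z ≠ 0 := by
    by_contra h
    push Not at h
    exact hβ (LinearMap.ext h)
  have hz1 : β (pr hD i z) ≠ 0 := hz
  obtain ⟨v, hv, hvi⟩ : ∃ v, v = (β (pr hD i z))⁻¹ • pr hD i z ∧ v ∈ D i :=
    ⟨_, rfl, Submodule.smul_mem _ _ (pr_mem hD i z)⟩
  have hβv : β v = 1 := by rw [hv, map_smul, smul_eq_mul, inv_mul_cancel₀ hz1]
  obtain ⟨c, hc⟩ : ∃ c : F, c = δ v := ⟨_, rfl⟩
  have hε : (δ - c • β) v = 0 := by simp [hc, hβv]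
  obtain ⟨ε, hεdef⟩ : ∃ ε, ε = δ - c • β := ⟨_, rfl⟩
  rw [← hεdef] at hε
  have h0 : (ε ∘ₗ pr hD i) v = 0 := by rw [LinearMap.comp_apply, pr_self hD hvi, hε]
  have hh := hHM (tv_mem_H hD hvi ε hε)
  have hai : ∀ γ : (ι → F) →ₗ[F] F, (γ ∘ₗ pr hD i) a = 0 := root_apply hD hij ha
  have hm' := M.mul_mem (M.mul_mem hh (hA a ha)) (M.inv_mem hh)
  rw [conj_tv _ (hai β), tv_mulVec h0, hai ε, zero_smul, add_zero] at hm'
  have e2 : (β ∘ₗ pr hD i) ∘ₗ Matrix.toLin' (((tv v (ε ∘ₗ pr hD i))⁻¹ : GL ι F) : Matrix ι ι F)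
      = β ∘ₗ pr hD i + (-(ε ∘ₗ pr hD i)) := by
    refine LinearMap.ext fun x => ?_
    rw [LinearMap.comp_apply, Matrix.toLin'_apply, tv_inv h0,
      tv_mulVec (by simp [h0]), map_add, map_smul, LinearMap.add_apply,
      show (β ∘ₗ pr hD i) v = 1 by rw [LinearMap.comp_apply, pr_self hD hvi, hβv], smul_eq_mul,
      mul_one]
  rw [e2] at hm'
  have hq := M.mul_mem (M.inv_mem (hA a ha)) hm'
  rw [tv_inv (hai β), tv_mul (by simp [hai β]) (by simp [hai β, hai ε]), neg_add_cancel_left] at hq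
  have hε' := M.inv_mem hq
  rw [tv_inv (by simp [hai ε]), neg_neg] at hε'
  have hcm := hA _ (Submodule.smul_mem _ c ha)
  rw [tv_smul (hai β)] at hcm
  have hfin := M.mul_mem hε' hcm
  rw [tv_mul (hai ε) (by simp [hai β])] at hfin
  convert hfin using 2
  refine LinearMap.ext fun x => ?_
  simp [hεdef]

theorem root_swap_left {i j k : Fin t} (hij : i ≠ j) (hki : k ≠ i) (h : Root hD M j i) :
    Root hD M k i := by
  rcases eq_or_ne k j with rfl | hkj
  · exact h
  intro b hb β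
  obtain ⟨g, hgH, hg⟩ := exists_swap hD hkj
  have hgM := hHM hgH
  have hb' : (g : Matrix ι ι F) *ᵥ b ∈ D j := by simpa using hg k b hb
  have h0 : (β ∘ₗ pr hD i) b = 0 := root_apply hD (Ne.symm hki) hb β
  have hid : ∀ x, pr hD i ((g : Matrix ι ι F) *ᵥ x) = (g : Matrix ι ι F) *ᵥ pr hD i x := by
    intro x
    conv_lhs => rw [← pr_sum hD x, Matrix.mulVec_sum, map_sum]
    rw [Finset.sum_eq_single i]
    · refine pr_self hD ?_
      simpa [Equiv.swap_apply_of_ne_of_ne (Ne.symm hki) hij] using hg i _ (pr_mem hD i x)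
    · intro l _ hl
      refine pr_other hD ?_ (hg l _ (pr_mem hD l x))
      intro hc
      apply hl
      apply (Equiv.swap k j).injective
      rw [← hc, Equiv.swap_apply_of_ne_of_ne (Ne.symm hki) hij]
    · simp
  have hM' := h _ hb' (β ∘ₗ Matrix.toLin' ((g⁻¹ : GL ι F) : Matrix ι ι F))
  have e : (β ∘ₗ Matrix.toLin' ((g⁻¹ : GL ι F) : Matrix ι ι F)) ∘ₗ pr hD i
      = (β ∘ₗ pr hD i) ∘ₗ Matrix.toLin' ((g⁻¹ : GL ι F) : Matrix ι ι F) := by
    refine LinearMap.ext fun x => ?_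
    simp only [LinearMap.comp_apply, Matrix.toLin'_apply]
    congr 1
    conv_lhs => rw [← mulVec_inv_mulVec g x, hid, inv_mulVec_mulVec]
  rw [e, ← conj_tv g h0] at hM'
  have hr := M.mul_mem (M.mul_mem (M.inv_mem hgM) hM') hgM
  convert hr using 1
  group

theorem root_swap_right {i j k : Fin t} (hij : i ≠ j) (hkj : k ≠ j) (h : Root hD M j i) :
    Root hD M j k := by
  rcases eq_or_ne k i with rfl | hki
  · exact h
  intro b hb β
  obtain ⟨g, hgH, hg⟩ := exists_swap hD hki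
  have hgM := hHM hgH
  have hb' : (g : Matrix ι ι F) *ᵥ b ∈ D j := by
    simpa [Equiv.swap_apply_of_ne_of_ne hkj.symm hij.symm] using hg j b hb
  have h0 : (β ∘ₗ pr hD k) b = 0 := root_apply hD hkj hb β
  have hid : ∀ x, pr hD i ((g : Matrix ι ι F) *ᵥ x) = (g : Matrix ι ι F) *ᵥ pr hD k x := by
    intro x
    conv_lhs => rw [← pr_sum hD x, Matrix.mulVec_sum, map_sum]
    rw [Finset.sum_eq_single k]
    · refine pr_self hD ?_
      simpa using hg k _ (pr_mem hD k x)
    · intro l _ hl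
      refine pr_other hD ?_ (hg l _ (pr_mem hD l x))
      intro hc
      apply hl
      apply (Equiv.swap k i).injective
      rw [← hc, Equiv.swap_apply_left]
    · simp
  have hM' := h _ hb' (β ∘ₗ Matrix.toLin' ((g⁻¹ : GL ι F) : Matrix ι ι F))
  have e : (β ∘ₗ Matrix.toLin' ((g⁻¹ : GL ι F) : Matrix ι ι F)) ∘ₗ pr hD i
      = (β ∘ₗ pr hD k) ∘ₗ Matrix.toLin' ((g⁻¹ : GL ι F) : Matrix ι ι F) := by
    refine LinearMap.ext fun x => ?_
    simp only [LinearMap.comp_apply, Matrix.toLin'_apply]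
    congr 1
    conv_lhs => rw [← mulVec_inv_mulVec g x, hid, inv_mulVec_mulVec]
  rw [e, ← conj_tv g h0] at hM'
  have hr := M.mul_mem (M.mul_mem (M.inv_mem hgM) hM') hgM
  convert hr using 1
  group

theorem root_all {i j : Fin t} (hij : i ≠ j) (h : Root hD M j i) {k l : Fin t} (hkl : k ≠ l) :
    Root hD M l k := by
  -- move to a pair whose source is `k`
  rcases eq_or_ne k j with rfl | hkj
  · rcases eq_or_ne l i with rfl | hli
    · by_cases ht : ∃ o, o ≠ l ∧ o ≠ k
      · obtain ⟨o, ho, ho'⟩ := ht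
        exact root_swap_left hD hHM ho'.symm hkl.symm
          (root_swap_right hD hHM ho.symm ho'.symm
            (root_swap_left hD hHM hij ho h))
      · -- only two blocks: conjugate by the swap
        intro b hb β
        obtain ⟨g, hgH, hg⟩ := exists_swap hD hij
        have hgM := hHM hgH
        have hb' : (g : Matrix ι ι F) *ᵥ b ∈ D k := by simpa using hg l b hb
        have h0 : (β ∘ₗ pr hD k) b = 0 := root_apply hD hkl hb β
        have hid : ∀ x, pr hD l ((g : Matrix ι ι F) *ᵥ x) = (g : Matrix ι ι F) *ᵥ pr hD k x := by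
          intro x
          conv_lhs => rw [← pr_sum hD x, Matrix.mulVec_sum, map_sum]
          rw [Finset.sum_eq_single k]
          · refine pr_self hD ?_
            simpa using hg k _ (pr_mem hD k x)
          · intro o _ ho
            refine pr_other hD ?_ (hg o _ (pr_mem hD o x))
            intro hc
            apply ho
            apply (Equiv.swap l k).injective
            rw [← hc, Equiv.swap_apply_right]
          · simp
        have hM' := h _ hb' (β ∘ₗ Matrix.toLin' ((g⁻¹ : GL ι F) : Matrix ι ι F))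
        have e : (β ∘ₗ Matrix.toLin' ((g⁻¹ : GL ι F) : Matrix ι ι F)) ∘ₗ pr hD l
            = (β ∘ₗ pr hD k) ∘ₗ Matrix.toLin' ((g⁻¹ : GL ι F) : Matrix ι ι F) := by
          refine LinearMap.ext fun x => ?_
          simp only [LinearMap.comp_apply, Matrix.toLin'_apply]
          congr 1
          conv_lhs => rw [← mulVec_inv_mulVec g x, hid, inv_mulVec_mulVec]
        rw [e, ← conj_tv g h0] at hM'
        have hr := M.mul_mem (M.mul_mem (M.inv_mem hgM) hM') hgM
        convert hr using 1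
        group
    · exact root_swap_right hD hHM hli.symm hkl (root_swap_left hD hHM hij hli h)
  · exact root_swap_left hD hHM hkj hkl.symm (root_swap_right hD hHM hij hkj h)

/-- A transvection whose centre meets a block outside the support of its axis yields a root element. -/
theorem root_of_tv (hm : 2 ≤ m) {w : ι → F} {ψ : (ι → F) →ₗ[F] F} (h0 : ψ w = 0)
    (hM : tv w ψ ∈ M) {k : Fin t} (hwk : pr hD k w ≠ 0) (hψk : ∀ x ∈ D k, ψ x = 0) (hψ : ψ ≠ 0) :
    ∃ i j, i ≠ j ∧ Root hD M j i := by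
  obtain ⟨x₀, hx₀⟩ : ∃ x, ψ x ≠ 0 := by
    by_contra h
    push Not at h
    exact hψ (LinearMap.ext h)
  obtain ⟨i, hi⟩ : ∃ i, ψ (pr hD i x₀) ≠ 0 := by
    by_contra h
    push Not at h
    exact hx₀ (by rw [← pr_sum hD x₀, map_sum]; exact Finset.sum_eq_zero fun i _ => h i)
  have hik : i ≠ k := fun h => hi (hψk _ (h ▸ pr_mem hD i x₀))
  -- the centre moves to the block `k`
  obtain ⟨b, hb, hbw⟩ := exists_out hD hm k (pr hD k w)
  have hb0 : b ≠ 0 := fun h => hbw (h ▸ zero_mem _)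
  have hwb : pr hD k w ∉ Submodule.span F {b} := by
    intro h
    obtain ⟨c, hc⟩ := Submodule.mem_span_singleton.1 h
    rcases eq_or_ne c 0 with rfl | hc0
    · exact hwk (by rw [← hc, zero_smul])
    · exact hbw (Submodule.mem_span_singleton.2 ⟨c⁻¹, by rw [← hc, smul_smul, inv_mul_cancel₀ hc0, one_smul]⟩)
  obtain ⟨β, hβw, hβ⟩ := sep hwb
  have hβb : β b = 0 := hβ b (Submodule.mem_span_singleton_self b)
  have h1 : (β ∘ₗ pr hD k) b = 0 := by rw [LinearMap.comp_apply, pr_self hD hb, hβb]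
  have hψb : ψ b = 0 := hψk b hb
  have hh := hHM (tv_mem_H hD hb β hβb)
  have hm' := M.mul_mem (M.mul_mem hh hM) (M.inv_mem hh)
  rw [conj_tv _ h0, tv_mulVec h1, LinearMap.comp_apply, hβw, one_smul] at hm'
  have e2 : ψ ∘ₗ Matrix.toLin' (((tv b (β ∘ₗ pr hD k))⁻¹ : GL ι F) : Matrix ι ι F) = ψ := by
    refine LinearMap.ext fun x => ?_
    rw [LinearMap.comp_apply, Matrix.toLin'_apply, tv_inv h1, tv_mulVec (by simp [h1]), map_add,
      map_smul, hψb, smul_zero, add_zero]
  rw [e2] at hm'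
  have hn := M.inv_mem hM
  rw [tv_inv h0, tv_neg h0] at hn
  have hp := M.mul_mem hn hm'
  rw [tv_mul_center (by simp [h0]) (by simp [h0, hψb]), neg_one_smul, neg_add_cancel_left] at hp
  -- the axis moves to the block `i`
  obtain ⟨a, ha, ha'⟩ : ∃ a ∈ D i, ψ a = 1 :=
    ⟨(ψ (pr hD i x₀))⁻¹ • pr hD i x₀, Submodule.smul_mem _ _ (pr_mem hD i x₀), by
      rw [map_smul, smul_eq_mul, inv_mul_cancel₀ hi]⟩
  obtain ⟨v, hv, hva⟩ := exists_out hD hm i a
  obtain ⟨δ, hδv, hδ⟩ := sep hva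
  have hδa : δ a = 0 := hδ a (Submodule.mem_span_singleton_self a)
  have h2 : (δ ∘ₗ pr hD i) a = 0 := by rw [LinearMap.comp_apply, pr_self hD ha, hδa]
  have hh2 := hHM (tv_mem_H hD ha δ hδa)
  have hm2 := M.mul_mem (M.mul_mem hh2 hp) (M.inv_mem hh2)
  have hbi : (δ ∘ₗ pr hD i) b = 0 := root_apply hD hik hb δ
  rw [conj_tv _ hψb, tv_mulVec h2, hbi, zero_smul, add_zero] at hm2
  have e3 : ψ ∘ₗ Matrix.toLin' (((tv a (δ ∘ₗ pr hD i))⁻¹ : GL ι F) : Matrix ι ι F)
      = ψ + (-(δ ∘ₗ pr hD i)) := by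
    refine LinearMap.ext fun x => ?_
    rw [LinearMap.comp_apply, Matrix.toLin'_apply, tv_inv h2,
      tv_mulVec (by simp [h2]), map_add, map_smul, LinearMap.add_apply, ha', smul_eq_mul, mul_one]
  rw [e3] at hm2
  have hq := M.mul_mem (M.inv_mem hp) hm2
  rw [tv_inv hψb, tv_mul (by simp [hψb]) (by simp [hψb, hbi]), neg_add_cancel_left] at hq
  have hq' := M.inv_mem hq
  rw [tv_inv (by simp [hbi]), neg_neg] at hq'
  refine ⟨i, k, hik, root_of_one hD hHM hm hik hb hb0 ?_ hq'⟩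
  intro h
  have h3 := LinearMap.congr_fun h v
  rw [LinearMap.comp_apply, pr_self hD hv, hδv, LinearMap.zero_apply] at h3
  exact one_ne_zero h3

theorem SL_le_of_root (hroot : ∀ i j, i ≠ j → Root hD M j i) :
    Cfsg.Geo.specialLinear ι F ≤ M := by
  -- centres inside a block
  have hblock : ∀ j, ∀ b ∈ D j, ∀ φ : (ι → F) →ₗ[F] F, φ b = 0 → tv b φ ∈ M := by
    intro j b hb φ hφ
    have hz : ∀ i, (φ ∘ₗ pr hD i) b = 0 := fun i => by
      rcases eq_or_ne i j with rfl | h
      · rw [LinearMap.comp_apply, pr_self hD hb, hφ]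
      · exact root_apply hD h hb φ
    have hstep : ∀ s : Finset (Fin t), tv b (∑ i ∈ s, φ ∘ₗ pr hD i) ∈ M := by
      intro s
      classical
      induction s using Finset.induction_on with
      | empty => rw [Finset.sum_empty, tv_zero]; exact M.one_mem
      | insert o s ho ih =>
        rw [Finset.sum_insert ho, ← tv_mul (hz o) (by
          rw [LinearMap.sum_apply]; exact Finset.sum_eq_zero fun i _ => hz i)]
        refine M.mul_mem ?_ ih
        rcases eq_or_ne o j with rfl | h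
        · exact hHM (tv_mem_H hD hb φ hφ)
        · exact hroot o j h b hb φ
    convert hstep Finset.univ
    refine LinearMap.ext fun x => ?_
    conv_lhs => rw [← pr_sum hD x, map_sum]
    rw [LinearMap.sum_apply]
    rfl
  refine SL_le_of_tv_mem M fun w φ hφ => ?_
  rcases eq_or_ne w 0 with rfl | hw
  · rw [tv_zero_vec]; exact M.one_mem
  obtain ⟨j, hj⟩ : ∃ j, pr hD j w ≠ 0 := by
    by_contra h
    push Not at h
    exact hw (by rw [← pr_sum hD w]; exact Finset.sum_eq_zero fun i _ => h i)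
  obtain ⟨β, hβ, -⟩ := sep (S := (⊥ : Submodule F (ι → F))) (x := pr hD j w) (by simpa using hj)
  obtain ⟨ψ, hψdef⟩ : ∃ ψ, ψ = β ∘ₗ pr hD j := ⟨_, rfl⟩
  have hψo : ∀ i, i ≠ j → ψ (pr hD i w) = 0 := fun i hi => by
    rw [hψdef]; exact root_apply hD hi.symm (pr_mem hD i w) β
  have hstep : ∀ s : Finset (Fin t), j ∉ s → tv (∑ i ∈ s, pr hD i w) ψ ∈ M := by
    intro s
    classical
    induction s using Finset.induction_on with
    | empty => intro _; rw [Finset.sum_empty, tv_zero_vec]; exact M.one_mem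
    | insert o s ho ih =>
      intro hjs
      rw [Finset.mem_insert] at hjs
      push Not at hjs
      rw [Finset.sum_insert ho, ← tv_mul_center (hψo o hjs.1.symm) (by
        rw [map_sum]; exact Finset.sum_eq_zero fun i hi => hψo i (fun h => hjs.2 (h ▸ hi)))]
      exact M.mul_mem (hblock o _ (pr_mem hD o w) ψ (hψo o hjs.1.symm)) (ih hjs.2)
  have hu0 : ψ (∑ i ∈ Finset.univ.erase j, pr hD i w) = 0 := by
    rw [map_sum]; exact Finset.sum_eq_zero fun i hi => hψo i (Finset.ne_of_mem_erase hi)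
  obtain ⟨g, hgdef⟩ : ∃ g, g = tv (∑ i ∈ Finset.univ.erase j, pr hD i w) ψ := ⟨_, rfl⟩
  have hgM : g ∈ M := hgdef ▸ hstep _ (Finset.notMem_erase j _)
  have hψj : ψ (pr hD j w) = 1 := by
    rw [hψdef, LinearMap.comp_apply, pr_self hD (pr_mem hD j w), hβ]
  have hgw : (g : Matrix ι ι F) *ᵥ pr hD j w = w := by
    rw [hgdef, tv_mulVec hu0, hψj, one_smul]
    exact (Finset.add_sum_erase _ (fun i => pr hD i w) (Finset.mem_univ j)).trans (pr_sum hD w)
  have h1 : (φ ∘ₗ Matrix.toLin' (g : Matrix ι ι F)) (pr hD j w) = 0 := by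
    rw [LinearMap.comp_apply, Matrix.toLin'_apply, hgw, hφ]
  have hm' := M.mul_mem (M.mul_mem hgM (hblock j _ (pr_mem hD j w) _ h1)) (M.inv_mem hgM)
  rw [conj_tv _ h1, hgw] at hm'
  convert hm' using 2
  refine LinearMap.ext fun x => ?_
  rw [LinearMap.comp_apply, LinearMap.comp_apply, Matrix.toLin'_apply, Matrix.toLin'_apply,
    mulVec_inv_mulVec]

omit hHM in
/-- outside the stabiliser some vector of a block is sent outside every block -/
theorem exists_mixed {g : GL ι F} (hg : g ∉ Cfsg.Geo.decompositionStabilizer D) :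
    ∃ i, ∃ v ∈ D i, ∃ k l, k ≠ l ∧ pr hD k ((g : Matrix ι ι F) *ᵥ v) ≠ 0 ∧
      pr hD l ((g : Matrix ι ι F) *ᵥ v) ≠ 0 := by
  by_contra hcon
  push Not at hcon
  apply hg
  -- each image vector lies in one block
  have hone : ∀ i, ∀ v ∈ D i, ∀ k, pr hD k ((g : Matrix ι ι F) *ᵥ v) ≠ 0 →
      (g : Matrix ι ι F) *ᵥ v ∈ D k := by
    intro i v hv k hk
    have : (g : Matrix ι ι F) *ᵥ v = pr hD k ((g : Matrix ι ι F) *ᵥ v) := by
      conv_lhs => rw [← pr_sum hD ((g : Matrix ι ι F) *ᵥ v)]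
      rw [Finset.sum_eq_single k]
      · intro l _ hl
        exact hcon i v hv k l (Ne.symm hl) hk
      · simp
    rw [this]; exact pr_mem hD k _
  have hinj : ∀ v : ι → F, v ≠ 0 → (g : Matrix ι ι F) *ᵥ v ≠ 0 := fun v hv h => hv (by
    rw [← inv_mulVec_mulVec g v, h, Matrix.mulVec_zero])
  have hex : ∀ i, ∃ k, ∀ v ∈ D i, (g : Matrix ι ι F) *ᵥ v ∈ D k := by
    intro i
    obtain ⟨v, hv, hv0⟩ := nontriv hD i
    obtain ⟨k, hk⟩ : ∃ k, pr hD k ((g : Matrix ι ι F) *ᵥ v) ≠ 0 := by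
      by_contra h
      push Not at h
      exact hinj v hv0 (by rw [← pr_sum hD ((g : Matrix ι ι F) *ᵥ v)]; exact Finset.sum_eq_zero fun i _ => h i)
    refine ⟨k, fun u hu => ?_⟩
    have hvk := hone i v hv k hk
    by_contra hu'
    obtain ⟨l, hl⟩ : ∃ l, pr hD l ((g : Matrix ι ι F) *ᵥ u) ≠ 0 := by
      by_contra h
      push Not at h
      refine hu' ?_
      rw [← pr_sum hD ((g : Matrix ι ι F) *ᵥ u)]
      exact Submodule.sum_mem _ fun i _ => by rw [h i]; exact zero_mem _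
    have hul := hone i u hu l hl
    have hlk : l ≠ k := fun h => hu' (h ▸ hul)
    refine hk ?_
    have := hcon i (v + u) (add_mem hv hu) l k hlk (by
      rw [Matrix.mulVec_add, map_add, pr_other hD hlk hvk, zero_add]; exact hl)
    rw [Matrix.mulVec_add, map_add, pr_other hD hlk.symm hul, add_zero] at this
    exact this
  choose σ hσ using hex
  have hinjσ : Function.Injective σ := by
    intro i j hij
    by_contra hne
    obtain ⟨v, hv, hv0⟩ := nontriv hD j
    -- the image of `D i` fills its block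
    have hfill : (D i).map (Matrix.toLin' (g : Matrix ι ι F)) = D (σ i) := by
      refine Submodule.eq_of_le_of_finrank_eq ?_ ?_
      · rintro _ ⟨x, hx, rfl⟩
        rw [Matrix.toLin'_apply]
        exact hσ i x hx
      · rw [(Submodule.equivMapOfInjective (Matrix.toLin' (g : Matrix ι ι F))
          (fun x y hxy => by
            rw [Matrix.toLin'_apply, Matrix.toLin'_apply] at hxy
            rw [← inv_mulVec_mulVec g x, hxy, inv_mulVec_mulVec]) (D i)).finrank_eq.symm,
          hD.finrank_eq, hD.finrank_eq]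
    have := hσ j v hv
    rw [← hij, ← hfill] at this
    obtain ⟨x, hx, hxv⟩ := this
    rw [Matrix.toLin'_apply] at hxv
    have hxv' : x = v := by rw [← inv_mulVec_mulVec g x, hxv, inv_mulVec_mulVec]
    subst hxv'
    exact hv0 (by rw [← pr_self hD hx]; exact pr_other hD hne hv)
  exact mem_stab_of_maps hD
    (σ := Equiv.ofBijective σ (Finite.injective_iff_bijective.1 hinjσ)) fun i x hx => hσ i x hx

end Decomp

theorem maximal [Fintype F] {t : ℕ} {D : Fin t → Submodule F (ι → F)} {m : ℕ}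
    (hD : Cfsg.Geo.IsMDecomposition m D) (hm : 2 ≤ m)
    (hex : m = 2 → 3 ≤ Fintype.card F ∧ 3 ≤ t) :
    Cfsg.Geo.IsMaximalIn (Cfsg.Geo.specialLinear ι F)
      (Cfsg.Geo.decompositionStabilizer D ⊓ Cfsg.Geo.specialLinear ι F) := by
  classical
  refine ⟨lt_of_le_of_ne inf_le_right ?_, ?_⟩
  · intro heq
    have h2 := hD.two_le
    obtain ⟨i, j, hij⟩ : ∃ i j : Fin t, i ≠ j := ⟨⟨0, by omega⟩, ⟨1, by omega⟩, by simp⟩
    obtain ⟨a, ha, ha0⟩ := nontriv hD i
    obtain ⟨b, hb, hb0⟩ := nontriv hD j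
    obtain ⟨β, hβ, -⟩ := sep (S := (⊥ : Submodule F (ι → F))) (x := a) (by simpa using ha0)
    have h0 := root_apply hD hij hb β
    obtain ⟨σ, hσ⟩ := (heq.symm ▸ tv_mem_SL b (β ∘ₗ pr hD i) :
      tv b (β ∘ₗ pr hD i) ∈ Cfsg.Geo.decompositionStabilizer D ⊓ Cfsg.Geo.specialLinear ι F).1
    have hmem : a + b ∈ D (σ i) := by
      rw [← hσ i]
      exact ⟨a, ha, by
        rw [Matrix.toLin'_apply, tv_mulVec h0, LinearMap.comp_apply, pr_self hD ha, hβ, one_smul]⟩
    by_cases h : σ i = i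
    · rw [h] at hmem
      exact hb0 (by rw [← pr_self hD hb]; exact pr_other hD (Ne.symm hij) (by simpa using sub_mem hmem ha))
    · have := pr_other hD (Ne.symm h) hmem
      rw [map_add, pr_self hD ha, pr_other hD hij hb, add_zero] at this
      exact ha0 this
  intro M hHM hMSL
  by_cases hMH : M ≤ Cfsg.Geo.decompositionStabilizer D ⊓ Cfsg.Geo.specialLinear ι F
  · exact Or.inl (le_antisymm hMH hHM)
  right
  obtain ⟨g, hgM, hgH⟩ := SetLike.not_le_iff_exists.1 hMH
  have hgD : g ∉ Cfsg.Geo.decompositionStabilizer D := fun h => hgH ⟨h, hMSL hgM⟩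
  obtain ⟨i₀, v, hv, k, l, hkl, hk, hl⟩ := exists_mixed hD hgD
  -- a transvection with mixed centre
  have hv0 : v ≠ 0 := fun h => hk (by simp [h])
  obtain ⟨a₀, ha₀, ha₀v⟩ := exists_out hD hm i₀ v
  obtain ⟨β₀, hβ₀a, hβ₀⟩ := sep ha₀v
  have hβ₀v : β₀ v = 0 := hβ₀ v (Submodule.mem_span_singleton_self v)
  have h00 : (β₀ ∘ₗ pr hD i₀) v = 0 := by rw [LinearMap.comp_apply, pr_self hD hv, hβ₀v]
  have hX := M.mul_mem (M.mul_mem hgM (hHM (tv_mem_H hD hv β₀ hβ₀v))) (M.inv_mem hgM)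
  rw [conj_tv g h00] at hX
  obtain ⟨w, hwdef⟩ : ∃ w, w = (g : Matrix ι ι F) *ᵥ v := ⟨_, rfl⟩
  obtain ⟨ψ, hψdef⟩ : ∃ ψ, ψ = (β₀ ∘ₗ pr hD i₀) ∘ₗ Matrix.toLin' ((g⁻¹ : GL ι F) : Matrix ι ι F) :=
    ⟨_, rfl⟩
  rw [← hwdef, ← hψdef] at hX
  rw [← hwdef] at hk hl
  have hψw : ψ w = 0 := by
    rw [hψdef, hwdef, LinearMap.comp_apply, Matrix.toLin'_apply, inv_mulVec_mulVec, h00]
  have hψ0 : ψ ≠ 0 := by
    intro h
    have h1 := LinearMap.congr_fun h ((g : Matrix ι ι F) *ᵥ a₀)
    rw [hψdef, LinearMap.comp_apply, Matrix.toLin'_apply, inv_mulVec_mulVec, LinearMap.comp_apply,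
      pr_self hD ha₀, hβ₀a, LinearMap.zero_apply] at h1
    exact one_ne_zero h1
  suffices hroot : ∃ i j, i ≠ j ∧ Root hD M j i by
    obtain ⟨i, j, hij, hR⟩ := hroot
    exact le_antisymm hMSL (SL_le_of_root hD hHM fun i' j' h => root_all hD hHM hij hR h)
  by_cases hkz : ∀ x ∈ D k, ψ x = 0
  · exact root_of_tv hD hHM hm hψw hX hk hkz hψ0
  push Not at hkz
  obtain ⟨x, hx, hψx⟩ := hkz
  -- an element fixing `w` and moving `ψ` away from block `l`
  obtain ⟨h, hhH, hhw, hhl, hhne⟩ : ∃ h : GL ι F,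
      h ∈ Cfsg.Geo.decompositionStabilizer D ⊓ Cfsg.Geo.specialLinear ι F ∧
      (h : Matrix ι ι F) *ᵥ w = w ∧
      (∀ y ∈ D l, ((h⁻¹ : GL ι F) : Matrix ι ι F) *ᵥ y = y) ∧
      ψ ∘ₗ Matrix.toLin' ((h⁻¹ : GL ι F) : Matrix ι ι F) ≠ ψ := by
    by_cases hcase : ψ (pr hD k w) ≠ 0 ∨ 3 ≤ m
    · obtain ⟨a, ha, hψa, v', hv', hout⟩ : ∃ a ∈ D k, ψ a ≠ 0 ∧ ∃ v' ∈ D k,
          v' ∉ Submodule.span F ({a, pr hD k w} : Set (ι → F)) := by
        by_cases hwne : ψ (pr hD k w) ≠ 0
        · obtain ⟨v', hv', hout⟩ := exists_out hD hm k (pr hD k w)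
          exact ⟨_, pr_mem hD k w, hwne, v', hv', by rwa [Set.pair_eq_singleton]⟩
        · obtain ⟨v', hv', hout⟩ := exists_not_mem (W := D k)
            (S := Submodule.span F ({x, pr hD k w} : Set (ι → F))) (by
              rw [hD.finrank_eq k]
              exact lt_of_le_of_lt (finrank_pair _ _) (by
                rcases hcase with h | h
                · exact absurd h hwne
                · omega))
          exact ⟨x, hx, hψx, v', hv', hout⟩
      obtain ⟨β, hβv, hβ⟩ := sep hout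
      have hβa : β a = 0 := hβ a (Submodule.subset_span (by simp))
      have hβw : β (pr hD k w) = 0 := hβ _ (Submodule.subset_span (by simp))
      have h1 : (β ∘ₗ pr hD k) a = 0 := by rw [LinearMap.comp_apply, pr_self hD ha, hβa]
      refine ⟨_, tv_mem_H hD ha β hβa, ?_, fun y hy => ?_, fun he => ?_⟩
      · rw [tv_mulVec h1, LinearMap.comp_apply, hβw, zero_smul, add_zero]
      · rw [tv_inv h1, tv_mulVec (by simp [h1]), LinearMap.neg_apply,
          root_apply hD hkl hy β, neg_zero, zero_smul, add_zero]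
      · have h2 := LinearMap.congr_fun he v'
        rw [LinearMap.comp_apply, Matrix.toLin'_apply, tv_inv h1, tv_mulVec (by simp [h1]),
          LinearMap.neg_apply, LinearMap.comp_apply, pr_self hD hv', hβv, map_add, map_smul,
          add_eq_left, smul_eq_mul] at h2
        exact hψa (by simpa using h2)
    · push Not at hcase
      obtain ⟨hwz, hm3⟩ := hcase
      obtain ⟨hq, ht⟩ := hex (by omega)
      obtain ⟨o, hok, hol⟩ : ∃ o : Fin t, o ≠ k ∧ o ≠ l := by
        by_contra hc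
        push Not at hc
        have : (Finset.univ : Finset (Fin t)) ⊆ {k, l} := fun o _ => by
          by_cases h : o = k
          · simp [h]
          · simp [hc o h]
        have := (Finset.card_le_card this).trans Finset.card_le_two
        simp at this
        omega
      obtain ⟨lam, hl0, hl1⟩ : ∃ lam : F, lam ≠ 0 ∧ lam ≠ 1 := by
        by_contra hc
        push Not at hc
        have : (Finset.univ : Finset F) ⊆ {0, 1} := fun o _ => by
          by_cases h : o = 0
          · simp [h]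
          · simp [hc o h]
        have := (Finset.card_le_card this).trans Finset.card_le_two
        simp at this
        omega
      -- the block `k`
      obtain ⟨u, hu, hψu⟩ : ∃ u ∈ D k, ψ u = lam - 1 :=
        ⟨((lam - 1) / ψ x) • x, Submodule.smul_mem _ _ hx, by
          rw [map_smul, smul_eq_mul, div_mul_cancel₀ _ hψx]⟩
      obtain ⟨γ, u', hu', hγw, hγu⟩ : ∃ (γ : (ι → F) →ₗ[F] F) (u' : ι → F), u' ∈ D o ∧
          γ (pr hD o w) = 0 ∧ γ u' = lam⁻¹ - 1 := by
        obtain ⟨u', hu', hout⟩ := exists_out hD hm o (pr hD o w)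
        obtain ⟨γ, hγ1, hγ⟩ := sep hout
        exact ⟨γ, (lam⁻¹ - 1) • u', Submodule.smul_mem _ _ hu',
          hγ _ (Submodule.mem_span_singleton_self _), by rw [map_smul, hγ1, smul_eq_mul, mul_one]⟩
      have e1 : 1 + ψ u ≠ 0 := by rw [hψu]; simpa using hl0
      have e2 : 1 + γ u' ≠ 0 := by rw [hγu]; simpa using hl0
      have e1' : 1 + (ψ ∘ₗ pr hD k) u ≠ 0 := by rwa [LinearMap.comp_apply, pr_self hD hu]
      have e2' : 1 + (γ ∘ₗ pr hD o) u' ≠ 0 := by rwa [LinearMap.comp_apply, pr_self hD hu']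
      obtain ⟨h, hhdef⟩ : ∃ h, h = dil u (ψ ∘ₗ pr hD k) * dil u' (γ ∘ₗ pr hD o) := ⟨_, rfl⟩
      have hfix : ∀ y, (ψ ∘ₗ pr hD k) y = 0 → (γ ∘ₗ pr hD o) y = 0 →
          (h : Matrix ι ι F) *ᵥ y = y := by
        intro y h1 h2
        rw [hhdef, Units.val_mul, ← Matrix.mulVec_mulVec, dil_mulVec e2', h2, zero_smul, add_zero,
          dil_mulVec e1', h1, zero_smul, add_zero]
      refine ⟨h, ⟨?_, mem_SL ?_⟩, hfix w ?_ ?_, fun y hy => ?_, fun he => ?_⟩
      · rw [hhdef]; exact mul_mem (dil_mem_stab hD hu _ e1) (dil_mem_stab hD hu' _ e2)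
      · rw [hhdef, Units.val_mul, Matrix.det_mul, dil_det e1', dil_det e2', LinearMap.comp_apply,
          LinearMap.comp_apply, pr_self hD hu, pr_self hD hu', hψu, hγu]
        field_simp
        ring
      · exact hwz
      · exact hγw
      · conv_lhs => rw [← hfix y (root_apply hD hkl hy ψ) (root_apply hD hol hy γ)]
        rw [inv_mulVec_mulVec]
      · have hu1 : (h : Matrix ι ι F) *ᵥ u = lam • u := by
          rw [hhdef, Units.val_mul, ← Matrix.mulVec_mulVec, dil_mulVec e2',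
            root_apply hD hok hu γ, zero_smul, add_zero, dil_mulVec e1', LinearMap.comp_apply,
            pr_self hD hu, hψu]
          module
        have h2 := LinearMap.congr_fun he (lam • u)
        rw [LinearMap.comp_apply, Matrix.toLin'_apply, ← hu1, inv_mulVec_mulVec, hu1, map_smul,
          hψu, smul_eq_mul] at h2
        have h3 : (lam - 1) * (lam - 1) = 0 := by linear_combination -h2
        exact hl1 (sub_eq_zero.1 (mul_self_eq_zero.1 h3))
  have hm' := M.mul_mem (M.mul_mem (hHM hhH) hX) (M.inv_mem (hHM hhH))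
  rw [conj_tv _ hψw, hhw] at hm'
  obtain ⟨ψ', hψ'def⟩ : ∃ ψ', ψ' = ψ ∘ₗ Matrix.toLin' ((h⁻¹ : GL ι F) : Matrix ι ι F) := ⟨_, rfl⟩
  have hψ'w : ψ' w = 0 := by
    rw [hψ'def, LinearMap.comp_apply, Matrix.toLin'_apply]
    conv_lhs => rw [← hhw, inv_mulVec_mulVec]
    exact hψw
  rw [← hψ'def] at hm' hhne
  have hq := M.mul_mem (M.inv_mem hX) hm'
  rw [tv_inv hψw, tv_mul (by simp [hψw]) hψ'w] at hq
  refine root_of_tv hD hHM hm (by simp [hψw, hψ'w]) hq hl (fun y hy => ?_) ?_
  · rw [hψ'def, LinearMap.add_apply, LinearMap.comp_apply, Matrix.toLin'_apply, hhl y hy,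
      LinearMap.neg_apply, neg_add_cancel]
  · intro h0
    exact hhne (eq_of_sub_eq_zero (by rw [sub_eq_neg_add]; exact h0))

end CfsgLib.Lie.DecompSL
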