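import Mathlib

/-!
Fixed-point-free elements of prime order.
-/

set_option autoImplicit false

namespace CfsgLib.Lie.Derange

open MulAction

variable {G Ω : Type*} [Group G] [Finite G] [MulAction G Ω] [FaithfulSMul G Ω] [Fintype Ω]

/-- A transitive p-subgroup gives a derangement of order p. -/
theorem of_transitive {p : ℕ} (hp : p.Prime) (P : Subgroup G) (hP : IsPGroup p P)
    (h2 : 2 ≤ Fintype.card Ω) (ht : IsPretransitive P Ω) :
    ∃ g : G, orderOf g = p ∧ ∀ ω : Ω, g • ω ≠ ω := by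
  have : Fact p.Prime := ⟨hp⟩
  have hnt : Nontrivial P := by
    by_contra h
    rw [not_nontrivial_iff_subsingleton] at h
    have : Subsingleton Ω := ⟨fun a b => by
      obtain ⟨g, hg⟩ := exists_smul_eq P a b
      rw [← hg, Subsingleton.elim g 1, one_smul]⟩
    have := Fintype.card_le_one_iff_subsingleton.2 this
    omega
  have hz : Nontrivial (Subgroup.center P) := hP.center_nontrivial
  obtain ⟨k, hk, hck⟩ := (hP.to_subgroup (Subgroup.center P)).nontrivial_iff_card.1 hz
  obtain ⟨z, hz⟩ := exists_prime_orderOf_dvd_card' p (hck ▸ dvd_pow_self p hk.ne')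
  refine ⟨((z : P) : G), by rw [Subgroup.orderOf_coe, Subgroup.orderOf_coe, hz], fun ω hω => ?_⟩
  have hall : ∀ x : Ω, ((z : P) : G) • x = x := by
    intro x
    obtain ⟨g, rfl⟩ := exists_smul_eq P ω x
    have hc := congrArg Subtype.val (Subgroup.mem_center_iff.1 z.2 g)
    simp only [Subgroup.coe_mul] at hc
    rw [Subgroup.smul_def, ← mul_smul, ← hc, mul_smul, hω]
  have h1 : ((z : P) : G) = 1 := eq_of_smul_eq_smul (α := Ω) fun x => by rw [hall x, one_smul]
  have : orderOf ((z : P) : G) = 1 := by rw [h1, orderOf_one]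
  rw [Subgroup.orderOf_coe, Subgroup.orderOf_coe, hz] at this
  exact hp.ne_one this

theorem dvd_card_orbit {p k : ℕ} (hp : p.Prime) [IsPretransitive G Ω] (P : Sylow p G) (ω : Ω)
    (hk : p ^ k ∣ Fintype.card Ω) : p ^ k ∣ Nat.card (orbit (P : Subgroup G) ω) := by
  classical
  have : Fact p.Prime := ⟨hp⟩
  have hG : Nat.card Ω * Nat.card (stabilizer G ω) = Nat.card G := by
    rw [← (stabilizer G ω).index_mul_card, index_stabilizer_of_transitive]
  obtain ⟨a, ha⟩ := IsPGroup.iff_card.1 P.isPGroup'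
  set R := stabilizer (P : Subgroup G) ω with hR
  have hoP : Nat.card (orbit (P : Subgroup G) ω) * Nat.card R = p ^ a := by
    rw [← ha, ← R.index_mul_card, index_stabilizer, ← Nat.card_coe_set_eq]
  obtain ⟨b, hb⟩ := IsPGroup.iff_card.1 (P.isPGroup'.to_subgroup R)
  have hRd : p ^ b ∣ Nat.card (stabilizer G ω) := by
    rw [← hb]
    exact Subgroup.card_dvd_of_injective
      (MonoidHom.mk' (fun x : R => (⟨((x : (P : Subgroup G)) : G), x.2⟩ : stabilizer G ω))
        fun _ _ => rfl)
      (fun _ _ h => Subtype.ext (Subtype.ext (congrArg (fun z : stabilizer G ω => (z : G)) h)))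
  have hd : p ^ (k + b) ∣ Nat.card G := by
    rw [← hG, pow_add, Nat.card_eq_fintype_card (α := Ω)]
    exact Nat.mul_dvd_mul hk hRd
  have hle : k + b ≤ a := by
    have h1 : p ^ (k + b) ∣ Nat.card (P : Subgroup G) := by
      rw [Sylow.card_eq_multiplicity]
      exact Nat.pow_dvd_pow _ ((hp.pow_dvd_iff_le_factorization Nat.card_pos.ne').1 hd)
    rw [ha] at h1
    exact (Nat.pow_dvd_pow_iff_le_right hp.one_lt).1 h1
  obtain ⟨c, hc, hco⟩ := (Nat.dvd_prime_pow hp).1 ⟨_, hoP.symm⟩
  rw [hco, hb, ← pow_add] at hoP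
  have := Nat.pow_right_injective hp.two_le hoP
  rw [hco]
  exact Nat.pow_dvd_pow _ (by omega)

/-- Degree p^k. -/
theorem of_prime_pow [IsPretransitive G Ω] {p k : ℕ} (hp : p.Prime) (hk : 1 ≤ k)
    (hΩ : Fintype.card Ω = p ^ k) : ∃ g : G, orderOf g = p ∧ ∀ ω : Ω, g • ω ≠ ω := by
  have : Fact p.Prime := ⟨hp⟩
  have P : Sylow p G := default
  have h2 : 2 ≤ Fintype.card Ω := hΩ ▸ le_trans hp.two_le (Nat.le_self_pow (by omega) p)
  refine of_transitive hp P P.isPGroup' h2 ⟨fun x y => ?_⟩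
  have hd := dvd_card_orbit hp P x (dvd_of_eq hΩ.symm)
  have hu : orbit (P : Subgroup G) x = Set.univ := Set.eq_of_subset_of_ncard_le (Set.subset_univ _) (by
    rw [Set.ncard_univ, ← Nat.card_coe_set_eq, Nat.card_eq_fintype_card (α := Ω), hΩ]
    have : Nonempty (orbit (P : Subgroup G) x) := ⟨⟨x, mem_orbit_self x⟩⟩
    have : 0 < Nat.card (orbit (P : Subgroup G) x) := Nat.card_pos
    exact Nat.le_of_dvd this hd) (Set.toFinite _)
  exact (hu ▸ Set.mem_univ y : y ∈ orbit (P : Subgroup G) x)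

/-- Degree mp with m ≤ p. -/
theorem of_mul_prime [IsPretransitive G Ω] {p m : ℕ} (hp : p.Prime) (hm : 1 ≤ m) (hmp : m ≤ p)
    (hΩ : Fintype.card Ω = m * p) : ∃ g : G, orderOf g = p ∧ ∀ ω : Ω, g • ω ≠ ω := by
  classical
  have : Fact p.Prime := ⟨hp⟩
  have P : Sylow p G := default
  have hΩle : Fintype.card Ω ≤ p ^ 2 := by rw [hΩ, pow_two]; exact Nat.mul_le_mul_right p hmp
  have h2 : 2 ≤ Fintype.card Ω := by
    rw [hΩ]; exact le_trans hp.two_le (Nat.le_mul_of_pos_left p hm)
  have hdvd : ∀ ω : Ω, p ∣ Nat.card (orbit (P : Subgroup G) ω) := fun ω => by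
    simpa using dvd_card_orbit (k := 1) hp P ω (by rw [pow_one, hΩ]; exact dvd_mul_left p m)
  set St : Ω → Subgroup (P : Subgroup G) := fun ω => stabilizer (P : Subgroup G) ω with hSt
  have hidx : ∀ ω, (St ω).index = Nat.card (orbit (P : Subgroup G) ω) := fun ω => by
    rw [hSt, index_stabilizer, Nat.card_coe_set_eq]
  by_cases hbig : ∃ ω : Ω, Nat.card (orbit (P : Subgroup G) ω) ≠ p
  · obtain ⟨ω, hω⟩ := hbig
    refine of_transitive hp P P.isPGroup' h2 ?_
    obtain ⟨c, hc⟩ := (P.isPGroup'.index (St ω) : ∃ n, (St ω).index = p ^ n)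
    rw [hidx] at hc
    have hc2 : 2 ≤ c := by
      have h1 := hdvd ω
      rw [hc] at h1 hω
      rcases c with _ | _ | c
      · exact absurd (Nat.dvd_one.1 (by simpa using h1)) hp.ne_one
      · exact absurd (pow_one p) hω
      · omega
    have hu : orbit (P : Subgroup G) ω = Set.univ := Set.eq_of_subset_of_ncard_le
      (Set.subset_univ _) (by
        rw [Set.ncard_univ, ← Nat.card_coe_set_eq, hc, Nat.card_eq_fintype_card (α := Ω)]
        exact le_trans hΩle (Nat.pow_le_pow_right hp.pos hc2)) (Set.toFinite _)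
    refine ⟨fun x y => ?_⟩
    obtain ⟨a, ha⟩ := (hu ▸ Set.mem_univ x : x ∈ orbit (P : Subgroup G) ω)
    obtain ⟨b, hb⟩ := (hu ▸ Set.mem_univ y : y ∈ orbit (P : Subgroup G) ω)
    exact ⟨b * a⁻¹, by rw [← ha]; simp only [mul_smul, inv_smul_smul]; exact hb⟩
  push_neg at hbig
  have hnormal : ∀ ω, (St ω).Normal := fun ω => by
    obtain ⟨c, hc⟩ := IsPGroup.iff_card.1 P.isPGroup'
    refine Subgroup.normal_of_index_eq_minFac_card ?_
    rw [hidx, hbig, hc]
    have hc0 : c ≠ 0 := fun h => by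
      have := (St ω).index_dvd_card
      rw [hidx, hbig, hc, h, pow_zero] at this
      exact hp.ne_one (Nat.dvd_one.1 this)
    rw [Nat.pow_minFac hc0, hp.minFac_eq]
  let S : Finset (Subgroup (P : Subgroup G)) := Finset.univ.image St
  have hS : S.card ≤ m := by
    have h := Finset.mul_card_image_le_card (s := (Finset.univ : Finset Ω)) (f := St) p (fun K hK => by
      obtain ⟨ω, -, rfl⟩ := Finset.mem_image.1 hK
      refine le_trans (hbig ω).ge ?_
      rw [Nat.card_eq_fintype_card, ← Set.toFinset_card]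
      refine Finset.card_le_card fun x hx => ?_
      obtain ⟨g, rfl⟩ := Set.mem_toFinset.1 hx
      rw [Finset.mem_filter]
      refine ⟨Finset.mem_univ _, ?_⟩
      ext a
      simp only [hSt, mem_stabilizer_iff]
      have hn := hnormal ω
      constructor
      · intro h
        have h1 : g⁻¹ * a * g ∈ St ω := by
          simp only [hSt, mem_stabilizer_iff, mul_smul]
          rw [h, inv_smul_smul]
        have h3 := hn.conj_mem _ h1 g
        simpa [hSt, mul_assoc] using h3
      · intro h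
        have h1 := hn.conj_mem a (by simpa [hSt] using h) g⁻¹
        simp only [hSt, mem_stabilizer_iff, inv_inv, mul_smul, inv_smul_eq_iff] at h1
        exact h1)
    rw [Finset.card_univ, hΩ] at h
    exact Nat.le_of_mul_le_mul_left (by rw [mul_comm m p] at h; exact h) hp.pos
  obtain ⟨g, hg⟩ : ∃ g : (P : Subgroup G), ∀ ω, g ∉ St ω := by
    by_contra h
    push_neg at h
    let : Fintype (P : Subgroup G) := Fintype.ofFinite _
    have hU : (Finset.univ : Finset (P : Subgroup G)) =
        insert 1 (S.biUnion fun K => (Finset.univ.filter (· ∈ K)).erase 1) := by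
      refine (Finset.eq_univ_of_forall fun g => ?_).symm
      rw [Finset.mem_insert]
      by_cases hg : g = 1
      · exact Or.inl hg
      · obtain ⟨ω, hω⟩ := h g
        exact Or.inr (Finset.mem_biUnion.2 ⟨St ω, Finset.mem_image_of_mem _ (Finset.mem_univ ω),
          Finset.mem_erase.2 ⟨hg, Finset.mem_filter.2 ⟨Finset.mem_univ g, hω⟩⟩⟩)
    obtain ⟨n, hn⟩ : ∃ n, ∀ K ∈ S, Nat.card K = n ∧ n * p = Nat.card (P : Subgroup G) := by
      refine ⟨Nat.card (P : Subgroup G) / p, fun K hK => ?_⟩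
      obtain ⟨ω, -, rfl⟩ := Finset.mem_image.1 hK
      have h1 := (St ω).card_mul_index
      rw [hidx, hbig] at h1
      rw [← h1, Nat.mul_div_cancel _ hp.pos]
      exact ⟨rfl, rfl⟩
    have hcardK : ∀ K ∈ S, ((Finset.univ.filter (· ∈ K)).erase 1).card = n - 1 := by
      intro K hK
      rw [Finset.card_erase_of_mem (Finset.mem_filter.2 ⟨Finset.mem_univ _, K.one_mem⟩),
        ← (hn K hK).1, Nat.card_eq_fintype_card, Fintype.card_subtype]
    have hle := congrArg Finset.card hU
    have h1 := Finset.card_insert_le (1 : (P : Subgroup G))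
      (S.biUnion fun K => (Finset.univ.filter (· ∈ K)).erase 1)
    have h2' := Finset.card_biUnion_le (s := S) (t := fun K => (Finset.univ.filter (· ∈ K)).erase 1)
    rw [Finset.sum_congr rfl hcardK, Finset.sum_const, smul_eq_mul] at h2'
    obtain ⟨ω0⟩ : Nonempty Ω := Fintype.card_pos_iff.1 (by omega)
    obtain ⟨hn1, hn2⟩ := hn (St ω0) (Finset.mem_image_of_mem _ (Finset.mem_univ ω0))
    rw [Finset.card_univ, ← Nat.card_eq_fintype_card, ← hn2] at hle
    have h3 : S.card * (n - 1) ≤ p * (n - 1) := Nat.mul_le_mul_right _ (le_trans hS hmp)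
    have h4 : p * (n - 1) + 1 < n * p := by
      obtain ⟨d, rfl⟩ : ∃ d, n = d + 1 := ⟨n - 1, by have : 0 < Nat.card (St ω0) := Nat.card_pos; omega⟩
      have := hp.two_le
      rw [Nat.add_sub_cancel, Nat.mul_comm (d + 1) p, Nat.mul_succ]
      omega
    omega
  have hne : ∀ ω : Ω, (g : G) • ω ≠ ω := fun ω h => hg ω h
  refine ⟨g, orderOf_eq_prime ?_ (fun h1 => ?_), hne⟩
  · refine eq_of_smul_eq_smul (α := Ω) fun ω => ?_
    have h := (hnormal ω)
    have h1 : g ^ (St ω).index ∈ St ω := Subgroup.pow_index_mem (St ω) g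
    rw [hidx, hbig] at h1
    rw [one_smul, ← Subgroup.coe_pow]
    exact h1
  · obtain ⟨ω0⟩ : Nonempty Ω := Fintype.card_pos_iff.1 (by omega)
    exact hne ω0 (by rw [h1, one_smul])

end CfsgLib.Lie.Derange
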