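import Cfsg.Agent.Lie.DicksonLine
import Mathlib.Algebra.Field.TransferInstance
import Mathlib.FieldTheory.Finite.Basic

/-!
The subfield case of the classification of finite subgroups of PGL₂.
-/

set_option autoImplicit false
set_option linter.unusedSectionVars false
set_option linter.unusedSimpArgs false
set_option linter.style.haveILetI false

namespace CfsgLib.Lie.DicksonBig

open Matrix ProjLine DicksonLine

variable {K : Type*} [Field K]

local notation "GL₂" => GL (Fin 2) K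
local notation "PG" => Matrix.ProjGenLinGroup (Fin 2) K

/-- a copy of `Fin n` without arithmetic -/
def Pts (n : ℕ) : Type := Fin n

/-- upper translation -/
def T (a : K) : PG :=
  ProjGenLinGroup.mk (GeneralLinearGroup.mkOfDetNeZero !![1, a; 0, 1] (by simp [Matrix.det_fin_two]))

/-- lower translation -/
def L (a : K) : PG :=
  ProjGenLinGroup.mk (GeneralLinearGroup.mkOfDetNeZero !![1, 0; a, 1] (by simp [Matrix.det_fin_two]))

theorem T_mul (a b : K) : T a * T b = T (a + b) := by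
  rw [T, T, T, ← map_mul]
  congr 1
  ext i j
  fin_cases i <;> fin_cases j <;>
    simp [GeneralLinearGroup.mkOfDetNeZero, Matrix.mul_apply, Fin.sum_univ_two, add_comm]

theorem T_zero : T (0 : K) = 1 := by
  rw [T, scalar_iff]
  simp [GeneralLinearGroup.mkOfDetNeZero]

theorem T_inv (a : K) : (T a)⁻¹ = T (-a) := inv_eq_of_mul_eq_one_right (by rw [T_mul, add_neg_cancel, T_zero])

theorem T_smul_pt (a x : K) : T a • pt x = pt (x + a) := by
  change (GeneralLinearGroup.mkOfDetNeZero !![1, a; 0, 1] _ : GL₂) • pt x = _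
  rw [smul_pt (by simp [GeneralLinearGroup.mkOfDetNeZero])]
  simp [GeneralLinearGroup.mkOfDetNeZero]

theorem T_smul_P0 (a : K) : T a • (P0 : Pt K) = P0 := by
  change (GeneralLinearGroup.mkOfDetNeZero !![1, a; 0, 1] _ : GL₂) • (P0 : Pt K) = _
  rw [smul_P0_iff]
  simp [GeneralLinearGroup.mkOfDetNeZero]

theorem T_inj {a b : K} (h : T a = T b) : a = b := by
  have := congrArg (fun g : PG => g • pt (0 : K)) h
  simp only [T_smul_pt, zero_add] at this
  exact pt_inj this

theorem L_smul_P0 {c : K} (hc : c ≠ 0) : L c • (P0 : Pt K) = pt c⁻¹ := by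
  change (GeneralLinearGroup.mkOfDetNeZero !![1, 0; c, 1] _ : GL₂) • (P0 : Pt K) = _
  rw [smul_P0 (by simpa [GeneralLinearGroup.mkOfDetNeZero] using hc)]
  simp [GeneralLinearGroup.mkOfDetNeZero]

theorem L_smul_pt {c x : K} (h : c * x + 1 ≠ 0) : L c • pt x = pt (x / (c * x + 1)) := by
  change (GeneralLinearGroup.mkOfDetNeZero !![1, 0; c, 1] _ : GL₂) • pt x = _
  rw [smul_pt (by simpa [GeneralLinearGroup.mkOfDetNeZero] using h)]
  simp [GeneralLinearGroup.mkOfDetNeZero]

theorem L_inj {a b : K} (h : L a = L b) : a = b := by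
  by_cases ha : a = 0
  · by_contra hb
    have hb0 : b ≠ 0 := fun e => hb (ha.trans e.symm)
    have := congrArg (fun g : PG => g • (P0 : Pt K)) h
    simp only [L_smul_P0 hb0] at this
    have hL : L (0 : K) = 1 := by rw [L, scalar_iff]; simp [GeneralLinearGroup.mkOfDetNeZero]
    rw [ha, hL, one_smul] at this
    exact pt_ne_P0 _ this.symm
  · have := congrArg (fun g : PG => g • (P0 : Pt K)) h
    by_cases hb : b = 0
    · have hL : L (0 : K) = 1 := by rw [L, scalar_iff]; simp [GeneralLinearGroup.mkOfDetNeZero]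
      simp only [L_smul_P0 ha, hb, hL, one_smul] at this
      exact absurd this (pt_ne_P0 _)
    · simp only [L_smul_P0 ha, L_smul_P0 hb] at this
      exact inv_injective (pt_inj this)

/-- p-elements fixing the point at infinity -/
theorem eq_T (p : ℕ) [Fact p.Prime] [CharP K p] {g : PG} (h0 : g • (P0 : Pt K) = P0) (hp : g ^ p = 1) :
    ∃ b, g = T b := by
  induction g using Matrix.ProjGenLinGroup.induction_on with
  | mk A =>
    have h := (smul_P0_iff A).1 h0
    have hr := (pow_eq_one_iff_ratio p h0).2 hp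
    obtain ⟨ha, hd⟩ := diag_ne_zero h
    rw [ratio_mk, div_eq_one_iff_eq hd] at hr
    refine ⟨A.1 0 1 / A.1 0 0, ?_⟩
    rw [T, ProjGenLinGroup.mk_eq_mk_iff]
    refine ⟨Units.mk0 _ (inv_ne_zero ha), Units.ext ?_⟩
    ext i j
    fin_cases i <;> fin_cases j <;>
      simp [Matrix.mul_apply, Fin.sum_univ_two, GeneralLinearGroup.coe_scalar, Matrix.scalar_apply,
        GeneralLinearGroup.mkOfDetNeZero, h, ← hr, div_eq_mul_inv, mul_inv_cancel₀ ha]

/-- p-elements fixing zero -/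
theorem eq_L (p : ℕ) [Fact p.Prime] [CharP K p] {g : PG} (h0 : g • pt (0 : K) = pt 0) (hp : g ^ p = 1) :
    ∃ c, g = L c := by
  obtain ⟨S, hS⟩ : ∃ S : GL₂, S = GeneralLinearGroup.mkOfDetNeZero !![0, 1; 1, 0] (by simp [Matrix.det_fin_two]) :=
    ⟨_, rfl⟩
  have hS0 : ProjGenLinGroup.mk S • (P0 : Pt K) = pt 0 := by
    change S • (P0 : Pt K) = pt 0
    rw [hS, smul_P0 (by simp [GeneralLinearGroup.mkOfDetNeZero])]
    simp [GeneralLinearGroup.mkOfDetNeZero]
  obtain ⟨b, hb⟩ := eq_T p (g := (ProjGenLinGroup.mk S)⁻¹ * g * ProjGenLinGroup.mk S)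
    (by rw [mul_smul, mul_smul, hS0, h0, inv_smul_eq_iff, hS0]) ((conj_pow_eq_one _ _ _).2 hp)
  refine ⟨b, ?_⟩
  have e : g = ProjGenLinGroup.mk S * T b * (ProjGenLinGroup.mk S)⁻¹ := by rw [← hb]; group
  rw [e, mul_inv_eq_iff_eq_mul, T, L, ← map_mul, ← map_mul]
  congr 1
  rw [hS]
  ext i j
  fin_cases i <;> fin_cases j <;> simp [GeneralLinearGroup.mkOfDetNeZero, Matrix.mul_apply, Fin.sum_univ_two]

variable {F : Type*} [Field F]

theorem ι_P0 (f : F →+* K) : ι f (P0 : Pt F) = P0 := by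
  unfold P0
  have e : f ∘ (![1, 0] : Fin 2 → F) = ![1, 0] := by funext i; fin_cases i <;> simp
  rw [ι_mk f _ _ (by rw [e]; simp), Projectivization.mk_eq_mk_iff']
  exact ⟨1, by rw [one_smul, e]⟩

theorem ι_pt (f : F →+* K) (x : F) : ι f (pt x) = pt (f x) := by
  unfold pt
  have e : f ∘ (![x, 1] : Fin 2 → F) = ![f x, 1] := by funext i; fin_cases i <;> simp
  rw [ι_mk f _ _ (by rw [e]; simp), Projectivization.mk_eq_mk_iff']
  exact ⟨1, by rw [one_smul, e]⟩

theorem mapPGL_T (f : F →+* K) (a : F) : mapPGL f (T a) = T (f a) := by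
  rw [T, mapPGL_mk, T]
  congr 1
  ext i j
  fin_cases i <;> fin_cases j <;> simp [GeneralLinearGroup.mkOfDetNeZero]

theorem mapPGL_L (f : F →+* K) (a : F) : mapPGL f (L a) = L (f a) := by
  rw [L, mapPGL_mk, L]
  congr 1
  ext i j
  fin_cases i <;> fin_cases j <;> simp [GeneralLinearGroup.mkOfDetNeZero]

/-- a subgroup of PGL₂ of a finite field containing both translation groups -/
theorem psl_or_pgl {k : Type*} [Field k] [Fintype k] (S : Subgroup (Matrix.ProjGenLinGroup (Fin 2) k))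
    (hT : ∀ a : k, T a ∈ S) (hL : ∀ a : k, L a ∈ S) :
    Nonempty (S ≃* Matrix.ProjectiveSpecialLinearGroup (Fin 2) k) ∨ Nonempty (S ≃* Matrix.ProjGenLinGroup (Fin 2) k) := by
  have hgen : ∀ M : Matrix.SpecialLinearGroup (Fin 2) k, ProjGenLinGroup.mk (SpecialLinearGroup.toGL M) ∈ S := by
    have main : ∀ M : Matrix.SpecialLinearGroup (Fin 2) k, M.1 1 0 ≠ 0 →
        ProjGenLinGroup.mk (SpecialLinearGroup.toGL M) ∈ S := by
      intro M hc
      have hd := M.2
      rw [Matrix.det_fin_two] at hd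
      have e : ProjGenLinGroup.mk (SpecialLinearGroup.toGL M) =
          T ((M.1 0 0 - 1) / M.1 1 0) * L (M.1 1 0) * T ((M.1 1 1 - 1) / M.1 1 0) := by
        rw [T, L, T, ← map_mul, ← map_mul]
        congr 1
        ext i j
        fin_cases i <;> fin_cases j <;>
          simp [GeneralLinearGroup.mkOfDetNeZero, Matrix.mul_apply, Fin.sum_univ_two, div_mul_cancel₀ _ hc,
            mul_div_cancel₀ _ hc]
        field_simp
        linear_combination -hd
      rw [e]
      exact S.mul_mem (S.mul_mem (hT _) (hL _)) (hT _)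
    intro M
    by_cases hc : M.1 1 0 = 0
    · have h1 : M.1 0 0 ≠ 0 := fun e => by
        have := M.2
        rw [Matrix.det_fin_two, hc, e] at this
        simp at this
      obtain ⟨N, hN⟩ : ∃ N : Matrix.SpecialLinearGroup (Fin 2) k, N.1 = !![1, 0; 1, 1] :=
        ⟨⟨!![1, 0; 1, 1], by simp [Matrix.det_fin_two]⟩, rfl⟩
      have hNS : ProjGenLinGroup.mk (SpecialLinearGroup.toGL N) = L (1 : k) := by
        rw [L]; congr 1
        ext i j
        fin_cases i <;> fin_cases j <;> simp [GeneralLinearGroup.mkOfDetNeZero, hN]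
      have := main (N * M) (by show (N.1 * M.1) 1 0 ≠ 0; rw [hN]; simp [Matrix.mul_apply, Fin.sum_univ_two, hc, h1])
      rw [map_mul, map_mul, hNS] at this
      exact (S.mul_mem_cancel_left (hL 1)).1 this
    · exact main M hc
  let R := (Matrix.ProjectiveSpecialLinearGroup.toPGL (n := Fin 2) (R := k)).range
  have hR : R ≤ S := by
    rintro _ ⟨x, rfl⟩
    induction x using QuotientGroup.induction_on with
    | H M => exact hgen M
  have hRdet : ∀ A : GL (Fin 2) k, IsSquare A.1.det → ProjGenLinGroup.mk A ∈ R := by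
    rintro A ⟨s, hs⟩
    have hs0 : s ≠ 0 := fun e => A.det_ne_zero (by rw [hs, e, zero_mul])
    refine ⟨QuotientGroup.mk ⟨s⁻¹ • A.1, by rw [Matrix.det_smul, hs, Fintype.card_fin]; field_simp⟩, ?_⟩
    show ProjGenLinGroup.mk (SpecialLinearGroup.toGL _) = ProjGenLinGroup.mk A
    rw [ProjGenLinGroup.mk_eq_mk_iff]
    refine ⟨Units.mk0 s hs0, Units.ext ?_⟩
    rw [Units.val_mul]
    change (s⁻¹ • A.1) * _ = _
    ext i j
    fin_cases i <;> fin_cases j <;>
      simp [Matrix.mul_apply, Fin.sum_univ_two, GeneralLinearGroup.coe_scalar, Matrix.scalar_apply, SpecialLinearGroup.coe_GL_coe_matrix] <;> field_simp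
  by_cases hS : S ≤ R
  · left
    rw [le_antisymm hS hR]
    exact ⟨(MonoidHom.ofInjective ProjectiveSpecialLinearGroup.toPGL_injective).symm⟩
  · right
    rw [SetLike.le_def] at hS
    push Not at hS
    obtain ⟨g, hgS, hgR⟩ := hS
    obtain ⟨A, rfl⟩ := ProjGenLinGroup.mk_surjective g
    have hnsA : ¬ IsSquare A.1.det := fun h => hgR (hRdet A h)
    have hF2 : ringChar k ≠ 2 := fun h => hnsA (FiniteField.isSquare_of_char_two h _)
    have htop : S = ⊤ := by
      rw [Subgroup.eq_top_iff']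
      intro x
      obtain ⟨B, rfl⟩ := ProjGenLinGroup.mk_surjective x
      by_cases hB : IsSquare B.1.det
      · exact hR (hRdet B hB)
      · refine (S.mul_mem_cancel_right hgS).1 ?_
        rw [← map_mul]
        refine hR (hRdet _ ?_)
        rw [Units.val_mul, Matrix.det_mul,
          FiniteField.isSquare_iff hF2 (mul_ne_zero B.det_ne_zero A.det_ne_zero), mul_pow]
        have hA' := (FiniteField.pow_dichotomy hF2 A.det_ne_zero).resolve_left
          (fun h => hnsA ((FiniteField.isSquare_iff hF2 A.det_ne_zero).2 h))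
        have hB' := (FiniteField.pow_dichotomy hF2 B.det_ne_zero).resolve_left
          (fun h => hB ((FiniteField.isSquare_iff hF2 B.det_ne_zero).2 h))
        rw [hA', hB', neg_one_mul, neg_neg]
    exact ⟨(MulEquiv.subgroupCongr htop).trans Subgroup.topEquiv⟩

theorem big_core [Fintype F] (p : ℕ) [hp : Fact p.Prime] [CharP K p] (f : F →+* K) (G : Subgroup PG) [Finite G]
    (hrat : ∀ g ∈ G, ∀ A : GL₂, ProjGenLinGroup.mk A = g → ∃ r : F, (A.1 0 0 + A.1 1 1) ^ 2 = f r * A.1.det)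
    (q : ℕ) (hq : 3 ≤ q) (hA : Nat.card {a : K // T a ∈ G} = q)
    (horb : (MulAction.orbit G (P0 : Pt K)).ncard = q + 1) (h1 : T (1 : K) ∈ G)
    (hw : ∃ g ∈ G, g • (P0 : Pt K) = P1) :
    ∃ (k : Type) (_ : Field k) (_ : Fintype k) (κ₀ : k →+* F), G ≤ (mapPGL (f.comp κ₀)).range ∧ 3 ≤ Fintype.card k ∧
      (Nonempty (G ≃* Matrix.ProjectiveSpecialLinearGroup (Fin 2) k) ∨
        Nonempty (G ≃* Matrix.ProjGenLinGroup (Fin 2) k)) := by
  haveI : Finite {a : K // T a ∈ G} := Finite.of_injective (fun a => (⟨T a.1, a.2⟩ : G))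
    (fun a b h => Subtype.ext (T_inj (congrArg Subtype.val h)))
  obtain ⟨w, hwG, hw0⟩ := hw
  rw [P1_eq] at hw0
  -- the orbit
  let Ω : Set (Pt K) := insert P0 (pt '' {a : K | T a ∈ G})
  have hΩ : MulAction.orbit G (P0 : Pt K) = Ω := by
    have hfin : (MulAction.orbit G (P0 : Pt K)).Finite := Set.finite_range _
    refine (Set.eq_of_subset_of_ncard_le ?_ ?_ hfin).symm
    · rintro z (rfl | ⟨a, ha, rfl⟩)
      · exact MulAction.mem_orbit_self _
      · refine ⟨⟨T a * w, G.mul_mem ha hwG⟩, ?_⟩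
        show (T a * w) • (P0 : Pt K) = pt a
        rw [mul_smul, hw0, T_smul_pt, zero_add]
    · have hfin' : {a : K | T a ∈ G}.Finite := Set.finite_coe_iff.1 ‹Finite {a : K // T a ∈ G}›
      rw [horb, Set.ncard_insert_of_notMem (by rintro ⟨a, -, e⟩; exact pt_ne_P0 a e) (hfin'.image _),
        Set.ncard_image_of_injective _ (fun a b => pt_inj), ← Nat.card_coe_set_eq]
      exact le_of_eq (by rw [← hA]; rfl)
  have hmem : ∀ g ∈ G, ∀ z ∈ Ω, g • z ∈ Ω := by
    intro g hg z hz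
    rw [← hΩ] at hz ⊢
    obtain ⟨u, rfl⟩ := hz
    exact ⟨⟨g, hg⟩ * u, mul_smul _ _ _⟩
  have hΩpt : ∀ x : K, pt x ∈ Ω → T x ∈ G := by
    rintro x (e | ⟨a, ha, e⟩)
    · exact absurd e (pt_ne_P0 x)
    · rwa [← pt_inj e]
  have hzero : T (0 : K) ∈ G := T_zero (K := K) ▸ G.one_mem
  have hadd : ∀ a b : K, T a ∈ G → T b ∈ G → T (a + b) ∈ G := fun a b ha hb => T_mul a b ▸ G.mul_mem ha hb
  have hneg : ∀ a : K, T a ∈ G → T (-a) ∈ G := fun a ha => T_inv a ▸ G.inv_mem ha
  have hsub : ∀ a b : K, T a ∈ G → T b ∈ G → T (a - b) ∈ G := fun a b ha hb => by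
    rw [sub_eq_add_neg]; exact hadd a _ ha (hneg b hb)
  have hnsmul : ∀ (n : ℕ) (a : K), T a ∈ G → T ((n : K) * a) ∈ G := by
    intro n a ha
    induction n with
    | zero => rw [Nat.cast_zero, zero_mul]; exact hzero
    | succ m ih => rw [Nat.cast_succ, add_mul, one_mul]; exact hadd _ _ ih ha
  -- the lower translations
  have hTp : ∀ a : K, T a ^ p = 1 := fun a => by
    have : ∀ n : ℕ, T a ^ n = T ((n : K) * a) := by
      intro n
      induction n with
      | zero => simp [T_zero]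
      | succ m ih => rw [pow_succ, ih, T_mul]; congr 1; push_cast; ring
    rw [this, CharP.cast_eq_zero K p, zero_mul, T_zero]
  have hL : ∀ a : {a : K // T a ∈ G}, ∃ c, w * T a.1 * w⁻¹ = L c := fun a => by
    refine eq_L p ?_ ?_
    · rw [← hw0, mul_smul, mul_smul, inv_smul_smul, T_smul_P0]
    · rw [conj_pow, hTp, mul_one, mul_inv_cancel]
  choose ψ hψ using hL
  have hψG : ∀ a, L (ψ a) ∈ G := fun a => hψ a ▸ G.mul_mem (G.mul_mem hwG a.2) (G.inv_mem hwG)
  have hψinv : ∀ a, T (ψ a)⁻¹ ∈ G := fun a => by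
    rcases eq_or_ne (ψ a) 0 with e | e
    · rw [e, _root_.inv_zero]; exact hzero
    · exact hΩpt _ (L_smul_P0 e ▸ hmem _ (hψG a) _ (Set.mem_insert _ _))
  have hbij : Function.Bijective (fun a => (⟨(ψ a)⁻¹, hψinv a⟩ : {a : K // T a ∈ G})) := by
    rw [← Finite.injective_iff_bijective]
    intro a b h
    have e : ψ a = ψ b := inv_injective (congrArg Subtype.val h)
    have := hψ a
    rw [e, ← hψ b, mul_left_inj, mul_right_inj] at this
    exact Subtype.ext (T_inj this)
  have hLinv : ∀ a : K, T a ∈ G → L a⁻¹ ∈ G := fun a ha => by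
    obtain ⟨b, hb⟩ := hbij.2 ⟨a, ha⟩
    have e : (ψ b)⁻¹ = a := congrArg Subtype.val hb
    rw [← e, inv_inv]
    exact hψG b
  have hsq : ∀ c b : K, T c ∈ G → T b ∈ G → c ≠ 0 → b ≠ 0 → T (c ^ 2 / b) ∈ G := by
    intro c b hc hb hc0 hb0
    have he : pt (b - c) ∈ Ω := Or.inr ⟨_, hsub b c hb hc, rfl⟩
    have hd : c⁻¹ * (b - c) + 1 ≠ 0 := by
      rw [show c⁻¹ * (b - c) + 1 = b / c by field_simp; ring]
      exact div_ne_zero hb0 hc0
    have := hmem _ (hLinv c hc) _ he
    rw [L_smul_pt hd] at this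
    have e : c ^ 2 / b = c - (b - c) / (c⁻¹ * (b - c) + 1) := by
      rw [show c⁻¹ * (b - c) + 1 = b / c by field_simp; ring]
      field_simp
      ring
    rw [e]
    exact hsub _ _ hc (hΩpt _ this)
  have hinv : ∀ a : K, T a ∈ G → T a⁻¹ ∈ G := fun a ha => by
    rcases eq_or_ne a 0 with rfl | h
    · rw [_root_.inv_zero]; exact hzero
    · simpa [one_div] using hsq 1 a h1 ha one_ne_zero h
  have hsquare : ∀ a : K, T a ∈ G → T (a ^ 2) ∈ G := fun a ha => by
    rcases eq_or_ne a 0 with rfl | h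
    · rw [zero_pow two_ne_zero]; exact hzero
    · simpa using hsq a 1 ha h1 h one_ne_zero
  have hroot : p = 2 → ∀ a : K, T a ∈ G → ∃ c, T c ∈ G ∧ c ^ 2 = a := by
    intro h2 a ha
    haveI : CharP K 2 := h2 ▸ inferInstance
    have hb : Function.Bijective (fun x : {a : K // T a ∈ G} => (⟨x.1 ^ 2, hsquare _ x.2⟩ : {a : K // T a ∈ G})) := by
      rw [← Finite.injective_iff_bijective]
      intro x y h
      exact Subtype.ext (CharTwo.sq_injective (congrArg Subtype.val h))
    obtain ⟨c, hc⟩ := hb.2 ⟨a, ha⟩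
    exact ⟨c.1, c.2, congrArg Subtype.val hc⟩
  have h2inv : p ≠ 2 → (((p + 1) / 2 : ℕ) : K) * 2 = 1 := by
    intro h2
    have ho := hp.out.eq_two_or_odd.resolve_left h2
    have e : ((((p + 1) / 2) * 2 : ℕ) : K) = 1 := by
      rw [show (p + 1) / 2 * 2 = p + 1 by omega, Nat.cast_succ, CharP.cast_eq_zero K p, zero_add]
    rwa [Nat.cast_mul, Nat.cast_ofNat] at e
  have hmul : ∀ a b : K, T a ∈ G → T b ∈ G → T (a * b) ∈ G := by
    intro a b ha hb
    by_cases h2 : p = 2
    · obtain ⟨c, hc, rfl⟩ := hroot h2 a ha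
      rcases eq_or_ne c 0 with rfl | hc0
      · simpa using hzero
      rcases eq_or_ne b 0 with rfl | hb0
      · simpa using hzero
      simpa using hsq c b⁻¹ hc (hinv b hb) hc0 (inv_ne_zero hb0)
    · have := hnsmul ((p + 1) / 2) _ (hsub _ _ (hsub _ _ (hsquare _ (hadd a b ha hb)) (hsquare a ha)) (hsquare b hb))
      rwa [show (((p + 1) / 2 : ℕ) : K) * ((a + b) ^ 2 - a ^ 2 - b ^ 2) = a * b by
        linear_combination (a * b) * h2inv h2] at this
  let k₁ : Subfield K :=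
    { carrier := {a | T a ∈ G}
      mul_mem' := fun ha hb => hmul _ _ ha hb
      one_mem' := h1
      add_mem' := fun ha hb => hadd _ _ ha hb
      zero_mem' := hzero
      neg_mem' := fun ha => hneg _ ha
      inv_mem' := fun _ ha => hinv _ ha }
  haveI : Finite k₁ := ‹Finite {a : K // T a ∈ G}›
  let e : Pts q ≃ k₁ := (Finite.equivFinOfCardEq (hA : Nat.card k₁ = q)).symm
  letI fk : Field (Pts q) := e.field
  letI fq : Fintype (Pts q) := (inferInstance : Fintype (Fin q))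
  obtain ⟨κ, hκ⟩ : ∃ κ : Pts q →+* K, ∀ z, T (κ z) ∈ G :=
    ⟨k₁.subtype.comp e.ringEquiv.toRingHom, fun z => (e z).2⟩
  have hκs : ∀ a : K, T a ∈ G → ∃ z, κ z = a := by
    intro a ha
    have hb : Function.Bijective (fun z : Pts q => (⟨κ z, hκ z⟩ : {a : K // T a ∈ G})) := by
      rw [Nat.bijective_iff_injective_and_card]
      exact ⟨fun x y h => κ.injective (congrArg Subtype.val h), by rw [hA]; exact Nat.card_fin q⟩
    obtain ⟨z, hz⟩ := hb.2 ⟨a, ha⟩
    exact ⟨z, congrArg Subtype.val hz⟩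
  -- rationality
  have hkF : ∀ a : K, T a ∈ G → a ∈ f.fieldRange := by
    have hs : ∀ a : K, T a ∈ G → a ^ 2 ∈ f.fieldRange := by
      intro a ha
      have hb : T (a - 2) ∈ G := hsub _ _ ha (by rw [show (2 : K) = 1 + 1 by norm_num]; exact hadd _ _ h1 h1)
      have hg : T (a - 2) * L (1 : K) ∈ G := G.mul_mem hb (by simpa using hLinv 1 h1)
      obtain ⟨r, hr⟩ := hrat _ hg (GeneralLinearGroup.mkOfDetNeZero !![1, a - 2; 0, 1] (by simp [Matrix.det_fin_two]) *
        GeneralLinearGroup.mkOfDetNeZero !![1, 0; 1, 1] (by simp [Matrix.det_fin_two])) (map_mul _ _ _)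
      refine ⟨r, ?_⟩
      simp [GeneralLinearGroup.mkOfDetNeZero, Matrix.mul_apply, Fin.sum_univ_two, Matrix.det_fin_two] at hr
      linear_combination -hr
    intro a ha
    by_cases h2 : p = 2
    · obtain ⟨c, hc, rfl⟩ := hroot h2 a ha
      exact hs c hc
    · have hmem' := Subfield.mul_mem f.fieldRange (natCast_mem f.fieldRange ((p + 1) / 2))
        (Subfield.sub_mem _ (Subfield.sub_mem _ (hs _ (hadd a 1 ha h1)) (hs a ha)) (one_mem _))
      rwa [show (((p + 1) / 2 : ℕ) : K) * ((a + 1) ^ 2 - a ^ 2 - 1) = a by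
        linear_combination a * h2inv h2] at hmem'
  obtain ⟨κ₀, hκ₀⟩ : ∃ κ₀ : Pts q →+* F, f.comp κ₀ = κ := by
    have h : ∀ z, κ z ∈ f.fieldRange := fun z => hkF _ (hκ z)
    choose g hg using h
    exact ⟨{ toFun := g
             map_one' := f.injective (by rw [hg, map_one, map_one])
             map_mul' := fun x y => f.injective (by rw [hg, map_mul, map_mul, hg, hg])
             map_zero' := f.injective (by rw [hg, map_zero, map_zero])
             map_add' := fun x y => f.injective (by rw [hg, map_add, map_add, hg, hg]) }, RingHom.ext hg⟩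
  -- inside PGL₂ of the subfield
  have hΩι : ∀ z ∈ Ω, ∃ y : Pt (Pts q), ι κ y = z := by
    rintro z (rfl | ⟨a, ha, rfl⟩)
    · exact ⟨P0, ι_P0 κ⟩
    · obtain ⟨x, rfl⟩ := hκs a ha
      exact ⟨pt x, ι_pt κ x⟩
  have hle : G ≤ (mapPGL κ).range := by
    intro g hg
    obtain ⟨a, ha⟩ := hΩι _ (hmem g hg P0 (Set.mem_insert _ _))
    obtain ⟨b, hb⟩ := hΩι _ (hmem g hg (pt 0) (Or.inr ⟨0, hzero, rfl⟩))
    obtain ⟨c, hc⟩ := hΩι _ (hmem g hg (pt 1) (Or.inr ⟨1, h1, rfl⟩))
    have n01 : (P0 : Pt K) ≠ pt 0 := (pt_ne_P0 _).symm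
    have n02 : (P0 : Pt K) ≠ pt 1 := (pt_ne_P0 _).symm
    have n12 : pt (0 : K) ≠ pt 1 := fun h => zero_ne_one (pt_inj h)
    have hab : a ≠ b := fun h => n01 (smul_left_cancel g (by rw [← ha, ← hb, h]))
    have hac : a ≠ c := fun h => n02 (smul_left_cancel g (by rw [← ha, ← hc, h]))
    have hbc : b ≠ c := fun h => n12 (smul_left_cancel g (by rw [← hb, ← hc, h]))
    obtain ⟨g₀, k1, k2, k3⟩ := exists_frame hab hac hbc
    refine ⟨ProjGenLinGroup.mk g₀, ?_⟩
    have e : ∀ (y : Pt (Pts q)) (z : Pt K) (w : Pt (Pts q)), g₀ • y = w → ι κ y = z → ι κ w = g • z →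
        ((mapPGL κ (ProjGenLinGroup.mk g₀))⁻¹ * g) • z = z := by
      intro y z w h1 h2 h3
      rw [mul_smul, inv_smul_eq_iff, ← h3, ← h2, ι_smul, ← h1]
      rfl
    exact inv_mul_eq_one.1 (PGL_eq_one n01 n02 n12 (e _ _ _ k1 (ι_P0 κ) ha)
      (e P1 _ _ k2 (by rw [P1_eq, ι_pt, map_zero]) hb)
      (e P2 _ _ k3 (by rw [P2_eq, ι_pt, map_one]) hc))
  obtain ⟨S, hS⟩ : ∃ S, S = G.comap (mapPGL κ) := ⟨_, rfl⟩
  have heq : S.map (mapPGL κ) = G := by rw [hS, Subgroup.map_comap_eq_self hle]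
  let iso : S ≃* G := (S.equivMapOfInjective _ (mapPGL_injective κ)).trans (MulEquiv.subgroupCongr heq)
  have hcard : Fintype.card (Pts q) = q := Fintype.card_fin q
  refine ⟨Pts q, fk, fq, κ₀, hκ₀ ▸ hle, by omega, ?_⟩
  rcases psl_or_pgl S (fun a => hS ▸ (show mapPGL κ (T a) ∈ G from mapPGL_T κ a ▸ hκ a))
      (fun a => hS ▸ (show mapPGL κ (L a) ∈ G from mapPGL_L κ a ▸ by
        have := hLinv _ (hκ a⁻¹)
        rwa [map_inv₀, inv_inv] at this)) with ⟨⟨t⟩⟩ | ⟨⟨t⟩⟩
  · exact Or.inl ⟨iso.symm.trans t⟩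
  · exact Or.inr ⟨iso.symm.trans t⟩

end CfsgLib.Lie.DicksonBig
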