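import Cfsg.Agent.Lie.DicksonCor

/-!
Large abelian groups around a semisimple element of PSL₂.
-/

set_option autoImplicit false
set_option linter.unusedSectionVars false
set_option linter.unusedSimpArgs false
set_option linter.style.haveILetI false

namespace CfsgLib.Lie.DicksonCentral

open Matrix ProjLine DicksonLine DicksonPGL DicksonCor

variable {F : Type*} [Field F] [Fintype F]

local notation "PSL₂" => Matrix.ProjectiveSpecialLinearGroup (Fin 2) F
local notation "toP" => ProjectiveSpecialLinearGroup.toPGL (n := Fin 2) (R := F)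

/-- elements fixing a point where no element of order p does are commuting -/
theorem commute_of_fix {K : Type*} [Field K] (p : ℕ) [Fact p.Prime] [CharP K p]
    {g h : Matrix.ProjGenLinGroup (Fin 2) K} {a : Pt K} (hg : g • a = a) (hh : h • a = a)
    (hfree : ∀ u : Matrix.ProjGenLinGroup (Fin 2) K, u ∈ Subgroup.closure {g, h} → u • a = a → u ^ p = 1 → u = 1) :
    g * h = h * g := by
  obtain ⟨k₀, hk₀⟩ := exists_to_P0 a
  obtain ⟨k, hk⟩ : ∃ k : Matrix.ProjGenLinGroup (Fin 2) K, k • (P0 : Pt K) = a := ⟨ProjGenLinGroup.mk k₀, hk₀⟩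
  have hfix : ∀ x : Matrix.ProjGenLinGroup (Fin 2) K, x • a = a → (k⁻¹ * x * k) • (P0 : Pt K) = P0 := fun x hx => by
    rw [mul_smul, mul_smul, hk, hx, inv_smul_eq_iff, hk]
  have hgi : g⁻¹ • a = a := inv_smul_eq_iff.2 hg.symm
  have hhi : h⁻¹ • a = a := inv_smul_eq_iff.2 hh.symm
  obtain ⟨c, hc⟩ : ∃ c, c = g * h * g⁻¹ * h⁻¹ := ⟨_, rfl⟩
  have hca : c • a = a := by rw [hc, mul_smul, mul_smul, mul_smul, hhi, hgi, hh, hg]
  have hmem : c ∈ Subgroup.closure {g, h} := by
    have hgm : g ∈ Subgroup.closure {g, h} := Subgroup.subset_closure (Set.mem_insert _ _)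
    have hhm : h ∈ Subgroup.closure {g, h} := Subgroup.subset_closure (Set.mem_insert_of_mem _ rfl)
    rw [hc]
    exact mul_mem (mul_mem (mul_mem hgm hhm) (inv_mem hgm)) (inv_mem hhm)
  have hcp : c ^ p = 1 := by
    rw [← conj_pow_eq_one k, ← pow_eq_one_iff_ratio p (hfix c hca)]
    obtain ⟨g', hg'⟩ : ∃ g', g' = k⁻¹ * g * k := ⟨_, rfl⟩
    obtain ⟨h', hh'⟩ : ∃ h', h' = k⁻¹ * h * k := ⟨_, rfl⟩
    obtain ⟨c', hc'⟩ : ∃ c', c' = k⁻¹ * c * k := ⟨_, rfl⟩
    have e : c' * (h' * g') = g' * h' := by rw [hc', hg', hh', hc]; group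
    have g0 : g' • (P0 : Pt K) = P0 := hg' ▸ hfix g hg
    have h0 : h' • (P0 : Pt K) = P0 := hh' ▸ hfix h hh
    have c0 : c' • (P0 : Pt K) = P0 := hc' ▸ hfix c hca
    have e' := congrArg ratio e
    rw [ratio_mul c0 (by rw [mul_smul, g0, h0]), ratio_mul h0 g0, ratio_mul g0 h0, mul_comm (ratio g')] at e'
    rw [← hc']
    exact mul_right_cancel₀ (mul_ne_zero (ratio_ne_zero h0) (ratio_ne_zero g0)) (by rw [e', one_mul])
  have h1 := hfree c hmem hca hcp
  rw [hc, mul_inv_eq_one, mul_inv_eq_iff_eq_mul] at h1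
  exact h1

/-- a large group commuting with a semisimple element -/
theorem exists_commuting (p : ℕ) [hp : Fact p.Prime] [CharP F p] {g : PSL₂} (hg : g ^ p ≠ 1) :
    ∃ A : Subgroup PSL₂, (∀ x ∈ A, x * g = g * x) ∧
      Fintype.card F - 1 ≤ Nat.gcd 2 (Fintype.card F - 1) * Nat.card A := by
  classical
  obtain ⟨q, hq⟩ : ∃ q, q = Fintype.card F := ⟨_, rfl⟩
  have hq1 : 1 < q := hq ▸ Fintype.one_lt_card
  have hgP : toP g ^ p ≠ 1 := fun e => hg (ProjectiveSpecialLinearGroup.toPGL_injective (by rw [map_pow, e, map_one]))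
  have hg1 : toP g ≠ 1 := fun e => hgP (by rw [e, one_pow])
  let f := algebraMap F (AlgebraicClosure F)
  haveI : CharP (AlgebraicClosure F) p := charP_of_injective_ringHom f.injective p
  let ψ := (mapPGL f).comp toP
  have hψ : Function.Injective ψ := (mapPGL_injective f).comp ProjectiveSpecialLinearGroup.toPGL_injective
  have hψp : ψ g ^ p ≠ 1 := fun e => hg (hψ (by rw [map_pow, e, map_one]))
  have hψ1 : ψ g ≠ 1 := fun e => hψp (by rw [e, one_pow])
  obtain ⟨a, b, hab, hset⟩ : ∃ a b, a ≠ b ∧ ∀ x : Pt (AlgebraicClosure F), ψ g • x = x ↔ x = a ∨ x = b := by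
    rcases fix_or p hψ1 with ⟨-, h⟩ | ⟨e, -⟩
    · exact h
    · exact absurd e hψp
  by_cases hrat : ∃ y : Pt F, toP g • y = y
  · obtain ⟨y, hy⟩ := hrat
    -- the other fixed point is rational
    obtain ⟨y', hne, hy'⟩ : ∃ y', y' ≠ y ∧ toP g • y' = y' := by
      obtain ⟨k, hk, hk0⟩ := exists_conj_P0 (toP g) hy
      have hp' : (k⁻¹ * toP g * k) ^ p ≠ 1 := fun e => hgP ((conj_pow_eq_one _ _ _).1 e)
      have hne1 : k⁻¹ * toP g * k ≠ 1 := fun e => hp' (by rw [e, one_pow])
      rcases fix_or_P0 p hne1 hk0 with ⟨-, u, v, huv, hs⟩ | ⟨e, -⟩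
      · have hk' : ∀ w : Pt F, (k⁻¹ * toP g * k) • w = w → toP g • k • w = k • w := fun w hw => by
          rw [mul_smul, mul_smul, inv_smul_eq_iff] at hw
          exact hw
        by_cases hu : k • u = y
        · exact ⟨k • v, fun e => huv (smul_left_cancel k (hu.trans e.symm)), hk' v ((hs v).2 (Or.inr rfl))⟩
        · exact ⟨k • u, hu, hk' u ((hs u).2 (Or.inl rfl))⟩
      · exact absurd e hp'
    refine ⟨borel y ⊓ borel y', fun x hx => ?_, ?_⟩
    · refine ProjectiveSpecialLinearGroup.toPGL_injective ?_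
      rw [map_mul, map_mul]
      refine commute_of_fix p (mem_borel.1 (Subgroup.mem_inf.1 hx).1) hy fun u hu huy hup => ?_
      by_contra hu1
      have huy' : u • y' = y' := by
        have hle : Subgroup.closure {toP x, toP g} ≤ MulAction.stabilizer _ y' := by
          rw [Subgroup.closure_le]
          rintro z (rfl | rfl)
          · exact mem_borel.1 (Subgroup.mem_inf.1 hx).2
          · exact hy'
        exact hle hu
      have hu1' : mapPGL f u ≠ 1 := fun e => hu1 (mapPGL_injective f (e.trans (map_one _).symm))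
      rcases fix_or p hu1' with ⟨e, -⟩ | ⟨-, c, hc⟩
      · exact e (by rw [← map_pow, hup, map_one])
      · exact hne (ι_injective f (((hc _).1 ((smul_ι_iff f u y').2 huy')).trans
          ((hc _).1 ((smul_ι_iff f u y).2 huy)).symm))
    · letI : MulAction PSL₂ (Pt F) := MulAction.compHom (Pt F) toP
      haveI : Finite (Pt F) := Finite.of_equiv _ (Projectivization.equivSubmodule F (Fin 2 → F)).symm
      have hA : MulAction.stabilizer (borel y) y' = (borel y ⊓ borel y').subgroupOf (borel y) := by
        ext ⟨x, hx⟩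
        simp [Subgroup.mem_subgroupOf, hx]
        rfl
      have hidx : (MulAction.stabilizer (borel y) y').index ≤ q := by
        rw [MulAction.index_stabilizer]
        have hsub : MulAction.orbit (borel y) y' ⊆ (Set.univ \ {y} : Set (Pt F)) := by
          rintro _ ⟨x, rfl⟩
          refine ⟨trivial, fun e => hne ?_⟩
          have hxy : (x : PSL₂) • y = y := mem_borel.1 x.2
          exact smul_left_cancel (x : PSL₂) ((show (x : PSL₂) • y' = y from e).trans hxy.symm)
        refine (Set.ncard_le_ncard hsub).trans (le_of_eq ?_)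
        rw [Set.ncard_diff_singleton_of_mem (Set.mem_univ y), Set.ncard_univ, card_Pt, ← hq, Nat.add_sub_cancel]
      have hmul := (MulAction.stabilizer (borel y) y').card_mul_index
      rw [hA, Nat.card_congr (Subgroup.subgroupOfEquivOfLe (inf_le_left : borel y ⊓ borel y' ≤ borel y)).toEquiv]
        at hmul
      rw [hA] at hidx
      have hB := card_borel y
      rw [← hmul, ← mul_assoc, ← hq] at hB
      rw [← hq]
      have := Nat.mul_le_mul_left (Nat.gcd 2 (q - 1) * Nat.card ↥(borel y ⊓ borel y')) hidx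
      rw [hB, mul_comm _ q] at this
      exact Nat.le_of_mul_le_mul_left this (by omega)
  · push Not at hrat
    have hfree : ∀ u : Matrix.ProjGenLinGroup (Fin 2) F, mapPGL f u • a = a → u ^ p = 1 → u = 1 := by
      intro u hua hup
      by_contra hu1
      obtain ⟨y, hy⟩ := exists_rational_fixed p hup
      have hu1' : mapPGL f u ≠ 1 := fun e => hu1 (mapPGL_injective f (e.trans (map_one _).symm))
      rcases fix_or p hu1' with ⟨e, -⟩ | ⟨-, c, hc⟩
      · exact e (by rw [← map_pow, hup, map_one])
      · have hay : a = ι f y := ((hc a).1 hua).trans ((hc _).1 ((smul_ι_iff f u y).2 hy)).symm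
        refine hrat y ((smul_ι_iff f _ y).1 ?_)
        rw [← hay]
        exact (hset a).2 (Or.inl rfl)
    letI : MulAction PSL₂ (Pt (AlgebraicClosure F)) := MulAction.compHom _ ψ
    refine ⟨MulAction.stabilizer PSL₂ a, fun x hx => ?_, ?_⟩
    · refine hψ ?_
      rw [map_mul, map_mul]
      refine commute_of_fix p (show ψ x • a = a from hx) ((hset a).2 (Or.inl rfl)) fun u hu hua hup => ?_
      have hle : Subgroup.closure {ψ x, ψ g} ≤ (mapPGL f).range := by
        rw [Subgroup.closure_le]
        rintro z (rfl | rfl) <;> exact ⟨_, rfl⟩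
      obtain ⟨u', rfl⟩ := hle hu
      rw [hfree u' hua (mapPGL_injective f (by rw [map_pow, hup, map_one])), map_one]
    · -- the orbit of a
      let R : Finset (AlgebraicClosure F) :=
        (Polynomial.X ^ (q ^ 2) - Polynomial.X : Polynomial (AlgebraicClosure F)).roots.toFinset \
          Finset.univ.image f
      have hR : R.card ≤ q ^ 2 - q := by
        have hq2 : 1 < q ^ 2 := Nat.one_lt_pow two_ne_zero hq1
        have hsub : Finset.univ.image f ⊆
            (Polynomial.X ^ (q ^ 2) - Polynomial.X : Polynomial (AlgebraicClosure F)).roots.toFinset := by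
          intro z hz
          obtain ⟨c, -, rfl⟩ := Finset.mem_image.1 hz
          rw [Multiset.mem_toFinset, Polynomial.mem_roots (FiniteField.X_pow_card_sub_X_ne_zero _ hq2)]
          simp [← map_pow, hq, FiniteField.pow_card_pow]
        rw [Finset.card_sdiff_of_subset hsub, Finset.card_image_of_injective _ f.injective, Finset.card_univ, ← hq]
        refine Nat.sub_le_sub_right ((Multiset.toFinset_card_le _).trans ?_) q
        exact (Polynomial.card_roots' _).trans (FiniteField.X_pow_card_sub_X_natDegree_eq _ hq2).le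
      have horb : MulAction.orbit PSL₂ a ⊆ pt '' (R : Set (AlgebraicClosure F)) := by
        rintro w ⟨h, rfl⟩
        obtain ⟨u, hu⟩ : ∃ u, u = toP (h * g * h⁻¹) := ⟨_, rfl⟩
        have hfixw : mapPGL f u • (ψ h • a) = ψ h • a := by
          rw [hu]
          show ψ (h * g * h⁻¹) • ψ h • a = ψ h • a
          rw [map_mul, map_mul, map_inv, mul_smul, mul_smul, inv_smul_smul, (hset a).2 (Or.inl rfl)]
        have hnof : ∀ y : Pt F, u • y ≠ y := by
          intro y hy
          refine hrat (toP h⁻¹ • y) ?_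
          rw [hu, map_mul, map_mul, map_inv, mul_smul, mul_smul] at hy
          rw [map_inv, eq_inv_smul_iff]
          exact hy
        show ψ h • a ∈ _
        rcases pt_cases (ψ h • a) with e | ⟨z, e⟩
        · exact absurd ((smul_ι_iff f u P0).1 (by rw [DicksonBig.ι_P0, ← e, hfixw])) (hnof P0)
        refine ⟨z, ?_, e.symm⟩
        rw [e] at hfixw
        have hzf : z ∉ Finset.univ.image f := fun hz => by
          obtain ⟨c, -, rfl⟩ := Finset.mem_image.1 hz
          exact hnof (pt c) ((smul_ι_iff f u _).1 (by rw [DicksonBig.ι_pt, hfixw]))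
        refine Finset.mem_sdiff.2 ⟨?_, hzf⟩
        rw [Multiset.mem_toFinset, Polynomial.mem_roots (FiniteField.X_pow_card_sub_X_ne_zero _
          (Nat.one_lt_pow two_ne_zero hq1))]
        induction u using Matrix.ProjGenLinGroup.induction_on with
        | mk B =>
          obtain ⟨C, hC⟩ : ∃ C, C = GeneralLinearGroup.map f B := ⟨_, rfl⟩
          change GeneralLinearGroup.map f B • pt z = pt z at hfixw
          rw [← hC] at hfixw
          have hden : C.1 1 0 * z + C.1 1 1 ≠ 0 := fun h0 => by
            rw [smul_pt_inf h0] at hfixw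
            exact pt_ne_P0 z hfixw.symm
          rw [smul_pt hden] at hfixw
          have hroot := pt_inj hfixw
          rw [div_eq_iff hden] at hroot
          have hfr : ∀ c : F, (f c) ^ q = f c := fun c => by rw [← map_pow, hq, FiniteField.pow_card]
          have hCij : ∀ i j, C.1 i j = f (B.1 i j) := fun i j => by rw [hC]; rfl
          obtain ⟨m, -, hm⟩ := FiniteField.card F p
          obtain ⟨φ, hφ⟩ : ∃ φ : AlgebraicClosure F →+* AlgebraicClosure F, ∀ t, φ t = t ^ q :=
            ⟨iterateFrobenius (AlgebraicClosure F) p m, fun t => by rw [iterateFrobenius_def, hq, hm]⟩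
          have hφf : ∀ c : F, φ (f c) = f c := fun c => by rw [hφ, hfr]
          rw [hCij, hCij, hCij, hCij] at hroot
          have hz2 := congrArg φ hroot
          simp only [map_add, map_mul, hφf] at hz2
          have hc : f (B.1 1 0) ≠ 0 := fun h0 => hnof P0 ((smul_P0_iff B).2 (f.injective (h0.trans (map_zero f).symm)))
          simp only [Polynomial.IsRoot, Polynomial.eval_sub, Polynomial.eval_pow, Polynomial.eval_X, sub_eq_zero]
          rw [pow_two, pow_mul, ← hφ, ← hφ]
          rcases mul_eq_zero.1 (show (φ z - z) * (f (B.1 1 0) * (φ z + z) + (f (B.1 1 1) - f (B.1 0 0))) = 0 by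
            linear_combination hroot - hz2) with e1 | e1
          · rw [sub_eq_zero.1 e1, sub_eq_zero.1 e1]
          · have h3 := congrArg φ e1
            simp only [map_add, map_sub, map_mul, hφf, map_zero] at h3
            exact mul_left_cancel₀ hc (by linear_combination h3 - e1)
      have hidx : (MulAction.stabilizer PSL₂ a).index ≤ q ^ 2 - q := by
        rw [MulAction.index_stabilizer]
        exact (Set.ncard_le_ncard horb (Set.toFinite _)).trans
          ((Set.ncard_image_le (Set.toFinite _)).trans ((Set.ncard_coe_finset R).trans_le hR))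
      have hN := card_PSL F
      rw [← (MulAction.stabilizer PSL₂ a).card_mul_index, ← mul_assoc, ← hq, sq_sub_one] at hN
      have h1 := Nat.mul_le_mul_left (Nat.gcd 2 (q - 1) * Nat.card (MulAction.stabilizer PSL₂ a)) hidx
      rw [hN, show q ^ 2 - q = q * (q - 1) by rw [Nat.mul_sub_one, pow_two], ← mul_assoc q, mul_comm q (q + 1),
        mul_assoc] at h1
      have := Nat.le_of_mul_le_mul_right h1 (Nat.mul_pos (by omega) (by omega))
      rw [← hq]
      omega

end CfsgLib.Lie.DicksonCentral
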