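import Mathlib

/-!
A group that is a cyclic subgroup extended by an inverting involution is dihedral.
-/

namespace CfsgLib.Lie.DihedralIso

open DihedralGroup

theorem of_cyclic {G U : Type*} [Group G] [Group U] [IsCyclic U] [Finite U] (n : ℕ) [NeZero n]
    (hn : Nat.card U = n) (ρ : U →* G) (hρ : Function.Injective ρ) (S : G) (hS : S * S = 1)
    (hc : ∀ u, S * ρ u * S = ρ u⁻¹) (hout : S ∉ ρ.range)
    (hall : ∀ g : G, g ∈ ρ.range ∨ S * g ∈ ρ.range) : Nonempty (G ≃* DihedralGroup n) := by
  obtain ⟨z, hz⟩ := IsCyclic.exists_generator (α := U)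
  have ho : orderOf z = n := by rw [orderOf_eq_card_of_forall_mem_zpowers hz, hn]
  let p : ZMod n → G := fun i => ρ (z ^ (i.cast : ℤ))
  have hp : ∀ k : ℤ, p (k : ZMod n) = ρ (z ^ k) := fun k => by
    simp only [p]
    congr 1
    rw [ZMod.coe_intCast, ← ho, zpow_mod_orderOf]
  have hadd : ∀ i j, p (i + j) = p i * p j := fun i j => by
    obtain ⟨k, rfl⟩ := ZMod.intCast_surjective i
    obtain ⟨l, rfl⟩ := ZMod.intCast_surjective j
    rw [← Int.cast_add, hp, hp, hp, zpow_add, map_mul]
  have hneg : ∀ i, S * p i * S = p (-i) := fun i => by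
    obtain ⟨k, rfl⟩ := ZMod.intCast_surjective i
    rw [← Int.cast_neg, hp, hp, hc, zpow_neg]
  have hinj : Function.Injective p := fun i j h => by
    obtain ⟨k, rfl⟩ := ZMod.intCast_surjective i
    obtain ⟨l, rfl⟩ := ZMod.intCast_surjective j
    rw [hp, hp] at h
    have := zpow_eq_zpow_iff_modEq.1 (hρ h)
    rw [ho] at this
    exact (ZMod.intCast_eq_intCast_iff k l n).2 this
  have hrange : ∀ g, g ∈ ρ.range → ∃ i, p i = g := by
    rintro g ⟨u, rfl⟩
    obtain ⟨k, rfl⟩ := Subgroup.mem_zpowers_iff.1 (hz u)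
    exact ⟨k, hp k⟩
  have hpmem : ∀ i, p i ∈ ρ.range := fun i => ⟨_, rfl⟩
  have hSl : ∀ x, S * (S * x) = x := fun x => by rw [← mul_assoc, hS, one_mul]
  have hmove : ∀ i, p i * S = S * p (-i) := fun i => by
    rw [← hneg, ← mul_assoc, hSl]
  let f : DihedralGroup n →* G :=
    { toFun := fun
        | r i => p i
        | sr i => S * p i
      map_one' := by
        show p 0 = 1
        simpa using hp 0
      map_mul' := by
        rintro (i | i) (j | j)
        · simp only [r_mul_r]; exact hadd i j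
        · simp only [r_mul_sr]
          rw [← mul_assoc, hmove, mul_assoc, ← hadd, neg_add_eq_sub]
        · simp only [sr_mul_r]
          rw [mul_assoc, hadd]
        · simp only [sr_mul_sr]
          rw [mul_assoc, ← mul_assoc (p i), hmove, mul_assoc, hSl, ← hadd, neg_add_eq_sub] }
  refine ⟨(MulEquiv.ofBijective f ⟨?_, ?_⟩).symm⟩
  · rintro (i | i) (j | j) h <;> simp only [f, MonoidHom.coe_mk, OneHom.coe_mk] at h
    · rw [hinj h]
    · exact absurd (show S ∈ ρ.range by
        have : S = p i * (p j)⁻¹ := by rw [h, mul_inv_cancel_right]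
        rw [this]; exact ρ.range.mul_mem (hpmem i) (ρ.range.inv_mem (hpmem j))) hout
    · exact absurd (show S ∈ ρ.range by
        have : S = p j * (p i)⁻¹ := by rw [← h, mul_inv_cancel_right]
        rw [this]; exact ρ.range.mul_mem (hpmem j) (ρ.range.inv_mem (hpmem i))) hout
    · rw [hinj (mul_left_cancel h)]
  · intro g
    rcases hall g with h | h
    · obtain ⟨i, hi⟩ := hrange g h
      exact ⟨r i, hi⟩
    · obtain ⟨i, hi⟩ := hrange _ h
      exact ⟨sr i, by show S * p i = g; rw [hi, hSl]⟩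

end CfsgLib.Lie.DihedralIso
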