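import Cfsg.Agent.Lie.DicksonCor
import Cfsg.Agent.Lie.DihedralIso
import Cfsg.Agent.Base.Spectrum.PSLTwo

/-!
Dihedral subgroups of PSL₂ and their maximality.
-/

set_option autoImplicit false
set_option linter.unusedSectionVars false
set_option linter.unusedSimpArgs false
set_option linter.style.haveILetI false

namespace CfsgLib.Lie.DicksonDihedral

open Matrix ProjLine DicksonLine DicksonPGL DicksonCor

variable {F : Type*} [Field F] [Fintype F]

local notation "SL₂" => Matrix.SpecialLinearGroup (Fin 2) F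
local notation "PSL₂" => Matrix.ProjectiveSpecialLinearGroup (Fin 2) F
local notation "toP" => ProjectiveSpecialLinearGroup.toPGL (n := Fin 2) (R := F)

theorem order_three : ∀ σ : Equiv.Perm (Fin 4), Equiv.Perm.sign σ = 1 → σ ^ 3 = 1 ∨ σ ^ 2 = 1 := by
  decide +kernel

theorem order_four : ∀ σ : Equiv.Perm (Fin 4), σ ^ 3 = 1 ∨ σ ^ 4 = 1 := by decide +kernel

theorem order_five : ∀ σ : Equiv.Perm (Fin 5), Equiv.Perm.sign σ = 1 → σ ^ 3 = 1 ∨ σ ^ 2 = 1 ∨ σ ^ 5 = 1 := by
  decide +kernel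

set_option synthInstance.maxSize 1024 in
theorem not_inverted_alt4 : ∀ a b : Equiv.Perm (Fin 4), Equiv.Perm.sign a = 1 → Equiv.Perm.sign b = 1 →
    b * a * b = a⁻¹ → b * b = 1 → a * a = 1 := by decide +kernel

/-- inverting elements -/
theorem exists_inverting (p : ℕ) [Fact p.Prime] [CharP F p] {g : PSL₂} (hg : g ^ p ≠ 1) :
    ∃ s : PSL₂, s * s = 1 ∧ s * g * s = g⁻¹ := by
  have key : ∀ A : SL₂, (∃ x y z : F, -x ^ 2 - y * z = 1 ∧ x * A.1 0 0 + y * A.1 1 0 + z * A.1 0 1 - x * A.1 1 1 = 0) →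
      ∃ s : PSL₂, s * s = 1 ∧ s * QuotientGroup.mk A * s = (QuotientGroup.mk A)⁻¹ := by
    rintro A ⟨x, y, z, h1, h2⟩
    obtain ⟨S, hS⟩ : ∃ S : SL₂, S.1 = !![x, y; z, -x] :=
      ⟨⟨!![x, y; z, -x], by simp [Matrix.det_fin_two]; linear_combination h1⟩, rfl⟩
    have hsq : ∀ M : SL₂, M.1 0 0 + M.1 1 1 = 0 → (QuotientGroup.mk M : PSL₂) * QuotientGroup.mk M = 1 := by
      intro M hM
      rw [← QuotientGroup.mk_mul]
      refine (QuotientGroup.eq_one_iff _).2 (PSLTwoSpec.mem_Z.2 (Or.inr ?_))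
      have hd := M.2
      rw [Matrix.det_fin_two] at hd
      ext i j
      show (M.1 * M.1) i j = ((-1 : SL₂) : Matrix (Fin 2) (Fin 2) F) i j
      rw [SpecialLinearGroup.coe_neg]
      fin_cases i <;> fin_cases j <;> simp [Matrix.mul_apply, Fin.sum_univ_two]
      · linear_combination -hd + M.1 0 0 * hM
      · linear_combination M.1 0 1 * hM
      · linear_combination M.1 1 0 * hM
      · linear_combination -hd + M.1 1 1 * hM
    refine ⟨QuotientGroup.mk S, hsq S (by rw [hS]; simp), ?_⟩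
    have h := hsq (S * A) (by
      show (S.1 * A.1) 0 0 + (S.1 * A.1) 1 1 = 0
      rw [hS]
      simp [Matrix.mul_apply, Fin.sum_univ_two]
      linear_combination h2)
    rw [QuotientGroup.mk_mul] at h
    exact eq_inv_of_mul_eq_one_left (by rw [mul_assoc]; exact h)
  by_cases hfix : ∃ y : Pt F, toP g • y = y
  · obtain ⟨y, hy⟩ := hfix
    obtain ⟨a, ha⟩ := DicksonPSL.exists_smul_P0 y
    obtain ⟨g', hg'⟩ : ∃ g', g' = a⁻¹ * g * a := ⟨_, rfl⟩
    have hgp : g' ^ p ≠ 1 := fun e => hg (by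
      have e2 : g ^ p = a * g' ^ p * a⁻¹ := by rw [← conj_pow, hg']; group
      rw [e2, e, mul_one, mul_inv_cancel])
    have h0 : toP g' • (P0 : Pt F) = P0 := by
      rw [hg', map_mul, map_mul, map_inv, mul_smul, mul_smul, ha, hy, inv_smul_eq_iff, ha]
    obtain ⟨s, hs1, hs2⟩ : ∃ s : PSL₂, s * s = 1 ∧ s * g' * s = g'⁻¹ := by
      induction g' using QuotientGroup.induction_on with
      | H A =>
        have hc : A.1 1 0 = 0 := (smul_P0_iff (SpecialLinearGroup.toGL A)).1 h0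
        have hne : A.1 0 0 - A.1 1 1 ≠ 0 := fun e => by
          refine hgp (ProjectiveSpecialLinearGroup.toPGL_injective ?_)
          rw [map_pow, map_one]
          refine (pow_eq_one_iff_ratio p h0).1 ?_
          change ratio (ProjGenLinGroup.mk (SpecialLinearGroup.toGL A)) = 1
          rw [ratio_mk, div_eq_one_iff_eq (diag_ne_zero (A := SpecialLinearGroup.toGL A) hc).2]
          exact sub_eq_zero.1 e
        refine key A ⟨-A.1 0 1 / (A.1 0 0 - A.1 1 1), -1 - (A.1 0 1 / (A.1 0 0 - A.1 1 1)) ^ 2, 1, ?_, ?_⟩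
        · rw [neg_div]; ring
        · rw [hc, mul_zero, add_zero]; field_simp; ring
    refine ⟨a * s * a⁻¹, ?_, ?_⟩
    · rw [show a * s * a⁻¹ * (a * s * a⁻¹) = a * (s * s) * a⁻¹ by group, hs1, mul_one, mul_inv_cancel]
    · rw [show a * s * a⁻¹ * g * (a * s * a⁻¹) = a * (s * (a⁻¹ * g * a) * s) * a⁻¹ by group, ← hg', hs2, hg']
      group
  · push Not at hfix
    induction g using QuotientGroup.induction_on with
    | H A =>
      have hc : A.1 1 0 ≠ 0 := fun e => hfix P0 ((smul_P0_iff (SpecialLinearGroup.toGL A)).2 e)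
      refine key A ?_
      by_cases h2 : (2 : F) = 0
      · refine ⟨1, (A.1 1 1 - A.1 0 0) / A.1 1 0, 0, ?_, ?_⟩
        · linear_combination -h2
        · field_simp; ring
      · have hchar : ringChar F ≠ 2 := fun e => h2 (by
          haveI : CharP F 2 := e ▸ ringChar.charP F
          exact_mod_cast CharP.cast_eq_zero F 2)
        obtain ⟨D, hD⟩ : ∃ D, D = (A.1 0 0 - A.1 1 1) ^ 2 + 4 * A.1 0 1 * A.1 1 0 := ⟨_, rfl⟩
        have hD0 : D ≠ 0 := by
          intro e
          have hdet := A.2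
          rw [Matrix.det_fin_two] at hdet
          obtain ⟨r, hr⟩ : ∃ r, r = (A.1 0 0 - A.1 1 1) / (2 * A.1 1 0) := ⟨_, rfl⟩
          have e0 : (A.1 0 0 - A.1 1 1) ^ 2 + 4 * A.1 0 1 * A.1 1 0 = 0 := hD.symm.trans e
          have hden : A.1 1 0 * r + A.1 1 1 ≠ 0 := by
            rw [hr, show A.1 1 0 * ((A.1 0 0 - A.1 1 1) / (2 * A.1 1 0)) + A.1 1 1 = (A.1 0 0 + A.1 1 1) / 2 by
              field_simp; ring]
            intro h
            have h' := (div_eq_zero_iff.1 h).resolve_right h2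
            have h4 : (4 : F) ≠ 0 := by
              rw [show (4 : F) = 2 * 2 by norm_num]; exact mul_ne_zero h2 h2
            exact h4 (by linear_combination (A.1 0 0 + A.1 1 1) * h' - e0 - 4 * hdet)
          refine hfix (pt r) ?_
          show ProjGenLinGroup.mk (SpecialLinearGroup.toGL A) • pt r = pt r
          change SpecialLinearGroup.toGL A • pt r = pt r
          refine (smul_pt (A := SpecialLinearGroup.toGL A) hden).trans (congrArg pt ?_)
          change (A.1 0 0 * r + A.1 0 1) / (A.1 1 0 * r + A.1 1 1) = r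
          rw [div_eq_iff hden, hr]
          field_simp
          linear_combination e0
        obtain ⟨u, v, huv⟩ : ∃ u v : F, u ^ 2 - v ^ 2 * D / (4 * A.1 1 0 ^ 2) = -1 := by
          have hne : -(D / (4 * A.1 1 0 ^ 2)) ≠ 0 := neg_ne_zero.2 (div_ne_zero hD0 (mul_ne_zero (by
            rw [show (4 : F) = 2 * 2 by norm_num]; exact mul_ne_zero h2 h2) (pow_ne_zero 2 hc)))
          obtain ⟨u, v, h⟩ := FiniteField.exists_root_sum_quadratic
            (f := Polynomial.X ^ 2 + Polynomial.C (1 : F))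
            (g := Polynomial.C (-(D / (4 * A.1 1 0 ^ 2))) * Polynomial.X ^ 2)
            (Polynomial.degree_X_pow_add_C two_pos _) (Polynomial.degree_C_mul_X_pow 2 hne)
            (FiniteField.odd_card_of_char_ne_two hchar)
          simp at h
          exact ⟨u, v, by linear_combination h⟩
        refine ⟨u + v * (A.1 0 0 - A.1 1 1) / (2 * A.1 1 0),
          -((u + v * (A.1 0 0 - A.1 1 1) / (2 * A.1 1 0)) * (A.1 0 0 - A.1 1 1) + v * A.1 0 1) / A.1 1 0, v, ?_, ?_⟩
        · have h4 : (4 : F) ≠ 0 := by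
            rw [show (4 : F) = 2 * 2 by norm_num]; exact mul_ne_zero h2 h2
          field_simp at huv ⊢
          rw [hD] at huv
          linear_combination -huv
        · field_simp; ring

theorem card_dihedral (p : ℕ) [Fact p.Prime] [CharP F p] {g : PSL₂} (hg : g ^ p ≠ 1) (h3 : 3 ≤ orderOf g) :
    ∃ D : Subgroup PSL₂, g ∈ D ∧ (∃ s ∈ D, s * s = 1 ∧ s * g * s = g⁻¹) ∧ Nat.card D = 2 * orderOf g ∧
      Nonempty (D ≃* DihedralGroup (orderOf g)) := by
  classical
  obtain ⟨s, hs, hsg⟩ := exists_inverting p hg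
  have hinv : s⁻¹ = s := inv_eq_of_mul_eq_one_right hs
  have hmap : ∀ u ∈ Subgroup.zpowers g, s * u * s = u⁻¹ := by
    rintro _ ⟨k, rfl⟩
    have := map_zpow (MulAut.conj s) g k
    simp only [MulAut.conj_apply, hinv, hsg, _root_.inv_zpow] at this
    show s * g ^ k * s = (g ^ k)⁻¹
    exact this
  have hout : s ∉ Subgroup.zpowers g := by
    intro hmem
    obtain ⟨k, hk⟩ := hmem
    have hcomm : s * g * s = g := by
      have : Commute s g := by rw [← hk]; exact (Commute.refl g).zpow_left k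
      rw [this.eq, mul_assoc, hs, mul_one]
    have hgg : g ^ 2 = 1 := by
      have e := hsg.symm.trans hcomm
      rw [pow_two]; nth_rewrite 1 [← e]; exact inv_mul_cancel g
    have := Nat.le_of_dvd two_pos (orderOf_dvd_of_pow_eq_one hgg)
    omega
  have hsu : ∀ u ∈ Subgroup.zpowers g, s * u = u⁻¹ * s := fun u hu => by
    rw [← hmap u hu, mul_assoc, hs, mul_one]
  let D : Subgroup PSL₂ :=
    { carrier := {x | ∃ u ∈ Subgroup.zpowers g, x = u ∨ x = u * s}
      one_mem' := ⟨1, one_mem _, Or.inl rfl⟩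
      mul_mem' := by
        rintro x y ⟨u, hu, rfl | rfl⟩ ⟨v, hv, rfl | rfl⟩
        · exact ⟨_, mul_mem hu hv, Or.inl rfl⟩
        · exact ⟨_, mul_mem hu hv, Or.inr (mul_assoc _ _ _).symm⟩
        · exact ⟨_, mul_mem hu (inv_mem hv), Or.inr (by rw [mul_assoc, hsu _ hv, mul_assoc])⟩
        · exact ⟨_, mul_mem hu (inv_mem hv), Or.inl (by
            rw [mul_assoc, ← mul_assoc s, hsu _ hv, mul_assoc v⁻¹, hs, mul_one])⟩
      inv_mem' := by
        rintro x ⟨u, hu, rfl | rfl⟩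
        · exact ⟨_, inv_mem hu, Or.inl rfl⟩
        · exact ⟨u, hu, Or.inr (by rw [_root_.mul_inv_rev, hinv, hsu _ (inv_mem hu), inv_inv])⟩ }
  have hgD : g ∈ D := ⟨g, Subgroup.mem_zpowers g, Or.inl rfl⟩
  have hsD : s ∈ D := ⟨1, one_mem _, Or.inr (one_mul s).symm⟩
  have hle : Subgroup.zpowers g ≤ D := Subgroup.zpowers_le.2 hgD
  haveI : NeZero (orderOf g) := ⟨by omega⟩
  have hmemρ : ∀ x : D, x ∈ (Subgroup.inclusion hle).range ↔ x.1 ∈ Subgroup.zpowers g := fun x =>
    ⟨by rintro ⟨u, rfl⟩; exact u.2, fun h => ⟨⟨x.1, h⟩, rfl⟩⟩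
  obtain ⟨iso⟩ := DihedralIso.of_cyclic (G := D) (U := Subgroup.zpowers g) (orderOf g) (Nat.card_zpowers g)
    (Subgroup.inclusion hle) (Subgroup.inclusion_injective hle) ⟨s, hsD⟩ (Subtype.ext hs)
    (fun u => Subtype.ext (hmap u.1 u.2)) (fun h => hout ((hmemρ _).1 h))
    (fun x => by
      obtain ⟨u, hu, e | e⟩ := x.2
      · exact Or.inl ((hmemρ x).2 (e ▸ hu))
      · refine Or.inr ((hmemρ _).2 ?_)
        show s * x.1 ∈ _
        rw [e, ← mul_assoc, hsu u hu, mul_assoc, hs, mul_one]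
        exact inv_mem hu)
  exact ⟨D, hgD, ⟨s, hsD, hs, hsg⟩, by rw [Nat.card_congr iso.toEquiv, DihedralGroup.nat_card], ⟨iso⟩⟩

/-- an element inverted inside a point stabiliser is an involution -/
theorem not_inverted_fix (p : ℕ) [Fact p.Prime] [CharP F p] {g s : PSL₂} (hg3 : 3 ≤ orderOf g)
    (hcop : Nat.Coprime (orderOf g) p) (hsg : s * g * s = g⁻¹) (hs : s * s = 1) (y : Pt F)
    (hgy : g ∈ borel y) (hsy : s ∈ borel y) : False := by
  obtain ⟨a, ha⟩ := DicksonPSL.exists_smul_P0 y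
  have hfix : ∀ x ∈ borel y, toP (a⁻¹ * x * a) • (P0 : Pt F) = P0 := fun x hx => by
    rw [map_mul, map_mul, map_inv, mul_smul, mul_smul, ha, mem_borel.1 hx, inv_smul_eq_iff, ha]
  obtain ⟨g', hg'⟩ : ∃ x, x = toP (a⁻¹ * g * a) := ⟨_, rfl⟩
  obtain ⟨s', hs'⟩ : ∃ x, x = toP (a⁻¹ * s * a) := ⟨_, rfl⟩
  have hg0 : g' • (P0 : Pt F) = P0 := hg' ▸ hfix g hgy
  have hs0 : s' • (P0 : Pt F) = P0 := hs' ▸ hfix s hsy
  have e1 : s' * s' = 1 := by
    rw [hs', ← map_mul, show a⁻¹ * s * a * (a⁻¹ * s * a) = a⁻¹ * (s * s) * a by group, hs, mul_one, inv_mul_cancel,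
      map_one]
  have e2 : s' * g' * s' * g' = 1 := by
    rw [hs', hg', ← map_mul, ← map_mul, ← map_mul,
      show a⁻¹ * s * a * (a⁻¹ * g * a) * (a⁻¹ * s * a) * (a⁻¹ * g * a) = a⁻¹ * (s * g * s * g) * a by group, hsg,
      inv_mul_cancel, mul_one, inv_mul_cancel, map_one]
  have hgg : (g' * g') ^ p = 1 := by
    have hgg0 : (g' * g') • (P0 : Pt F) = P0 := by rw [mul_smul, hg0, hg0]
    refine (pow_eq_one_iff_ratio p hgg0).1 ?_
    have h1 := congrArg ratio e1
    have h2 := congrArg ratio e2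
    have hsg0 : (s' * g') • (P0 : Pt F) = P0 := by rw [mul_smul, hg0, hs0]
    have hsgs0 : (s' * g' * s') • (P0 : Pt F) = P0 := by rw [mul_smul, hs0, hsg0]
    rw [ratio_mul hs0 hs0, ratio_one] at h1
    rw [ratio_mul hsgs0 hg0, ratio_mul hsg0 hs0, ratio_mul hs0 hg0, ratio_one] at h2
    rw [ratio_mul hg0 hg0]
    linear_combination h2 - ratio g' * ratio g' * h1
  have ho : orderOf g' = orderOf g := by
    rw [hg', orderOf_injective toP ProjectiveSpecialLinearGroup.toPGL_injective]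
    have := orderOf_injective (MulAut.conj a⁻¹).toMonoidHom (MulAut.conj a⁻¹).injective g
    simpa using this
  rw [← pow_two, ← pow_mul] at hgg
  have := (ho ▸ hcop : Nat.Coprime (orderOf g') p).dvd_of_dvd_mul_right (orderOf_dvd_of_pow_eq_one hgg)
  have := Nat.le_of_dvd two_pos this
  omega

theorem orderOf_le {K : Type*} [Field K] [Fintype K] (g : Matrix.ProjGenLinGroup (Fin 2) K) :
    orderOf g ≤ Fintype.card K + 1 := by
  obtain ⟨p, hp⟩ := CharP.exists K
  haveI : Fact p.Prime := ⟨CharP.char_is_prime K p⟩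
  have h1 : 1 < Fintype.card K := Fintype.one_lt_card
  by_cases hg : g ^ p = 1
  · obtain ⟨n, -, hn⟩ := FiniteField.card K p
    have := Nat.le_of_dvd (Fact.out : p.Prime).pos (orderOf_dvd_of_pow_eq_one hg)
    have h2 : p ≤ Fintype.card K := hn ▸ Nat.le_self_pow n.ne_zero p
    omega
  · rcases (ordOK_of p (MonoidHom.id _) Function.injective_id hg).1 with h | h
    · have := Nat.le_of_dvd (by omega) h; omega
    · exact Nat.le_of_dvd (by omega) h

theorem coprime_torus (p : ℕ) [hp : Fact p.Prime] [CharP F p] {e : ℕ}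
    (he : e = (Fintype.card F - 1) / Nat.gcd 2 (Fintype.card F - 1) ∨
      e = (Fintype.card F + 1) / Nat.gcd 2 (Fintype.card F - 1)) : Nat.Coprime e p := by
  rw [Nat.coprime_comm, hp.out.coprime_iff_not_dvd]
  intro hd
  have h1 : 1 < Fintype.card F := Fintype.one_lt_card
  obtain ⟨n, -, hn⟩ := FiniteField.card F p
  have hq : p ∣ Fintype.card F := hn ▸ dvd_pow_self p n.ne_zero
  obtain ⟨a, b⟩ := gcd_mul_div (Fintype.one_lt_card (α := F)).le
  have hc : p ∣ Fintype.card F - 1 ∨ p ∣ Fintype.card F + 1 := by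
    rcases he with rfl | rfl
    · exact Or.inl (a ▸ hd.mul_left _)
    · exact Or.inr (b ▸ hd.mul_left _)
  rcases hc with e' | e'
  · have := Nat.dvd_sub hq e'
    rw [show Fintype.card F - (Fintype.card F - 1) = 1 by omega] at this
    exact hp.out.not_dvd_one this
  · exact hp.out.not_dvd_one ((Nat.dvd_add_right hq).1 e')

/-- maximal dihedral subgroups -/
theorem dihedral_coatom {g : PSL₂} {e : ℕ} (hge : orderOf g = e) (h3 : 3 ≤ e) (hq3 : 3 ≤ Fintype.card F)
    (he : e = (Fintype.card F - 1) / Nat.gcd 2 (Fintype.card F - 1) ∨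
      e = (Fintype.card F + 1) / Nat.gcd 2 (Fintype.card F - 1))
    (hS4 : 24 ∣ Nat.card PSL₂ → 5 ≤ e) (hA5 : 60 ∣ Nat.card PSL₂ → 60 ≠ Nat.card PSL₂ → 6 ≤ e)
    (hsub : ∀ r m : ℕ, 2 ≤ m → r ^ m = Fintype.card F → 3 ≤ r → r + 2 ≤ e) :
    ∃ D : Subgroup PSL₂, IsCoatom D ∧ Nonempty (D ≃* DihedralGroup e) := by
  obtain ⟨p, hpch⟩ := CharP.exists F
  haveI : Fact p.Prime := ⟨CharP.char_is_prime F p⟩
  have hcop := coprime_torus p he
  have hgp : g ^ p ≠ 1 := fun h => by
    have h' := orderOf_dvd_of_pow_eq_one h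
    rw [hge] at h'
    have := Nat.Coprime.eq_one_of_dvd hcop h'
    omega
  obtain ⟨D, hgD, ⟨s, hsD, hs, hsg⟩, hcard, hiso⟩ := card_dihedral p hgp (by omega)
  rw [hge] at hcard hiso
  have hgcd := gcd_cases (Fintype.card F)
  obtain ⟨hd1, hd2⟩ := gcd_mul_div (Fintype.one_lt_card (α := F)).le
  have hN := card_PSL F
  have hsq2 : g ^ 2 ≠ 1 := fun h => by
    have := Nat.le_of_dvd two_pos (hge ▸ orderOf_dvd_of_pow_eq_one h)
    omega
  have hDtop : D ≠ ⊤ := by
    intro h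
    rw [h, Subgroup.card_top] at hcard
    rw [hcard, sq_sub_one] at hN
    have e1 : Nat.gcd 2 (Fintype.card F - 1) * e ≤ Fintype.card F + 1 := by
      rcases he with rfl | rfl <;> omega
    have h6 : 3 * ((Fintype.card F + 1) * 2) ≤ Fintype.card F * ((Fintype.card F + 1) * (Fintype.card F - 1)) :=
      Nat.mul_le_mul hq3 (Nat.mul_le_mul_left _ (by omega))
    rw [← hN] at h6
    nlinarith [e1, h6, hq3]
  refine ⟨D, ⟨hDtop, fun M hDM => ?_⟩, hiso⟩
  by_contra hM
  have hgM : g ∈ M := hDM.le hgD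
  have hsM : s ∈ M := hDM.le hsD
  have hlt : 2 * e < Nat.card M := by
    rw [← hcard]
    refine lt_of_le_of_ne (Subgroup.card_le_of_le hDM.le) fun h => hDM.ne ?_
    exact Subgroup.eq_of_le_of_card_ge hDM.le h.ge
  have hgo : orderOf (⟨g, hgM⟩ : M) = e := by rw [Subgroup.orderOf_mk, hge]
  have horder : ∀ n, 0 < n → (∀ i, 0 < i → g ^ i = 1 → e ≤ i) := fun _ _ i hi h =>
    Nat.le_of_dvd hi (hge ▸ orderOf_dvd_of_pow_eq_one h)
  have hle : ∀ i, 0 < i → g ^ i = 1 → e ≤ i := horder 1 one_pos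
  have hpowM : ∀ {G : Type} [Group G] (t : M ≃* G) (i : ℕ), t ⟨g, hgM⟩ ^ i = 1 → g ^ i = 1 := by
    intro G _ t i h
    rw [← map_pow, MulEquiv.map_eq_one_iff] at h
    exact congrArg Subtype.val h
  rcases psl_cases M hM with ⟨y, hy⟩ | ⟨hc, -⟩ | ⟨k, e', -, he', hk, -, hMc⟩ | ⟨⟨t⟩, -⟩ | ⟨⟨t⟩, hMc⟩ | ⟨⟨t⟩, hMc⟩ |
    ⟨K, _, _, m, hm2, hm, hr3, hK⟩
  · exact not_inverted_fix p (by omega) (hge ▸ hcop) hsg hs y (hy hgM) (hy hsM)
  · letI := hc.commGroup
    have h := congrArg Subtype.val (mul_comm (⟨g, hgM⟩ : M) ⟨s, hsM⟩)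
    refine hsq2 ?_
    have h' : s * g * s = g := by
      have hgs : g * s = s * g := h
      rw [mul_assoc, hgs, ← mul_assoc, hs, one_mul]
    rw [hsg] at h'
    rw [pow_two]
    nth_rewrite 1 [← h']
    exact inv_mul_cancel g
  · have hdvd := Subgroup.card_dvd_of_le hDM.le
    rw [hcard, hMc] at hdvd
    have hek : e ∣ k := Nat.dvd_of_mul_dvd_mul_left two_pos hdvd
    have hee : e ∣ e' := hek.trans hk
    have hk0 : e' ≠ 0 := fun h0 => by
      rcases he' with h' | h'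
      · rw [← h', h0, mul_zero] at hd1
        have := Fintype.one_lt_card (α := F); omega
      · rw [← h', h0, mul_zero] at hd2; omega
    by_cases h : e' = e
    · have := Nat.le_of_dvd (by omega) hk; omega
    · have h1 : e ∣ Fintype.card F - 1 ∧ e ∣ Fintype.card F + 1 := by
        rcases he with rfl | rfl <;> rcases he' with rfl | rfl
        · exact absurd rfl h
        · exact ⟨⟨_, hd1.symm.trans (mul_comm _ _)⟩, (hee.mul_left _).trans (dvd_of_eq hd2)⟩
        · exact ⟨(hee.mul_left _).trans (dvd_of_eq hd1), ⟨_, hd2.symm.trans (mul_comm _ _)⟩⟩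
        · exact absurd rfl h
      have h2 := Nat.dvd_sub h1.2 h1.1
      rw [show Fintype.card F + 1 - (Fintype.card F - 1) = 2 by
        have := Fintype.one_lt_card (α := F); omega] at h2
      have := Nat.le_of_dvd two_pos h2
      omega
  · obtain ⟨a, ha⟩ : ∃ a, a = (t ⟨g, hgM⟩).1 := ⟨_, rfl⟩
    obtain ⟨b, hb⟩ : ∃ b, b = (t ⟨s, hsM⟩).1 := ⟨_, rfl⟩
    refine hsq2 (hpowM t 2 (Subtype.ext ?_))
    rw [SubmonoidClass.coe_pow, ← ha, pow_two, OneMemClass.coe_one]
    have m1 : (⟨s, hsM⟩ : M) * ⟨s, hsM⟩ = 1 := Subtype.ext hs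
    have m2 : (⟨s, hsM⟩ : M) * ⟨g, hgM⟩ * ⟨s, hsM⟩ = ⟨g, hgM⟩⁻¹ := Subtype.ext hsg
    have t1 := congrArg (fun x => (t x).1) m1
    have t2 := congrArg (fun x => (t x).1) m2
    simp only [map_mul, map_one, map_inv, Subgroup.coe_mul, Subgroup.coe_one, InvMemClass.coe_inv, ← ha, ← hb]
      at t1 t2
    exact not_inverted_alt4 a b (ha ▸ Equiv.Perm.mem_alternatingGroup.1 (t _).2)
      (hb ▸ Equiv.Perm.mem_alternatingGroup.1 (t _).2) t2 t1
  · have h24 := hS4 (hMc ▸ Subgroup.card_subgroup_dvd_card M)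
    rcases order_four (t ⟨g, hgM⟩) with h | h
    · have := hle 3 (by norm_num) (hpowM t 3 h); omega
    · have := hle 4 (by norm_num) (hpowM t 4 h); omega
  · have h60 := hA5 (hMc ▸ Subgroup.card_subgroup_dvd_card M) fun h => hM (Subgroup.eq_top_of_card_eq M (hMc.trans h))
    rcases order_five _ (Equiv.Perm.mem_alternatingGroup.1 (t ⟨g, hgM⟩).2) with h | h | h
    · have := hle 3 (by norm_num) (hpowM t 3 (Subtype.ext h)); omega
    · have := hle 2 (by norm_num) (hpowM t 2 (Subtype.ext h)); omega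
    · have := hle 5 (by norm_num) (hpowM t 5 (Subtype.ext h)); omega
  · have hr := hsub _ m hm2 hm hr3
    have hle' : e ≤ Fintype.card K + 1 := by
      rcases hK with ⟨⟨t⟩, -⟩ | ⟨⟨t⟩, -⟩
      · rw [← hgo, ← MulEquiv.orderOf_eq t,
          ← orderOf_injective _ (ProjectiveSpecialLinearGroup.toPGL_injective (n := Fin 2) (R := K))]
        exact orderOf_le _
      · rw [← hgo, ← MulEquiv.orderOf_eq t]; exact orderOf_le _
    omega

end CfsgLib.Lie.DicksonDihedral
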