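import Cfsg.Agent.Lie.DicksonOdd

/-!
The maximal subgroups of PSL₂(q).
-/

set_option autoImplicit false
set_option linter.unusedSectionVars false
set_option linter.unusedSimpArgs false
set_option linter.style.haveILetI false

namespace CfsgLib.Lie.DicksonMaximal

open Matrix ProjLine DicksonLine DicksonPGL DicksonCor DicksonSubfield DicksonTypes

variable {F : Type*} [Field F] [Fintype F]

local notation "PSL₂" => Matrix.ProjectiveSpecialLinearGroup (Fin 2) F
local notation "toP" => ProjectiveSpecialLinearGroup.toPGL (n := Fin 2) (R := F)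

/-- outcome for a maximal subgroup -/
inductive MaxShape (p : ℕ) (M : Subgroup (Matrix.ProjectiveSpecialLinearGroup (Fin 2) F)) : Prop
  | borel (y : Pt F) (e : M = borel y) : MaxShape p M
  | dihedralPred (k : ℕ) (hk : 3 ≤ k) (he : Nat.gcd 2 (Fintype.card F - 1) * k = Fintype.card F - 1)
      (e : Nonempty (M ≃* DihedralGroup k)) : MaxShape p M
  | dihedralSucc (k : ℕ) (hk : 3 ≤ k) (he : Nat.gcd 2 (Fintype.card F - 1) * k = Fintype.card F + 1)
      (e : Nonempty (M ≃* DihedralGroup k)) : MaxShape p M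
  | alt4 (hp : p ≠ 2) (e : Nonempty (M ≃* alternatingGroup (Fin 4))) : MaxShape p M
  | sym4 (hp : p ≠ 2) (e : Nonempty (M ≃* Equiv.Perm (Fin 4))) : MaxShape p M
  | alt5 (hp : p ≠ 2) (e : Nonempty (M ≃* alternatingGroup (Fin 5))) : MaxShape p M
  | subfield (K₀ : Type) (i : Field K₀) (iF : Fintype K₀) (m : ℕ) (hm : Fintype.card K₀ ^ m = Fintype.card F)
      (hm2 : 2 ≤ m) (h3 : 3 ≤ Fintype.card K₀) (κ : K₀ →+* F) (k : Matrix.ProjGenLinGroup (Fin 2) F)
      (hle : M ≤ sub κ k)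
      (e : Nonempty (M ≃* Matrix.ProjectiveSpecialLinearGroup (Fin 2) K₀) ∨
        Nonempty (M ≃* Matrix.ProjGenLinGroup (Fin 2) K₀)) : MaxShape p M

theorem max_shape (h4 : 4 ≤ Fintype.card F) (p : ℕ) [Fact p.Prime] [CharP F p] (M : Subgroup PSL₂) (hM : IsCoatom M) :
    MaxShape p M := by
  have hinj : Function.Injective ((toP).comp M.subtype) :=
    ProjectiveSpecialLinearGroup.toPGL_injective.comp M.subtype_injective
  have hsq : ∀ g : M, SqDet (((toP).comp M.subtype) g) := fun g => DicksonPSL.sqDet_toPGL _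
  obtain ⟨hd1, hd2⟩ := gcd_mul_div (Fintype.one_lt_card (α := F)).le
  rcases dickson p _ hinj with
    ⟨y, hy, u, hu, hup⟩ | ⟨hc, -, hk⟩ | ⟨k, hk2, ⟨-, hk⟩, ⟨t⟩⟩ | ⟨hp2, e⟩ | ⟨hp2, e⟩ | ⟨hp2, e⟩ |
    ⟨K, i, iF, m, hm, h3, κ, k, hrange, e⟩
  · refine MaxShape.borel y ?_
    exact (((hM.le_iff.1 (show M ≤ borel y from fun g hg => hy ⟨g, hg⟩))).resolve_left (borel_ne_top y)).symm
  · exfalso
    rcases hk hsq with h | h
    · exact not_cyclic h4 M hM hc (Or.inl rfl) h
    · exact not_cyclic h4 M hM hc (Or.inr rfl) h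
  · rcases hk hsq with h | h
    · obtain ⟨rfl, h3⟩ := dihedral_k h4 M hM hk2 (Or.inl rfl) h t
      exact MaxShape.dihedralPred _ h3 hd1 ⟨t⟩
    · obtain ⟨rfl, h3⟩ := dihedral_k h4 M hM hk2 (Or.inr rfl) h t
      exact MaxShape.dihedralSucc _ h3 hd2 ⟨t⟩
  · exact MaxShape.alt4 hp2 e
  · exact MaxShape.sym4 hp2 e
  · exact MaxShape.alt5 hp2 e
  · refine MaxShape.subfield K i iF m hm ?_ h3 κ k (fun g hg => mem_sub.2 (hrange ⟨g, hg⟩)) e
    by_contra hm2
    have hm1 : m = 1 := by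
      rcases Nat.eq_zero_or_pos m with rfl | h0
      · rw [pow_zero] at hm; omega
      · omega
    rw [hm1, pow_one] at hm
    have hle : Nat.card PSL₂ ≤ Nat.card M := by
      rcases e with ⟨⟨t⟩⟩ | ⟨⟨t⟩⟩
      · rw [Nat.card_congr t.toEquiv]
        have h2 := card_PSL K
        rw [hm, ← card_PSL F] at h2
        exact (Nat.eq_of_mul_eq_mul_left (Nat.gcd_pos_of_pos_left _ two_pos) h2).ge
      · rw [Nat.card_congr t.toEquiv, card_PGL K, hm, ← card_PSL F]
        exact Nat.le_mul_of_pos_left _ (Nat.gcd_pos_of_pos_left _ two_pos)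
    exact hM.1 (Subgroup.eq_top_of_le_card _ hle)

theorem toPGL_bijective_of_even {K : Type*} [Field K] [Fintype K] (h2 : ringChar K = 2) :
    Function.Bijective (ProjectiveSpecialLinearGroup.toPGL (n := Fin 2) (R := K)) := by
  refine ⟨ProjectiveSpecialLinearGroup.toPGL_injective, ProjectiveSpecialLinearGroup.toPGL_surj_of_roots fun r => ?_⟩
  obtain ⟨s, hs⟩ := FiniteField.isSquare_of_char_two h2 (r : K)
  have hs0 : s ≠ 0 := fun e => r.ne_zero (by rw [hs, e, mul_zero])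
  exact ⟨Units.mk0 s hs0, Units.ext (by rw [Fintype.card_fin, Units.val_pow_eq_pow_val, Units.val_mk0, pow_two, ← hs])⟩

end CfsgLib.Lie.DicksonMaximal
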