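import Cfsg.Agent.Lie.PSL2Sub
import Cfsg.Agent.Lie.ProjLine
import Cfsg.Agent.Base.Small.OrderSixty

/-!
Copies of the alternating group of degree five in PSL₂: the icosians.
-/

set_option autoImplicit false
set_option linter.unusedSectionVars false
set_option maxRecDepth 4000

namespace CfsgLib.Lie.PSL2Five

abbrev S5 := Equiv.Perm (Fin 5)

/-- a + b φ with φ² = φ + 1 -/
abbrev Z := ℤ × ℤ

def zm (x y : Z) : Z := (x.1 * y.1 + x.2 * y.2, x.1 * y.2 + x.2 * y.1 + x.2 * y.2)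

abbrev Q := Z × Z × Z × Z

/-- the quaternion product -/
def qm : Q → Q → Q
  | (a, b, c, d), (e, f, g, h) =>
    (zm a e - zm b f - zm c g - zm d h, zm a f + zm b e + zm c h - zm d g,
      zm a g - zm b h + zm c e + zm d f, zm a h + zm b g - zm c f + zm d e)

def dbl : Q → Q
  | (a, b, c, d) => (a + a, b + b, c + c, d + d)

def qneg : Q → Q
  | (a, b, c, d) => (-a, -b, -c, -d)

def qone : Q := ((2, 0), (0, 0), (0, 0), (0, 0))

def qnorm : Q → Z
  | (a, b, c, d) => zm a a + zm b b + zm c c + zm d d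

def gv : S5 := Equiv.swap 0 1 * Equiv.swap 2 3

def gc : S5 := Equiv.swap 1 2 * Equiv.swap 2 3

def gt : S5 := Equiv.swap 0 3 * Equiv.swap 3 2 * Equiv.swap 2 4 * Equiv.swap 4 1

/-- the icosians, indexed by the images of three points -/
def table : List (ℕ × Q) :=
  [
    (7, ((2, 0), (0, 0), (0, 0), (0, 0))),
    (8, ((-1, 0), (0, 0), (-1, 1), (0, -1))),
    (9, ((-1, 0), (0, 0), (1, -1), (0, 1))),
    (11, ((0, 0), (0, -1), (-1, 1), (-1, 0))),
    (13, ((1, 0), (1, 0), (1, 0), (1, 0))),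
    (14, ((-1, 0), (-1, 1), (0, -1), (0, 0))),
    (16, ((-1, 0), (1, 0), (1, 0), (1, 0))),
    (17, ((-1, 0), (0, 1), (0, 0), (1, -1))),
    (19, ((0, 0), (-1, 1), (-1, 0), (0, -1))),
    (21, ((1, 0), (-1, 1), (0, -1), (0, 0))),
    (22, ((-1, 0), (0, -1), (0, 0), (-1, 1))),
    (23, ((0, 0), (-1, 0), (0, -1), (-1, 1))),
    (27, ((0, 0), (-1, 0), (0, 1), (-1, 1))),
    (28, ((0, 0), (2, 0), (0, 0), (0, 0))),
    (29, ((0, 0), (1, 0), (0, 1), (-1, 1))),
    (35, ((-1, 0), (-1, 0), (-1, 0), (1, 0))),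
    (38, ((0, -1), (-1, 0), (-1, 1), (0, 0))),
    (39, ((1, -1), (0, 0), (0, 1), (-1, 0))),
    (40, ((0, -1), (0, 0), (-1, 0), (1, -1))),
    (42, ((-1, 0), (1, 0), (-1, 0), (1, 0))),
    (44, ((1, -1), (-1, 0), (0, 0), (0, -1))),
    (45, ((-1, 1), (-1, 0), (0, 0), (0, 1))),
    (47, ((1, 0), (0, 0), (1, -1), (0, -1))),
    (48, ((0, -1), (1, 0), (-1, 1), (0, 0))),
    (51, ((-1, 0), (1, 0), (1, 0), (-1, 0))),
    (53, ((1, -1), (-1, 0), (0, 0), (0, 1))),
    (54, ((0, -1), (0, 0), (1, 0), (-1, 1))),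
    (55, ((0, 0), (1, -1), (-1, 0), (0, -1))),
    (58, ((-1, 0), (1, 0), (-1, 0), (-1, 0))),
    (59, ((-1, 0), (0, 1), (0, 0), (-1, 1))),
    (65, ((0, 0), (0, 0), (-2, 0), (0, 0))),
    (66, ((-1, 1), (0, 1), (1, 0), (0, 0))),
    (69, ((1, -1), (0, -1), (1, 0), (0, 0))),
    (70, ((0, 0), (1, -1), (1, 0), (0, -1))),
    (71, ((0, -1), (1, -1), (0, 0), (-1, 0))),
    (73, ((0, -1), (0, 0), (-1, 0), (-1, 1))),
    (76, ((1, -1), (0, 0), (0, -1), (1, 0))),
    (77, ((-1, 0), (-1, 0), (1, 0), (-1, 0))),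
    (79, ((0, 1), (1, 0), (-1, 1), (0, 0))),
    (80, ((-1, 0), (-1, 0), (1, 0), (1, 0))),
    (82, ((-1, 0), (-1, 1), (0, 1), (0, 0))),
    (84, ((0, 0), (0, -1), (1, -1), (1, 0))),
    (85, ((0, -1), (-1, 1), (0, 0), (1, 0))),
    (86, ((0, 0), (0, 0), (0, 0), (-2, 0))),
    (89, ((0, -1), (-1, 1), (0, 0), (-1, 0))),
    (95, ((-1, 1), (0, -1), (1, 0), (0, 0))),
    (96, ((1, -1), (0, 0), (0, -1), (-1, 0))),
    (97, ((0, 0), (0, 1), (-1, 1), (1, 0))),
    (101, ((0, -1), (1, 0), (1, -1), (0, 0))),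
    (102, ((-1, 0), (0, 0), (1, -1), (0, -1))),
    (103, ((-1, 1), (-1, 0), (0, 0), (0, -1))),
    (105, ((-1, 0), (0, -1), (0, 0), (1, -1))),
    (107, ((-1, 0), (1, -1), (0, -1), (0, 0))),
    (108, ((0, 0), (-1, 0), (0, 1), (1, -1))),
    (110, ((1, -1), (0, 1), (1, 0), (0, 0))),
    (111, ((0, 0), (0, -1), (-1, 1), (1, 0))),
    (113, ((-1, 1), (0, 0), (0, -1), (-1, 0))),
    (115, ((0, -1), (0, 0), (1, 0), (1, -1))),
    (116, ((0, -1), (1, -1), (0, 0), (1, 0))),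
    (117, ((0, 0), (1, -1), (-1, 0), (0, 1)))]

def lift (σ : S5) : Q :=
  ((table.find? fun e => e.1 == 25 * (σ 0).val + 5 * (σ 1).val + (σ 2).val).map Prod.snd).getD qone

def gens : List (S5 × Q) :=
  [(gv, ((0, 0), (2, 0), (0, 0), (0, 0))), (gc, ((1, 0), (1, 0), (1, 0), (1, 0))),
    (gt, ((0, 1), (1, 0), (-1, 1), (0, 0)))]

theorem lift_gens : ∀ σ : S5, Equiv.Perm.sign σ = 1 → ∀ e ∈ gens,
    qm (lift σ) e.2 = dbl (lift (σ * e.1)) ∨ qm (lift σ) e.2 = dbl (qneg (lift (σ * e.1))) := by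
  decide +kernel

theorem gens_lift : ∀ e ∈ gens, Equiv.Perm.sign e.1 = 1 ∧ (lift e.1 = e.2 ∨ lift e.1 = qneg e.2) := by
  decide +kernel

theorem lift_one : lift 1 = qone := by decide +kernel

theorem lift_norm : ∀ σ : S5, Equiv.Perm.sign σ = 1 → qnorm (lift σ) = (4, 0) := by decide +kernel

theorem decomp : ∀ σ : S5, Equiv.Perm.sign σ = 1 →
    ∃ k : Fin 5, ∃ i j : Fin 3, σ = gt ^ k.val * gc ^ i.val ∨ σ = gt ^ k.val * gc ^ i.val * gv * gc ^ j.val := by
  decide +kernel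

variable {F : Type*} [Field F] [Fintype F]

local notation "SL2" => Matrix.SpecialLinearGroup (Fin 2) F
local notation "PSL2" => Matrix.ProjectiveSpecialLinearGroup (Fin 2) F

def ez (f : F) (z : Z) : F := (z.1 : F) + (z.2 : F) * f

theorem ez_mul {f : F} (hf : f ^ 2 = f + 1) (a b : Z) : ez f (zm a b) = ez f a * ez f b := by
  simp only [ez, zm, Int.cast_add, Int.cast_mul]
  linear_combination -((a.2 : F) * b.2) * hf

theorem ez_add (f : F) (a b : Z) : ez f (a + b) = ez f a + ez f b := by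
  simp [ez, add_mul]; ring

theorem ez_sub (f : F) (a b : Z) : ez f (a - b) = ez f a - ez f b := by
  simp [ez, sub_mul]; ring

theorem ez_neg (f : F) (a : Z) : ez f (-a) = -ez f a := by
  simp [ez]; ring

/-- the matrix of a quaternion -/
def mat (x y f : F) : Q → Matrix (Fin 2) (Fin 2) F
  | (a, b, c, d) => !![ez f a + ez f c * x - ez f d * y, -ez f b + ez f c * y + ez f d * x;
      ez f b + ez f c * y + ez f d * x, ez f a - ez f c * x + ez f d * y]

theorem mat_qm {x y f : F} (hxy : x ^ 2 + y ^ 2 = -1) (hf : f ^ 2 = f + 1) (p r : Q) :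
    mat x y f (qm p r) = mat x y f p * mat x y f r := by
  obtain ⟨a, b, c, d⟩ := p
  obtain ⟨e, g, h, k⟩ := r
  ext i j
  fin_cases i <;> fin_cases j <;> simp [mat, qm, ez_mul hf, ez_add, ez_sub, Matrix.mul_apply, Fin.sum_univ_two]
  · linear_combination -(ez f c * ez f h + ez f d * ez f k) * hxy
  · linear_combination -(ez f c * ez f k - ez f d * ez f h) * hxy
  · linear_combination -(ez f d * ez f h - ez f c * ez f k) * hxy
  · linear_combination -(ez f c * ez f h + ez f d * ez f k) * hxy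

theorem mat_dbl (x y f : F) (p : Q) : mat x y f (dbl p) = (2 : F) • mat x y f p := by
  obtain ⟨a, b, c, d⟩ := p
  ext i j
  fin_cases i <;> fin_cases j <;> simp [mat, dbl, ez_add] <;> ring

theorem mat_qneg (x y f : F) (p : Q) : mat x y f (qneg p) = -mat x y f p := by
  obtain ⟨a, b, c, d⟩ := p
  ext i j
  fin_cases i <;> fin_cases j <;> simp [mat, qneg, ez_neg] <;> ring

theorem mat_qone (x y f : F) : mat x y f qone = (2 : F) • 1 := by
  ext i j
  fin_cases i <;> fin_cases j <;> simp [mat, qone, ez]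

theorem det_mat {x y f : F} (hxy : x ^ 2 + y ^ 2 = -1) (hf : f ^ 2 = f + 1) (p : Q) :
    (mat x y f p).det = ez f (qnorm p) := by
  obtain ⟨a, b, c, d⟩ := p
  simp only [mat, qnorm, Matrix.det_fin_two_of, ez_mul hf, ez_add]
  linear_combination -(ez f c * ez f c + ez f d * ez f d) * hxy

theorem exists_alt_five (hodd : Fintype.card F % 2 = 1) {f : F} (hf : f ^ 2 = f + 1) :
    ∃ H : Subgroup PSL2, Nonempty (H ≃* alternatingGroup (Fin 5)) := by
  have h2 := Fus.PSL2Two.two_ne_zero' hodd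
  obtain ⟨x, y, hxy⟩ := Fus.PSL2Two.exists_two_squares hodd (-1 : F)
  have hdet : ∀ σ : alternatingGroup (Fin 5), ((2 : F)⁻¹ • mat x y f (lift σ)).det = 1 := fun σ => by
    rw [Matrix.det_smul, det_mat hxy hf, lift_norm _ (Equiv.Perm.mem_alternatingGroup.1 σ.2), Fintype.card_fin]
    simp [ez]
    field_simp
    norm_num
  let g : alternatingGroup (Fin 5) → SL2 := fun σ => ⟨(2 : F)⁻¹ • mat x y f (lift σ), hdet σ⟩
  let φ : alternatingGroup (Fin 5) → PSL2 := fun σ => QuotientGroup.mk (g σ)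
  have hval : ∀ σ, (g σ : Matrix (Fin 2) (Fin 2) F) = (2 : F)⁻¹ • mat x y f (lift σ) := fun σ => rfl
  have hsign : ∀ u v : SL2, (u : Matrix (Fin 2) (Fin 2) F) = v ∨ (u : Matrix (Fin 2) (Fin 2) F) = -v →
      (QuotientGroup.mk u : PSL2) = QuotientGroup.mk v := by
    intro u v h
    rw [QuotientGroup.eq]
    rcases h with h | h
    · rw [Subtype.ext h, inv_mul_cancel]; exact one_mem _
    · have huv : v = -u := Subtype.ext (by rw [Matrix.SpecialLinearGroup.coe_neg, h, neg_neg])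
      rw [huv, mul_neg, inv_mul_cancel]
      exact Fus.PSL2Two.neg_one_mem_center
  -- right multiplication by a generator
  have hstep : ∀ τ : alternatingGroup (Fin 5), (∃ e ∈ gens, (τ : S5) = e.1) → ∀ σ, φ (σ * τ) = φ σ * φ τ := by
    rintro τ ⟨e, he, hτ⟩ σ
    show _ = (QuotientGroup.mk (g σ * g τ) : PSL2)
    refine hsign _ _ ?_
    rw [Matrix.SpecialLinearGroup.coe_mul, hval, hval, hval]
    have h1 : mat x y f (lift (τ : S5)) = mat x y f e.2 ∨ mat x y f (lift (τ : S5)) = -mat x y f e.2 := by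
      rcases (gens_lift e he).2 with h | h <;> rw [hτ, h]
      · exact Or.inl rfl
      · exact Or.inr (mat_qneg ..)
    have h2' : mat x y f (lift σ) * mat x y f e.2 = (2 : F) • mat x y f (lift ((σ * τ : alternatingGroup (Fin 5)) : S5)) ∨
        mat x y f (lift σ) * mat x y f e.2 = -((2 : F) • mat x y f (lift ((σ * τ : alternatingGroup (Fin 5)) : S5))) := by
      rw [← mat_qm hxy hf, Subgroup.coe_mul, hτ]
      rcases lift_gens _ (Equiv.Perm.mem_alternatingGroup.1 σ.2) e he with h | h <;> rw [h, mat_dbl]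
      · exact Or.inl rfl
      · exact Or.inr (by rw [mat_qneg, smul_neg])
    rcases h1 with a | a <;> rcases h2' with b | b <;> first
      | (left; rw [a]; simp only [Matrix.smul_mul, Matrix.mul_smul, Matrix.mul_neg, b, smul_neg, neg_neg, smul_smul]
         congr 1; field_simp; done)
      | (right; rw [a]; simp only [Matrix.smul_mul, Matrix.mul_smul, Matrix.mul_neg, b, smul_neg, neg_neg, smul_smul]
         congr 1; field_simp; done)
  have hone : φ 1 = 1 := (QuotientGroup.eq_one_iff _).2 (by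
    have : g 1 = 1 := Subtype.ext (by
      rw [hval]
      show (2 : F)⁻¹ • mat x y f (lift 1) = 1
      rw [lift_one, mat_qone, inv_smul_smul₀ h2])
    rw [this]; exact one_mem _)
  let good : Submonoid (alternatingGroup (Fin 5)) :=
    { carrier := {τ | ∀ σ, φ (σ * τ) = φ σ * φ τ}
      one_mem' := fun σ => by rw [mul_one, hone, mul_one]
      mul_mem' := fun {a b} ha hb σ => by rw [← mul_assoc, hb, ha, hb a, mul_assoc] }
  have hall : ∀ τ, τ ∈ good := by
    intro τ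
    have hv : (⟨gv, Equiv.Perm.mem_alternatingGroup.2 (by decide)⟩ : alternatingGroup (Fin 5)) ∈ good :=
      hstep _ ⟨_, List.mem_cons_self, rfl⟩
    have hc : (⟨gc, Equiv.Perm.mem_alternatingGroup.2 (by decide)⟩ : alternatingGroup (Fin 5)) ∈ good :=
      hstep _ ⟨_, List.mem_cons_of_mem _ List.mem_cons_self, rfl⟩
    have ht : (⟨gt, Equiv.Perm.mem_alternatingGroup.2 (by decide)⟩ : alternatingGroup (Fin 5)) ∈ good :=
      hstep _ ⟨_, List.mem_cons_of_mem _ (List.mem_cons_of_mem _ List.mem_cons_self), rfl⟩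
    obtain ⟨k, i, j, h | h⟩ := decomp _ (Equiv.Perm.mem_alternatingGroup.1 τ.2)
    · exact (Subtype.ext h : τ = ⟨gt, _⟩ ^ k.val * ⟨gc, _⟩ ^ i.val) ▸ mul_mem (pow_mem ht _) (pow_mem hc _)
    · exact (Subtype.ext h : τ = ⟨gt, _⟩ ^ k.val * ⟨gc, _⟩ ^ i.val * ⟨gv, _⟩ * ⟨gc, _⟩ ^ j.val) ▸
        mul_mem (mul_mem (mul_mem (pow_mem ht _) (pow_mem hc _)) hv) (pow_mem hc _)
  let Φ : alternatingGroup (Fin 5) →* PSL2 :=
    { toFun := φ, map_one' := hone, map_mul' := fun σ τ => hall τ σ }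
  have hinj : Function.Injective Φ := by
    rw [← MonoidHom.ker_eq_bot_iff]
    refine ((MonoidHom.normal_ker Φ).eq_bot_or_eq_top).resolve_right fun htop => ?_
    have h1 : (⟨gv, Equiv.Perm.mem_alternatingGroup.2 (by decide)⟩ : alternatingGroup (Fin 5)) ∈ Φ.ker :=
      htop ▸ Subgroup.mem_top _
    have h3 : g ⟨gv, Equiv.Perm.mem_alternatingGroup.2 (by decide)⟩ ∈ Subgroup.center SL2 :=
      (QuotientGroup.eq_one_iff _).1 h1
    have hl : lift gv = ((0, 0), (2, 0), (0, 0), (0, 0)) ∨ lift gv = qneg ((0, 0), (2, 0), (0, 0), (0, 0)) :=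
      (gens_lift _ List.mem_cons_self).2
    have h10 : ∀ {u v : SL2}, u = v → u 1 0 = v 1 0 := fun h => by rw [h]
    rcases PSLTwoSpec.mem_Z.1 h3 with h | h <;> have h' := h10 h <;> rw [hval] at h' <;>
      rcases hl with hl | hl <;>
      simp [hl, mat, ez, qneg, h2, Matrix.SpecialLinearGroup.coe_neg] at h'
  exact ⟨Φ.range, ⟨(MonoidHom.ofInjective hinj).symm⟩⟩

theorem exists_root {g : SL2} (hg : orderOf g = 5) : ∃ f : F, f ^ 2 = f + 1 := by
  have h5 : g ^ 5 = 1 := hg ▸ pow_orderOf_eq_one g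
  obtain ⟨t, ht⟩ : ∃ t, t = g 0 0 + g 1 1 := ⟨_, rfl⟩
  obtain ⟨M, hM⟩ : ∃ M, M = (g : Matrix (Fin 2) (Fin 2) F) := ⟨_, rfl⟩
  have hd : g 0 0 * g 1 1 - g 0 1 * g 1 0 = 1 := (Matrix.det_fin_two _).symm.trans g.2
  have hM2 : M * M = t • M - 1 := by
    rw [hM, ht]
    ext i j
    fin_cases i <;> fin_cases j <;> simp [Matrix.mul_apply, Fin.sum_univ_two] <;> first
      | ring1 | linear_combination -hd | linear_combination hd
  have hM5 : M ^ 5 = (t ^ 4 - 3 * t ^ 2 + 1) • M - (t ^ 3 - 2 * t) • 1 := by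
    have h3 : M ^ 3 = (t ^ 2 - 1) • M - t • 1 := by
      rw [pow_succ, pow_two, hM2, Matrix.sub_mul, Matrix.one_mul, Matrix.smul_mul, hM2]
      module
    rw [show M ^ 5 = M ^ 3 * (M * M) by simp only [pow_succ, pow_zero, one_mul, mul_assoc], h3, hM2, Matrix.sub_mul, Matrix.smul_mul, Matrix.smul_mul,
      Matrix.one_mul, Matrix.mul_sub, Matrix.mul_smul, hM2, Matrix.mul_one]
    module
  have h1 : M ^ 5 = 1 := by
    rw [hM, ← Matrix.SpecialLinearGroup.coe_pow, h5]; rfl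
  by_cases ha : t ^ 4 - 3 * t ^ 2 + 1 = 0
  · rcases mul_eq_zero.1 (show (t ^ 2 - t - 1) * (t ^ 2 + t - 1) = 0 by linear_combination ha) with h | h
    · exact ⟨t, by linear_combination h⟩
    · exact ⟨-t, by linear_combination h⟩
  · exfalso
    obtain ⟨s, hs⟩ : ∃ s : F, M = s • 1 := by
      refine ⟨(t ^ 4 - 3 * t ^ 2 + 1)⁻¹ * (1 + (t ^ 3 - 2 * t)), ?_⟩
      rw [← smul_smul, add_smul, one_smul]
      nth_rewrite 1 [show (1 : Matrix (Fin 2) (Fin 2) F) = M ^ 5 from h1.symm]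
      rw [hM5, sub_add_cancel, inv_smul_smul₀ ha]
    have hg1 : g * g = 1 := by
      refine Subtype.ext ?_
      rw [Matrix.SpecialLinearGroup.coe_mul, ← hM, hs]
      have hdet : s * s = 1 := by
        have := congrArg Matrix.det hs
        rw [hM, g.2, Matrix.det_smul, Fintype.card_fin, Matrix.det_one, mul_one, pow_two] at this
        exact this.symm
      simp [Matrix.smul_mul, smul_smul, hdet]
    have := orderOf_dvd_of_pow_eq_one ((pow_two g).trans hg1)
    rw [hg] at this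
    exact absurd (Nat.le_of_dvd two_pos this) (by norm_num)

theorem exists_alt_five_two (h2 : ringChar F = 2) {m : ℕ} (hm : (4 : ℕ) ^ m = Fintype.card F) :
    ∃ H : Subgroup PSL2, Nonempty (H ≃* alternatingGroup (Fin 5)) := by
  haveI : Fact (Nat.Prime 2) := ⟨Nat.prime_two⟩
  haveI : Fintype (GaloisField 2 2) := Fintype.ofFinite _
  have hc : Fintype.card (GaloisField 2 2) = 4 := by
    rw [← Nat.card_eq_fintype_card, GaloisField.card 2 2 two_ne_zero]; rfl
  obtain ⟨f⟩ := PSL2Sub.exists_ringHom (F := F) (K := GaloisField 2 2) m (by rw [hc, hm])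
  obtain ⟨H, ⟨e⟩⟩ := PSL2Sub.exists_PSL f
  obtain ⟨e'⟩ := ProjLine.equiv_alternating (F := GaloisField 2 2) hc (by norm_num) (by decide)
  exact ⟨H, ⟨e.trans e'⟩⟩

end CfsgLib.Lie.PSL2Five
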