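import Cfsg.Agent.Lie.PSL2Small
import Mathlib.FieldTheory.Finite.GaloisField
import Mathlib.LinearAlgebra.Matrix.GeneralLinearGroup.Projective

/-!
Subfield subgroups of PSL₂.
-/

set_option autoImplicit false
set_option linter.unusedSectionVars false

namespace CfsgLib.Lie.PSL2Sub

open Polynomial in
theorem exists_ringHom {F K : Type*} [Field F] [Fintype F] [Field K] [Fintype K] (m : ℕ)
    (h : Fintype.card K ^ m = Fintype.card F) : Nonempty (K →+* F) := by
  obtain ⟨p, hp⟩ := CharP.exists K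
  haveI := hp
  haveI hpf : Fact p.Prime := ⟨CharP.char_is_prime K p⟩
  obtain ⟨a, -, ha⟩ := FiniteField.card K p
  obtain ⟨r, hr⟩ := CharP.exists F
  haveI := hr
  haveI hrf : Fact r.Prime := ⟨CharP.char_is_prime F r⟩
  obtain ⟨b, -, hb⟩ := FiniteField.card F r
  have hrp : r = p := by
    rw [ha, hb, ← pow_mul] at h
    have hd : r ∣ p ^ ((a : ℕ) * m) := h ▸ dvd_pow_self r b.ne_zero
    exact (Nat.prime_dvd_prime_iff_eq hrf.out hpf.out).1 (hrf.out.dvd_of_dvd_pow hd)
  subst hrp
  letI := ZMod.algebra K r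
  letI := ZMod.algebra F r
  haveI := FiniteField.isSplittingField_of_card_eq (K := K) r (a : ℕ) ha
  have hdvd : (X ^ r ^ (a : ℕ) - X : (ZMod r)[X]) ∣ X ^ Fintype.card F - X := by
    rw [← ha, ← h]
    have h1 : 1 ≤ Fintype.card K := Fintype.card_pos
    have h2 : 1 ≤ Fintype.card K ^ m := Nat.one_le_pow _ _ Fintype.card_pos
    obtain ⟨d, hd⟩ : Fintype.card K - 1 ∣ Fintype.card K ^ m - 1 := by
      simpa using Nat.sub_dvd_pow_sub_pow (Fintype.card K) 1 m
    have key : ∀ n, 1 ≤ n → (X ^ n - X : (ZMod r)[X]) = X * (X ^ (n - 1) - 1) := fun n hn => by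
      rw [mul_sub, mul_one, ← pow_succ', Nat.sub_add_cancel hn]
    rw [key _ h1, key _ h2, hd, pow_mul]
    exact mul_dvd_mul_left _ (by simpa using sub_dvd_pow_sub_pow ((X : (ZMod r)[X]) ^ (Fintype.card K - 1)) 1 d)
  have hne : (map (algebraMap (ZMod r) F) (X ^ Fintype.card F - X)) ≠ 0 := by
    rw [Polynomial.map_sub, Polynomial.map_pow, Polynomial.map_X]
    exact FiniteField.X_pow_card_sub_X_ne_zero F Fintype.one_lt_card
  exact ⟨(Polynomial.IsSplittingField.lift K (X ^ r ^ (a : ℕ) - X : (ZMod r)[X])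
    ((FiniteField.splits_X_pow_card_sub_X (p := r)).of_dvd hne (Polynomial.map_dvd _ hdvd))).toRingHom⟩

variable {F K : Type*} [Field F] [Fintype F] [Field K] [Fintype K]

theorem exists_PSL (f : K →+* F) : ∃ H : Subgroup (Matrix.ProjectiveSpecialLinearGroup (Fin 2) F),
    Nonempty (H ≃* Matrix.ProjectiveSpecialLinearGroup (Fin 2) K) := by
  obtain ⟨φ, hφ⟩ : ∃ φ, φ = Matrix.SpecialLinearGroup.map (n := Fin 2) f := ⟨_, rfl⟩
  have hval : ∀ g i j, φ g i j = f (g i j) := fun g i j => by rw [hφ]; rfl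
  have hcen : ∀ g, g ∈ Subgroup.center (Matrix.SpecialLinearGroup (Fin 2) K) ↔
      φ g ∈ Subgroup.center (Matrix.SpecialLinearGroup (Fin 2) F) := by
    intro g
    rw [PSLTwoSpec.mem_Z, PSLTwoSpec.mem_Z]
    constructor
    · rintro (rfl | rfl)
      · exact Or.inl (map_one _)
      · right; ext i j
        rw [hval, Matrix.SpecialLinearGroup.coe_neg, Matrix.SpecialLinearGroup.coe_neg]
        fin_cases i <;> fin_cases j <;> simp
    · rintro (h | h)
      · left; ext i j
        refine f.injective ?_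
        rw [← hval, h]
        fin_cases i <;> fin_cases j <;> simp
      · right; ext i j
        refine f.injective ?_
        rw [← hval, h, Matrix.SpecialLinearGroup.coe_neg, Matrix.SpecialLinearGroup.coe_neg]
        fin_cases i <;> fin_cases j <;> simp
  let ψ := QuotientGroup.map (Subgroup.center (Matrix.SpecialLinearGroup (Fin 2) K))
    (Subgroup.center (Matrix.SpecialLinearGroup (Fin 2) F)) φ (fun g hg => (hcen g).1 hg)
  have hψ : Function.Injective ψ := by
    rw [injective_iff_map_eq_one]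
    intro x
    induction x using QuotientGroup.induction_on with
    | H g =>
      intro hg
      replace hg : φ g ∈ Subgroup.center (Matrix.SpecialLinearGroup (Fin 2) F) := (QuotientGroup.eq_one_iff _).1 hg
      exact (QuotientGroup.eq_one_iff _).2 ((hcen g).2 hg)
  exact ⟨ψ.range, ⟨(MonoidHom.ofInjective hψ).symm⟩⟩

theorem exists_PGL (f : K →+* F) (hsq : ∀ a : K, a ≠ 0 → IsSquare (f a)) :
    ∃ H : Subgroup (Matrix.ProjectiveSpecialLinearGroup (Fin 2) F),
      Nonempty (H ≃* Matrix.ProjGenLinGroup (Fin 2) K) := by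
  refine PSL2Small.exists_equiv_of_rel (G := Matrix.SpecialLinearGroup (Fin 2) F)
    (N := Subgroup.center (Matrix.SpecialLinearGroup (Fin 2) F))
    (fun a g => ∃ A : GL (Fin 2) K, Matrix.ProjGenLinGroup.mk A = a ∧ ∃ s : F, s ≠ 0 ∧
      (A : Matrix (Fin 2) (Fin 2) K).map f = s • (g : Matrix (Fin 2) (Fin 2) F))
    ⟨1, map_one _, 1, one_ne_zero, by simp⟩ ?_ ?_ ?_ ?_
  · rintro a b g h ⟨A, hA, s, hs, hAs⟩ ⟨B, hB, t, ht, hBt⟩
    refine ⟨A * B, by rw [map_mul, hA, hB], s * t, mul_ne_zero hs ht, ?_⟩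
    rw [Units.val_mul, Matrix.map_mul, hAs, hBt, Matrix.SpecialLinearGroup.coe_mul, Matrix.smul_mul, Matrix.mul_smul,
      smul_smul]
  · rintro a g h ⟨A, hA, s, hs, hAs⟩ ⟨B, hB, t, ht, hBt⟩
    obtain ⟨u, hu⟩ := Matrix.ProjGenLinGroup.mk_eq_mk_iff.1 (hA.trans hB.symm)
    obtain ⟨c, hc⟩ : ∃ c, (h : Matrix (Fin 2) (Fin 2) F) = c • (g : Matrix (Fin 2) (Fin 2) F) := by
      refine ⟨t⁻¹ * (f u * s), ?_⟩
      have hBA : (B : Matrix (Fin 2) (Fin 2) K) = (u : K) • (A : Matrix (Fin 2) (Fin 2) K) := by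
        rw [← hu, Units.val_mul, Matrix.GeneralLinearGroup.coe_scalar]
        ext i j
        fin_cases i <;> fin_cases j <;> simp [Matrix.mul_apply, Fin.sum_univ_two, Matrix.scalar_apply, mul_comm]
      have : t • (h : Matrix (Fin 2) (Fin 2) F) = (f u * s) • (g : Matrix (Fin 2) (Fin 2) F) := by
        rw [← hBt, hBA, ← smul_smul, ← hAs]
        ext i j
        simp
      rw [← smul_smul, ← this, inv_smul_smul₀ ht]
    have hd := congrArg Matrix.det hc
    rw [Matrix.det_smul, h.2, g.2, Fintype.card_fin, mul_one, pow_two] at hd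
    rw [PSLTwoSpec.mem_Z]
    rcases mul_self_eq_one_iff.1 hd.symm with rfl | rfl
    · left; rw [show h = g from Subtype.ext (by rw [hc, one_smul]), inv_mul_cancel]
    · right
      rw [show h = -g from Subtype.ext (by rw [hc, Matrix.SpecialLinearGroup.coe_neg, neg_one_smul]), mul_neg,
        inv_mul_cancel]
  · rintro a g ⟨A, hA, s, hs, hAs⟩ hg
    rw [← hA, Matrix.ProjGenLinGroup.mk_eq_one, Matrix.GeneralLinearGroup.center_eq_range_scalar]
    have hg' : g 0 1 = 0 ∧ g 1 0 = 0 ∧ g 0 0 = g 1 1 := by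
      rcases PSLTwoSpec.mem_Z.1 hg with rfl | rfl <;> simp [Matrix.SpecialLinearGroup.coe_neg]
    have e := fun i j => congrFun (congrFun hAs i) j
    have h01 : (A : Matrix (Fin 2) (Fin 2) K) 0 1 = 0 := f.injective (by rw [map_zero]; simpa [hg'.1] using e 0 1)
    have h10 : (A : Matrix (Fin 2) (Fin 2) K) 1 0 = 0 := f.injective (by rw [map_zero]; simpa [hg'.2.1] using e 1 0)
    have h00 : (A : Matrix (Fin 2) (Fin 2) K) 0 0 = (A : Matrix (Fin 2) (Fin 2) K) 1 1 := f.injective (by
      have e0 := e 0 0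
      have e1 := e 1 1
      simp only [Matrix.map_apply, Matrix.smul_apply] at e0 e1
      rw [e0, e1, hg'.2.2])
    have hd : (A : Matrix (Fin 2) (Fin 2) K) 0 0 ≠ 0 := fun h0 => by
      refine (Matrix.isUnit_iff_isUnit_det _).1 A.isUnit |>.ne_zero ?_
      rw [Matrix.det_fin_two, h0, h01]; ring
    refine ⟨Units.mk0 _ hd, Units.ext ?_⟩
    ext i j
    fin_cases i <;> fin_cases j <;> simp [Matrix.scalar_apply, h01, h10, ← h00]
  · intro a
    obtain ⟨A, rfl⟩ := Matrix.ProjGenLinGroup.mk_surjective a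
    have hd : (A : Matrix (Fin 2) (Fin 2) K).det ≠ 0 := ((Matrix.isUnit_iff_isUnit_det _).1 A.isUnit).ne_zero
    obtain ⟨s, hs⟩ := hsq _ hd
    have hs0 : s ≠ 0 := fun h => by
      rw [h, mul_zero] at hs
      exact hd (f.injective (hs.trans (map_zero f).symm))
    refine ⟨⟨s⁻¹ • (A : Matrix (Fin 2) (Fin 2) K).map f, ?_⟩, A, rfl, s, hs0, ?_⟩
    · rw [Matrix.det_smul, Fintype.card_fin]
      have : ((A : Matrix (Fin 2) (Fin 2) K).map f).det = f (A : Matrix (Fin 2) (Fin 2) K).det :=
        (RingHom.map_det f _).symm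
      rw [this, hs]; field_simp
    · show _ = s • (s⁻¹ • _)
      rw [smul_inv_smul₀ hs0]

theorem exists_order_PGL : ∃ x : Matrix.ProjGenLinGroup (Fin 2) K, orderOf x = Fintype.card K + 1 := by
  obtain ⟨a, ha⟩ := PSLTwoSpec.exists_irreducible (F := K)
  haveI : Fact (∀ r : K, r ^ 2 ≠ a + 1 * r) := ⟨ha⟩
  haveI : Finite (QuadraticAlgebra K a 1) := Finite.of_equiv _ (QuadraticAlgebra.equivProd a (1 : K)).symm
  set q := Fintype.card K with hq
  have hq1 : 1 < q := Fintype.one_lt_card
  have hqsq : (q - 1) * (q + 1) = q ^ 2 - 1 := by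
    have := Nat.sq_sub_sq q 1
    rw [one_pow] at this; rw [this, mul_comm]
  have hK : Nat.card (QuadraticAlgebra K a 1) = q * q := by
    rw [Nat.card_congr (QuadraticAlgebra.equivProd a (1 : K)), Nat.card_prod, Nat.card_eq_fintype_card, hq]
  obtain ⟨z, hz⟩ := IsCyclic.exists_ofOrder_eq_natCard (α := (QuadraticAlgebra K a 1)ˣ)
  rw [Nat.card_units, hK, ← pow_two, ← hqsq] at hz
  let φ : QuadraticAlgebra K a 1 →* Matrix (Fin 2) (Fin 2) K :=
    { toFun := fun z => !![z.re, a * z.im; z.im, z.re + z.im]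
      map_one' := by
        ext i j
        fin_cases i <;> fin_cases j <;> simp [QuadraticAlgebra.re_one, QuadraticAlgebra.im_one]
      map_mul' := fun r s => by
        ext i j; fin_cases i <;> fin_cases j <;> simp [Matrix.mul_apply, Fin.sum_univ_two] <;> ring }
  obtain ⟨A, hA⟩ : ∃ A : GL (Fin 2) K, A = Units.map φ z := ⟨_, rfl⟩
  have hpow : ∀ k : ℕ, ((A ^ k : GL (Fin 2) K) : Matrix (Fin 2) (Fin 2) K) =
      φ ((z ^ k : (QuadraticAlgebra K a 1)ˣ) : QuadraticAlgebra K a 1) := fun k => by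
    rw [hA, ← map_pow]; rfl
  have hscal : ∀ k, (Matrix.ProjGenLinGroup.mk A) ^ k = 1 ↔ q + 1 ∣ k := by
    intro k
    rw [← map_pow, Matrix.ProjGenLinGroup.mk_eq_one, Matrix.GeneralLinearGroup.center_eq_range_scalar]
    constructor
    · rintro ⟨u, hu⟩
      have h := congrArg (fun M : GL (Fin 2) K => (M : Matrix (Fin 2) (Fin 2) K)) hu
      simp only [hpow] at h
      obtain ⟨w, hw⟩ : ∃ w, w = ((z ^ k : (QuadraticAlgebra K a 1)ˣ) : QuadraticAlgebra K a 1) := ⟨_, rfl⟩
      rw [← hw] at h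
      have him : w.im = 0 := by
        have := congrFun (congrFun h 1) 0
        simpa [φ, Matrix.scalar_apply] using this.symm
      have hw' : w = algebraMap K (QuadraticAlgebra K a 1) w.re := by
        ext <;> simp [him]
      have h0 : w.re ≠ 0 := fun h0 => by
        rw [h0, map_zero] at hw'
        exact (z ^ k).ne_zero (hw.symm.trans hw')
      have h1 : z ^ (k * (q - 1)) = 1 := Units.ext (by
        rw [pow_mul, Units.val_pow_eq_pow_val, ← hw, hw', ← map_pow, hq, FiniteField.pow_card_sub_one_eq_one _ h0,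
          map_one, Units.val_one])
      have h2 := orderOf_dvd_of_pow_eq_one h1
      rw [hz, mul_comm k] at h2
      exact Nat.dvd_of_mul_dvd_mul_left (by omega) h2
    · rintro ⟨d, rfl⟩
      obtain ⟨w, hw⟩ : ∃ w, w = ((z ^ ((q + 1) * d) : (QuadraticAlgebra K a 1)ˣ) : QuadraticAlgebra K a 1) := ⟨_, rfl⟩
      have hwq : w ^ q = w := by
        rw [hw, ← Units.val_pow_eq_pow_val, ← pow_mul]
        congr 1
        rw [show (q + 1) * d * q = (q - 1) * (q + 1) * d + (q + 1) * d by
          rw [show (q - 1) * (q + 1) * d + (q + 1) * d = ((q - 1) + 1) * ((q + 1) * d) by ring,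
            Nat.sub_add_cancel hq1.le]
          ring, pow_add, pow_mul z ((q - 1) * (q + 1)), ← hz, pow_orderOf_eq_one, one_pow, one_mul]
      -- the roots of X^q = X in the extension lie in the ground field
      have him : w.im = 0 := by
        by_contra hne
        classical
        haveI : Fintype (QuadraticAlgebra K a 1) := Fintype.ofFinite _
        let s : Finset (QuadraticAlgebra K a 1) := insert w (Finset.univ.image (algebraMap K (QuadraticAlgebra K a 1)))
        have hcard : s.card = q + 1 := by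
          rw [Finset.card_insert_of_notMem, Finset.card_image_of_injective _ (RingHom.injective _), Finset.card_univ]
          intro hmem
          obtain ⟨c, -, hc⟩ := Finset.mem_image.1 hmem
          exact hne (by rw [← hc]; simp)
        have hroot : s.val ⊆ (Polynomial.X ^ q - Polynomial.X : Polynomial (QuadraticAlgebra K a 1)).roots := by
          intro x hx
          have hX : (Polynomial.X ^ q - Polynomial.X : Polynomial (QuadraticAlgebra K a 1)) ≠ 0 :=
            FiniteField.X_pow_card_sub_X_ne_zero _ hq1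
          rw [Polynomial.mem_roots hX]
          simp only [Finset.mem_val, s, Finset.mem_insert, Finset.mem_image] at hx
          rcases hx with rfl | ⟨c, -, rfl⟩
          · simp [hwq]
          · simp [← map_pow, hq, FiniteField.pow_card]
        have h1 := Polynomial.card_le_degree_of_subset_roots hroot
        rw [hcard, FiniteField.X_pow_card_sub_X_natDegree_eq _ hq1] at h1
        omega
      have h0 : w.re ≠ 0 := fun h0 => (z ^ ((q + 1) * d)).ne_zero (hw.symm.trans (by ext <;> simp [h0, him]))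
      refine ⟨Units.mk0 _ h0, Units.ext ?_⟩
      rw [hpow, ← hw]
      ext i j
      fin_cases i <;> fin_cases j <;> simp [φ, Matrix.scalar_apply, him]
  refine ⟨Matrix.ProjGenLinGroup.mk A, Nat.dvd_antisymm (orderOf_dvd_of_pow_eq_one ((hscal _).2 dvd_rfl)) ?_⟩
  exact (hscal _).1 (pow_orderOf_eq_one _)

end CfsgLib.Lie.PSL2Sub
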