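import Cfsg.Agent.Lie.DicksonDihedral
import Cfsg.Agent.Lie.PSL2Sub
import Cfsg.Agent.Lie.PSL2Five
import Cfsg.Agent.Lie.SLn
import Cfsg.Agent.Char.Burnside

/-!
Solvability of subgroups of PSL₂.
-/

set_option autoImplicit false
set_option linter.unusedSectionVars false
set_option linter.style.haveILetI false

namespace CfsgLib.Lie.DicksonMinSimple

open Matrix ProjLine DicksonLine DicksonBig DicksonCor

variable {F : Type*} [Field F] [Fintype F]

local notation "PSL₂" => Matrix.ProjectiveSpecialLinearGroup (Fin 2) F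

theorem not_comm : ¬ ∀ a b : PSL₂, a * b = b * a := by
  intro h
  obtain ⟨A, hA⟩ : ∃ A : Matrix.SpecialLinearGroup (Fin 2) F, A.1 = !![1, 1; 0, 1] :=
    ⟨⟨!![1, 1; 0, 1], by simp [Matrix.det_fin_two]⟩, rfl⟩
  obtain ⟨B, hB⟩ : ∃ B : Matrix.SpecialLinearGroup (Fin 2) F, B.1 = !![1, 0; 1, 1] :=
    ⟨⟨!![1, 0; 1, 1], by simp [Matrix.det_fin_two]⟩, rfl⟩
  have eA : ProjectiveSpecialLinearGroup.toPGL (QuotientGroup.mk A : PSL₂) = T (1 : F) := by
    show ProjGenLinGroup.mk (SpecialLinearGroup.toGL A) = _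
    rw [T]; congr 1; exact Units.ext hA
  have eB : ProjectiveSpecialLinearGroup.toPGL (QuotientGroup.mk B : PSL₂) = L (1 : F) := by
    show ProjGenLinGroup.mk (SpecialLinearGroup.toGL B) = _
    rw [L]; congr 1; exact Units.ext hB
  have h' := congrArg ProjectiveSpecialLinearGroup.toPGL (h (QuotientGroup.mk A) (QuotientGroup.mk B))
  rw [map_mul, map_mul, eA, eB] at h'
  have h'' := congrArg (fun g : Matrix.ProjGenLinGroup (Fin 2) F => g • (P0 : Pt F)) h'
  simp only [mul_smul, L_smul_P0 (one_ne_zero' F), T_smul_P0, inv_one, T_smul_pt] at h''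
  have := pt_inj h''
  exact one_ne_zero (add_eq_left.1 this)

theorem isSimple (h4 : 4 ≤ Fintype.card F) : IsSimpleGroup PSL₂ := by
  classical
  refine CfsgLib.Lie.SLn.isSimpleGroup_PSL (Or.inr ?_)
  by_contra h
  push Not at h
  have hsub : (Finset.univ : Finset F) ⊆ {0, 1, -1} := by
    intro a _
    by_cases ha : a = 0
    · simp [ha]
    · rcases sq_eq_one_iff.1 (h a ha) with e | e <;> simp [e]
  have := (Finset.card_le_card hsub).trans (Finset.card_le_three)
  rw [Finset.card_univ] at this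
  omega

theorem not_solvable (h4 : 4 ≤ Fintype.card F) : ¬ Group.IsSolvable PSL₂ := fun h => by
  haveI := isSimple h4
  exact not_comm (F := F) (IsSimpleGroup.comm_iff_isSolvable.2 h)

theorem solvable_borel (y : Pt F) : Group.IsSolvable (borel y) := by
  obtain ⟨p, hp⟩ := CharP.exists F
  haveI : Fact p.Prime := ⟨CharP.char_is_prime F p⟩
  obtain ⟨a, ha⟩ := DicksonPSL.exists_smul_P0 y
  let c : borel y →* Matrix.ProjGenLinGroup (Fin 2) F :=
    (ProjectiveSpecialLinearGroup.toPGL.comp (MulAut.conj a⁻¹).toMonoidHom).comp (borel y).subtype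
  have hc : Function.Injective c :=
    (ProjectiveSpecialLinearGroup.toPGL_injective.comp (MulAut.conj a⁻¹).injective).comp (borel y).subtype_injective
  have hfix : ∀ g, c g • (P0 : Pt F) = P0 := fun g => by
    show ProjectiveSpecialLinearGroup.toPGL (a⁻¹ * g.1 * a⁻¹⁻¹) • (P0 : Pt F) = P0
    rw [inv_inv, map_mul, map_mul, map_inv, mul_smul, mul_smul, ha, mem_borel.1 g.2, inv_smul_eq_iff, ha]
  let χ : borel y →* Fˣ := MonoidHom.mk' (fun g => Units.mk0 _ (ratio_ne_zero (hfix g)))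
    (fun g k => Units.ext (by
      show ratio (c (g * k)) = ratio (c g) * ratio (c k)
      rw [map_mul]; exact ratio_mul (hfix g) (hfix k)))
  have hker : ∀ g : χ.ker, ∃ b, c g.1 = T b := fun g => by
    refine eq_T p (hfix g.1) ((pow_eq_one_iff_ratio p (hfix g.1)).1 ?_)
    exact congrArg Units.val (MonoidHom.mem_ker.1 g.2)
  haveI : Group.IsSolvable χ.ker := Group.isSolvable_of_comm fun g k => by
    obtain ⟨b, hb⟩ := hker g
    obtain ⟨d, hd⟩ := hker k
    refine Subtype.ext (hc ?_)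
    rw [Subgroup.coe_mul, Subgroup.coe_mul, map_mul, map_mul, hb, hd, T_mul, T_mul, add_comm]
  exact Group.isSolvable_of_ker_le_range χ.ker.subtype χ (Subgroup.range_subtype _).ge

theorem solvable_dihedral (k : ℕ) [NeZero k] : Group.IsSolvable (DihedralGroup k) := by
  let f : Multiplicative (ZMod k) →* DihedralGroup k := MonoidHom.mk' (fun i => DihedralGroup.r i.toAdd)
    (fun i j => by simp)
  let g : DihedralGroup k →* Multiplicative (ZMod 2) := MonoidHom.mk'
    (fun x => match x with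
      | DihedralGroup.r _ => 1
      | DihedralGroup.sr _ => Multiplicative.ofAdd 1)
    (by rintro (i | i) (j | j) <;> simp <;> decide)
  refine Group.isSolvable_of_ker_le_range f g ?_
  rintro (i | i) h
  · exact ⟨Multiplicative.ofAdd i, rfl⟩
  · exfalso
    have h' : (Multiplicative.ofAdd 1 : Multiplicative (ZMod 2)) = 1 := h
    revert h'; decide

theorem not_solvable_alt5 : ¬ Group.IsSolvable (alternatingGroup (Fin 5)) := fun h => by
  refine Equiv.Perm.not_isSolvable_fin_5 ?_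
  exact Group.isSolvable_of_ker_le_range (alternatingGroup (Fin 5)).subtype
    (Equiv.Perm.sign : Equiv.Perm (Fin 5) →* ℤˣ) (le_of_eq (Subgroup.range_subtype _).symm)

theorem solvable_cases (H : Subgroup PSL₂) (hH : H ≠ ⊤)
    (h60 : 60 ∣ Nat.card PSL₂ → Nat.card PSL₂ = 60)
    (hsub : ∀ r m : ℕ, 2 ≤ m → r ^ m = Fintype.card F → 3 ≤ r → r = 3) : Group.IsSolvable H := by
  have two3 : ∀ {G : Type} [Group G] [Finite G] (a b : ℕ), Nat.card G = 2 ^ a * 3 ^ b → Group.IsSolvable G :=
    fun a b h => CfsgLib.Char.solvable_of_card_two_primes 2 3 a b Nat.prime_two Nat.prime_three h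
  rcases psl_cases H hH with ⟨y, hy⟩ | ⟨hc, -⟩ | ⟨k, e, hk2, -, -, ⟨t⟩, -⟩ | ⟨⟨t⟩, hc⟩ | ⟨⟨t⟩, hc⟩ | ⟨-, hc⟩ |
    ⟨K, _, _, m, hm2, hm, hr3, hK⟩
  · haveI := solvable_borel y
    exact Group.isSolvable_of_isSolvable_injective (Subgroup.inclusion_injective hy)
  · letI := hc.commGroup
    exact Group.isSolvable_of_comm mul_comm
  · haveI : NeZero k := ⟨by omega⟩
    haveI := solvable_dihedral k
    exact Group.isSolvable_of_isSolvable_injective (f := t.toMonoidHom) t.injective
  · haveI := two3 (G := alternatingGroup (Fin 4)) 2 1 (by rw [← Nat.card_congr t.toEquiv, hc]; norm_num)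
    exact Group.isSolvable_of_isSolvable_injective (f := t.toMonoidHom) t.injective
  · haveI := two3 (G := Equiv.Perm (Fin 4)) 3 1 (by rw [← Nat.card_congr t.toEquiv, hc]; norm_num)
    exact Group.isSolvable_of_isSolvable_injective (f := t.toMonoidHom) t.injective
  · exact absurd (Subgroup.eq_top_of_card_eq H (hc.trans (h60 (hc ▸ Subgroup.card_subgroup_dvd_card H)).symm)) hH
  · have hK3 := hsub _ m hm2 hm hr3
    rcases hK with ⟨⟨t⟩, hc⟩ | ⟨⟨t⟩, hc⟩
    · rw [hK3] at hc
      norm_num at hc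
      haveI := two3 (G := Matrix.ProjectiveSpecialLinearGroup (Fin 2) K) 2 1 (by
        rw [← Nat.card_congr t.toEquiv]; omega)
      exact Group.isSolvable_of_isSolvable_injective (f := t.toMonoidHom) t.injective
    · rw [hK3] at hc
      norm_num at hc
      haveI : Finite (Matrix.ProjGenLinGroup (Fin 2) K) := Finite.of_equiv _ t.toEquiv
      haveI := two3 (G := Matrix.ProjGenLinGroup (Fin 2) K) 3 1 (by
        rw [← Nat.card_congr t.toEquiv]; omega)
      exact Group.isSolvable_of_isSolvable_injective (f := t.toMonoidHom) t.injective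

/-- A₅ subgroups -/
theorem exists_alt5 (hodd : Fintype.card F % 2 = 1) (h5 : 5 ∣ Fintype.card F ^ 2 - 1) :
    ∃ H : Subgroup PSL₂, Nonempty (H ≃* alternatingGroup (Fin 5)) := by
  haveI : Fact (Nat.Prime 5) := ⟨Nat.prime_five⟩
  haveI : Fintype (Matrix.SpecialLinearGroup (Fin 2) F) := Fintype.ofFinite _
  obtain ⟨g, hg⟩ := exists_prime_orderOf_dvd_card' (G := Matrix.SpecialLinearGroup (Fin 2) F) 5
    (by rw [Orders.card_SL_two rfl]; exact h5.mul_left _)
  obtain ⟨f, hf⟩ := PSL2Five.exists_root hg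
  exact PSL2Five.exists_alt_five hodd hf

theorem not_minimal_of_alt5 (hodd : Fintype.card F % 2 = 1) (h5 : 5 ∣ Fintype.card F ^ 2 - 1)
    (hne : Nat.card PSL₂ ≠ 60) : ∃ H : Subgroup PSL₂, H ≠ ⊤ ∧ ¬ Group.IsSolvable H := by
  obtain ⟨H, ⟨t⟩⟩ := exists_alt5 hodd h5
  refine ⟨H, fun e => hne ?_, fun h => not_solvable_alt5 ?_⟩
  · rw [← Subgroup.card_top (G := PSL₂), ← e, Nat.card_congr t.toEquiv, nat_card_alternatingGroup, Nat.card_fin]
    rfl
  · exact Group.isSolvable_of_isSolvable_injective (f := t.symm.toMonoidHom) t.symm.injective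

theorem not_minimal_of_subfield (p a b : ℕ) [Fact p.Prime] (hq : Fintype.card F = p ^ (a * b)) (ha : a ≠ 0)
    (hb : 2 ≤ b) (h4 : 4 ≤ p ^ a) : ∃ H : Subgroup PSL₂, H ≠ ⊤ ∧ ¬ Group.IsSolvable H := by
  haveI : Fintype (GaloisField p a) := Fintype.ofFinite _
  have hc : Fintype.card (GaloisField p a) = p ^ a := by rw [← Nat.card_eq_fintype_card, GaloisField.card p a ha]
  obtain ⟨f⟩ := PSL2Sub.exists_ringHom (F := F) (K := GaloisField p a) b (by rw [hc, hq, pow_mul])
  obtain ⟨H, ⟨t⟩⟩ := PSL2Sub.exists_PSL f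
  refine ⟨H, fun e => ?_, fun h => not_solvable (F := GaloisField p a) (hc ▸ h4) ?_⟩
  · have h1 := card_PSL F
    have h2 := card_PSL (GaloisField p a)
    have hcard : Nat.card PSL₂ = Nat.card (Matrix.ProjectiveSpecialLinearGroup (Fin 2) (GaloisField p a)) := by
      rw [← Nat.card_congr t.toEquiv, e, Subgroup.card_top]
    rw [← hcard, hc] at h2
    have hlt : p ^ a < Fintype.card F := by
      rw [hq]
      refine Nat.pow_lt_pow_right (Fact.out : p.Prime).one_lt ?_
      have := Nat.mul_le_mul_left a hb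
      omega
    obtain ⟨r, hr⟩ : ∃ r, r = p ^ a := ⟨_, rfl⟩
    rw [← hr] at h2 h4 hlt
    have hN : 0 < Nat.card PSL₂ := Nat.card_pos
    have hg1 : Nat.gcd 2 (r - 1) ≤ 2 := Nat.gcd_le_left _ two_pos
    have hg2 : 1 ≤ Nat.gcd 2 (Fintype.card F - 1) := Nat.gcd_pos_of_pos_left _ two_pos
    have hA : Nat.card PSL₂ ≤ r * (r ^ 2 - 1) := h2 ▸ Nat.le_mul_of_pos_left _ (Nat.gcd_pos_of_pos_left _ two_pos)
    have hr2 : 2 * r ≤ Fintype.card F := by
      rw [hq, hr]
      have hp2 := (Fact.out : p.Prime).two_le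
      calc 2 * p ^ a ≤ p * p ^ a := Nat.mul_le_mul_right _ hp2
        _ = p ^ (a + 1) := (pow_succ' p a).symm
        _ ≤ p ^ (a * b) := Nat.pow_le_pow_right (by omega) (by
          have := Nat.mul_le_mul_left a hb; omega)
    have hsq : (r ^ 2 - 1) < Fintype.card F ^ 2 - 1 := by
      have := Nat.pow_lt_pow_left hlt two_ne_zero
      have : 1 ≤ r ^ 2 := Nat.one_le_pow _ _ (by omega)
      omega
    have hB : 2 * (r * (r ^ 2 - 1)) < Fintype.card F * (Fintype.card F ^ 2 - 1) := by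
      calc 2 * (r * (r ^ 2 - 1)) = (2 * r) * (r ^ 2 - 1) := (mul_assoc _ _ _).symm
        _ ≤ Fintype.card F * (r ^ 2 - 1) := Nat.mul_le_mul_right _ hr2
        _ < _ := Nat.mul_lt_mul_of_pos_left hsq (by omega)
    rw [← h1] at hB
    have : Nat.gcd 2 (Fintype.card F - 1) ≤ 2 := Nat.gcd_le_left _ two_pos
    nlinarith
  · exact Group.isSolvable_of_isSolvable_injective (f := t.symm.toMonoidHom) t.symm.injective

end CfsgLib.Lie.DicksonMinSimple
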