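import Cfsg.Agent.Fus.PSL2Dihedral
import Cfsg.Agent.Base.Spectrum.PSLTwo
import Mathlib.GroupTheory.SpecificGroups.Alternating
import Mathlib.NumberTheory.LegendreSymbol.QuadraticChar.GaussSum

/-!
Copies of the alternating and symmetric groups of degree four in PSL₂.
-/

set_option autoImplicit false
set_option linter.unusedSectionVars false
set_option linter.unusedSimpArgs false
set_option linter.unusedTactic false
set_option linter.unreachableTactic false

namespace CfsgLib.Lie.PSL2Small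

open CfsgLib.Fus.PSL2Two

/-- a relation defining an embedding into a central quotient -/
theorem exists_equiv_of_rel {H G : Type*} [Group H] [Group G] {N : Subgroup G} [N.Normal] (R : H → G → Prop)
    (h1 : R 1 1) (hmul : ∀ {a b g h}, R a g → R b h → R (a * b) (g * h))
    (huniq : ∀ {a g h}, R a g → R a h → g⁻¹ * h ∈ N) (hinj : ∀ {a g}, R a g → g ∈ N → a = 1)
    (hex : ∀ a, ∃ g, R a g) : ∃ K : Subgroup (G ⧸ N), Nonempty (K ≃* H) := by
  choose f hf using hex
  let φ : H →* G ⧸ N :=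
    { toFun := fun a => (f a : G ⧸ N)
      map_one' := ((QuotientGroup.eq_one_iff _).2 (by simpa using huniq h1 (hf 1)))
      map_mul' := fun a b => by
        rw [← QuotientGroup.mk_mul, QuotientGroup.eq]
        exact huniq (hf (a * b)) (hmul (hf a) (hf b)) }
  have hφ : Function.Injective φ := (injective_iff_map_eq_one φ).2 fun a ha =>
    hinj (hf a) ((QuotientGroup.eq_one_iff _).1 ha)
  exact ⟨φ.range, ⟨(MonoidHom.ofInjective hφ).symm⟩⟩

abbrev S4 := Equiv.Perm (Fin 4)

/-- the three sign patterns -/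
def vec (b : Fin 3) (k : Fin 4) : ℤ :=
  if k = 0 ∨ k.val = b.val + 1 then 1 else -1

/-- the action on the three axes -/
def axis (σ : S4) (b : Fin 3) : Fin 3 :=
  if vec b (σ.symm 0) = vec b (σ.symm 1) then 0 else if vec b (σ.symm 0) = vec b (σ.symm 2) then 1 else 2

/-- the signs -/
def sgn (σ : S4) (b : Fin 3) : ℤ := (Equiv.Perm.sign σ : ℤ) * vec b (σ.symm 0)

theorem axis_mul : ∀ (σ τ : S4) (b : Fin 3),
    axis (σ * τ) b = axis σ (axis τ b) ∧ sgn (σ * τ) b = sgn τ b * sgn σ (axis τ b) := by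
  decide +kernel

theorem axis_faithful : ∀ σ : S4, (∀ b, axis σ b = b ∧ sgn σ b = 1) → σ = 1 := by decide +kernel

theorem sgn_cases : ∀ (σ : S4) (b : Fin 3), sgn σ b = 1 ∨ sgn σ b = -1 := by decide +kernel

def gv : S4 := Equiv.swap 0 1 * Equiv.swap 2 3

def gc : S4 := Equiv.swap 1 2 * Equiv.swap 2 3

def gt : S4 := Equiv.swap 0 2 * Equiv.swap 2 1 * Equiv.swap 1 3

theorem even_decomp : ∀ σ : S4, Equiv.Perm.sign σ = 1 →
    ∃ a b : Fin 3, σ = gc ^ a.val ∨ σ = gc ^ a.val * gv * gc ^ b.val := by decide +kernel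

theorem odd_decomp : ∀ σ : S4, Equiv.Perm.sign σ = 1 ∨ Equiv.Perm.sign (σ * gt⁻¹) = 1 := by decide +kernel

theorem gen_values : (∀ b, axis gv b = b) ∧ (∀ b, sgn gv b = if b = 0 then 1 else -1) ∧
    (∀ b, axis gc b = b + 1) ∧ (∀ b, sgn gc b = 1) ∧
    (axis gt 0 = 0 ∧ axis gt 1 = 2 ∧ axis gt 2 = 1) ∧ (sgn gt 0 = 1 ∧ sgn gt 1 = 1 ∧ sgn gt 2 = -1) := by
  decide +kernel

variable {F : Type*} [Field F] [Fintype F]

local notation "SL2" => Matrix.SpecialLinearGroup (Fin 2) F
local notation "PSL2" => Matrix.ProjectiveSpecialLinearGroup (Fin 2) F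

/-- quaternion units for x² + y² = -1 -/
def quat (x y : F) (b : Fin 3) : Matrix (Fin 2) (Fin 2) F :=
  match b with
  | 0 => !![0, -1; 1, 0]
  | 1 => !![x, y; y, -x]
  | 2 => !![-y, x; x, y]

/-- conjugation by g realises the signed permutation of σ on the axes -/
def Rel (x y : F) (σ : S4) (g : SL2) : Prop :=
  ∀ b, (g : Matrix (Fin 2) (Fin 2) F) * quat x y b = (sgn σ b : F) • (quat x y (axis σ b) * g)

theorem rel_mul {x y : F} {σ τ : S4} {g h : SL2} (hg : Rel x y σ g) (hh : Rel x y τ h) :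
    Rel x y (σ * τ) (g * h) := by
  intro b
  obtain ⟨e1, e2⟩ := axis_mul σ τ b
  rw [Matrix.SpecialLinearGroup.coe_mul, Matrix.mul_assoc, hh b, Matrix.mul_smul, ← Matrix.mul_assoc, hg,
    Matrix.smul_mul, smul_smul, e1, e2, Int.cast_mul, Matrix.mul_assoc]

theorem rel_one (x y : F) : Rel x y 1 (1 : SL2) := by
  intro b
  have : ∀ b, axis 1 b = b ∧ sgn 1 b = 1 := by decide +kernel
  rw [(this b).1, (this b).2]
  simp

theorem rel_pow {x y : F} {σ : S4} {g : SL2} (hg : Rel x y σ g) : ∀ n : ℕ, Rel x y (σ ^ n) (g ^ n)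
  | 0 => by simpa using rel_one x y
  | n + 1 => by rw [pow_succ, pow_succ]; exact rel_mul (rel_pow hg n) hg

theorem center_of_comm {x y : F} (h2 : (2 : F) ≠ 0) (hxy : x ^ 2 + y ^ 2 = -1) {g : SL2}
    (h : ∀ b, (g : Matrix (Fin 2) (Fin 2) F) * quat x y b = quat x y b * g) : g ∈ Subgroup.center SL2 := by
  have e := fun i j => congrFun (congrFun (h 0) i) j
  have f := fun i j => congrFun (congrFun (h 1) i) j
  have a0 := e 0 0
  have a1 := e 1 0
  have b0 := f 0 0
  have b1 := f 0 1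
  simp [quat, Matrix.mul_apply, Matrix.vecMul, dotProduct, Fin.sum_univ_two] at a0 a1 b0 b1
  have hb : g 1 0 = 0 := by
    by_contra hne
    have hy : y = 0 := by
      have : y * g 1 0 * 2 = 0 := by linear_combination -b0 + y * a0
      simpa [h2, hne] using this
    have hx : x = 0 := by
      have : x * g 1 0 * 2 = 0 := by linear_combination b1 + (2 : F) * x * a0 + y * a1
      simpa [h2, hne] using this
    rw [hx, hy] at hxy
    simp at hxy
  have hc : g 0 1 = 0 := by linear_combination a0 - hb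
  rw [PSLTwoSpec.mem_Z]
  have hd : g 0 0 * g 0 0 = 1 := by
    have := (Matrix.det_fin_two _).symm.trans g.2
    rw [hc, hb] at this
    linear_combination this - g 0 0 * a1
  rcases mul_self_eq_one_iff.1 hd with h' | h'
  · left
    ext i j; fin_cases i <;> fin_cases j <;> simp [hb, hc, h']
    linear_combination a1 + h'
  · right
    ext i j; fin_cases i <;> fin_cases j <;> simp [hb, hc, h', Matrix.SpecialLinearGroup.coe_neg]
    linear_combination a1 + h'

theorem rel_uniq {x y : F} (h2 : (2 : F) ≠ 0) (hxy : x ^ 2 + y ^ 2 = -1) {σ : S4} {g h : SL2} (hg : Rel x y σ g)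
    (hh : Rel x y σ h) : g⁻¹ * h ∈ Subgroup.center SL2 := by
  refine center_of_comm h2 hxy fun b => ?_
  have hinv : ∀ z : SL2, ((z⁻¹ : SL2) : Matrix (Fin 2) (Fin 2) F) * z = 1 := fun z => by
    rw [← Matrix.SpecialLinearGroup.coe_mul, inv_mul_cancel]; rfl
  have hinv' : ∀ z : SL2, (z : Matrix (Fin 2) (Fin 2) F) * (z⁻¹ : SL2) = 1 := fun z => by
    rw [← Matrix.SpecialLinearGroup.coe_mul, mul_inv_cancel]; rfl
  have key : ((g⁻¹ : SL2) : Matrix (Fin 2) (Fin 2) F) * ((sgn σ b : F) • quat x y (axis σ b)) =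
      quat x y b * (g⁻¹ : SL2) := by
    calc ((g⁻¹ : SL2) : Matrix (Fin 2) (Fin 2) F) * ((sgn σ b : F) • quat x y (axis σ b))
        = ((g⁻¹ : SL2) : Matrix (Fin 2) (Fin 2) F) * ((sgn σ b : F) • (quat x y (axis σ b) * g) * (g⁻¹ : SL2)) := by
          rw [Matrix.smul_mul, Matrix.mul_assoc, hinv', Matrix.mul_one]
      _ = quat x y b * (g⁻¹ : SL2) := by
          rw [← hg b, ← Matrix.mul_assoc, ← Matrix.mul_assoc, hinv, Matrix.one_mul]
  rw [Matrix.SpecialLinearGroup.coe_mul, Matrix.mul_assoc, hh b, ← Matrix.smul_mul, ← Matrix.mul_assoc, key,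
    Matrix.mul_assoc]

theorem quat_trace {x y : F} (hxy : x ^ 2 + y ^ 2 = -1) (a b : Fin 3) :
    (quat x y a * quat x y b).trace = if a = b then -2 else 0 := by
  fin_cases a <;> fin_cases b <;>
    simp [quat, Matrix.trace_fin_two, Matrix.mul_apply, Matrix.vecMul, dotProduct, Fin.sum_univ_two] <;> first
    | ring1 | linear_combination 2 * hxy | linear_combination -2 * hxy

theorem rel_inj {x y : F} (h2 : (2 : F) ≠ 0) (hxy : x ^ 2 + y ^ 2 = -1) {σ : S4} {g : SL2} (hg : Rel x y σ g)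
    (hc : g ∈ Subgroup.center SL2) : σ = 1 := by
  refine axis_faithful σ fun b => ?_
  have h := hg b
  obtain ⟨s, hs⟩ : ∃ s : F, s ≠ 0 ∧ (g : Matrix (Fin 2) (Fin 2) F) = s • 1 := by
    rcases PSLTwoSpec.mem_Z.1 hc with rfl | rfl
    · exact ⟨1, one_ne_zero, by simp⟩
    · exact ⟨-1, by simp, by simp [Matrix.SpecialLinearGroup.coe_neg]⟩
  rw [hs.2, Matrix.smul_mul, Matrix.one_mul, Matrix.mul_smul, Matrix.mul_one, smul_comm] at h
  have h' := smul_right_injective _ hs.1 h
  have htr := congrArg (fun M : Matrix (Fin 2) (Fin 2) F => (quat x y b * M).trace) h'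
  simp only [Matrix.mul_smul, Matrix.trace_smul, smul_eq_mul, quat_trace hxy] at htr
  rw [if_pos trivial] at htr
  by_cases hab : b = axis σ b
  · rw [if_pos hab] at htr
    refine ⟨hab.symm, ?_⟩
    rcases sgn_cases σ b with hsg | hsg
    · exact hsg
    · exfalso
      rw [hsg] at htr
      push_cast at htr
      exact h2 (mul_self_eq_zero.1 (by linear_combination -htr))
  · exfalso
    rw [if_neg hab, mul_zero] at htr
    exact h2 (neg_eq_zero.1 htr)

theorem rel_gv {x y : F} : Rel x y gv (jEl : SL2) := by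
  intro b
  rw [gen_values.1 b, gen_values.2.1 b]
  show !![(0 : F), -1; 1, 0] * _ = _ • (_ * !![(0 : F), -1; 1, 0])
  fin_cases b <;> ext i j <;> fin_cases i <;> fin_cases j <;>
    simp [quat, Matrix.mul_apply, Matrix.vecMul, dotProduct, Fin.sum_univ_two]

theorem rel_gc {x y : F} (h2 : (2 : F) ≠ 0) (hxy : x ^ 2 + y ^ 2 = -1) : ∃ g : SL2, Rel x y gc g := by
  refine ⟨⟨!![(1 + x - y) / 2, (-1 + y + x) / 2; (1 + y + x) / 2, (1 - x + y) / 2], ?_⟩, fun b => ?_⟩
  · rw [Matrix.det_fin_two_of]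
    field_simp
    linear_combination -2 * hxy
  · rw [gen_values.2.2.1 b, gen_values.2.2.2.1 b]
    fin_cases b <;> ext i j <;> fin_cases i <;> fin_cases j <;>
      simp [quat, Matrix.mul_apply, Matrix.vecMul, dotProduct, Fin.sum_univ_two] <;> field_simp <;> first
        | ring1 | linear_combination hxy | linear_combination -hxy | linear_combination 2 * hxy | linear_combination -2 * hxy

theorem rel_gt {x y r : F} (h2 : (2 : F) ≠ 0) (hr : r ^ 2 = 2) : ∃ g : SL2, Rel x y gt g := by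
  have hr0 : r ≠ 0 := fun h => h2 (by rw [← hr, h]; ring)
  refine ⟨⟨!![r⁻¹, -r⁻¹; r⁻¹, r⁻¹], ?_⟩, fun b => ?_⟩
  · rw [Matrix.det_fin_two_of]
    field_simp
    linear_combination -hr
  · obtain ⟨-, -, -, -, ⟨a0, a1, a2⟩, s0, s1, s2⟩ := gen_values
    fin_cases b
    · simp only [Fin.zero_eta, Fin.isValue]
      rw [a0, s0]
      ext i j; fin_cases i <;> fin_cases j <;>
        simp [quat, Matrix.mul_apply, Matrix.vecMul, dotProduct, Fin.sum_univ_two]
    · simp only [Fin.mk_one, Fin.isValue]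
      rw [a1, s1]
      ext i j; fin_cases i <;> fin_cases j <;>
        simp [quat, Matrix.mul_apply, Matrix.vecMul, dotProduct, Fin.sum_univ_two] <;> ring
    · simp only [Fin.reduceFinMk, Fin.isValue]
      rw [a2, s2]
      ext i j; fin_cases i <;> fin_cases j <;>
        simp [quat, Matrix.mul_apply, Matrix.vecMul, dotProduct, Fin.sum_univ_two] <;> ring

theorem rel_even {x y : F} (h2 : (2 : F) ≠ 0) (hxy : x ^ 2 + y ^ 2 = -1) (σ : S4) (hσ : Equiv.Perm.sign σ = 1) :
    ∃ g : SL2, Rel x y σ g := by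
  obtain ⟨g, hg⟩ := rel_gc h2 hxy
  obtain ⟨a, b, rfl | rfl⟩ := even_decomp σ hσ
  · exact ⟨_, rel_pow hg _⟩
  · exact ⟨_, rel_mul (rel_mul (rel_pow hg _) rel_gv) (rel_pow hg _)⟩

theorem exists_alt_four (hodd : Fintype.card F % 2 = 1) :
    ∃ H : Subgroup PSL2, Nonempty (H ≃* alternatingGroup (Fin 4)) := by
  have h2 := two_ne_zero' hodd
  obtain ⟨x, y, hxy⟩ := exists_two_squares hodd (-1 : F)
  exact exists_equiv_of_rel (H := alternatingGroup (Fin 4)) (G := SL2) (N := Subgroup.center SL2)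
    (fun σ g => Rel x y (σ : S4) g) (rel_one x y) (fun hg hh => rel_mul hg hh) (fun hg hh => rel_uniq h2 hxy hg hh)
    (fun hg hc => Subtype.ext (rel_inj h2 hxy hg hc))
    (fun σ => rel_even h2 hxy _ (Equiv.Perm.mem_alternatingGroup.1 σ.2))

theorem exists_sym_four (hodd : Fintype.card F % 2 = 1) {r : F} (hr : r ^ 2 = 2) :
    ∃ H : Subgroup PSL2, Nonempty (H ≃* S4) := by
  have h2 := two_ne_zero' hodd
  obtain ⟨x, y, hxy⟩ := exists_two_squares hodd (-1 : F)
  refine exists_equiv_of_rel (H := S4) (G := SL2) (N := Subgroup.center SL2)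
    (Rel x y) (rel_one x y) (fun hg hh => rel_mul hg hh) (fun hg hh => rel_uniq h2 hxy hg hh)
    (fun hg hc => rel_inj h2 hxy hg hc) fun σ => ?_
  rcases odd_decomp σ with h | h
  · exact rel_even h2 hxy σ h
  · obtain ⟨g, hg⟩ := rel_even h2 hxy _ h
    obtain ⟨t, ht⟩ := rel_gt (x := x) (y := y) h2 hr
    refine ⟨g * t, ?_⟩
    have := rel_mul hg ht
    rwa [inv_mul_cancel_right] at this

/-! ### Characteristic two -/

/-- g fixes the line of the first basis vector and moves the four affine points by σ -/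
def Rel2 (z : Fin 4 → F) (σ : S4) (g : SL2) : Prop :=
  g 1 0 = 0 ∧ ∀ k, g 0 0 * z k + g 0 1 = g 1 1 * z (σ k)

theorem exists_alt_four_two (h2 : (2 : F) = 0) {w : F} (hw : w ^ 2 + w + 1 = 0) :
    ∃ H : Subgroup PSL2, Nonempty (H ≃* alternatingGroup (Fin 4)) := by
  haveI := CharTwo.of_one_ne_zero_of_two_eq_zero (R := F) one_ne_zero h2
  have hw3 : w ^ 3 = 1 := by linear_combination (w - 1) * hw
  have hw0 : w ≠ 0 := fun h => by rw [h] at hw; simp at hw
  have hw1 : w ≠ 1 := fun h => by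
    rw [h] at hw; exact one_ne_zero (show (1 : F) = 0 by linear_combination hw - h2)
  obtain ⟨z, hz⟩ : ∃ z : Fin 4 → F, z = ![0, 1, w, w ^ 2] := ⟨_, rfl⟩
  have hzinj : Function.Injective z := by
    rw [hz]
    intro a b hab
    fin_cases a <;> fin_cases b <;> simp at hab <;> first
      | rfl
      | exact absurd hab hw0 | exact absurd hab.symm hw0 | exact absurd hab hw1 | exact absurd hab.symm hw1
      | (exfalso; exact hw1 (by linear_combination (hw + hab * 0) * 0 + (-w) * hab + hw3))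
      | (exfalso; exact hw1 (by linear_combination w * hab + hw3))
      | (exfalso; exact hw1 (mul_left_cancel₀ hw0 (by linear_combination hab)))
      | (exfalso; exact hw1 (mul_left_cancel₀ hw0 (by linear_combination -hab)))
      | (exfalso; rcases hab with h | h <;> exact hw1 (by first | exact h | linear_combination h - h2))
      | (exfalso; exact hw0 (pow_eq_zero_iff two_ne_zero |>.1 hab))
      | (exfalso; exact hw0 (pow_eq_zero_iff two_ne_zero |>.1 hab.symm))
  have hmul : ∀ {σ τ : S4} {g h : SL2}, Rel2 z σ g → Rel2 z τ h → Rel2 z (σ * τ) (g * h) := by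
    rintro σ τ g h ⟨hg0, hg⟩ ⟨hh0, hh⟩
    refine ⟨by simp [Matrix.SpecialLinearGroup.coe_mul, Matrix.mul_apply, Fin.sum_univ_two, hg0, hh0], fun k => ?_⟩
    have e1 := hh k
    have e2 := hg (τ k)
    simp only [Matrix.SpecialLinearGroup.coe_mul, Matrix.mul_apply, Fin.sum_univ_two, hg0, hh0, Equiv.Perm.mul_apply]
    linear_combination g 0 0 * e1 + h 1 1 * e2
  have hone : Rel2 z 1 (1 : SL2) := ⟨by simp, fun k => by simp⟩
  have hpow : ∀ {σ : S4} {g : SL2}, Rel2 z σ g → ∀ n : ℕ, Rel2 z (σ ^ n) (g ^ n) := by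
    intro σ g hg n
    induction n with
    | zero => simpa using hone
    | succ n ih => rw [pow_succ, pow_succ]; exact hmul ih hg
  have hid : ∀ g : SL2, Rel2 z 1 g → g = 1 := by
    rintro g ⟨h0, h⟩
    have a := h 0
    have b := h 1
    rw [hz] at a b
    simp at a b
    have hd := (Matrix.det_fin_two _).symm.trans g.2
    rw [h0, mul_zero, sub_zero] at hd
    rw [a, add_zero] at b
    rw [← b] at hd
    have ha : g 0 0 = 1 := by
      have : (g 0 0 - 1) * (g 0 0 - 1) = 0 := by linear_combination hd - (g 0 0 - 1) * h2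
      exact sub_eq_zero.1 (mul_self_eq_zero.1 this)
    ext i j; fin_cases i <;> fin_cases j <;> simp [h0, a, ← b, ha]
  have hgv : ∃ g : SL2, Rel2 z gv g := by
    refine ⟨⟨!![1, 1; 0, 1], by simp⟩, rfl, fun k => ?_⟩
    rw [hz]
    fin_cases k <;> simp [gv, Equiv.swap_apply_of_ne_of_ne]
    · linear_combination h2
    · linear_combination hw - w ^ 2 * h2
    · linear_combination hw - w * h2
  have hgc : ∃ g : SL2, Rel2 z gc g := by
    refine ⟨⟨!![w ^ 2, 0; 0, w], by rw [Matrix.det_fin_two_of]; linear_combination hw3⟩, rfl, fun k => ?_⟩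
    rw [hz]
    fin_cases k <;> simp [gc, Equiv.swap_apply_of_ne_of_ne] <;> first
      | ring1 | linear_combination hw3 | linear_combination w * hw3 | linear_combination -hw3
  obtain ⟨g, hg⟩ := hgv
  obtain ⟨c, hc⟩ := hgc
  refine exists_equiv_of_rel (H := alternatingGroup (Fin 4)) (G := SL2) (N := Subgroup.center SL2)
    (fun σ g => Rel2 z (σ : S4) g) hone (fun hg hh => hmul hg hh) ?_ ?_ ?_
  · intro σ g h hg hh
    obtain ⟨u, hu⟩ : ∃ u : SL2, Rel2 z ((σ : S4)⁻¹) u := by
      refine ⟨g ^ (orderOf (σ : S4) - 1), ?_⟩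
      have := hpow hg (orderOf (σ : S4) - 1)
      rwa [← inv_eq_of_mul_eq_one_left (a := (σ : S4) ^ (orderOf (σ : S4) - 1)) (b := (σ : S4)) (by
        rw [← pow_succ, Nat.sub_add_cancel (orderOf_pos _), pow_orderOf_eq_one])] at this
    have eg := hid _ (by simpa using hmul hu hg)
    have eh := hid _ (by simpa using hmul hu hh)
    rw [mul_left_cancel (eh.trans eg.symm), inv_mul_cancel]
    exact one_mem _
  · intro σ g hg hc'
    refine Subtype.ext (Equiv.ext fun k => hzinj ?_)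
    have h1 : g = 1 := by
      rcases PSLTwoSpec.mem_Z.1 hc' with h | h
      · exact h
      · rw [h]; ext i j; rw [Matrix.SpecialLinearGroup.coe_neg]; fin_cases i <;> fin_cases j <;> simp [CharTwo.neg_eq]
    have := hg.2 k
    rw [h1] at this
    simp at this
    exact this.symm
  · intro σ
    obtain ⟨a, b, h | h⟩ := even_decomp (σ : S4) (Equiv.Perm.mem_alternatingGroup.1 σ.2)
    · exact ⟨_, h ▸ hpow hc _⟩
    · exact ⟨_, h ▸ hmul (hmul (hpow hc _) hg) (hpow hc _)⟩

theorem not_alt_four_two (h2 : (2 : F) = 0) (h3 : ∀ b : F, b ^ 3 = 1 → b = 1) :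
    ¬ ∃ H : Subgroup PSL2, Nonempty (H ≃* alternatingGroup (Fin 4)) := by
  rintro ⟨H, ⟨e⟩⟩
  haveI := CharTwo.of_one_ne_zero_of_two_eq_zero (R := F) one_ne_zero h2
  have hneg : (-1 : SL2) = 1 := by
    ext i j; rw [Matrix.SpecialLinearGroup.coe_neg]; fin_cases i <;> fin_cases j <;> simp [CharTwo.neg_eq]
  have hinj : ∀ g : SL2, (QuotientGroup.mk g : PSL2) = 1 → g = 1 := fun g hg => by
    rcases PSLTwoSpec.mem_Z.1 ((QuotientGroup.eq_one_iff _).1 hg) with h | h
    · exact h
    · exact h.trans hneg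
  have hmk : Function.Bijective (QuotientGroup.mk' (Subgroup.center SL2)) :=
    ⟨(injective_iff_map_eq_one _).2 hinj, QuotientGroup.mk'_surjective _⟩
  let f : alternatingGroup (Fin 4) →* SL2 :=
    ((MulEquiv.ofBijective _ hmk).symm.toMonoidHom.comp H.subtype).comp e.symm.toMonoidHom
  have hf : Function.Injective f := fun a b h =>
    e.symm.injective (H.subtype_injective ((MulEquiv.ofBijective _ hmk).symm.injective h))
  obtain ⟨v, c, hv, hv1, hc, hcv, hne⟩ : ∃ v c : alternatingGroup (Fin 4),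
      v * v = 1 ∧ v ≠ 1 ∧ c ^ 3 = 1 ∧ c * v * c⁻¹ * v = v * (c * v * c⁻¹) ∧ c * v * c⁻¹ ≠ v :=
    ⟨⟨gv, Equiv.Perm.mem_alternatingGroup.2 (by decide)⟩, ⟨gc, Equiv.Perm.mem_alternatingGroup.2 (by decide)⟩, by decide, by decide, by decide, by decide, by decide⟩
  -- M = u - 1 is nilpotent and the conjugate involution is 1 + b M
  obtain ⟨u, hu⟩ : ∃ u, u = f v := ⟨_, rfl⟩
  have huu : u * u = 1 := by rw [hu, ← map_mul, hv, map_one]
  have hu1 : u ≠ 1 := fun h => hv1 (hf (by rw [← hu, h, map_one]))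
  have entries : ∀ x : SL2, x * x = 1 → x 1 1 = x 0 0 ∧ x 0 1 * x 1 0 = (x 0 0 + 1) ^ 2 := by
    intro x hx
    have e := fun i j => congrFun (congrFun (congrArg Subtype.val hx) i) j
    have e00 := e 0 0
    have e01 := e 0 1
    have e10 := e 1 0
    simp [Matrix.SpecialLinearGroup.coe_mul, Matrix.mul_apply, Fin.sum_univ_two] at e00 e01 e10
    have hd := (Matrix.det_fin_two _).symm.trans x.2
    refine ⟨?_, by linear_combination e00 - (x 0 0 ^ 2 + x 0 0) * h2⟩
    by_contra hne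
    have hs : x 0 0 + x 1 1 ≠ 0 := fun h => hne (by linear_combination h - x 0 0 * h2)
    have hb : x 0 1 = 0 := (mul_eq_zero.1 (show x 0 1 * (x 0 0 + x 1 1) = 0 by linear_combination e01)).resolve_right hs
    rw [hb] at e00 hd
    have ha : x 0 0 = 1 := by
      have : (x 0 0 - 1) * (x 0 0 - 1) = 0 := by linear_combination e00 - (x 0 0 - 1) * h2
      exact sub_eq_zero.1 (mul_self_eq_zero.1 this)
    rw [ha] at hd hne
    exact hne (by linear_combination hd)
  have prop : ∀ x : SL2, x * x = 1 → x * u = u * x →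
      ∃ b : F, (x : Matrix (Fin 2) (Fin 2) F) - 1 = b • ((u : Matrix (Fin 2) (Fin 2) F) - 1) := by
    intro x hx hxu
    obtain ⟨p1, p2⟩ := entries x hx
    obtain ⟨q1, q2⟩ := entries u huu
    have e00 := congrFun (congrFun (congrArg Subtype.val hxu) 0) 0
    simp [Matrix.SpecialLinearGroup.coe_mul, Matrix.mul_apply, Fin.sum_univ_two] at e00
    by_cases hn : u 0 1 = 0
    · have hm : u 0 0 = 1 := by
        have : (u 0 0 + 1) ^ 2 = 0 := by rw [← q2, hn, zero_mul]
        linear_combination (pow_eq_zero_iff two_ne_zero).1 this - h2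
      have hr : u 1 0 ≠ 0 := fun hr => hu1 (by ext i j; fin_cases i <;> fin_cases j <;> simp [hm, hn, hr, q1])
      have hxb : x 0 1 = 0 := (mul_eq_zero.1 (show x 0 1 * u 1 0 = 0 by
        rw [hn] at e00; linear_combination e00)).resolve_right hr
      have hxa : x 0 0 = 1 := by
        have : (x 0 0 + 1) ^ 2 = 0 := by rw [← p2, hxb, zero_mul]
        linear_combination (pow_eq_zero_iff two_ne_zero).1 this - h2
      refine ⟨x 1 0 / u 1 0, ?_⟩
      ext i j; fin_cases i <;> fin_cases j <;> simp [hm, hn, q1, hxb, hxa, p1, hr]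
    · refine ⟨x 0 1 / u 0 1, ?_⟩
      have hg : x 1 0 * u 0 1 = x 0 1 * u 1 0 := by linear_combination -e00
      have ha : (x 0 0 - 1) * u 0 1 = x 0 1 * (u 0 0 - 1) := by
        have : ((x 0 0 + 1) * u 0 1 + x 0 1 * (u 0 0 + 1)) ^ 2 = 0 := by
          linear_combination -(u 0 1) ^ 2 * p2 - (x 0 1) ^ 2 * q2 + x 0 1 * u 0 1 * hg +
            (x 0 1 ^ 2 * u 0 1 * u 1 0 + (x 0 0 + 1) * u 0 1 * (x 0 1 * (u 0 0 + 1))) * h2
        linear_combination (pow_eq_zero_iff two_ne_zero).1 this - (u 0 1 + x 0 1 * u 0 0) * h2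
      ext i j; fin_cases i <;> fin_cases j <;> simp [p1, q1] <;> field_simp <;> first
        | linear_combination ha | linear_combination hg
  obtain ⟨k, hk⟩ : ∃ k, k = f c := ⟨_, rfl⟩
  obtain ⟨b, hb⟩ := prop (k * u * k⁻¹) (by
    rw [show k * u * k⁻¹ * (k * u * k⁻¹) = k * (u * u) * k⁻¹ by group, huu, mul_one, mul_inv_cancel]) (by
    rw [hk, hu, ← map_inv, ← map_mul, ← map_mul, ← map_mul, ← map_mul, hcv])
  obtain ⟨M, hM⟩ : ∃ M, M = (u : Matrix (Fin 2) (Fin 2) F) - 1 := ⟨_, rfl⟩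
  have hM0 : M ≠ 0 := fun h => hu1 (Subtype.ext (sub_eq_zero.1 (hM.symm.trans h)))
  obtain ⟨K, hK⟩ : ∃ K, K = (k : Matrix (Fin 2) (Fin 2) F) := ⟨_, rfl⟩
  have hKM : K * M = b • (M * K) := by
    have e : (k : Matrix (Fin 2) (Fin 2) F) * u = ((k * u * k⁻¹ : SL2) : Matrix (Fin 2) (Fin 2) F) * k := by
      rw [← Matrix.SpecialLinearGroup.coe_mul, ← Matrix.SpecialLinearGroup.coe_mul, inv_mul_cancel_right]
    rw [hK, hM, Matrix.mul_sub, Matrix.mul_one, e, sub_eq_iff_eq_add.1 hb, Matrix.add_mul, Matrix.one_mul,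
      add_sub_cancel_right, Matrix.smul_mul]
  have hK3 : K * K * K = 1 := by
    have : k * k * k = 1 := by rw [hk, ← map_mul, ← map_mul, ← pow_three', hc, map_one]
    rw [hK, ← Matrix.SpecialLinearGroup.coe_mul, ← Matrix.SpecialLinearGroup.coe_mul, this]; rfl
  have hb3 : b ^ 3 = 1 := by
    have : M = b ^ 3 • M := by
      calc M = K * K * K * M := by rw [hK3, Matrix.one_mul]
        _ = b ^ 3 • (M * (K * K * K)) := by
          rw [Matrix.mul_assoc (K * K), hKM, Matrix.mul_smul, ← Matrix.mul_assoc (K * K), Matrix.mul_assoc K K M, hKM,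
            Matrix.mul_smul, ← Matrix.mul_assoc K M K, hKM]
          simp only [Matrix.smul_mul, smul_smul, Matrix.mul_assoc]
          ring_nf
        _ = _ := by rw [hK3, Matrix.mul_one]
    by_contra hne
    have : (b ^ 3 - 1) • M = 0 := by rw [sub_smul, one_smul, ← this, sub_self]
    exact hM0 ((smul_eq_zero.1 this).resolve_left (sub_ne_zero.2 hne))
  rw [h3 b hb3, one_smul, sub_left_inj] at hb
  refine hne (hf ?_)
  rw [map_mul, map_mul, map_inv, ← hk, ← hu]
  exact Subtype.ext hb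

end CfsgLib.Lie.PSL2Small
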