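import Cfsg.Agent.S5890
import Cfsg.Agent.Lie.DicksonMaximal
import Cfsg.Agent.Lie.DicksonMinSimple
import Cfsg.Agent.Lie.PSL2Small
import Cfsg.Agent.Lie.PSL2Sub

/-!
Existence of the exceptional and subfield maximal subgroups of PSL₂.
-/

set_option autoImplicit false
set_option linter.unusedSectionVars false
set_option linter.unusedSimpArgs false
set_option linter.style.haveILetI false

namespace CfsgLib.Lie.DicksonExist

open Matrix ProjLine DicksonLine DicksonCor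

variable {F : Type*} [Field F] [Fintype F]

local notation "PSL₂" => Matrix.ProjectiveSpecialLinearGroup (Fin 2) F

/-- a subgroup bigger than no coatom containing it is a coatom -/
theorem coatom_of {G : Type*} [Group G] [Finite G] (H : Subgroup G) (hH : H ≠ ⊤)
    (h : ∀ N : Subgroup G, IsCoatom N → H ≤ N → Nat.card N ≤ Nat.card H) : IsCoatom H := by
  obtain ⟨N, hN, hle⟩ := (IsCoatomic.eq_top_or_exists_le_coatom H).resolve_left hH
  rwa [Subgroup.eq_of_le_of_card_ge hle (h N hN hle)]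

/-- in a point stabiliser the subgroups without elements of order p are commutative -/
theorem borel_comm (p : ℕ) [Fact p.Prime] [CharP F p] (y : Pt F) (R : Subgroup PSL₂) (hR : R ≤ borel y)
    (hp : ∀ g ∈ R, g ^ p = 1 → g = 1) {a b : PSL₂} (ha : a ∈ R) (hb : b ∈ R) : a * b = b * a := by
  obtain ⟨k, hk⟩ := exists_to_P0 y
  obtain ⟨ψ, hψ⟩ : ∃ ψ : PSL₂ → Matrix.ProjGenLinGroup (Fin 2) F,
      ψ = fun g => (ProjGenLinGroup.mk k)⁻¹ * ProjectiveSpecialLinearGroup.toPGL g * ProjGenLinGroup.mk k := ⟨_, rfl⟩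
  have hfix : ∀ g ∈ R, ψ g • (P0 : Pt F) = P0 := by
    intro g hg
    have h1 : ProjectiveSpecialLinearGroup.toPGL g • y = y := mem_borel.1 (hR hg)
    have h2 : (ProjGenLinGroup.mk k : Matrix.ProjGenLinGroup (Fin 2) F) • (P0 : Pt F) = y := hk
    simp only [hψ, mul_smul, h2, h1]
    rw [← h2, inv_smul_smul]
  have hmul : ∀ g h : PSL₂, ψ (g * h) = ψ g * ψ h := fun g h => by simp only [hψ, map_mul]; group
  have hc : (b * a)⁻¹ * (a * b) ∈ R := R.mul_mem (R.inv_mem (R.mul_mem hb ha)) (R.mul_mem ha hb)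
  have h := ratio_mul (hfix _ (R.mul_mem hb ha)) (hfix _ hc)
  rw [← hmul, mul_inv_cancel_left, hmul, ratio_mul (hfix _ ha) (hfix _ hb), hmul b a,
    ratio_mul (hfix _ hb) (hfix _ ha), mul_comm (ratio (ψ a))] at h
  have h1 : ratio (ψ ((b * a)⁻¹ * (a * b))) = 1 := by
    have hne : ratio (ψ b) * ratio (ψ a) ≠ 0 :=
      mul_ne_zero (ratio_ne_zero (hfix _ hb)) (ratio_ne_zero (hfix _ ha))
    exact (mul_eq_left₀ hne).1 h.symm
  have h2 := (pow_eq_one_iff_ratio p (hfix _ hc)).1 h1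
  have h3 : ((b * a)⁻¹ * (a * b)) ^ p = 1 := by
    refine ProjectiveSpecialLinearGroup.toPGL_injective ?_
    simp only [hψ] at h2
    rw [conj_pow_eq_one] at h2
    rw [map_pow, h2, map_one]
  exact (inv_mul_eq_one.1 (hp _ hc h3)).symm

theorem alt4_not_borel (p : ℕ) [Fact p.Prime] [CharP F p] (h5 : 5 ≤ p) (y : Pt F) (R : Subgroup PSL₂) (hR : R ≤ borel y)
    (u : R ≃* alternatingGroup (Fin 4)) : False := by
  refine Cfsg.Agent.S5890.alt4_noncomm fun a b => ?_
  have hp : ∀ g ∈ R, g ^ p = 1 → g = 1 := by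
    intro g hg e
    by_contra hne
    have ho := orderOf_eq_prime e hne
    rw [← Subgroup.orderOf_mk g hg, ← MulEquiv.orderOf_eq u] at ho
    have hle : orderOf (u ⟨g, hg⟩) ≤ 3 := by
      rcases Cfsg.Agent.S5890.alt4_orders (u ⟨g, hg⟩) with h | h <;>
        exact (Nat.le_of_dvd (by norm_num) (orderOf_dvd_of_pow_eq_one h)).trans (by norm_num)
    omega
  obtain ⟨a, rfl⟩ := u.surjective a
  obtain ⟨b, rfl⟩ := u.surjective b
  rw [← map_mul, ← map_mul]
  exact congrArg u (Subtype.ext (borel_comm p y R hR hp a.2 b.2))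

theorem not_solvable_le {G : Type*} [Group G] {H N : Subgroup G} (hle : H ≤ N) (hN : Group.IsSolvable N)
    (hH : ¬ Group.IsSolvable H) : False :=
  hH (by
    haveI := hN
    exact solvable_of_solvable_injective (Subgroup.inclusion_injective hle))

theorem solvable_of_equiv {G H : Type*} [Group G] [Group H] (e : G ≃* H) (h : Group.IsSolvable H) : Group.IsSolvable G := by
  haveI := h
  exact solvable_of_solvable_injective (f := e.toMonoidHom) e.injective

theorem exp_dvd {p a b : ℕ} (hp : 2 ≤ p) (h : p ^ (a * 2) - 1 ∣ p ^ (b * 2) - 1) : a ∣ b := by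
  have hg := Nat.pow_sub_one_gcd_pow_sub_one p (a * 2) (b * 2)
  rw [Nat.gcd_eq_left h] at hg
  have h1 : p ^ (a * 2) = p ^ Nat.gcd (a * 2) (b * 2) := by
    have := Nat.one_le_pow (a * 2) p (by omega)
    have := Nat.one_le_pow (Nat.gcd (a * 2) (b * 2)) p (by omega)
    omega
  have hab : a * 2 ∣ b * 2 := by
    rw [Nat.pow_right_injective hp h1]
    exact Nat.gcd_dvd_right _ _
  exact Nat.dvd_of_mul_dvd_mul_right two_pos hab

theorem coprime_sq_sub {p a : ℕ} (hp : p.Prime) (ha : 1 ≤ a) : Nat.Coprime ((p ^ a) ^ 2 - 1) p := by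
  refine Nat.Coprime.symm (hp.coprime_iff_not_dvd.2 fun h => ?_)
  have h1 : p ∣ (p ^ a) ^ 2 := dvd_pow (dvd_pow_self p (by omega)) two_ne_zero
  have h2 := Nat.dvd_sub h1 h
  have : 1 ≤ (p ^ a) ^ 2 := Nat.one_le_pow _ _ (Nat.pow_pos hp.pos)
  rw [show (p ^ a) ^ 2 - ((p ^ a) ^ 2 - 1) = 1 by omega] at h2
  exact hp.not_dvd_one h2

theorem card_alt4 {H : Type*} [Group H] (t : H ≃* alternatingGroup (Fin 4)) : Nat.card H = 12 := by
  rw [Nat.card_congr t.toEquiv, nat_card_alternatingGroup, Nat.card_fin]; rfl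

theorem card_alt5 {H : Type*} [Group H] (t : H ≃* alternatingGroup (Fin 5)) : Nat.card H = 60 := by
  rw [Nat.card_congr t.toEquiv, nat_card_alternatingGroup, Nat.card_fin]; rfl

theorem card_sym4 {H : Type*} [Group H] (t : H ≃* Equiv.Perm (Fin 4)) : Nat.card H = 24 := by
  rw [Nat.card_congr t.toEquiv, Nat.card_perm, Nat.card_fin]; rfl

theorem card_dihedral {H : Type*} [Group H] {j : ℕ} (t : H ≃* DihedralGroup j) : Nat.card H = 2 * j := by
  rw [Nat.card_congr t.toEquiv, DihedralGroup.nat_card]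

theorem PSL_card_gt (h5 : 5 ≤ Fintype.card F) (ho : Fintype.card F % 2 = 1) :
    60 ≤ Nat.card PSL₂ := DicksonTypes.card_ge_sixty (by omega)

/-- a prime field has no proper subfields -/
theorem no_sub {q : ℕ} (hq : q.Prime) {s r : ℕ} (h : q = s ^ r) (hr : 2 ≤ r) : False :=
  Cfsg.Agent.S5890.prime_pow_no hq h hr

theorem exists_max_alt4 (p : ℕ) [Fact p.Prime] (hF : Fintype.card F = p) (h5 : 5 ≤ p) (h8 : p % 8 = 3 ∨ p % 8 = 5)
    (h10 : p % 10 ≠ 1 ∧ p % 10 ≠ 9) :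
    ∃ H : Subgroup PSL₂, IsCoatom H ∧ Nonempty (H ≃* alternatingGroup (Fin 4)) := by
  haveI : CharP F p := charP_of_card_eq_prime hF
  obtain ⟨H, ⟨u⟩⟩ := PSL2Small.exists_alt_four (F := F) (by omega)
  refine ⟨H, coatom_of H ?_ ?_, ⟨u⟩⟩
  · intro e
    have := PSL_card_gt (F := F) (by omega) (by omega)
    have h := card_alt4 u
    rw [e, Subgroup.card_top] at h
    omega
  intro N hN hle
  have hd := Subgroup.card_dvd_of_le hle
  rw [card_alt4 u] at hd ⊢
  have hqp : (Fintype.card F).Prime := hF ▸ Fact.out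
  rcases DicksonMaximal.max_shape (by omega) p N hN with
    ⟨y, e⟩ | ⟨j, -, -, ⟨s⟩⟩ | ⟨j, -, -, ⟨s⟩⟩ | ⟨-, ⟨s⟩⟩ | ⟨-, ⟨s⟩⟩ | ⟨-, ⟨s⟩⟩ | ⟨K, iK, iF, m, hm, hm2, -, -, -, -, -⟩
  · exact (alt4_not_borel p h5 y H (e ▸ hle) u).elim
  · exact (Cfsg.Agent.S5890.alt4_not_dihedral H N hle s u).elim
  · exact (Cfsg.Agent.S5890.alt4_not_dihedral H N hle s u).elim
  · exact (card_alt4 s).le
  · exfalso
    rcases DicksonOdd.sym_four_case (by omega) (by omega) (show Fintype.card F = p ^ 1 by rw [pow_one, hF]) N hN ⟨s⟩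
      with h | ⟨-, h, -⟩
    · obtain ⟨K, _, _, h, -⟩ := h
      exact no_sub hqp h le_rfl
    · omega
  · exfalso
    rcases DicksonOdd.alt_five_case (by omega) (by omega) (show Fintype.card F = p ^ 1 by rw [pow_one, hF]) N hN ⟨s⟩
      with h | ⟨h, -, -⟩
    · obtain ⟨K, _, _, r, hr, -, h, -⟩ := h
      exact no_sub hqp h hr.two_le
    · rw [hF] at h
      omega
  · exact (no_sub hqp hm.symm hm2).elim

theorem exists_max_sym4 (p : ℕ) [Fact p.Prime] (hF : Fintype.card F = p) (h8 : p % 8 = 1 ∨ p % 8 = 7) :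
    ∃ H : Subgroup PSL₂, IsCoatom H ∧ Nonempty (H ≃* Equiv.Perm (Fin 4)) := by
  haveI : CharP F p := charP_of_card_eq_prime hF
  have h7 : 7 ≤ p := by
    have := (Fact.out : p.Prime).two_le
    omega
  obtain ⟨r, hr⟩ : IsSquare (2 : F) := FiniteField.isSquare_two_iff.2 ⟨by omega, by omega⟩
  obtain ⟨H, ⟨t⟩⟩ := PSL2Small.exists_sym_four (F := F) (by omega) (r := r) (by rw [pow_two]; exact hr.symm)
  obtain ⟨R, hR⟩ : ∃ R : Subgroup PSL₂, R = ((alternatingGroup (Fin 4)).comap t.toMonoidHom).map H.subtype := ⟨_, rfl⟩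
  have u : R ≃* alternatingGroup (Fin 4) :=
    (MulEquiv.subgroupCongr hR).trans ((((alternatingGroup (Fin 4)).comap t.toMonoidHom).equivMapOfInjective _
      H.subtype_injective).symm.trans
      { toEquiv := t.toEquiv.subtypeEquiv fun _ => Iff.rfl, map_mul' := fun a b => Subtype.ext (map_mul t _ _) })
  have hRH : R ≤ H := hR ▸ Subgroup.map_subtype_le _
  refine ⟨H, coatom_of H ?_ ?_, ⟨t⟩⟩
  · intro e
    have := PSL_card_gt (F := F) (by omega) (by omega)
    have h := card_sym4 t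
    rw [e, Subgroup.card_top] at h
    omega
  intro N hN hle
  have hd := Subgroup.card_dvd_of_le hle
  rw [card_sym4 t] at hd ⊢
  have hqp : (Fintype.card F).Prime := hF ▸ Fact.out
  rcases DicksonMaximal.max_shape (by omega) p N hN with
    ⟨y, e⟩ | ⟨j, -, -, ⟨s⟩⟩ | ⟨j, -, -, ⟨s⟩⟩ | ⟨-, ⟨s⟩⟩ | ⟨-, ⟨s⟩⟩ | ⟨-, ⟨s⟩⟩ | ⟨K, iK, iF, m, hm, hm2, -, -, -, -, -⟩
  · exact (alt4_not_borel p (by omega) y R (hRH.trans (e ▸ hle)) u).elim
  · exact (Cfsg.Agent.S5890.alt4_not_dihedral R N (hRH.trans hle) s u).elim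
  · exact (Cfsg.Agent.S5890.alt4_not_dihedral R N (hRH.trans hle) s u).elim
  · rw [card_alt4 s] at hd; norm_num at hd
  · exact (card_sym4 s).le
  · rw [card_alt5 s] at hd; norm_num at hd
  · exact (no_sub hqp hm.symm hm2).elim

theorem exists_max_alt5 (p : ℕ) [Fact p.Prime] [CharP F p]
    (h : (Fintype.card F = p ∧ (p % 10 = 1 ∨ p % 10 = 9)) ∨ (Fintype.card F = p ^ 2 ∧ (p % 10 = 3 ∨ p % 10 = 7))) :
    ∃ H : Subgroup PSL₂, IsCoatom H ∧ Nonempty (H ≃* alternatingGroup (Fin 5)) := by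
  have h10 : Fintype.card F % 10 = 1 ∨ Fintype.card F % 10 = 9 := by
    rcases h with ⟨e, h⟩ | ⟨e, h | h⟩
    · omega
    · rw [e, Nat.pow_mod, h]; norm_num
    · rw [e, Nat.pow_mod, h]; norm_num
  have h5d : 5 ∣ Fintype.card F ^ 2 - 1 := by
    rw [sq_sub_one]
    rcases h10 with e | e
    · exact dvd_mul_of_dvd_right (show 5 ∣ Fintype.card F - 1 by omega) _
    · exact dvd_mul_of_dvd_left (show 5 ∣ Fintype.card F + 1 by omega) _
  have hq9 : 9 ≤ Fintype.card F := by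
    have := Fintype.one_lt_card (α := F); omega
  obtain ⟨H, ⟨t⟩⟩ := DicksonMinSimple.exists_alt5 (F := F) (by omega) h5d
  have hns : ¬ Group.IsSolvable H := fun hs => DicksonMinSimple.not_solvable_alt5 (solvable_of_equiv t.symm hs)
  refine ⟨H, coatom_of H ?_ ?_, ⟨t⟩⟩
  · intro e
    have h := card_alt5 t
    rw [e, Subgroup.card_top] at h
    have h' := card_PSL F
    rw [h, Nat.gcd_eq_left (show 2 ∣ Fintype.card F - 1 by omega)] at h'
    have h6 : 9 * 80 ≤ Fintype.card F * (Fintype.card F ^ 2 - 1) :=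
      Nat.mul_le_mul hq9 (by have := Nat.pow_le_pow_left hq9 2; omega)
    omega
  intro N hN hle
  have hd := Subgroup.card_dvd_of_le hle
  rw [card_alt5 t] at hd ⊢
  rcases DicksonMaximal.max_shape (by omega) p N hN with
    ⟨y, e⟩ | ⟨j, hj, -, ⟨s⟩⟩ | ⟨j, hj, -, ⟨s⟩⟩ | ⟨-, ⟨s⟩⟩ | ⟨-, ⟨s⟩⟩ | ⟨-, ⟨s⟩⟩ | ⟨K, iK, iF, m, hm, hm2, -, -, -, -, e⟩
  · exact (not_solvable_le (e ▸ hle) (DicksonMinSimple.solvable_borel y) hns).elim
  · haveI : NeZero j := ⟨by omega⟩
    exact (not_solvable_le hle (solvable_of_equiv s (DicksonMinSimple.solvable_dihedral j)) hns).elim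
  · haveI : NeZero j := ⟨by omega⟩
    exact (not_solvable_le hle (solvable_of_equiv s (DicksonMinSimple.solvable_dihedral j)) hns).elim
  · rw [card_alt4 s] at hd; norm_num at hd
  · rw [card_sym4 s] at hd; norm_num at hd
  · exact (card_alt5 s).le
  · exfalso
    rcases h with ⟨hF, -⟩ | ⟨hF, hp10⟩
    · exact no_sub (hF ▸ Fact.out) hm.symm hm2
    · obtain ⟨a, -, hKp⟩ : ∃ a ≤ 2, Fintype.card K = p ^ a :=
        (Nat.dvd_prime_pow Fact.out).1 (hF ▸ hm ▸ dvd_pow_self _ (by omega))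
      have ha : a * m = 2 := by
        rw [hKp, ← pow_mul, hF] at hm
        exact Nat.pow_right_injective (Fact.out : p.Prime).two_le hm
      have ha1 : a = 1 := by
        rcases Nat.eq_zero_or_pos a with rfl | h0
        · simp at ha
        · have := Nat.mul_le_mul_left a hm2
          omega
      rw [ha1, pow_one] at hKp
      have hdK : 60 ∣ p * (p ^ 2 - 1) := by
        rcases e with ⟨⟨s⟩⟩ | ⟨⟨s⟩⟩
        · rw [← hKp, ← card_PSL K]
          exact dvd_mul_of_dvd_right (Nat.card_congr s.toEquiv ▸ hd) _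
        · rw [Nat.card_congr s.toEquiv, card_PGL, hKp] at hd
          exact hd
      have h5 : 5 ∣ p * (p ^ 2 - 1) := dvd_trans (by norm_num) hdK
      rcases (Nat.Prime.dvd_mul Nat.prime_five).1 h5 with h5 | h5
      · omega
      · have h1 : 1 ≤ p ^ 2 := Nat.one_le_pow _ _ (Fact.out : p.Prime).pos
        have h2 : (p ^ 2 - 1 + 1) % 5 = p ^ 2 % 5 := by rw [Nat.sub_add_cancel h1]
        rw [Nat.pow_mod p 2 5] at h2
        rcases hp10 with e | e
        · rw [show p % 5 = 3 by omega] at h2; norm_num at h2; omega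
        · rw [show p % 5 = 2 by omega] at h2; norm_num at h2; omega

theorem exists_max_PGL {K : Type*} [Field K] [Fintype K] (q : ℕ) (hK : Fintype.card K = q) (hF : Fintype.card F = q ^ 2)
    (hq : Odd q) : ∃ H : Subgroup PSL₂, IsCoatom H ∧ Nonempty (H ≃* Matrix.ProjGenLinGroup (Fin 2) K) := by
  have hqo := Nat.odd_iff.1 hq
  have hq3 : 3 ≤ q := by have := Fintype.one_lt_card (α := K); omega
  obtain ⟨κ⟩ := PSL2Sub.exists_ringHom (F := F) (K := K) 2 (by rw [hK, hF])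
  obtain ⟨H, ⟨t⟩⟩ := PSL2Sub.exists_PGL κ (DicksonTypes.isSquare_of_sq κ hK hF hqo)
  have hQo : Fintype.card F % 2 = 1 := by rw [hF, Nat.pow_mod, hqo]
  have hQ9 : 9 ≤ Fintype.card F := by rw [hF]; exact Nat.pow_le_pow_left hq3 2
  have hHc : Nat.card H = q * (q ^ 2 - 1) := by rw [Nat.card_congr t.toEquiv, card_PGL, hK]
  have hHlow : 3 * 8 ≤ q * (q ^ 2 - 1) := Nat.mul_le_mul hq3 (by have := Nat.pow_le_pow_left hq3 2; omega)
  refine ⟨H, coatom_of H ?_ ?_, ⟨t⟩⟩
  · intro e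
    rw [e, Subgroup.card_top] at hHc
    have h := card_PSL F
    rw [hHc, Nat.gcd_eq_left (show 2 ∣ Fintype.card F - 1 by omega), hF] at h
    have h' : q * (2 * (q ^ 2 - 1)) = q * (q * ((q ^ 2) ^ 2 - 1)) := by
      rw [← mul_assoc q 2, mul_comm q 2, mul_assoc 2, h, ← mul_assoc, pow_two q]
    have h'' := Nat.eq_of_mul_eq_mul_left (by omega) h'
    have h9 : q ^ 2 - 1 ≤ (q ^ 2) ^ 2 - 1 := Nat.sub_le_sub_right (Nat.le_self_pow two_ne_zero _) 1
    have := (Nat.mul_le_mul hq3 h9).trans h''.ge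
    omega
  intro N hN hle
  have hd := Subgroup.card_dvd_of_le hle
  have hcle : Nat.card H ≤ Nat.card N := Subgroup.card_le_of_le hle
  rw [hHc] at hd hcle ⊢
  obtain ⟨p, hpc⟩ := CharP.exists F
  haveI : Fact p.Prime := ⟨CharP.char_is_prime F p⟩
  have hnot1 : ¬ q ∣ 1 := fun h => by have := Nat.le_of_dvd one_pos h; omega
  have hqQ : q ∣ Fintype.card F := hF ▸ dvd_pow_self q two_ne_zero
  rcases Cfsg.Agent.S5892.result p (Nat.odd_iff.2 hQo) (by omega) N hN with
    h | ⟨-, j, hj, ⟨s⟩⟩ | ⟨-, -, j, hj, ⟨s⟩⟩ | ⟨L, _, _, hL, ⟨s⟩⟩ | ⟨L, _, _, r', hr', hr'o, hL, ⟨s⟩⟩ |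
    ⟨-, -, ⟨s⟩⟩ | ⟨-, -, -, ⟨s⟩⟩ | ⟨hp, -, -⟩
  · exfalso
    obtain ⟨c, hc⟩ := hd
    rw [hc, hF] at h
    have hp0 : 0 < q * (q ^ 2 - 1) := by omega
    have h' : (2 * c) * (q * (q ^ 2 - 1)) = q * (q * (q ^ 2 - 1)) := by
      rw [← mul_assoc q q, ← pow_two, ← h]; ring
    have := Nat.eq_of_mul_eq_mul_right hp0 h'
    omega
  · exfalso
    have hqN : q ∣ Nat.card N := (dvd_mul_right _ _).trans hd
    rw [card_dihedral s, hj] at hqN
    exact hnot1 ((Nat.dvd_sub hqQ hqN).trans (dvd_of_eq (by omega)))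
  · exfalso
    have hqN : q ∣ Nat.card N := (dvd_mul_right _ _).trans hd
    rw [card_dihedral s, hj] at hqN
    exact hnot1 ((Nat.dvd_add_right hqQ).1 hqN)
  · rw [Nat.card_congr s.toEquiv, card_PGL, Nat.pow_left_injective two_ne_zero (hL.symm.trans hF)]
  · exfalso
    have hr3 : 3 ≤ r' := by obtain ⟨i, hi⟩ := hr'o; have := hr'.two_le; omega
    have hlt : Fintype.card L < q := by
      by_contra hc
      have h3 : q ^ 3 ≤ q ^ 2 := by
        rw [← hF, hL]
        exact (Nat.pow_le_pow_left (Nat.le_of_not_lt hc) 3).trans (Nat.pow_le_pow_right Fintype.card_pos hr3)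
      have := (Nat.pow_le_pow_iff_right (show 1 < q by omega)).1 h3
      omega
    have h1 := card_PSL L
    rw [← Nat.card_congr s.toEquiv] at h1
    have h2 : Nat.card N ≤ Fintype.card L * (Fintype.card L ^ 2 - 1) :=
      h1 ▸ Nat.le_mul_of_pos_left _ (Nat.gcd_pos_of_pos_left _ two_pos)
    have h3 : Fintype.card L ^ 2 - 1 ≤ q ^ 2 - 1 := Nat.sub_le_sub_right (Nat.pow_le_pow_left hlt.le 2) 1
    have h4 : Fintype.card L * (Fintype.card L ^ 2 - 1) < q * (q ^ 2 - 1) :=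
      lt_of_le_of_lt (Nat.mul_le_mul_left _ h3)
        (Nat.mul_lt_mul_of_pos_right hlt (by have := Nat.pow_le_pow_left hq3 2; omega))
    omega
  · exfalso
    rw [card_alt5 s] at hd hcle
    rcases (show q = 3 ∨ 5 ≤ q by omega) with rfl | h5
    · norm_num at hd
    · have h6 : 5 * 24 ≤ q * (q ^ 2 - 1) := Nat.mul_le_mul h5 (by have := Nat.pow_le_pow_left h5 2; omega)
      omega
  · exfalso
    rw [card_alt4 s] at hcle
    omega
  · exact (no_sub (hp ▸ Fact.out) hF le_rfl).elim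

theorem exists_max_PSL {K : Type*} [Field K] [Fintype K] (q r : ℕ) (hK : Fintype.card K = q) (hF : Fintype.card F = q ^ r)
    (hq : Odd q) (hr : r.Prime) (hr2 : r ≠ 2) :
    ∃ H : Subgroup PSL₂, IsCoatom H ∧ Nonempty (H ≃* Matrix.ProjectiveSpecialLinearGroup (Fin 2) K) := by
  have hqo := Nat.odd_iff.1 hq
  have hq3 : 3 ≤ q := by have := Fintype.one_lt_card (α := K); omega
  have hro : Odd r := hr.odd_of_ne_two hr2
  have hr3 : 3 ≤ r := by have := hr.two_le; omega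
  obtain ⟨κ⟩ := PSL2Sub.exists_ringHom (F := F) (K := K) r (by rw [hK, hF])
  obtain ⟨H, ⟨t⟩⟩ := PSL2Sub.exists_PSL κ
  have hQo : Fintype.card F % 2 = 1 := by rw [hF, Nat.pow_mod, hqo, one_pow]; rfl
  have hQbig : q ^ 3 ≤ Fintype.card F := hF ▸ Nat.pow_le_pow_right (by omega) hr3
  have h27 : 27 ≤ q ^ 3 := Nat.pow_le_pow_left hq3 3
  have hHc : Nat.card H * 2 = q * (q ^ 2 - 1) := by
    have h := card_PSL K
    rw [hK, Nat.gcd_eq_left (show 2 ∣ q - 1 by omega), ← Nat.card_congr t.toEquiv] at h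
    rw [mul_comm]; exact h
  refine ⟨H, coatom_of H ?_ ?_, ⟨t⟩⟩
  · intro e
    rw [e, Subgroup.card_top] at hHc
    have h := card_PSL F
    rw [Nat.gcd_eq_left (show 2 ∣ Fintype.card F - 1 by omega), mul_comm, hHc] at h
    have hlt : q < Fintype.card F := by
      have : q ^ 1 < q ^ 3 := Nat.pow_lt_pow_right (by omega) (by norm_num)
      rw [pow_one] at this
      omega
    exact absurd h (Nat.ne_of_lt (Nat.mul_lt_mul_of_lt_of_le hlt
      (Nat.sub_le_sub_right (Nat.pow_le_pow_left hlt.le 2) 1)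
      (by have := Nat.pow_le_pow_left (show 3 ≤ Fintype.card F by omega) 2; omega)))
  intro N hN hle
  have hd := Subgroup.card_dvd_of_le hle
  obtain ⟨p, hpc⟩ := CharP.exists F
  haveI hp : Fact p.Prime := ⟨CharP.char_is_prime F p⟩
  obtain ⟨n, -, hq'⟩ := FiniteField.card F p
  have hsd : q + 1 ∣ Nat.card N * 2 := by
    refine Dvd.dvd.trans ?_ (Nat.mul_dvd_mul_right hd 2)
    rw [hHc, sq_sub_one]
    exact dvd_mul_of_dvd_right (dvd_mul_right _ _) _
  have hs1 : q + 1 ∣ Fintype.card F + 1 := by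
    have := hro.nat_add_dvd_pow_add_pow q 1
    rwa [one_pow, ← hF] at this
  have hqN : q ∣ Nat.card N := by
    have h : q ∣ Nat.card H * 2 := ⟨_, hHc⟩
    exact ((Nat.Coprime.dvd_mul_right (Nat.coprime_two_right.2 hq)).1 h).trans hd
  have hsq : q ∣ Fintype.card F := hF ▸ dvd_pow_self q hr.ne_zero
  have hnot1 : ¬ q ∣ 1 := fun h => by have := Nat.le_of_dvd one_pos h; omega
  obtain ⟨a, -, ha⟩ : ∃ a ≤ (n : ℕ), q = p ^ a := (Nat.dvd_prime_pow hp.out).1 (hq' ▸ hsq)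
  have har : a * r = n := by
    have := hq'.symm.trans hF
    rw [ha, ← pow_mul] at this
    exact (Nat.pow_right_injective hp.out.two_le this).symm
  have ha1 : 1 ≤ a := by
    by_contra h
    rw [show a = 0 by omega, pow_zero] at ha; omega
  have hbig : ∀ j, j ≤ 2 → Fintype.card F ≠ p ^ j := fun j hj e => by
    have := Nat.pow_right_injective hp.out.two_le (e.symm.trans hq')
    have := Nat.mul_le_mul ha1 hr3
    omega
  rcases Cfsg.Agent.S5892.result p (Nat.odd_iff.2 hQo) (by omega) N hN with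
    h | ⟨-, j, hj, ⟨s⟩⟩ | ⟨-, -, j, hj, ⟨s⟩⟩ | ⟨L, _, _, hL, ⟨s⟩⟩ | ⟨L, _, _, r', hr', -, hL, ⟨s⟩⟩ |
    ⟨-, h | ⟨h, -⟩, -⟩ | ⟨h, -, -, -⟩ | ⟨h, -, -⟩
  · exfalso
    rw [mul_comm 2] at h
    rw [h] at hsd
    obtain ⟨z, hz⟩ : ∃ z, Fintype.card F = z + 2 := ⟨Fintype.card F - 2, by omega⟩
    rw [hz, show z + 2 - 1 = z + 1 by omega, show (z + 2) * (z + 1) = (z + 2 + 1) * z + 2 by ring, ← hz] at hsd
    have := Nat.le_of_dvd two_pos ((Nat.dvd_add_right (dvd_mul_of_dvd_left hs1 _)).1 hsd)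
    omega
  · exfalso
    rw [card_dihedral s, hj] at hqN
    exact hnot1 ((Nat.dvd_sub hsq hqN).trans (dvd_of_eq (by omega)))
  · exfalso
    rw [card_dihedral s, hj] at hqN
    exact hnot1 ((Nat.dvd_add_right hsq).1 hqN)
  · exfalso
    have hNc : Nat.card N = Fintype.card L * (Fintype.card F - 1) := by
      rw [Nat.card_congr s.toEquiv, card_PGL, ← hL]
    have h4 : q + 1 ∣ 4 := by
      have h1 : q + 1 ∣ Fintype.card L * (Nat.card N * 2) := dvd_mul_of_dvd_right hsd _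
      rw [hNc, show Fintype.card L * (Fintype.card L * (Fintype.card F - 1) * 2) =
        2 * (Fintype.card L ^ 2 * (Fintype.card F - 1)) by ring, ← hL] at h1
      obtain ⟨c, hc⟩ := hs1
      obtain ⟨z, hz⟩ : ∃ z, Fintype.card F = z + 2 := ⟨Fintype.card F - 2, by omega⟩
      rw [hz, show z + 2 - 1 = z + 1 by omega,
        show 2 * ((z + 2) * (z + 1)) = (z + 2 + 1) * (2 * z) + 4 by ring, ← hz, hc] at h1
      exact (Nat.dvd_add_right (dvd_mul_of_dvd_left (dvd_mul_right _ _) _)).1 h1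
    have := Nat.le_of_dvd (by norm_num) h4
    have hs3 : q = 3 := by omega
    have h34 : Fintype.card F % 4 = 3 := by
      obtain ⟨i, rfl⟩ := hro
      rw [hF, hs3, pow_succ, pow_mul, Nat.mul_mod, Nat.pow_mod]
      simp
    have hsq4 : ∀ x : ℕ, x ^ 2 % 4 ≠ 3 := fun x => by
      rw [Nat.pow_mod]
      rcases (show x % 4 = 0 ∨ x % 4 = 1 ∨ x % 4 = 2 ∨ x % 4 = 3 by omega) with e | e | e | e <;> rw [e] <;> norm_num
    exact hsq4 _ (hL ▸ h34)
  · obtain ⟨b, -, hb⟩ : ∃ b ≤ (n : ℕ), Fintype.card L = p ^ b :=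
      (Nat.dvd_prime_pow hp.out).1 (hq' ▸ hL ▸ dvd_pow_self _ hr'.ne_zero)
    have hbr : b * r' = n := by
      have := hq'.symm.trans hL
      rw [hb, ← pow_mul] at this
      exact (Nat.pow_right_injective hp.out.two_le this).symm
    have hLo : Fintype.card L % 2 = 1 := by
      rcases Nat.mod_two_eq_zero_or_one (Fintype.card L) with e | e
      · rw [hL, Nat.pow_mod, e, zero_pow hr'.ne_zero] at hQo; simp at hQo
      · exact e
    have hNc : Nat.card N * 2 = Fintype.card L * (Fintype.card L ^ 2 - 1) := by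
      have h := card_PSL L
      rw [Nat.gcd_eq_left (show 2 ∣ Fintype.card L - 1 by omega), ← Nat.card_congr s.toEquiv] at h
      rw [mul_comm]; exact h
    have hdd : q ^ 2 - 1 ∣ Fintype.card L * (Fintype.card L ^ 2 - 1) :=
      hNc ▸ (dvd_mul_left _ q).trans (hHc ▸ Nat.mul_dvd_mul_right hd 2)
    rw [ha, hb] at hdd
    have hdd' := ((coprime_sq_sub hp.out ha1).pow_right b).dvd_of_dvd_mul_left hdd
    rw [← pow_mul, ← pow_mul] at hdd'
    obtain ⟨c, rfl⟩ := exp_dvd hp.out.two_le hdd'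
    have hcr : r = c * r' := Nat.eq_of_mul_eq_mul_left ha1 (by rw [har, ← mul_assoc, hbr])
    have hc1 : c = 1 := by
      rcases hr.eq_one_or_self_of_dvd r' ⟨c, by rw [hcr, mul_comm]⟩ with e | e
      · exact absurd e hr'.ne_one
      · rw [e] at hcr
        exact (Nat.eq_of_mul_eq_mul_right hr.pos (by rw [one_mul, ← hcr])).symm
    rw [hc1, mul_one] at hb
    rw [← ha] at hb
    have : Nat.card N * 2 = Nat.card H * 2 := by rw [hNc, hHc, hb]
    omega
  · exact (hbig 1 one_le_two (by rw [pow_one]; exact h)).elim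
  · exact (hbig 2 le_rfl h).elim
  · exact (hbig 1 one_le_two (by rw [pow_one]; exact h)).elim
  · exact (hbig 1 one_le_two (by rw [pow_one]; exact h)).elim

theorem exists_max_PSL_two {K : Type*} [Field K] [Fintype K] (q r : ℕ) (hK : Fintype.card K = q)
    (hF : Fintype.card F = q ^ r) (hq : Even q) (hq2 : q ≠ 2) (hr : r.Prime) :
    ∃ H : Subgroup PSL₂, IsCoatom H ∧ Nonempty (H ≃* Matrix.ProjectiveSpecialLinearGroup (Fin 2) K) := by
  have hqe := Nat.even_iff.1 hq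
  have hq4 : 4 ≤ q := by have := Fintype.one_lt_card (α := K); omega
  obtain ⟨κ⟩ := PSL2Sub.exists_ringHom (F := F) (K := K) r (by rw [hK, hF])
  obtain ⟨H, ⟨t⟩⟩ := PSL2Sub.exists_PSL κ
  have hQe : Fintype.card F % 2 = 0 := by rw [hF, Nat.pow_mod, hqe, zero_pow hr.ne_zero]; rfl
  have hQbig : q ^ 2 ≤ Fintype.card F := hF ▸ Nat.pow_le_pow_right (by omega) hr.two_le
  have h16 : 16 ≤ q ^ 2 := Nat.pow_le_pow_left hq4 2
  have gcd1 : ∀ x : ℕ, x % 2 = 0 → 1 ≤ x → Nat.gcd 2 (x - 1) = 1 := fun x h h1 => by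
    rcases gcd_cases x with e | e
    · exact e
    · have := Nat.gcd_dvd_right 2 (x - 1); rw [e] at this; omega
  have hHc : Nat.card H = q * (q ^ 2 - 1) := by
    have h := card_PSL K
    rwa [hK, gcd1 q hqe (by omega), one_mul, ← Nat.card_congr t.toEquiv] at h
  have hns : ¬ Group.IsSolvable H := fun hs =>
    DicksonMinSimple.not_solvable (F := K) (by omega) (solvable_of_equiv t.symm hs)
  refine ⟨H, coatom_of H ?_ ?_, ⟨t⟩⟩
  · intro e
    rw [e, Subgroup.card_top] at hHc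
    have h := card_PSL F
    rw [gcd1 _ hQe Fintype.card_pos, one_mul, hHc] at h
    have hlt : q < Fintype.card F := by
      have : q * 4 ≤ q ^ 2 := by rw [pow_two]; exact Nat.mul_le_mul_left q hq4
      omega
    exact absurd h (Nat.ne_of_lt (Nat.mul_lt_mul_of_lt_of_le hlt
      (Nat.sub_le_sub_right (Nat.pow_le_pow_left hlt.le 2) 1)
      (by have := Nat.pow_le_pow_left (show 3 ≤ Fintype.card F by omega) 2; omega)))
  intro N hN hle
  have hd := Subgroup.card_dvd_of_le hle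
  rw [hHc] at hd ⊢
  obtain ⟨p, hpc⟩ := CharP.exists F
  haveI hp : Fact p.Prime := ⟨CharP.char_is_prime F p⟩
  obtain ⟨n, -, hq'⟩ := FiniteField.card F p
  have hp2 : p = 2 := by
    have h2 : 2 ∣ p ^ (n : ℕ) := by rw [← hq']; omega
    exact ((Nat.prime_dvd_prime_iff_eq Nat.prime_two hp.out).1 (Nat.prime_two.dvd_of_dvd_pow h2)).symm
  obtain ⟨a, -, ha⟩ : ∃ a ≤ (n : ℕ), q = p ^ a := (Nat.dvd_prime_pow hp.out).1 (hq' ▸ hF ▸ dvd_pow_self q hr.ne_zero)
  have har : a * r = n := by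
    have := hq'.symm.trans hF
    rw [ha, ← pow_mul] at this
    exact (Nat.pow_right_injective hp.out.two_le this).symm
  have ha1 : 1 ≤ a := by
    by_contra h
    rw [show a = 0 by omega, pow_zero] at ha; omega
  rcases DicksonMaximal.max_shape (by omega) p N hN with
    ⟨y, e⟩ | ⟨j, hj, -, ⟨s⟩⟩ | ⟨j, hj, -, ⟨s⟩⟩ | ⟨h, -⟩ | ⟨h, -⟩ | ⟨h, -⟩ | ⟨L, iL, iF, m, hm, hm2, -, -, -, -, e⟩
  · exact (not_solvable_le (e ▸ hle) (DicksonMinSimple.solvable_borel y) hns).elim
  · haveI : NeZero j := ⟨by omega⟩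
    exact (not_solvable_le hle (solvable_of_equiv s (DicksonMinSimple.solvable_dihedral j)) hns).elim
  · haveI : NeZero j := ⟨by omega⟩
    exact (not_solvable_le hle (solvable_of_equiv s (DicksonMinSimple.solvable_dihedral j)) hns).elim
  · exact absurd hp2 h
  · exact absurd hp2 h
  · exact absurd hp2 h
  · obtain ⟨b, -, hb⟩ : ∃ b ≤ (n : ℕ), Fintype.card L = p ^ b :=
      (Nat.dvd_prime_pow hp.out).1 (hq' ▸ hm ▸ dvd_pow_self _ (by omega))
    have hbm : b * m = n := by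
      have := hm.trans hq'
      rw [hb, ← pow_mul] at this
      exact Nat.pow_right_injective hp.out.two_le this
    have hLe : Fintype.card L % 2 = 0 := by
      rcases Nat.mod_two_eq_zero_or_one (Fintype.card L) with e | e
      · exact e
      · rw [← hm, Nat.pow_mod, e, one_pow] at hQe; simp at hQe
    have hNc : Nat.card N = Fintype.card L * (Fintype.card L ^ 2 - 1) := by
      rcases e with ⟨⟨s⟩⟩ | ⟨⟨s⟩⟩
      · have h := card_PSL L
        rwa [gcd1 _ hLe Fintype.card_pos, one_mul, ← Nat.card_congr s.toEquiv] at h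
      · rw [Nat.card_congr s.toEquiv, card_PGL]
    have hdd : q ^ 2 - 1 ∣ Fintype.card L * (Fintype.card L ^ 2 - 1) := hNc ▸ (dvd_mul_left _ q).trans hd
    rw [ha, hb] at hdd
    have hdd' := ((coprime_sq_sub hp.out ha1).pow_right b).dvd_of_dvd_mul_left hdd
    rw [← pow_mul, ← pow_mul] at hdd'
    obtain ⟨c, rfl⟩ := exp_dvd hp.out.two_le hdd'
    have hcr : r = c * m := Nat.eq_of_mul_eq_mul_left ha1 (by rw [har, ← mul_assoc, hbm])
    have hc1 : c = 1 := by
      rcases hr.eq_one_or_self_of_dvd m ⟨c, by rw [hcr, mul_comm]⟩ with e | e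
      · omega
      · rw [e] at hcr
        exact (Nat.eq_of_mul_eq_mul_right hr.pos (by rw [one_mul, ← hcr])).symm
    rw [hc1, mul_one, ← ha] at hb
    rw [hNc, hb]

end CfsgLib.Lie.DicksonExist
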