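import Cfsg.Agent.Lie.DicksonOrbit
import Cfsg.Agent.Lie.ProjLine

/-!
Finite subgroups of PGL₂ over an algebraically closed field act like a projective line in the sense of `IsLine`;
rational points and orders of semisimple elements.
-/

set_option autoImplicit false
set_option linter.unusedSectionVars false
set_option linter.unusedSimpArgs false

namespace CfsgLib.Lie.DicksonLine

open Matrix ProjLine

variable {K : Type*} [Field K]

local notation "GL₂" => GL (Fin 2) K
local notation "PG" => Matrix.ProjGenLinGroup (Fin 2) K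

/-! ### Affine coordinates -/

/-- the affine point x -/
def pt (x : K) : Pt K := Projectivization.mk K ![x, 1] (by simp)

theorem pt_inj {x y : K} (h : pt x = pt y) : x = y := by
  unfold pt at h
  rw [Projectivization.mk_eq_mk_iff'] at h
  obtain ⟨a, ha⟩ := h
  have h0 := congrFun ha 0
  have h1 := congrFun ha 1
  simp at h0 h1
  rw [← h0, h1, one_mul]

theorem pt_ne_P0 (x : K) : pt x ≠ (P0 : Pt K) := fun h => by
  unfold pt P0 at h
  rw [Projectivization.mk_eq_mk_iff'] at h
  obtain ⟨a, ha⟩ := h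
  have h1 := congrFun ha 1
  simp at h1

theorem P1_eq : (P1 : Pt K) = pt 0 := rfl

theorem P2_eq : (P2 : Pt K) = pt 1 := rfl

theorem pt_cases (z : Pt K) : z = P0 ∨ ∃ x, z = pt x := by
  induction z using Projectivization.ind with
  | _ v hv =>
    rcases eq_or_ne (v 1) 0 with h | h
    · left
      refine (Projectivization.mk_eq_mk_iff' K v ![1, 0] hv (by simp)).2 ⟨v 0, ?_⟩
      funext i; fin_cases i <;> simp [h]
    · right
      refine ⟨v 0 / v 1, (Projectivization.mk_eq_mk_iff' K v ![v 0 / v 1, 1] hv (by simp)).2 ⟨v 1, ?_⟩⟩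
      funext i; fin_cases i <;> simp [h]; field_simp

theorem exists_to_P0 (z : Pt K) : ∃ k : GL₂, k • (P0 : Pt K) = z := by
  rcases pt_cases z with rfl | ⟨x, rfl⟩
  · exact ⟨1, one_smul _ _⟩
  · refine ⟨GeneralLinearGroup.mkOfDetNeZero !![x, 1; 1, 0] (by simp [Matrix.det_fin_two]), ?_⟩
    unfold P0 pt
    rw [Projectivization.smul_mk, Projectivization.mk_eq_mk_iff']
    refine ⟨1, ?_⟩
    change _ = _ *ᵥ _
    funext i
    fin_cases i <;> simp [GeneralLinearGroup.mkOfDetNeZero, Matrix.mulVec, dotProduct, Fin.sum_univ_two]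

theorem smul_P0_iff (A : GL₂) : A • (P0 : Pt K) = P0 ↔ A.1 1 0 = 0 := by
  unfold P0
  rw [Projectivization.smul_mk, Projectivization.mk_eq_mk_iff']
  change (∃ a : K, _ = A.1 *ᵥ _) ↔ _
  constructor
  · rintro ⟨a, ha⟩
    have h1 := congrFun ha 1
    simp [Matrix.mulVec, dotProduct, Fin.sum_univ_two] at h1
    exact h1.symm
  · intro h
    refine ⟨A.1 0 0, ?_⟩
    funext i
    fin_cases i <;> simp [Matrix.mulVec, dotProduct, Fin.sum_univ_two, h]

theorem smul_pt {A : GL₂} {x : K} (h : A.1 1 0 * x + A.1 1 1 ≠ 0) :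
    A • pt x = pt ((A.1 0 0 * x + A.1 0 1) / (A.1 1 0 * x + A.1 1 1)) := by
  unfold pt
  rw [Projectivization.smul_mk, Projectivization.mk_eq_mk_iff']
  refine ⟨A.1 1 0 * x + A.1 1 1, ?_⟩
  change _ = A.1 *ᵥ _
  funext i
  fin_cases i <;> simp [Matrix.mulVec, dotProduct, Fin.sum_univ_two]
  field_simp

theorem smul_pt_inf {A : GL₂} {x : K} (h : A.1 1 0 * x + A.1 1 1 = 0) : A • pt x = (P0 : Pt K) := by
  have hne : A.1 0 0 * x + A.1 0 1 ≠ 0 := by
    intro h0
    refine A.det_ne_zero ?_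
    rw [Matrix.det_fin_two]
    linear_combination A.1 0 0 * h - A.1 1 0 * h0
  unfold pt P0
  rw [Projectivization.smul_mk, Projectivization.mk_eq_mk_iff']
  refine ⟨A.1 0 0 * x + A.1 0 1, ?_⟩
  change _ = A.1 *ᵥ _
  funext i
  fin_cases i <;> simp [Matrix.mulVec, dotProduct, Fin.sum_univ_two, h]

theorem smul_P0 {A : GL₂} (h : A.1 1 0 ≠ 0) : A • (P0 : Pt K) = pt (A.1 0 0 / A.1 1 0) := by
  unfold pt P0
  rw [Projectivization.smul_mk, Projectivization.mk_eq_mk_iff']
  refine ⟨A.1 1 0, ?_⟩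
  change _ = A.1 *ᵥ _
  funext i
  fin_cases i <;> simp [Matrix.mulVec, dotProduct, Fin.sum_univ_two]
  field_simp

theorem diag_ne_zero {A : GL₂} (h : A.1 1 0 = 0) : A.1 0 0 ≠ 0 ∧ A.1 1 1 ≠ 0 := by
  have := A.det_ne_zero
  rw [Matrix.det_fin_two, h, mul_zero, sub_zero] at this
  exact mul_ne_zero_iff.1 this

/-- fixed points of a triangular element -/
theorem fix_tri {A : GL₂} (h : A.1 1 0 = 0) (x : K) :
    A • pt x = pt x ↔ A.1 0 0 * x + A.1 0 1 = A.1 1 1 * x := by
  have hd := (diag_ne_zero h).2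
  rw [smul_pt (by rw [h, zero_mul, zero_add]; exact hd), h, zero_mul, zero_add]
  refine ⟨fun e => ?_, fun e => ?_⟩
  · have := pt_inj e
    rw [div_eq_iff hd] at this
    rw [this, mul_comm]
  · rw [e, mul_div_cancel_left₀ _ hd]

theorem scalar_iff {A : GL₂} :
    ProjGenLinGroup.mk A = 1 ↔ A.1 1 0 = 0 ∧ A.1 0 1 = 0 ∧ A.1 0 0 = A.1 1 1 := by
  rw [ProjGenLinGroup.mk_eq_one, GeneralLinearGroup.center_eq_range_scalar]
  constructor
  · rintro ⟨u, rfl⟩
    simp [GeneralLinearGroup.coe_scalar, Matrix.scalar_apply]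
  · rintro ⟨h1, h2, h3⟩
    refine ⟨Units.mk0 _ (diag_ne_zero h1).1, Units.ext ?_⟩
    ext i j
    fin_cases i <;> fin_cases j <;> simp [GeneralLinearGroup.coe_scalar, Matrix.scalar_apply, h1, h2, ← h3]

theorem tri_pow {A : GL₂} (h : A.1 1 0 = 0) : ∀ n : ℕ, (A ^ n).1 1 0 = 0 ∧ (A ^ n).1 0 0 = A.1 0 0 ^ n ∧
    (A ^ n).1 1 1 = A.1 1 1 ^ n ∧ (A.1 0 0 = A.1 1 1 → (A ^ n).1 0 1 * A.1 0 0 = (n : K) * A.1 0 0 ^ n * A.1 0 1)
  | 0 => by simp
  | n + 1 => by
    obtain ⟨h1, h2, h3, h4⟩ := tri_pow h n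
    rw [pow_succ, Units.val_mul]
    simp only [Matrix.mul_apply, Fin.sum_univ_two, h, h1, h2, h3]
    refine ⟨by ring, by ring, by ring, fun e => ?_⟩
    push_cast
    have := h4 e
    linear_combination A.1 1 1 * this + (-(A.1 0 0 ^ n) * A.1 0 1 * (n : K)) * e

/-- two fixed points and no p-th root of one, or one fixed point and p-th power one -/
theorem fix_or_P0 (p : ℕ) [Fact p.Prime] [CharP K p] {g : PG} (hg : g ≠ 1) (h0 : g • (P0 : Pt K) = P0) :
    (g ^ p ≠ 1 ∧ ∃ a b, a ≠ b ∧ ∀ x : Pt K, g • x = x ↔ x = a ∨ x = b) ∨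
      (g ^ p = 1 ∧ ∃ a, ∀ x : Pt K, g • x = x ↔ x = a) := by
  induction g using Matrix.ProjGenLinGroup.induction_on with
  | mk A =>
    change A • (P0 : Pt K) = P0 at h0
    have h := (smul_P0_iff A).1 h0
    have hne : A.1 0 1 ≠ 0 ∨ A.1 0 0 ≠ A.1 1 1 := by
      by_contra hc
      push Not at hc
      exact hg (scalar_iff.2 ⟨h, hc.1, hc.2⟩)
    obtain ⟨p1, p2, p3, p4⟩ := tri_pow h p
    by_cases he : A.1 0 0 = A.1 1 1
    · refine Or.inr ⟨?_, P0, fun z => ⟨fun hz => ?_, fun hz => hz ▸ h0⟩⟩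
      · rw [← map_pow]
        refine scalar_iff.2 ⟨p1, ?_, by rw [p2, p3, he]⟩
        have := p4 he
        rw [CharP.cast_eq_zero K p, zero_mul, zero_mul] at this
        exact (mul_eq_zero.1 this).resolve_right (diag_ne_zero h).1
      · rcases pt_cases z with rfl | ⟨x, rfl⟩
        · rfl
        · have := (fix_tri h x).1 hz
          rw [he] at this
          exact absurd (add_eq_left.1 this) (hne.resolve_right (not_not.2 he))
    · have hs : A.1 1 1 - A.1 0 0 ≠ 0 := sub_ne_zero.2 (Ne.symm he)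
      refine Or.inl ⟨fun e => ?_, P0, pt (A.1 0 1 / (A.1 1 1 - A.1 0 0)), Ne.symm (pt_ne_P0 _), fun z => ?_⟩
      · rw [← map_pow] at e
        have := (scalar_iff.1 e).2.2
        rw [p2, p3] at this
        exact he (frobenius_inj K p this)
      · rcases pt_cases z with rfl | ⟨x, rfl⟩
        · simp only [true_or, iff_true]; exact h0
        · change A • pt x = pt x ↔ _
          rw [fix_tri h]
          constructor
          · intro e
            right
            congr 1
            rw [eq_div_iff hs]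
            linear_combination -e
          · rintro (e | e)
            · exact absurd e (pt_ne_P0 x)
            · have := pt_inj e
              rw [eq_div_iff hs] at this
              linear_combination -this

theorem exists_fixed [IsAlgClosed K] (g : PG) : ∃ x : Pt K, g • x = x := by
  induction g using Matrix.ProjGenLinGroup.induction_on with
  | mk A =>
    by_cases h : A.1 1 0 = 0
    · exact ⟨P0, (smul_P0_iff A).2 h⟩
    · obtain ⟨r, hr⟩ := IsAlgClosed.exists_root (Polynomial.C (A.1 1 0) * Polynomial.X ^ 2 +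
        Polynomial.C (A.1 1 1 - A.1 0 0) * Polynomial.X + Polynomial.C (-A.1 0 1))
        (by rw [Polynomial.degree_quadratic h]; simp)
      simp [Polynomial.IsRoot] at hr
      have hd : A.1 1 0 * r + A.1 1 1 ≠ 0 := fun e => by
        refine A.det_ne_zero ?_
        rw [Matrix.det_fin_two]
        linear_combination A.1 1 0 * hr + (A.1 0 0 - A.1 1 0 * r) * e
      refine ⟨pt r, ?_⟩
      change A • pt r = pt r
      rw [smul_pt hd]
      congr 1
      rw [div_eq_iff hd]
      linear_combination -hr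

theorem exists_conj_P0 (g : PG) {x : Pt K} (hx : g • x = x) :
    ∃ k : PG, k • (P0 : Pt K) = x ∧ (k⁻¹ * g * k) • (P0 : Pt K) = P0 := by
  obtain ⟨k, hk⟩ := exists_to_P0 x
  refine ⟨ProjGenLinGroup.mk k, hk, ?_⟩
  have hk' : ProjGenLinGroup.mk k • (P0 : Pt K) = x := hk
  rw [mul_smul, mul_smul, hk', hx, inv_smul_eq_iff, hk']

theorem conj_pow_eq_one (k g : PG) (n : ℕ) : (k⁻¹ * g * k) ^ n = 1 ↔ g ^ n = 1 := by
  rw [show k⁻¹ * g * k = k⁻¹ * g * k⁻¹⁻¹ by rw [inv_inv], conj_pow, mul_inv_eq_one, mul_eq_left]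

theorem fix_or [IsAlgClosed K] (p : ℕ) [Fact p.Prime] [CharP K p] {g : PG} (hg : g ≠ 1) :
    (g ^ p ≠ 1 ∧ ∃ a b, a ≠ b ∧ ∀ x : Pt K, g • x = x ↔ x = a ∨ x = b) ∨
      (g ^ p = 1 ∧ ∃ a, ∀ x : Pt K, g • x = x ↔ x = a) := by
  obtain ⟨x, hx⟩ := exists_fixed g
  obtain ⟨k, -, hk⟩ := exists_conj_P0 g hx
  have e : ∀ y : Pt K, g • y = y ↔ (k⁻¹ * g * k) • k⁻¹ • y = k⁻¹ • y := fun y => by
    rw [mul_smul, mul_smul, smul_inv_smul, smul_left_cancel_iff]
  have hne : k⁻¹ * g * k ≠ 1 := fun e' => hg (by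
    rw [← pow_one g, ← conj_pow_eq_one k g 1, pow_one, e'])
  rcases fix_or_P0 p hne hk with ⟨hp, a, b, hab, hf⟩ | ⟨hp, a, hf⟩
  · refine Or.inl ⟨fun h => hp ((conj_pow_eq_one _ _ _).2 h), k • a, k • b,
      fun h => hab (smul_left_cancel k h), fun y => ?_⟩
    rw [e, hf, inv_smul_eq_iff, inv_smul_eq_iff]
  · refine Or.inr ⟨(conj_pow_eq_one _ _ _).1 hp, k • a, fun y => ?_⟩
    rw [e, hf, inv_smul_eq_iff]

/-- ratio of the diagonal entries -/
noncomputable def ratio (g : PG) : K :=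
  (ProjGenLinGroup.mk_surjective g).choose.1 0 0 / (ProjGenLinGroup.mk_surjective g).choose.1 1 1

theorem ratio_mk (A : GL₂) : ratio (ProjGenLinGroup.mk A) = A.1 0 0 / A.1 1 1 := by
  have h := (ProjGenLinGroup.mk_surjective (ProjGenLinGroup.mk A)).choose_spec
  obtain ⟨u, hu⟩ := ProjGenLinGroup.mk_eq_mk_iff.1 h.symm
  unfold ratio
  rw [← hu, Units.val_mul]
  simp only [Matrix.mul_apply, Fin.sum_univ_two, GeneralLinearGroup.coe_scalar, Matrix.scalar_apply,
    Matrix.diagonal_apply]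
  simp only [Fin.isValue, zero_ne_one, one_ne_zero, ↓reduceIte, mul_zero, add_zero, zero_add]
  rw [mul_div_mul_right _ _ u.ne_zero]

theorem ratio_ne_zero {g : PG} (h : g • (P0 : Pt K) = P0) : ratio g ≠ 0 := by
  induction g using Matrix.ProjGenLinGroup.induction_on with
  | mk A =>
    have h' := diag_ne_zero ((smul_P0_iff A).1 h)
    rw [ratio_mk]
    exact div_ne_zero h'.1 h'.2

theorem ratio_mul {g k : PG} (hg : g • (P0 : Pt K) = P0) (hk : k • (P0 : Pt K) = P0) :
    ratio (g * k) = ratio g * ratio k := by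
  induction g using Matrix.ProjGenLinGroup.induction_on with
  | mk A =>
    induction k using Matrix.ProjGenLinGroup.induction_on with
    | mk B =>
      have ha := (smul_P0_iff A).1 hg
      have hb := (smul_P0_iff B).1 hk
      rw [← map_mul, ratio_mk, ratio_mk, ratio_mk, Units.val_mul]
      simp [Matrix.mul_apply, Fin.sum_univ_two, ha, hb, mul_div_mul_comm]

theorem ratio_one : ratio (1 : PG) = 1 := by
  rw [← map_one (ProjGenLinGroup.mk (n := Fin 2) (R := K)), ratio_mk]
  simp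

theorem pow_eq_one_iff_ratio (p : ℕ) [Fact p.Prime] [CharP K p] {g : PG} (h : g • (P0 : Pt K) = P0) :
    ratio g = 1 ↔ g ^ p = 1 := by
  induction g using Matrix.ProjGenLinGroup.induction_on with
  | mk A =>
    have h1 := (smul_P0_iff A).1 h
    obtain ⟨p1, p2, p3, p4⟩ := tri_pow h1 p
    rw [ratio_mk, div_eq_one_iff_eq (diag_ne_zero h1).2, ← map_pow, scalar_iff]
    constructor
    · intro e
      refine ⟨p1, ?_, by rw [p2, p3, e]⟩
      have := p4 e
      rw [CharP.cast_eq_zero K p, zero_mul, zero_mul] at this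
      exact (mul_eq_zero.1 this).resolve_right (diag_ne_zero h1).1
    · rintro ⟨-, -, e⟩
      rw [p2, p3] at e
      exact frobenius_inj K p e

theorem isLine [IsAlgClosed K] (p : ℕ) [hp : Fact p.Prime] [CharP K p] (G : Subgroup PG) :
    DicksonOrbit.IsLine K G (Pt K) p where
  prime := hp.out
  fix g hg := by
    have h := fix_or p (g := (g : PG)) (fun e => hg (Subtype.ext e))
    have e : g ^ p = 1 ↔ (g : PG) ^ p = 1 := by rw [← SubmonoidClass.coe_pow, OneMemClass.coe_eq_one]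
    simp only [ne_eq, e]
    exact h
  stab x := by
    obtain ⟨k₀, hk₀⟩ := exists_to_P0 x
    obtain ⟨k, hk⟩ : ∃ k : PG, k • (P0 : Pt K) = x := ⟨ProjGenLinGroup.mk k₀, hk₀⟩
    have hfx : ∀ g : MulAction.stabilizer G x, (k⁻¹ * ((g : G) : PG) * k) • (P0 : Pt K) = P0 := fun g => by
      have hgx : ((g : G) : PG) • x = x := g.2
      rw [mul_smul, mul_smul, hk, hgx, inv_smul_eq_iff, hk]
    refine ⟨MonoidHom.mk' (fun g => Units.mk0 _ (ratio_ne_zero (hfx g))) (fun a b => Units.ext ?_), fun g => ?_⟩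
    · rw [Units.val_mul, Units.val_mk0, Units.val_mk0, Units.val_mk0, ← ratio_mul (hfx a) (hfx b)]
      congr 1
      simp [mul_assoc]
    · rw [MonoidHom.mk'_apply, Units.ext_iff, Units.val_mk0, Units.val_one, pow_eq_one_iff_ratio p (hfx g),
        conj_pow_eq_one, ← SubmonoidClass.coe_pow, OneMemClass.coe_eq_one]

/-! ### Rationality -/

variable {F : Type*} [Field F]

theorem scalar_map (f : F →+* K) (A : GL (Fin 2) F) :
    A ∈ Subgroup.center (GL (Fin 2) F) ↔ GeneralLinearGroup.map f A ∈ Subgroup.center GL₂ := by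
  rw [← ProjGenLinGroup.mk_eq_one, ← ProjGenLinGroup.mk_eq_one, scalar_iff, scalar_iff]
  simp [map_eq_zero_iff f f.injective, f.injective.eq_iff]

/-- base change -/
def mapPGL (f : F →+* K) : Matrix.ProjGenLinGroup (Fin 2) F →* PG :=
  QuotientGroup.map (Subgroup.center (GL (Fin 2) F)) (Subgroup.center GL₂) (GeneralLinearGroup.map f)
    (fun A hA => (scalar_map f A).1 hA)

theorem mapPGL_mk (f : F →+* K) (A : GL (Fin 2) F) :
    mapPGL f (ProjGenLinGroup.mk A) = ProjGenLinGroup.mk (GeneralLinearGroup.map f A) := rfl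

theorem mapPGL_injective (f : F →+* K) : Function.Injective (mapPGL f) := by
  rw [injective_iff_map_eq_one]
  intro g
  induction g using Matrix.ProjGenLinGroup.induction_on with
  | mk A =>
    rw [mapPGL_mk, ProjGenLinGroup.mk_eq_one, ProjGenLinGroup.mk_eq_one]
    exact (scalar_map f A).2

/-- base change of points -/
noncomputable def ι (f : F →+* K) (y : Pt F) : Pt K :=
  Projectivization.mk K (f ∘ y.rep) (fun h => y.rep_nonzero (funext fun i => f.injective (by
    have := congrFun h i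
    simpa using this)))

theorem ι_mk (f : F →+* K) (v : Fin 2 → F) (hv : v ≠ 0) (hv' : f ∘ v ≠ 0) :
    ι f (Projectivization.mk F v hv) = Projectivization.mk K (f ∘ v) hv' := by
  unfold ι
  rw [Projectivization.mk_eq_mk_iff']
  obtain ⟨a, ha⟩ := (Projectivization.mk_eq_mk_iff' F _ _ (Projectivization.rep_nonzero _) hv).1
    (Projectivization.mk_rep (Projectivization.mk F v hv))
  refine ⟨f a, ?_⟩
  rw [← ha]
  funext i
  simp

theorem ι_smul (f : F →+* K) (g : Matrix.ProjGenLinGroup (Fin 2) F) (y : Pt F) :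
    mapPGL f g • ι f y = ι f (g • y) := by
  induction g using Matrix.ProjGenLinGroup.induction_on with
  | mk A =>
    induction y using Projectivization.ind with
    | _ v hv =>
      have hv' : f ∘ v ≠ 0 := fun h => hv (funext fun i => f.injective (by
        have := congrFun h i
        simpa using this))
      have hAv : f ∘ (A.1 *ᵥ v) ≠ 0 := fun h => hv (Matrix.eq_zero_of_mulVec_eq_zero A.det_ne_zero
        (funext fun i => f.injective (by
          have := congrFun h i
          simpa using this)))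
      rw [mapPGL_mk, ι_mk f v hv hv']
      change GeneralLinearGroup.map f A • (Projectivization.mk K (f ∘ v) hv' : Pt K) =
        ι f (A • (Projectivization.mk F v hv : Pt F))
      rw [Projectivization.smul_mk, Projectivization.smul_mk]
      erw [ι_mk f _ _ hAv]
      rw [Projectivization.mk_eq_mk_iff']
      refine ⟨1, ?_⟩
      rw [one_smul]
      funext i
      exact RingHom.map_mulVec f A.1 v i

theorem ι_injective (f : F →+* K) : Function.Injective (ι f) := by
  intro a b h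
  unfold ι at h
  rw [Projectivization.mk_eq_mk_iff'] at h
  obtain ⟨c, hc⟩ := h
  refine eq_of_det_eq_zero (f.injective ?_)
  have h0 := congrFun hc 0
  have h1 := congrFun hc 1
  simp at h0 h1
  rw [map_sub, map_mul, map_mul, map_zero, ← h0, ← h1]
  ring

theorem smul_ι_iff (f : F →+* K) (g : Matrix.ProjGenLinGroup (Fin 2) F) (y : Pt F) :
    mapPGL f g • ι f y = ι f y ↔ g • y = y := by
  rw [ι_smul, (ι_injective f).eq_iff]

theorem card_Pt [Fintype F] : Nat.card (Pt F) = Fintype.card F + 1 := by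
  rw [Projectivization.card_of_finrank_two F (Fin 2 → F) (by simp), Nat.card_eq_fintype_card]

/-- an element of order p has a rational fixed point -/
theorem exists_rational_fixed [Fintype F] (p : ℕ) [hp : Fact p.Prime] [CharP F p]
    {u : Matrix.ProjGenLinGroup (Fin 2) F} (hu : u ^ p = 1) : ∃ y : Pt F, u • y = y := by
  have hP : IsPGroup p (Subgroup.zpowers u) := fun a => by
    obtain ⟨n, hn⟩ := a.2
    refine ⟨1, Subtype.ext ?_⟩
    rw [pow_one, SubmonoidClass.coe_pow, OneMemClass.coe_one, ← hn]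
    show (u ^ n) ^ p = 1
    rw [← zpow_natCast, ← _root_.zpow_mul, mul_comm, _root_.zpow_mul, zpow_natCast, hu, _root_.one_zpow]
  have hnd : ¬ p ∣ Nat.card (Pt F) := by
    rw [card_Pt]
    intro h
    obtain ⟨n, -, hn⟩ := FiniteField.card F p
    rw [hn] at h
    exact hp.out.not_dvd_one ((Nat.dvd_add_right (dvd_pow_self p n.ne_zero)).1 h)
  haveI : Finite (Pt F) := Finite.of_equiv _ (Projectivization.equivSubmodule F (Fin 2 → F)).symm
  obtain ⟨y, hy⟩ := hP.nonempty_fixed_point_of_prime_not_dvd_card (Pt F) hnd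
  exact ⟨y, hy ⟨u, Subgroup.mem_zpowers u⟩⟩

/-- semisimple elements: the eigenvalue ratio in an extension -/
theorem exists_ratio [IsAlgClosed K] [Fintype F] (p : ℕ) [hp : Fact p.Prime] [CharP K p] (f : F →+* K)
    (A : GL (Fin 2) F) (hA : (ProjGenLinGroup.mk A) ^ p ≠ 1) :
    ∃ a d : K, a ≠ 0 ∧ d ≠ 0 ∧ a * d = f A.1.det ∧
      ((a ^ Fintype.card F = a ∧ d ^ Fintype.card F = d) ∨ (a ^ Fintype.card F = d ∧ d ^ Fintype.card F = a)) ∧
      ∀ n : ℕ, a ^ n = d ^ n → (ProjGenLinGroup.mk A) ^ n = 1 := by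
  haveI : CharP F p := f.charP f.injective p
  obtain ⟨g, hg⟩ : ∃ g : PG, g = mapPGL f (ProjGenLinGroup.mk A) := ⟨_, rfl⟩
  have hgp : g ^ p ≠ 1 := fun h => hA (mapPGL_injective f (by rw [map_pow, ← hg, h, map_one]))
  have hg1 : g ≠ 1 := fun h => hgp (by rw [h, one_pow])
  obtain ⟨x, hx⟩ := exists_fixed g
  obtain ⟨k₀, hk₀⟩ := exists_to_P0 x
  obtain ⟨B, hB⟩ : ∃ B : GL₂, B = k₀⁻¹ * GeneralLinearGroup.map f A * k₀ := ⟨_, rfl⟩
  have hBg : ProjGenLinGroup.mk B = (ProjGenLinGroup.mk k₀)⁻¹ * g * ProjGenLinGroup.mk k₀ := by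
    rw [hB, hg, mapPGL_mk, map_mul, map_mul, map_inv]
  have hB0 : B.1 1 0 = 0 := by
    have hk : ProjGenLinGroup.mk k₀ • (P0 : Pt K) = x := hk₀
    refine (smul_P0_iff B).1 ?_
    change ProjGenLinGroup.mk B • (P0 : Pt K) = P0
    rw [hBg, mul_smul, mul_smul, hk, hx, inv_smul_eq_iff, hk]
  have htr : B.1 0 0 + B.1 1 1 = f (A.1 0 0 + A.1 1 1) := by
    have e1 : B.1.trace = (A.1.map f).trace := by
      rw [hB, Units.val_mul, Units.val_mul, Matrix.trace_mul_comm, ← mul_assoc, ← Units.val_mul, mul_inv_cancel,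
        Units.val_one, one_mul]
      rfl
    rw [Matrix.trace_fin_two, Matrix.trace_fin_two] at e1
    rw [e1, map_add]; rfl
  have hdet : B.1 0 0 * B.1 1 1 = f A.1.det := by
    have e1 : B.1.det = (A.1.map f).det := by
      rw [hB, Units.val_mul, Units.val_mul]
      exact Matrix.det_units_conj' k₀ _
    rw [Matrix.det_fin_two, hB0, mul_zero, sub_zero] at e1
    rw [e1]; exact (f.map_det A.1).symm
  obtain ⟨h0, h1⟩ := diag_ne_zero hB0
  refine ⟨B.1 0 0, B.1 1 1, h0, h1, hdet, ?_, fun n hn => ?_⟩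
  · obtain ⟨m, -, hm⟩ := FiniteField.card F p
    have hfr : ∀ c : F, (f c) ^ Fintype.card F = f c := fun c => by rw [← map_pow, FiniteField.pow_card]
    have hadd : ∀ u v : K, (u + v) ^ Fintype.card F = u ^ Fintype.card F + v ^ Fintype.card F := fun u v => by
      rw [hm]; exact add_pow_char_pow u v p _
    have e1 := hadd (B.1 0 0) (B.1 1 1)
    rw [htr, hfr] at e1
    have e2 := mul_pow (B.1 0 0) (B.1 1 1) (Fintype.card F)
    rw [hdet, hfr] at e2
    have key : (B.1 0 0 ^ Fintype.card F - B.1 0 0) * (B.1 0 0 ^ Fintype.card F - B.1 1 1) = 0 := by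
      linear_combination -(B.1 0 0 ^ Fintype.card F) * htr + hdet + (B.1 0 0 ^ Fintype.card F) * e1.symm - e2.symm
    rcases mul_eq_zero.1 key with e | e
    · left
      refine ⟨sub_eq_zero.1 e, ?_⟩
      linear_combination e1.symm - htr - e
    · right
      refine ⟨sub_eq_zero.1 e, ?_⟩
      linear_combination e1.symm - htr - e
  · have hgn : g ^ n = 1 := by
      by_contra hne
      have hfixn' : ∀ y : Pt K, g • y = y → (g ^ n) • y = y := fun y hy =>
        MulAction.mem_stabilizer_iff.1 (pow_mem (show g ∈ MulAction.stabilizer PG y from hy) n)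
      have hnp : (g ^ n) ^ p = 1 := by
        rw [← conj_pow_eq_one (ProjGenLinGroup.mk k₀)]
        have h2 : ((ProjGenLinGroup.mk k₀)⁻¹ * g ^ n * ProjGenLinGroup.mk k₀) = ProjGenLinGroup.mk (B ^ n) := by
          rw [map_pow, hBg]
          have := conj_pow (i := n) (a := (ProjGenLinGroup.mk k₀)⁻¹) (b := g)
          rw [inv_inv] at this
          rw [this]
        rw [h2]
        obtain ⟨q1, q2, q3, -⟩ := tri_pow hB0 n
        refine (pow_eq_one_iff_ratio p ((smul_P0_iff (B ^ n)).2 q1)).1 ?_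
        rw [ratio_mk, q2, q3, hn, div_self (pow_ne_zero _ h1)]
      rcases fix_or p hg1 with ⟨-, a, b, hab, hf⟩ | ⟨e, -⟩
      · rcases fix_or p hne with ⟨e, -⟩ | ⟨-, c, hc⟩
        · exact e hnp
        · exact hab (((hc a).1 (hfixn' a ((hf a).2 (Or.inl rfl)))).trans
            ((hc b).1 (hfixn' b ((hf b).2 (Or.inr rfl)))).symm)
      · exact hgp e
    refine mapPGL_injective f ?_
    rw [map_pow, ← hg, hgn, map_one]

/-- the order of a semisimple element of PGL₂(q) -/
theorem semisimple_pow [IsAlgClosed K] [Fintype F] (p : ℕ) [hp : Fact p.Prime] [CharP K p] (f : F →+* K)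
    (A : GL (Fin 2) F) (hA : (ProjGenLinGroup.mk A) ^ p ≠ 1) :
    ((ProjGenLinGroup.mk A) ^ (Fintype.card F - 1) = 1 ∨ (ProjGenLinGroup.mk A) ^ (Fintype.card F + 1) = 1) ∧
    (IsSquare A.1.det →
      (ProjGenLinGroup.mk A) ^ ((Fintype.card F - 1) / Nat.gcd 2 (Fintype.card F - 1)) = 1 ∨
      (ProjGenLinGroup.mk A) ^ ((Fintype.card F + 1) / Nat.gcd 2 (Fintype.card F - 1)) = 1) := by
  obtain ⟨a, d, ha, hd, hdet, hcase, hpow⟩ := exists_ratio p f A hA
  have hq1 : 1 < Fintype.card F := Fintype.one_lt_card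
  have hfr : ∀ c : F, (f c) ^ Fintype.card F = f c := fun c => by rw [← map_pow, FiniteField.pow_card]
  have pre : ∀ u : K, u ≠ 0 → u ^ Fintype.card F = u → u ^ (Fintype.card F - 1) = 1 := fun u hu e => by
    refine mul_right_cancel₀ hu ?_
    rw [← pow_succ, Nat.sub_add_cancel hq1.le, e, one_mul]
  refine ⟨?_, ?_⟩
  · rcases hcase with ⟨e1, e2⟩ | ⟨e1, e2⟩
    · exact Or.inl (hpow _ (by rw [pre a ha e1, pre d hd e2]))
    · exact Or.inr (hpow _ (by rw [pow_succ, pow_succ, e1, e2, mul_comm]))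
  · rintro ⟨s, hs⟩
    have hdz : A.1.det ≠ 0 := A.det_ne_zero
    have hs0 : f s ≠ 0 := fun e => hdz (by rw [hs, f.injective (e.trans (map_zero f).symm), mul_zero])
    have hse : a * d = f s * f s := by rw [hdet, hs, map_mul]
    obtain ⟨c, hc⟩ : ∃ c, c = a / f s := ⟨_, rfl⟩
    have hc0 : c ≠ 0 := hc ▸ div_ne_zero ha hs0
    have key : ∀ m g : ℕ, (g = 1 ∨ g = 2) → c ^ (g * m) = 1 → a ^ m = d ^ m := by
      intro m g hg hcm
      have hc2 : c ^ (2 * m) = 1 := by
        rcases hg with rfl | rfl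
        · rw [mul_comm 2, pow_mul, ← one_mul m, hcm, one_pow]
        · exact hcm
      have h2 : a ^ m * a ^ m = (a * d) ^ m := by
        rw [hse, ← mul_pow]
        have : a * a = c ^ 2 * (f s * f s) := by rw [hc]; field_simp
        rw [this, mul_pow, ← pow_mul, hc2, one_mul]
      rw [mul_pow] at h2
      exact mul_left_cancel₀ (pow_ne_zero m ha) h2
    have hg : Nat.gcd 2 (Fintype.card F - 1) = 1 ∨ Nat.gcd 2 (Fintype.card F - 1) = 2 :=
      (Nat.dvd_prime Nat.prime_two).1 (Nat.gcd_dvd_left _ _)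
    have hdv : Nat.gcd 2 (Fintype.card F - 1) ∣ Fintype.card F + 1 := by
      have h' := Nat.gcd_dvd_right 2 (Fintype.card F - 1)
      have := (Nat.dvd_add h' (Nat.gcd_dvd_left 2 (Fintype.card F - 1)))
      rwa [show Fintype.card F - 1 + 2 = Fintype.card F + 1 by omega] at this
    rcases hcase with ⟨e1, e2⟩ | ⟨e1, e2⟩
    · refine Or.inl (hpow _ (key _ _ hg ?_))
      rw [Nat.mul_div_cancel' (Nat.gcd_dvd_right _ _), hc, div_pow, pre a ha e1, pre _ hs0 (hfr s), div_one]
    · refine Or.inr (hpow _ (key _ _ hg ?_))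
      rw [Nat.mul_div_cancel' hdv, hc, div_pow, pow_succ a, e1, pow_succ (f s), hfr, mul_comm d, hse, div_self]
      exact mul_ne_zero hs0 hs0

end CfsgLib.Lie.DicksonLine
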