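import Cfsg.Agent.Lie.DicksonTypes
import Cfsg.Agent.Lie.PSL2Small
import Cfsg.Agent.Lie.PSL2Five

/-!
The maximal subgroups of PSL₂(q), q odd, that are isomorphic to A₄, S₄, A₅, and the small dihedral exceptions.
-/

set_option autoImplicit false
set_option linter.unusedSectionVars false
set_option linter.unusedSimpArgs false
set_option linter.style.haveILetI false

namespace CfsgLib.Lie.DicksonOdd

open Matrix ProjLine DicksonLine DicksonPGL DicksonCor DicksonSubfield DicksonTypes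

theorem alt_four_orders : ∀ σ : Equiv.Perm (Fin 4), Equiv.Perm.sign σ = 1 → σ ^ 3 = 1 ∨ σ ^ 2 = 1 := by
  decide +kernel

theorem sym_four_orders : ∀ σ : Equiv.Perm (Fin 4), Equiv.Perm.sign σ = -1 → σ ^ 4 = 1 := by
  decide +kernel

theorem four_sq_mul : ∀ σ : Equiv.Perm (Fin 4), Equiv.Perm.sign σ = 1 → σ * σ = 1 → ∀ τ : Equiv.Perm (Fin 4),
    Equiv.Perm.sign τ = 1 → τ * τ = 1 → σ * τ * (σ * τ) = 1 := by
  decide +kernel

theorem four_inverting : ∀ σ : Equiv.Perm (Fin 4), σ ^ 3 = 1 → ∃ τ : Equiv.Perm (Fin 4),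
    τ * τ = 1 ∧ τ ≠ 1 ∧ τ * σ * τ = σ⁻¹ := by
  decide +kernel

set_option synthInstance.maxSize 2000 in
theorem five_inverting : ∀ σ : Equiv.Perm (Fin 5), Equiv.Perm.sign σ = 1 → σ ^ 5 = 1 → ∃ τ : Equiv.Perm (Fin 5),
    Equiv.Perm.sign τ = 1 ∧ τ * τ = 1 ∧ τ ≠ 1 ∧ τ * σ * τ = σ⁻¹ := by
  decide +kernel

/-- the four-group in A₄ -/
def RA : Subgroup (alternatingGroup (Fin 4)) where
  carrier := {σ | σ * σ = 1}
  one_mem' := one_mul 1
  mul_mem' := by
    intro a b ha hb
    exact Subtype.ext (four_sq_mul a.1 (Equiv.Perm.mem_alternatingGroup.1 a.2) (congrArg Subtype.val ha) b.1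
      (Equiv.Perm.mem_alternatingGroup.1 b.2) (congrArg Subtype.val hb))
  inv_mem' := by
    intro a ha
    show a⁻¹ * a⁻¹ = 1
    rw [← _root_.mul_inv_rev, show a * a = 1 from ha, inv_one]

theorem RA_normal : RA.Normal := ⟨fun n hn g => by
  show g * n * g⁻¹ * (g * n * g⁻¹) = 1
  rw [show g * n * g⁻¹ * (g * n * g⁻¹) = g * (n * n) * g⁻¹ by group, show n * n = 1 from hn, mul_one, mul_inv_cancel]⟩

theorem card_RA : Nat.card RA = 4 := by
  have e := Nat.subtype_card (Finset.univ.filter fun σ : alternatingGroup (Fin 4) => σ * σ = 1)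
    (p := fun σ => σ ∈ RA) (fun σ => by simp [RA])
  refine e.trans ?_
  decide +kernel

variable {F : Type*} [Field F] [Fintype F]

local notation "SL₂" => Matrix.SpecialLinearGroup (Fin 2) F
local notation "PSL₂" => Matrix.ProjectiveSpecialLinearGroup (Fin 2) F

theorem trIn_small {K₀ : Type*} [Field K₀] [Fintype K₀] (κ : K₀ →+* F) {g : PSL₂} (h : g ^ 3 = 1 ∨ g ^ 2 = 1) :
    TrIn κ g 1 := by
  intro A hA
  subst hA
  by_cases h1 : (QuotientGroup.mk A : PSL₂) = 1
  · rcases coe_central h1 with e | e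
    · exact ⟨2, by rw [e, map_ofNat, one_mul]; simp; norm_num⟩
    · exact ⟨-2, by rw [e, map_neg, map_ofNat, one_mul]; simp; norm_num⟩
  rcases h with h | h
  · rcases tr_three h1 h with e | e
    · exact ⟨1, by rw [e, map_one, mul_one]⟩
    · exact ⟨-1, by rw [e, map_neg, map_one, one_mul]⟩
  · exact ⟨0, by rw [tr_two h1 h, map_zero, mul_zero]⟩

variable {K₀ : Type*} [Field K₀] [Fintype K₀]

theorem alt_four_le_sub (hodd : Fintype.card F % 2 = 1) (hodd₀ : Fintype.card K₀ % 2 = 1) (κ : K₀ →+* F)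
    (M : Subgroup PSL₂) (t : M ≃* alternatingGroup (Fin 4)) : ∃ k, M ≤ sub κ k := by
  obtain ⟨a, ha⟩ : ∃ a : alternatingGroup (Fin 4), a.1 = Equiv.swap 0 1 * Equiv.swap 2 3 :=
    ⟨⟨_, Equiv.Perm.mem_alternatingGroup.2 (by decide)⟩, rfl⟩
  obtain ⟨b, hb⟩ : ∃ b : alternatingGroup (Fin 4), b.1 = Equiv.swap 0 2 * Equiv.swap 1 3 :=
    ⟨⟨_, Equiv.Perm.mem_alternatingGroup.2 (by decide)⟩, rfl⟩
  have v1 : a ≠ 1 := fun e => by rw [e] at ha; exact absurd ha (by decide +kernel)
  have v2 : a * a = 1 := Subtype.ext (by rw [Subgroup.coe_mul, ha]; decide +kernel)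
  have w1 : b ≠ 1 := fun e => by rw [e] at hb; exact absurd hb (by decide +kernel)
  have w2 : b * b = 1 := Subtype.ext (by rw [Subgroup.coe_mul, hb]; decide +kernel)
  have hne : a ≠ b := fun e => by rw [e, hb] at ha; exact absurd ha (by decide +kernel)
  have hab : a * b = b * a := Subtype.ext (by rw [Subgroup.coe_mul, Subgroup.coe_mul, ha, hb]; decide +kernel)
  have hv : ∀ {x : alternatingGroup (Fin 4)}, x ≠ 1 → (t.symm x : PSL₂) ≠ 1 := fun hx e =>
    hx (t.symm.map_eq_one_iff.1 (Subtype.ext e))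
  have hmul : ∀ x y : alternatingGroup (Fin 4), (t.symm x : PSL₂) * t.symm y = t.symm (x * y) := fun x y => by
    rw [map_mul]; rfl
  have htr : ∀ g : M, TrIn κ (g : PSL₂) 1 := fun g => by
    refine trIn_small κ ((alt_four_orders _ (Equiv.Perm.mem_alternatingGroup.1 (t g).2)).imp ?_ ?_) <;>
    · intro h
      have h' : t g ^ _ = 1 := Subtype.ext h
      rw [← map_pow, MulEquiv.map_eq_one_iff] at h'
      exact congrArg Subtype.val h'
  refine le_sub hodd hodd₀ κ M (v := t.symm a) (w := t.symm b) (hv v1) (by rw [hmul, v2, map_one]; rfl) (hv w1)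
    (by rw [hmul, w2, map_one]; rfl) (fun e => hne (t.symm.injective (Subtype.ext e))) (by rw [hmul, hmul, hab])
    fun g hg => ⟨1, one_ne_zero, htr ⟨g, hg⟩, ?_, ?_, ?_⟩
  · exact htr (⟨g, hg⟩ * t.symm a)
  · exact htr (⟨g, hg⟩ * t.symm b)
  · exact htr (⟨g, hg⟩ * (t.symm a * t.symm b))

theorem sym_four_le_sub (hodd : Fintype.card F % 2 = 1) (hodd₀ : Fintype.card K₀ % 2 = 1) (κ : K₀ →+* F)
    (M : Subgroup PSL₂) (t : M ≃* Equiv.Perm (Fin 4)) : ∃ k, M ≤ sub κ k := by
  obtain ⟨a, ha⟩ : ∃ a : Equiv.Perm (Fin 4), a = Equiv.swap 0 1 * Equiv.swap 2 3 := ⟨_, rfl⟩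
  obtain ⟨b, hb⟩ : ∃ b : Equiv.Perm (Fin 4), b = Equiv.swap 0 2 * Equiv.swap 1 3 := ⟨_, rfl⟩
  have v1 : a ≠ 1 := ha ▸ by decide +kernel
  have v2 : a * a = 1 := ha ▸ by decide +kernel
  have w1 : b ≠ 1 := hb ▸ by decide +kernel
  have w2 : b * b = 1 := hb ▸ by decide +kernel
  have hne : a ≠ b := ha ▸ hb ▸ by decide +kernel
  have hab : a * b = b * a := ha ▸ hb ▸ by decide +kernel
  have sa : Equiv.Perm.sign a = 1 := ha ▸ by decide +kernel
  have sb : Equiv.Perm.sign b = 1 := hb ▸ by decide +kernel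
  have hv : ∀ {x : Equiv.Perm (Fin 4)}, x ≠ 1 → (t.symm x : PSL₂) ≠ 1 := fun hx e =>
    hx (t.symm.map_eq_one_iff.1 (Subtype.ext e))
  have hmul : ∀ x y : Equiv.Perm (Fin 4), (t.symm x : PSL₂) * t.symm y = t.symm (x * y) := fun x y => by
    rw [map_mul]; rfl
  have hback : ∀ (g : M) (n : ℕ), t g ^ n = 1 → (g : PSL₂) ^ n = 1 := fun g n h => by
    rw [← map_pow, MulEquiv.map_eq_one_iff] at h
    exact congrArg Subtype.val h
  obtain ⟨r, hr0, hr⟩ : ∃ r : F, r ≠ 0 ∧ ∀ g : M, Equiv.Perm.sign (t g) = -1 → TrIn κ (g : PSL₂) r := by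
    by_cases h2 : ∃ r : F, r ^ 2 = 2
    · obtain ⟨r, hr⟩ := h2
      refine ⟨r, fun e => Fus.PSL2Two.two_ne_zero' hodd (by rw [← hr, e, zero_pow two_ne_zero]), fun g hg A hA => ?_⟩
      have h4 : (QuotientGroup.mk A : PSL₂) ^ 4 = 1 := hA ▸ hback g 4 (sym_four_orders _ hg)
      by_cases h22 : (QuotientGroup.mk A : PSL₂) ^ 2 = 1
      · by_cases h1 : (QuotientGroup.mk A : PSL₂) = 1
        · have : g = 1 := Subtype.ext (hA.symm.trans h1)
          rw [this, map_one, map_one] at hg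
          exact absurd hg (by decide)
        · exact ⟨0, by rw [tr_two h1 h22, map_zero, mul_zero]⟩
      · rcases sq_eq_sq_iff_eq_or_eq_neg.1 ((tr_four h4 h22).trans hr.symm) with e | e
        · exact ⟨1, by rw [e, map_one, mul_one]⟩
        · exact ⟨-1, by rw [e, map_neg, map_one, mul_neg, mul_one]⟩
    · refine ⟨1, one_ne_zero, fun g hg A hA => ?_⟩
      have h4 : (QuotientGroup.mk A : PSL₂) ^ 4 = 1 := hA ▸ hback g 4 (sym_four_orders _ hg)
      by_cases h22 : (QuotientGroup.mk A : PSL₂) ^ 2 = 1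
      · exact trIn_small κ (Or.inr (hA ▸ h22)) A hA
      · exact absurd ⟨_, tr_four h4 h22⟩ h2
  have htr : ∀ g : M, Equiv.Perm.sign (t g) = 1 → TrIn κ (g : PSL₂) 1 := fun g hg =>
    trIn_small κ ((alt_four_orders _ hg).imp (hback g 3) (hback g 2))
  refine le_sub hodd hodd₀ κ M (v := t.symm a) (w := t.symm b) (hv v1) (by rw [hmul, v2, map_one]; rfl) (hv w1)
    (by rw [hmul, w2, map_one]; rfl) (fun e => hne (t.symm.injective (Subtype.ext e))) (by rw [hmul, hmul, hab])
    fun g hg => ?_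
  have hs : ∀ x : Equiv.Perm (Fin 4), Equiv.Perm.sign x = 1 →
      Equiv.Perm.sign (t (⟨g, hg⟩ * t.symm x)) = Equiv.Perm.sign (t ⟨g, hg⟩) := fun x hx => by
    rw [map_mul, MulEquiv.apply_symm_apply, map_mul, hx, mul_one]
  rcases Int.units_eq_one_or (Equiv.Perm.sign (t ⟨g, hg⟩)) with h | h
  · refine ⟨1, one_ne_zero, htr _ h, htr (⟨g, hg⟩ * t.symm a) ((hs a sa).trans h),
      htr (⟨g, hg⟩ * t.symm b) ((hs b sb).trans h), ?_⟩
    rw [hmul]
    exact htr (⟨g, hg⟩ * t.symm (a * b)) ((hs (a * b) (by rw [map_mul, sa, sb, mul_one])).trans h)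
  · refine ⟨r, hr0, hr _ h, hr (⟨g, hg⟩ * t.symm a) ((hs a sa).trans h),
      hr (⟨g, hg⟩ * t.symm b) ((hs b sb).trans h), ?_⟩
    rw [hmul]
    exact hr (⟨g, hg⟩ * t.symm (a * b)) ((hs (a * b) (by rw [map_mul, sa, sb, mul_one])).trans h)

theorem alt_five_le_sub (hodd : Fintype.card F % 2 = 1) (hodd₀ : Fintype.card K₀ % 2 = 1) (κ : K₀ →+* F)
    (hroots : ∀ u : F, u ^ 2 = u + 1 → u ∈ κ.fieldRange)
    (M : Subgroup PSL₂) (t : M ≃* alternatingGroup (Fin 5)) : ∃ k, M ≤ sub κ k := by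
  obtain ⟨a, ha⟩ : ∃ a : alternatingGroup (Fin 5), a.1 = Equiv.swap 0 1 * Equiv.swap 2 3 :=
    ⟨⟨_, Equiv.Perm.mem_alternatingGroup.2 (by decide)⟩, rfl⟩
  obtain ⟨b, hb⟩ : ∃ b : alternatingGroup (Fin 5), b.1 = Equiv.swap 0 2 * Equiv.swap 1 3 :=
    ⟨⟨_, Equiv.Perm.mem_alternatingGroup.2 (by decide)⟩, rfl⟩
  have v1 : a ≠ 1 := fun e => by rw [e] at ha; exact absurd ha (by decide +kernel)
  have v2 : a * a = 1 := Subtype.ext (by rw [Subgroup.coe_mul, ha]; decide +kernel)
  have w1 : b ≠ 1 := fun e => by rw [e] at hb; exact absurd hb (by decide +kernel)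
  have w2 : b * b = 1 := Subtype.ext (by rw [Subgroup.coe_mul, hb]; decide +kernel)
  have hne : a ≠ b := fun e => by rw [e, hb] at ha; exact absurd ha (by decide +kernel)
  have hab : a * b = b * a := Subtype.ext (by rw [Subgroup.coe_mul, Subgroup.coe_mul, ha, hb]; decide +kernel)
  have hv : ∀ {x : alternatingGroup (Fin 5)}, x ≠ 1 → (t.symm x : PSL₂) ≠ 1 := fun hx e =>
    hx (t.symm.map_eq_one_iff.1 (Subtype.ext e))
  have hmul : ∀ x y : alternatingGroup (Fin 5), (t.symm x : PSL₂) * t.symm y = t.symm (x * y) := fun x y => by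
    rw [map_mul]; rfl
  have htr : ∀ g : M, TrIn κ (g : PSL₂) 1 := fun g => by
    have hback : ∀ n : ℕ, (t g).1 ^ n = 1 → (g : PSL₂) ^ n = 1 := fun n h => by
      have h' : t g ^ n = 1 := Subtype.ext h
      rw [← map_pow, MulEquiv.map_eq_one_iff] at h'
      exact congrArg Subtype.val h'
    rcases DicksonDihedral.order_five _ (Equiv.Perm.mem_alternatingGroup.1 (t g).2) with h | h | h
    · exact trIn_small κ (Or.inl (hback 3 h))
    · exact trIn_small κ (Or.inr (hback 2 h))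
    · by_cases h1 : (g : PSL₂) = 1
      · exact trIn_small κ (Or.inr (by rw [h1, one_pow]))
      intro A hA
      rcases tr_five (A := A) (hA ▸ h1) (hA ▸ hback 5 h) with e | e
      · obtain ⟨c, hc⟩ := hroots _ e
        exact ⟨c, by rw [hc, one_mul]⟩
      · obtain ⟨c, hc⟩ := hroots _ e
        exact ⟨-c, by rw [map_neg, hc, one_mul, neg_neg]⟩
  refine le_sub hodd hodd₀ κ M (v := t.symm a) (w := t.symm b) (hv v1) (by rw [hmul, v2, map_one]; rfl) (hv w1)
    (by rw [hmul, w2, map_one]; rfl) (fun e => hne (t.symm.injective (Subtype.ext e))) (by rw [hmul, hmul, hab])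
    fun g hg => ⟨1, one_ne_zero, htr ⟨g, hg⟩, ?_, ?_, ?_⟩
  · exact htr (⟨g, hg⟩ * t.symm a)
  · exact htr (⟨g, hg⟩ * t.symm b)
  · exact htr (⟨g, hg⟩ * (t.symm a * t.symm b))

theorem card_sub_prime_field (p : ℕ) [Fact p.Prime] (κ : ZMod p →+* F) (k : Matrix.ProjGenLinGroup (Fin 2) F) :
    p * (p ^ 2 - 1) ≤ 2 * Nat.card (sub κ k) := by
  have := (card_sub_bounds κ k).2
  rwa [ZMod.card] at this

theorem big_of_le {p c : ℕ} (hp : c ≤ p) : c * (c ^ 2 - 1) ≤ p * (p ^ 2 - 1) :=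
  Nat.mul_le_mul hp (Nat.sub_le_sub_right (Nat.pow_le_pow_left hp 2) 1)

/-- divisibility of the order by eight -/
theorem eight_dvd_iff (hodd : Fintype.card F % 2 = 1) :
    8 ∣ Nat.card PSL₂ ↔ Fintype.card F % 8 = 1 ∨ Fintype.card F % 8 = 7 := by
  have hN := card_PSL F
  obtain ⟨q, hq⟩ : ∃ q, q = Fintype.card F := ⟨_, rfl⟩
  rw [← hq] at hN hodd ⊢
  obtain ⟨t, rfl⟩ : ∃ t, q = 2 * t + 1 := ⟨q / 2, by omega⟩
  rw [show 2 * t + 1 - 1 = 2 * t by omega, Nat.gcd_eq_left (dvd_mul_right 2 t),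
    show (2 * t + 1) ^ 2 - 1 = 4 * (t * (t + 1)) by rw [show (2 * t + 1) ^ 2 = 4 * (t * (t + 1)) + 1 by ring]; omega]
    at hN
  obtain ⟨c, hc⟩ := Nat.even_mul_succ_self t
  have hN' : Nat.card PSL₂ = (2 * t + 1) * (4 * c) := by rw [hc] at hN; linarith
  rw [hN']
  have h4 : ∀ a : ℕ, a % 4 < 4 := fun a => Nat.mod_lt _ (by norm_num)
  have hc2 : (2 * c) % 4 = (t % 4) * ((t + 1) % 4) % 4 := by rw [← Nat.mul_mod, hc, two_mul]
  constructor
  · intro h8
    have h2 : (2 * 4) ∣ (2 * t + 1) * c * 4 := by rw [show (2 * t + 1) * c * 4 = (2 * t + 1) * (4 * c) by ring]; exact h8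
    have h2' := Nat.dvd_of_mul_dvd_mul_right (by norm_num) h2
    have hcev : 2 ∣ c := (Nat.prime_two.dvd_mul.1 h2').resolve_left (by omega)
    rcases (show t % 4 = 0 ∨ t % 4 = 1 ∨ t % 4 = 2 ∨ t % 4 = 3 by have := h4 t; omega) with e | e | e | e <;>
      rw [e, show (t + 1) % 4 = (t % 4 + 1) % 4 by omega, e] at hc2 <;> norm_num at hc2 <;> omega
  · intro h
    have hcev : 2 ∣ c := by
      rcases (show t % 4 = 0 ∨ t % 4 = 1 ∨ t % 4 = 2 ∨ t % 4 = 3 by have := h4 t; omega) with e | e | e | e <;>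
        rw [e, show (t + 1) % 4 = (t % 4 + 1) % 4 by omega, e] at hc2 <;> norm_num at hc2 <;> omega
    obtain ⟨d, rfl⟩ := hcev
    exact ⟨(2 * t + 1) * d, by ring⟩

section Max

variable (h5 : 5 ≤ Fintype.card F) (hodd : Fintype.card F % 2 = 1) {p n : ℕ} [Fact p.Prime] [CharP F p]
  (hq : Fintype.card F = p ^ n) (M : Subgroup (Matrix.ProjectiveSpecialLinearGroup (Fin 2) F)) (hM : IsCoatom M)
include h5 hodd hq hM

theorem p_odd : p % 2 = 1 ∧ 3 ≤ p ∧ 1 ≤ n := by
  have hp : p.Prime := Fact.out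
  have hn : 1 ≤ n := by
    by_contra h
    rw [show n = 0 by omega, pow_zero] at hq; omega
  rcases hp.eq_two_or_odd with rfl | h
  · rw [hq, Nat.pow_mod, show 2 % 2 = 0 from rfl, zero_pow (by omega)] at hodd
    simp at hodd
  · refine ⟨h, ?_, hn⟩
    have := hp.two_le; omega

theorem prime_field_dichotomy (κ : ZMod p →+* F) (hn : 2 ≤ n) (k : Matrix.ProjGenLinGroup (Fin 2) F)
    (hle : M ≤ sub κ k) :
    (n = 2 ∧ Nonempty (M ≃* Matrix.ProjGenLinGroup (Fin 2) (ZMod p))) ∨
      (n.Prime ∧ Odd n ∧ Nonempty (M ≃* Matrix.ProjectiveSpecialLinearGroup (Fin 2) (ZMod p))) :=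
  sub_type M hM κ k hodd (by rw [ZMod.card, hq]) hn hle

theorem alt_four_case (e : Nonempty (M ≃* alternatingGroup (Fin 4))) :
    (∃ (F₀ : Type) (_ : Field F₀) (_ : Fintype F₀) (r : ℕ), r.Prime ∧ Odd r ∧ Fintype.card F = Fintype.card F₀ ^ r ∧
        Nonempty (M ≃* Matrix.ProjectiveSpecialLinearGroup (Fin 2) F₀)) ∨
    (Fintype.card F = p ∧ (p % 8 = 3 ∨ p % 8 = 5) ∧ ¬ (p % 10 = 1 ∨ p % 10 = 9) ∧
        Nonempty (M ≃* alternatingGroup (Fin 4))) := by
  obtain ⟨t⟩ := e
  obtain ⟨hp2, hp3, hn1⟩ := p_odd h5 hodd hq M hM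
  have hcM : Nat.card M = 12 := by rw [Nat.card_congr t.toEquiv, nat_card_alternatingGroup, Nat.card_fin]; rfl
  haveI : Fact (Nat.Prime 2) := ⟨Nat.prime_two⟩
  have h60 := card_ge_sixty (F := F) (by omega)
  -- the normal four-group
  obtain ⟨R, hR⟩ : ∃ R : Subgroup PSL₂, R = (RA.comap t.toMonoidHom).map M.subtype := ⟨_, rfl⟩
  have hRM : R ≤ M := hR ▸ Subgroup.map_subtype_le _
  have hRc : Nat.card R = 4 := by
    rw [hR, Subgroup.card_map_of_injective M.subtype_injective]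
    exact (Nat.card_congr (t.toEquiv.subtypeEquiv fun _ => Iff.rfl)).trans card_RA
  have hMn : M ≤ Subgroup.normalizer (R : Set PSL₂) := by
    intro x hx
    haveI := RA_normal
    have hn := (RA.comap t.toMonoidHom).normalizer_eq_top
    refine Subgroup.mem_normalizer_iff.2 fun h => ?_
    rw [hR]
    constructor
    · rintro ⟨y, hy, rfl⟩
      exact ⟨⟨x, hx⟩ * y * ⟨x, hx⟩⁻¹, Subgroup.Normal.conj_mem inferInstance y hy _, rfl⟩
    · rintro ⟨y, hy, e⟩
      refine ⟨⟨x, hx⟩⁻¹ * y * ⟨x, hx⟩⁻¹⁻¹, Subgroup.Normal.conj_mem inferInstance y hy _, ?_⟩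
      show x⁻¹ * (y : PSL₂) * x⁻¹⁻¹ = h
      rw [show (y : PSL₂) = x * h * x⁻¹ from e]; group
  have hRnn : ¬ R.Normal := not_normal (by omega) R (fun e => by rw [e, Subgroup.card_bot] at hRc; omega)
    (fun e => hM.1 (top_le_iff.1 (e ▸ hRM)))
  have hMeq : M = Subgroup.normalizer (R : Set PSL₂) := ((hM.le_iff.1 hMn).resolve_left
    (fun e => hRnn (Subgroup.normalizer_eq_top_iff.1 e))).symm
  have h8 : ¬ 8 ∣ Nat.card PSL₂ := by
    intro h8
    obtain ⟨K, hK, hle⟩ := Sylow.exists_subgroup_card_pow_succ (p := 2) (n := 2) (by simpa using h8)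
      (H := R) (by rw [hRc]; norm_num)
    have hidx : (R.subgroupOf K).index = 2 := by
      have := (R.subgroupOf K).card_mul_index
      rw [Nat.card_congr (Subgroup.subgroupOfEquivOfLe hle).toEquiv, hRc, hK] at this
      norm_num at this; omega
    haveI := Subgroup.normal_of_index_eq_two hidx
    have hKM : K ≤ M := hMeq ▸ Subgroup.normal_subgroupOf_iff_le_normalizer hle |>.1 inferInstance
    have := Subgroup.card_dvd_of_le hKM
    rw [hK, hcM] at this
    norm_num at this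
  rcases Nat.lt_or_ge n 2 with hn | hn
  · have hn' : n = 1 := by omega
    rw [hn', pow_one] at hq
    refine Or.inr ⟨hq, ?_, ?_, ⟨t⟩⟩
    · rw [eight_dvd_iff hodd, hq] at h8; omega
    · intro h10
      have hp : p.Prime := Fact.out
      have h19 : 5 < p := by
        rcases h10 with h | h <;> omega
      obtain ⟨X, ⟨s⟩⟩ := DicksonMinSimple.exists_alt5 (F := F) hodd (by
        rw [hq, sq_sub_one]
        rcases h10 with h | h
        · exact (Nat.dvd_of_mod_eq_zero (by omega : (p - 1) % 5 = 0)).mul_left _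
        · exact (Nat.dvd_of_mod_eq_zero (by omega : (p + 1) % 5 = 0)).mul_right _)
      let ι : Equiv.Perm (Fin 4) →* Equiv.Perm (Fin 5) :=
        Equiv.Perm.extendDomainHom (p := fun i : Fin 5 => (i : ℕ) < 4)
          ⟨fun i => ⟨i.castSucc, i.2⟩, fun i => ⟨i.1, i.2⟩, fun i => rfl, fun i => rfl⟩
      have hι : Function.Injective ι := Equiv.Perm.extendDomainHom_injective _
      let j : alternatingGroup (Fin 4) →* alternatingGroup (Fin 5) :=
        (ι.comp (alternatingGroup (Fin 4)).subtype).codRestrict _ fun σ => Equiv.Perm.mem_alternatingGroup.2 (by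
          show Equiv.Perm.sign (Equiv.Perm.extendDomain _ _) = 1
          rw [Equiv.Perm.sign_extendDomain]
          exact Equiv.Perm.mem_alternatingGroup.1 σ.2)
      have hj : Function.Injective j := fun a b h => Subtype.ext (hι (congrArg Subtype.val h))
      obtain ⟨φ, hφ⟩ : ∃ φ : alternatingGroup (Fin 4) →* PSL₂, φ = X.subtype.comp (s.symm.toMonoidHom.comp j) :=
        ⟨_, rfl⟩
      have hφi : Function.Injective φ := hφ ▸ X.subtype_injective.comp (s.symm.injective.comp hj)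
      have hidx : ¬ 2 ∣ R.index := fun h => h8 (by
        rw [← R.card_mul_index, hRc, show (8 : ℕ) = 4 * 2 from rfl]
        exact Nat.mul_dvd_mul_left 4 h)
      have hcX : Nat.card X = 60 := by rw [Nat.card_congr s.toEquiv, nat_card_alternatingGroup, Nat.card_fin]; rfl
      refine not_max_of_sylow M hM ((IsPGroup.of_card (p := 2) (n := 2) (by rw [hRc]; norm_num)).toSylow hidx) hRnn
        hMn X ?_ φ.range ?_ (RA.map φ) ?_ ?_ ?_ (by omega)
      · intro e
        rw [e, Subgroup.card_top] at hcX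
        have hN := card_PSL F
        rw [hq, hcX] at hN
        have hp9 : p ≠ 9 := fun e9 => by rw [e9] at hp; norm_num at hp
        have := big_of_le (show 11 ≤ p by omega)
        have hg : Nat.gcd 2 (p - 1) ≤ 2 := Nat.gcd_le_left _ two_pos
        have := Nat.mul_le_mul_right 60 hg
        omega
      · rintro _ ⟨x, rfl⟩; rw [hφ]; exact (s.symm (j x)).2
      · rw [Subgroup.card_map_of_injective hφi, card_RA]; exact hRc.symm
      · rintro _ ⟨x, rfl⟩
        refine Subgroup.mem_normalizer_iff.2 fun h => ?_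
        haveI := RA_normal
        constructor
        · rintro ⟨y, hy, rfl⟩
          exact ⟨x * y * x⁻¹, RA_normal.conj_mem y hy x, by rw [map_mul, map_mul, map_inv]⟩
        · rintro ⟨y, hy, e⟩
          refine ⟨x⁻¹ * y * x⁻¹⁻¹, RA_normal.conj_mem y hy _, ?_⟩
          simp only [map_mul, map_inv, e]; group
      · rw [← Nat.card_congr (MonoidHom.ofInjective hφi).toEquiv, nat_card_alternatingGroup, Nat.card_fin, hcM]
        rfl
  · left
    obtain ⟨κ, -⟩ : ∃ κ : ZMod p →+* F, κ = ZMod.castHom dvd_rfl F := ⟨_, rfl⟩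
    obtain ⟨k, hk⟩ := alt_four_le_sub hodd (by rw [ZMod.card]; exact hp2) κ M t
    have h3 : p = 3 := by
      by_contra h
      have hlt : Fintype.card (ZMod p) < Fintype.card F := by
        rw [ZMod.card, hq]
        calc p = p ^ 1 := (pow_one p).symm
          _ < p ^ n := Nat.pow_lt_pow_right (by omega) (by omega)
      have := card_sub_prime_field p κ k
      rw [← eq_sub M hM κ k hlt hk, hcM] at this
      have := big_of_le (show 5 ≤ p by omega)
      omega
    rcases prime_field_dichotomy h5 hodd hq M hM κ hn k hk with ⟨-, ⟨u⟩⟩ | ⟨h1, h2, u⟩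
    · have := Nat.card_congr u.toEquiv
      rw [hcM, card_PGL, ZMod.card, h3] at this
      norm_num at this
    · exact ⟨ZMod p, inferInstance, inferInstance, n, h1, h2, by rw [ZMod.card]; exact hq, u⟩

theorem sym_four_case (e : Nonempty (M ≃* Equiv.Perm (Fin 4))) :
    (∃ (F₀ : Type) (_ : Field F₀) (_ : Fintype F₀), Fintype.card F = Fintype.card F₀ ^ 2 ∧
        Nonempty (M ≃* Matrix.ProjGenLinGroup (Fin 2) F₀)) ∨
    (Fintype.card F = p ∧ (p % 8 = 1 ∨ p % 8 = 7) ∧ Nonempty (M ≃* Equiv.Perm (Fin 4))) := by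
  obtain ⟨t⟩ := e
  obtain ⟨hp2, hp3, hn1⟩ := p_odd h5 hodd hq M hM
  have hcM : Nat.card M = 24 := by rw [Nat.card_congr t.toEquiv, Nat.card_perm, Nat.card_fin]; rfl
  rcases Nat.lt_or_ge n 2 with hn | hn
  · rw [show n = 1 by omega, pow_one] at hq
    refine Or.inr ⟨hq, ?_, ⟨t⟩⟩
    have h8 := (eight_dvd_iff (F := F) hodd).1 ((show 8 ∣ Nat.card M by rw [hcM]; norm_num).trans (Subgroup.card_subgroup_dvd_card M))
    rwa [hq] at h8
  · left
    obtain ⟨κ, -⟩ : ∃ κ : ZMod p →+* F, κ = ZMod.castHom dvd_rfl F := ⟨_, rfl⟩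
    obtain ⟨k, hk⟩ := sym_four_le_sub hodd (by rw [ZMod.card]; exact hp2) κ M t
    have h3 : p = 3 := by
      by_contra h
      have hlt : Fintype.card (ZMod p) < Fintype.card F := by
        rw [ZMod.card, hq]
        calc p = p ^ 1 := (pow_one p).symm
          _ < p ^ n := Nat.pow_lt_pow_right (by omega) (by omega)
      have := card_sub_prime_field p κ k
      rw [← eq_sub M hM κ k hlt hk, hcM] at this
      have := big_of_le (show 5 ≤ p by omega)
      omega
    rcases prime_field_dichotomy h5 hodd hq M hM κ hn k hk with ⟨h1, u⟩ | ⟨-, -, ⟨u⟩⟩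
    · exact ⟨ZMod p, inferInstance, inferInstance, by rw [ZMod.card, hq, h1], u⟩
    · have h1 := card_PSL (ZMod p)
      rw [← Nat.card_congr u.toEquiv, hcM, ZMod.card, h3] at h1
      norm_num at h1

theorem alt_five_case (e : Nonempty (M ≃* alternatingGroup (Fin 5))) :
    (∃ (F₀ : Type) (_ : Field F₀) (_ : Fintype F₀) (r : ℕ), r.Prime ∧ Odd r ∧ Fintype.card F = Fintype.card F₀ ^ r ∧
        Nonempty (M ≃* Matrix.ProjectiveSpecialLinearGroup (Fin 2) F₀)) ∨
    ((Fintype.card F % 10 = 1 ∨ Fintype.card F % 10 = 9) ∧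
        (Fintype.card F = p ∨ (Fintype.card F = p ^ 2 ∧ (p % 10 = 3 ∨ p % 10 = 7))) ∧
        Nonempty (M ≃* alternatingGroup (Fin 5))) := by
  obtain ⟨t⟩ := e
  obtain ⟨hp2, hp3, hn1⟩ := p_odd h5 hodd hq M hM
  have hp : p.Prime := Fact.out
  have hcM : Nat.card M = 60 := by rw [Nat.card_congr t.toEquiv, nat_card_alternatingGroup, Nat.card_fin]; rfl
  have hN := card_PSL F
  have hroot : ∀ {K₀ : Type} [Field K₀] [Fintype K₀] (κ : K₀ →+* F), (∃ c : K₀, c ^ 2 = c + 1) →
      ∀ u : F, u ^ 2 = u + 1 → u ∈ κ.fieldRange := by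
    rintro K₀ _ _ κ ⟨c, hc⟩ u hu
    have hc' : (κ c) ^ 2 = κ c + 1 := by rw [← map_pow, hc, map_add, map_one]
    rcases mul_eq_zero.1 (show (u - κ c) * (u + κ c - 1) = 0 by linear_combination hu - hc') with e | e
    · exact ⟨c, (sub_eq_zero.1 e).symm⟩
    · exact ⟨1 - c, by rw [map_sub, map_one]; linear_combination -e⟩
  by_cases h55 : p = 5
  · subst h55
    left
    rcases Nat.lt_or_ge n 2 with hn | hn
    · exfalso
      rw [show n = 1 by omega] at hq
      rw [hq] at hN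
      norm_num at hN
      exact hM.1 (Subgroup.eq_top_of_card_eq M (by omega))
    · obtain ⟨κ, -⟩ : ∃ κ : ZMod 5 →+* F, κ = ZMod.castHom dvd_rfl F := ⟨_, rfl⟩
      obtain ⟨k, hk⟩ := alt_five_le_sub hodd (by rw [ZMod.card]) κ (hroot κ ⟨(3 : ZMod 5), by rfl⟩) M t
      rcases prime_field_dichotomy h5 hodd hq M hM κ hn k hk with ⟨-, ⟨u⟩⟩ | ⟨h1, h2, u⟩
      · have := Nat.card_congr u.toEquiv
        rw [hcM, card_PGL, ZMod.card] at this
        norm_num at this
      · exact ⟨ZMod 5, inferInstance, inferInstance, n, h1, h2, by rw [ZMod.card]; exact hq, u⟩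
  right
  have h5N : 5 ∣ Fintype.card F * (Fintype.card F ^ 2 - 1) :=
    hN ▸ (((show 5 ∣ 60 by norm_num).trans (hcM ▸ Subgroup.card_subgroup_dvd_card M))).mul_left _
  have h5p : ∀ m : ℕ, ¬ 5 ∣ p ^ m := fun m h =>
    h55 ((Nat.prime_dvd_prime_iff_eq Nat.prime_five hp).1 (Nat.prime_five.dvd_of_dvd_pow h)).symm
  rw [sq_sub_one] at h5N
  have hq5 : Fintype.card F % 5 = 1 ∨ Fintype.card F % 5 = 4 := by
    rcases Nat.prime_five.dvd_mul.1 h5N with h | h
    · exact absurd (hq ▸ h) (h5p n)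
    · rcases Nat.prime_five.dvd_mul.1 h with h | h <;> have := Nat.mod_eq_zero_of_dvd h <;> omega
  refine ⟨by omega, ?_, ⟨t⟩⟩
  rcases Nat.lt_or_ge n 2 with hn | hn
  · exact Or.inl (by rw [hq, show n = 1 by omega, pow_one])
  have h5' := h5p 1
  rw [pow_one, Nat.dvd_iff_mod_eq_zero] at h5'
  by_cases hp5 : p % 5 = 1 ∨ p % 5 = 4
  · exfalso
    obtain ⟨g, hg⟩ : ∃ g : Matrix.SpecialLinearGroup (Fin 2) (ZMod p), orderOf g = 5 := by
      haveI : Fact (Nat.Prime 5) := ⟨Nat.prime_five⟩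
      haveI : Fintype (Matrix.SpecialLinearGroup (Fin 2) (ZMod p)) := Fintype.ofFinite _
      refine exists_prime_orderOf_dvd_card' 5 ?_
      rw [Orders.card_SL_two rfl, ZMod.card, sq_sub_one]
      rcases hp5 with h | h
      · exact ((Nat.dvd_of_mod_eq_zero (by omega : (p - 1) % 5 = 0)).mul_left _).mul_left _
      · exact ((Nat.dvd_of_mod_eq_zero (by omega : (p + 1) % 5 = 0)).mul_right _).mul_left _
    obtain ⟨κ, -⟩ : ∃ κ : ZMod p →+* F, κ = ZMod.castHom dvd_rfl F := ⟨_, rfl⟩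
    obtain ⟨k, hk⟩ := alt_five_le_sub hodd (by rw [ZMod.card]; exact hp2) κ (hroot κ (PSL2Five.exists_root hg)) M t
    have hlt : Fintype.card (ZMod p) < Fintype.card F := by
      rw [ZMod.card, hq]
      calc p = p ^ 1 := (pow_one p).symm
        _ < p ^ n := Nat.pow_lt_pow_right (by omega) (by omega)
    have := card_sub_prime_field p κ k
    rw [← eq_sub M hM κ k hlt hk, hcM] at this
    have := big_of_le (show 9 ≤ p by omega)
    omega
  · have hp23 : p % 5 = 2 ∨ p % 5 = 3 := by omega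
    obtain ⟨j, rfl⟩ : ∃ j, n = 2 * j := by
      rcases Nat.even_or_odd n with ⟨j, hj⟩ | ⟨j, rfl⟩
      · exact ⟨j, by omega⟩
      · exfalso
        have h4 : ∀ j, (p ^ 2) ^ j % 5 = 1 ∨ (p ^ 2) ^ j % 5 = 4 := by
          intro j
          induction j with
          | zero => simp
          | succ j ih =>
            rw [pow_succ, Nat.mul_mod, show p ^ 2 % 5 = 4 by
              rw [Nat.pow_mod]; rcases hp23 with h | h <;> rw [h] <;> norm_num]
            rcases ih with i | i <;> rw [i] <;> norm_num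
        rw [hq, pow_succ, pow_mul, Nat.mul_mod] at hq5
        rcases h4 j with i | i <;> rw [i] at hq5 <;> rcases hp23 with h | h <;> rw [h] at hq5 <;> norm_num at hq5
    by_cases hj : j = 1
    · subst hj
      refine Or.inr ⟨by rw [hq], ?_⟩
      omega
    exfalso
    haveI : Fintype (GaloisField p 2) := Fintype.ofFinite _
    have hc : Fintype.card (GaloisField p 2) = p ^ 2 := by
      rw [← Nat.card_eq_fintype_card, GaloisField.card p 2 two_ne_zero]
    obtain ⟨κ⟩ := PSL2Sub.exists_ringHom (F := F) (K := GaloisField p 2) j (by rw [hc, ← pow_mul, hq])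
    have hr2 : ∀ u : F, u ^ 2 = u + 1 → u ∈ κ.fieldRange := by
      intro u hu
      refine mem_range_of_pow κ ?_
      obtain ⟨φ, hφ⟩ : ∃ φ : F →+* F, ∀ x, φ x = x ^ p := ⟨frobenius F p, fun x => frobenius_def p x⟩
      have hroot' : ∀ w : F, w ^ 2 = w + 1 → φ w ^ 2 = φ w + 1 := fun w hw => by
        rw [← map_pow, hw, map_add, map_one]
      rw [hc, show p ^ 2 = p * p from pow_two p, pow_mul, ← hφ, ← hφ]
      rcases mul_eq_zero.1 (show (φ u - u) * (φ u + u - 1) = 0 by linear_combination hroot' u hu - hu) with e | e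
      · rw [sub_eq_zero.1 e, sub_eq_zero.1 e]
      · have e' := congrArg φ e
        simp only [map_sub, map_add, map_one, map_zero] at e'
        linear_combination e' - e
    obtain ⟨k, hk⟩ := alt_five_le_sub hodd (by rw [hc, Nat.pow_mod, hp2]) κ hr2 M t
    have hlt : Fintype.card (GaloisField p 2) < Fintype.card F := by
      rw [hc, hq]
      exact Nat.pow_lt_pow_right (by omega) (by omega)
    have := (card_sub_bounds κ k).2
    rw [← eq_sub M hM κ k hlt hk, hcM, hc] at this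
    have := big_of_le (show 9 ≤ p ^ 2 from le_trans (by norm_num) (Nat.pow_le_pow_left hp3 2))
    omega

/-- small dihedral groups that are not maximal -/
theorem dihedral_small {k : ℕ} (t : M ≃* DihedralGroup k)
    (hk : (Fintype.card F = 7 ∧ (k = 3 ∨ k = 4)) ∨ (Fintype.card F = 9 ∧ (k = 4 ∨ k = 5)) ∨
      (Fintype.card F = 11 ∧ k = 5)) : False := by
  have hN := card_PSL F
  have hcM : Nat.card M = 2 * k := by rw [Nat.card_congr t.toEquiv, DihedralGroup.nat_card]
  have hk3 : 3 ≤ k := by omega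
  have h4 : 4 ≤ Fintype.card F := by omega
  rcases (show k = 4 ∨ ((Fintype.card F = 7 ∧ k = 3) ∨ ((Fintype.card F = 9 ∨ Fintype.card F = 11) ∧ k = 5)) by omega)
    with rfl | hk'
  · -- Sylow 2-subgroups
    haveI : Fact (Nat.Prime 2) := ⟨Nat.prime_two⟩
    have h8 : Fintype.card F % 8 = 1 ∨ Fintype.card F % 8 = 7 := by omega
    obtain ⟨r, hr⟩ := (FiniteField.isSquare_two_iff (F := F)).2 (by omega)
    obtain ⟨X, ⟨s⟩⟩ := PSL2Small.exists_sym_four hodd (r := r) (by rw [hr, pow_two])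
    have hcX : Nat.card X = 24 := by rw [Nat.card_congr s.toEquiv, Nat.card_perm, Nat.card_fin]; rfl
    have hcN : Nat.card PSL₂ = 168 ∨ Nat.card PSL₂ = 360 := by
      rcases (show Fintype.card F = 7 ∨ Fintype.card F = 9 by omega) with e | e <;> rw [e] at hN <;> norm_num at hN <;>
        omega
    have hidx : ¬ 2 ∣ M.index := fun h => by
      have h16 : 16 ∣ Nat.card PSL₂ := by
        rw [← M.card_mul_index, hcM, show (16 : ℕ) = 2 * 4 * 2 from rfl]
        exact Nat.mul_dvd_mul_left _ h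
      rcases hcN with e | e <;> rw [e] at h16 <;> norm_num at h16
    obtain ⟨Y₀, hY₀⟩ := Sylow.exists_subgroup_card_pow_prime (G := X) 2 (n := 3) (by rw [hcX]; norm_num)
    have hnn : ¬ M.Normal := not_normal h4 M (fun e => by rw [e, Subgroup.card_bot] at hcM; omega) hM.1
    refine not_max_of_sylow M hM ((IsPGroup.of_card (p := 2) (n := 3) (by rw [hcM]; norm_num)).toSylow hidx) hnn
      Subgroup.le_normalizer X (fun e => ?_) (Y₀.map X.subtype) (Subgroup.map_subtype_le _) (Y₀.map X.subtype) ?_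
      Subgroup.le_normalizer ?_ (by omega)
    · rw [e, Subgroup.card_top] at hcX; omega
    · rw [Subgroup.card_map_of_injective X.subtype_injective, hY₀]
      exact hcM.symm
    · rw [Subgroup.card_map_of_injective X.subtype_injective, hY₀, hcM]; norm_num
  · haveI hkp : Fact k.Prime := ⟨by rcases (show k = 3 ∨ k = 5 by omega) with rfl | rfl <;> norm_num⟩
    obtain ⟨g, hg⟩ : ∃ g : M, g = t.symm (DihedralGroup.r 1) := ⟨_, rfl⟩
    have hgo : orderOf (g : PSL₂) = k := by
      rw [Subgroup.orderOf_coe, hg, MulEquiv.orderOf_eq, DihedralGroup.orderOf_r_one]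
    have hQc : Nat.card (Subgroup.zpowers (g : PSL₂)) = k := by rw [Nat.card_zpowers, hgo]
    have hidx : ¬ k ∣ (Subgroup.zpowers (g : PSL₂)).index := fun h => by
      have hsq : k * k ∣ Nat.card PSL₂ := by
        rw [← (Subgroup.zpowers (g : PSL₂)).card_mul_index, hQc]
        exact Nat.mul_dvd_mul_left _ h
      rcases hk' with ⟨e, rfl⟩ | ⟨e | e, rfl⟩ <;> rw [e] at hN <;> norm_num at hN <;> omega
    have hMn : M ≤ Subgroup.normalizer ((Subgroup.zpowers (g : PSL₂) : Subgroup PSL₂) : Set PSL₂) := by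
      have hn : (Subgroup.zpowers g).Normal := Subgroup.normal_of_index_eq_two (by
        have h1 := (Subgroup.zpowers g).card_mul_index
        rw [Nat.card_zpowers, ← Subgroup.orderOf_coe, hgo, hcM, mul_comm 2 k] at h1
        exact Nat.eq_of_mul_eq_mul_left (by omega) h1)
      intro x hx
      have e : Subgroup.zpowers (g : PSL₂) = (Subgroup.zpowers g).map M.subtype := by
        rw [MonoidHom.map_zpowers]; rfl
      rw [e]
      refine Subgroup.mem_normalizer_iff.2 fun h => ⟨?_, ?_⟩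
      · rintro ⟨y, hy, rfl⟩
        exact ⟨⟨x, hx⟩ * y * ⟨x, hx⟩⁻¹, hn.conj_mem y hy _, rfl⟩
      · rintro ⟨y, hy, e'⟩
        refine ⟨⟨x, hx⟩⁻¹ * y * ⟨x, hx⟩⁻¹⁻¹, hn.conj_mem y hy _, ?_⟩
        show x⁻¹ * (y : PSL₂) * x⁻¹⁻¹ = h
        rw [show (y : PSL₂) = x * h * x⁻¹ from e']; group
    have hnn : ¬ (Subgroup.zpowers (g : PSL₂)).Normal := not_normal h4 _
      (fun e => by rw [e, Subgroup.card_bot] at hQc; omega) (ne_top_of_le_ne_top hM.1 (Subgroup.zpowers_le.2 g.2))
    obtain ⟨X, hX, c, hcX, a, b, hac, hbb, hb1, hba⟩ : ∃ (X : Subgroup PSL₂) (_ : X ≠ ⊤) (_ : 2 * k < Nat.card X)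
        (_ : True) (a b : X), orderOf a = k ∧ b * b = 1 ∧ b ≠ 1 ∧ b * a * b = a⁻¹ := by
      rcases hk' with ⟨e, rfl⟩ | ⟨e, rfl⟩
      · obtain ⟨r, hr⟩ := (FiniteField.isSquare_two_iff (F := F)).2 (by omega)
        obtain ⟨X, ⟨s⟩⟩ := PSL2Small.exists_sym_four hodd (r := r) (by rw [hr, pow_two])
        have hcX : Nat.card X = 24 := by rw [Nat.card_congr s.toEquiv, Nat.card_perm, Nat.card_fin]; rfl
        obtain ⟨a, ha⟩ := exists_prime_orderOf_dvd_card' (G := X) 3 (by rw [hcX]; norm_num)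
        obtain ⟨τ, h1, h2, h3⟩ := four_inverting (s a) (by rw [← map_pow, ← ha, pow_orderOf_eq_one, map_one])
        refine ⟨X, fun e' => ?_, by omega, trivial, a, s.symm τ, ha, by rw [← map_mul, h1, map_one],
          fun e' => h2 (s.symm.map_eq_one_iff.1 e'), s.injective (by simpa using h3)⟩
        rw [e', Subgroup.card_top] at hcX
        rw [e] at hN; norm_num at hN; omega
      · obtain ⟨X, ⟨s⟩⟩ := DicksonMinSimple.exists_alt5 (F := F) hodd (by rcases e with e | e <;> rw [e] <;> norm_num)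
        have hcX : Nat.card X = 60 := by rw [Nat.card_congr s.toEquiv, nat_card_alternatingGroup, Nat.card_fin]; rfl
        obtain ⟨a, ha⟩ := exists_prime_orderOf_dvd_card' (G := X) 5 (by rw [hcX]; norm_num)
        obtain ⟨τ, h0, h1, h2, h3⟩ := five_inverting (s a).1 (Equiv.Perm.mem_alternatingGroup.1 (s a).2) (by
          have hp5 := pow_orderOf_eq_one a
          rw [ha] at hp5
          rw [← SubmonoidClass.coe_pow, ← map_pow, hp5, map_one]; rfl)
        obtain ⟨τ', hτ⟩ : ∃ τ' : alternatingGroup (Fin 5), τ'.1 = τ :=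
          ⟨⟨τ, Equiv.Perm.mem_alternatingGroup.2 h0⟩, rfl⟩
        refine ⟨X, fun e' => ?_, by omega, trivial, a, s.symm τ', ha, ?_, fun e' => h2 ?_, s.injective ?_⟩
        · rw [e', Subgroup.card_top] at hcX
          rcases e with e | e <;> rw [e] at hN <;> norm_num at hN <;> omega
        · rw [← map_mul, ← map_one s.symm]; congr 1; exact Subtype.ext (by rw [Subgroup.coe_mul, hτ, h1]; rfl)
        · rw [← hτ, s.symm.map_eq_one_iff.1 e']; rfl
        · rw [map_mul, map_mul, map_inv, MulEquiv.apply_symm_apply]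
          exact Subtype.ext (by simpa [hτ] using h3)
    obtain ⟨Y, hY⟩ : ∃ Y : Subgroup PSL₂, Y = Subgroup.closure {(a : PSL₂), (b : PSL₂)} := ⟨_, rfl⟩
    have hbinv : (b : PSL₂)⁻¹ = b := inv_eq_of_mul_eq_one_right (congrArg Subtype.val hbb)
    have hbab : (b : PSL₂) * a * b = (a : PSL₂)⁻¹ := congrArg Subtype.val hba
    refine not_max_of_sylow M hM ((IsPGroup.of_card (p := k) (n := 1) (by rw [hQc, pow_one])).toSylow hidx) hnn
      hMn X hX Y ?_ (Subgroup.zpowers (a : PSL₂)) ?_ ?_ ?_ (by omega)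
    · rw [hY, Subgroup.closure_le]
      rintro z (rfl | rfl)
      · exact a.2
      · exact b.2
    · rw [Nat.card_zpowers, Subgroup.orderOf_coe, hac]; exact hQc.symm
    · rw [hY, Subgroup.closure_le]
      rintro z (rfl | rfl)
      · exact Subgroup.le_normalizer (Subgroup.mem_zpowers _)
      · have hc : ∀ i : ℤ, (b : PSL₂) * (a : PSL₂) ^ i * (b : PSL₂)⁻¹ = (a : PSL₂) ^ (-i) := fun i => by
          rw [← conj_zpow, hbinv, hbab, _root_.inv_zpow']
        refine Subgroup.mem_normalizer_iff.2 fun h => ⟨?_, ?_⟩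
        · rintro ⟨i, rfl⟩; exact ⟨-i, (hc i).symm⟩
        · rintro ⟨i, hi⟩
          refine ⟨-i, ?_⟩
          have hi' : (a : PSL₂) ^ i = (b : PSL₂) * h * (b : PSL₂)⁻¹ := hi
          show (a : PSL₂) ^ (-i) = h
          rw [← hc i, hi', hbinv]
          have : (b : PSL₂) * b = 1 := congrArg Subtype.val hbb
          calc (b : PSL₂) * (b * h * b) * b = b * b * h * (b * b) := by group
            _ = h := by rw [this, one_mul, mul_one]
    · have hab : Subgroup.zpowers (a : PSL₂) ≤ Y := by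
        rw [Subgroup.zpowers_le, hY]; exact Subgroup.subset_closure (Set.mem_insert _ _)
      have hb : (b : PSL₂) ∈ Y := hY ▸ Subgroup.subset_closure (Set.mem_insert_of_mem _ rfl)
      have hcard := Nat.card_zpowers (a : PSL₂)
      rw [Subgroup.orderOf_coe, hac] at hcard
      have hd : k ∣ Nat.card Y := hcard ▸ Subgroup.card_dvd_of_le hab
      have hne : Nat.card Y ≠ k := fun e => by
        have he := Subgroup.eq_of_le_of_card_ge hab (le_of_eq (e.trans hcard.symm))
        rw [← he] at hb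
        obtain ⟨i, hi⟩ := hb
        have hbk : (b : PSL₂) ^ k = 1 := by
          rw [← hi]
          show ((a : PSL₂) ^ i) ^ k = 1
          rw [← zpow_natCast, ← _root_.zpow_mul, mul_comm, _root_.zpow_mul, zpow_natCast, ← hac,
            ← Subgroup.orderOf_coe, pow_orderOf_eq_one, _root_.one_zpow]
        have h2 : (b : PSL₂) ^ 2 = 1 := by rw [pow_two]; exact congrArg Subtype.val hbb
        have := Nat.eq_one_of_dvd_one (show orderOf (b : PSL₂) ∣ 1 by
          have := Nat.dvd_gcd (orderOf_dvd_of_pow_eq_one hbk) (orderOf_dvd_of_pow_eq_one h2)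
          rwa [show Nat.gcd k 2 = 1 from (Nat.coprime_primes hkp.out Nat.prime_two).2 (by omega)] at this)
        exact hb1 (Subtype.ext (orderOf_eq_one_iff.1 this))
      obtain ⟨d, hd⟩ := hd
      rw [hd] at hne
      have hpos : 0 < Nat.card Y := Nat.card_pos
      rw [hd] at hpos
      have hd2 : 2 ≤ d := by
        rcases d with _ | _ | d
        · rw [mul_zero] at hpos; omega
        · exact absurd (mul_one k) hne
        · omega
      rw [hcM, hd, mul_comm]
      exact Nat.mul_le_mul_left k hd2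

end Max

end CfsgLib.Lie.DicksonOdd
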