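import Cfsg.Agent.Fus.DicksonCount
import Cfsg.Agent.Lie.DihedralIso
import Cfsg.Agent.Base.Small.OrderSixty
import Mathlib.GroupTheory.SpecificGroups.Alternating
import Mathlib.GroupTheory.SpecificGroups.Dihedral
import Mathlib.GroupTheory.GroupAction.Quotient
import Mathlib.RingTheory.IntegralDomain

/-!
Finite groups acting like subgroups of PGL₂ on a projective line: the orbit count.
-/

set_option autoImplicit false
set_option linter.unusedSectionVars false
set_option linter.unusedSimpArgs false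

namespace CfsgLib.Lie.DicksonOrbit

open MulAction

/-- every non-trivial element fixes two points, or one if it has p-th power one; point stabilisers map to the units of
a field with kernel the elements of p-th power one -/
structure IsLine (K : Type*) [Field K] (G X : Type*) [Group G] [MulAction G X] (p : ℕ) : Prop where
  prime : p.Prime
  fix : ∀ g : G, g ≠ 1 → (g ^ p ≠ 1 ∧ ∃ a b, a ≠ b ∧ ∀ x : X, g • x = x ↔ x = a ∨ x = b) ∨
    (g ^ p = 1 ∧ ∃ a, ∀ x : X, g • x = x ↔ x = a)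
  stab : ∀ x : X, ∃ χ : stabilizer G x →* Kˣ, ∀ g, χ g = 1 ↔ (g : G) ^ p = 1

variable {K : Type*} [Field K] {G X : Type*} [Group G] [Finite G] [MulAction G X] {p : ℕ}

theorem three_fixed (h : IsLine K G X p) {g : G} {a b c : X} (hab : a ≠ b) (hac : a ≠ c) (hbc : b ≠ c)
    (ha : g • a = a) (hb : g • b = b) (hc : g • c = c) : g = 1 := by
  by_contra hg
  rcases h.fix g hg with ⟨-, u, v, -, huv⟩ | ⟨-, u, hu⟩
  · rcases (huv a).1 ha with rfl | rfl <;> rcases (huv b).1 hb with rfl | rfl <;> rcases (huv c).1 hc with rfl | rfl <;>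
      simp_all
  · exact hab (((hu a).1 ha).trans ((hu b).1 hb).symm)

/-- the p-part of a point stabiliser -/
noncomputable def P (h : IsLine K G X p) (x : X) : Subgroup G :=
  (h.stab x).choose.ker.map (stabilizer G x).subtype

theorem mem_P (h : IsLine K G X p) {x : X} {g : G} : g ∈ P h x ↔ g • x = x ∧ g ^ p = 1 := by
  constructor
  · rintro ⟨u, hu, rfl⟩
    exact ⟨u.2, ((h.stab x).choose_spec u).1 hu⟩
  · rintro ⟨h1, h2⟩
    exact ⟨⟨g, h1⟩, ((h.stab x).choose_spec ⟨g, h1⟩).2 h2, rfl⟩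

theorem P_le (h : IsLine K G X p) (x : X) : P h x ≤ stabilizer G x := fun _ hg => ((mem_P h).1 hg).1

theorem P_isPGroup (h : IsLine K G X p) (x : X) : IsPGroup p (P h x) := fun g =>
  ⟨1, Subtype.ext (by rw [pow_one, SubmonoidClass.coe_pow]; exact ((mem_P h).1 g.2).2)⟩

theorem P_eq_bot (h : IsLine K G X p) {x : X} : Nat.card (P h x) = 1 ↔ ∀ g : G, g • x = x → g ^ p = 1 → g = 1 := by
  rw [Subgroup.card_eq_one, Subgroup.eq_bot_iff_forall]
  exact ⟨fun H g h1 h2 => H g ((mem_P h).2 ⟨h1, h2⟩), fun H g hg => H g ((mem_P h).1 hg).1 ((mem_P h).1 hg).2⟩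

theorem stab_cyclic (h : IsLine K G X p) {x : X} (hP : Nat.card (P h x) = 1) : IsCyclic (stabilizer G x) := by
  obtain ⟨χ, hχ⟩ := h.stab x
  refine isCyclic_of_injective_ringHom ((Units.coeHom K).comp χ) fun u v huv => ?_
  have h1 : χ (u⁻¹ * v) = 1 := by rw [map_mul, map_inv, Units.ext huv, inv_mul_cancel]
  exact inv_mul_eq_one.1 (Subtype.ext ((P_eq_bot h).1 hP _ (u⁻¹ * v).2 ((hχ _).1 h1)))

theorem not_commute (h : IsLine K G X p) {x : X} {t u : G} (ht : t • x = x) (ht1 : t ^ p ≠ 1) (hu : u • x = x)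
    (hu1 : u ^ p = 1) (hu0 : u ≠ 1) : t * u ≠ u * t := by
  intro hc
  have htne : t ≠ 1 := fun e => ht1 (by rw [e, one_pow])
  rcases h.fix t htne with ⟨-, a, b, hab, hfix⟩ | ⟨e, -⟩
  · rcases h.fix u hu0 with ⟨e, -⟩ | ⟨-, c, hufix⟩
    · exact e hu1
    · have key : ∀ y : X, t • y = y → t • (u • y) = u • y := fun y hy => by rw [← mul_smul, hc, mul_smul, hy]
      have hxc := (hufix x).1 hu
      obtain ⟨y, hyx, hy⟩ : ∃ y, y ≠ x ∧ t • y = y := by
        rcases (hfix x).1 ht with rfl | rfl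
        · exact ⟨b, Ne.symm hab, (hfix b).2 (Or.inr rfl)⟩
        · exact ⟨a, hab, (hfix a).2 (Or.inl rfl)⟩
      have huy : u • y = y := by
        by_contra hne
        exact htne (three_fixed h (a := x) (b := y) (c := u • y) (Ne.symm hyx)
          (fun e => hyx (smul_left_cancel u (e.symm.trans hu.symm))) (Ne.symm hne) ht hy (key y hy))
      exact hyx (((hufix y).1 huy).trans hxc.symm)
  · exact ht1 e

/-! ### The count -/

open Classical in
/-- elements of N other than 1 fixing x, unipotent ones counted twice -/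
noncomputable def W (p : ℕ) [Fintype G] (N : Subgroup G) (x : X) : ℕ :=
  ∑ g ∈ (Finset.univ.filter (· ∈ N)).erase 1, if g • x = x then (if g ^ p = 1 then 2 else 1) else 0

open Classical in
/-- the orbit as a finset -/
noncomputable def O [Fintype G] (x : X) : Finset X := Finset.univ.image fun g : G => g • x

theorem mem_O [Fintype G] {x y : X} : y ∈ O (G := G) x ↔ ∃ g : G, g • x = y := by
  simp [O]

theorem self_mem_O [Fintype G] (x : X) : x ∈ O (G := G) x := mem_O.2 ⟨1, one_smul _ _⟩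

theorem card_O [Fintype G] (x : X) : (O (G := G) x).card * Nat.card (stabilizer G x) = Nat.card G := by
  classical
  have : ((O (G := G) x : Finset X) : Set X) = orbit G x := by
    ext y; rw [Finset.mem_coe, mem_O]; exact Iff.rfl
  rw [← Set.ncard_coe_finset, this, ← index_stabilizer, mul_comm, Subgroup.card_mul_index]

theorem O_disjoint [Fintype G] {x y : X} (h : y ∉ O (G := G) x) : Disjoint (O (G := G) x) (O (G := G) y) := by
  rw [Finset.disjoint_left]
  intro z hz hz'
  obtain ⟨g, rfl⟩ := mem_O.1 hz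
  obtain ⟨k, hk⟩ := mem_O.1 hz'
  exact h (mem_O.2 ⟨k⁻¹ * g, by rw [mul_smul, ← hk, inv_smul_smul]⟩)

theorem card_stab_conj (g : G) (x : X) : Nat.card (stabilizer G (g • x)) = Nat.card (stabilizer G x) :=
  Nat.card_congr (stabilizerEquivStabilizer (a := x) (b := g • x) (g := g) rfl).symm.toEquiv

open Classical in
theorem W_eq [Fintype G] (h : IsLine K G X p) (N : Subgroup G) (x : X) :
    W p N x + 2 = Nat.card ↥(N ⊓ stabilizer G x) + Nat.card ↥(N ⊓ P h x) := by
  have h1 : ∀ S : Subgroup G, ((Finset.univ.filter (· ∈ N)).erase 1).filter (· ∈ S) =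
      (Finset.univ.filter (· ∈ N ⊓ S)).erase 1 := fun S => by
    ext g; simp [Subgroup.mem_inf]; tauto
  have h2 : ∀ S : Subgroup G, ((Finset.univ.filter (· ∈ S)).erase 1).card + 1 = Nat.card S := fun S => by
    rw [Finset.card_erase_add_one (by simp), Nat.card_eq_fintype_card, Fintype.card_subtype]
  have : W p N x = (((Finset.univ.filter (· ∈ N)).erase 1).filter (· ∈ stabilizer G x)).card +
      (((Finset.univ.filter (· ∈ N)).erase 1).filter (· ∈ P h x)).card := by
    rw [W, Finset.card_filter, Finset.card_filter, ← Finset.sum_add_distrib]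
    refine Finset.sum_congr rfl fun g _ => ?_
    by_cases hg : g • x = x
    · by_cases hp : g ^ p = 1 <;> simp [mem_P h, mem_stabilizer_iff, hg, hp]
    · simp [mem_P h, mem_stabilizer_iff, hg]
  have e1 : ∀ (S : Subgroup G) (F : Finset G), (∀ g, g ∈ F ↔ g ≠ 1 ∧ g ∈ N ∧ g ∈ S) → F.card + 1 = Nat.card ↥(N ⊓ S) := by
    intro S F hF
    rw [← h2]
    refine congrArg (fun s : Finset G => s.card + 1) ?_
    ext g; simp [hF, Subgroup.mem_inf]
  rw [this]
  have f1 := e1 (stabilizer G x) (((Finset.univ.filter (· ∈ N)).erase 1).filter (· ∈ stabilizer G x))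
    (by intro g; simp [and_assoc])
  have f2 := e1 (P h x) (((Finset.univ.filter (· ∈ N)).erase 1).filter (· ∈ P h x)) (by intro g; simp [and_assoc])
  omega

theorem W_conj [Fintype G] (N : Subgroup G) [N.Normal] (g : G) (x : X) : W p N (g • x) = W p N x := by
  classical
  refine Finset.sum_nbij' (fun u => g⁻¹ * u * g) (fun u => g * u * g⁻¹) ?_ ?_ ?_ ?_ ?_
  · intro u hu
    simp only [Finset.mem_coe, Finset.mem_erase, Finset.mem_filter, Finset.mem_univ, true_and] at hu ⊢
    refine ⟨fun e => hu.1 ?_, ?_⟩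
    · have := congrArg (fun v => g * v * g⁻¹) e; simpa [mul_assoc] using this
    · simpa using Subgroup.Normal.conj_mem ‹_› u hu.2 g⁻¹
  · intro u hu
    simp only [Finset.mem_coe, Finset.mem_erase, Finset.mem_filter, Finset.mem_univ, true_and] at hu ⊢
    refine ⟨fun e => hu.1 ?_, Subgroup.Normal.conj_mem ‹_› u hu.2 g⟩
    have := congrArg (fun v => g⁻¹ * v * g) e; simpa [mul_assoc] using this
  · intro u _; group
  · intro u _; group
  · intro u _
    have e1 : (g⁻¹ * u * g) • x = x ↔ u • g • x = g • x := by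
      rw [mul_smul, mul_smul, inv_smul_eq_iff]
    have e2 : (g⁻¹ * u * g) ^ p = 1 ↔ u ^ p = 1 := by
      have hc := conj_pow (i := p) (a := g⁻¹) (b := u)
      rw [inv_inv] at hc
      rw [hc]
      constructor
      · intro e; have := congrArg (fun v => g * v * g⁻¹) e; simpa [mul_assoc] using this
      · intro e; rw [e]; group
    by_cases a1 : u • g • x = g • x
    · by_cases a2 : u ^ p = 1 <;> simp [a1, a2, e1, e2]
    · simp [a1, e1]

open Classical in
theorem exists_support [Fintype G] (h : IsLine K G X p) :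
    ∃ Xs : Finset X, (∀ x, x ∈ Xs ↔ ∃ g : G, g ≠ 1 ∧ g • x = x) ∧
      ∀ N : Subgroup G, ∑ x ∈ Xs, W p N x + 2 = 2 * Nat.card N := by
  have hfin : ∀ g : G, g ≠ 1 → ∃ s : Finset X, (∀ x, x ∈ s ↔ g • x = x) ∧
      s.card * (if g ^ p = 1 then 2 else 1) = 2 := by
    intro g hg
    rcases h.fix g hg with ⟨hp, a, b, hab, hf⟩ | ⟨hp, a, hf⟩
    · exact ⟨{a, b}, fun x => by simp [hf], by rw [if_neg hp, Finset.card_pair hab]⟩
    · exact ⟨{a}, fun x => by simp [hf], by rw [if_pos hp, Finset.card_singleton]⟩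
  choose s hs hs2 using hfin
  let Xs : Finset X := Finset.univ.biUnion fun g : G => if hg : g = 1 then ∅ else s g hg
  have hmem : ∀ x, x ∈ Xs ↔ ∃ g : G, g ≠ 1 ∧ g • x = x := by
    intro x
    simp only [Xs, Finset.mem_biUnion, Finset.mem_univ, true_and]
    constructor
    · rintro ⟨g, hg⟩
      by_cases h1 : g = 1
      · simp [h1] at hg
      · rw [dif_neg h1] at hg; exact ⟨g, h1, (hs g h1 x).1 hg⟩
    · rintro ⟨g, h1, hg⟩
      exact ⟨g, by rw [dif_neg h1]; exact (hs g h1 x).2 hg⟩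
  refine ⟨Xs, hmem, fun N => ?_⟩
  simp only [W]
  rw [Finset.sum_comm, Finset.sum_congr rfl (g := fun _ => 2) (fun g hg => ?_), Finset.sum_const, smul_eq_mul,
    Nat.card_eq_fintype_card (α := N), Fintype.card_subtype]
  · rw [Finset.card_erase_of_mem (by simp)]
    have : 0 < (Finset.univ.filter (· ∈ N)).card := Finset.card_pos.2 ⟨1, by simp⟩
    omega
  · have h1 : g ≠ 1 := (Finset.mem_erase.1 hg).1
    rw [← Finset.sum_filter, Finset.sum_const, smul_eq_mul,
      show Xs.filter (fun x => g • x = x) = s g h1 from ?_]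
    · exact hs2 g h1
    · ext x
      rw [Finset.mem_filter, hmem, hs g h1]
      exact ⟨fun e => e.2, fun e => ⟨⟨g, h1, e⟩, e⟩⟩

theorem sum_orbit [Fintype G] (N : Subgroup G) [N.Normal] (x : X) :
    ∑ y ∈ O (G := G) x, W p N y = (O (G := G) x).card * W p N x := by
  rw [Finset.sum_congr rfl (g := fun _ => W p N x) (fun y hy => ?_), Finset.sum_const, smul_eq_mul]
  obtain ⟨g, rfl⟩ := mem_O.1 hy
  exact W_conj N g x

theorem O_subset [Fintype G] {Xs : Finset X} (hXs : ∀ x, x ∈ Xs ↔ ∃ g : G, g ≠ 1 ∧ g • x = x) {x : X}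
    (hx : x ∈ Xs) : O (G := G) x ⊆ Xs := by
  intro y hy
  obtain ⟨k, rfl⟩ := mem_O.1 hy
  obtain ⟨g, h1, hg⟩ := (hXs x).1 hx
  refine (hXs _).2 ⟨k * g * k⁻¹, fun e => h1 ?_, by rw [mul_smul, mul_smul, inv_smul_smul, hg]⟩
  have := congrArg (fun v => k⁻¹ * v * k) e
  simpa [mul_assoc] using this

/-- contribution of the orbit of a point with trivial p-part -/
theorem orbit_ss [Fintype G] (h : IsLine K G X p) {Xs : Finset X} (hXs : ∀ x, x ∈ Xs ↔ ∃ g : G, g ≠ 1 ∧ g • x = x)
    {x : X} (hx : x ∈ Xs) (hP : Nat.card (P h x) = 1) :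
    ∃ n e : ℕ, Nat.card (stabilizer G x) = e ∧ (O (G := G) x).card = n ∧ 2 ≤ e ∧ n * e = Nat.card G ∧
      ∑ y ∈ O (G := G) x, W p (⊤ : Subgroup G) y + n = Nat.card G := by
  refine ⟨_, _, rfl, rfl, ?_, card_O x, ?_⟩
  · obtain ⟨g, h1, hg⟩ := (hXs x).1 hx
    rw [Nat.succ_le_iff, Finite.one_lt_card_iff_nontrivial]
    exact ⟨⟨⟨g, hg⟩, 1, fun e => h1 (congrArg Subtype.val e)⟩⟩
  · have hW := W_eq h (⊤ : Subgroup G) x
    rw [top_inf_eq, top_inf_eq, hP] at hW
    obtain ⟨w, hw⟩ : ∃ w, w = W p (⊤ : Subgroup G) x := ⟨_, rfl⟩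
    rw [sum_orbit, ← card_O x, show Nat.card (stabilizer G x) = w + 1 by omega, ← hw]
    ring

theorem arith_three {h n₁ n₂ n₃ e₁ e₂ e₃ : ℕ} (a1 : n₁ * e₁ = h) (a2 : n₂ * e₂ = h) (a3 : n₃ * e₃ = h)
    (b1 : 2 ≤ e₁) (hs : n₁ + n₂ + n₃ = h + 2) (h12 : e₁ ≤ e₂) (h23 : e₂ ≤ e₃) :
    (e₁ = 2 ∧ e₂ = 2 ∧ n₃ = 2) ∨ (e₁ = 2 ∧ e₂ = 3 ∧ e₃ = 3 ∧ h = 12) ∨ (e₁ = 2 ∧ e₂ = 3 ∧ e₃ = 4 ∧ h = 24) ∨
      (e₁ = 2 ∧ e₂ = 3 ∧ e₃ = 5 ∧ h = 60) := by
  have m12 : n₁ * e₁ ≤ n₁ * e₂ := Nat.mul_le_mul_left _ h12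
  have m23 : n₂ * e₂ ≤ n₂ * e₃ := Nat.mul_le_mul_left _ h23
  have he1 : e₁ = 2 := by
    by_contra hne
    have f1 : 3 * n₁ ≤ h := by rw [← a1, mul_comm n₁]; exact Nat.mul_le_mul_right _ (by omega)
    have f2 : 3 * n₂ ≤ h := by rw [← a2, mul_comm n₂]; exact Nat.mul_le_mul_right _ (by omega)
    have f3 : 3 * n₃ ≤ h := by rw [← a3, mul_comm n₃]; exact Nat.mul_le_mul_right _ (by omega)
    omega
  subst he1
  have he2 : e₂ ≤ 3 := by
    by_contra hne
    have f2 : 4 * n₂ ≤ h := by rw [← a2, mul_comm n₂]; exact Nat.mul_le_mul_right _ (by omega)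
    have f3 : 4 * n₃ ≤ h := by rw [← a3, mul_comm n₃]; exact Nat.mul_le_mul_right _ (by omega)
    omega
  interval_cases e₂
  · left; omega
  · have he3 : e₃ ≤ 5 := by
      by_contra hne
      have f3 : 6 * n₃ ≤ h := by rw [← a3, mul_comm n₃]; exact Nat.mul_le_mul_right _ (by omega)
      omega
    interval_cases e₃ <;> omega

theorem dihedral_of {y : X} {m : ℕ} (hcyc : IsCyclic (stabilizer G y)) (hm : Nat.card (stabilizer G y) = m)
    (hind : (stabilizer G y).index = 2) (hout : ∀ g : G, g • y ≠ y → g * g = 1) :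
    Nonempty (G ≃* DihedralGroup m) := by
  haveI : NeZero m := ⟨hm ▸ Nat.card_pos.ne'⟩
  obtain ⟨S, hS⟩ : ∃ S : G, S ∉ stabilizer G y := by
    by_contra hcon
    push Not at hcon
    rw [show stabilizer G y = ⊤ from eq_top_iff.2 fun g _ => hcon g, Subgroup.index_top] at hind
    omega
  have hSS : S * S = 1 := hout S hS
  have hSi : S⁻¹ = S := inv_eq_of_mul_eq_one_right hSS
  refine DihedralIso.of_cyclic m hm (stabilizer G y).subtype Subtype.val_injective S hSS (fun u => ?_)
    (by rwa [Subgroup.range_subtype]) fun g => ?_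
  · have h1 := hout (S * u) fun e => hS (by
      have : S * u ∈ stabilizer G y := e
      simpa using (stabilizer G y).mul_mem this ((stabilizer G y).inv_mem u.2))
    show S * u * S = ((u⁻¹ : stabilizer G y) : G)
    rw [Subgroup.coe_inv]
    refine eq_inv_of_mul_eq_one_left ?_
    rw [mul_assoc]; exact h1
  · rw [Subgroup.range_subtype]
    by_cases hg : g ∈ stabilizer G y
    · exact Or.inl hg
    · right
      rw [Subgroup.mul_mem_iff_of_index_two hind]
      exact iff_of_false hS hg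

theorem alt_four (h : IsLine K G X p) [Fintype G] (hG : Nat.card G = 12) {z : X} (hz : (O (G := G) z).card = 4) :
    Nonempty (G ≃* alternatingGroup (Fin 4)) := by
  classical
  let S : Set X := ↑(O (G := G) z)
  have hinv : ∀ (g : G) (y : X), y ∈ O (G := G) z → g • y ∈ O (G := G) z := fun g y hy => by
    obtain ⟨k, rfl⟩ := mem_O.1 hy; exact mem_O.2 ⟨g * k, mul_smul _ _ _⟩
  letI : MulAction G (O (G := G) z) :=
    { smul := fun g y => ⟨g • y.1, hinv g _ y.2⟩
      one_smul := fun y => Subtype.ext (one_smul G y.1)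
      mul_smul := fun a b y => Subtype.ext (mul_smul a b y.1) }
  obtain ⟨e⟩ : Nonempty ({y // y ∈ O (G := G) z} ≃ Fin 4) := ⟨(Finset.equivFin _).trans (finCongr hz)⟩
  let φ : G →* Equiv.Perm (Fin 4) := e.permCongrHom.toMonoidHom.comp (MulAction.toPermHom G (O (G := G) z))
  have hinj : Function.Injective φ := by
    refine (injective_iff_map_eq_one φ).2 fun g hg => ?_
    have hg' : MulAction.toPermHom G (O (G := G) z) g = 1 :=
      e.permCongrHom.injective (hg.trans (map_one e.permCongrHom).symm)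
    have hall : ∀ y : {y // y ∈ O (G := G) z}, g • y.1 = y.1 := fun y =>
      congrArg Subtype.val (DFunLike.congr_fun hg' y)
    exact three_fixed h (a := (e.symm 0).1) (b := (e.symm 1).1) (c := (e.symm 2).1)
      (fun h => by simpa using e.symm.injective (Subtype.ext h)) (fun h => by simpa using e.symm.injective (Subtype.ext h))
      (fun h => by simpa using e.symm.injective (Subtype.ext h)) (hall _) (hall _) (hall _)
  have hi : φ.range.index = 2 := by
    have h1 := φ.range.card_mul_index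
    rw [← Nat.card_congr (MonoidHom.ofInjective hinj).toEquiv, hG, Nat.card_eq_fintype_card (α := Equiv.Perm (Fin 4)),
      Fintype.card_perm, Fintype.card_fin, show Nat.factorial 4 = 24 from rfl] at h1
    omega
  exact ⟨(MonoidHom.ofInjective hinj).trans
    (MulEquiv.subgroupCongr (Equiv.Perm.eq_alternatingGroup_of_index_eq_two hi))⟩

theorem sym_four (h : IsLine K G X p) [Fintype G] {Xs : Finset X} (hXs : ∀ x, x ∈ Xs ↔ ∃ g : G, g ≠ 1 ∧ g • x = x)
    (hnp : ∀ g : G, g ^ p = 1 → g = 1) (hG : Nat.card G = 24) {x : X} (hx : Nat.card (stabilizer G x) = 3)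
    (horb : ∀ y ∈ Xs, y ∈ O (G := G) x ∨ Nat.card (stabilizer G y) = 2 ∨ Nat.card (stabilizer G y) = 4) :
    Nonempty (G ≃* Equiv.Perm (Fin 4)) := by
  classical
  have hn : (O (G := G) x).card = 8 := by have := card_O (G := G) x; rw [hx, hG] at this; omega
  haveI : Fact (Nat.Prime 3) := ⟨Nat.prime_three⟩
  -- the two fixed points of a stabiliser
  have hpair : ∀ y ∈ O (G := G) x, ∃ y', y' ≠ y ∧ y' ∈ O (G := G) x ∧
      ∀ z, stabilizer G z = stabilizer G y ↔ z = y ∨ z = y' := by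
    intro y hy
    obtain ⟨k, rfl⟩ := mem_O.1 hy
    have hy3 : Nat.card (stabilizer G (k • x)) = 3 := (card_stab_conj k x).trans hx
    obtain ⟨c, hc⟩ := exists_prime_orderOf_dvd_card' (G := stabilizer G (k • x)) 3 (by rw [hy3])
    have hc1 : (c : G) ≠ 1 := fun e => by
      rw [show c = 1 from Subtype.ext e, orderOf_one] at hc; omega
    rcases h.fix _ hc1 with ⟨-, a, b, hab, hfix⟩ | ⟨e, -⟩
    swap
    · exact absurd (hnp _ e) hc1
    obtain ⟨y', hy', hy'f⟩ : ∃ y', y' ≠ k • x ∧ (c : G) • y' = y' := by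
      rcases (hfix _).1 c.2 with e | e
      · exact ⟨b, fun e' => hab (e.symm.trans e'.symm), (hfix b).2 (Or.inr rfl)⟩
      · exact ⟨a, fun e' => hab (e'.trans e), (hfix a).2 (Or.inl rfl)⟩
    have h3y' : 3 ∣ Nat.card (stabilizer G y') := by
      rw [← hc, ← Subgroup.orderOf_coe]
      exact (Subgroup.orderOf_mk (c : G) (show (c : G) ∈ stabilizer G y' from hy'f)).symm.dvd.trans (orderOf_dvd_natCard _)
    have hy'O : y' ∈ O (G := G) x := by
      rcases horb y' ((hXs y').2 ⟨_, hc1, hy'f⟩) with e | e | e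
      · exact e
      · rw [e] at h3y'; omega
      · rw [e] at h3y'; omega
    have hzp : ∀ z : X, Nat.card (stabilizer G z) = 3 → (c : G) • z = z → stabilizer G z = Subgroup.zpowers (c : G) := by
      intro z hz3 hzc
      refine (Subgroup.eq_of_le_of_card_ge (Subgroup.zpowers_le.2 hzc) ?_).symm
      rw [hz3, Nat.card_zpowers, Subgroup.orderOf_coe, hc]
    have hy'3 : Nat.card (stabilizer G y') = 3 := by
      obtain ⟨l, rfl⟩ := mem_O.1 hy'O; exact (card_stab_conj l x).trans hx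
    refine ⟨y', hy', hy'O, fun z => ⟨fun e => ?_, ?_⟩⟩
    · have hzc : (c : G) • z = z := (SetLike.ext_iff.1 e (c : G)).2 c.2
      have e1 := (hfix _).1 c.2
      have e2 := (hfix _).1 hy'f
      rcases (hfix z).1 hzc with e3 | e3 <;> rcases e1 with e1 | e1 <;> rcases e2 with e2 | e2 <;> first
        | exact Or.inl (e3.trans e1.symm) | exact Or.inr (e3.trans e2.symm)
        | exact absurd (e2.trans e1.symm) hy'
    · rintro (rfl | rfl)
      · rfl
      · exact (hzp _ hy'3 hy'f).trans (hzp _ hy3 c.2).symm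
  let 𝒮 : Finset (Subgroup G) := (O (G := G) x).image (stabilizer G ·)
  have h𝒮 : 𝒮.card = 4 := by
    have h1 : (O (G := G) x).card = ∑ T ∈ 𝒮, ((O (G := G) x).filter fun y => stabilizer G y = T).card :=
      Finset.card_eq_sum_card_image _ _
    rw [Finset.sum_congr rfl (g := fun _ => 2) (fun T hT => ?_), Finset.sum_const, smul_eq_mul, hn] at h1
    · omega
    · obtain ⟨y, hy, rfl⟩ := Finset.mem_image.1 hT
      obtain ⟨y', hy', hy'O, hiff⟩ := hpair y hy
      rw [show (O (G := G) x).filter (fun z => stabilizer G z = stabilizer G y) = {y, y'} by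
        ext z
        simp only [Finset.mem_filter, hiff, Finset.mem_insert, Finset.mem_singleton]
        exact ⟨fun e => e.2, fun e => ⟨by rcases e with rfl | rfl <;> assumption, e⟩⟩, Finset.card_pair (Ne.symm hy')]
  have hconj : ∀ (g : G) (T : Subgroup G), T ∈ 𝒮 → T.map (MulAut.conj g).toMonoidHom ∈ 𝒮 := by
    intro g T hT
    obtain ⟨y, hy, rfl⟩ := Finset.mem_image.1 hT
    obtain ⟨k, rfl⟩ := mem_O.1 hy
    exact Finset.mem_image.2 ⟨g • k • x, mem_O.2 ⟨g * k, mul_smul _ _ _⟩, stabilizer_smul_eq_stabilizer_map_conj g _⟩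
  letI : MulAction G {T // T ∈ 𝒮} :=
    { smul := fun g T => ⟨T.1.map (MulAut.conj g).toMonoidHom, hconj g _ T.2⟩
      one_smul := fun T => Subtype.ext (by
        show T.1.map (MulAut.conj (1 : G)).toMonoidHom = T.1
        rw [map_one]; exact Subgroup.map_id _)
      mul_smul := fun a b T => Subtype.ext (by
        show T.1.map (MulAut.conj (a * b)).toMonoidHom = (T.1.map (MulAut.conj b).toMonoidHom).map (MulAut.conj a).toMonoidHom
        rw [Subgroup.map_map, map_mul]; rfl) }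
  obtain ⟨e⟩ : Nonempty ({T // T ∈ 𝒮} ≃ Fin 4) := ⟨(Finset.equivFin _).trans (finCongr h𝒮)⟩
  let φ : G →* Equiv.Perm (Fin 4) := e.permCongrHom.toMonoidHom.comp (MulAction.toPermHom G {T // T ∈ 𝒮})
  have hker : ∀ k ∈ φ.ker, ∀ y ∈ O (G := G) x, stabilizer G (k • y) = stabilizer G y := by
    intro k hk y hy
    have hk' : MulAction.toPermHom G {T // T ∈ 𝒮} k = 1 :=
      e.permCongrHom.injective ((MonoidHom.mem_ker.1 hk).trans (map_one e.permCongrHom).symm)
    have := congrArg Subtype.val (DFunLike.congr_fun hk' ⟨stabilizer G y, Finset.mem_image_of_mem _ hy⟩)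
    exact (stabilizer_smul_eq_stabilizer_map_conj k y).trans this
  have hfixp : ∀ k ∈ φ.ker, ∀ y ∈ O (G := G) x, k • y = y → k = 1 := by
    intro k hk y hy hky
    by_contra hk1
    obtain ⟨z, hz, hzy⟩ : ∃ z ∈ O (G := G) x, stabilizer G z ≠ stabilizer G y := by
      obtain ⟨T, hT, hTy⟩ := 𝒮.exists_mem_ne (by omega) (stabilizer G y)
      obtain ⟨z, hz, rfl⟩ := Finset.mem_image.1 hT
      exact ⟨z, hz, hTy⟩
    have hsame : ∀ w, w ∈ O (G := G) x → k • w = w → stabilizer G w = stabilizer G y := by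
      intro w hw hkw
      have hy3 : Nat.card (stabilizer G y) = 3 := by obtain ⟨l, rfl⟩ := mem_O.1 hy; exact (card_stab_conj l x).trans hx
      have hw3 : Nat.card (stabilizer G w) = 3 := by obtain ⟨l, rfl⟩ := mem_O.1 hw; exact (card_stab_conj l x).trans hx
      have hko : orderOf k = 3 := by
        refine ((Nat.dvd_prime Nat.prime_three).1 ?_).resolve_left (fun e => hk1 (orderOf_eq_one_iff.1 e))
        rw [← Subgroup.orderOf_mk k (show k ∈ stabilizer G y from hky), ← hy3]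
        exact orderOf_dvd_natCard _
      rw [← Subgroup.eq_of_le_of_card_ge (Subgroup.zpowers_le.2 (show k ∈ stabilizer G w from hkw))
          (by rw [hw3, Nat.card_zpowers, hko]),
        ← Subgroup.eq_of_le_of_card_ge (Subgroup.zpowers_le.2 (show k ∈ stabilizer G y from hky))
          (by rw [hy3, Nat.card_zpowers, hko])]
    obtain ⟨z', hz', hz'O, hiff⟩ := hpair z hz
    have hkz : k • z = z' := ((hiff (k • z)).1 (hker k hk z hz)).resolve_left fun e => hzy (hsame z hz e)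
    have hkkz : (k * k) • z = z := by
      have h1 : k • z' = z ∨ k • z' = z' := (hiff (k • z')).1 ((hker k hk z' hz'O).trans ((hiff z').2 (Or.inr rfl)))
      rw [mul_smul, hkz]
      exact h1.resolve_right fun e => hz' (smul_left_cancel k (e.trans hkz.symm))
    have hk3 : orderOf k ∣ 3 := by
      have hy3 : Nat.card (stabilizer G y) = 3 := by obtain ⟨l, rfl⟩ := mem_O.1 hy; exact (card_stab_conj l x).trans hx
      rw [← Subgroup.orderOf_mk k (show k ∈ stabilizer G y from hky), ← hy3]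
      exact orderOf_dvd_natCard _
    refine hz' (hkz.symm.trans ?_)
    calc k • z = k • (k * k) • z := by rw [hkkz]
      _ = (k * k * k) • z := by rw [← mul_smul, mul_assoc]
      _ = z := by rw [← pow_three', orderOf_dvd_iff_pow_eq_one.1 hk3, one_smul]
  have hinj : Function.Injective φ := by
    refine (injective_iff_map_eq_one φ).2 fun k hk => ?_
    by_contra hk1
    have hkk : k ∈ φ.ker := hk
    -- the kernel has order two, so k is central
    have htwo : ∀ a ∈ φ.ker, a = 1 ∨ a = k := by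
      intro a ha
      by_cases ha1 : a • x = x
      · exact Or.inl (hfixp a ha x (self_mem_O x) ha1)
      · right
        obtain ⟨x', hx', -, hiff⟩ := hpair x (self_mem_O x)
        have e1 := ((hiff (a • x)).1 (hker a ha x (self_mem_O x))).resolve_left ha1
        have e2 := ((hiff (k • x)).1 (hker k hkk x (self_mem_O x))).resolve_left
          fun e => hk1 (hfixp k hkk x (self_mem_O x) e)
        have := hfixp (k⁻¹ * a) (mul_mem (inv_mem hkk) ha) x (self_mem_O x) (by rw [mul_smul, e1, ← e2, inv_smul_smul])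
        exact (inv_mul_eq_one.1 this).symm
    have hcen : ∀ g : G, g * k = k * g := fun g => by
      rcases htwo _ (φ.normal_ker.conj_mem k hkk g) with e | e
      · exact absurd (by have := congrArg (fun v => g⁻¹ * v * g) e; simpa [mul_assoc] using this) hk1
      · exact mul_inv_eq_iff_eq_mul.1 e
    rcases h.fix k hk1 with ⟨-, a, b, hab, hfix⟩ | ⟨e', -⟩
    swap
    · exact hk1 (hnp _ e')
    have ha : k • a = a := (hfix a).2 (Or.inl rfl)
    have hsub : O (G := G) a ⊆ {a, b} := by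
      intro y hy
      obtain ⟨g, rfl⟩ := mem_O.1 hy
      have : k • g • a = g • a := by rw [← mul_smul, ← hcen, mul_smul, ha]
      rcases (hfix _).1 this with e | e <;> simp [e]
    have hle := Finset.card_le_card hsub
    rw [Finset.card_pair hab] at hle
    have hO := card_O (G := G) a
    rw [hG] at hO
    rcases horb a ((hXs a).2 ⟨k, hk1, ha⟩) with e' | e' | e'
    · obtain ⟨l, rfl⟩ := mem_O.1 e'
      rw [card_stab_conj, hx] at hO; omega
    · rw [e'] at hO; omega
    · rw [e'] at hO; omega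
  refine ⟨MulEquiv.ofBijective φ ((Nat.bijective_iff_injective_and_card _).2 ⟨hinj, ?_⟩)⟩
  rw [hG, Nat.card_eq_fintype_card, Fintype.card_perm, Fintype.card_fin]; rfl

/-- a group of order sixty with prime order or symmetric point stabilisers is simple -/
theorem simple_sixty [Fintype G] (h : IsLine K G X p) {Xs : Finset X}
    (hXs : ∀ N : Subgroup G, ∑ x ∈ Xs, W p N x + 2 = 2 * Nat.card N) (hG : Nat.card G = 60)
    (hN : ∀ N : Subgroup G, N.Normal → ∑ x ∈ Xs, W p N x + 2 ∣ 120 →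
      ∑ x ∈ Xs, W p N x = 0 ∨ ∑ x ∈ Xs, W p N x = 118) : Nonempty (G ≃* alternatingGroup (Fin 5)) := by
  haveI : Nontrivial G := Finite.one_lt_card_iff_nontrivial.1 (by omega)
  haveI : IsSimpleGroup G := ⟨fun N hn => by
    have h1 := hXs N
    have h2 : Nat.card N ∣ 60 := hG ▸ Subgroup.card_subgroup_dvd_card N
    rcases hN N hn (by rw [h1]; exact Nat.mul_dvd_mul_left 2 h2) with e | e
    · exact Or.inl (Subgroup.card_eq_one.1 (by omega))
    · exact Or.inr (Subgroup.eq_top_of_card_eq N (by omega))⟩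
  exact OrderSixty.iso_alt5 hG

/-- the possible structures -/
inductive Kind (h : IsLine K G X p) : Prop
  | point (x : X) (hx : ∀ g : G, g • x = x) : Kind h
  | dihedral (k : ℕ) (hk : 2 ≤ k) (g : G) (hg : orderOf g = k) (hgp : g ^ p ≠ 1)
      (e : Nonempty (G ≃* DihedralGroup k)) : Kind h
  | alt4 (hp2 : p ≠ 2) (e : Nonempty (G ≃* alternatingGroup (Fin 4))) : Kind h
  | sym4 (hp2 : p ≠ 2) (e : Nonempty (G ≃* Equiv.Perm (Fin 4))) : Kind h
  | alt5 (hp2 : p ≠ 2) (e : Nonempty (G ≃* alternatingGroup (Fin 5))) : Kind h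
  | big (x : X) (hq : 3 ≤ Nat.card (P h x)) (hn : (stabilizer G x).index = Nat.card (P h x) + 1) : Kind h

theorem ne_two (hnp : ∀ g : G, g ^ p = 1 → g = 1) (h2 : 2 ∣ Nat.card G) : p ≠ 2 := by
  rintro rfl
  haveI : Fact (Nat.Prime 2) := ⟨Nat.prime_two⟩
  obtain ⟨a, ha⟩ := exists_prime_orderOf_dvd_card' (G := G) 2 h2
  rw [hnp a (ha ▸ pow_orderOf_eq_one a), orderOf_one] at ha
  omega

theorem coprime_case (h : IsLine K G X p) (hnp : ∀ g : G, g ^ p = 1 → g = 1) (x₀ : X) : Kind h := by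
  classical
  haveI := Fintype.ofFinite G
  obtain ⟨Xs, hXs, hsum⟩ := exists_support h
  have hP : ∀ x, Nat.card (P h x) = 1 := fun x => (P_eq_bot h).2 fun g _ hg => hnp g hg
  have hh : Nat.card G = 1 ∨ 2 ≤ Nat.card G := by have := Nat.card_pos (α := G); omega
  rcases hh with hh | hh
  · exact Kind.point x₀ fun g => by rw [(Nat.card_eq_one_iff_unique.1 hh).1.elim g 1, one_smul]
  have htop : ∑ x ∈ Xs, W p (⊤ : Subgroup G) x + 2 = 2 * Nat.card G := by rw [hsum, Subgroup.card_top]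
  have hfull : ∀ T : Finset X, T ⊆ Xs → ∑ x ∈ T, W p (⊤ : Subgroup G) x + 2 < 2 * Nat.card G →
      ∃ x ∈ Xs, x ∉ T := by
    intro T hT hlt
    by_contra hcon
    push Not at hcon
    rw [Finset.Subset.antisymm hT hcon] at hlt
    omega
  obtain ⟨x₁, hx₁, -⟩ := hfull ∅ (by simp) (by rw [Finset.sum_empty]; omega)
  obtain ⟨n₁, e₁, he₁, hn₁, b₁, a₁, s₁⟩ := orbit_ss h hXs hx₁ (hP _)
  have hp1 : 0 < n₁ := Nat.pos_of_ne_zero fun e => by rw [e, zero_mul] at a₁; omega
  obtain ⟨x₂, hx₂, hd₂⟩ := hfull (O (G := G) x₁) (O_subset hXs hx₁) (by omega)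
  obtain ⟨n₂, e₂, he₂, hn₂, b₂, a₂, s₂⟩ := orbit_ss h hXs hx₂ (hP _)
  have hp2 : 0 < n₂ := Nat.pos_of_ne_zero fun e => by rw [e, zero_mul] at a₂; omega
  have hT₂ : O (G := G) x₁ ∪ O (G := G) x₂ ⊆ Xs := Finset.union_subset (O_subset hXs hx₁) (O_subset hXs hx₂)
  have hu₂ := Finset.sum_union (f := W p (⊤ : Subgroup G)) (O_disjoint hd₂)
  by_cases h2 : ∑ x ∈ O (G := G) x₁ ∪ O (G := G) x₂, W p (⊤ : Subgroup G) x + 2 = 2 * Nat.card G
  · refine Kind.point x₁ fun g => ?_
    have hn : n₁ = 1 := by omega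
    have h1 : g • x₁ ∈ O (G := G) x₁ := mem_O.2 ⟨g, rfl⟩
    obtain ⟨z, hz⟩ := Finset.card_eq_one.1 (hn₁.trans hn)
    have h2' := self_mem_O (G := G) x₁
    rw [hz, Finset.mem_singleton] at h1 h2'
    exact h1.trans h2'.symm
  have hle₂ := Finset.sum_le_sum_of_subset (f := W p (⊤ : Subgroup G)) hT₂
  obtain ⟨x₃, hx₃, hd₃⟩ := hfull _ hT₂ (by omega)
  rw [Finset.mem_union, not_or] at hd₃
  obtain ⟨n₃, e₃, he₃, hn₃, b₃, a₃, s₃⟩ := orbit_ss h hXs hx₃ (hP _)
  have hdis₃ : Disjoint (O (G := G) x₁ ∪ O (G := G) x₂) (O (G := G) x₃) :=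
    Finset.disjoint_union_left.2 ⟨O_disjoint hd₃.1, O_disjoint hd₃.2⟩
  have hT₃ : O (G := G) x₁ ∪ O (G := G) x₂ ∪ O (G := G) x₃ ⊆ Xs := Finset.union_subset hT₂ (O_subset hXs hx₃)
  have hu₃ := Finset.sum_union (f := W p (⊤ : Subgroup G)) hdis₃
  have hall : O (G := G) x₁ ∪ O (G := G) x₂ ∪ O (G := G) x₃ = Xs := by
    by_contra hne
    obtain ⟨x₄, hx₄, hd₄⟩ := Finset.exists_of_ssubset (lt_of_le_of_ne hT₃ hne)
    rw [Finset.mem_union, Finset.mem_union, not_or, not_or] at hd₄
    obtain ⟨n₄, e₄, -, -, b₄, a₄, s₄⟩ := orbit_ss h hXs hx₄ (hP _)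
    have hu₄ := Finset.sum_union (f := W p (⊤ : Subgroup G))
      (Finset.disjoint_union_left.2 ⟨Finset.disjoint_union_left.2 ⟨O_disjoint hd₄.1.1, O_disjoint hd₄.1.2⟩,
        O_disjoint hd₄.2⟩)
    have hle₄ := Finset.sum_le_sum_of_subset (f := W p (⊤ : Subgroup G))
      (Finset.union_subset hT₃ (O_subset hXs hx₄))
    have f : ∀ {n e : ℕ}, n * e = Nat.card G → 2 ≤ e → 2 * n ≤ Nat.card G := fun {n e} a b => by
      rw [← a, mul_comm 2]; exact Nat.mul_le_mul_left n b
    have := f a₁ b₁; have := f a₂ b₂; have := f a₃ b₃; have := f a₄ b₄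
    omega
  have hs : n₁ + n₂ + n₃ = Nat.card G + 2 := by rw [← hall] at htop; omega
  -- sort by the stabiliser orders
  suffices main : ∀ (y₁ y₂ y₃ : X) (c₁ c₂ c₃ m₁ m₂ m₃ : ℕ), Nat.card (stabilizer G y₁) = c₁ →
      Nat.card (stabilizer G y₂) = c₂ → Nat.card (stabilizer G y₃) = c₃ → (O (G := G) y₁).card = m₁ →
      (O (G := G) y₂).card = m₂ → (O (G := G) y₃).card = m₃ → m₁ * c₁ = Nat.card G → m₂ * c₂ = Nat.card G →
      m₃ * c₃ = Nat.card G → 2 ≤ c₁ → m₁ + m₂ + m₃ = Nat.card G + 2 → c₁ ≤ c₂ → c₂ ≤ c₃ →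
      O (G := G) y₁ ∪ O (G := G) y₂ ∪ O (G := G) y₃ = Xs →
      Disjoint (O (G := G) y₁) (O (G := G) y₂) → Disjoint (O (G := G) y₁ ∪ O (G := G) y₂) (O (G := G) y₃) → Kind h by
    have dd : ∀ {a b : Finset X}, Disjoint a b → Disjoint b a := fun h => h.symm
    have d12 := O_disjoint (G := G) hd₂
    have d13 := O_disjoint (G := G) hd₃.1
    have d23 := O_disjoint (G := G) hd₃.2
    have du : ∀ {a b c : Finset X}, Disjoint a c → Disjoint b c → Disjoint (a ∪ b) c := fun h h' =>
      Finset.disjoint_union_left.2 ⟨h, h'⟩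
    rcases le_total e₁ e₂ with u | u <;> rcases le_total e₂ e₃ with v | v <;> rcases le_total e₁ e₃ with w | w
    all_goals first
      | exact main x₁ x₂ x₃ _ _ _ _ _ _ he₁ he₂ he₃ hn₁ hn₂ hn₃ a₁ a₂ a₃ b₁ hs (by omega) (by omega) hall d12 (du d13 d23)
      | exact main x₁ x₃ x₂ _ _ _ _ _ _ he₁ he₃ he₂ hn₁ hn₃ hn₂ a₁ a₃ a₂ b₁ (by omega) (by omega) (by omega)
          (by rw [← hall]; ext; simp; tauto) d13 (du d12 d23.symm)
      | exact main x₂ x₁ x₃ _ _ _ _ _ _ he₂ he₁ he₃ hn₂ hn₁ hn₃ a₂ a₁ a₃ b₂ (by omega) (by omega) (by omega)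
          (by rw [← hall]; ext; simp; tauto) d12.symm (du d23 d13)
      | exact main x₂ x₃ x₁ _ _ _ _ _ _ he₂ he₃ he₁ hn₂ hn₃ hn₁ a₂ a₃ a₁ b₂ (by omega) (by omega) (by omega)
          (by rw [← hall]; ext; simp; tauto) d23 (du d12.symm d13.symm)
      | exact main x₃ x₁ x₂ _ _ _ _ _ _ he₃ he₁ he₂ hn₃ hn₁ hn₂ a₃ a₁ a₂ b₃ (by omega) (by omega) (by omega)
          (by rw [← hall]; ext; simp; tauto) d13.symm (du d23.symm d12)
      | exact main x₃ x₂ x₁ _ _ _ _ _ _ he₃ he₂ he₁ hn₃ hn₂ hn₁ a₃ a₂ a₁ b₃ (by omega) (by omega) (by omega)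
          (by rw [← hall]; ext; simp; tauto) d23.symm (du d13.symm d12.symm)
  intro y₁ y₂ y₃ c₁ c₂ c₃ m₁ m₂ m₃ f₁ f₂ f₃ o₁ o₂ o₃ g₁ g₂ g₃ k₁ ks l₁ l₂ hU hD1 hD2
  have hcard : ∀ y ∈ Xs, (y ∈ O (G := G) y₁ ∧ Nat.card (stabilizer G y) = c₁) ∨
      (y ∈ O (G := G) y₂ ∧ Nat.card (stabilizer G y) = c₂) ∨ (y ∈ O (G := G) y₃ ∧ Nat.card (stabilizer G y) = c₃) := by
    intro y hy
    rw [← hU, Finset.mem_union, Finset.mem_union] at hy
    rcases hy with (hy | hy) | hy <;> obtain ⟨k, rfl⟩ := mem_O.1 hy <;> rw [card_stab_conj]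
    · exact Or.inl ⟨hy, f₁⟩
    · exact Or.inr (Or.inl ⟨hy, f₂⟩)
    · exact Or.inr (Or.inr ⟨hy, f₃⟩)
  rcases arith_three g₁ g₂ g₃ k₁ ks l₁ l₂ with ⟨rfl, rfl, rfl⟩ | ⟨rfl, rfl, rfl, hG⟩ | ⟨rfl, rfl, rfl, hG⟩ |
    ⟨rfl, rfl, rfl, hG⟩
  · have hc2 : 2 ≤ c₃ := l₂
    obtain ⟨g, hg⟩ := (stab_cyclic h (hP y₃)).exists_ofOrder_eq_natCard
    have hgo : orderOf (g : G) = c₃ := by rw [Subgroup.orderOf_coe, hg, f₃]
    refine Kind.dihedral c₃ hc2 g hgo (fun e => by
      rw [hnp _ e, orderOf_one] at hgo; omega) (dihedral_of (y := y₃) (stab_cyclic h (hP y₃)) f₃ ?_ fun a ha => ?_)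
    · have h1 := (stabilizer G y₃).card_mul_index
      rw [f₃, ← g₃] at h1
      exact Nat.eq_of_mul_eq_mul_left (show 0 < c₃ by omega) (h1.trans (mul_comm _ _))
    · have ha1 : a ≠ 1 := fun e => ha (by rw [e, one_smul])
      have hfixed : ∀ z, a • z = z → z ∉ O (G := G) y₃ := by
        intro z hz hzO
        obtain ⟨u, v, huv, hset⟩ := Finset.card_eq_two.1 o₃
        have hy := self_mem_O (G := G) y₃
        have hay : a • y₃ ∈ O (G := G) y₃ := mem_O.2 ⟨a, rfl⟩
        rw [hset] at hy hay hzO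
        simp only [Finset.mem_insert, Finset.mem_singleton] at hy hay hzO
        have hne : z ≠ y₃ := fun e => ha (e ▸ hz)
        have : a • y₃ = z := by
          rcases hy with e1 | e1 <;> rcases hay with e2 | e2 <;> rcases hzO with e3 | e3 <;> first
            | exact absurd (e2.trans e1.symm) ha | exact absurd (e3.trans e1.symm) hne | exact e2.trans e3.symm
        exact hne (smul_left_cancel a (hz.trans this.symm))
      rcases h.fix a ha1 with ⟨-, u, v, -, hset⟩ | ⟨e, -⟩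
      · have hu : a • u = u := (hset u).2 (Or.inl rfl)
        have hcu : Nat.card (stabilizer G u) = 2 := by
          rcases hcard u ((hXs u).2 ⟨a, ha1, hu⟩) with e | e | ⟨e, -⟩
          · exact e.2
          · exact e.2
          · exact absurd e (hfixed u hu)
        have h2' := congrArg Subtype.val (pow_card_eq_one' (x := (⟨a, hu⟩ : stabilizer G u)))
        rw [hcu, pow_two] at h2'
        simpa using h2'
      · exact absurd (hnp _ e) ha1
  · exact Kind.alt4 (ne_two hnp (by rw [hG]; norm_num)) (alt_four h hG (z := y₃) (by omega))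
  · exact Kind.sym4 (ne_two hnp (by rw [hG]; norm_num)) (sym_four h hXs hnp hG f₂ fun y hy => by
      rcases hcard y hy with e | e | e
      · exact Or.inr (Or.inl e.2)
      · exact Or.inl e.1
      · exact Or.inr (Or.inr e.2))
  · refine Kind.alt5 (ne_two hnp (by rw [hG]; norm_num)) (simple_sixty h hsum hG fun N hn hdvd => ?_)
    haveI := hn
    have hW : ∀ (y : X) (c : ℕ), Nat.card (stabilizer G y) = c → c.Prime → W p N y = 0 ∨ W p N y = c - 1 := by
      intro y c hc hcp
      have h1 := W_eq h N y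
      have h2 : Nat.card ↥(N ⊓ P h y) = 1 := Nat.eq_one_of_dvd_one
        ((Subgroup.card_dvd_of_le inf_le_right).trans (hP y).dvd)
      have h3 := Subgroup.card_dvd_of_le (inf_le_right : N ⊓ stabilizer G y ≤ stabilizer G y)
      rw [hc] at h3
      rcases (Nat.dvd_prime hcp).1 h3 with e | e
      · left; omega
      · right; omega
    have w1 := hW y₁ 2 f₁ Nat.prime_two
    have w2 := hW y₂ 3 f₂ Nat.prime_three
    have w3 := hW y₃ 5 f₃ (by norm_num)
    rw [← hU, Finset.sum_union hD2, Finset.sum_union hD1, sum_orbit, sum_orbit, sum_orbit, o₁, o₂, o₃] at hdvd ⊢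
    rw [show m₁ = 30 by omega, show m₂ = 20 by omega, show m₃ = 12 by omega] at hdvd ⊢
    rcases w1 with a | a <;> rcases w2 with b | b <;> rcases w3 with c | c <;> rw [a, b, c] at hdvd ⊢ <;> first | omega | norm_num at hdvd | norm_num

theorem arith_big {q d e n : ℕ} (hq : 3 ≤ q) (hd : d ∣ q - 1) (hn : n ≡ 1 [MOD q]) (hn2 : 2 ≤ n)
    (he : (n * (q - 2) + 2) * e = n * q * d) : n = q + 1 ∨ (q = 3 ∧ n = 10 ∧ d = 2 ∧ e = 5) := by
  obtain ⟨k, hk⟩ : ∃ k, n = 1 + k * q := by
    refine ⟨n / q, ?_⟩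
    have h1 := Nat.div_add_mod n q
    have h2 : n % q = 1 := by rw [hn]; exact Nat.mod_eq_of_lt (by omega)
    rw [mul_comm]; omega
  rcases Nat.lt_or_ge k 2 with hk2 | hk2
  · left
    interval_cases k <;> omega
  right
  obtain ⟨r, rfl⟩ : ∃ r, q = r + 3 := ⟨q - 3, by omega⟩
  rw [show r + 3 - 2 = r + 1 by omega] at he
  rw [show r + 3 - 1 = r + 2 by omega] at hd
  have hn7 : 2 * r + 7 ≤ n := by
    rw [hk]; have := Nat.mul_le_mul_right (r + 3) hk2; omega
  have hn0 : n ∣ 2 * e := by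
    have h1 : n ∣ (n * (r + 1)) * e + 2 * e := ⟨(r + 3) * d, by rw [← add_mul, he]; ring⟩
    exact (Nat.dvd_add_right (dvd_mul_of_dvd_left (dvd_mul_right n _) e)).1 h1
  obtain ⟨D, hD⟩ := hn0
  have he2 : D * (n * (r + 1) + 2) = 2 * (r + 3) * d := by
    refine Nat.eq_of_mul_eq_mul_left (show 0 < n by omega) ?_
    calc n * (D * (n * (r + 1) + 2)) = (n * (r + 1) + 2) * (n * D) := by ring
      _ = 2 * ((n * (r + 1) + 2) * e) := by rw [← hD]; ring
      _ = _ := by rw [he]; ring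
  have hd0 : 0 < d := Nat.pos_of_dvd_of_pos hd (by omega)
  have hD1 : D = 1 := by
    rcases Nat.lt_or_ge D 2 with h | h
    · rcases Nat.eq_zero_or_pos D with rfl | h'
      · exfalso
        rw [zero_mul] at he2
        exact (Nat.mul_pos (by omega) hd0).ne he2
      · omega
    · exfalso
      have := Nat.mul_le_mul h (le_refl (n * (r + 1) + 2))
      have hd' : d ≤ r + 2 := Nat.le_of_dvd (by omega) hd
      have := Nat.mul_le_mul_left (2 * (r + 3)) hd'
      have := Nat.mul_le_mul_right (r + 1) hn7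
      nlinarith
  subst hD1
  obtain ⟨j, hj⟩ := hd
  rcases Nat.lt_or_ge j 2 with hj2 | hj2
  · interval_cases j
    · omega
    · have : d = r + 2 := by omega
      subst this
      rcases Nat.lt_or_ge r 2 with hr | hr
      · interval_cases r <;> omega
      · exfalso
        have h1 : n * (r + 1) ≥ (2 * r + 7) * (r + 1) := Nat.mul_le_mul_right _ hn7
        rcases Nat.lt_or_ge n (2 * r + 9) with hn9 | hn9
        · have : n = 2 * r + 7 ∨ n = 2 * r + 8 := by omega
          rcases this with rfl | rfl <;> nlinarith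
        · have := Nat.mul_le_mul_right (r + 1) hn9
          nlinarith
  · exfalso
    have h1 : d * 2 ≤ r + 2 := by rw [hj]; exact Nat.mul_le_mul_left d hj2
    have h2 := Nat.mul_le_mul_right (r + 1) hn7
    nlinarith

theorem modular_case (h : IsLine K G X p) {g₀ : G} (hg₀ : g₀ ^ p = 1) (hg₀1 : g₀ ≠ 1) : Kind h := by
  classical
  haveI := Fintype.ofFinite G
  haveI : Fact p.Prime := ⟨h.prime⟩
  obtain ⟨Xs, hXs, hsum⟩ := exists_support h
  obtain ⟨x₀, hgx₀⟩ : ∃ x, g₀ • x = x := by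
    rcases h.fix g₀ hg₀1 with ⟨e, -⟩ | ⟨-, a, ha⟩
    · exact absurd hg₀ e
    · exact ⟨a, (ha a).2 rfl⟩
  obtain ⟨q, hq⟩ : ∃ q, q = Nat.card (P h x₀) := ⟨_, rfl⟩
  obtain ⟨k, hk⟩ := IsPGroup.iff_card.1 (P_isPGroup h x₀)
  have hk0 : k ≠ 0 := fun e => by
    rw [e, pow_zero] at hk
    exact hg₀1 ((P_eq_bot h).1 hk g₀ hgx₀ hg₀)
  have hpq : p ∣ q := by rw [hq, hk]; exact dvd_pow_self p hk0
  have hq2 : 2 ≤ q := by
    have := Nat.le_of_dvd (by rw [hq]; exact Nat.card_pos) hpq
    have := h.prime.two_le; omega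
  have huniq : ∀ u : G, u ∈ P h x₀ → u ≠ 1 → ∀ z, u • z = z → z = x₀ := by
    intro u hu hu1 z hz
    rcases h.fix u hu1 with ⟨e, -⟩ | ⟨-, a, ha⟩
    · exact absurd ((mem_P h).1 hu).2 e
    · exact ((ha z).1 hz).trans ((ha x₀).1 ((mem_P h).1 hu).1).symm
  -- the cyclic quotient of the stabiliser
  obtain ⟨d, hd, hdq⟩ : ∃ d, Nat.card (stabilizer G x₀) = q * d ∧ d ∣ q - 1 := by
    obtain ⟨χ, hχ⟩ := h.stab x₀
    refine ⟨Nat.card χ.range, ?_, ?_⟩
    · have hkq : Nat.card χ.ker = q := by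
        rw [hq]
        refine Nat.card_congr ⟨fun u => ⟨(u : stabilizer G x₀), (mem_P h).2 ⟨u.1.2, (hχ _).1 u.2⟩⟩,
          fun u => ⟨⟨u, ((mem_P h).1 u.2).1⟩, (hχ _).2 ((mem_P h).1 u.2).2⟩, fun u => rfl, fun u => rfl⟩
      rw [← χ.ker.card_mul_index, Subgroup.index_ker, hkq]
    · obtain ⟨⟨_, t, rfl⟩, ht⟩ := IsCyclic.exists_ofOrder_eq_natCard (α := χ.range)
      rw [← Subgroup.orderOf_coe] at ht; simp only at ht
      rcases eq_or_ne (Nat.card χ.range) 1 with e | hd1
      · rw [e]; exact one_dvd _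
      have htp : (t : G) ^ p ≠ 1 := fun e => hd1 (by rw [← ht, (hχ t).2 e, orderOf_one])
      have htd : (t : G) ^ Nat.card χ.range = 1 := by
        by_contra hne
        have hmem : ((t : G) ^ Nat.card χ.range) ^ p = 1 := by
          have := (hχ (t ^ Nat.card χ.range)).1 (by rw [map_pow, ← ht, pow_orderOf_eq_one])
          simpa using this
        have hfx : ((t : G) ^ Nat.card χ.range) • x₀ = x₀ := (t ^ Nat.card χ.range).2
        exact not_commute h t.2 htp hfx hmem hne (Commute.self_pow _ _)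
      haveI : Finite (stabilizer G x₀) := inferInstance
      let Y := {u : G // u ∈ P h x₀ ∧ u ≠ 1}
      have hconj : ∀ (a : Subgroup.zpowers (t : G)) (u : Y), (a : G) * u.1 * (a : G)⁻¹ ∈ P h x₀ ∧
          (a : G) * u.1 * (a : G)⁻¹ ≠ 1 := by
        intro a u
        have hax : (a : G) • x₀ = x₀ := (Subgroup.zpowers_le.2 t.2 : Subgroup.zpowers (t : G) ≤ stabilizer G x₀) a.2
        refine ⟨(mem_P h).2 ⟨?_, by rw [conj_pow, ((mem_P h).1 u.2.1).2, mul_one, mul_inv_cancel]⟩,
          fun e => u.2.2 (by have := congrArg (fun v => (a : G)⁻¹ * v * (a : G)) e; simpa [mul_assoc] using this)⟩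
        rw [mul_smul, mul_smul, inv_smul_eq_iff.2 hax.symm, ((mem_P h).1 u.2.1).1, hax]
      letI : MulAction (Subgroup.zpowers (t : G)) Y :=
        { smul := fun a u => ⟨_, hconj a u⟩
          one_smul := fun u => Subtype.ext (by show (1 : G) * u.1 * (1 : G)⁻¹ = u.1; simp)
          mul_smul := fun a b u => Subtype.ext (by
            show ((a : G) * b) * u.1 * ((a : G) * b)⁻¹ = (a : G) * ((b : G) * u.1 * (b : G)⁻¹) * (a : G)⁻¹; group) }
      have hcardt : Nat.card (Subgroup.zpowers (t : G)) = Nat.card χ.range := by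
        rw [Nat.card_zpowers]
        refine Nat.dvd_antisymm (orderOf_dvd_of_pow_eq_one htd) ?_
        rw [← ht, Subgroup.orderOf_coe]
        exact orderOf_map_dvd χ t
      have hfree := CfsgLib.Dickson.dvd_of_free (P := Subgroup.zpowers (t : G)) (X := Y) (by
        intro a u hau
        obtain ⟨i, hi⟩ := Subgroup.mem_zpowers_iff.1 a.2
        by_contra ha
        have ha1 : (a : G) ≠ 1 := fun e => ha (Subtype.ext e)
        have hap : (a : G) ^ p ≠ 1 := by
          intro e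
          have h1 : χ (t ^ i) = 1 := (hχ _).2 (by rw [Subgroup.coe_zpow, hi]; exact e)
          rw [map_zpow, ← orderOf_dvd_iff_zpow_eq_one, ht] at h1
          refine ha1 ?_
          rw [← hi, ← orderOf_dvd_iff_zpow_eq_one, ← Nat.card_zpowers, hcardt]
          exact h1
        have hax : (a : G) • x₀ = x₀ := (Subgroup.zpowers_le.2 t.2 : Subgroup.zpowers (t : G) ≤ stabilizer G x₀) a.2
        exact not_commute h hax hap ((mem_P h).1 u.2.1).1 ((mem_P h).1 u.2.1).2 u.2.2
          (mul_inv_eq_iff_eq_mul.1 (congrArg Subtype.val hau)))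
      rw [hcardt] at hfree
      refine hfree.trans (dvd_of_eq ?_)
      rw [hq]
      let ι : Y ≃ {u : P h x₀ // u ≠ 1} :=
        ⟨fun u => ⟨⟨u.1, u.2.1⟩, fun e => u.2.2 (congrArg Subtype.val e)⟩,
          fun u => ⟨u.1.1, u.1.2, fun e => u.2 (Subtype.ext e)⟩, fun _ => rfl, fun _ => rfl⟩
      have h1 := Nat.card_congr (Equiv.optionSubtypeNe (1 : P h x₀))
      rw [Finite.card_option] at h1
      rw [Nat.card_congr ι]
      omega
  obtain ⟨n, hn⟩ : ∃ n, n = (O (G := G) x₀).card := ⟨_, rfl⟩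
  have hh : n * (q * d) = Nat.card G := by rw [hn, ← hd]; exact card_O x₀
  have hd0 : 0 < d := Nat.pos_of_ne_zero fun e => by
    rw [e, mul_zero] at hd; exact Nat.card_pos.ne' hd
  have hn1 : 1 ≤ n := hn ▸ Finset.card_pos.2 ⟨_, self_mem_O x₀⟩
  -- congruence of the orbit length
  have hmod : n ≡ 1 [MOD q] := by
    let Y := {y : X // y ∈ (O (G := G) x₀).erase x₀}
    have hst : ∀ (a : P h x₀) (y : Y), (a : G) • y.1 ∈ (O (G := G) x₀).erase x₀ := by
      intro a y
      obtain ⟨hne, hy⟩ := Finset.mem_erase.1 y.2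
      obtain ⟨l, hl⟩ := mem_O.1 hy
      refine Finset.mem_erase.2 ⟨fun e => hne ?_, mem_O.2 ⟨(a : G) * l, by rw [mul_smul, hl]⟩⟩
      exact smul_left_cancel (a : G) (e.trans ((mem_P h).1 a.2).1.symm)
    letI : MulAction (P h x₀) Y :=
      { smul := fun a y => ⟨_, hst a y⟩
        one_smul := fun y => Subtype.ext (one_smul G y.1)
        mul_smul := fun a b y => Subtype.ext (mul_smul (a : G) (b : G) y.1) }
    have := CfsgLib.Dickson.dvd_of_free (P := P h x₀) (X := Y) (fun a y hay => by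
      by_contra ha
      exact (Finset.mem_erase.1 y.2).1 (huniq a a.2 (fun e => ha (Subtype.ext e)) y.1 (congrArg Subtype.val hay)))
    rw [← hq, Nat.card_eq_fintype_card, Fintype.card_coe, Finset.card_erase_of_mem (self_mem_O x₀), ← hn] at this
    exact ((Nat.modEq_iff_dvd' hn1).2 this).symm
  have hcop : ¬ p ∣ n * d := by
    intro hdvd
    rcases h.prime.dvd_mul.1 hdvd with e | e
    · have h1 := hmod.of_dvd hpq
      have h2 : n % p = 0 := Nat.mod_eq_zero_of_dvd e |> id
      rw [Nat.ModEq, h2, Nat.mod_eq_of_lt h.prime.one_lt] at h1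
      exact absurd h1 (by norm_num)
    · have h1 : p ∣ q - 1 := e.trans hdq
      have h2 := Nat.dvd_sub hpq h1
      rw [show q - (q - 1) = 1 by omega] at h2
      exact h.prime.not_dvd_one h2
  -- p-elements fix points of the first orbit only
  have hpfix : ∀ u : G, u ≠ 1 → u ^ p = 1 → ∀ z, u • z = z → z ∈ O (G := G) x₀ := by
    intro u hu1 hu z hz
    have hidx : ¬ p ∣ (P h x₀).index := by
      have h1 := (P h x₀).card_mul_index
      rw [← hq, ← hh] at h1
      have h2 : (P h x₀).index = n * d := Nat.eq_of_mul_eq_mul_left (show 0 < q by omega) (by rw [h1]; ring)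
      rwa [h2]
    let S : Sylow p G := (P_isPGroup h x₀).toSylow hidx
    have hp' : IsPGroup p (Subgroup.zpowers u) := fun ⟨w, hw⟩ => by
      obtain ⟨i, rfl⟩ := Subgroup.mem_zpowers_iff.1 hw
      refine ⟨1, Subtype.ext ?_⟩
      show (u ^ i) ^ (p ^ 1) = 1
      rw [pow_one, ← zpow_natCast, ← zpow_mul, mul_comm, zpow_mul, zpow_natCast, hu, one_zpow]
    obtain ⟨T, hT⟩ := hp'.exists_le_sylow
    obtain ⟨l, hl⟩ := MulAction.exists_smul_eq G T S
    have h1 : l * u * l⁻¹ ∈ P h x₀ := by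
      have : MulAut.conj l u ∈ (S : Subgroup G) := by
        rw [← hl]
        exact Subgroup.smul_mem_pointwise_smul _ (MulAut.conj l) _ (hT (Subgroup.mem_zpowers _))
      exact this
    refine mem_O.2 ⟨l⁻¹, ?_⟩
    rw [← huniq _ h1 (fun e => hu1 (by have := congrArg (fun v => l⁻¹ * v * l) e; simpa [mul_assoc] using this))
      (l • z) (by rw [mul_smul, mul_smul, inv_smul_smul, hz]), inv_smul_smul]
  have hPout : ∀ z, z ∉ O (G := G) x₀ → Nat.card (P h z) = 1 := fun z hz =>
    (P_eq_bot h).2 fun u hzu hu => by_contra fun hu1 => hz (hpfix u hu1 hu z hzu)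
  have hx₀Xs : x₀ ∈ Xs := (hXs x₀).2 ⟨g₀, hg₀1, hgx₀⟩
  have hO0 : ∑ y ∈ O (G := G) x₀, W p (⊤ : Subgroup G) y = n * (q * d + q - 2) := by
    have hW := W_eq h (⊤ : Subgroup G) x₀
    rw [top_inf_eq, top_inf_eq, hd, ← hq] at hW
    rw [sum_orbit, ← hn]
    congr 1; omega
  have htop : ∑ x ∈ Xs, W p (⊤ : Subgroup G) x + 2 = 2 * Nat.card G := by rw [hsum, Subgroup.card_top]
  have hqd : q ≤ q * d := Nat.le_mul_of_pos_right q hd0
  have hexp : n * (q * d + q - 2) + n * 2 = Nat.card G + n * q := by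
    rw [← mul_add, Nat.sub_add_cancel (by omega), mul_add, hh]
  rcases (by omega : n = 1 ∨ 2 ≤ n) with rfl | hn2
  · refine Kind.point x₀ fun g => ?_
    obtain ⟨z, hz⟩ := Finset.card_eq_one.1 hn.symm
    have h1 : g • x₀ ∈ O (G := G) x₀ := mem_O.2 ⟨g, rfl⟩
    have h2 := self_mem_O (G := G) x₀
    rw [hz, Finset.mem_singleton] at h1 h2
    exact h1.trans h2.symm
  obtain ⟨x₁, hx₁, hd₁⟩ : ∃ x ∈ Xs, x ∉ O (G := G) x₀ := by
    by_contra hcon
    push Not at hcon
    rw [Finset.Subset.antisymm hcon (O_subset hXs hx₀Xs), hO0] at htop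
    have hle : n * q ≤ Nat.card G := hh ▸ Nat.mul_le_mul_left n hqd
    omega
  obtain ⟨n₁, e₁, he₁, hn₁, b₁, a₁, s₁⟩ := orbit_ss h hXs hx₁ (hPout _ hd₁)
  have hall : O (G := G) x₀ ∪ O (G := G) x₁ = Xs := by
    by_contra hne
    obtain ⟨x₂, hx₂, hd₂⟩ := Finset.exists_of_ssubset
      (lt_of_le_of_ne (Finset.union_subset (O_subset hXs hx₀Xs) (O_subset hXs hx₁)) hne)
    rw [Finset.mem_union, not_or] at hd₂
    obtain ⟨n₂, e₂, -, -, b₂, a₂, s₂⟩ := orbit_ss h hXs hx₂ (hPout _ hd₂.1)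
    have hu := Finset.sum_union (f := W p (⊤ : Subgroup G))
      (Finset.disjoint_union_left.2 ⟨O_disjoint hd₂.1, O_disjoint hd₂.2⟩)
    have hu' := Finset.sum_union (f := W p (⊤ : Subgroup G)) (O_disjoint hd₁)
    have hle := Finset.sum_le_sum_of_subset (f := W p (⊤ : Subgroup G))
      (Finset.union_subset (Finset.union_subset (O_subset hXs hx₀Xs) (O_subset hXs hx₁)) (O_subset hXs hx₂))
    have f : ∀ {m c : ℕ}, m * c = Nat.card G → 2 ≤ c → 2 * m ≤ Nat.card G := fun {m c} a b => by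
      rw [← a, mul_comm 2]; exact Nat.mul_le_mul_left m b
    have := f a₁ b₁; have := f a₂ b₂
    have : n * 2 ≤ n * q := Nat.mul_le_mul_left n hq2
    omega
  have hn₁eq : n₁ + n * 2 = n * q + 2 := by
    rw [← hall, Finset.sum_union (O_disjoint hd₁), hO0] at htop
    omega
  by_cases hq' : q = 2
  · subst hq'
    have hd1 : d = 1 := Nat.le_antisymm (Nat.le_of_dvd (by norm_num) hdq) hd0
    subst hd1
    have hn12 : n₁ = 2 := by omega
    have he : e₁ = n := by
      rw [hn12, ← hh] at a₁; omega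
    have hp2 : p = 2 := (Nat.prime_dvd_prime_iff_eq h.prime Nat.prime_two).1 hpq
    obtain ⟨g, hg⟩ := (stab_cyclic h (hPout _ hd₁)).exists_ofOrder_eq_natCard
    have hgo : orderOf (g : G) = n := by rw [Subgroup.orderOf_coe, hg, he₁, he]
    refine Kind.dihedral n hn2 g hgo (fun e => ?_)
      (dihedral_of (y := x₁) (stab_cyclic h (hPout _ hd₁)) (he₁.trans he) ?_ fun a ha => ?_)
    · rw [(P_eq_bot h).1 (hPout _ hd₁) g g.2 e, orderOf_one] at hgo; omega
    · have h1 := (stabilizer G x₁).card_mul_index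
      rw [he₁, he, ← a₁, hn12, he, mul_comm 2 n] at h1
      exact Nat.eq_of_mul_eq_mul_left (show 0 < n by omega) h1
    · have ha1 : a ≠ 1 := fun e => ha (by rw [e, one_smul])
      obtain ⟨z, hz⟩ : ∃ z, a • z = z := by
        rcases h.fix a ha1 with ⟨-, u, v, -, hs⟩ | ⟨-, u, hs⟩
        · exact ⟨u, (hs u).2 (Or.inl rfl)⟩
        · exact ⟨u, (hs u).2 rfl⟩
      have hzXs := (hXs z).2 ⟨a, ha1, hz⟩
      rw [← hall, Finset.mem_union] at hzXs
      rcases hzXs with hzO | hzO
      · obtain ⟨l, rfl⟩ := mem_O.1 hzO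
        have h2' := congrArg Subtype.val (pow_card_eq_one' (x := (⟨a, hz⟩ : stabilizer G (l • x₀))))
        rw [card_stab_conj, hd, pow_two] at h2'
        simpa using h2'
      · exfalso
        obtain ⟨u, v, huv, hset⟩ := Finset.card_eq_two.1 (hn₁.trans hn12)
        have hy := self_mem_O (G := G) x₁
        have hay : a • x₁ ∈ O (G := G) x₁ := mem_O.2 ⟨a, rfl⟩
        rw [hset] at hy hay hzO
        simp only [Finset.mem_insert, Finset.mem_singleton] at hy hay hzO
        have hne : z ≠ x₁ := fun e => ha (e ▸ hz)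
        have : a • x₁ = z := by
          rcases hy with e1 | e1 <;> rcases hay with e2 | e2 <;> rcases hzO with e3 | e3 <;> first
            | exact absurd (e2.trans e1.symm) ha | exact absurd (e3.trans e1.symm) hne | exact e2.trans e3.symm
        exact hne (smul_left_cancel a (hz.trans this.symm))
  have hq3 : 3 ≤ q := by omega
  have hidx : (stabilizer G x₀).index = n := by
    have h1 := (stabilizer G x₀).card_mul_index
    rw [hd, ← hh, mul_comm n] at h1
    exact Nat.eq_of_mul_eq_mul_left (by positivity) h1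
  have hn₁' : n₁ = n * (q - 2) + 2 := by
    have : n * (q - 2) + n * 2 = n * q := by rw [← mul_add, Nat.sub_add_cancel (by omega)]
    omega
  rcases arith_big hq3 hdq hmod hn2 (by rw [← hn₁', a₁, ← hh]; ring) with e | ⟨hq3', hn10, hd2, he5⟩
  · exact Kind.big x₀ (hq ▸ hq3) (by rw [hidx, e, hq])
  · subst hq3'; subst hn10; subst hd2; subst he5
    have hp3 : p = 3 := (Nat.prime_dvd_prime_iff_eq h.prime Nat.prime_three).1 hpq
    have hG : Nat.card G = 60 := hh.symm
    refine Kind.alt5 (by omega) (simple_sixty h hsum hG fun N hNn hdvd => ?_)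
    haveI := hNn
    have hw1 : W p N x₁ = 0 ∨ W p N x₁ = 4 := by
      have h1 := W_eq h N x₁
      have h2 : Nat.card ↥(N ⊓ P h x₁) = 1 := Nat.eq_one_of_dvd_one
        ((Subgroup.card_dvd_of_le inf_le_right).trans (hPout _ hd₁).dvd)
      have h3 := Subgroup.card_dvd_of_le (inf_le_right : N ⊓ stabilizer G x₁ ≤ stabilizer G x₁)
      rw [he₁] at h3
      rcases (Nat.dvd_prime (by norm_num : Nat.Prime 5)).1 h3 with e | e
      · left; omega
      · right; omega
    have hw0 : W p N x₀ = 0 ∨ W p N x₀ = 4 ∨ W p N x₀ = 7 := by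
      have h1 := W_eq h N x₀
      have h2 := Subgroup.card_dvd_of_le (inf_le_right : N ⊓ P h x₀ ≤ P h x₀)
      have h3 := Subgroup.card_dvd_of_le (inf_le_right : N ⊓ stabilizer G x₀ ≤ stabilizer G x₀)
      rw [← hq] at h2
      rw [hd] at h3
      have hsub := Subgroup.card_dvd_of_le (inf_le_inf_left N (P_le h x₀))
      have h3' : Nat.card ↥(N ⊓ stabilizer G x₀) ≤ 6 := Nat.le_of_dvd (by norm_num) h3
      rcases (Nat.dvd_prime Nat.prime_three).1 h2 with e | e
      · -- no element of order two alone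
        left
        have hbot : ∀ u ∈ N ⊓ stabilizer G x₀, u = 1 := by
          intro u hu
          by_contra hu1
          have hup : u ^ p ≠ 1 := fun e' => hu1
            (Subgroup.eq_bot_iff_forall _ |>.1 (Subgroup.card_eq_one.1 e) u ⟨hu.1, (mem_P h).2 ⟨hu.2, e'⟩⟩)
          obtain ⟨v, hv⟩ := exists_prime_orderOf_dvd_card' (G := P h x₀) p (hq ▸ hpq)
          have hv1 : (v : G) ≠ 1 := fun e' => by
            rw [show v = 1 from Subtype.ext e', orderOf_one] at hv; omega
          have hc : (u * v * u⁻¹ * (v : G)⁻¹) ∈ N ⊓ P h x₀ := by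
            refine ⟨?_, ?_⟩
            · have h' : u * ((v : G) * u⁻¹ * (v : G)⁻¹) ∈ N :=
                N.mul_mem hu.1 (hNn.conj_mem _ (N.inv_mem hu.1) _)
              simpa [mul_assoc] using h'
            · refine (P h x₀).mul_mem ((mem_P h).2 ⟨?_, by rw [conj_pow, ((mem_P h).1 v.2).2, mul_one, mul_inv_cancel]⟩)
                ((P h x₀).inv_mem v.2)
              rw [mul_smul, mul_smul, inv_smul_eq_iff.2 (hu.2 : u • x₀ = x₀).symm, ((mem_P h).1 v.2).1]
              exact hu.2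
          have := Subgroup.eq_bot_iff_forall _ |>.1 (Subgroup.card_eq_one.1 e) _ hc
          exact not_commute h hu.2 hup ((mem_P h).1 v.2).1 ((mem_P h).1 v.2).2 hv1
            (mul_inv_eq_iff_eq_mul.1 (mul_inv_eq_one.1 this))
        rw [show Nat.card ↥(N ⊓ stabilizer G x₀) = 1 from
          Subgroup.card_eq_one.2 ((Subgroup.eq_bot_iff_forall _).2 hbot)] at h1
        omega
      · right
        rw [e] at hsub
        generalize hc : Nat.card ↥(N ⊓ stabilizer G x₀) = c at h1 h3 h3' hsub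
        interval_cases c <;> omega
    rw [← hall, Finset.sum_union (O_disjoint hd₁), sum_orbit, sum_orbit, hn₁, ← hn] at hdvd ⊢
    rw [show n₁ = 12 by omega] at hdvd ⊢
    rcases hw0 with a | a | a <;> rcases hw1 with b | b <;> rw [a, b] at hdvd ⊢ <;> first | omega | norm_num at hdvd | norm_num

theorem classify (h : IsLine K G X p) (x₀ : X) : Kind h := by
  by_cases hex : ∃ g : G, g ^ p = 1 ∧ g ≠ 1
  · obtain ⟨g, hg, hg1⟩ := hex
    exact modular_case h hg hg1
  · push Not at hex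
    exact coprime_case h hex x₀

end CfsgLib.Lie.DicksonOrbit
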