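import Cfsg.Agent.Lie.DicksonOdd

/-!
The maximal subgroups of PGL₂(q), q odd, not containing PSL₂(q).
-/

set_option autoImplicit false
set_option linter.unusedSectionVars false
set_option linter.unusedSimpArgs false
set_option linter.style.haveILetI false

namespace CfsgLib.Lie.DicksonPGLMax

open Matrix ProjLine DicksonLine DicksonPGL DicksonCor DicksonSubfield DicksonTypes

variable {F : Type*} [Field F] [Fintype F]

local notation "PG" => Matrix.ProjGenLinGroup (Fin 2) F
local notation "toP" => ProjectiveSpecialLinearGroup.toPGL (n := Fin 2) (R := F)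

local instance finitePG : Finite (Matrix.ProjGenLinGroup (Fin 2) F) :=
  Finite.of_surjective _ ProjGenLinGroup.mk_surjective

/-- every element is inverted by an involution -/
theorem exists_inverting (g : PG) : ∃ s : PG, s * s = 1 ∧ s * g * s = g⁻¹ := by
  induction g using Matrix.ProjGenLinGroup.induction_on with
  | mk A =>
    obtain ⟨x, y, z, hd, ht⟩ : ∃ x y z : F, x * x + y * z ≠ 0 ∧
        x * A.1 0 0 + y * A.1 1 0 + z * A.1 0 1 - x * A.1 1 1 = 0 := by
      by_cases hc : A.1 1 0 = 0
      · by_cases hb : A.1 0 1 = 0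
        · exact ⟨0, 1, 1, by norm_num, by rw [hc, hb]; ring⟩
        · exact ⟨1, 0, (A.1 1 1 - A.1 0 0) / A.1 0 1, by norm_num, by rw [div_mul_cancel₀ _ hb]; ring⟩
      · exact ⟨1, (A.1 1 1 - A.1 0 0) / A.1 1 0, 0, by norm_num, by rw [div_mul_cancel₀ _ hc]; ring⟩
    obtain ⟨S, hS⟩ : ∃ S : GL (Fin 2) F, S.1 = !![x, y; z, -x] :=
      ⟨GeneralLinearGroup.mkOfDetNeZero !![x, y; z, -x] (by
        rw [Matrix.det_fin_two_of]
        intro e; exact hd (by linear_combination -e)), rfl⟩
    have hsq : ∀ B : GL (Fin 2) F, B.1 0 0 + B.1 1 1 = 0 → ProjGenLinGroup.mk B * ProjGenLinGroup.mk B = 1 := by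
      intro B hB
      have hBB : B.1 1 1 = -B.1 0 0 := by linear_combination hB
      rw [← map_mul, scalar_iff, Units.val_mul]
      simp only [Matrix.mul_apply, Fin.sum_univ_two, hBB]
      exact ⟨by ring, by ring, by ring⟩
    refine ⟨ProjGenLinGroup.mk S, hsq S (by rw [hS]; simp), ?_⟩
    have h := hsq (S * A) (by
      rw [Units.val_mul, hS]
      simp [Matrix.mul_apply, Fin.sum_univ_two]
      linear_combination ht)
    rw [map_mul] at h
    exact eq_inv_of_mul_eq_one_left (by rw [mul_assoc]; exact h)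

/-- a large group commuting with an element -/
theorem exists_commuting {g : PG} (hg : g ≠ 1) :
    ∃ A : Subgroup PG, (∀ x ∈ A, x * g = g * x) ∧ Fintype.card F - 1 ≤ Nat.card A := by
  classical
  induction g using Matrix.ProjGenLinGroup.induction_on with
  | mk A =>
    refine ⟨Subgroup.centralizer {ProjGenLinGroup.mk A}, fun x hx => Subgroup.mem_centralizer_singleton_iff.1 hx, ?_⟩
    have hns : ∀ u : F, A.1 ≠ u • (1 : Matrix (Fin 2) (Fin 2) F) := fun u e => hg (scalar_iff.2
      ⟨by rw [e]; simp, by rw [e]; simp, by rw [e]; simp⟩)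
    let Pl : Polynomial F := Polynomial.X ^ 2 + Polynomial.C (A.1 0 0 + A.1 1 1) * Polynomial.X + Polynomial.C A.1.det
    have hdeg : Pl.natDegree = 2 := by simp only [Pl]; compute_degree!
    let Bad : Finset F := Pl.roots.toFinset
    have hbad : Bad.card ≤ 2 := (Multiset.toFinset_card_le _).trans ((Polynomial.card_roots' _).trans hdeg.le)
    have hdet : ∀ t : F, t ∉ Bad → (t • (1 : Matrix (Fin 2) (Fin 2) F) + A.1).det ≠ 0 := by
      intro t ht e
      refine ht ?_
      have hne : Pl ≠ 0 := fun e0 => by rw [e0] at hdeg; simp at hdeg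
      rw [Multiset.mem_toFinset, Polynomial.mem_roots hne]
      simp [Matrix.det_fin_two] at e
      simp [Pl, Matrix.det_fin_two]
      linear_combination e
    let f : Option {t : F // t ∉ Bad} → Subgroup.centralizer {ProjGenLinGroup.mk A} := fun o => match o with
      | none => 1
      | some t => ⟨ProjGenLinGroup.mk (GeneralLinearGroup.mkOfDetNeZero _ (hdet t.1 t.2)),
          Subgroup.mem_centralizer_singleton_iff.2 (by
            rw [← map_mul, ← map_mul]
            congr 1
            refine Units.ext ?_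
            show (t.1 • (1 : Matrix (Fin 2) (Fin 2) F) + A.1) * A.1 = A.1 * (t.1 • (1 : Matrix (Fin 2) (Fin 2) F) + A.1)
            rw [add_mul, mul_add, Matrix.smul_mul, Matrix.mul_smul, one_mul, mul_one])⟩
    have hone : ∀ t : {t : F // t ∉ Bad}, f (some t) ≠ 1 := by
      intro t e
      obtain ⟨h1, h2, h3⟩ := scalar_iff.1 (congrArg Subtype.val e)
      refine hns (A.1 0 0) ?_
      simp [GeneralLinearGroup.mkOfDetNeZero] at h1 h2 h3
      ext i j
      fin_cases i <;> fin_cases j <;> simp [h1, h2, h3]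
    have hf : Function.Injective f := by
      rintro (_ | t) (_ | u) e
      · rfl
      · exact absurd e.symm (hone u)
      · exact absurd e (hone t)
      · obtain ⟨w, hw⟩ := ProjGenLinGroup.mk_eq_mk_iff.1 (congrArg Subtype.val e)
        have hw' : ∀ i j, (t.1 • (1 : Matrix (Fin 2) (Fin 2) F) + A.1) i j * (w : F) =
            (u.1 • (1 : Matrix (Fin 2) (Fin 2) F) + A.1) i j := by
          intro i j
          have := congrArg (fun M : GL (Fin 2) F => M.1 i j) hw
          fin_cases i <;> fin_cases j <;>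
            simpa [GeneralLinearGroup.mkOfDetNeZero, Matrix.mul_apply, Fin.sum_univ_two, GeneralLinearGroup.coe_scalar,
              Matrix.scalar_apply] using this
        have a00 := hw' 0 0
        have a01 := hw' 0 1
        have a10 := hw' 1 0
        have a11 := hw' 1 1
        simp at a00 a01 a10 a11
        by_cases hw1 : (w : F) = 1
        · rw [hw1] at a00
          congr 1
          exact Subtype.ext (by linear_combination a00)
        · exfalso
          have h' : (w : F) - 1 ≠ 0 := sub_ne_zero.2 hw1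
          have b01 : A.1 0 1 = 0 := (mul_eq_zero.1 (show ((w : F) - 1) * A.1 0 1 = 0 by linear_combination a01)).resolve_left h'
          have b10 : A.1 1 0 = 0 := (mul_eq_zero.1 (show ((w : F) - 1) * A.1 1 0 = 0 by linear_combination a10)).resolve_left h'
          have b00 : A.1 0 0 = A.1 1 1 := sub_eq_zero.1 ((mul_eq_zero.1
            (show ((w : F) - 1) * (A.1 0 0 - A.1 1 1) = 0 by linear_combination a00 - a11)).resolve_left h')
          refine hns (A.1 0 0) ?_
          ext i j
          fin_cases i <;> fin_cases j <;> simp [b01, b10, ← b00]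
    have h := Nat.card_le_card_of_injective f hf
    rw [Finite.card_option, Nat.card_eq_fintype_card, Fintype.card_subtype_compl, Fintype.card_coe] at h
    omega

theorem card_borelP (y : Pt F) :
    Nat.card (MulAction.stabilizer PG y) = Fintype.card F * (Fintype.card F - 1) := by
  have h := (MulAction.stabilizer PG y).card_mul_index
  rw [MulAction.index_stabilizer, show MulAction.orbit PG y = Set.univ from ?_, Set.ncard_univ, card_Pt, card_PGL,
    sq_sub_one, mul_comm (Fintype.card F + 1), ← mul_assoc] at h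
  · exact Nat.eq_of_mul_eq_mul_right (Nat.succ_pos _) h
  · refine Set.eq_univ_of_forall fun z => ?_
    obtain ⟨a, ha⟩ := exists_to_P0 y
    obtain ⟨b, hb⟩ := exists_to_P0 z
    exact ⟨ProjGenLinGroup.mk (b * a⁻¹), by
      show (b * a⁻¹) • y = z
      rw [← ha, mul_smul, inv_smul_smul, hb]⟩

theorem subgroupOf_index_two {G : Type*} [Group G] (L M : Subgroup G) (hL : L.index = 2) (hML : ¬ M ≤ L) :
    (L.subgroupOf M).index = 2 := by
  haveI := Subgroup.normal_of_index_eq_two hL
  have h1 : L.relIndex M ∣ 2 := hL ▸ Subgroup.relIndex_dvd_index_of_normal L M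
  rcases (Nat.dvd_prime Nat.prime_two).1 h1 with e | e
  · exact absurd (Subgroup.relIndex_eq_one.1 e) hML
  · exact e

/-- a group with many squares has no subgroup of index two -/
theorem no_index_two {G H : Type*} [Group G] [Group H] [Fintype G] [DecidableEq G] (t : H ≃* G)
    (hsq : Fintype.card G < 2 * (Finset.univ.image fun x : G => x * x).card) (K : Subgroup H) : K.index ≠ 2 := by
  classical
  intro hK
  haveI : Finite H := Finite.of_equiv _ t.symm.toEquiv
  have h : (Finset.univ.image fun x : G => x * x).card ≤ Nat.card K := by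
    rw [← Nat.card_eq_finsetCard]
    refine Nat.card_le_card_of_injective (fun x => ⟨t.symm x.1, ?_⟩) ?_
    · obtain ⟨y, -, hy⟩ := Finset.mem_image.1 x.2
      rw [← hy, map_mul]
      exact Subgroup.mul_self_mem_of_index_two hK _
    · intro a b e
      exact Subtype.ext (t.symm.injective (congrArg Subtype.val e))
  have h2 := K.card_mul_index
  rw [hK, Nat.card_congr t.toEquiv, Nat.card_eq_fintype_card (α := G)] at h2
  omega

theorem alt4_squares : Fintype.card (alternatingGroup (Fin 4)) <
    2 * (Finset.univ.image fun x : alternatingGroup (Fin 4) => x * x).card := by decide +kernel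

theorem alt5_squares : Fintype.card (alternatingGroup (Fin 5)) <
    2 * (Finset.univ.image fun x : alternatingGroup (Fin 5) => x * x).card := by decide +kernel

theorem alt_no_index_two {H : Type*} [Group H]
    (t : Nonempty (H ≃* alternatingGroup (Fin 4)) ∨ Nonempty (H ≃* alternatingGroup (Fin 5))) (K : Subgroup H) :
    K.index ≠ 2 := by
  rcases t with ⟨⟨t⟩⟩ | ⟨⟨t⟩⟩
  · exact no_index_two (G := alternatingGroup (Fin 4)) t alt4_squares K
  · refine no_index_two (G := alternatingGroup (Fin 5)) t ?_ K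
    convert alt5_squares using 0

theorem index_range (hodd : Fintype.card F % 2 = 1) : (toP).range.index = 2 := by
  have h := (toP).range.card_mul_index
  rw [← Nat.card_congr (MonoidHom.ofInjective ProjectiveSpecialLinearGroup.toPGL_injective).toEquiv, card_PGL,
    ← card_PSL F, Nat.gcd_eq_left (show 2 ∣ Fintype.card F - 1 by omega), mul_comm 2] at h
  exact Nat.eq_of_mul_eq_mul_left Nat.card_pos h

section Max

variable (h5 : 5 ≤ Fintype.card F) (hodd : Fintype.card F % 2 = 1)
  (M : Subgroup (Matrix.ProjGenLinGroup (Fin 2) F)) (hM : IsCoatom M)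
  (hML : ¬ (Matrix.ProjectiveSpecialLinearGroup.toPGL (n := Fin 2) (R := F)).range ≤ M)
include h5 hodd hM hML

theorem not_le_range : ¬ M ≤ (toP).range := fun h => by
  rcases hM.le_iff.1 h with e | e
  · have := index_range (F := F) hodd
    rw [e, Subgroup.index_top] at this
    omega
  · exact hML e.le

/-- no subgroup in M other than one of order two is normal -/
theorem not_normal_of_le (H : Subgroup PG) (hH : H ≤ M) (hH3 : 3 ≤ Nat.card H) : ¬ H.Normal := by
  intro hn
  haveI := DicksonMinSimple.isSimple (F := F) (by omega : 4 ≤ Fintype.card F)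
  rcases (hn.comap toP).eq_bot_or_eq_top with e | e
  · have hbot : H ⊓ (toP).range = ⊥ := by
      rw [Subgroup.eq_bot_iff_forall]
      rintro x hx
      obtain ⟨h1, h2⟩ := Subgroup.mem_inf.1 hx
      obtain ⟨g, rfl⟩ := h2
      have : g ∈ H.comap toP := h1
      rw [e, Subgroup.mem_bot] at this
      rw [this, map_one]
    haveI := Subgroup.normal_of_index_eq_two (index_range (F := F) hodd)
    have h2 : (toP).range.relIndex H ∣ 2 := by
      have := Subgroup.relIndex_dvd_index_of_normal (toP).range H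
      rwa [index_range (F := F) hodd] at this
    have h3 := ((toP).range.subgroupOf H).card_mul_index
    rw [Subgroup.subgroupOf_eq_bot.2 (disjoint_iff.2 (inf_comm H (toP).range ▸ hbot)), Subgroup.card_bot, one_mul,
      Subgroup.index_bot] at h3
    have : (toP).range.relIndex H = Nat.card H := by
      unfold Subgroup.relIndex
      rw [Subgroup.subgroupOf_eq_bot.2 (disjoint_iff.2 (inf_comm H (toP).range ▸ hbot)), Subgroup.index_bot]
    rw [this] at h2
    have := Nat.le_of_dvd two_pos h2
    omega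
  · refine hML fun x hx => ?_
    obtain ⟨g, rfl⟩ := hx
    exact hH (show g ∈ H.comap toP from e ▸ Subgroup.mem_top _)

theorem card_ge : 24 * 5 ≤ Nat.card PG := by
  rw [card_PGL, mul_comm 24]
  exact Nat.mul_le_mul h5 (by have := Nat.pow_le_pow_left h5 2; omega)

theorem eight_dvd : 8 ∣ Nat.card PG := by
  rw [card_PGL]
  obtain ⟨t, ht⟩ : ∃ t, Fintype.card F = 2 * t + 1 := ⟨Fintype.card F / 2, by omega⟩
  obtain ⟨c, hc⟩ := Nat.even_mul_succ_self t
  refine Dvd.dvd.mul_left ⟨c, ?_⟩ _
  rw [ht, show (2 * t + 1) ^ 2 = 4 * (t * (t + 1)) + 1 by ring, hc]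
  omega

theorem card_pow_two_not_max {n : ℕ} (hc : Nat.card M = 2 ^ n) (hn : n < 3) : False := by
  haveI : Fact (Nat.Prime 2) := ⟨Nat.prime_two⟩
  have h8 := eight_dvd h5 hodd M hM hML
  have hd : 2 ^ (n + 1) ∣ Nat.card PG := (Nat.pow_dvd_pow 2 (show n + 1 ≤ 3 by omega)).trans h8
  obtain ⟨K, hK, hle⟩ := Sylow.exists_subgroup_card_pow_succ (p := 2) hd hc
  have h120 := card_ge h5 hodd M hM hML
  have h16 : 2 ^ (n + 1) ≤ 2 ^ 3 := Nat.pow_le_pow_right two_pos (by omega)
  rcases hM.le_iff.1 hle with e | e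
  · rw [e, Subgroup.card_top] at hK; omega
  · rw [e, hc] at hK
    have := Nat.pow_right_injective le_rfl hK
    omega

theorem not_cyclic (hc : IsCyclic M) (hcard : Nat.card M ≤ Fintype.card F + 1) : False := by
  obtain ⟨g, hg⟩ := hc.exists_ofOrder_eq_natCard
  rw [← Subgroup.orderOf_coe] at hg
  have hM0 : M = Subgroup.zpowers (g : PG) :=
    (Subgroup.eq_of_le_of_card_ge (Subgroup.zpowers_le.2 g.2) (by rw [Nat.card_zpowers, hg])).symm
  obtain ⟨s, hs, hsg⟩ := exists_inverting (g : PG)
  by_cases hsM : s ∈ M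
  · have hcomm : s * (g : PG) = (g : PG) * s := by
      rw [hM0] at hsM
      obtain ⟨k, hk⟩ := hsM
      rw [← hk]
      exact ((Commute.refl (g : PG)).zpow_left k).eq
    have h2 : (g : PG) ^ 2 = 1 := by
      rw [hcomm, mul_assoc, hs, mul_one] at hsg
      rw [pow_two]; nth_rewrite 1 [hsg]; exact inv_mul_cancel _
    have hle2 := Nat.le_of_dvd two_pos (orderOf_dvd_of_pow_eq_one h2)
    rcases (show orderOf (g : PG) = 1 ∨ orderOf (g : PG) = 2 by have := orderOf_pos (g : PG); omega) with e | e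
    · exact card_pow_two_not_max h5 hodd M hM hML (n := 0) (by rw [← hg, e, pow_zero]) (by norm_num)
    · exact card_pow_two_not_max h5 hodd M hM hML (n := 1) (by rw [← hg, e, pow_one]) (by norm_num)
  have hinv : s⁻¹ = s := inv_eq_of_mul_eq_one_right hs
  have hsu : ∀ u ∈ M, s * u = u⁻¹ * s := by
    intro u hu
    rw [hM0] at hu
    obtain ⟨k, rfl⟩ := hu
    show s * (g : PG) ^ k = ((g : PG) ^ k)⁻¹ * s
    have := map_zpow (MulAut.conj s) (g : PG) k
    simp only [MulAut.conj_apply, hinv, hsg, _root_.inv_zpow] at this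
    rw [← this, mul_assoc _ s s, hs, mul_one]
  let D : Subgroup PG :=
    { carrier := {x | ∃ u ∈ M, x = u ∨ x = u * s}
      one_mem' := ⟨1, one_mem _, Or.inl rfl⟩
      mul_mem' := by
        rintro x y ⟨u, hu, rfl | rfl⟩ ⟨v, hv, rfl | rfl⟩
        · exact ⟨_, mul_mem hu hv, Or.inl rfl⟩
        · exact ⟨_, mul_mem hu hv, Or.inr (mul_assoc _ _ _).symm⟩
        · exact ⟨_, mul_mem hu (inv_mem hv), Or.inr (by rw [mul_assoc, hsu _ hv, mul_assoc])⟩
        · exact ⟨_, mul_mem hu (inv_mem hv), Or.inl (by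
            rw [mul_assoc, ← mul_assoc s, hsu _ hv, mul_assoc v⁻¹, hs, mul_one])⟩
      inv_mem' := by
        rintro x ⟨u, hu, rfl | rfl⟩
        · exact ⟨_, inv_mem hu, Or.inl rfl⟩
        · exact ⟨u, hu, Or.inr (by rw [_root_.mul_inv_rev, hinv, hsu _ (inv_mem hu), inv_inv])⟩ }
  rcases hM.le_iff.1 (show M ≤ D from fun u hu => ⟨u, hu, Or.inl rfl⟩) with e | e
  · have hcD : Nat.card PG ≤ Nat.card (M × Bool) := by
      refine Nat.card_le_card_of_surjective (fun p => if p.2 then (p.1 : PG) * s else (p.1 : PG)) fun x => ?_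
      obtain ⟨u, hu, rfl | rfl⟩ := (show x ∈ D from e ▸ Subgroup.mem_top x)
      · exact ⟨(⟨_, hu⟩, false), rfl⟩
      · exact ⟨(⟨_, hu⟩, true), by simp⟩
    rw [Nat.card_prod, Nat.card_eq_fintype_card (α := Bool), Fintype.card_bool, card_PGL, sq_sub_one] at hcD
    have h6 : 5 * ((Fintype.card F + 1) * 4) ≤ Fintype.card F * ((Fintype.card F + 1) * (Fintype.card F - 1)) :=
      Nat.mul_le_mul h5 (Nat.mul_le_mul_left _ (by omega))
    omega
  · exact hsM (e ▸ (show s ∈ D from ⟨1, one_mem _, Or.inr (one_mul s).symm⟩))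

theorem dihedral_k {k : ℕ} (hk : 2 ≤ k) (hke : k ∣ Fintype.card F - 1 ∨ k ∣ Fintype.card F + 1)
    (t : M ≃* DihedralGroup k) : (k = Fintype.card F - 1 ∧ Fintype.card F ≠ 5) ∨ k = Fintype.card F + 1 := by
  have hcM : Nat.card M = 2 * k := by rw [Nat.card_congr t.toEquiv, DihedralGroup.nat_card]
  rcases (show k = 2 ∨ 3 ≤ k by omega) with rfl | hk3
  · exact (card_pow_two_not_max h5 hodd M hM hML (n := 2) (by rw [hcM]; norm_num) (by norm_num)).elim
  obtain ⟨g, hg⟩ : ∃ g : M, g = t.symm (DihedralGroup.r 1) := ⟨_, rfl⟩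
  have hgo : orderOf (g : PG) = k := by
    rw [Subgroup.orderOf_coe, hg, MulEquiv.orderOf_eq, DihedralGroup.orderOf_r_one]
  have hg1 : (g : PG) ≠ 1 := fun e => by rw [e, orderOf_one] at hgo; omega
  have hMn : M ≤ Subgroup.normalizer ((Subgroup.zpowers (g : PG) : Subgroup PG) : Set PG) := by
    intro x hx
    obtain ⟨i, hi⟩ := (rotation_facts (t ⟨x, hx⟩)).1
    obtain ⟨j, hj⟩ := (rotation_facts (t ⟨x, hx⟩)⁻¹).1
    have conv : ∀ (y : M) (i : ℤ), t y * DihedralGroup.r 1 * (t y)⁻¹ = DihedralGroup.r 1 ^ i →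
        (y : PG) * g * (y : PG)⁻¹ = (g : PG) ^ i := by
      intro y i h
      have h' := congrArg t.symm h
      rw [map_mul, map_mul, map_inv, map_zpow, MulEquiv.symm_apply_apply, ← hg] at h'
      simpa using congrArg Subtype.val h'
    rw [inv_inv, ← map_inv] at hj
    have hi' := conv _ _ hi
    have hj' : (x⁻¹ : PG) * g * (x⁻¹)⁻¹ = (g : PG) ^ j := conv ⟨x, hx⟩⁻¹ j (by rw [← hj, map_inv, inv_inv])
    refine Subgroup.mem_normalizer_iff.2 fun h => ⟨?_, ?_⟩
    · rintro ⟨a, rfl⟩
      refine ⟨i * a, ?_⟩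
      show (g : PG) ^ (i * a) = x * (g : PG) ^ a * x⁻¹
      rw [_root_.zpow_mul, ← hi', conj_zpow]
    · rintro ⟨a, ha⟩
      refine ⟨j * a, ?_⟩
      have e2 : h = x⁻¹ * (x * h * x⁻¹) * x⁻¹⁻¹ := by group
      rw [e2, ← ha]
      show (g : PG) ^ (j * a) = x⁻¹ * (g : PG) ^ a * x⁻¹⁻¹
      rw [_root_.zpow_mul, ← hj', conj_zpow]
  have hne : Subgroup.normalizer ((Subgroup.zpowers (g : PG) : Subgroup PG) : Set PG) ≠ ⊤ := fun e1 =>
    not_normal_of_le h5 hodd M hM hML _ (Subgroup.zpowers_le.2 g.2) (by rw [Nat.card_zpowers, hgo]; exact hk3)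
      (Subgroup.normalizer_eq_top_iff.1 e1)
  have hMeq := (hM.le_iff.1 hMn).resolve_left hne
  obtain ⟨A, hA, hcA⟩ := exists_commuting hg1
  have hAle : A ≤ M := by
    intro a ha
    rw [← hMeq]
    refine Subgroup.mem_normalizer_iff.2 fun h => ?_
    have hc : ∀ z : ℤ, a * (g : PG) ^ z * a⁻¹ = (g : PG) ^ z := fun z => by
      rw [mul_inv_eq_iff_eq_mul]
      exact ((show Commute a (g : PG) from hA a ha).zpow_right z).eq
    constructor
    · rintro ⟨z, rfl⟩; exact ⟨z, (hc z).symm⟩
    · rintro ⟨z, hz⟩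
      exact ⟨z, mul_left_cancel (mul_right_cancel ((hc z).trans hz))⟩
  have hAk : Nat.card A ≤ k := by
    have hle : A ≤ Subgroup.zpowers (g : PG) := by
      intro a ha
      have h := (rotation_facts (t ⟨a, hAle ha⟩)).2 hk3 (by
        have : (⟨a, hAle ha⟩ : M) * g = g * ⟨a, hAle ha⟩ := Subtype.ext (hA a ha)
        simpa [hg] using congrArg t this)
      obtain ⟨z, hz⟩ := h
      refine ⟨z, ?_⟩
      have h' := congrArg t.symm hz
      simp only [map_zpow, MulEquiv.symm_apply_apply, ← hg] at h'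
      simpa using congrArg Subtype.val h'
    have := Subgroup.card_le_of_le hle
    rwa [Nat.card_zpowers, hgo] at this
  have hkq : k = Fintype.card F - 1 ∨ k = Fintype.card F + 1 := by
    rcases hke with h | h <;> obtain ⟨c, hc⟩ := h
    · rcases Nat.lt_or_ge c 2 with h2 | h2
      · interval_cases c <;> omega
      · have := Nat.mul_le_mul_left k h2; omega
    · rcases Nat.lt_or_ge c 2 with h2 | h2
      · interval_cases c <;> omega
      · have := Nat.mul_le_mul_left k h2; omega
  rcases hkq with e | e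
  swap
  · exact Or.inr e
  refine Or.inl ⟨e, fun h5' => ?_⟩
  -- the Sylow two-subgroup of PGL₂(5) is not maximal
  haveI : Fact (Nat.Prime 2) := ⟨Nat.prime_two⟩
  have hk4 : k = 4 := by omega
  obtain ⟨R, hR⟩ : ∃ R, R = M.comap toP := ⟨_, rfl⟩
  have hRc : Nat.card R = 4 := by
    have h1 := subgroupOf_index_two (toP).range M (index_range hodd) (not_le_range h5 hodd M hM hML)
    have h2 := ((toP).range.subgroupOf M).card_mul_index
    rw [h1, hcM, hk4] at h2
    have h3 : Nat.card ((toP).range.subgroupOf M) = Nat.card R := by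
      refine Nat.card_congr (Equiv.ofBijective (fun r : R =>
        (⟨⟨toP r.1, (hR ▸ r.2 : r.1 ∈ M.comap toP)⟩, ⟨r.1, rfl⟩⟩ : (toP).range.subgroupOf M)) ⟨?_, ?_⟩).symm
      · intro a b e
        exact Subtype.ext (ProjectiveSpecialLinearGroup.toPGL_injective
          (congrArg (fun z : (toP).range.subgroupOf M => ((z : M) : PG)) e))
      · rintro ⟨⟨z, hz⟩, ⟨r, hr⟩⟩
        have hr' : toP r = z := hr
        exact ⟨⟨r, hR ▸ (show toP r ∈ M from hr' ▸ hz)⟩, Subtype.ext (Subtype.ext hr')⟩
    omega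
  obtain ⟨X, ⟨s⟩⟩ := PSL2Small.exists_alt_four (F := F) hodd
  have hN := card_PSL F
  rw [h5'] at hN
  norm_num at hN
  have hidx : ¬ 2 ∣ R.index := by
    have := R.card_mul_index
    rw [hRc] at this
    omega
  obtain ⟨R', hR'⟩ : ∃ R' : Subgroup (Matrix.ProjectiveSpecialLinearGroup (Fin 2) F),
      R' = (DicksonOdd.RA.comap s.toMonoidHom).map X.subtype := ⟨_, rfl⟩
  have hR'c : Nat.card R' = 4 := by
    rw [hR', Subgroup.card_map_of_injective X.subtype_injective]
    exact (Nat.card_congr (s.toEquiv.subtypeEquiv fun _ => Iff.rfl)).trans DicksonOdd.card_RA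
  obtain ⟨c, hc⟩ := exists_prime_orderOf_dvd_card' (G := X) 3 (hp := ⟨Nat.prime_three⟩) (by
    rw [Nat.card_congr s.toEquiv, nat_card_alternatingGroup, Nat.card_fin]; norm_num [Nat.factorial])
  let Q : Sylow 2 (Matrix.ProjectiveSpecialLinearGroup (Fin 2) F) :=
    (IsPGroup.of_card (p := 2) (n := 2) (by rw [hRc]; norm_num) : IsPGroup 2 R).toSylow hidx
  have hcard' : Nat.card R' = 2 ^ (Nat.card (Matrix.ProjectiveSpecialLinearGroup (Fin 2) F)).factorization 2 := by
    rw [hR'c, ← Q.card_eq_multiplicity]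
    exact hRc.symm
  obtain ⟨h, hh⟩ := MulAction.exists_smul_eq (Matrix.ProjectiveSpecialLinearGroup (Fin 2) F) (Sylow.ofCard R' hcard') Q
  have hhR : R'.map (MulAut.conj h).toMonoidHom = R := by
    have := congrArg (Sylow.toSubgroup) hh
    rw [Sylow.coe_subgroup_smul] at this
    exact this
  have hR'n : ∀ r ∈ R', (c : Matrix.ProjectiveSpecialLinearGroup (Fin 2) F) * r * (c : Matrix.ProjectiveSpecialLinearGroup (Fin 2) F)⁻¹ ∈ R' := by
    rw [hR']
    rintro _ ⟨r, hr, rfl⟩
    haveI := DicksonOdd.RA_normal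
    exact ⟨c * r * c⁻¹, Subgroup.Normal.conj_mem inferInstance r hr c, rfl⟩
  obtain ⟨d, hd⟩ : ∃ d, d = toP (h * (c : Matrix.ProjectiveSpecialLinearGroup (Fin 2) F) * h⁻¹) := ⟨_, rfl⟩
  have hdo : orderOf d = 3 := by
    rw [hd, orderOf_injective toP ProjectiveSpecialLinearGroup.toPGL_injective]
    have := orderOf_injective (MulAut.conj h).toMonoidHom (MulAut.conj h).injective
      (c : Matrix.ProjectiveSpecialLinearGroup (Fin 2) F)
    simp only [MulEquiv.coe_toMonoidHom, MulAut.conj_apply] at this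
    rw [this, Subgroup.orderOf_coe, hc]
  obtain ⟨R'', hR''⟩ : ∃ R'', R'' = R.map toP := ⟨_, rfl⟩
  have hR''M : R'' ≤ M := hR'' ▸ hR ▸ Subgroup.map_comap_le _ _
  haveI := Subgroup.normal_of_index_eq_two (index_range (F := F) hodd)
  have hMn' : M ≤ Subgroup.normalizer (R'' : Set PG) := by
    have hR2 : R'' = M ⊓ (toP).range := by rw [hR'', hR, Subgroup.map_comap_eq, inf_comm]
    intro x hx
    rw [hR2]
    refine Subgroup.mem_normalizer_iff.2 fun z => ?_
    rw [Subgroup.mem_inf, Subgroup.mem_inf]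
    refine and_congr ?_ ?_
    · rw [Subgroup.mul_mem_cancel_right _ (inv_mem hx), Subgroup.mul_mem_cancel_left _ hx]
    · refine ⟨fun hz => Subgroup.Normal.conj_mem inferInstance z hz x, fun hz => ?_⟩
      have := Subgroup.Normal.conj_mem (H := (toP).range) inferInstance _ hz x⁻¹
      simpa [mul_assoc] using this
  have hdn : d ∈ Subgroup.normalizer (R'' : Set PG) := by
    have hle : ∀ r ∈ R'', d * r * d⁻¹ ∈ R'' := by
      rw [hR'', hd]
      rintro _ ⟨r, hr, rfl⟩
      refine ⟨h * (c : Matrix.ProjectiveSpecialLinearGroup (Fin 2) F) * h⁻¹ * r *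
        (h * (c : Matrix.ProjectiveSpecialLinearGroup (Fin 2) F) * h⁻¹)⁻¹, ?_, by simp only [map_mul, map_inv]⟩
      rw [← hhR] at hr ⊢
      obtain ⟨r₀, hr₀, rfl⟩ := hr
      refine ⟨_, hR'n r₀ hr₀, ?_⟩
      simp only [MulEquiv.coe_toMonoidHom, MulAut.conj_apply]
      group
    refine Subgroup.mem_normalizer_iff.2 fun z => ⟨hle z, fun hz => ?_⟩
    have hd3 : d ^ 3 = 1 := hdo ▸ pow_orderOf_eq_one d
    have := hle _ (hle _ hz)
    rwa [show d * (d * (d * z * d⁻¹) * d⁻¹) * d⁻¹ = d ^ 3 * z * (d ^ 3)⁻¹ by rw [pow_succ, pow_succ, pow_one]; group, hd3, one_mul, inv_one, mul_one]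
      at this
  rcases hM.le_iff.1 hMn' with e' | e'
  · refine not_normal_of_le h5 hodd M hM hML R'' hR''M ?_ (Subgroup.normalizer_eq_top_iff.1 e')
    rw [hR'', Subgroup.card_map_of_injective ProjectiveSpecialLinearGroup.toPGL_injective, hRc]
    norm_num
  · rw [e'] at hdn
    have := hcM ▸ hdo ▸ Subgroup.orderOf_coe (⟨d, hdn⟩ : M) ▸ orderOf_dvd_natCard (⟨d, hdn⟩ : M)
    rw [hk4] at this
    norm_num at this

/-! ### Subfield subgroups -/

variable {K₀ : Type*} [Field K₀] [Fintype K₀]

/-- the subfield subgroup of PGL₂ -/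
noncomputable def subP (κ : K₀ →+* F) (k : Matrix.ProjGenLinGroup (Fin 2) F) :
    Subgroup (Matrix.ProjGenLinGroup (Fin 2) F) :=
  (mapPGL κ).range.map (MulAut.conj k).toMonoidHom

omit h5 hodd hM hML in
theorem mem_subP {κ : K₀ →+* F} {k g : PG} : g ∈ subP κ k ↔ k⁻¹ * g * k ∈ (mapPGL κ).range := by
  rw [subP, Subgroup.mem_map_equiv, MulAut.conj_symm_apply]

omit h5 hodd hM hML in
theorem subP_equiv (κ : K₀ →+* F) (k : PG) : Nonempty (subP κ k ≃* Matrix.ProjGenLinGroup (Fin 2) K₀) :=
  ⟨((MonoidHom.ofInjective (mapPGL_injective κ)).trans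
    ((mapPGL κ).range.equivMapOfInjective _ (MulAut.conj k).injective)).symm⟩

theorem subfield_case (κ : K₀ →+* F) (k : Matrix.ProjGenLinGroup (Fin 2) F) {m : ℕ}
    (hm : Fintype.card K₀ ^ m = Fintype.card F) (hm2 : 2 ≤ m) (hle : M ≤ subP κ k) :
    m.Prime ∧ Odd m ∧ Nonempty (M ≃* Matrix.ProjGenLinGroup (Fin 2) K₀) := by
  have hr2 : 2 ≤ Fintype.card K₀ := Fintype.one_lt_card
  have hlt : Fintype.card K₀ < Fintype.card F := by
    rw [← hm]
    calc Fintype.card K₀ = Fintype.card K₀ ^ 1 := (pow_one _).symm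
      _ < _ := Nat.pow_lt_pow_right hr2 (by omega)
  have hne : ∀ {L : Type} [Field L] [Fintype L] (μ : L →+* F), Fintype.card L < Fintype.card F → M ≤ subP μ k →
      M = subP μ k ∧ Nat.card M = Fintype.card L * (Fintype.card L ^ 2 - 1) := by
    intro L _ _ μ hL h
    obtain ⟨e⟩ := subP_equiv μ k
    have hc : Nat.card (subP μ k) = Fintype.card L * (Fintype.card L ^ 2 - 1) := by
      rw [Nat.card_congr e.toEquiv, card_PGL]
    rcases hM.le_iff.1 h with e' | e'
    · exfalso
      rw [e', Subgroup.card_top, card_PGL] at hc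
      have h1 : Fintype.card L ^ 2 - 1 < Fintype.card F ^ 2 - 1 := by
        have := Nat.pow_lt_pow_left hL two_ne_zero
        have : 1 ≤ Fintype.card L ^ 2 := Nat.one_le_pow _ _ Fintype.card_pos
        omega
      exact absurd hc (Nat.ne_of_gt (lt_of_le_of_lt (Nat.mul_le_mul_right _ hL.le)
        (Nat.mul_lt_mul_of_pos_left h1 (by omega))))
    · exact ⟨e'.symm, e' ▸ hc⟩
  have hro : Fintype.card K₀ % 2 = 1 := by
    by_contra h
    rw [← hm, Nat.pow_mod, show Fintype.card K₀ % 2 = 0 by omega, zero_pow (by omega)] at hodd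
    simp at hodd
  obtain ⟨e⟩ := subP_equiv κ k
  have hcK : Nat.card (subP κ k) = Fintype.card K₀ * (Fintype.card K₀ ^ 2 - 1) := by
    rw [Nat.card_congr e.toEquiv, card_PGL]
  have heq : M = subP κ k := by
    rcases hM.le_iff.1 hle with e' | e'
    · exfalso
      rw [e', Subgroup.card_top, card_PGL] at hcK
      have h1 : Fintype.card K₀ ^ 2 - 1 < Fintype.card F ^ 2 - 1 := by
        have := Nat.pow_lt_pow_left hlt two_ne_zero
        have : 1 ≤ Fintype.card K₀ ^ 2 := Nat.one_le_pow _ _ Fintype.card_pos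
        omega
      exact absurd hcK (Nat.ne_of_gt (lt_of_le_of_lt (Nat.mul_le_mul_right _ hlt.le)
        (Nat.mul_lt_mul_of_pos_left h1 (by omega))))
    · exact e'.symm
  have hp : m.Prime := by
    by_contra hnp
    obtain ⟨a, b, ha, hb, hab⟩ := (Nat.not_prime_iff_exists_mul_eq hm2).1 hnp
    have ha2 : 2 ≤ a := by
      by_contra h; interval_cases a <;> simp at hab <;> omega
    have hb2 : 2 ≤ b := by
      by_contra h; interval_cases b <;> simp at hab <;> omega
    obtain ⟨p, hpch⟩ := CharP.exists K₀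
    haveI hpp : Fact p.Prime := ⟨CharP.char_is_prime K₀ p⟩
    obtain ⟨n, -, hn⟩ := FiniteField.card K₀ p
    have hna : (n : ℕ) * a ≠ 0 := Nat.mul_ne_zero n.ne_zero (by omega)
    haveI : Fintype (GaloisField p (n * a)) := Fintype.ofFinite _
    have hL : Fintype.card (GaloisField p (n * a)) = Fintype.card K₀ ^ a := by
      rw [← Nat.card_eq_fintype_card, GaloisField.card p _ hna, hn, pow_mul]
    obtain ⟨μ⟩ := PSL2Sub.exists_ringHom (F := F) (K := GaloisField p (n * a)) b (by rw [hL, ← pow_mul, hab, hm])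
    have hltL : Fintype.card (GaloisField p (n * a)) < Fintype.card F := by
      rw [hL, ← hm]
      refine Nat.pow_lt_pow_right hr2 ?_
      have := Nat.mul_le_mul_left a hb2
      omega
    have hmono : subP κ k ≤ subP μ k := by
      have hj : ∀ c : K₀, ∃ d : GaloisField p (n * a), μ d = κ c := fun c => mem_range_of_pow μ (by
        rw [hL, ← map_pow, FiniteField.pow_card_pow])
      choose j hj using hj
      let jj : K₀ →+* GaloisField p (n * a) :=
        { toFun := j
          map_one' := μ.injective (by rw [hj, map_one, map_one])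
          map_mul' := fun c d => μ.injective (by rw [hj, map_mul, map_mul, hj, hj])
          map_zero' := μ.injective (by rw [hj, map_zero, map_zero])
          map_add' := fun c d => μ.injective (by rw [hj, map_add, map_add, hj, hj]) }
      intro g hg
      obtain ⟨h, hh⟩ := mem_subP.1 hg
      refine mem_subP.2 ⟨mapPGL jj h, ?_⟩
      rw [← hh]
      induction h using Matrix.ProjGenLinGroup.induction_on with
      | mk A =>
        rw [mapPGL_mk, mapPGL_mk, mapPGL_mk]
        congr 1
        ext i' j'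
        exact hj _
    have h2 := (hne μ hltL (hle.trans hmono)).2
    rw [hL, heq, hcK] at h2
    obtain ⟨r, hr⟩ : ∃ r, r = Fintype.card K₀ := ⟨_, rfl⟩
    rw [← hr] at h2 hr2
    have h3 : r < r ^ a := by
      calc r = r ^ 1 := (pow_one r).symm
        _ < _ := Nat.pow_lt_pow_right hr2 (by omega)
    have h4 : r ^ 2 - 1 < (r ^ a) ^ 2 - 1 := by
      have := Nat.pow_lt_pow_left h3 two_ne_zero
      have : 1 ≤ r ^ 2 := Nat.one_le_pow _ _ (by omega)
      omega
    exact absurd h2 (Nat.ne_of_lt (lt_of_le_of_lt (Nat.mul_le_mul_right _ h3.le)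
      (Nat.mul_lt_mul_of_pos_left h4 (by omega))))
  refine ⟨hp, hp.eq_two_or_odd'.resolve_left ?_, ⟨(MulEquiv.subgroupCongr heq).trans e⟩⟩
  rintro rfl
  refine not_le_range h5 hodd M hM hML (heq.le.trans ?_)
  intro g hg
  obtain ⟨h, hh⟩ := mem_subP.1 hg
  have hmem : mapPGL κ h ∈ (toP).range := by
    induction h using Matrix.ProjGenLinGroup.induction_on with
    | mk A =>
      rw [mapPGL_mk, mk_mem_range_iff, show (GeneralLinearGroup.map κ A).1.det = κ A.1.det from (κ.map_det A.1).symm]
      exact isSquare_of_sq κ rfl hm.symm hro _ A.det_ne_zero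
  rw [hh] at hmem
  have := (range_normal (F := F)).conj_mem _ hmem k
  rwa [show k * (k⁻¹ * g * k) * k⁻¹ = g by group] at this

/-- the symmetric group case -/
theorem sym_four_case {p n : ℕ} [Fact p.Prime] [CharP F p] (hq : Fintype.card F = p ^ n)
    (t : M ≃* Equiv.Perm (Fin 4)) :
    ((Fintype.card F).Prime ∧ (Fintype.card F % 8 = 3 ∨ Fintype.card F % 8 = 5)) ∨
      (n.Prime ∧ Odd n ∧ p = 3 ∧ Nonempty (M ≃* Matrix.ProjGenLinGroup (Fin 2) (ZMod p))) := by
  have hp : p.Prime := Fact.out
  haveI : Fact (Nat.Prime 2) := ⟨Nat.prime_two⟩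
  have hcM : Nat.card M = 24 := by rw [Nat.card_congr t.toEquiv, Nat.card_perm, Nat.card_fin]; rfl
  have hidxM := subgroupOf_index_two (toP).range M (index_range hodd) (not_le_range h5 hodd M hM hML)
  obtain ⟨M₀, hM₀⟩ : ∃ M₀, M₀ = M.comap toP := ⟨_, rfl⟩
  -- its image in S₄ is A₄
  let θ : M₀ →* Equiv.Perm (Fin 4) := t.toMonoidHom.comp
    ((ProjectiveSpecialLinearGroup.toPGL (n := Fin 2) (R := F)).subgroupMap M₀ |> fun f =>
      (Subgroup.inclusion (hM₀ ▸ Subgroup.map_comap_le _ _ : M₀.map toP ≤ M)).comp f)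
  have hθ : Function.Injective θ := fun a b e => by
    have := congrArg Subtype.val (t.injective e)
    exact Subtype.ext (ProjectiveSpecialLinearGroup.toPGL_injective this)
  have hθr : θ.range.index = 2 := by
    have hr : θ.range = ((toP).range.subgroupOf M).map t.toMonoidHom := by
      ext σ
      constructor
      · rintro ⟨a, rfl⟩
        exact ⟨⟨toP a.1, (hM₀ ▸ a.2 : a.1 ∈ M.comap toP)⟩, ⟨a.1, rfl⟩, rfl⟩
      · rintro ⟨⟨z, hz⟩, ⟨r, hr⟩, rfl⟩
        have hr' : toP r = z := hr
        refine ⟨⟨r, hM₀ ▸ (show toP r ∈ M from hr' ▸ hz)⟩, ?_⟩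
        show t _ = t _
        congr 1
        exact Subtype.ext hr'
    rw [hr, Subgroup.index_map_of_bijective t.bijective]
    exact hidxM
  have hθA : θ.range = alternatingGroup (Fin 4) := Equiv.Perm.eq_alternatingGroup_of_index_eq_two hθr
  let u : M₀ ≃* alternatingGroup (Fin 4) := (MonoidHom.ofInjective hθ).trans (MulEquiv.subgroupCongr hθA)
  have hcM₀ : Nat.card M₀ = 12 := by rw [Nat.card_congr u.toEquiv, nat_card_alternatingGroup, Nat.card_fin]; rfl
  -- the four-group, upstairs
  obtain ⟨R, hR⟩ : ∃ R, R = (DicksonOdd.RA.comap u.toMonoidHom).map M₀.subtype := ⟨_, rfl⟩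
  have hRc : Nat.card R = 4 := by
    rw [hR, Subgroup.card_map_of_injective M₀.subtype_injective]
    exact (Nat.card_congr (u.toEquiv.subtypeEquiv fun _ => Iff.rfl)).trans DicksonOdd.card_RA
  have hmemR : ∀ r, r ∈ R ↔ r ∈ M₀ ∧ r * r = 1 := by
    intro r
    rw [hR]
    constructor
    · rintro ⟨y, hy, rfl⟩
      exact ⟨y.2, congrArg Subtype.val (u.map_eq_one_iff.1 (show u (y * y) = 1 by rw [map_mul]; exact hy))⟩
    · rintro ⟨h1, h2⟩
      refine ⟨⟨r, h1⟩, ?_, rfl⟩
      show u ⟨r, h1⟩ * u ⟨r, h1⟩ = 1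
      rw [← map_mul, MulEquiv.map_eq_one_iff]
      exact Subtype.ext h2
  obtain ⟨RP, hRP⟩ : ∃ RP, RP = R.map toP := ⟨_, rfl⟩
  have hRPM : RP ≤ M := by
    rw [hRP]; rintro _ ⟨r, hr, rfl⟩
    exact (hM₀ ▸ ((hmemR r).1 hr).1 : r ∈ M.comap toP)
  haveI := Subgroup.normal_of_index_eq_two (index_range (F := F) hodd)
  have hconj : ∀ x ∈ M, ∀ z ∈ RP, x * z * x⁻¹ ∈ RP := by
    intro x hx z hz
    rw [hRP] at hz ⊢
    obtain ⟨r, hr, rfl⟩ := hz
    obtain ⟨r', hr'⟩ := Subgroup.Normal.conj_mem (H := (toP).range) inferInstance (toP r) ⟨r, rfl⟩ x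
    have hM' : toP r ∈ M := (hM₀ ▸ ((hmemR r).1 hr).1 : r ∈ M.comap toP)
    refine ⟨r', (hmemR r').2 ⟨hM₀ ▸ (show toP r' ∈ M from hr' ▸ M.mul_mem (M.mul_mem hx hM') (M.inv_mem hx)),
      ProjectiveSpecialLinearGroup.toPGL_injective ?_⟩, hr'⟩
    rw [map_mul, map_one, hr', show x * toP r * x⁻¹ * (x * toP r * x⁻¹) = x * (toP r * toP r) * x⁻¹ by group,
      ← map_mul, ((hmemR r).1 hr).2, map_one, mul_one, mul_inv_cancel]
  have hMn : M ≤ Subgroup.normalizer (RP : Set PG) := by
    intro x hx
    refine Subgroup.mem_normalizer_iff.2 fun z => ⟨hconj x hx z, fun hz => ?_⟩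
    have := hconj x⁻¹ (M.inv_mem hx) _ hz
    rwa [show x⁻¹ * (x * z * x⁻¹) * x⁻¹⁻¹ = z by group] at this
  have hRPc : Nat.card RP = 4 := by
    rw [hRP, Subgroup.card_map_of_injective ProjectiveSpecialLinearGroup.toPGL_injective, hRc]
  have hMeq : Subgroup.normalizer (RP : Set PG) = M := (hM.le_iff.1 hMn).resolve_left fun e =>
    not_normal_of_le h5 hodd M hM hML RP hRPM (by rw [hRPc]; norm_num) (Subgroup.normalizer_eq_top_iff.1 e)
  have h8 : ¬ 8 ∣ Nat.card (Matrix.ProjectiveSpecialLinearGroup (Fin 2) F) := by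
    intro h8
    obtain ⟨K, hK, hle⟩ := Sylow.exists_subgroup_card_pow_succ (p := 2) (n := 2) (by simpa using h8)
      (H := R) (by rw [hRc]; norm_num)
    have hidx : (R.subgroupOf K).index = 2 := by
      have := (R.subgroupOf K).card_mul_index
      rw [Nat.card_congr (Subgroup.subgroupOfEquivOfLe hle).toEquiv, hRc, hK] at this
      norm_num at this; omega
    haveI := Subgroup.normal_of_index_eq_two hidx
    have hKR := Subgroup.normal_subgroupOf_iff_le_normalizer hle |>.1 inferInstance
    have hKM : K ≤ M₀ := by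
      intro x hx
      rw [hM₀]
      show toP x ∈ M
      rw [← hMeq, hRP]
      exact Subgroup.le_normalizer_map toP ⟨x, hKR hx, rfl⟩
    have := Subgroup.card_dvd_of_le hKM
    rw [hK, hcM₀] at this
    norm_num at this
  rw [DicksonOdd.eight_dvd_iff hodd] at h8
  rcases Nat.lt_or_ge n 2 with hn | hn
  · have hn' : n = 1 := by
      by_contra h
      rw [show n = 0 by omega, pow_zero] at hq; omega
    rw [hn', pow_one] at hq
    exact Or.inl ⟨hq ▸ hp, by omega⟩
  right
  -- rationality
  have hp2 : p % 2 = 1 := by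
    rcases hp.eq_two_or_odd with rfl | h
    · rw [hq, Nat.pow_mod, show 2 % 2 = 0 from rfl, zero_pow (by omega)] at hodd
      simp at hodd
    · exact h
  have hnodd : Odd n := by
    rcases Nat.even_or_odd n with ⟨j, hj⟩ | h
    · exfalso
      have h1 : ∀ x : ℕ, x % 2 = 1 → (x * x) % 8 = 1 := by
        intro x hx
        rw [Nat.mul_mod]
        rcases (show x % 8 = 1 ∨ x % 8 = 3 ∨ x % 8 = 5 ∨ x % 8 = 7 by omega) with e | e | e | e <;> rw [e]
      have := h1 (p ^ j) (by rw [Nat.pow_mod, hp2, one_pow, Nat.one_mod])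
      rw [← pow_add, ← hj, ← hq] at this
      omega
    · exact h
  obtain ⟨κ, -⟩ : ∃ κ : ZMod p →+* F, κ = ZMod.castHom dvd_rfl F := ⟨_, rfl⟩
  obtain ⟨k, hk⟩ := DicksonOdd.alt_four_le_sub hodd (by rw [ZMod.card]; exact hp2) κ M₀ u
  -- an element outside PSL₂
  obtain ⟨v, hv, hv1⟩ : ∃ v ∈ R, v ≠ 1 := by
    by_contra hc
    push Not at hc
    rw [(Subgroup.eq_bot_iff_forall R).2 hc, Subgroup.card_bot] at hRc
    norm_num at hRc
  have hv2 := ((hmemR v).1 hv).2
  obtain ⟨I, hI, hI2, hIt⟩ := lift_invol hv1 hv2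
  have h2 := Fus.PSL2Two.two_ne_zero' hodd
  have hdetI : (1 + I.1).det = 2 := by
    have hd := I.2
    rw [Matrix.det_fin_two] at hd ⊢
    simp
    linear_combination hd + hIt
  obtain ⟨H, hH⟩ : ∃ H : GL (Fin 2) F, H.1 = 1 + I.1 :=
    ⟨GeneralLinearGroup.mkOfDetNeZero (1 + I.1) (by rw [hdetI]; exact h2), rfl⟩
  have h2ns : ¬ IsSquare (2 : F) := fun h => by
    have := FiniteField.isSquare_two_iff.1 h
    omega
  have hHout : ProjGenLinGroup.mk H ∉ (toP).range := by
    rw [mk_mem_range_iff, hH, hdetI]; exact h2ns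
  have hHM : ProjGenLinGroup.mk H ∈ M := by
    rw [← hMeq]
    have hle : ∀ r ∈ R, ProjGenLinGroup.mk H * toP r * (ProjGenLinGroup.mk H)⁻¹ ∈ RP := by
      intro r hr
      obtain ⟨hr0, hr2⟩ := (hmemR r).1 hr
      by_cases hr1 : r = 1
      · rw [hr1, map_one, mul_one, mul_inv_cancel]; exact RP.one_mem
      obtain ⟨J, hJ, hJ2, hJt⟩ := lift_invol hr1 hr2
      have hcomm : v * r = r * v := by
        have h := (hmemR _).1 (R.mul_mem hv hr)
        have h' : v * r * (v * r) = 1 := h.2
        calc v * r = v * (v * r * (v * r)) * r := by rw [h', mul_one]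
          _ = (v * v) * (r * v) * (r * r) := by group
          _ = r * v := by rw [hv2, hr2, one_mul, mul_one]
      have key : ∀ (J' : Matrix.SpecialLinearGroup (Fin 2) F), H.1 * J.1 = J'.1 * H.1 →
          ProjGenLinGroup.mk H * toP r * (ProjGenLinGroup.mk H)⁻¹ = toP (QuotientGroup.mk J') := by
        intro J' e
        rw [mul_inv_eq_iff_eq_mul, ← hJ]
        show ProjGenLinGroup.mk H * ProjGenLinGroup.mk (SpecialLinearGroup.toGL J) =
          ProjGenLinGroup.mk (SpecialLinearGroup.toGL J') * ProjGenLinGroup.mk H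
        rw [← map_mul, ← map_mul]
        congr 1
        exact Units.ext e
      by_cases hrv : r = v
      · rw [key J ?_, hJ, hRP]
        · exact ⟨r, hr, rfl⟩
        · have hJI : J.1 = I.1 ∨ J.1 = -I.1 := by
            rcases PSLTwoSpec.mem_Z.1 ((QuotientGroup.eq_one_iff (I⁻¹ * J)).1
              (by rw [QuotientGroup.mk_mul, QuotientGroup.mk_inv, hI, hJ, hrv, inv_mul_cancel])) with e | e
            · exact Or.inl (by rw [inv_mul_eq_one.1 e])
            · right
              rw [show J = I * -1 by rw [← e, mul_inv_cancel_left], val_mul, SpecialLinearGroup.coe_neg]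
              simp
          rcases hJI with e | e <;> rw [hH, e, add_mul, mul_add, one_mul, mul_one] <;> simp [add_comm]
      · rw [key (I * J) ?_, QuotientGroup.mk_mul, hI, hJ, hRP]
        · exact ⟨v * r, R.mul_mem hv hr, rfl⟩
        · rw [val_mul, hH, add_mul, one_mul, mul_add, mul_one]
          have hJI : J.1 * I.1 = -(I.1 * J.1) := by
            have hne : v * r ≠ 1 := fun e => hrv (mul_left_cancel (e.trans hv2.symm))
            have h0 := tr_two (A := I * J) (by rw [QuotientGroup.mk_mul, hI, hJ]; exact hne) (by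
              rw [QuotientGroup.mk_mul, hI, hJ, pow_two]
              exact ((hmemR _).1 (R.mul_mem hv hr)).2)
            have hsq := cayley (I * J)
            rw [h0, zero_smul, zero_sub, val_mul] at hsq
            calc J.1 * I.1 = (-(I.1 * I.1)) * (J.1 * I.1) * (-(J.1 * J.1)) := by rw [hI2, hJ2, neg_neg, one_mul, mul_one]
              _ = I.1 * (I.1 * J.1 * (I.1 * J.1)) * J.1 := by simp [mul_assoc]
              _ = -(I.1 * J.1) := by rw [hsq]; simp
          rw [mul_assoc I.1 J.1 I.1, hJI, mul_neg, ← mul_assoc, hI2, neg_mul, one_mul, neg_neg, add_comm]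
    have hfin : ∀ z ∈ RP, ProjGenLinGroup.mk H * z * (ProjGenLinGroup.mk H)⁻¹ ∈ RP := by
      intro z hz
      rw [hRP] at hz
      obtain ⟨r, hr, rfl⟩ := hz
      exact hle r hr
    exact Subgroup.mem_normalizer_fintype hfin
  have hHsub : ProjGenLinGroup.mk H ∈ subP κ k := by
    rw [mem_subP]
    have hvM₀ : v ∈ M₀ := ((hmemR v).1 hv).1
    obtain ⟨g, hg⟩ := mem_sub.1 (hk hvM₀)
    induction g using Matrix.ProjGenLinGroup.induction_on with
    | mk B =>
      induction k using Matrix.ProjGenLinGroup.induction_on with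
      | mk k₀ =>
        rw [mapPGL_mk, ← hI] at hg
        change _ = (ProjGenLinGroup.mk k₀)⁻¹ * ProjGenLinGroup.mk (SpecialLinearGroup.toGL I) * ProjGenLinGroup.mk k₀ at hg
        rw [← map_inv, ← map_mul, ← map_mul] at hg
        obtain ⟨s, hs⟩ := ProjGenLinGroup.mk_eq_mk_iff.1 hg
        have hs' : (k₀⁻¹).1 * I.1 * k₀.1 = (s : F) • (GeneralLinearGroup.map κ B).1 := by
          have := congrArg Units.val hs
          rw [Units.val_mul, Units.val_mul, Units.val_mul] at this
          change _ = (k₀⁻¹).1 * I.1 * k₀.1 at this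
          rw [← this]
          ext i j
          fin_cases i <;> fin_cases j <;>
            simp [Matrix.mul_apply, Fin.sum_univ_two, GeneralLinearGroup.coe_scalar, Matrix.scalar_apply, mul_comm]
        have hdet : (1 : F) = (s : F) ^ 2 * κ B.1.det := by
          have := congrArg Matrix.det hs'
          rw [Matrix.det_units_conj', Matrix.det_smul, I.2, Fintype.card_fin] at this
          rw [this]
          congr 1
          exact (κ.map_det B.1).symm
        obtain ⟨c, hc⟩ : ∃ c : ZMod p, κ c = (s : F) := by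
          have hBd : B.1.det ≠ 0 := B.det_ne_zero
          obtain ⟨j, rfl⟩ := hnodd
          obtain ⟨a, ha, hns⟩ := not_square_of_odd κ (j := j) (by rw [ZMod.card]; exact hq) (by rw [ZMod.card]; exact hp2)
          have hsqF : IsSquare (κ (B.1.det)⁻¹) := ⟨s, by
            rw [map_inv₀, inv_eq_one_div, div_eq_iff ((map_ne_zero κ).2 hBd), ← pow_two]; exact hdet⟩
          have hsqK : IsSquare (B.1.det)⁻¹ := by
            by_contra hnK
            refine hns ?_
            have h2K : ringChar (ZMod p) ≠ 2 := by rw [ZMod.ringChar_zmod_n]; omega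
            have hprod : IsSquare (a * (B.1.det)⁻¹) := by
              rw [FiniteField.isSquare_iff h2K (mul_ne_zero ha (inv_ne_zero hBd)), mul_pow]
              have ha' := (FiniteField.pow_dichotomy h2K ha).resolve_left
                (fun h => hns (((FiniteField.isSquare_iff h2K ha).2 h).map κ))
              have hb' := (FiniteField.pow_dichotomy h2K (inv_ne_zero hBd)).resolve_left
                (fun h => hnK ((FiniteField.isSquare_iff h2K (inv_ne_zero hBd)).2 h))
              rw [ha', hb', neg_one_mul, neg_neg]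
            have := (hprod.map κ).div hsqF
            rwa [map_mul, mul_div_cancel_right₀ _ ((map_ne_zero κ).2 (inv_ne_zero hBd))] at this
          obtain ⟨c, hc⟩ := hsqK
          have hsq : (s : F) * s = κ c * κ c := by
            rw [← map_mul, ← hc, map_inv₀, inv_eq_one_div, eq_div_iff ((map_ne_zero κ).2 hBd)]
            linear_combination -hdet
          rcases mul_self_eq_mul_self_iff.1 hsq with e | e
          · exact ⟨c, e.symm⟩
          · exact ⟨-c, by rw [map_neg, e]⟩
        have hdd : (1 + c • B.1).det ≠ 0 := fun e => by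
          have hz := congrArg κ e
          rw [map_zero, RingHom.map_det] at hz
          refine H.det_ne_zero ?_
          have : (k₀⁻¹).1 * H.1 * k₀.1 = (1 + c • B.1).map κ := by
            rw [hH, mul_add, add_mul, mul_one, ← Units.val_mul, inv_mul_cancel, Units.val_one, hs']
            ext i j
            fin_cases i <;> fin_cases j <;> simp [← hc]
          rw [← Matrix.det_units_conj' k₀, this]
          exact hz
        refine ⟨ProjGenLinGroup.mk (GeneralLinearGroup.mkOfDetNeZero (1 + c • B.1) hdd), ?_⟩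
        rw [mapPGL_mk, ← map_inv, ← map_mul, ← map_mul]
        congr 1
        refine Units.ext ?_
        rw [Units.val_mul, Units.val_mul, hH, mul_add, add_mul, mul_one, ← Units.val_mul, inv_mul_cancel,
          Units.val_one, hs']
        ext i j
        fin_cases i <;> fin_cases j <;> simp [GeneralLinearGroup.mkOfDetNeZero, ← hc]
  have hle : M ≤ subP κ k := by
    intro x hx
    have hsmall : ∀ y ∈ M, y ∈ (toP).range → y ∈ subP κ k := by
      rintro y hy ⟨g, rfl⟩
      exact mem_subP.2 (mem_sub.1 (hk (hM₀ ▸ hy : g ∈ M₀)))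
    by_cases hxr : x ∈ (toP).range
    · exact hsmall x hx hxr
    · have hxH : x * ProjGenLinGroup.mk H ∈ (toP).range :=
        (Subgroup.mul_mem_iff_of_index_two (index_range hodd)).2 (iff_of_false hxr hHout)
      exact (Subgroup.mul_mem_cancel_right _ hHsub).1 (hsmall _ (M.mul_mem hx hHM) hxH)
  obtain ⟨h1, h2', ⟨e⟩⟩ := subfield_case h5 hodd M hM hML κ k (by rw [ZMod.card, hq]) hn hle
  refine ⟨h1, h2', ?_, ⟨e⟩⟩
  have h3 := Nat.card_congr e.toEquiv
  rw [hcM, card_PGL, ZMod.card] at h3
  by_contra hp3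
  have := DicksonOdd.big_of_le (show 5 ≤ p by
    have := hp.two_le
    rcases (show p = 4 ∨ 5 ≤ p by omega) with h | h
    · omega
    · exact h)
  omega

end Max

end CfsgLib.Lie.DicksonPGLMax
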