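import Cfsg.Agent.Lie.DicksonPGL

/-!
Point stabilisers in PSL₂ as Sylow normalisers.
-/

set_option autoImplicit false
set_option linter.unusedSectionVars false
set_option linter.style.haveILetI false

namespace CfsgLib.Lie.DicksonPSL

open Matrix ProjLine DicksonLine DicksonPGL

variable {F : Type*} [Field F] [Fintype F]

local notation "PSL₂" => Matrix.ProjectiveSpecialLinearGroup (Fin 2) F

theorem sqDet_toPGL (g : PSL₂) : SqDet (ProjectiveSpecialLinearGroup.toPGL g) := by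
  induction g using QuotientGroup.induction_on with
  | H M => exact sqDet_SL M

theorem exists_smul_P0 (y : Pt F) : ∃ g : PSL₂, ProjectiveSpecialLinearGroup.toPGL g • (P0 : Pt F) = y := by
  rcases pt_cases y with rfl | ⟨x, rfl⟩
  · exact ⟨1, by rw [map_one, one_smul]⟩
  · obtain ⟨M, hM⟩ : ∃ M : Matrix.SpecialLinearGroup (Fin 2) F, M.1 = !![x, -1; 1, 0] :=
      ⟨⟨!![x, -1; 1, 0], by simp [Matrix.det_fin_two]⟩, rfl⟩
    refine ⟨QuotientGroup.mk M, ?_⟩
    have e : ((SpecialLinearGroup.toGL M : GL (Fin 2) F) : Matrix (Fin 2) (Fin 2) F) = !![x, -1; 1, 0] := hM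
    change SpecialLinearGroup.toGL M • (P0 : Pt F) = pt x
    rw [smul_P0 (by rw [e]; simp), e]
    simp

theorem finite_PSL : Finite PSL₂ := inferInstance

theorem orderOf_ne (p : ℕ) [hp : Fact p.Prime] [CharP F p] {g : PSL₂} {n : ℕ} (hn : orderOf g = p ^ n) :
    g ^ p = 1 := by
  by_contra h
  have hd := ordOK_of p ProjectiveSpecialLinearGroup.toPGL ProjectiveSpecialLinearGroup.toPGL_injective h
  have hn1 : n ≠ 0 := fun e => h (by rw [e, pow_zero, orderOf_eq_one_iff] at hn; rw [hn, one_pow])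
  obtain ⟨m, -, hm⟩ := FiniteField.card F p
  have hpd : p ∣ orderOf g := hn ▸ dvd_pow_self p hn1
  have hpq : p ∣ Fintype.card F := hm ▸ dvd_pow_self p m.ne_zero
  have h1 : 1 < Fintype.card F := Fintype.one_lt_card
  rcases hd.1 with e | e
  · have := (Nat.dvd_sub hpq (hpd.trans e))
    rw [show Fintype.card F - (Fintype.card F - 1) = 1 by omega] at this
    exact hp.out.not_dvd_one this
  · exact hp.out.not_dvd_one ((Nat.dvd_add_right hpq).1 (hpd.trans e))

theorem exists_sylow_normalizer (p : ℕ) [hp : Fact p.Prime] [CharP F p] (y : Pt F) :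
    ∃ P : Sylow p PSL₂, ∀ g : PSL₂, ProjectiveSpecialLinearGroup.toPGL g • y = y →
      g ∈ Subgroup.normalizer ((P : Subgroup PSL₂) : Set PSL₂) := by
  classical
  letI : MulAction PSL₂ (Pt F) := MulAction.compHom (Pt F) ProjectiveSpecialLinearGroup.toPGL
  haveI : Finite (Pt F) := Finite.of_equiv _ (Projectivization.equivSubmodule F (Fin 2 → F)).symm
  obtain ⟨P⟩ : Nonempty (Sylow p PSL₂) := Sylow.nonempty
  have hnd : ¬ p ∣ Nat.card (Pt F) := by
    rw [card_Pt]
    intro h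
    obtain ⟨n, -, hn⟩ := FiniteField.card F p
    rw [hn] at h
    exact hp.out.not_dvd_one ((Nat.dvd_add_right (dvd_pow_self p n.ne_zero)).1 h)
  obtain ⟨y₀, hy₀⟩ := P.2.nonempty_fixed_point_of_prime_not_dvd_card (Pt F) hnd
  obtain ⟨a, ha⟩ := exists_smul_P0 y
  obtain ⟨b, hb⟩ := exists_smul_P0 y₀
  have ha' : a • (P0 : Pt F) = y := ha
  have hb' : b • (P0 : Pt F) = y₀ := hb
  obtain ⟨c, hc⟩ : ∃ c, c = a * b⁻¹ := ⟨_, rfl⟩
  have hcy : c • y₀ = y := by rw [hc, ← hb', mul_smul, inv_smul_smul, ha']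
  obtain ⟨Q, hQ⟩ : ∃ Q : Sylow p PSL₂, Q = c • P := ⟨_, rfl⟩
  refine ⟨Q, ?_⟩
  -- the elements of order dividing p fixing y
  let f := algebraMap F (AlgebraicClosure F)
  haveI : CharP (AlgebraicClosure F) p := charP_of_injective_ringHom f.injective p
  let ψ := (mapPGL f).comp (ProjectiveSpecialLinearGroup.toPGL (n := Fin 2) (R := F))
  have hψ : Function.Injective ψ := (mapPGL_injective f).comp ProjectiveSpecialLinearGroup.toPGL_injective
  haveI : Finite ψ.range := Finite.of_surjective _ ψ.rangeRestrict_surjective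
  have hL := isLine (K := AlgebraicClosure F) p ψ.range
  let R : Subgroup PSL₂ := (DicksonOrbit.P hL (ι f y)).comap ψ.rangeRestrict
  have hmemR : ∀ g, g ∈ R ↔ g • y = y ∧ g ^ p = 1 := by
    intro g
    rw [Subgroup.mem_comap, DicksonOrbit.mem_P]
    refine and_congr (smul_ι_iff f _ _) ?_
    rw [← map_pow, ← MonoidHom.mem_ker, MonoidHom.ker_rangeRestrict, MonoidHom.mem_ker, map_eq_one_iff ψ hψ]
  have hR : IsPGroup p R := fun g => ⟨1, Subtype.ext (by
    rw [pow_one, SubmonoidClass.coe_pow]; exact ((hmemR g.1).1 g.2).2)⟩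
  have hQR : (Q : Subgroup PSL₂) ≤ R := by
    intro g hg
    rw [hQ, Sylow.coe_subgroup_smul, Subgroup.mem_smul_pointwise_iff_exists] at hg
    obtain ⟨s, hs, rfl⟩ := hg
    rw [MulAut.smul_def, MulAut.conj_apply]
    refine (hmemR _).2 ⟨?_, ?_⟩
    · rw [mul_smul, mul_smul, ← hcy, inv_smul_smul, show s • y₀ = y₀ from hy₀ ⟨s, hs⟩]
    · obtain ⟨n, hn⟩ := (IsPGroup.iff_orderOf.1 P.2) ⟨s, hs⟩
      rw [Subgroup.orderOf_mk] at hn
      rw [conj_pow, orderOf_ne p hn, mul_one, mul_inv_cancel]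
  have heq : R = (Q : Subgroup PSL₂) := Q.is_maximal' hR hQR
  intro g hg
  have hgy : g • y = y := hg
  rw [← heq]
  refine Subgroup.mem_normalizer_iff.2 fun h => ?_
  simp only [hmemR]
  rw [conj_pow, mul_inv_eq_one, mul_eq_left]
  refine and_congr_left fun _ => ?_
  rw [mul_smul, mul_smul, inv_smul_eq_iff.2 hgy.symm]
  exact ⟨fun e => by rw [e, hgy], fun e => smul_left_cancel g (e.trans hgy.symm)⟩

end CfsgLib.Lie.DicksonPSL
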