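import Cfsg.Agent.Lie.DicksonCor
import Cfsg.Agent.Lie.PSL2Sub
import Cfsg.Agent.Fus.PSL2Dihedral
import Cfsg.Agent.Base.Spectrum.PSLTwo

/-!
Subgroups of PSL₂ defined over a subfield, and rationality of subgroups containing a four-group.
-/

set_option autoImplicit false
set_option linter.unusedSectionVars false
set_option linter.unusedSimpArgs false
set_option linter.style.haveILetI false

namespace CfsgLib.Lie.DicksonSubfield

open Matrix ProjLine DicksonLine DicksonBig DicksonPGL DicksonCor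

variable {F : Type*} [Field F] [Fintype F]

local notation "SL₂" => Matrix.SpecialLinearGroup (Fin 2) F
local notation "PSL₂" => Matrix.ProjectiveSpecialLinearGroup (Fin 2) F
local notation "PG" => Matrix.ProjGenLinGroup (Fin 2) F
local notation "toP" => ProjectiveSpecialLinearGroup.toPGL (n := Fin 2) (R := F)

theorem mk_mem_range_iff (A : GL (Fin 2) F) :
    ProjGenLinGroup.mk A ∈ (toP).range ↔ IsSquare A.1.det := by
  constructor
  · rintro ⟨g, hg⟩
    induction g using QuotientGroup.induction_on with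
    | H M =>
      obtain ⟨u, hu⟩ := ProjGenLinGroup.mk_eq_mk_iff.1
        (show ProjGenLinGroup.mk (SpecialLinearGroup.toGL M) = ProjGenLinGroup.mk A from hg)
      refine ⟨u, ?_⟩
      rw [← hu, Units.val_mul, Matrix.det_mul]
      have h1 : (SpecialLinearGroup.toGL M : GL (Fin 2) F).1.det = 1 := M.2
      rw [h1, one_mul]
      simp [GeneralLinearGroup.coe_scalar, Matrix.scalar_apply, Matrix.det_fin_two]
      exact pow_two _
  · rintro ⟨s, hs⟩
    have hs0 : s ≠ 0 := fun e => A.det_ne_zero (by rw [hs, e, zero_mul])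
    refine ⟨QuotientGroup.mk ⟨s⁻¹ • A.1, by rw [Matrix.det_smul, hs, Fintype.card_fin]; field_simp⟩, ?_⟩
    show ProjGenLinGroup.mk (SpecialLinearGroup.toGL _) = ProjGenLinGroup.mk A
    rw [ProjGenLinGroup.mk_eq_mk_iff]
    refine ⟨Units.mk0 s hs0, Units.ext ?_⟩
    rw [Units.val_mul]
    change (s⁻¹ • A.1) * _ = _
    ext i j
    fin_cases i <;> fin_cases j <;>
      simp [Matrix.mul_apply, Fin.sum_univ_two, GeneralLinearGroup.coe_scalar, Matrix.scalar_apply] <;> field_simp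

theorem range_normal : (toP).range.Normal := ⟨fun x hx g => by
  induction g using Matrix.ProjGenLinGroup.induction_on with
  | mk B =>
    induction x using Matrix.ProjGenLinGroup.induction_on with
    | mk A =>
      rw [← map_inv, ← map_mul, ← map_mul, mk_mem_range_iff, Units.val_mul, Units.val_mul, Matrix.det_units_conj]
      exact (mk_mem_range_iff A).1 hx⟩

variable {K₀ : Type*} [Field K₀] [Fintype K₀]

/-- the subgroup defined over a subfield, in a given frame -/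
noncomputable def sub (κ : K₀ →+* F) (k : PG) : Subgroup PSL₂ :=
  ((mapPGL κ).range.map (MulAut.conj k).toMonoidHom).comap toP

theorem mem_sub {κ : K₀ →+* F} {k : PG} {g : PSL₂} : g ∈ sub κ k ↔ k⁻¹ * toP g * k ∈ (mapPGL κ).range := by
  rw [sub, Subgroup.mem_comap, Subgroup.mem_map_equiv, MulAut.conj_symm_apply]

/-- the matching subgroup of PGL₂ of the subfield -/
noncomputable def tsub (κ : K₀ →+* F) : Subgroup (Matrix.ProjGenLinGroup (Fin 2) K₀) :=
  (toP).range.comap (mapPGL κ)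

theorem sub_equiv (κ : K₀ →+* F) (k : PG) : Nonempty (sub κ k ≃* tsub κ) := by
  have hN := range_normal (F := F)
  let a : tsub κ →* PG := ((MulAut.conj k).toMonoidHom.comp (mapPGL κ)).comp (tsub κ).subtype
  let b : sub κ k →* PG := (toP).comp (sub κ k).subtype
  have ha : Function.Injective a :=
    ((MulAut.conj k).injective.comp (mapPGL_injective κ)).comp (tsub κ).subtype_injective
  have hb : Function.Injective b := ProjectiveSpecialLinearGroup.toPGL_injective.comp (sub κ k).subtype_injective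
  have hab : a.range = b.range := by
    ext x
    constructor
    · rintro ⟨⟨h, hh⟩, rfl⟩
      obtain ⟨g, hg⟩ : MulAut.conj k (mapPGL κ h) ∈ (toP).range := hN.conj_mem _ hh k
      have : g ∈ sub κ k := mem_sub.2 ⟨h, by rw [hg, MulAut.conj_apply]; group⟩
      exact ⟨⟨g, this⟩, hg⟩
    · rintro ⟨⟨g, hg⟩, rfl⟩
      obtain ⟨h, hh⟩ := mem_sub.1 hg
      refine ⟨⟨h, ?_⟩, ?_⟩
      · show mapPGL κ h ∈ (toP).range
        rw [hh]
        simpa using hN.conj_mem _ ⟨g, rfl⟩ k⁻¹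
      · show MulAut.conj k (mapPGL κ h) = toP g
        rw [hh, MulAut.conj_apply]; group
  exact ⟨(MonoidHom.ofInjective hb).trans ((MulEquiv.subgroupCongr hab.symm).trans (MonoidHom.ofInjective ha).symm)⟩

theorem mk_mem_tsub (κ : K₀ →+* F) (A : GL (Fin 2) K₀) :
    ProjGenLinGroup.mk A ∈ tsub κ ↔ IsSquare (κ A.1.det) := by
  rw [tsub, Subgroup.mem_comap, mapPGL_mk, mk_mem_range_iff, RingHom.map_det]
  rfl

theorem psl_or_pgl_sub (κ : K₀ →+* F) (k : PG) :
    ((∀ a : K₀, a ≠ 0 → IsSquare (κ a)) ∧ Nonempty (sub κ k ≃* Matrix.ProjGenLinGroup (Fin 2) K₀)) ∨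
      ((∃ a : K₀, a ≠ 0 ∧ ¬ IsSquare (κ a)) ∧ Nonempty (sub κ k ≃* Matrix.ProjectiveSpecialLinearGroup (Fin 2) K₀)) := by
  obtain ⟨e⟩ := sub_equiv κ k
  have hT : ∀ a, T a ∈ tsub κ := fun a => by
    rw [T, mk_mem_tsub]; simp [GeneralLinearGroup.mkOfDetNeZero, Matrix.det_fin_two]
  have hL : ∀ a, L a ∈ tsub κ := fun a => by
    rw [L, mk_mem_tsub]; simp [GeneralLinearGroup.mkOfDetNeZero, Matrix.det_fin_two]
  by_cases hsq : ∀ a : K₀, a ≠ 0 → IsSquare (κ a)
  · left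
    refine ⟨hsq, ⟨e.trans ((MulEquiv.subgroupCongr ?_).trans Subgroup.topEquiv)⟩⟩
    rw [Subgroup.eq_top_iff']
    intro x
    induction x using Matrix.ProjGenLinGroup.induction_on with
    | mk A => exact (mk_mem_tsub κ A).2 (hsq _ A.det_ne_zero)
  · push Not at hsq
    obtain ⟨a, ha, hna⟩ := hsq
    refine Or.inr ⟨⟨a, ha, hna⟩, ?_⟩
    rcases psl_or_pgl (tsub κ) hT hL with ⟨⟨t⟩⟩ | ⟨⟨t⟩⟩
    · exact ⟨e.trans t⟩
    · exfalso
      haveI : Finite (Matrix.ProjGenLinGroup (Fin 2) K₀) := Finite.of_surjective _ ProjGenLinGroup.mk_surjective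
      have htop := Subgroup.eq_top_of_card_eq (tsub κ) (Nat.card_congr t.toEquiv)
      have hm : ProjGenLinGroup.mk (GeneralLinearGroup.mkOfDetNeZero !![a, 0; 0, 1]
          (by simpa [Matrix.det_fin_two] using ha)) ∈ tsub κ := htop ▸ Subgroup.mem_top _
      rw [mk_mem_tsub] at hm
      exact hna (by simpa [GeneralLinearGroup.mkOfDetNeZero, Matrix.det_fin_two] using hm)

theorem card_sub_bounds (κ : K₀ →+* F) (k : PG) :
    Nat.card (sub κ k) ≤ Fintype.card K₀ * (Fintype.card K₀ ^ 2 - 1) ∧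
      Fintype.card K₀ * (Fintype.card K₀ ^ 2 - 1) ≤ 2 * Nat.card (sub κ k) := by
  have h1 := card_PSL K₀
  have h2 := card_PGL K₀
  have hg : Nat.gcd 2 (Fintype.card K₀ - 1) ≤ 2 := Nat.gcd_le_left _ two_pos
  have hg1 : 1 ≤ Nat.gcd 2 (Fintype.card K₀ - 1) := Nat.gcd_pos_of_pos_left _ two_pos
  rcases psl_or_pgl_sub κ k with ⟨-, ⟨e⟩⟩ | ⟨-, ⟨e⟩⟩
  · rw [Nat.card_congr e.toEquiv, h2]; omega
  · rw [Nat.card_congr e.toEquiv, ← h1]
    exact ⟨Nat.le_mul_of_pos_left _ hg1, Nat.mul_le_mul_right _ hg⟩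

theorem sub_ne_top (κ : K₀ →+* F) (k : PG) (hlt : Fintype.card K₀ < Fintype.card F) : sub κ k ≠ ⊤ := by
  intro htop
  have hb := (card_sub_bounds κ k).1
  rw [htop, Subgroup.card_top] at hb
  have hN := card_PSL F
  obtain ⟨m, hm⟩ := card_pow_of_ringHom κ
  have hr2 : 2 ≤ Fintype.card K₀ := Fintype.one_lt_card
  have hm2 : 2 ≤ m := by
    by_contra h
    interval_cases m
    · rw [pow_zero] at hm; have := Fintype.one_lt_card (α := F); omega
    · rw [pow_one] at hm; omega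
  have h2r : 2 * Fintype.card K₀ ≤ Fintype.card F := by
    calc 2 * Fintype.card K₀ ≤ Fintype.card K₀ * Fintype.card K₀ := Nat.mul_le_mul_right _ hr2
      _ = Fintype.card K₀ ^ 2 := (pow_two _).symm
      _ ≤ Fintype.card K₀ ^ m := Nat.pow_le_pow_right (by omega) hm2
      _ = _ := hm
  obtain ⟨r, hr⟩ : ∃ r, r = Fintype.card K₀ := ⟨_, rfl⟩
  rw [← hr] at hb h2r hr2 hlt
  have hsq : r ^ 2 - 1 < Fintype.card F ^ 2 - 1 := by
    have := Nat.pow_lt_pow_left hlt two_ne_zero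
    have : 1 ≤ r ^ 2 := Nat.one_le_pow _ _ (by omega)
    omega
  have hB : 2 * (r * (r ^ 2 - 1)) < Fintype.card F * (Fintype.card F ^ 2 - 1) := by
    calc 2 * (r * (r ^ 2 - 1)) = (2 * r) * (r ^ 2 - 1) := (mul_assoc _ _ _).symm
      _ ≤ Fintype.card F * (r ^ 2 - 1) := Nat.mul_le_mul_right _ h2r
      _ < _ := Nat.mul_lt_mul_of_pos_left hsq (by omega)
  rw [← hN] at hB
  have hg : Nat.gcd 2 (Fintype.card F - 1) ≤ 2 := Nat.gcd_le_left _ two_pos
  exact absurd hB (not_lt.2 (Nat.mul_le_mul hg hb))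

theorem mem_range_of_pow {x : F} (κ : K₀ →+* F) (hx : x ^ Fintype.card K₀ = x) : x ∈ κ.fieldRange := by
  classical
  by_contra h
  have hroots : (insert x (Finset.univ.image κ)).val ⊆
      (Polynomial.X ^ Fintype.card K₀ - Polynomial.X : Polynomial F).roots := by
    intro y hy
    rw [Polynomial.mem_roots (FiniteField.X_pow_card_sub_X_ne_zero _ Fintype.one_lt_card)]
    rcases Finset.mem_insert.1 hy with rfl | hy
    · simp [hx]
    · obtain ⟨c, -, rfl⟩ := Finset.mem_image.1 hy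
      simp [← map_pow, FiniteField.pow_card]
  have hc := Polynomial.card_le_degree_of_subset_roots hroots
  rw [Finset.card_insert_of_notMem, Finset.card_image_of_injective _ κ.injective, Finset.card_univ,
    FiniteField.X_pow_card_sub_X_natDegree_eq _ Fintype.one_lt_card] at hc
  · omega
  · intro hy
    obtain ⟨c, -, hc⟩ := Finset.mem_image.1 hy
    exact h ⟨c, hc⟩

theorem sub_mono {L : Type*} [Field L] [Fintype L] (κ : K₀ →+* F) (μ : L →+* F) (k : PG) {l : ℕ}
    (hl : Fintype.card L = Fintype.card K₀ ^ l) : sub κ k ≤ sub μ k := by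
  have hj : ∀ a : K₀, ∃ b : L, μ b = κ a := fun a => mem_range_of_pow μ (by
    rw [hl, ← map_pow, FiniteField.pow_card_pow])
  choose j hj using hj
  let jj : K₀ →+* L :=
    { toFun := j
      map_one' := μ.injective (by rw [hj, map_one, map_one])
      map_mul' := fun a b => μ.injective (by rw [hj, map_mul, map_mul, hj, hj])
      map_zero' := μ.injective (by rw [hj, map_zero, map_zero])
      map_add' := fun a b => μ.injective (by rw [hj, map_add, map_add, hj, hj]) }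
  intro g hg
  obtain ⟨h, hh⟩ := mem_sub.1 hg
  refine mem_sub.2 ⟨mapPGL jj h, ?_⟩
  rw [← hh]
  induction h using Matrix.ProjGenLinGroup.induction_on with
  | mk A =>
    rw [mapPGL_mk, mapPGL_mk, mapPGL_mk]
    congr 1
    ext i' j'
    exact hj _

theorem not_square_of_odd (κ : K₀ →+* F) {j : ℕ} (hm : Fintype.card F = Fintype.card K₀ ^ (2 * j + 1))
    (hodd : Fintype.card K₀ % 2 = 1) : ∃ a : K₀, a ≠ 0 ∧ ¬ IsSquare (κ a) := by
  have h2 : ringChar K₀ ≠ 2 := fun e => by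
    have := FiniteField.even_card_iff_char_two.1 e; omega
  have h2F : ringChar F ≠ 2 := fun e => by
    have := FiniteField.even_card_iff_char_two.1 e
    rw [hm, Nat.pow_mod, hodd] at this
    simp at this
  obtain ⟨a, ha⟩ := FiniteField.exists_nonsquare h2
  have ha0 : a ≠ 0 := fun e => ha (e ▸ IsSquare.zero)
  refine ⟨a, ha0, fun hsq => ?_⟩
  rw [FiniteField.isSquare_iff h2F ((map_ne_zero κ).2 ha0), ← map_pow, map_eq_one_iff κ κ.injective] at hsq
  have hpa := (FiniteField.pow_dichotomy h2 ha0).resolve_left (fun e => ha ((FiniteField.isSquare_iff h2 ha0).2 e))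
  obtain ⟨r, hr⟩ : ∃ r, r = Fintype.card K₀ := ⟨_, rfl⟩
  rw [← hr] at hm hodd hpa
  obtain ⟨c, hc⟩ : (r - 1) * (r + 1) ∣ (r ^ 2) ^ j - 1 := by
    rw [mul_comm, ← sq_sub_one]
    simpa using Nat.sub_dvd_pow_sub_pow (r ^ 2) 1 j
  obtain ⟨t, ht⟩ : ∃ t, r = 2 * t + 1 := ⟨r / 2, by omega⟩
  have he : Fintype.card F / 2 = r / 2 + (r - 1) * ((t + 1) * r * c) := by
    have h1 : (r ^ 2) ^ j = (r - 1) * (r + 1) * c + 1 := by
      have : 1 ≤ (r ^ 2) ^ j := Nat.one_le_pow _ _ (pow_pos (by omega) 2)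
      omega
    rw [hm, pow_succ, pow_mul, h1]
    subst ht
    rw [Nat.add_sub_cancel, show (2 * t + 1) / 2 = t by omega]
    have e : (2 * t * (2 * t + 1 + 1) * c + 1) * (2 * t + 1) =
        2 * (t + 2 * t * ((t + 1) * (2 * t + 1) * c)) + 1 := by ring
    omega
  have h1 : a ^ (r - 1) = 1 := by rw [hr]; exact FiniteField.pow_card_sub_one_eq_one a ha0
  rw [he, pow_add, pow_mul, h1, one_pow, mul_one, hpa] at hsq
  exact Ring.neg_one_ne_one_of_char_ne_two h2 hsq

/-! ### Traces -/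

/-- trace of a lift -/
def TrIn (κ : K₀ →+* F) (g : PSL₂) (s : F) : Prop :=
  ∀ A : SL₂, (QuotientGroup.mk A : PSL₂) = g → ∃ c : K₀, A.1 0 0 + A.1 1 1 = s * κ c

theorem cayley (A : SL₂) : A.1 * A.1 = (A.1 0 0 + A.1 1 1) • A.1 - 1 := by
  have hd := A.2
  rw [Matrix.det_fin_two] at hd
  ext i j
  fin_cases i <;> fin_cases j <;> simp [Matrix.mul_apply, Fin.sum_univ_two]
  · linear_combination -hd
  · ring
  · ring
  · linear_combination -hd

theorem val_pow (A : SL₂) (n : ℕ) : (A ^ n).1 = A.1 ^ n := Matrix.SpecialLinearGroup.coe_pow A n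

theorem val_mul (A B : SL₂) : (A * B).1 = A.1 * B.1 := rfl

theorem coe_central {A : SL₂} (h : (QuotientGroup.mk A : PSL₂) = 1) : A.1 = 1 ∨ A.1 = -1 := by
  rcases PSLTwoSpec.mem_Z.1 ((QuotientGroup.eq_one_iff A).1 h) with e | e
  · exact Or.inl (by rw [e]; rfl)
  · exact Or.inr (by rw [e, SpecialLinearGroup.coe_neg]; rfl)

theorem coeff_zero {A : SL₂} (hA : (QuotientGroup.mk A : PSL₂) ≠ 1) {u w : F}
    (h : u • A.1 = w • (1 : Matrix (Fin 2) (Fin 2) F)) : u = 0 := by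
  by_contra hu
  refine hA ((QuotientGroup.eq_one_iff A).2 (PSLTwoSpec.mem_Z.2 ?_))
  have e : A.1 = (u⁻¹ * w) • (1 : Matrix (Fin 2) (Fin 2) F) := by
    rw [← smul_smul, ← h, inv_smul_smul₀ hu]
  have hd := A.2
  rw [e, Matrix.det_smul, Matrix.det_one, mul_one, Fintype.card_fin, sq_eq_one_iff] at hd
  rcases hd with hd | hd
  · exact Or.inl (Subtype.ext (by rw [e, hd, one_smul]; rfl))
  · exact Or.inr (Subtype.ext (by rw [e, hd, neg_one_smul, SpecialLinearGroup.coe_neg]; rfl))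

theorem tr_two {A : SL₂} (hA : (QuotientGroup.mk A : PSL₂) ≠ 1) (h : (QuotientGroup.mk A : PSL₂) ^ 2 = 1) :
    A.1 0 0 + A.1 1 1 = 0 := by
  rw [← QuotientGroup.mk_pow] at h
  rcases coe_central h with e | e <;> rw [val_pow, pow_two, cayley] at e
  · exact coeff_zero hA (w := 2) (by rw [two_smul]; linear_combination (norm := module) e)
  · exact coeff_zero hA (w := 0) (by rw [zero_smul]; linear_combination (norm := module) e)

theorem tr_three {A : SL₂} (hA : (QuotientGroup.mk A : PSL₂) ≠ 1) (h : (QuotientGroup.mk A : PSL₂) ^ 3 = 1) :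
    A.1 0 0 + A.1 1 1 = 1 ∨ A.1 0 0 + A.1 1 1 = -1 := by
  rw [← QuotientGroup.mk_pow] at h
  obtain ⟨t, ht⟩ : ∃ t, t = A.1 0 0 + A.1 1 1 := ⟨_, rfl⟩
  have hc : A.1 * A.1 = t • A.1 - 1 := ht ▸ cayley A
  have h3 : (A ^ 3).1 = (t ^ 2 - 1) • A.1 - t • (1 : Matrix (Fin 2) (Fin 2) F) := by
    rw [val_pow, pow_succ, pow_two, hc, sub_mul, one_mul, smul_mul_assoc, hc, smul_sub, smul_smul,
      sub_smul, one_smul, pow_two]
    abel
  rw [← ht]
  refine sq_eq_one_iff.1 (sub_eq_zero.1 ?_)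
  rcases coe_central h with e | e <;> rw [h3] at e
  · exact coeff_zero hA (w := t + 1) (by rw [add_smul, one_smul]; linear_combination (norm := module) e)
  · exact coeff_zero hA (w := t - 1) (by rw [sub_smul, one_smul]; linear_combination (norm := module) e)

theorem tr_four {A : SL₂} (h : (QuotientGroup.mk A : PSL₂) ^ 4 = 1) (hA : (QuotientGroup.mk A : PSL₂) ^ 2 ≠ 1) :
    (A.1 0 0 + A.1 1 1) ^ 2 = 2 := by
  rw [show (4 : ℕ) = 2 * 2 from rfl, pow_mul, ← QuotientGroup.mk_pow] at h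
  rw [← QuotientGroup.mk_pow] at hA
  have h0 := tr_two hA h
  rw [val_pow, pow_two, cayley] at h0
  simp at h0
  linear_combination h0

theorem tr_five {A : SL₂} (hA : (QuotientGroup.mk A : PSL₂) ≠ 1) (h : (QuotientGroup.mk A : PSL₂) ^ 5 = 1) :
    (A.1 0 0 + A.1 1 1) ^ 2 = (A.1 0 0 + A.1 1 1) + 1 ∨ (-(A.1 0 0 + A.1 1 1)) ^ 2 = -(A.1 0 0 + A.1 1 1) + 1 := by
  rw [← QuotientGroup.mk_pow] at h
  obtain ⟨t, ht⟩ : ∃ t, t = A.1 0 0 + A.1 1 1 := ⟨_, rfl⟩
  have hc : A.1 * A.1 = t • A.1 - 1 := ht ▸ cayley A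
  have h3 : (A ^ 5).1 = (t ^ 4 - 3 * t ^ 2 + 1) • A.1 - (t ^ 3 - 2 * t) • (1 : Matrix (Fin 2) (Fin 2) F) := by
    have s3 : A.1 * A.1 * A.1 = (t ^ 2 - 1) • A.1 - t • (1 : Matrix (Fin 2) (Fin 2) F) := by
      rw [hc, sub_mul, one_mul, smul_mul_assoc, hc, smul_sub, smul_smul, sub_smul, one_smul, pow_two]
      abel
    rw [val_pow, show (5 : ℕ) = 3 + 1 + 1 from rfl, pow_succ, pow_succ, pow_three, ← mul_assoc, s3]
    simp only [sub_mul, smul_mul_assoc, one_mul, hc, smul_sub, smul_smul]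
    match_scalars <;> ring
  rw [← ht]
  have key : t ^ 4 - 3 * t ^ 2 + 1 = 0 := by
    rcases coe_central h with e | e <;> rw [h3] at e
    · exact coeff_zero hA (w := t ^ 3 - 2 * t + 1) (by linear_combination (norm := module) e)
    · exact coeff_zero hA (w := t ^ 3 - 2 * t - 1) (by linear_combination (norm := module) e)
  rcases mul_eq_zero.1 (show (t ^ 2 - (t + 1)) * ((-t) ^ 2 - (-t + 1)) = 0 by linear_combination key) with e | e
  · exact Or.inl (sub_eq_zero.1 e)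
  · exact Or.inr (sub_eq_zero.1 e)

/-- an element outside `±1` with square one in PSL -/
theorem lift_invol {v : PSL₂} (hv : v ≠ 1) (hv2 : v * v = 1) :
    ∃ I : SL₂, (QuotientGroup.mk I : PSL₂) = v ∧ I.1 * I.1 = -1 ∧ I.1 0 0 + I.1 1 1 = 0 := by
  obtain ⟨I, rfl⟩ := QuotientGroup.mk_surjective v
  have h0 := tr_two hv (by rw [pow_two]; exact hv2)
  refine ⟨I, rfl, ?_, h0⟩
  rw [cayley, h0, zero_smul, zero_sub]

/-- rationality of subgroups containing a four-group -/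
theorem le_sub (hodd : Fintype.card F % 2 = 1) (hodd₀ : Fintype.card K₀ % 2 = 1) (κ : K₀ →+* F) (M : Subgroup PSL₂)
    {v w : PSL₂} (hv : v ≠ 1) (hv2 : v * v = 1) (hw : w ≠ 1) (hw2 : w * w = 1) (hne : v ≠ w) (hcomm : v * w = w * v)
    (htr : ∀ g ∈ M, ∃ s : F, s ≠ 0 ∧ TrIn κ g s ∧ TrIn κ (g * v) s ∧ TrIn κ (g * w) s ∧ TrIn κ (g * (v * w)) s) :
    ∃ k : PG, M ≤ sub κ k := by
  have h2 := Fus.PSL2Two.two_ne_zero' hodd
  obtain ⟨I, hI, hI2, hIt⟩ := lift_invol hv hv2
  obtain ⟨J, hJ, hJ2, hJt⟩ := lift_invol hw hw2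
  have hvw : v * w ≠ 1 := fun e => hne (mul_right_cancel (b := w) (e.trans hw2.symm))
  have hJI : J.1 * I.1 = -(I.1 * J.1) := by
    have h1 : (QuotientGroup.mk (I * J) : PSL₂) = QuotientGroup.mk (J * I) := by
      rw [QuotientGroup.mk_mul, QuotientGroup.mk_mul, hI, hJ, hcomm]
    have h2' : (QuotientGroup.mk (I * J) : PSL₂) ^ 2 = 1 := by
      rw [QuotientGroup.mk_mul, hI, hJ, pow_two, show v * w * (v * w) = v * (w * v) * w by group, ← hcomm,
        show v * (v * w) * w = v * v * (w * w) by group, hv2, hw2, mul_one]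
    have h0 := tr_two (A := I * J) (by rw [QuotientGroup.mk_mul, hI, hJ]; exact hvw) h2'
    have hsq := cayley (I * J)
    rw [h0, zero_smul, zero_sub, val_mul] at hsq
    calc J.1 * I.1 = (-(I.1 * I.1)) * (J.1 * I.1) * (-(J.1 * J.1)) := by rw [hI2, hJ2, neg_neg, one_mul, mul_one]
      _ = I.1 * (I.1 * J.1 * (I.1 * J.1)) * J.1 := by simp [mul_assoc]
      _ = -(I.1 * J.1) := by rw [hsq]; simp
  obtain ⟨x₀, y₀, hxy₀⟩ := Fus.PSL2Two.exists_two_squares hodd₀ (-1 : K₀)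
  obtain ⟨x, hx⟩ : ∃ x, x = κ x₀ := ⟨_, rfl⟩
  obtain ⟨y, hy⟩ : ∃ y, y = κ y₀ := ⟨_, rfl⟩
  have hxy : x ^ 2 + y ^ 2 = -1 := by rw [hx, hy, ← map_pow, ← map_pow, ← map_add, hxy₀, map_neg, map_one]
  obtain ⟨P, hP⟩ : ∃ P, P = J.1 - y • I.1 := ⟨_, rfl⟩
  have hP2 : P * P = (x ^ 2) • (1 : Matrix (Fin 2) (Fin 2) F) := by
    rw [hP, sub_mul, mul_sub, mul_sub, mul_smul_comm, smul_mul_assoc, smul_mul_smul_comm, hI2, hJ2, hJI, smul_neg,
      show x ^ 2 = -1 - y * y by linear_combination hxy]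
    module
  obtain ⟨Q, hQ⟩ : ∃ Q, Q = P + x • (1 : Matrix (Fin 2) (Fin 2) F) := ⟨_, rfl⟩
  have hQ0 : Q ≠ 0 := by
    intro e
    rw [hQ] at e
    have hPx : P = (-x) • (1 : Matrix (Fin 2) (Fin 2) F) := by rw [neg_smul]; exact eq_neg_of_add_eq_zero_left e
    have htrP : P.trace = 0 := by
      rw [hP, Matrix.trace_sub, Matrix.trace_smul, Matrix.trace_fin_two, Matrix.trace_fin_two, hIt, hJt, smul_zero,
        sub_zero]
    rw [hPx, Matrix.trace_smul, Matrix.trace_one, Fintype.card_fin, smul_eq_mul] at htrP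
    have hx0 : x = 0 := neg_eq_zero.1 ((mul_eq_zero.1 htrP).resolve_right (by exact_mod_cast h2))
    rw [hx0, neg_zero, zero_smul, hP, sub_eq_zero] at hPx
    rw [hPx, smul_mul_assoc, mul_smul_comm, hI2, smul_neg, neg_neg] at hJI
    have : (y + y) • (1 : Matrix (Fin 2) (Fin 2) F) = 0 := by linear_combination (norm := module) -hJI
    rcases smul_eq_zero.1 this with e' | e'
    · have hy0 : y = 0 := by
        rw [← two_mul] at e'
        exact (mul_eq_zero.1 e').resolve_left h2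
      rw [hy0, hx0] at hxy
      simp at hxy
    · exact one_ne_zero e'
  obtain ⟨e₀, he₀⟩ : ∃ e : Fin 2 → F, Q *ᵥ e ≠ 0 := by
    by_contra hc
    push Not at hc
    exact hQ0 (Matrix.ext_of_mulVec_single fun i => by rw [hc, Matrix.zero_mulVec])
  obtain ⟨u, hu⟩ : ∃ u, u = Q *ᵥ e₀ := ⟨_, rfl⟩
  have hJu : J.1 *ᵥ u = x • u + y • (I.1 *ᵥ u) := by
    have h' : P *ᵥ u = x • u := by
      rw [hu, Matrix.mulVec_mulVec, hQ, mul_add, hP2, mul_smul_comm, mul_one, ← Matrix.smul_mulVec]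
      congr 1
      rw [smul_add, smul_smul, ← pow_two]
      abel
    rw [hP, Matrix.sub_mulVec, Matrix.smul_mulVec, sub_eq_iff_eq_add] at h'
    exact h'
  obtain ⟨U, hU⟩ : ∃ U : Matrix (Fin 2) (Fin 2) F, U = !![u 0, (I.1 *ᵥ u) 0; u 1, (I.1 *ᵥ u) 1] := ⟨_, rfl⟩
  have hUd : U.det ≠ 0 := by
    intro e
    obtain ⟨c, hc0, hc⟩ := Matrix.exists_mulVec_eq_zero_iff.2 e
    have hlin : c 0 • u + c 1 • (I.1 *ᵥ u) = 0 := by
      funext i
      have := congrFun hc i
      fin_cases i <;> simp [hU, Matrix.mulVec, dotProduct, Fin.sum_univ_two] at this ⊢ <;> linear_combination this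
    have hu0 : u ≠ 0 := hu ▸ he₀
    by_cases hc1 : c 1 = 0
    · rw [hc1, zero_smul, add_zero, smul_eq_zero] at hlin
      exact hc0 (funext fun i => by fin_cases i <;> simp [hc1, hlin.resolve_right hu0])
    · obtain ⟨l, hl⟩ : ∃ l, I.1 *ᵥ u = l • u :=
        ⟨-(c 0) / c 1, by
          rw [div_eq_mul_inv, mul_comm, ← smul_smul, neg_smul, ← eq_neg_of_add_eq_zero_right hlin, inv_smul_smul₀ hc1]⟩
      have e1 : J.1 *ᵥ u = (x + y * l) • u := by rw [hJu, hl, smul_smul, add_smul]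
      have e2 : (J.1 * I.1) *ᵥ u = (-(I.1 * J.1)) *ᵥ u := by rw [hJI]
      rw [Matrix.neg_mulVec, ← Matrix.mulVec_mulVec, ← Matrix.mulVec_mulVec, hl, e1, Matrix.mulVec_smul,
        Matrix.mulVec_smul, hl, e1, smul_smul, smul_smul, ← neg_smul] at e2
      have e3 := smul_left_injective F hu0 e2
      have hll : l ≠ 0 := by
        intro h0
        rw [h0, zero_smul] at hl
        have : (I.1 * I.1) *ᵥ u = 0 := by rw [← Matrix.mulVec_mulVec, hl, Matrix.mulVec_zero]
        rw [hI2, Matrix.neg_mulVec, Matrix.one_mulVec, neg_eq_zero] at this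
        exact hu0 this
      have hm : x + y * l ≠ 0 := by
        intro h0
        rw [h0, zero_smul] at e1
        have : (J.1 * J.1) *ᵥ u = 0 := by rw [← Matrix.mulVec_mulVec, e1, Matrix.mulVec_zero]
        rw [hJ2, Matrix.neg_mulVec, Matrix.one_mulVec, neg_eq_zero] at this
        exact hu0 this
      exact mul_ne_zero (mul_ne_zero h2 hll) hm (by linear_combination e3)
  obtain ⟨kk, hkk⟩ : ∃ kk : GL (Fin 2) F, kk.1 = U := ⟨GeneralLinearGroup.mkOfDetNeZero U hUd, rfl⟩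
  have hIU : I.1 * U = U * !![0, -1; 1, 0] := by
    have h' : I.1 *ᵥ (I.1 *ᵥ u) = -u := by
      rw [Matrix.mulVec_mulVec, hI2, Matrix.neg_mulVec, Matrix.one_mulVec]
    ext i j
    have a := congrFun h' i
    fin_cases i <;> fin_cases j <;>
      simp [hU, Matrix.mul_apply, Fin.sum_univ_two, Matrix.mulVec, dotProduct] at a ⊢ <;> linear_combination a
  have hJU : J.1 * U = U * !![x, y; y, -x] := by
    have hJIu : J.1 *ᵥ (I.1 *ᵥ u) = y • u - x • (I.1 *ᵥ u) := by
      rw [Matrix.mulVec_mulVec, hJI, Matrix.neg_mulVec, ← Matrix.mulVec_mulVec, hJu, Matrix.mulVec_add,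
        Matrix.mulVec_smul, Matrix.mulVec_smul, Matrix.mulVec_mulVec, hI2, Matrix.neg_mulVec, Matrix.one_mulVec]
      module
    ext i j
    have a := congrFun hJu i
    have b := congrFun hJIu i
    fin_cases i <;> fin_cases j <;>
      simp [hU, Matrix.mul_apply, Fin.sum_univ_two, Matrix.mulVec, dotProduct] at a b ⊢ <;>
      first | linear_combination a | linear_combination b
  refine ⟨ProjGenLinGroup.mk kk, fun g hg => mem_sub.2 ?_⟩
  obtain ⟨s, hs, t0, t1, t2, t3⟩ := htr g hg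
  induction g using QuotientGroup.induction_on with
  | H X =>
    obtain ⟨Y, hY⟩ : ∃ Y : GL (Fin 2) F, Y = kk⁻¹ * SpecialLinearGroup.toGL X * kk := ⟨_, rfl⟩
    have hXU : X.1 * U = U * Y.1 := by
      rw [← hkk]
      have : SpecialLinearGroup.toGL X * kk = kk * Y := by rw [hY]; group
      exact congrArg Units.val this
    have htrace : ∀ (Z : SL₂) (Z' : Matrix (Fin 2) (Fin 2) F), Z.1 * U = U * Z' →
        Z'.trace = Z.1 0 0 + Z.1 1 1 := by
      intro Z Z' h
      rw [← Matrix.trace_fin_two, ← hkk] at *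
      have : Z' = (kk⁻¹).1 * Z.1 * kk.1 := by
        rw [mul_assoc, h, ← mul_assoc, ← Units.val_mul, inv_mul_cancel, Units.val_one, one_mul]
      rw [this, Matrix.trace_mul_comm, ← mul_assoc, ← Units.val_mul, mul_inv_cancel, Units.val_one, one_mul]
    obtain ⟨c0, hc0⟩ := t0 X rfl
    obtain ⟨c1, hc1⟩ := t1 (X * I) (by rw [QuotientGroup.mk_mul, hI])
    obtain ⟨c2, hc2⟩ := t2 (X * J) (by rw [QuotientGroup.mk_mul, hJ])
    obtain ⟨c3, hc3⟩ := t3 (X * (I * J)) (by rw [QuotientGroup.mk_mul, QuotientGroup.mk_mul, hI, hJ])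
    rw [← htrace X Y.1 hXU, Matrix.trace_fin_two] at hc0
    rw [← htrace (X * I) (Y.1 * !![0, -1; 1, 0]) (by
      rw [val_mul, mul_assoc, hIU, ← mul_assoc, hXU, mul_assoc])] at hc1
    rw [← htrace (X * J) (Y.1 * !![x, y; y, -x]) (by
      rw [val_mul, mul_assoc, hJU, ← mul_assoc, hXU, mul_assoc])] at hc2
    rw [← htrace (X * (I * J)) (Y.1 * (!![0, -1; 1, 0] * !![x, y; y, -x])) (by
      rw [val_mul, val_mul, mul_assoc, mul_assoc, hJU, ← mul_assoc I.1, hIU,
        mul_assoc U, ← mul_assoc X.1, hXU, mul_assoc])] at hc3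
    simp [Matrix.trace_fin_two, Matrix.mul_apply, Fin.sum_univ_two] at hc1 hc2 hc3
    obtain ⟨d, hd⟩ : ∃ d : K₀, d = (2 : K₀)⁻¹ := ⟨_, rfl⟩
    have hk2 : (2 : K₀) ≠ 0 := Fus.PSL2Two.two_ne_zero' hodd₀
    have hd2 : κ d * 2 = 1 := by
      rw [hd, map_inv₀, show κ 2 = (2 : F) from map_ofNat κ 2, inv_mul_cancel₀ h2]
    obtain ⟨B, hB⟩ : ∃ B : Matrix (Fin 2) (Fin 2) K₀,
        B = !![d * (c0 + (-(x₀ * c2) + y₀ * c3)), d * (c1 + (-(y₀ * c2) - x₀ * c3));
               d * (-c1 + (-(y₀ * c2) - x₀ * c3)), d * (c0 - (-(x₀ * c2) + y₀ * c3))] := ⟨_, rfl⟩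
    have e1 : Y.1 0 0 - Y.1 1 1 = s * (-(x * κ c2) + y * κ c3) := by
      linear_combination (Y.1 0 0 - Y.1 1 1) * hxy - x * hc2 + y * hc3
    have e2 : Y.1 0 1 + Y.1 1 0 = s * (-(y * κ c2) - x * κ c3) := by
      linear_combination (Y.1 0 1 + Y.1 1 0) * hxy - y * hc2 - x * hc3
    have hmat : Y.1 = s • B.map κ := by
      ext i j
      fin_cases i <;> fin_cases j <;> simp [hB, ← hx, ← hy]
      · linear_combination -(Y.1 0 0) * hd2 + (κ d) * hc0 + (κ d) * e1
      · linear_combination -(Y.1 0 1) * hd2 + (κ d) * hc1 + (κ d) * e2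
      · linear_combination -(Y.1 1 0) * hd2 - (κ d) * hc1 + (κ d) * e2
      · linear_combination -(Y.1 1 1) * hd2 + (κ d) * hc0 - (κ d) * e1
    have hBd : B.det ≠ 0 := by
      intro e
      refine Y.det_ne_zero ?_
      rw [hmat, Matrix.det_smul, show (B.map κ).det = κ B.det from (κ.map_det B).symm, e, map_zero, mul_zero]
    refine ⟨ProjGenLinGroup.mk (GeneralLinearGroup.mkOfDetNeZero B hBd), ?_⟩
    change _ = (ProjGenLinGroup.mk kk)⁻¹ * ProjGenLinGroup.mk (SpecialLinearGroup.toGL X) * ProjGenLinGroup.mk kk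
    rw [← map_inv, ← map_mul, ← map_mul, ← hY, mapPGL_mk, ProjGenLinGroup.mk_eq_mk_iff]
    refine ⟨Units.mk0 s hs, Units.ext ?_⟩
    rw [hmat]
    ext i j
    fin_cases i <;> fin_cases j <;>
      simp [Matrix.mul_apply, Fin.sum_univ_two, GeneralLinearGroup.coe_scalar, Matrix.scalar_apply,
        GeneralLinearGroup.mkOfDetNeZero, mul_comm]

end CfsgLib.Lie.DicksonSubfield
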