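import Cfsg.Agent.Lie.DicksonOdd

/-!
Dickson's two transvections in SL₂ of a finite field of odd characteristic.
-/

set_option autoImplicit false
set_option linter.unusedSectionVars false
set_option linter.unusedSimpArgs false
set_option linter.style.haveILetI false

namespace CfsgLib.Lie.DicksonTransvections

open Matrix ProjLine DicksonLine DicksonPGL DicksonCor DicksonSubfield

/-! ### The exceptional group over nine elements -/

def dadd (d e : ℕ) : ℕ := (d % 3 + e % 3) % 3 + 3 * ((d / 3 + e / 3) % 3)

def dmul (d : ℕ) : ℕ := (3 - d / 3) % 3 + 3 * (d % 3)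

def enc (a b c d : ℕ) : ℕ := a + 9 * b + 81 * c + 729 * d

def step1 (n : ℕ) : ℕ :=
  enc (dadd (n % 9) (n / 9 % 9)) (n / 9 % 9) (dadd (n / 81 % 9) (n / 729 % 9)) (n / 729 % 9)

def step2 (n : ℕ) : ℕ :=
  enc (n % 9) (dadd (dmul (n % 9)) (n / 9 % 9)) (n / 81 % 9) (dadd (dmul (n / 81 % 9)) (n / 729 % 9))

def codes : List ℕ :=
  [387, 392, 394, 477, 481, 485, 603, 607, 611, 693, 698, 700, 730, 757, 784, 811, 841, 871, 892, 925,
  949, 1460, 1487, 1514, 1541, 1574, 1598, 1622, 1652, 1682, 2193, 2202, 2211, 2436, 2446, 2456, 2679, 2690, 2698, 3013,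
  3025, 3073, 3103, 3118, 3133, 3183, 3203, 3220, 3338, 3352, 3393, 3417, 3436, 3482, 3509, 3519, 3541, 3743, 3776, 3782,
  3833, 3836, 3875, 3903, 3940, 3950, 3994, 4001, 4032, 4155, 4166, 4201, 4309, 4338, 4352, 4377, 4386, 4395, 4620, 4631,
  4639, 4863, 4873, 4883, 5197, 5236, 5239, 5287, 5293, 5335, 5358, 5396, 5404, 5450, 5461, 5490, 5610, 5620, 5657, 5765,
  5796, 5812, 5927, 5942, 5993, 6017, 6038, 6050, 6096, 6115, 6134, 6250, 6272, 6309, 6330, 6350, 6394, 6421, 6435, 6461]

theorem zmod3_norm : ∀ a b : ZMod 3, a * a + b * b = 0 → a = 0 ∧ b = 0 := by decide +kernel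

theorem codes_len : codes.length = 120 := by decide +kernel

theorem one_mem_codes : enc 1 0 0 1 ∈ codes := by decide +kernel

theorem codes_closed : ∀ n ∈ codes, step1 n ∈ codes ∧ step2 n ∈ codes := by decide +kernel

section

variable {F : Type*} [Field F]

def val (lam : F) (d : ℕ) : F := ((d % 3 : ℕ) : F) + ((d / 3 : ℕ) : F) * lam

theorem val_dadd [CharP F 3] (lam : F) (d e : ℕ) : val lam (dadd d e) = val lam d + val lam e := by
  unfold val dadd
  rw [show ((d % 3 + e % 3) % 3 + 3 * ((d / 3 + e / 3) % 3)) % 3 = (d % 3 + e % 3) % 3 by omega,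
    show ((d % 3 + e % 3) % 3 + 3 * ((d / 3 + e / 3) % 3)) / 3 = (d / 3 + e / 3) % 3 by omega]
  have hc : ∀ x : ℕ, ((x % 3 : ℕ) : F) = x := fun x =>
    (CharP.natCast_eq_natCast F 3).2 (Nat.mod_modEq x 3)
  rw [hc (d % 3 + e % 3), hc (d / 3 + e / 3), Nat.cast_add, Nat.cast_add]
  ring

theorem val_dmul [CharP F 3] (lam : F) (hl : lam ^ 2 = -1) (d : ℕ) (hd : d < 9) :
    val lam (dmul d) = lam * val lam d := by
  unfold val dmul
  rw [show ((3 - d / 3) % 3 + 3 * (d % 3)) % 3 = (3 - d / 3) % 3 by omega,
    show ((3 - d / 3) % 3 + 3 * (d % 3)) / 3 = d % 3 by omega]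
  have hc : ∀ x : ℕ, ((x % 3 : ℕ) : F) = x := fun x =>
    (CharP.natCast_eq_natCast F 3).2 (Nat.mod_modEq x 3)
  rw [hc (3 - d / 3), Nat.cast_sub (show d / 3 ≤ 3 by omega), CharP.cast_eq_zero F 3]
  linear_combination (-((d / 3 : ℕ) : F)) * hl

theorem val_small (lam : F) : val lam 0 = 0 ∧ val lam 1 = 1 := by simp [val]

def toMat (lam : F) (n : ℕ) : Matrix (Fin 2) (Fin 2) F :=
  !![val lam (n % 9), val lam (n / 9 % 9); val lam (n / 81 % 9), val lam (n / 729 % 9)]

theorem toMat_enc (lam : F) {a b c d : ℕ} (ha : a < 9) (hb : b < 9) (hc : c < 9) (hd : d < 9) :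
    toMat lam (enc a b c d) = !![val lam a, val lam b; val lam c, val lam d] := by
  unfold toMat enc
  rw [show (a + 9 * b + 81 * c + 729 * d) % 9 = a by omega, show (a + 9 * b + 81 * c + 729 * d) / 9 % 9 = b by omega,
    show (a + 9 * b + 81 * c + 729 * d) / 81 % 9 = c by omega,
    show (a + 9 * b + 81 * c + 729 * d) / 729 % 9 = d by omega]

theorem dadd_lt (d e : ℕ) : dadd d e < 9 := by unfold dadd; omega

theorem toMat_step1 [CharP F 3] (lam : F) (n : ℕ) :
    toMat lam (step1 n) = toMat lam n * !![1, 0; 1, 1] := by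
  rw [step1, toMat_enc lam (dadd_lt _ _) (Nat.mod_lt _ (by norm_num)) (dadd_lt _ _) (Nat.mod_lt _ (by norm_num)),
    val_dadd, val_dadd]
  ext i j
  fin_cases i <;> fin_cases j <;> simp [toMat, Matrix.mul_apply, Fin.sum_univ_two]

theorem toMat_step2 [CharP F 3] (lam : F) (hl : lam ^ 2 = -1) (n : ℕ) :
    toMat lam (step2 n) = toMat lam n * !![1, lam; 0, 1] := by
  rw [step2, toMat_enc lam (Nat.mod_lt _ (by norm_num)) (dadd_lt _ _) (Nat.mod_lt _ (by norm_num)) (dadd_lt _ _),
    val_dadd, val_dadd, val_dmul lam hl _ (Nat.mod_lt _ (by norm_num)), val_dmul lam hl _ (Nat.mod_lt _ (by norm_num))]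
  ext i j
  fin_cases i <;> fin_cases j <;> simp [toMat, Matrix.mul_apply, Fin.sum_univ_two, mul_comm lam]

end

variable {F : Type*} [Field F] [Fintype F]

local notation "SL₂" => Matrix.SpecialLinearGroup (Fin 2) F

theorem val_one : (1 : SL₂).1 = 1 := rfl

theorem val_inv (A : SL₂) : (A⁻¹).1 = A.1.adjugate := rfl

theorem val_neg_one : (-1 : SL₂).1 = -1 := by
  exact (SpecialLinearGroup.coe_neg (1 : SL₂)).trans (congrArg Neg.neg val_one)

theorem eq_pm {v : SL₂} (h : (QuotientGroup.mk v : Matrix.ProjectiveSpecialLinearGroup (Fin 2) F) = 1) :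
    v = 1 ∨ v = -1 :=
  (coe_central h).imp (fun e => Subtype.ext (e.trans val_one.symm)) (fun e => Subtype.ext (e.trans val_neg_one.symm))

theorem card_closure_le [CharP F 3] (lam : F) (hl : lam ^ 2 = -1) :
    Nat.card ↥(Subgroup.closure {g : SL₂ | (g : Matrix (Fin 2) (Fin 2) F) = !![1, 0; 1, 1] ∨
      (g : Matrix (Fin 2) (Fin 2) F) = !![1, lam; 0, 1]}) ≤ 120 := by
  classical
  obtain ⟨S, hS⟩ : ∃ S : Finset (Matrix (Fin 2) (Fin 2) F), S = codes.toFinset.image (toMat lam) := ⟨_, rfl⟩
  have hone : (1 : Matrix (Fin 2) (Fin 2) F) ∈ S := by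
    rw [hS, Finset.mem_image]
    refine ⟨_, List.mem_toFinset.2 one_mem_codes, ?_⟩
    rw [toMat_enc lam (by norm_num) (by norm_num) (by norm_num) (by norm_num), (val_small lam).1, (val_small lam).2,
      Matrix.one_fin_two]
  have hstep : ∀ (g : SL₂), (g.1 = !![1, 0; 1, 1] ∨ g.1 = !![1, lam; 0, 1]) → ∀ M ∈ S, M * g.1 ∈ S := by
    intro g hg M hM
    rw [hS, Finset.mem_image] at hM ⊢
    obtain ⟨n, hn, rfl⟩ := hM
    rw [List.mem_toFinset] at hn
    rcases hg with e | e <;> rw [e]
    · exact ⟨step1 n, List.mem_toFinset.2 (codes_closed n hn).1, toMat_step1 lam n⟩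
    · exact ⟨step2 n, List.mem_toFinset.2 (codes_closed n hn).2, toMat_step2 lam hl n⟩
  have hcube : ∀ (g : SL₂), (g.1 = !![1, 0; 1, 1] ∨ g.1 = !![1, lam; 0, 1]) → g⁻¹ = g * g := by
    intro g hg
    refine inv_eq_of_mul_eq_one_right (Subtype.ext ?_)
    have h3 : (3 : F) = 0 := CharP.cast_eq_zero F 3
    rw [val_mul, val_mul, val_one]
    rcases hg with e | e <;> rw [e] <;> ext i j <;> fin_cases i <;> fin_cases j <;>
      simp [Matrix.mul_apply, Fin.sum_univ_two] <;> first | linear_combination h3 | linear_combination lam * h3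
  have hmem : ∀ x ∈ Subgroup.closure {g : SL₂ | (g : Matrix (Fin 2) (Fin 2) F) = !![1, 0; 1, 1] ∨
      (g : Matrix (Fin 2) (Fin 2) F) = !![1, lam; 0, 1]}, x.1 ∈ S := by
    intro x hx
    induction hx using Subgroup.closure_induction_right with
    | one => simpa using hone
    | mul_right x _ y hy ih =>
      rw [val_mul]; exact hstep y hy _ ih
    | mul_inv_cancel x _ y hy ih =>
      rw [hcube y hy, val_mul, val_mul, ← mul_assoc]
      exact hstep y hy _ (hstep y hy _ ih)
  refine le_trans (Nat.card_le_card_of_injective (fun x => (⟨x.1.1, hmem _ x.2⟩ : S))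
    (fun a b e => Subtype.ext (Subtype.ext (congrArg Subtype.val e : _)))) ?_
  rw [Nat.card_eq_finsetCard, hS]
  exact Finset.card_image_le.trans ((List.toFinset_card_le _).trans codes_len.le)

/-- squared traces in a subfield group -/
theorem tr_sq_mem {K : Type*} [Field K] (κ : K →+* F) (k : Matrix.ProjGenLinGroup (Fin 2) F) (A : SL₂)
    (h : k⁻¹ * ProjGenLinGroup.mk (SpecialLinearGroup.toGL A) * k ∈ (mapPGL κ).range) :
    (A.1 0 0 + A.1 1 1) ^ 2 ∈ κ.fieldRange := by
  induction k using Matrix.ProjGenLinGroup.induction_on with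
  | mk k₀ =>
    obtain ⟨g, hg⟩ := h
    induction g using Matrix.ProjGenLinGroup.induction_on with
    | mk B =>
      rw [mapPGL_mk, ← map_inv, ← map_mul, ← map_mul] at hg
      obtain ⟨s, hs⟩ := ProjGenLinGroup.mk_eq_mk_iff.1 hg
      have hs' : (k₀⁻¹).1 * A.1 * k₀.1 = (s : F) • (GeneralLinearGroup.map κ B).1 := by
        have := congrArg Units.val hs
        rw [Units.val_mul, Units.val_mul, Units.val_mul] at this
        change _ = (k₀⁻¹).1 * A.1 * k₀.1 at this
        rw [← this]
        ext i j
        fin_cases i <;> fin_cases j <;>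
          simp [Matrix.mul_apply, Fin.sum_univ_two, GeneralLinearGroup.coe_scalar, Matrix.scalar_apply, mul_comm]
      have hdet : (1 : F) = (s : F) ^ 2 * κ B.1.det := by
        have := congrArg Matrix.det hs'
        rw [Matrix.det_units_conj', Matrix.det_smul, A.2, Fintype.card_fin] at this
        rw [this]
        congr 1
        exact (κ.map_det B.1).symm
      have htr : A.1 0 0 + A.1 1 1 = (s : F) * κ (B.1 0 0 + B.1 1 1) := by
        have := congrArg Matrix.trace hs'
        rw [Matrix.trace_units_conj', Matrix.trace_smul, Matrix.trace_fin_two, Matrix.trace_fin_two, smul_eq_mul] at this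
        rw [map_add, this]
        simp
      refine RingHom.mem_fieldRange.2 ⟨(B.1 0 0 + B.1 1 1) ^ 2 / B.1.det, ?_⟩
      rw [htr, map_div₀, map_pow, div_eq_iff ((map_ne_zero κ).2 B.det_ne_zero)]
      linear_combination (κ (B.1 0 0 + B.1 1 1)) ^ 2 * hdet

theorem dickson_two (h2 : (2 : F) ≠ 0) (lam : F) (hlam : lam ≠ 0) (hgen : Subfield.closure ({lam} : Set F) = ⊤) :
    ((Subgroup.closure {g : SL₂ | (g : Matrix (Fin 2) (Fin 2) F) = !![1, 0; 1, 1] ∨
        (g : Matrix (Fin 2) (Fin 2) F) = !![1, lam; 0, 1]}) = ⊤ ∧ ¬ (Fintype.card F = 9 ∧ lam ^ 2 = -1)) ∨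
      (Fintype.card F = 9 ∧ lam ^ 2 = -1 ∧ Nat.card ↥(Subgroup.closure {g : SL₂ |
        (g : Matrix (Fin 2) (Fin 2) F) = !![1, 0; 1, 1] ∨ (g : Matrix (Fin 2) (Fin 2) F) = !![1, lam; 0, 1]}) = 120) := by
  classical
  obtain ⟨G, hGdef⟩ : ∃ G : Subgroup SL₂, G = Subgroup.closure {g : SL₂ | (g : Matrix (Fin 2) (Fin 2) F) = !![1, 0; 1, 1] ∨
      (g : Matrix (Fin 2) (Fin 2) F) = !![1, lam; 0, 1]} := ⟨_, rfl⟩
  rw [← hGdef]
  obtain ⟨p, hpc⟩ := CharP.exists F
  haveI hp : Fact p.Prime := ⟨CharP.char_is_prime F p⟩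
  obtain ⟨n, -, hq⟩ := FiniteField.card F p
  have hp2 : p ≠ 2 := by rintro rfl; exact h2 (CharP.cast_eq_zero F 2)
  have hodd : Fintype.card F % 2 = 1 :=
    FiniteField.odd_card_of_char_ne_two (fun h => hp2 ((ringChar.eq F p).symm.trans h))
  let π : SL₂ →* Matrix.ProjectiveSpecialLinearGroup (Fin 2) F := QuotientGroup.mk' _
  let H := G.map π
  obtain ⟨u, hu⟩ : ∃ u : SL₂, u.1 = !![1, 0; 1, 1] := ⟨⟨_, by simp [Matrix.det_fin_two]⟩, rfl⟩
  obtain ⟨w, hw⟩ : ∃ w : SL₂, w.1 = !![1, lam; 0, 1] := ⟨⟨_, by simp [Matrix.det_fin_two]⟩, rfl⟩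
  have hwi : (w⁻¹).1 = !![1, -lam; 0, 1] := by
    rw [val_inv, hw, Matrix.adjugate_fin_two_of]; simp
  have huG : u ∈ G := hGdef ▸ Subgroup.subset_closure (Or.inl hu)
  have hwG : w ∈ G := hGdef ▸ Subgroup.subset_closure (Or.inr hw)
  have hord : ∀ v : SL₂, (∀ i : ℕ, (v ^ i).1 = !![1, 0; (i : F), 1]) ∨ (∀ i : ℕ, (v ^ i).1 = !![1, (i : F) * lam; 0, 1]) →
      π v ^ p = 1 := by
    intro v hv
    rw [← map_pow]
    refine (congrArg π (show v ^ p = 1 from Subtype.ext ?_)).trans (map_one π)
    rcases hv with e | e <;> rw [e p, CharP.cast_eq_zero] <;> simp [Matrix.one_fin_two]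
  have hup : π u ^ p = 1 := hord u (Or.inl fun i => by
    induction i with
    | zero => simp [Matrix.one_fin_two]
    | succ i ih =>
      rw [pow_succ, val_mul, ih, hu]
      ext a b; fin_cases a <;> fin_cases b <;> simp [Matrix.mul_apply, Fin.sum_univ_two])
  have hwp : π w ^ p = 1 := hord w (Or.inr fun i => by
    induction i with
    | zero => simp [Matrix.one_fin_two]
    | succ i ih =>
      rw [pow_succ, val_mul, ih, hw]
      ext a b; fin_cases a <;> fin_cases b <;> simp [Matrix.mul_apply, Fin.sum_univ_two] <;> ring)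
  have hne : ∀ v : SL₂, v.1 ≠ 1 → v.1 ≠ -1 → π v ≠ 1 := fun v a b e => (coe_central e).elim a b
  have hu1 : π u ≠ 1 := hne u (fun e => by simpa [hu] using congrFun (congrFun e 1) 0)
    (fun e => by simpa [hu] using congrFun (congrFun e 1) 0)
  have huH : π u ∈ H := Subgroup.mem_map_of_mem π huG
  have hwH : π w ∈ H := Subgroup.mem_map_of_mem π hwG
  obtain ⟨x, hx⟩ : ∃ x : SL₂, x = u * w := ⟨_, rfl⟩
  obtain ⟨y, hy⟩ : ∃ y : SL₂, y = u * w⁻¹ := ⟨_, rfl⟩
  have htx : x.1 0 0 + x.1 1 1 = 2 + lam := by
    rw [hx, val_mul, hu, hw]; simp [Matrix.mul_apply, Fin.sum_univ_two]; ring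
  have hty : y.1 0 0 + y.1 1 1 = 2 - lam := by
    rw [hy, val_mul, hu, hwi]; simp [Matrix.mul_apply, Fin.sum_univ_two]; ring
  have hx1 : π x ≠ 1 := by
    refine hne x (fun e => ?_) (fun e => ?_) <;>
    · have := congrFun (congrFun e 1) 0
      rw [hx, val_mul, hu, hw] at this
      simp [Matrix.mul_apply, Fin.sum_univ_two] at this
  have hy1 : π y ≠ 1 := by
    refine hne y (fun e => ?_) (fun e => ?_) <;>
    · have := congrFun (congrFun e 1) 0
      rw [hy, val_mul, hu, hwi] at this
      simp [Matrix.mul_apply, Fin.sum_univ_two] at this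
  have hxH : π x ∈ H := Subgroup.mem_map_of_mem π (hx ▸ mul_mem huG hwG)
  have hyH : π y ∈ H := Subgroup.mem_map_of_mem π (hy ▸ mul_mem huG (inv_mem hwG))
  -- the prime field
  have hprime : ∀ m : ℤ, lam = (m : F) → Fintype.card F = p := by
    intro m hm
    have hsur : Function.Surjective (ZMod.castHom (dvd_refl p) F) := by
      have : lam ∈ (ZMod.castHom (dvd_refl p) F).fieldRange :=
        RingHom.mem_fieldRange.2 ⟨(m : ZMod p), by rw [map_intCast, hm]⟩
      have h : (ZMod.castHom (dvd_refl p) F).fieldRange = ⊤ := top_le_iff.1 (hgen ▸ Subfield.closure_le.2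
        (Set.singleton_subset_iff.2 this))
      exact fun a => RingHom.mem_fieldRange.1 (h ▸ Subfield.mem_top a)
    have h1 := Fintype.card_le_of_surjective _ hsur
    rw [ZMod.card] at h1
    have h2' : p ≤ Fintype.card F := hq ▸ Nat.le_self_pow n.ne_zero p
    omega
  have hN := card_PSL F
  rw [Nat.gcd_eq_left (show 2 ∣ Fintype.card F - 1 by omega)] at hN
  have key : H = ⊤ ∨ (Fintype.card F = 9 ∧ lam ^ 2 = -1 ∧ Nat.card H = 60) := by
    let φ := (ProjectiveSpecialLinearGroup.toPGL (n := Fin 2) (R := F)).comp H.subtype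
    have hφ : Function.Injective φ := ProjectiveSpecialLinearGroup.toPGL_injective.comp H.subtype_injective
    have hop : orderOf (⟨π u, huH⟩ : H) = p := by
      rw [Subgroup.orderOf_mk]; exact orderOf_eq_prime hup hu1
    have hpd : p ∣ Nat.card H := hop ▸ orderOf_dvd_natCard _
    have hcard : ∀ c, Nat.card H = c → Nat.card (Matrix.ProjectiveSpecialLinearGroup (Fin 2) F) ≤ c → H = ⊤ :=
      fun c h h' => Subgroup.eq_top_of_le_card _ (h ▸ h')
    rcases dickson p φ hφ with
      ⟨z, hz, -, -, -⟩ | ⟨hc, -, -⟩ | ⟨k, hk, ⟨hke, -⟩, ⟨t⟩⟩ | ⟨-, ⟨t⟩⟩ | ⟨-, ⟨t⟩⟩ | ⟨-, ⟨t⟩⟩ |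
      ⟨K, iK, iF, m, hm, h3, κ, k, hrange, e⟩
    · exfalso
      have e1 : φ ⟨π w, hwH⟩ = DicksonBig.T lam := by
        show ProjGenLinGroup.mk (SpecialLinearGroup.toGL w) = _
        rw [DicksonBig.T]; congr 1; exact Units.ext hw
      have e2 : φ ⟨π u, huH⟩ = DicksonBig.L 1 := by
        show ProjGenLinGroup.mk (SpecialLinearGroup.toGL u) = _
        rw [DicksonBig.L]; congr 1; exact Units.ext hu
      rcases pt_cases z with rfl | ⟨a, rfl⟩
      · have := hz ⟨π u, huH⟩
        rw [e2, DicksonBig.L_smul_P0 one_ne_zero] at this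
        exact pt_ne_P0 _ this
      · have := hz ⟨π w, hwH⟩
        rw [e1, DicksonBig.T_smul_pt] at this
        exact hlam (by simpa using pt_inj this)
    · exfalso
      haveI := hc
      have hcomm : π (u * w) = π (w * u) := by
        letI := IsCyclic.commGroup (α := H)
        rw [map_mul, map_mul]
        exact congrArg Subtype.val (mul_comm (⟨π u, huH⟩ : H) ⟨π w, hwH⟩)
      rw [← inv_mul_eq_one, ← map_inv, ← map_mul] at hcomm
      rcases eq_pm (v := (u * w)⁻¹ * (w * u)) hcomm with e | e
      · have h := congrArg Subtype.val (show u * w = w * u from (inv_mul_eq_one (G := SL₂)).1 e)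
        rw [val_mul, val_mul, hu, hw] at h
        have h00 := congrFun (congrFun h 0) 0
        simp [Matrix.mul_apply, Fin.sum_univ_two] at h00
        exact hlam h00
      · have h := congrArg Subtype.val (show w * u = u * w * (-1 : SL₂) from (inv_mul_eq_iff_eq_mul (G := SL₂)).1 e)
        rw [val_mul w u, val_mul (u * w) (-1), val_mul u w, val_neg_one, hu, hw, mul_neg, mul_one] at h
        have h01 := congrFun (congrFun h 0) 1
        simp [Matrix.mul_apply, Fin.sum_univ_two] at h01
        have : (2 : F) * lam = 0 := by linear_combination h01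
        exact hlam ((mul_eq_zero.1 this).resolve_left h2)
    · exfalso
      rw [Nat.card_congr t.toEquiv, DihedralGroup.nat_card] at hpd
      have hpk : p ∣ k := (hp.out.dvd_mul.1 hpd).resolve_left fun h =>
        hp2 ((Nat.prime_dvd_prime_iff_eq hp.out Nat.prime_two).1 h)
      have hpq : p ∣ Fintype.card F := hq ▸ dvd_pow_self p n.ne_zero
      rcases hke with h | h
      · have := Nat.dvd_sub hpq (hpk.trans h)
        rw [show Fintype.card F - (Fintype.card F - 1) = 1 by have := Fintype.card_pos (α := F); omega] at this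
        exact hp.out.not_dvd_one this
      · exact hp.out.not_dvd_one ((Nat.dvd_add_right hpq).1 (hpk.trans h))
    · -- A₄
      left
      have hcH : Nat.card H = 12 := by rw [Nat.card_congr t.toEquiv, nat_card_alternatingGroup, Nat.card_fin]; rfl
      refine hcard 12 hcH ?_
      have hp3 : p = 3 := by
        rw [hcH] at hpd
        rcases hp.out.dvd_mul.1 (show p ∣ 3 * 4 from hpd) with h | h
        · exact (Nat.prime_dvd_prime_iff_eq hp.out Nat.prime_three).1 h
        · exact absurd ((Nat.prime_dvd_prime_iff_eq hp.out Nat.prime_two).1 (hp.out.dvd_of_dvd_pow (n := 2) h)) hp2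
      have hd : ∀ a : alternatingGroup (Fin 4), a ^ 2 = 1 ∨ a ^ 3 = 1 := by decide +kernel
      have hqp : Fintype.card F = p := by
        have back : ∀ m, t ⟨π x, hxH⟩ ^ m = 1 → π x ^ m = 1 := fun m h => by
          rw [← map_pow, MulEquiv.map_eq_one_iff] at h
          exact congrArg Subtype.val h
        rcases hd (t ⟨π x, hxH⟩) with h | h
        · exact hprime (-2) (by have := tr_two hx1 (back 2 h); rw [htx] at this; push_cast; linear_combination this)
        · rcases tr_three hx1 (back 3 h) with e | e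
          · exact hprime (-1) (by rw [htx] at e; push_cast; linear_combination e)
          · exact hprime (-3) (by rw [htx] at e; push_cast; linear_combination e)
      rw [hqp, hp3] at hN; omega
    · -- S₄
      exfalso
      have hcH : Nat.card H = 24 := by rw [Nat.card_congr t.toEquiv, Nat.card_perm, Nat.card_fin]; rfl
      have hp3 : p = 3 := by
        rw [hcH] at hpd
        rcases hp.out.dvd_mul.1 (show p ∣ 3 * 8 from hpd) with h | h
        · exact (Nat.prime_dvd_prime_iff_eq hp.out Nat.prime_three).1 h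
        · exact absurd ((Nat.prime_dvd_prime_iff_eq hp.out Nat.prime_two).1 (hp.out.dvd_of_dvd_pow (n := 3) h)) hp2
      have hd : ∀ a b : Equiv.Perm (Fin 4), (a * a * (b * b)) ^ 2 = 1 ∨ (a * a * (b * b)) ^ 3 = 1 := by decide +kernel
      have hsq : ∀ g : H, g ^ 3 = 1 → (g * g) * (g * g) = g := fun g h => by
        rw [show g * g * (g * g) = g ^ 3 * g by rw [pow_succ, pow_two]; simp only [mul_assoc], h, one_mul]
      have hx' : t ⟨π x, hxH⟩ = t (⟨π u, huH⟩ * ⟨π u, huH⟩) * t (⟨π u, huH⟩ * ⟨π u, huH⟩) *
          (t (⟨π w, hwH⟩ * ⟨π w, hwH⟩) * t (⟨π w, hwH⟩ * ⟨π w, hwH⟩)) := by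
        rw [← map_mul, ← map_mul, ← map_mul, hsq _ (Subtype.ext (hp3 ▸ hup)), hsq _ (Subtype.ext (hp3 ▸ hwp))]
        congr 1
        exact Subtype.ext ((congrArg π hx).trans (map_mul π u w))
      have back : ∀ m, t ⟨π x, hxH⟩ ^ m = 1 → π x ^ m = 1 := fun m h => by
        rw [← map_pow, MulEquiv.map_eq_one_iff] at h
        exact congrArg Subtype.val h
      have hqp : Fintype.card F = p := by
        rcases hd (t (⟨π u, huH⟩ * ⟨π u, huH⟩)) (t (⟨π w, hwH⟩ * ⟨π w, hwH⟩)) with h | h <;> rw [← hx'] at h
        · exact hprime (-2) (by have := tr_two hx1 (back 2 h); rw [htx] at this; push_cast; linear_combination this)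
        · rcases tr_three hx1 (back 3 h) with e | e
          · exact hprime (-1) (by rw [htx] at e; push_cast; linear_combination e)
          · exact hprime (-3) (by rw [htx] at e; push_cast; linear_combination e)
      rw [hqp, hp3] at hN
      have := Subgroup.card_le_card_group H
      omega
    · -- A₅
      have hcH : Nat.card H = 60 := by rw [Nat.card_congr t.toEquiv, nat_card_alternatingGroup, Nat.card_fin]; rfl
      have hd : ∀ a : alternatingGroup (Fin 5), a ^ 2 = 1 ∨ a ^ 3 = 1 ∨ a ^ 5 = 1 := by decide +kernel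
      have back : ∀ (g : H) (m : ℕ), t g ^ m = 1 → (g : Matrix.ProjectiveSpecialLinearGroup (Fin 2) F) ^ m = 1 :=
        fun g m h => by
          rw [← map_pow, MulEquiv.map_eq_one_iff] at h
          exact congrArg Subtype.val h
      have hp35 : p = 3 ∨ p = 5 := by
        rw [hcH] at hpd
        rcases hp.out.dvd_mul.1 (show p ∣ 15 * 4 from hpd) with h | h
        · rcases hp.out.dvd_mul.1 (show p ∣ 3 * 5 from h) with h | h
          · exact Or.inl ((Nat.prime_dvd_prime_iff_eq hp.out Nat.prime_three).1 h)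
          · exact Or.inr ((Nat.prime_dvd_prime_iff_eq hp.out Nat.prime_five).1 h)
        · exact absurd ((Nat.prime_dvd_prime_iff_eq hp.out Nat.prime_two).1 (hp.out.dvd_of_dvd_pow (n := 2) h)) hp2
      rcases hp35 with rfl | rfl
      · right
        have hnp : Fintype.card F ≠ 3 := fun e => by
          rw [e] at hN
          have := Subgroup.card_le_card_group H
          omega
        have h3 : (3 : F) = 0 := CharP.cast_eq_zero F 3
        have hnoint : ∀ m : ℤ, lam ≠ (m : F) := fun m hm => hnp (hprime m hm)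
        have hl : lam ^ 2 = -1 := by
          rcases hd (t ⟨π x, hxH⟩) with h | h | h
          · exact absurd (show lam = ((-2 : ℤ) : F) by
              have := tr_two hx1 (back _ _ h); rw [htx] at this; push_cast; linear_combination this) (hnoint _)
          · rcases tr_three hx1 (back _ _ h) with e | e <;> rw [htx] at e
            · exact absurd (show lam = ((-1 : ℤ) : F) by push_cast; linear_combination e) (hnoint _)
            · exact absurd (show lam = ((-3 : ℤ) : F) by push_cast; linear_combination e) (hnoint _)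
          rcases tr_five hx1 (back _ _ h) with e | e <;> rw [htx] at e
          · linear_combination e + (-lam) * h3 + (1 - 0) * 0
          exfalso
          have h' : lam ^ 2 = lam + 1 := by linear_combination e - (2 + 2 * lam) * h3
          have hsq : (2 - lam) ^ 2 = 2 := by linear_combination h' + (1 - lam) * h3
          rcases hd (t ⟨π y, hyH⟩) with g | g | g
          · have := tr_two hy1 (back _ _ g)
            rw [hty] at this
            rw [this] at hsq
            exact h2 (by linear_combination -hsq)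
          · rcases tr_three hy1 (back _ _ g) with e' | e' <;> rw [hty] at e' <;> rw [e'] at hsq <;>
              exact one_ne_zero (α := F) (by linear_combination -hsq)
          · rcases tr_five hy1 (back _ _ g) with e' | e' <;> rw [hty] at e'
            · exact hnoint 1 (by push_cast; linear_combination e' - hsq)
            · exact hnoint 3 (by push_cast; linear_combination hsq - e')
        refine ⟨?_, hl, hcH⟩
        have hle : Fintype.card F ≤ 9 := by
          let T : Subfield F :=
            { carrier := {z | ∃ a b : ZMod 3, z = ZMod.castHom (dvd_refl 3) F a + ZMod.castHom (dvd_refl 3) F b * lam}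
              mul_mem' := by
                rintro _ _ ⟨a, b, rfl⟩ ⟨c, d, rfl⟩
                exact ⟨a * c - b * d, a * d + b * c, by
                  simp only [map_add, map_sub, map_mul]
                  linear_combination (ZMod.castHom (dvd_refl 3) F b) * (ZMod.castHom (dvd_refl 3) F d) * hl⟩
              one_mem' := ⟨1, 0, by simp⟩
              add_mem' := by
                rintro _ _ ⟨a, b, rfl⟩ ⟨c, d, rfl⟩
                exact ⟨a + c, b + d, by simp only [map_add]; ring⟩
              zero_mem' := ⟨0, 0, by simp⟩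
              neg_mem' := by
                rintro _ ⟨a, b, rfl⟩
                exact ⟨-a, -b, by simp only [map_neg]; ring⟩
              inv_mem' := by
                rintro _ ⟨a, b, rfl⟩
                by_cases hab : a * a + b * b = 0
                · have : a = 0 ∧ b = 0 := zmod3_norm a b hab
                  exact ⟨0, 0, by simp [this.1, this.2]⟩
                · refine ⟨a / (a * a + b * b), -b / (a * a + b * b), inv_eq_of_mul_eq_one_right ?_⟩
                  have h' : ZMod.castHom (dvd_refl 3) F (a * a + b * b) ≠ 0 := (map_ne_zero _).2 hab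
                  rw [map_div₀, map_div₀]
                  simp only [map_add, map_mul, map_neg] at h' ⊢
                  generalize ZMod.castHom (dvd_refl 3) F a = A at h' ⊢
                  generalize ZMod.castHom (dvd_refl 3) F b = B at h' ⊢
                  rw [show (A + B * lam) * (A / (A * A + B * B) + -B / (A * A + B * B) * lam) =
                    ((A + B * lam) * (A - B * lam)) / (A * A + B * B) by ring,
                    show (A + B * lam) * (A - B * lam) = A * A + B * B by linear_combination -B ^ 2 * hl, div_self h'] }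
          have hT : T = ⊤ := top_le_iff.1 (hgen ▸ Subfield.closure_le.2
            (Set.singleton_subset_iff.2 (show lam ∈ T from ⟨0, 1, by simp⟩)))
          have hsur : Function.Surjective (fun ab : ZMod 3 × ZMod 3 =>
              ZMod.castHom (dvd_refl 3) F ab.1 + ZMod.castHom (dvd_refl 3) F ab.2 * lam) := fun z => by
            obtain ⟨a, b, rfl⟩ := (show z ∈ T from hT ▸ Subfield.mem_top z)
            exact ⟨(a, b), rfl⟩
          have := Fintype.card_le_of_surjective _ hsur
          simpa using this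
        rcases Nat.lt_or_ge (n : ℕ) 2 with hn | hn
        · exfalso
          have h1 : (n : ℕ) = 1 := by have := n.pos; omega
          exact hnp (by rw [hq, h1, pow_one])
        · have : 3 ^ 2 ≤ 3 ^ (n : ℕ) := Nat.pow_le_pow_right (by norm_num) hn
          omega
      · left
        refine hcard 60 hcH ?_
        have h5 : (5 : F) = 0 := CharP.cast_eq_zero F 5
        have hqp : Fintype.card F = 5 := by
          rcases hd (t ⟨π x, hxH⟩) with h | h | h
          · exact hprime (-2) (by have := tr_two hx1 (back _ _ h); rw [htx] at this; push_cast; linear_combination this)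
          · rcases tr_three hx1 (back _ _ h) with e | e <;> rw [htx] at e
            · exact hprime (-1) (by push_cast; linear_combination e)
            · exact hprime (-3) (by push_cast; linear_combination e)
          · rcases tr_five hx1 (back _ _ h) with e | e <;> rw [htx] at e
            · refine hprime 1 ?_
              have : (lam - 1) * (lam - 1) = 0 := by linear_combination e - lam * h5
              push_cast; linear_combination (mul_self_eq_zero.1 this)
            · refine hprime 0 ?_
              have : lam * lam = 0 := by linear_combination e - (lam + 1) * h5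
              push_cast; exact mul_self_eq_zero.1 this
        rw [hqp] at hN; omega
    · left
      have hmem : ∀ v : SL₂, (hv : π v ∈ H) → (v.1 0 0 + v.1 1 1) ^ 2 ∈ κ.fieldRange := fun v hv =>
        tr_sq_mem κ k v (hrange ⟨π v, hv⟩)
      have h8 : (8 : F) ≠ 0 := by
        rw [show (8 : F) = 2 ^ 3 by norm_num]; exact pow_ne_zero _ h2
      have hl : lam ∈ κ.fieldRange := by
        have h1 := hmem x hxH
        have h1' := hmem y hyH
        rw [htx] at h1; rw [hty] at h1'
        have h8m : (8 : F) ∈ κ.fieldRange := ⟨8, map_ofNat κ 8⟩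
        have := div_mem (sub_mem h1 h1') h8m
        rwa [show ((2 + lam) ^ 2 - (2 - lam) ^ 2) / 8 = lam by rw [div_eq_iff h8]; ring] at this
      have htop : κ.fieldRange = ⊤ := top_le_iff.1 (hgen ▸ Subfield.closure_le.2 (Set.singleton_subset_iff.2 hl))
      have hKF : Fintype.card K = Fintype.card F :=
        Fintype.card_of_bijective ⟨κ.injective, fun a => RingHom.mem_fieldRange.1 (htop ▸ Subfield.mem_top a)⟩
      refine hcard _ rfl ?_
      rcases e with ⟨⟨t⟩⟩ | ⟨⟨t⟩⟩
      · rw [Nat.card_congr t.toEquiv]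
        have h := card_PSL K
        rw [hKF, Nat.gcd_eq_left (show 2 ∣ Fintype.card F - 1 by omega)] at h
        omega
      · rw [Nat.card_congr t.toEquiv, card_PGL K, hKF]; omega
  -- back to SL₂
  have hHtot : Nat.card H ≤ Nat.card G :=
    Nat.card_le_card_of_surjective (π.subgroupMap G) (π.subgroupMap_surjective G)
  have hcenter : (-1 : SL₂) ∈ G := by
    have heven : 2 ∣ Nat.card H := by
      rcases key with e | ⟨-, -, e⟩
      · obtain ⟨W, hW⟩ : ∃ W : SL₂, W.1 = !![0, 1; -1, 0] := ⟨⟨_, by simp [Matrix.det_fin_two]⟩, rfl⟩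
        have hW1 : π W ≠ 1 := hne W (fun e => by simpa [hW] using congrFun (congrFun e 0) 1)
          (fun e => by simpa [hW] using congrFun (congrFun e 0) 1)
        have hW2 : π W ^ 2 = 1 := by
          rw [← map_pow]
          have hWW : W ^ 2 = -1 := by
            refine Subtype.ext ?_
            rw [val_pow, pow_two, hW, val_neg_one]
            ext i j
            fin_cases i <;> fin_cases j <;> simp [Matrix.mul_apply, Fin.sum_univ_two]
          rw [hWW]
          exact (QuotientGroup.eq_one_iff _).2 (PSLTwoSpec.mem_Z.2 (Or.inr rfl))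
        haveI : Fact (Nat.Prime 2) := ⟨Nat.prime_two⟩
        rw [e, Subgroup.card_top]
        have hdW := orderOf_dvd_natCard (π W)
        rwa [orderOf_eq_prime hW2 hW1] at hdW
      · rw [e]; norm_num
    have hd : 2 ∣ Nat.card G := heven.trans (Subgroup.card_dvd_of_surjective (π.subgroupMap G) (π.subgroupMap_surjective G))
    haveI : Fact (Nat.Prime 2) := ⟨Nat.prime_two⟩
    obtain ⟨g, hg⟩ := exists_prime_orderOf_dvd_card' (G := G) 2 hd
    have hg2 : (g : SL₂) ^ 2 = 1 := by
      have h := pow_orderOf_eq_one (g : SL₂)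
      rwa [Subgroup.orderOf_coe, hg] at h
    by_cases hgm : π (g : SL₂) = 1
    · rcases eq_pm hgm with e | e
      · exfalso
        rw [← Subgroup.orderOf_coe, e, orderOf_one] at hg
        omega
      · exact e ▸ g.2
    · exfalso
      have h := congrArg Subtype.val hg2
      rw [val_pow, pow_two, cayley, val_one] at h
      have h0 := coeff_zero hgm (u := (g : SL₂).1 0 0 + (g : SL₂).1 1 1) (w := 2)
        (by rw [two_smul]; linear_combination (norm := module) h)
      rw [h0, zero_smul, zero_sub] at h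
      have := congrFun (congrFun h 0) 0
      simp at this
      exact h2 (by linear_combination -this)
  rcases key with hH | ⟨h9, hl, hcH⟩
  · left
    have hG : G = ⊤ := by
      rw [eq_top_iff]
      intro a _
      obtain ⟨g, hg, hga⟩ := (show π a ∈ H from hH ▸ Subgroup.mem_top _)
      have : π (g⁻¹ * a) = 1 := by rw [map_mul, map_inv, hga, inv_mul_cancel]
      rcases eq_pm this with e | e
      · rw [← inv_mul_eq_one.1 e]; exact hg
      · rw [show a = g * -1 by rw [← e, mul_inv_cancel_left]]
        exact mul_mem hg hcenter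
    refine ⟨hG, ?_⟩
    rintro ⟨h9, hl⟩
    have hp3 : p = 3 := by
      have : p ∣ 3 ^ 2 := by rw [show (3 : ℕ) ^ 2 = Fintype.card F by rw [h9]; norm_num, hq]; exact dvd_pow_self p n.ne_zero
      exact (Nat.prime_dvd_prime_iff_eq hp.out Nat.prime_three).1 (hp.out.dvd_of_dvd_pow this)
    subst hp3
    have hle := card_closure_le lam hl
    rw [← hGdef] at hle
    rw [hH, Subgroup.card_top] at hHtot
    rw [h9] at hN
    omega
  · refine Or.inr ⟨h9, hl, ?_⟩
    have hk : (π.comp G.subtype).ker.index = 60 := by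
      rw [Subgroup.index_ker, MonoidHom.range_comp, Subgroup.range_subtype]; exact hcH
    have hkc : Nat.card (π.comp G.subtype).ker = 2 := by
      rw [Nat.card_eq_two_iff]
      refine ⟨⟨1, one_mem _⟩, ⟨⟨-1, hcenter⟩, (QuotientGroup.eq_one_iff _).2 (PSLTwoSpec.mem_Z.2 (Or.inr rfl))⟩, ?_, ?_⟩
      · intro e
        have := congrArg (fun z : (π.comp G.subtype).ker => ((z : G) : SL₂).1 0 0) e
        simp [SpecialLinearGroup.coe_neg] at this
        exact h2 (by linear_combination this)
      · refine Set.eq_univ_of_forall fun z => ?_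
        rcases eq_pm (show π ((z : G) : SL₂) = 1 from z.2) with e | e
        · left
          exact Subtype.ext (Subtype.ext e)
        · right
          exact Set.mem_singleton_iff.2 (Subtype.ext (Subtype.ext e))
    rw [← (π.comp G.subtype).ker.card_mul_index, hk, hkc]

end CfsgLib.Lie.DicksonTransvections
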