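import Cfsg.Agent.Lie.DicksonSubfield
import Cfsg.Agent.Lie.DicksonCentral
import Cfsg.Agent.Lie.DicksonDihedral
import Cfsg.Agent.Lie.DicksonMinSimple
import Mathlib.GroupTheory.Transfer

/-!
Which subgroups in Dickson's list are maximal in PSL₂.
-/

set_option autoImplicit false
set_option linter.unusedSectionVars false
set_option linter.unusedSimpArgs false
set_option linter.style.haveILetI false

namespace CfsgLib.Lie.DicksonTypes

open Matrix ProjLine DicksonLine DicksonPGL DicksonCor DicksonSubfield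

/-- a maximal subgroup is not the normaliser of a Sylow subgroup that a bigger proper subgroup normalises as well -/
theorem not_max_of_sylow {G : Type*} [Group G] [Finite G] {l : ℕ} [Fact l.Prime] (M : Subgroup G) (hM : IsCoatom M)
    (Q : Sylow l G) (hQ1 : ¬ (Q : Subgroup G).Normal)
    (hMn : M ≤ Subgroup.normalizer ((Q : Subgroup G) : Set G))
    (X : Subgroup G) (hX : X ≠ ⊤) (Y : Subgroup G) (hYX : Y ≤ X) (Q' : Subgroup G)
    (hcQ : Nat.card Q' = Nat.card (Q : Subgroup G)) (hYn : Y ≤ Subgroup.normalizer (Q' : Set G))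
    (hcY : Nat.card M ≤ Nat.card Y) (hlt : Nat.card M < Nat.card X) : False := by
  have hne : Subgroup.normalizer ((Q : Subgroup G) : Set G) ≠ ⊤ := fun e => hQ1 (Subgroup.normalizer_eq_top_iff.1 e)
  have hMeq : M = Subgroup.normalizer ((Q : Subgroup G) : Set G) :=
    hM.le_iff.1 hMn |>.resolve_left hne |>.symm
  obtain ⟨n, hn⟩ := IsPGroup.iff_card.1 Q.2
  have hcard' : Nat.card Q' = l ^ (Nat.card G).factorization l := hcQ.trans Q.card_eq_multiplicity
  obtain ⟨g, hg⟩ := MulAction.exists_smul_eq G (Sylow.ofCard Q' hcard') Q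
  have hgQ : Q'.map (MulAut.conj g).toMonoidHom = (Q : Subgroup G) := by
    rw [← hg, Sylow.coe_subgroup_smul]
    rfl
  have hYM : Y.map (MulAut.conj g).toMonoidHom ≤ M := by
    rw [hMeq]
    rintro _ ⟨y, hy, rfl⟩
    rw [← hgQ]
    have hmem := Subgroup.mem_normalizer_iff.1 (hYn hy)
    refine Subgroup.mem_normalizer_iff.2 fun h => ?_
    obtain ⟨h', rfl⟩ := (MulAut.conj g).surjective h
    show (MulAut.conj g) h' ∈ _ ↔ (MulAut.conj g) y * (MulAut.conj g) h' * ((MulAut.conj g) y)⁻¹ ∈ _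
    rw [← map_mul, ← map_inv, ← map_mul]
    exact (Subgroup.mem_map_iff_mem (MulAut.conj g).injective).trans
      ((hmem h').trans (Subgroup.mem_map_iff_mem (MulAut.conj g).injective).symm)
  have heq : Y.map (MulAut.conj g).toMonoidHom = M := Subgroup.eq_of_le_of_card_ge hYM
    (by rw [Subgroup.card_map_of_injective (MulAut.conj g).injective]; exact hcY)
  have hle : M ≤ X.map (MulAut.conj g).toMonoidHom := heq ▸ Subgroup.map_mono hYX
  rcases hM.le_iff.1 hle with e | e
  · refine hX (Subgroup.eq_top_of_card_eq X ?_)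
    rw [← Subgroup.card_map_of_injective (f := (MulAut.conj g).toMonoidHom) (MulAut.conj g).injective, e,
      Subgroup.card_top]
  · rw [← e, Subgroup.card_map_of_injective (MulAut.conj g).injective] at hlt
    exact lt_irrefl _ hlt

variable {F : Type*} [Field F] [Fintype F]

local notation "PSL₂" => Matrix.ProjectiveSpecialLinearGroup (Fin 2) F
local notation "toP" => ProjectiveSpecialLinearGroup.toPGL (n := Fin 2) (R := F)

theorem card_ge_sixty (h4 : 4 ≤ Fintype.card F) : 60 ≤ Nat.card PSL₂ := by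
  have h := card_PSL F
  rcases (show Fintype.card F = 4 ∨ 5 ≤ Fintype.card F by omega) with e | e
  · rw [e] at h; norm_num at h; omega
  · have h24 : 24 ≤ Fintype.card F ^ 2 - 1 := by have := Nat.pow_le_pow_left e 2; omega
    have h2 := Nat.mul_le_mul e h24
    have hg : Nat.gcd 2 (Fintype.card F - 1) ≤ 2 := Nat.gcd_le_left _ two_pos
    have := Nat.mul_le_mul_right (Nat.card PSL₂) hg
    omega

theorem four_dvd_card (h4 : 4 ≤ Fintype.card F) : 4 ∣ Nat.card PSL₂ := by
  have hN := card_PSL F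
  obtain ⟨q, hq⟩ : ∃ q, q = Fintype.card F := ⟨_, rfl⟩
  rw [← hq] at hN h4
  obtain ⟨p, hp⟩ := CharP.exists F
  haveI : Fact p.Prime := ⟨CharP.char_is_prime F p⟩
  obtain ⟨n, hp', hn⟩ := FiniteField.card F p
  rw [← hq] at hn
  by_cases h2 : p = 2
  · subst h2
    have hn2 : 2 ≤ (n : ℕ) := by
      by_contra h
      have : (n : ℕ) = 1 := by have := n.pos; omega
      rw [this] at hn; omega
    have h1 : Nat.gcd 2 (q - 1) = 1 := by
      rw [← Nat.coprime_iff_gcd_eq_one, Nat.prime_two.coprime_iff_not_dvd]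
      have : 2 ∣ q := hn ▸ dvd_pow_self 2 n.ne_zero
      omega
    rw [h1, one_mul] at hN
    rw [hN]
    exact ((show 4 ∣ 2 ^ (n : ℕ) from (show 2 ^ 2 ∣ 2 ^ (n : ℕ) from Nat.pow_dvd_pow 2 hn2))).trans
      (hn ▸ dvd_mul_right _ _)
  · have ho : q % 2 = 1 := by rw [hn, Nat.pow_mod, hp'.eq_two_or_odd.resolve_left h2, one_pow, Nat.one_mod]
    obtain ⟨t, rfl⟩ : ∃ t, q = 2 * t + 1 := ⟨q / 2, by omega⟩
    rw [show 2 * t + 1 - 1 = 2 * t by omega, Nat.gcd_eq_left (dvd_mul_right 2 t),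
      show (2 * t + 1) ^ 2 - 1 = 4 * (t * (t + 1)) by rw [show (2 * t + 1) ^ 2 = 4 * (t * (t + 1)) + 1 by ring]; omega]
      at hN
    obtain ⟨c, hc⟩ := (Nat.even_mul_succ_self t)
    rw [hc] at hN
    exact ⟨(2 * t + 1) * c, by linarith⟩

theorem two_mul_lt_card (h4 : 4 ≤ Fintype.card F) {e : ℕ}
    (he : e ∣ (Fintype.card F - 1) / Nat.gcd 2 (Fintype.card F - 1) ∨
      e ∣ (Fintype.card F + 1) / Nat.gcd 2 (Fintype.card F - 1)) : 2 * e < Nat.card PSL₂ := by
  have hN := card_PSL F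
  have hg := gcd_cases (Fintype.card F)
  obtain ⟨hd1, hd2⟩ := gcd_mul_div (Fintype.one_lt_card (α := F)).le
  obtain ⟨q, hq⟩ : ∃ q, q = Fintype.card F := ⟨_, rfl⟩
  rw [← hq] at h4 he hN hg hd1 hd2
  obtain ⟨d, hd⟩ : ∃ d, d = Nat.gcd 2 (q - 1) := ⟨_, rfl⟩
  rw [← hd] at he hN hg hd1 hd2
  have hle : d * e ≤ q + 1 := by
    rcases he with h | h
    · have hpos : 0 < (q - 1) / d := Nat.pos_of_ne_zero fun e0 => by rw [e0, mul_zero] at hd1; omega
      have := Nat.mul_le_mul_left d (Nat.le_of_dvd hpos h); omega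
    · have hpos : 0 < (q + 1) / d := Nat.pos_of_ne_zero fun e0 => by rw [e0, mul_zero] at hd2; omega
      have := Nat.mul_le_mul_left d (Nat.le_of_dvd hpos h); omega
  rw [sq_sub_one] at hN
  have h6 : 4 * ((q + 1) * 2) ≤ q * ((q + 1) * (q - 1)) := Nat.mul_le_mul h4 (Nat.mul_le_mul_left _ (by omega))
  rw [← hN] at h6
  by_contra hcon
  push Not at hcon
  have := Nat.mul_le_mul_left d hcon
  rw [Nat.mul_left_comm] at this
  omega

theorem not_normal (h4 : 4 ≤ Fintype.card F) (H : Subgroup PSL₂) (hb : H ≠ ⊥) (ht : H ≠ ⊤) : ¬ H.Normal := fun h => by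
  haveI := DicksonMinSimple.isSimple (F := F) h4
  exact (h.eq_bot_or_eq_top).elim hb ht

theorem card_two_not_max (h4 : 4 ≤ Fintype.card F) (M : Subgroup PSL₂) (hM : IsCoatom M) : Nat.card M ≠ 2 := by
  intro hc
  haveI : Fact (Nat.Prime 2) := ⟨Nat.prime_two⟩
  obtain ⟨K, hK, hle⟩ := Sylow.exists_subgroup_card_pow_succ (p := 2) (n := 1) (by simpa using four_dvd_card h4)
    (by rw [hc, pow_one])
  rcases hM.le_iff.1 hle with e | e
  · rw [e, Subgroup.card_top] at hK
    have := card_ge_sixty h4; norm_num at hK; omega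
  · rw [e, hc] at hK; norm_num at hK

theorem not_cyclic (h4 : 4 ≤ Fintype.card F) (M : Subgroup PSL₂) (hM : IsCoatom M) (hc : IsCyclic M) {e : ℕ}
    (he : e = (Fintype.card F - 1) / Nat.gcd 2 (Fintype.card F - 1) ∨
      e = (Fintype.card F + 1) / Nat.gcd 2 (Fintype.card F - 1)) (hdvd : Nat.card M ∣ e) : False := by
  obtain ⟨p, hp⟩ := CharP.exists F
  haveI : Fact p.Prime := ⟨CharP.char_is_prime F p⟩
  obtain ⟨g, hg⟩ := hc.exists_ofOrder_eq_natCard
  rw [← Subgroup.orderOf_coe] at hg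
  rcases (show orderOf (g : PSL₂) = 1 ∨ orderOf (g : PSL₂) = 2 ∨ 3 ≤ orderOf (g : PSL₂) by
    have := orderOf_pos (g : PSL₂); omega) with h | h | h
  · have hb : M = ⊥ := Subgroup.eq_bot_of_card_eq M (hg.symm.trans h)
    have hB := borel_ne_top (F := F) P0
    rcases hM.le_iff.1 (show M ≤ borel (P0 : Pt F) from hb ▸ bot_le) with e' | e'
    · exact hB e'
    · have hi := index_borel (F := F) P0
      rw [e', hb, Subgroup.index_bot] at hi
      have hN := card_PSL F
      rw [hi, sq_sub_one, ← mul_assoc, mul_comm (Fintype.card F) (Fintype.card F + 1), mul_assoc,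
        mul_comm (Nat.gcd 2 _)] at hN
      have h12 : 12 ≤ Fintype.card F * (Fintype.card F - 1) := Nat.mul_le_mul h4 (show 3 ≤ Fintype.card F - 1 by omega)
      have := Nat.eq_of_mul_eq_mul_left (by omega) hN
      have hg2 : Nat.gcd 2 (Fintype.card F - 1) ≤ 2 := Nat.gcd_le_left _ two_pos
      omega
  · exact card_two_not_max h4 M hM (hg.symm.trans h)
  · have hcop := DicksonDihedral.coprime_torus p he
    have hgp : (g : PSL₂) ^ p ≠ 1 := fun e1 => by
      have := Nat.Coprime.eq_one_of_dvd (hcop.coprime_dvd_left (hg ▸ hdvd)) (orderOf_dvd_of_pow_eq_one e1)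
      omega
    obtain ⟨D, hgD, -, hcD, -⟩ := DicksonDihedral.card_dihedral p hgp h
    have hle : M ≤ D := by
      have e0 : Subgroup.zpowers (g : PSL₂) = M :=
        Subgroup.eq_of_le_of_card_ge (Subgroup.zpowers_le.2 g.2) (by rw [Nat.card_zpowers, hg])
      rw [← e0, Subgroup.zpowers_le]; exact hgD
    rcases hM.le_iff.1 hle with e1 | e1
    · rw [e1, Subgroup.card_top] at hcD
      have := two_mul_lt_card (F := F) h4 (e := orderOf (g : PSL₂)) (by
        rcases he with rfl | rfl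
        · exact Or.inl (hg ▸ hdvd)
        · exact Or.inr (hg ▸ hdvd))
      omega
    · rw [e1, hg] at hcD
      have := Nat.card_pos (α := M)
      omega

theorem rotation_facts {k : ℕ} (x : DihedralGroup k) :
    (∃ i : ℤ, x * DihedralGroup.r 1 * x⁻¹ = DihedralGroup.r 1 ^ i) ∧
      (3 ≤ k → x * DihedralGroup.r 1 = DihedralGroup.r 1 * x → x ∈ Subgroup.zpowers (DihedralGroup.r (1 : ZMod k))) := by
  constructor
  · rcases x with i | i
    · exact ⟨1, by simp⟩
    · exact ⟨-1, by simp⟩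
  · intro hk h
    rcases x with i | i
    · obtain ⟨j, rfl⟩ := ZMod.intCast_surjective i
      exact ⟨j, DihedralGroup.r_one_zpow j⟩
    · exfalso
      simp only [DihedralGroup.sr_mul_r, DihedralGroup.r_mul_sr, DihedralGroup.sr.injEq] at h
      have h2 : ((2 : ℕ) : ZMod k) = 0 := by push_cast; linear_combination h
      rw [ZMod.natCast_eq_zero_iff] at h2
      have := Nat.le_of_dvd two_pos h2
      omega

theorem klein_not_max (h4 : 4 ≤ Fintype.card F) (M : Subgroup PSL₂) (hM : IsCoatom M) (e : M ≃* DihedralGroup 2) :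
    False := by
  haveI : Fact (Nat.Prime 2) := ⟨Nat.prime_two⟩
  have hc : Nat.card M = 4 := by rw [Nat.card_congr e.toEquiv, DihedralGroup.nat_card]
  by_cases h8 : 8 ∣ Nat.card PSL₂
  · obtain ⟨K, hK, hle⟩ := Sylow.exists_subgroup_card_pow_succ (p := 2) (n := 2) (by simpa using h8)
      (by rw [hc]; norm_num)
    rcases hM.le_iff.1 hle with e' | e'
    · rw [e', Subgroup.card_top] at hK; have := card_ge_sixty h4; norm_num at hK; omega
    · rw [e', hc] at hK; norm_num at hK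
  · have hidx : ¬ 2 ∣ M.index := fun h => h8 (by
      rw [← M.card_mul_index, hc, show (8 : ℕ) = 4 * 2 from rfl]
      exact Nat.mul_dvd_mul_left 4 h)
    have hP : IsPGroup 2 M := IsPGroup.of_card (n := 2) (by rw [hc]; norm_num)
    let P : Sylow 2 PSL₂ := hP.toSylow hidx
    have hPM : (P : Subgroup PSL₂) = M := rfl
    have hbot : M ≠ ⊥ := fun e' => by rw [e', Subgroup.card_bot] at hc; omega
    have hN : Subgroup.normalizer (M : Set PSL₂) = M := by
      refine (hM.le_iff.1 Subgroup.le_normalizer).resolve_left fun e' => ?_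
      exact not_normal h4 M hbot hM.1 (Subgroup.normalizer_eq_top_iff.1 e')
    have hcomm : ∀ a b : M, a * b = b * a := fun a b => e.injective (by
      rw [map_mul, map_mul]
      exact (by decide : ∀ x y : DihedralGroup 2, x * y = y * x) _ _)
    have hle : Subgroup.normalizer ((P : Subgroup PSL₂) : Set PSL₂) ≤ Subgroup.centralizer ((P : Subgroup PSL₂) : Set PSL₂) := by
      rw [hPM, hN]
      intro a ha b hb
      exact congrArg Subtype.val (hcomm ⟨b, hb⟩ ⟨a, ha⟩)
    have hcompl := MonoidHom.ker_transferSylow_isComplement' P hle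
    haveI := DicksonMinSimple.isSimple (F := F) h4
    have hmul := hcompl.card_mul
    rw [show Nat.card (P : Subgroup PSL₂) = 4 from hc] at hmul
    have h60 := card_ge_sixty h4
    rcases (MonoidHom.normal_ker (MonoidHom.transferSylow P hle)).eq_bot_or_eq_top with e' | e'
    · rw [e', Subgroup.card_bot] at hmul; omega
    · rw [e', Subgroup.card_top] at hmul; omega

theorem dihedral_k (h4 : 4 ≤ Fintype.card F) (M : Subgroup PSL₂) (hM : IsCoatom M) {k e : ℕ} (hk : 2 ≤ k)
    (he : e = (Fintype.card F - 1) / Nat.gcd 2 (Fintype.card F - 1) ∨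
      e = (Fintype.card F + 1) / Nat.gcd 2 (Fintype.card F - 1)) (hke : k ∣ e) (t : M ≃* DihedralGroup k) :
    k = e ∧ 3 ≤ k := by
  rcases (show k = 2 ∨ 3 ≤ k by omega) with rfl | hk3
  · exact (klein_not_max h4 M hM t).elim
  refine ⟨?_, hk3⟩
  obtain ⟨p, hp⟩ := CharP.exists F
  haveI : Fact p.Prime := ⟨CharP.char_is_prime F p⟩
  obtain ⟨g, hg⟩ : ∃ g : M, g = t.symm (DihedralGroup.r 1) := ⟨_, rfl⟩
  have hgo : orderOf (g : PSL₂) = k := by
    rw [Subgroup.orderOf_coe, hg, MulEquiv.orderOf_eq, DihedralGroup.orderOf_r_one]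
  have hgp : (g : PSL₂) ^ p ≠ 1 := fun e1 => by
    have := Nat.Coprime.eq_one_of_dvd ((DicksonDihedral.coprime_torus p he).coprime_dvd_left hke)
      (hgo ▸ orderOf_dvd_of_pow_eq_one e1)
    omega
  have hMn : M ≤ Subgroup.normalizer ((Subgroup.zpowers (g : PSL₂) : Subgroup PSL₂) : Set PSL₂) := by
    intro x hx
    obtain ⟨i, hi⟩ := (rotation_facts (t ⟨x, hx⟩)).1
    obtain ⟨j, hj⟩ := (rotation_facts (t ⟨x, hx⟩)⁻¹).1
    have conv : ∀ (y : M) (i : ℤ), t y * DihedralGroup.r 1 * (t y)⁻¹ = DihedralGroup.r 1 ^ i →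
        (y : PSL₂) * g * (y : PSL₂)⁻¹ = (g : PSL₂) ^ i := by
      intro y i h
      have h' := congrArg t.symm h
      rw [map_mul, map_mul, map_inv, map_zpow, MulEquiv.symm_apply_apply, ← hg] at h'
      simpa using congrArg Subtype.val h'
    rw [inv_inv, ← map_inv] at hj
    have hi' := conv _ _ hi
    have hj' : (x⁻¹ : PSL₂) * g * (x⁻¹)⁻¹ = (g : PSL₂) ^ j := conv ⟨x, hx⟩⁻¹ j (by rw [← hj, map_inv, inv_inv])
    refine Subgroup.mem_normalizer_iff.2 fun h => ⟨?_, ?_⟩
    · rintro ⟨a, rfl⟩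
      refine ⟨i * a, ?_⟩
      show (g : PSL₂) ^ (i * a) = x * (g : PSL₂) ^ a * x⁻¹
      rw [_root_.zpow_mul, ← hi', conj_zpow]
    · rintro ⟨a, ha⟩
      refine ⟨j * a, ?_⟩
      have e2 : h = x⁻¹ * (x * h * x⁻¹) * x⁻¹⁻¹ := by group
      rw [e2, ← ha]
      show (g : PSL₂) ^ (j * a) = x⁻¹ * (g : PSL₂) ^ a * x⁻¹⁻¹
      rw [_root_.zpow_mul, ← hj', conj_zpow]
  have hne : Subgroup.normalizer ((Subgroup.zpowers (g : PSL₂) : Subgroup PSL₂) : Set PSL₂) ≠ ⊤ := by
    intro e1
    refine not_normal h4 _ ?_ ?_ (Subgroup.normalizer_eq_top_iff.1 e1)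
    · intro e2
      have := Nat.card_zpowers (g : PSL₂)
      rw [e2, Subgroup.card_bot, hgo] at this; omega
    · exact ne_top_of_le_ne_top hM.1 (Subgroup.zpowers_le.2 g.2)
  have hMeq := (hM.le_iff.1 hMn).resolve_left hne
  obtain ⟨A, hA, hcA⟩ := DicksonCentral.exists_commuting p hgp
  have hAle : A ≤ M := by
    intro a ha
    rw [← hMeq]
    refine Subgroup.mem_normalizer_iff.2 fun h => ?_
    have hc : ∀ z : ℤ, a * (g : PSL₂) ^ z * a⁻¹ = (g : PSL₂) ^ z := fun z => by
      rw [mul_inv_eq_iff_eq_mul]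
      exact ((show Commute a (g : PSL₂) from hA a ha).zpow_right z).eq
    constructor
    · rintro ⟨z, rfl⟩; exact ⟨z, (hc z).symm⟩
    · rintro ⟨z, hz⟩
      refine ⟨z, ?_⟩
      have := (hc z).trans hz
      exact mul_left_cancel (mul_right_cancel this)
  have hAk : Nat.card A ≤ k := by
    have hle : A ≤ Subgroup.zpowers (g : PSL₂) := by
      intro a ha
      have h := (rotation_facts (t ⟨a, hAle ha⟩)).2 hk3 (by
        have : (⟨a, hAle ha⟩ : M) * g = g * ⟨a, hAle ha⟩ := Subtype.ext (hA a ha)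
        simpa [hg] using congrArg t this)
      obtain ⟨z, hz⟩ := h
      refine ⟨z, ?_⟩
      have h' := congrArg t.symm hz
      simp only [map_zpow, MulEquiv.symm_apply_apply, ← hg] at h'
      simpa using congrArg Subtype.val h'
    have := Subgroup.card_le_of_le hle
    rwa [Nat.card_zpowers, hgo] at this
  obtain ⟨c, hc⟩ := hke
  rcases Nat.lt_or_ge c 2 with hc2 | hc2
  · interval_cases c
    · exfalso
      rw [mul_zero] at hc
      obtain ⟨h1, h2⟩ := gcd_mul_div (Fintype.one_lt_card (α := F)).le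
      rcases he with rfl | rfl
      · rw [hc, mul_zero] at h1; omega
      · rw [hc, mul_zero] at h2; omega
    · rw [hc, mul_one]
  · exfalso
    obtain ⟨h1, h2⟩ := gcd_mul_div (Fintype.one_lt_card (α := F)).le
    have h3 : Nat.gcd 2 (Fintype.card F - 1) * e ≤ Fintype.card F + 1 := by
      rcases he with rfl | rfl <;> omega
    have h5 := Nat.mul_le_mul_left (Nat.gcd 2 (Fintype.card F - 1)) (Nat.mul_le_mul_left k hc2)
    rw [← hc, ← mul_assoc] at h5
    have h6 := Nat.mul_le_mul_left (Nat.gcd 2 (Fintype.card F - 1)) hAk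
    omega

/-! ### Subfield subgroups -/

variable {K₀ : Type*} [Field K₀] [Fintype K₀]

theorem eq_sub (M : Subgroup PSL₂) (hM : IsCoatom M) (κ : K₀ →+* F) (k : Matrix.ProjGenLinGroup (Fin 2) F)
    (hlt : Fintype.card K₀ < Fintype.card F) (hle : M ≤ sub κ k) : M = sub κ k :=
  ((hM.le_iff.1 hle).resolve_left (sub_ne_top κ k hlt)).symm

theorem isSquare_of_sq {r : ℕ} (κ : K₀ →+* F) (hr : Fintype.card K₀ = r) (hq : Fintype.card F = r ^ 2)
    (hodd : r % 2 = 1) (a : K₀) (ha : a ≠ 0) : IsSquare (κ a) := by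
  have h2 : ringChar F ≠ 2 := fun e => by
    have := FiniteField.even_card_iff_char_two.1 e
    rw [hq, Nat.pow_mod, hodd] at this
    simp at this
  rw [FiniteField.isSquare_iff h2 ((map_ne_zero κ).2 ha), ← map_pow, map_eq_one_iff κ κ.injective]
  obtain ⟨t, rfl⟩ : ∃ t, r = 2 * t + 1 := ⟨r / 2, by omega⟩
  have e : Fintype.card F / 2 = (Fintype.card K₀ - 1) * (t + 1) := by
    rw [hq, hr, show (2 * t + 1) ^ 2 = 2 * (2 * t * (t + 1)) + 1 by ring, show 2 * t + 1 - 1 = 2 * t by omega]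
    omega
  rw [e, pow_mul, FiniteField.pow_card_sub_one_eq_one a ha, one_pow]

/-- a maximal subfield subgroup has prime degree -/
theorem deg_prime (M : Subgroup PSL₂) (hM : IsCoatom M) (κ : K₀ →+* F) (k : Matrix.ProjGenLinGroup (Fin 2) F)
    {m : ℕ} (hm : Fintype.card K₀ ^ m = Fintype.card F) (hm2 : 2 ≤ m) (hle : M ≤ sub κ k) : m.Prime := by
  have hr2 : 2 ≤ Fintype.card K₀ := Fintype.one_lt_card
  by_contra hnp
  obtain ⟨a, b, ha, hb, hab⟩ := (Nat.not_prime_iff_exists_mul_eq hm2).1 hnp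
  have ha2 : 2 ≤ a := by
    by_contra h; interval_cases a <;> simp at hab <;> omega
  have hb2 : 2 ≤ b := by
    by_contra h; interval_cases b <;> simp at hab <;> omega
  obtain ⟨p, hp⟩ := CharP.exists K₀
  haveI hpp : Fact p.Prime := ⟨CharP.char_is_prime K₀ p⟩
  obtain ⟨n, -, hn⟩ := FiniteField.card K₀ p
  have hna : (n : ℕ) * a ≠ 0 := Nat.mul_ne_zero n.ne_zero (by omega)
  haveI : Fintype (GaloisField p (n * a)) := Fintype.ofFinite _
  have hL : Fintype.card (GaloisField p (n * a)) = Fintype.card K₀ ^ a := by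
    rw [← Nat.card_eq_fintype_card, GaloisField.card p _ hna, hn, pow_mul]
  obtain ⟨μ⟩ := PSL2Sub.exists_ringHom (F := F) (K := GaloisField p (n * a)) b (by rw [hL, ← pow_mul, hab, hm])
  have hlt : Fintype.card K₀ < Fintype.card F := by
    rw [← hm]
    calc Fintype.card K₀ = Fintype.card K₀ ^ 1 := (pow_one _).symm
      _ < _ := Nat.pow_lt_pow_right hr2 (by omega)
  have hltL : Fintype.card (GaloisField p (n * a)) < Fintype.card F := by
    rw [hL, ← hm]
    refine Nat.pow_lt_pow_right hr2 ?_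
    have := Nat.mul_le_mul_left a hb2
    omega
  have e1 := eq_sub M hM κ k hlt hle
  have e2 := eq_sub M hM μ k hltL (hle.trans (sub_mono κ μ k hL))
  have b1 := (card_sub_bounds κ k).1
  have b2 := (card_sub_bounds μ k).2
  rw [← e1] at b1
  rw [← e2, hL] at b2
  obtain ⟨r, hr⟩ : ∃ r, r = Fintype.card K₀ := ⟨_, rfl⟩
  rw [← hr] at b1 b2 hr2
  have h2 : r ^ 2 ≤ r ^ a := Nat.pow_le_pow_right (by omega) ha2
  have h3 : 2 * r ≤ r ^ 2 := by rw [pow_two]; exact Nat.mul_le_mul_right r hr2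
  have h4 : r ^ 2 - 1 < (r ^ a) ^ 2 - 1 := by
    have : r ^ 2 < (r ^ a) ^ 2 := Nat.pow_lt_pow_left (by omega) two_ne_zero
    have : 1 ≤ r ^ 2 := Nat.one_le_pow _ _ (by omega)
    omega
  have h5 : 2 * r * (r ^ 2 - 1) < r ^ a * ((r ^ a) ^ 2 - 1) :=
    lt_of_le_of_lt (Nat.mul_le_mul_right _ (h3.trans h2)) (Nat.mul_lt_mul_of_pos_left h4 (by omega))
  rw [mul_assoc] at h5
  omega

/-- the isomorphism type of a maximal subfield subgroup -/
theorem sub_type (M : Subgroup PSL₂) (hM : IsCoatom M) (κ : K₀ →+* F) (k : Matrix.ProjGenLinGroup (Fin 2) F)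
    (hodd : Fintype.card F % 2 = 1)
    {m : ℕ} (hm : Fintype.card K₀ ^ m = Fintype.card F) (hm2 : 2 ≤ m) (hle : M ≤ sub κ k) :
    (m = 2 ∧ Nonempty (M ≃* Matrix.ProjGenLinGroup (Fin 2) K₀)) ∨
      (m.Prime ∧ Odd m ∧ Nonempty (M ≃* Matrix.ProjectiveSpecialLinearGroup (Fin 2) K₀)) := by
  have hr2 : 2 ≤ Fintype.card K₀ := Fintype.one_lt_card
  have hlt : Fintype.card K₀ < Fintype.card F := by
    rw [← hm]
    calc Fintype.card K₀ = Fintype.card K₀ ^ 1 := (pow_one _).symm
      _ < _ := Nat.pow_lt_pow_right hr2 (by omega)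
  have hro : Fintype.card K₀ % 2 = 1 := by
    by_contra h
    rw [← hm, Nat.pow_mod, show Fintype.card K₀ % 2 = 0 by omega, zero_pow (by omega)] at hodd
    simp at hodd
  have e1 := eq_sub M hM κ k hlt hle
  have hp := deg_prime M hM κ k hm hm2 hle
  rcases hp.eq_two_or_odd' with rfl | hmodd
  · refine Or.inl ⟨rfl, ?_⟩
    rcases psl_or_pgl_sub κ k with ⟨-, ⟨t⟩⟩ | ⟨⟨a, ha, hns⟩, -⟩
    · exact ⟨(MulEquiv.subgroupCongr e1).trans t⟩
    · exact absurd (isSquare_of_sq κ rfl hm.symm hro a ha) hns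
  · refine Or.inr ⟨hp, hmodd, ?_⟩
    rcases psl_or_pgl_sub κ k with ⟨hall, -⟩ | ⟨-, ⟨t⟩⟩
    · obtain ⟨j, rfl⟩ := hmodd
      obtain ⟨a, ha, hns⟩ := not_square_of_odd κ (j := j) hm.symm hro
      exact absurd (hall a ha) hns
    · exact ⟨(MulEquiv.subgroupCongr e1).trans t⟩

end CfsgLib.Lie.DicksonTypes
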