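import Cfsg.Agent.Lie.OrthBasis
import Mathlib.LinearAlgebra.Matrix.Kronecker
import Mathlib.LinearAlgebra.BilinearForm.TensorProduct
import Mathlib.LinearAlgebra.TensorProduct.Basis

/-!
A symmetric form of even dimension `2k` is of plus type iff `(-1)^k` times its discriminant is a square.
-/

set_option autoImplicit false
set_option linter.unusedSectionVars false

namespace CfsgLib.Lie.DiscPlus

open scoped TensorProduct Kronecker
open Matrix

variable {F V : Type*} [Field F] [AddCommGroup V] [Module F V] [FiniteDimensional F V]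

theorem det_change {ι ι' : Type*} [Fintype ι] [DecidableEq ι] [Fintype ι'] [DecidableEq ι']
    (b : Module.Basis ι F V) (b' : Module.Basis ι' F V) (C : LinearMap.BilinForm F V) :
    ∃ c : F, c ≠ 0 ∧ (LinearMap.BilinForm.toMatrix b' C).det = c * c * (LinearMap.BilinForm.toMatrix b C).det := by
  let e := b'.indexEquiv b
  let d := b'.reindex e
  have h := congrArg Matrix.det (LinearMap.BilinForm.toMatrix_mul_basis_toMatrix b d C)
  rw [Matrix.det_mul, Matrix.det_mul, Matrix.det_transpose] at h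
  have hd : LinearMap.BilinForm.toMatrix d C = (LinearMap.BilinForm.toMatrix b' C).submatrix e.symm e.symm := by
    ext i j
    simp [LinearMap.BilinForm.toMatrix_apply, d]
  rw [hd, Matrix.det_submatrix_equiv_self] at h
  refine ⟨(b.toMatrix d).det, ?_, by rw [← h]; ring⟩
  exact (Matrix.isUnit_det_of_left_inverse (b.toMatrix_mul_toMatrix_flip d |> fun h' => d.toMatrix_mul_toMatrix_flip b)).ne_zero

theorem det_swap (k : ℕ) :
    (fromBlocks 0 1 1 0 : Matrix (Fin k ⊕ Fin k) (Fin k ⊕ Fin k) F).det = (-1) ^ k := by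
  have h : (fromBlocks 1 1 0 1 : Matrix (Fin k ⊕ Fin k) (Fin k ⊕ Fin k) F) * fromBlocks 0 1 1 0 =
      fromBlocks 1 1 1 0 := by simp [fromBlocks_multiply]
  have h' := congrArg Matrix.det h
  rw [Matrix.det_mul, det_fromBlocks_zero₂₁, det_one, one_mul, one_mul, det_fromBlocks_one₁₁] at h'
  rw [h']
  simp [Matrix.det_neg]

theorem square_of_isotropic {ι : Type*} [Fintype ι] [DecidableEq ι] (b : Module.Basis ι F V)
    (C : LinearMap.BilinForm F V) (hS : ∀ x y, C x y = C y x) (k : ℕ) (hV : Module.finrank F V = 2 * k)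
    (X : Submodule F V) (hX : Module.finrank F X = k) (hiso : ∀ x ∈ X, ∀ y ∈ X, C x y = 0) :
    IsSquare ((-1) ^ k * (LinearMap.BilinForm.toMatrix b C).det) := by
  obtain ⟨Y, hY⟩ := X.exists_isCompl
  have hYk : Module.finrank F Y = k := by
    have := Submodule.finrank_add_eq_of_isCompl hY
    omega
  let bX := Module.finBasisOfFinrankEq F X hX
  let bY := Module.finBasisOfFinrankEq F Y hYk
  let d : Module.Basis (Fin k ⊕ Fin k) F V := (bX.prod bY).map (Submodule.prodEquivOfIsCompl X Y hY)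
  have hdl : ∀ i, d (Sum.inl i) = (bX i : V) := fun i => by simp [d]
  set M := LinearMap.BilinForm.toMatrix d C
  have h11 : M.toBlocks₁₁ = 0 := by
    ext i j
    simp [M, toBlocks₁₁, LinearMap.BilinForm.toMatrix_apply, hdl, hiso _ (bX i).2 _ (bX j).2]
  have h21 : M.toBlocks₂₁ = M.toBlocks₁₂ᵀ := by
    ext i j
    simp only [M, toBlocks₂₁, toBlocks₁₂, Matrix.transpose_apply, of_apply, LinearMap.BilinForm.toMatrix_apply]
    exact hS _ _
  have hM : M.det * (-1) ^ k = M.toBlocks₁₂.det * M.toBlocks₁₂.det := by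
    rw [← det_swap (F := F) k, ← Matrix.det_mul]
    conv_lhs => rw [← fromBlocks_toBlocks M, h11, h21, fromBlocks_multiply]
    simp [det_fromBlocks_zero₁₂]
  obtain ⟨c, hc, e⟩ := det_change b d C
  refine ⟨M.toBlocks₁₂.det / c, ?_⟩
  field_simp
  rw [pow_two]
  linear_combination hM - (-1) ^ k * e

theorem isotropic_of_square [Finite F] {ι : Type*} [Fintype ι] [DecidableEq ι] (h2 : (2 : F) ≠ 0)
    (b : Module.Basis ι F V) (C : LinearMap.BilinForm F V) (hS : ∀ x y, C x y = C y x) (hB : C.SeparatingLeft)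
    (k : ℕ) (hk : 1 ≤ k) (hV : Module.finrank F V = 2 * k)
    (hsq : IsSquare ((-1) ^ k * (LinearMap.BilinForm.toMatrix b C).det)) :
    ∃ X : Submodule F V, Module.finrank F X = k ∧ ∀ x ∈ X, ∀ y ∈ X, C x y = 0 := by
  classical
  have := Fintype.ofFinite F
  obtain ⟨α, hα⟩ : ∃ α : F, ¬ IsSquare α := FiniteField.exists_nonsquare fun h => h2 (by
    have := ringChar.spec F 2
    rw [h] at this
    exact_mod_cast this.2 dvd_rfl)
  obtain ⟨n, hn⟩ : ∃ n, 2 * k = n + 1 := ⟨2 * k - 1, by omega⟩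
  obtain ⟨e, ho, h1, hl⟩ := CfsgLib.Lie.OrthBasis.exists_basis_discr C h2 hS hB (hV.trans hn) α hα
  set δ := C (e (Fin.last n)) (e (Fin.last n)) with hδ
  have hδsq : IsSquare ((-1) ^ k * δ) := by
    obtain ⟨c, hc, hdet⟩ := det_change b e C
    have hd : LinearMap.BilinForm.toMatrix e C = Matrix.diagonal (fun i => C (e i) (e i)) := by
      ext i j
      rw [LinearMap.BilinForm.toMatrix_apply]
      by_cases hij : i = j
      · subst hij; rw [Matrix.diagonal_apply_eq]
      · rw [Matrix.diagonal_apply_ne _ hij, ho i j hij]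
    rw [hd, Matrix.det_diagonal, Finset.prod_eq_single (Fin.last n) (fun i _ hi => h1 i hi) (by simp)] at hdet
    obtain ⟨s, hs⟩ := hsq
    exact ⟨c * s, by rw [hδ, hdet]; linear_combination c * c * hs⟩
  obtain ⟨a, a', haa⟩ := FiniteField.exists_root_sum_quadratic (R := F) (f := Polynomial.X ^ 2)
    (g := Polynomial.X ^ 2 + Polynomial.C 1) (by simp) (by rw [Polynomial.degree_X_pow_add_C (by norm_num)]; rfl)
    (FiniteField.odd_card_of_char_ne_two fun h => h2 (by
      have := ringChar.spec F 2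
      rw [h] at this
      exact_mod_cast this.2 dvd_rfl))
  simp only [Polynomial.eval_add, Polynomial.eval_pow, Polynomial.eval_X, Polynomial.eval_C] at haa
  obtain ⟨t, r, hr, hlast, hs⟩ : ∃ t r : ℕ, 4 * t + 2 * r = n + 1 ∧ r ≤ 1 ∧
      ∃ s : F, r = 0 ∧ δ = 1 ∨ r = 1 ∧ s * s + δ = 0 := by
    rcases Nat.even_or_odd k with ⟨j, hj⟩ | ⟨j, hj⟩
    · refine ⟨j, 0, by omega, by omega, 0, Or.inl ⟨rfl, hl.resolve_right fun hh => hα ?_⟩⟩
      rwa [show (-1 : F) ^ k = 1 from Even.neg_one_pow ⟨j, hj⟩, one_mul, hh] at hδsq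
    · obtain ⟨s, hs⟩ := hδsq
      rw [Odd.neg_one_pow ⟨j, hj⟩] at hs
      exact ⟨j, 1, by omega, le_rfl, s, Or.inr ⟨rfl, by linear_combination -hs⟩⟩
  obtain ⟨s, hs⟩ := hs
  let E : (Fin t × Fin 4) ⊕ Fin (2 * r) ≃ Fin (n + 1) :=
    ((finProdFinEquiv.trans (finCongr (mul_comm t 4))).sumCongr (Equiv.refl _)).trans
      (finSumFinEquiv.trans (finCongr hr))
  let d := e.reindex E.symm
  have hd : ∀ p, d p = e (E p) := fun p => by simp [d]
  have hdo : ∀ p p', p ≠ p' → C (d p) (d p') = 0 := fun p p' h => by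
    rw [hd, hd]; exact ho _ _ (E.injective.ne h)
  have hd1 : ∀ p : Fin t × Fin 4, C (d (Sum.inl p)) (d (Sum.inl p)) = 1 := fun p => by
    rw [hd]
    by_cases hp : E (Sum.inl p) = Fin.last n
    · rw [hp]
      rcases hs with ⟨hr0, hd0⟩ | ⟨hr1, -⟩
      · exact hd0
      · exfalso
        have := congrArg Fin.val hp
        simp [E, finProdFinEquiv] at this
        have := p.1.isLt; have := p.2.isLt
        omega
    · exact h1 _ hp
  have hdd : ∀ p p' : Fin t × Fin 4, C (d (Sum.inl p)) (d (Sum.inl p')) = if p = p' then 1 else 0 := fun p p' => by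
    split_ifs with h
    · rw [h, hd1]
    · exact hdo _ _ (by simp [h])
  have hdr : ∀ (p : Fin t × Fin 4) (j : Fin (2 * r)), C (d (Sum.inl p)) (d (Sum.inr j)) = 0 :=
    fun p j => hdo _ _ (by simp)
  have hdl : ∀ (p : Fin t × Fin 4) (j : Fin (2 * r)), C (d (Sum.inr j)) (d (Sum.inl p)) = 0 :=
    fun p j => hdo _ _ (by simp)
  let u : (Fin t × Fin 2) ⊕ Fin r → V := Sum.elim
    (fun q => if q.2 = 0 then d (Sum.inl (q.1, 0)) + a • d (Sum.inl (q.1, 2)) + a' • d (Sum.inl (q.1, 3))
      else d (Sum.inl (q.1, 1)) + (-a') • d (Sum.inl (q.1, 2)) + a • d (Sum.inl (q.1, 3)))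
    (fun j => s • d (Sum.inr ⟨2 * j.val, by omega⟩) + d (Sum.inr ⟨2 * j.val + 1, by omega⟩))
  have hiso : ∀ q q', C (u q) (u q') = 0 := by
    rintro (⟨i, x⟩ | j) (⟨i', x'⟩ | j')
    · by_cases hi : i = i'
      · subst hi
        fin_cases x <;> fin_cases x' <;> simp [u, hdd] <;> grind
      · fin_cases x <;> fin_cases x' <;> simp [u, hdd, hi]
    · fin_cases x <;> simp [u, hdr]
    · fin_cases x' <;> simp [u, hdl]
    · rcases hs with ⟨hr0, -⟩ | ⟨hr1, hs1⟩
      · exact absurd j.isLt (by omega)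
      · subst hr1
        obtain rfl := Subsingleton.elim j 0
        obtain rfl := Subsingleton.elim j' 0
        have hA : C (d (Sum.inr (0 : Fin 2))) (d (Sum.inr (0 : Fin 2))) = 1 := by
          rw [hd]
          refine h1 _ fun hp => ?_
          have := congrArg Fin.val hp
          simp [E] at this
          omega
        have hBv : C (d (Sum.inr (1 : Fin 2))) (d (Sum.inr (1 : Fin 2))) = δ := by
          rw [hd, show E (Sum.inr (1 : Fin 2)) = Fin.last n from Fin.ext (by simp [E]; omega)]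
        show C (s • d (Sum.inr (0 : Fin 2)) + d (Sum.inr (1 : Fin 2))) (s • d (Sum.inr (0 : Fin 2)) + d (Sum.inr (1 : Fin 2))) = 0
        simp [hA, hBv, hdo _ _ (show (Sum.inr (0 : Fin 2) : (Fin t × Fin 4) ⊕ Fin 2) ≠ Sum.inr 1 by simp),
          hdo _ _ (show (Sum.inr (1 : Fin 2) : (Fin t × Fin 4) ⊕ Fin 2) ≠ Sum.inr 0 by simp)]
        linear_combination hs1
  have hpick : ∀ (i : Fin t) (x : Fin 2) (q : (Fin t × Fin 2) ⊕ Fin r),
      C (d (Sum.inl (i, Fin.castLE (show 2 ≤ 4 by norm_num) x))) (u q) = if q = Sum.inl (i, x) then 1 else 0 := by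
    rintro i x (⟨i', x'⟩ | j')
    · fin_cases x <;> fin_cases x' <;> by_cases hi : i = i' <;> simp [u, hdd, hi, eq_comm]
    · simp [u, hdr]
  have hli : LinearIndependent F u := by
    rw [Fintype.linearIndependent_iff]
    intro g hg q
    rcases q with ⟨i, x⟩ | j
    · have h := congrArg (C (d (Sum.inl (i, Fin.castLE (show 2 ≤ 4 by norm_num) x)))) hg
      simpa [map_sum, hpick] using h
    · rcases hs with ⟨hr0, -⟩ | ⟨hr1, -⟩
      · exact absurd j.isLt (by omega)
      · subst hr1
        obtain rfl := Subsingleton.elim j 0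
        have hBv : C (d (Sum.inr (1 : Fin 2))) (d (Sum.inr (1 : Fin 2))) ≠ 0 := by
          intro h0
          refine d.ne_zero (Sum.inr 1) (hB _ fun y => ?_)
          rw [← d.sum_repr y, map_sum]
          refine Finset.sum_eq_zero fun p _ => ?_
          rw [map_smul]
          by_cases hp : Sum.inr 1 = p
          · subst hp; simp [h0]
          · simp [hdo _ _ hp]
        have h := congrArg (C (d (Sum.inr (1 : Fin 2)))) hg
        rw [map_sum, map_zero, Finset.sum_eq_single (Sum.inr 0)] at h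
        · simp [u, hBv, hdo _ _ (show (Sum.inr (1 : Fin 2) : (Fin t × Fin 4) ⊕ Fin 2) ≠ Sum.inr 0 by simp)] at h
          exact h
        · rintro (⟨i', x'⟩ | j') - hne
          · fin_cases x' <;> simp [u, hdl]
          · exact absurd (congrArg Sum.inr (Subsingleton.elim j' 0)) hne
        · simp
  refine ⟨Submodule.span F (Set.range u), ?_, fun x hx y hy => ?_⟩
  · rw [finrank_span_eq_card hli]
    simp
    omega
  · have h0 : ∀ x ∈ Submodule.span F (Set.range u), ∀ q, C x (u q) = 0 := by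
      intro x hx q
      induction hx using Submodule.span_induction with
      | mem x hx => obtain ⟨p, rfl⟩ := hx; exact hiso p q
      | zero => simp
      | add a b _ _ ha hb => simp [ha, hb]
      | smul c a _ ha => simp [ha]
    induction hy using Submodule.span_induction with
    | mem y hy => obtain ⟨q, rfl⟩ := hy; exact h0 x hx q
    | zero => simp
    | add a b _ _ ha hb => simp [ha, hb]
    | smul c a _ ha => simp [ha]

theorem det_tmul {U W : Type*} [AddCommGroup U] [Module F U] [AddCommGroup W] [Module F W]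
    {ι κ : Type*} [Fintype ι] [DecidableEq ι] [Fintype κ] [DecidableEq κ]
    (b₁ : Module.Basis ι F U) (b₂ : Module.Basis κ F W)
    (B₁ : LinearMap.BilinForm F U) (B₂ : LinearMap.BilinForm F W) :
    (LinearMap.BilinForm.toMatrix (b₁.tensorProduct b₂) (B₁.tmul B₂)).det =
      (LinearMap.BilinForm.toMatrix b₁ B₁).det ^ Fintype.card κ *
        (LinearMap.BilinForm.toMatrix b₂ B₂).det ^ Fintype.card ι := by
  rw [← Matrix.det_kronecker]
  congr 1
  ext ⟨i, j⟩ ⟨i', j'⟩
  rw [LinearMap.BilinForm.toMatrix_apply, Module.Basis.tensorProduct_apply, Module.Basis.tensorProduct_apply,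
    Matrix.kroneckerMap_apply, LinearMap.BilinForm.toMatrix_apply, LinearMap.BilinForm.toMatrix_apply]
  exact mul_comm _ _

theorem tmul_symm {U W : Type*} [AddCommGroup U] [Module F U] [AddCommGroup W] [Module F W]
    (B₁ : LinearMap.BilinForm F U) (B₂ : LinearMap.BilinForm F W)
    (h₁ : ∀ x y, B₁ x y = B₁ y x) (h₂ : ∀ x y, B₂ x y = B₂ y x) : ∀ x y, B₁.tmul B₂ x y = B₁.tmul B₂ y x := by
  have hflip : (B₁.tmul B₂).flip = B₁.tmul B₂ := by
    ext a b c d
    change B₂ d b • B₁ c a = B₂ b d • B₁ a c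
    rw [h₁ c a, h₂ d b]
  intro x y
  conv_lhs => rw [← hflip]
  rfl

end CfsgLib.Lie.DiscPlus
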