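import Mathlib

/-!
Additive maps of a finite field extension of prime degree: a composition-closed bimodule containing
a non-scalar map is everything, and an automorphism compatible with a proper bimodule is semilinear.
-/

set_option autoImplicit false
set_option linter.unusedSimpArgs false
set_option linter.unusedSectionVars false

namespace CfsgLib.Lie.ExtAlg

variable {F E : Type*} [Field F] [Field E] [Algebra F E]

/-- multiplication by `k` -/
abbrev μ (k : E) : E →ₗ[F] E := LinearMap.mulLeft F k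

theorem μ_apply (k x : E) : μ (F := F) k x = k * x := rfl

variable [FiniteDimensional F E]

/-- commuting with multiplication by an element outside `F` forces being a multiplication -/
theorem eq_mul_of_comm (hr : (Module.finrank F E).Prime) {y : E}
    (hy : y ∉ Set.range (algebraMap F E)) {D : E →ₗ[F] E} (h : ∀ c, D (y * c) = y * D c) :
    D = μ (D 1) := by
  let S : Subalgebra F E :=
    { carrier := {z | ∀ c, D (z * c) = z * D c}
      mul_mem' := fun {a b} ha hb c => by rw [mul_assoc, ha, hb, mul_assoc]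
      one_mem' := fun c => by rw [one_mul, one_mul]
      add_mem' := fun {a b} ha hb c => by rw [add_mul, map_add, ha, hb, add_mul]
      zero_mem' := fun c => by rw [zero_mul, map_zero, zero_mul]
      algebraMap_mem' := fun a c => by rw [← Algebra.smul_def, map_smul, Algebra.smul_def] }
  rcases (Subalgebra.isSimpleOrder_of_finrank_prime F E hr).eq_bot_or_eq_top S with hS | hS
  · exact absurd (Algebra.mem_bot.1 (hS ▸ (h : y ∈ S))) hy
  refine LinearMap.ext fun z => ?_
  have h1 : z ∈ S := hS ▸ Algebra.mem_top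
  rw [μ_apply, mul_comm, ← h1 1, mul_one]

/-- a composition-closed bimodule with a non-scalar element is everything -/
theorem eq_top [Finite F] (hr : (Module.finrank F E).Prime) (A : AddSubgroup (E →ₗ[F] E))
    (hμ : ∀ k, μ k ∈ A) (hmul : ∀ X ∈ A, ∀ Y ∈ A, X ∘ₗ Y ∈ A) {X : E →ₗ[F] E} (hX : X ∈ A)
    (hne : ∀ k, X ≠ μ k) : ∀ Y, Y ∈ A := by
  classical
  haveI : Finite E := Module.finite_of_finite F
  haveI : IsGalois F E := inferInstance
  -- the automorphisms form a basis
  have hli : LinearIndependent E (fun σ : E ≃ₐ[F] E => (σ.toLinearMap : E →ₗ[F] E)) :=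
    (linearIndependent_toLinearMap F E E).comp (fun σ : E ≃ₐ[F] E => (σ : E →ₐ[F] E))
      (fun σ τ h => AlgEquiv.ext fun x => DFunLike.congr_fun h x)
  have hcard : Fintype.card (E ≃ₐ[F] E) = Module.finrank E (E →ₗ[F] E) := by
    rw [Module.finrank_linearMap_self, ← IsGalois.card_aut_eq_finrank F E, Nat.card_eq_fintype_card]
  have hspan := hli.span_eq_top_of_card_eq_finrank' hcard
  have hsum : ∀ Y : E →ₗ[F] E, ∃ c : (E ≃ₐ[F] E) → E, Y = ∑ σ, c σ • σ.toLinearMap := by
    intro Y
    obtain ⟨c, hc⟩ := (Submodule.mem_span_range_iff_exists_fun E).1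
      (hspan ▸ Submodule.mem_top : Y ∈ Submodule.span E (Set.range fun σ : E ≃ₐ[F] E => σ.toLinearMap))
    exact ⟨c, hc.symm⟩
  have hsmul : ∀ (k : E) (Y : E →ₗ[F] E), k • Y = μ k ∘ₗ Y := fun k Y => LinearMap.ext fun x => rfl
  -- some non-trivial automorphism lies in `A`
  have key : ∀ (n : ℕ) (c : (E ≃ₐ[F] E) → E) (s : E ≃ₐ[F] E),
      (Finset.univ.filter fun σ => c σ ≠ 0).card ≤ n → c s ≠ 0 →
      (∑ σ, c σ • σ.toLinearMap) ∈ A → s.toLinearMap ∈ A := by
    intro n
    induction n with
    | zero =>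
      intro c s hn hs _
      have : s ∈ Finset.univ.filter fun σ => c σ ≠ 0 := by simp [hs]
      have := Finset.card_pos.2 ⟨s, this⟩
      omega
    | succ n ih =>
      intro c s hn hs hA
      by_cases h : ∃ t, t ≠ s ∧ c t ≠ 0
      · obtain ⟨t, hts, ht⟩ := h
        obtain ⟨k, hk⟩ : ∃ k, s k ≠ t k := by
          by_contra hc
          push Not at hc
          exact hts (AlgEquiv.ext hc).symm
        have hA' : (∑ σ, (c σ * (σ k - t k)) • σ.toLinearMap) ∈ A := by
          have e : (∑ σ, (c σ * (σ k - t k)) • σ.toLinearMap)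
              = (∑ σ, c σ • σ.toLinearMap) ∘ₗ μ k - μ (t k) ∘ₗ (∑ σ, c σ • σ.toLinearMap) := by
            refine LinearMap.ext fun x => ?_
            simp only [LinearMap.sum_apply, LinearMap.sub_apply, LinearMap.comp_apply, μ_apply,
              LinearMap.smul_apply, smul_eq_mul, AlgEquiv.toLinearMap_apply, map_mul, Finset.mul_sum,
              ← Finset.sum_sub_distrib]
            exact Finset.sum_congr rfl fun σ _ => by ring
          rw [e]
          exact A.sub_mem (hmul _ hA _ (hμ k)) (hmul _ (hμ _) _ hA)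
        refine ih _ s ?_ (mul_ne_zero hs (sub_ne_zero.2 hk)) hA'
        have hsub : (Finset.univ.filter fun σ => c σ * (σ k - t k) ≠ 0) ⊆
            (Finset.univ.filter fun σ => c σ ≠ 0).erase t := by
          intro σ hσ
          simp only [Finset.mem_filter, Finset.mem_univ, true_and, mul_ne_zero_iff] at hσ
          simp only [Finset.mem_erase, Finset.mem_filter, Finset.mem_univ, true_and]
          exact ⟨fun h => hσ.2 (by rw [h, sub_self]), hσ.1⟩
        have h2 := Finset.card_le_card hsub
        rw [Finset.card_erase_of_mem (by simp [ht])] at h2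
        omega
      · push Not at h
        rw [Finset.sum_eq_single s (fun σ _ hσ => by rw [h σ hσ, zero_smul]) (by simp)] at hA
        have h1 := hmul _ (hμ (c s)⁻¹) _ hA
        rwa [← hsmul, smul_smul, inv_mul_cancel₀ hs, one_smul] at h1
  obtain ⟨c, hc⟩ := hsum X
  obtain ⟨s, hs1, hs⟩ : ∃ s, s ≠ 1 ∧ c s ≠ 0 := by
    by_contra h
    push Not at h
    refine hne (c 1) ?_
    rw [hc, Finset.sum_eq_single 1 (fun σ _ hσ => by rw [h σ hσ, zero_smul]) (by simp)]
    exact LinearMap.ext fun x => rfl
  have hsA := key _ c s le_rfl hs (hc ▸ hX)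
  let P : Submonoid (E ≃ₐ[F] E) :=
    { carrier := {σ | σ.toLinearMap ∈ A}
      mul_mem' := fun {a b} ha hb => hmul _ ha _ hb
      one_mem' := by
        change (1 : E ≃ₐ[F] E).toLinearMap ∈ A
        convert hμ 1 using 1
        exact LinearMap.ext fun x => (one_mul x).symm }
  have hall : ∀ σ : E ≃ₐ[F] E, σ.toLinearMap ∈ A := by
    intro σ
    haveI : Fact (Nat.card (E ≃ₐ[F] E)).Prime := ⟨by rw [IsGalois.card_aut_eq_finrank]; exact hr⟩
    have hσ : σ ∈ Subgroup.zpowers s := by
      rw [zpowers_eq_top_of_prime_card rfl hs1]; exact Subgroup.mem_top _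
    obtain ⟨i, rfl⟩ := mem_powers_iff_mem_zpowers.2 hσ
    exact P.pow_mem hsA i
  intro Y
  obtain ⟨d, hd⟩ := hsum Y
  rw [hd]
  exact A.sum_mem fun σ _ => by rw [hsmul]; exact hmul _ (hμ _) _ (hall σ)

/-- If conjugation by `C` is compatible with a proper bimodule then `C` is an automorphism. -/
theorem mul_of_compat [Finite F] (hr : (Module.finrank F E).Prime) (A : AddSubgroup (E →ₗ[F] E))
    (hμ : ∀ k, μ k ∈ A) (hl : ∀ k, ∀ X ∈ A, μ k ∘ₗ X ∈ A) (hrr : ∀ k, ∀ X ∈ A, X ∘ₗ μ k ∈ A)
    (hne : ∃ X, X ∉ A) (C B : E ≃ₗ[F] E)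
    (hCB : ∀ X ∈ A, C.toLinearMap ∘ₗ X ∘ₗ B.toLinearMap ∈ A) (hC1 : C 1 = 1) :
    ∀ k l, C (k * l) = C k * C l := by
  classical
  haveI : Finite E := Module.finite_of_finite F
  haveI : Finite (E →ₗ[F] E) := Finite.of_injective _ DFunLike.coe_injective
  -- minimal rank
  let rk : (E →ₗ[F] E) → ℕ := fun Y => Module.finrank F (LinearMap.range Y)
  have hex : ∃ n, ∃ Y ∈ A, Y ≠ 0 ∧ rk Y = n :=
    ⟨_, μ 1, hμ 1, fun h => by simpa [μ_apply] using DFunLike.congr_fun h 1, rfl⟩
  obtain ⟨Y, hY, hY0, hYr⟩ := Nat.find_spec hex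
  have hmin : ∀ Z ∈ A, rk Z < Nat.find hex → Z = 0 := by
    intro Z hZ hlt
    by_contra hZ0
    exact Nat.find_min hex hlt ⟨Z, hZ, hZ0, rfl⟩
  -- elements killing the kernel of a minimal element are multiples of it
  have hone : ∀ Y ∈ A, Y ≠ 0 → rk Y = Nat.find hex → ∀ Z ∈ A,
      LinearMap.ker Y ≤ LinearMap.ker Z → ∃ e, Z = μ e ∘ₗ Y := by
    intro Y hY hY0 hYr Z hZ hker
    obtain ⟨x, hx⟩ : ∃ x, Y x ≠ 0 := by
      by_contra h; push Not at h; exact hY0 (LinearMap.ext h)
    refine ⟨Z x / Y x, ?_⟩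
    rw [← sub_eq_zero]
    refine hmin _ (A.sub_mem hZ (hl _ _ hY)) ?_
    rw [← hYr]
    have hlt : LinearMap.ker Y < LinearMap.ker (Z - μ (Z x / Y x) ∘ₗ Y) := by
      refine lt_of_le_of_ne (fun z hz => ?_) fun h => ?_
      · have h2 : Z z = 0 := hker hz
        rw [LinearMap.mem_ker] at hz ⊢
        simp [h2, hz]
      · apply hx
        rw [← LinearMap.mem_ker, h, LinearMap.mem_ker]
        simp [div_mul_cancel₀ _ hx]
    have h1 := Submodule.finrank_lt_finrank_of_lt hlt
    have h2 := Y.finrank_range_add_finrank_ker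
    have h3 := (Z - μ (Z x / Y x) ∘ₗ Y).finrank_range_add_finrank_ker
    simp only [rk]
    omega
  -- the rank is at least two
  have hrank : 2 ≤ Nat.find hex := by
    by_contra hlt
    have hpos : Nat.find hex ≠ 0 := by
      intro h0
      apply hY0
      rw [← LinearMap.range_eq_bot, ← Submodule.finrank_eq_zero (R := F)]
      exact hYr.trans h0
    have h1 : Module.finrank F (LinearMap.range Y) = 1 := by simp only [rk] at hYr; omega
    obtain ⟨w, hw0, hw⟩ := finrank_eq_one_iff'.1 h1
    have hw0' : (w : E) ≠ 0 := fun h => hw0 (Subtype.ext h)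
    have hcf : ∀ y, ∃ a : F, Y y = a • (w : E) := fun y => by
      obtain ⟨a, ha⟩ := hw ⟨Y y, LinearMap.mem_range_self Y y⟩
      exact ⟨a, (congrArg Subtype.val ha).symm⟩
    choose f hf using hcf
    let φ : E →ₗ[F] F :=
      { toFun := f
        map_add' := fun a b => smul_left_injective F hw0' (by
          simp only; rw [← hf, map_add, hf, hf, add_smul])
        map_smul' := fun a b => smul_left_injective F hw0' (by
          simp only [RingHom.id_apply]; rw [← hf, map_smul, hf, smul_smul, smul_eq_mul]) }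
    have hφ : φ ≠ 0 := by
      intro h0
      apply hY0
      refine LinearMap.ext fun y => ?_
      rw [hf y, show f y = φ y from rfl, h0, LinearMap.zero_apply, zero_smul, LinearMap.zero_apply]
    have hfun : ∀ ψ : E →ₗ[F] F, ∃ k : E, ψ = φ ∘ₗ μ k := by
      let T : E →ₗ[F] (E →ₗ[F] F) :=
        { toFun := fun k => φ ∘ₗ μ k
          map_add' := fun a b => LinearMap.ext fun x => by simp [add_mul]
          map_smul' := fun a b => LinearMap.ext fun x => by simp }
      have hinj : Function.Injective T := by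
        rw [injective_iff_map_eq_zero]
        intro k hk
        by_contra hk0
        apply hφ
        refine LinearMap.ext fun x => ?_
        have := DFunLike.congr_fun hk (k⁻¹ * x)
        simpa [T, ← mul_assoc, hk0] using this
      intro ψ
      obtain ⟨k, hk⟩ := (LinearMap.injective_iff_surjective_of_finrank_eq_finrank
        (Subspace.dual_finrank_eq (K := F) (V := E)).symm).1 hinj ψ
      exact ⟨k, hk.symm⟩
    have hrk1 : ∀ (e : E) (ψ : E →ₗ[F] F), ψ.smulRight e ∈ A := by
      intro e ψ
      obtain ⟨k, hk⟩ := hfun ψ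
      have := hrr k _ (hl (e / (w : E)) _ hY)
      convert this using 1
      refine LinearMap.ext fun x => ?_
      have h2 : Y (k * x) = φ (k * x) • (w : E) := hf _
      simp only [LinearMap.smulRight_apply, LinearMap.comp_apply, μ_apply, hk, h2, mul_smul_comm,
        div_mul_cancel₀ _ hw0']
    obtain ⟨Z, hZ⟩ := hne
    apply hZ
    have b := Module.finBasis F E
    have e : Z = ∑ i, (b.coord i).smulRight (Z (b i)) := b.ext fun j => by
      simp [Finsupp.single_apply, ite_smul]
    rw [e]
    exact A.sum_mem fun i _ => hrk1 _ _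
  -- surjectivity of the compatibility
  have hsurj : ∀ Y ∈ A, ∃ X ∈ A, C.toLinearMap ∘ₗ X ∘ₗ B.toLinearMap = Y := by
    let T : A → A := fun X => ⟨_, hCB X X.2⟩
    have hinj : Function.Injective T := by
      intro X X' h
      refine Subtype.ext (LinearMap.ext fun x => ?_)
      have := DFunLike.congr_fun (congrArg Subtype.val h) (B.symm x)
      simpa [T] using this
    haveI : Finite A := Subtype.finite
    intro Y hY
    obtain ⟨X, hX⟩ := (Finite.injective_iff_surjective.1 hinj) ⟨Y, hY⟩
    exact ⟨X, X.2, congrArg Subtype.val hX⟩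
  intro k l
  obtain ⟨D, hD⟩ : ∃ D, D = C.toLinearMap ∘ₗ μ k ∘ₗ C.symm.toLinearMap := ⟨_, rfl⟩
  -- `D` is scalar on the image of every minimal element
  have hDY : ∀ Y ∈ A, Y ≠ 0 → rk Y = Nat.find hex → ∃ e, D ∘ₗ Y = μ e ∘ₗ Y := by
    intro Y hY hY0 hYr
    obtain ⟨X, hX, hXY⟩ := hsurj Y hY
    have e : D ∘ₗ Y = C.toLinearMap ∘ₗ (μ k ∘ₗ X) ∘ₗ B.toLinearMap := by
      rw [← hXY, hD]
      exact LinearMap.ext fun x => by simp
    refine hone Y hY hY0 hYr _ ?_ fun z hz => ?_
    · rw [e]; exact hCB _ (hl k _ hX)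
    · rw [LinearMap.mem_ker] at hz ⊢
      rw [LinearMap.comp_apply, hz, map_zero]
  -- an element of the image outside the base field
  obtain ⟨w, hw, hw0⟩ := Submodule.exists_mem_ne_zero_of_ne_bot
    (p := LinearMap.range Y) (fun h => hY0 (LinearMap.range_eq_bot.1 h))
  obtain ⟨w', hw', hw'out⟩ : ∃ w' ∈ LinearMap.range Y, w' ∉ Submodule.span F {w} := by
    by_contra h
    push Not at h
    have h1 := Submodule.finrank_mono (R := F) (fun x hx => h x hx :
      LinearMap.range Y ≤ Submodule.span F {w})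
    rw [finrank_span_singleton hw0] at h1
    simp only [rk] at hYr
    omega
  have hDy : ∀ c, D (w' / w * c) = w' / w * D c := by
    intro c
    by_cases hc : c = 0
    · simp [hc]
    obtain ⟨y, hy⟩ := hw
    obtain ⟨y', hy'⟩ := hw'
    have hcw : c / w ≠ 0 := div_ne_zero hc hw0
    have hr' : rk (μ (c / w) ∘ₗ Y) = Nat.find hex := by
      simp only [rk] at hYr ⊢
      rw [LinearMap.range_comp, ← hYr]
      exact (Submodule.equivMapOfInjective _ (mul_right_injective₀ hcw) _).finrank_eq.symm
    obtain ⟨e, he⟩ := hDY _ (hl (c / w) _ hY) (fun h => hY0 (LinearMap.ext fun x => by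
      have h2 := DFunLike.congr_fun h x
      simpa [hcw, hw0, hc] using h2)) hr'
    have h1 := DFunLike.congr_fun he y
    have h2 := DFunLike.congr_fun he y'
    simp only [LinearMap.comp_apply, μ_apply, hy, hy'] at h1 h2
    rw [div_mul_cancel₀ _ hw0] at h1
    rw [show w' / w * c = c / w * w' by ring, h2, h1]
    ring
  have hyout : w' / w ∉ Set.range (algebraMap F E) := by
    rintro ⟨a, ha⟩
    apply hw'out
    refine Submodule.mem_span_singleton.2 ⟨a, ?_⟩
    rw [Algebra.smul_def, ha, div_mul_cancel₀ _ hw0]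
  have hDμ := eq_mul_of_comm hr hyout hDy
  have h1 := DFunLike.congr_fun hDμ (C l)
  have h2 : D 1 = C k := by
    have : C.symm 1 = 1 := by rw [LinearEquiv.symm_apply_eq, hC1]
    simp [hD, this]
  rw [μ_apply, h2, hD] at h1
  simpa using h1

end CfsgLib.Lie.ExtAlg
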