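import Cfsg.Agent.Lie.ExtAlg
import Cfsg.Agent.Lie.DecompSL

/-!
Field extension subgroups of the special linear group: the stabiliser of an `E`-structure on `F^ι`,
`E` of prime degree over `F`, is maximal.
-/

set_option autoImplicit false
set_option linter.unusedSimpArgs false
set_option linter.unusedSectionVars false

namespace CfsgLib.Lie.ExtField

open Matrix
open CfsgLib.Lie.FormMaxSL (gl_ext inv_mulVec_mulVec mulVec_inv_mulVec)
open CfsgLib.Lie.DecompSL (mem_SL det_eq_one)
open CfsgLib.Lie.ExtAlg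

variable {F : Type*} [Field F] {ι : Type} [Fintype ι] [DecidableEq ι]

/-- the underlying map -/
abbrev act (g : GL ι F) (x : ι → F) : ι → F := (g : Matrix ι ι F) *ᵥ x

theorem act_mul (g h : GL ι F) (x : ι → F) : act (g * h) x = act g (act h x) := by
  simp only [act, Units.val_mul, Matrix.mulVec_mulVec]

theorem act_inv (g : GL ι F) (x : ι → F) : act g⁻¹ (act g x) = x := inv_mulVec_mulVec g x

theorem act_inv' (g : GL ι F) (x : ι → F) : act g (act g⁻¹ x) = x := mulVec_inv_mulVec g x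

theorem act_one (x : ι → F) : act (1 : GL ι F) x = x := by simp [act]

theorem act_ne_zero (g : GL ι F) {x : ι → F} (hx : x ≠ 0) : act g x ≠ 0 := fun h => hx (by
  rw [← act_inv g x, h]; simp [act])

/-- `1 + f` for a map of square zero -/
noncomputable def uni (f : (ι → F) →ₗ[F] (ι → F)) : GL ι F :=
  haveI := Classical.dec (∀ x, f (f x) = 0)
  if h : ∀ x, f (f x) = 0 then
    { val := LinearMap.toMatrix' (LinearMap.id + f)
      inv := LinearMap.toMatrix' (LinearMap.id - f)
      val_inv := by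
        rw [← LinearMap.toMatrix'_comp, ← LinearMap.toMatrix'_id]
        exact congrArg _ (LinearMap.ext fun x => by simp [h x])
      inv_val := by
        rw [← LinearMap.toMatrix'_comp, ← LinearMap.toMatrix'_id]
        exact congrArg _ (LinearMap.ext fun x => by simp [h x]) }
  else 1

theorem uni_act {f : (ι → F) →ₗ[F] (ι → F)} (h : ∀ x, f (f x) = 0) (x : ι → F) :
    act (uni f) x = x + f x := by
  rw [uni, dif_pos h]
  change LinearMap.toMatrix' (LinearMap.id + f) *ᵥ x = _
  rw [LinearMap.toMatrix'_mulVec]; rfl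

theorem uni_inv_act {f : (ι → F) →ₗ[F] (ι → F)} (h : ∀ x, f (f x) = 0) (x : ι → F) :
    act (uni f)⁻¹ x = x - f x := by
  rw [uni, dif_pos h]
  change LinearMap.toMatrix' (LinearMap.id - f) *ᵥ x = _
  rw [LinearMap.toMatrix'_mulVec]; rfl

theorem ext_act {g h : GL ι F} (H : ∀ x, act g x = act h x) : g = h := gl_ext H

theorem uni_pow {f : (ι → F) →ₗ[F] (ι → F)} (h : ∀ x, f (f x) = 0) (n : ℕ) (x : ι → F) :
    act (uni f ^ n) x = x + (n : F) • f x := by
  induction n with
  | zero => simp [act]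
  | succ n ih =>
    rw [pow_succ', act_mul, ih, uni_act h, map_add, map_smul, h, smul_zero, add_zero, Nat.cast_succ,
      add_smul, one_smul, add_assoc]

theorem uni_det [Finite F] (f : (ι → F) →ₗ[F] (ι → F)) :
    (uni f : Matrix ι ι F).det = 1 := by
  by_cases h : ∀ x, f (f x) = 0
  · haveI : Fintype F := Fintype.ofFinite F
    obtain ⟨p, hp⟩ := CharP.exists F
    haveI := hp
    haveI : Fact p.Prime := ⟨CharP.char_is_prime F p⟩
    have h1 : uni f ^ p = 1 := ext_act fun x => by
      rw [uni_pow h, CharP.cast_eq_zero, zero_smul, add_zero, act_one]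
    have h2 : (uni f : Matrix ι ι F).det ^ p = 1 := by
      rw [← Matrix.det_pow, ← Units.val_pow_eq_pow_val, h1, Units.val_one, Matrix.det_one]
    exact frobenius_inj F p (by rw [frobenius_def, map_one]; exact h2)
  · rw [uni, dif_neg h, Units.val_one, Matrix.det_one]

theorem uni_mul_uni {f g : (ι → F) →ₗ[F] (ι → F)} (hf : ∀ x, f (f x) = 0) (hg : ∀ x, g (g x) = 0)
    (hfg : ∀ x, f (g x) = 0) (hgf : ∀ x, g (f x) = 0) : uni f * uni g = uni (f + g) := by
  refine ext_act fun x => ?_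
  rw [act_mul, uni_act hg, uni_act hf, uni_act (fun y => by simp [hf, hg, hfg, hgf]), map_add, hfg,
    LinearMap.add_apply]
  abel

theorem uni_inv {f : (ι → F) →ₗ[F] (ι → F)} (hf : ∀ x, f (f x) = 0) : (uni f)⁻¹ = uni (-f) := by
  refine ext_act fun x => ?_
  rw [uni_inv_act hf, uni_act (fun y => by simp [hf]), LinearMap.neg_apply, sub_eq_add_neg]

theorem comm_uni {f g : (ι → F) →ₗ[F] (ι → F)} (hf : ∀ x, f (f x) = 0) (hg : ∀ x, g (g x) = 0)
    (hgf : ∀ x, g (f x) = 0) : uni f * uni g * (uni f)⁻¹ * (uni g)⁻¹ = uni (f ∘ₗ g) := by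
  refine ext_act fun x => ?_
  rw [act_mul, act_mul, act_mul, uni_inv_act hg, uni_inv_act hf, uni_act hg, uni_act hf,
    uni_act (fun y => by simp [hgf, hf]), LinearMap.comp_apply]
  simp only [map_sub, map_add, hf, hg, hgf, map_zero]
  abel

variable {E : Type*} [Field E] [Algebra F E] [Module E (ι → F)] [IsScalarTower F E (ι → F)]

/-- commutes with the scalars of `E` -/
def Lin (E : Type*) [Field E] [Algebra F E] [Module E (ι → F)] (g : GL ι F) : Prop :=
  ∀ (k : E) (x : ι → F), act g (k • x) = k • act g x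

/-- normalises the scalars of `E` -/
def Semi (E : Type*) [Field E] [Algebra F E] [Module E (ι → F)] (g : GL ι F) : Prop :=
  ∀ k : E, ∃ k' : E, ∀ x : ι → F, act g (k • x) = k' • act g x

theorem lin_inv {g : GL ι F} (hg : Lin E g) : Lin E g⁻¹ := fun k x => by
  rw [← act_inv g (k • act g⁻¹ x), hg, act_inv']

/-- the map `x ↦ X(Ψ x) • v` -/
noncomputable def rtMap (v : ι → F) (Ψ : (ι → F) →ₗ[E] E) (X : E →ₗ[F] E) :
    (ι → F) →ₗ[F] (ι → F) where
  toFun x := X (Ψ x) • v
  map_add' x y := by simp [add_smul]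
  map_smul' a x := by
    rw [RingHom.id_apply, Ψ.map_smul_of_tower, map_smul, smul_assoc]

theorem rtMap_apply (v : ι → F) (Ψ : (ι → F) →ₗ[E] E) (X : E →ₗ[F] E) (x : ι → F) :
    rtMap v Ψ X x = X (Ψ x) • v := rfl

theorem rtMap_sq {v : ι → F} {Ψ : (ι → F) →ₗ[E] E} (h : Ψ v = 0) (X : E →ₗ[F] E) (x : ι → F) :
    rtMap v Ψ X (rtMap v Ψ X x) = 0 := by
  simp [rtMap_apply, h]

/-- separation -/
theorem sepE {S : Submodule E (ι → F)} {x : ι → F} (hx : x ∉ S) :
    ∃ φ : (ι → F) →ₗ[E] E, φ x = 1 ∧ ∀ s ∈ S, φ s = 0 := by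
  obtain ⟨φ, h1, h2⟩ := Submodule.exists_dual_map_eq_bot_of_notMem hx inferInstance
  refine ⟨(φ x)⁻¹ • φ, by simp [h1], fun s hs => ?_⟩
  have : φ s ∈ S.map φ := Submodule.mem_map_of_mem hs
  rw [h2, Submodule.mem_bot] at this
  simp [this]

theorem out1 [Module.Finite E (ι → F)] (hm : 2 ≤ Module.finrank E (ι → F)) (a : ι → F) :
    ∃ c : ι → F, c ∉ Submodule.span E ({a} : Set (ι → F)) := by
  by_contra hc
  push Not at hc
  have h1 : Submodule.span E ({a} : Set (ι → F)) = ⊤ := eq_top_iff.2 fun x _ => hc x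
  have h2 := finrank_span_le_card (R := E) ({a} : Set (ι → F))
  rw [h1, finrank_top] at h2
  simp at h2
  omega

theorem out2 [Module.Finite E (ι → F)] (hm : 3 ≤ Module.finrank E (ι → F)) (a b : ι → F) :
    ∃ c : ι → F, c ∉ Submodule.span E ({a, b} : Set (ι → F)) := by
  classical
  by_contra hc
  push Not at hc
  have h1 : Submodule.span E ({a, b} : Set (ι → F)) = ⊤ := eq_top_iff.2 fun x _ => hc x
  have h2 := finrank_span_finset_le_card (R := E) ({a, b} : Finset (ι → F))
  rw [Set.finrank, Finset.coe_pair] at h2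
  have h3 : ({a, b} : Finset (ι → F)).card ≤ 2 := Finset.card_le_two
  rw [h1, finrank_top] at h2
  omega

theorem outside_trans {a c : ι → F} (hc : c ∉ Submodule.span E ({a} : Set (ι → F))) (ha : a ≠ 0) :
    a ∉ Submodule.span E ({c} : Set (ι → F)) := by
  intro h
  obtain ⟨t, ht⟩ := Submodule.mem_span_singleton.1 h
  have ht0 : t ≠ 0 := by rintro rfl; exact ha (by rw [← ht, zero_smul])
  exact hc (Submodule.mem_span_singleton.2 ⟨t⁻¹, by rw [← ht, smul_smul, inv_mul_cancel₀ ht0, one_smul]⟩)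

theorem lin_rt {v : ι → F} {Ψ : (ι → F) →ₗ[E] E} (h : Ψ v = 0) (k : E) :
    Lin E (uni (rtMap v Ψ (μ k))) := by
  intro l x
  rw [uni_act (rtMap_sq h _), uni_act (rtMap_sq h _), rtMap_apply, rtMap_apply, map_smul, smul_eq_mul,
    smul_add, smul_smul, μ_apply, μ_apply]
  congr 2
  ring

section Main

variable [Finite F] [FiniteDimensional F E] [Module.Finite E (ι → F)]
  (hm : 2 ≤ Module.finrank E (ι → F))
  {M : Subgroup (GL ι F)} (hH : ∀ g : GL ι F, Lin E g → (g : Matrix ι ι F).det = 1 → g ∈ M)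

/-- a transvection over `E` -/
theorem rt_lin_mem (hH : ∀ g : GL ι F, Lin E g → (g : Matrix ι ι F).det = 1 → g ∈ M) {v : ι → F}
    {Ψ : (ι → F) →ₗ[E] E} (h : Ψ v = 0) (k : E) : uni (rtMap v Ψ (μ k)) ∈ M :=
  hH _ (lin_rt h k) (uni_det _)

include hm hH

theorem move_outside {a b : ι → F} (hab : a ∉ Submodule.span E ({b - a} : Set (ι → F))) :
    ∃ h ∈ M, Lin E h ∧ act h a = b := by
  obtain ⟨φ, hφ1, hφ⟩ := sepE hab
  have h0 : φ (b - a) = 0 := hφ _ (Submodule.mem_span_singleton_self _)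
  refine ⟨_, rt_lin_mem hH h0 1, lin_rt h0 1, ?_⟩
  rw [uni_act (rtMap_sq h0 _), rtMap_apply, hφ1, μ_apply, mul_one, one_smul, add_sub_cancel]

theorem move {a b : ι → F} (ha : a ≠ 0) (hb : b ≠ 0) : ∃ h ∈ M, Lin E h ∧ act h a = b := by
  by_cases hab : a ∈ Submodule.span E ({b - a} : Set (ι → F))
  · obtain ⟨c, hc⟩ := out1 (E := E) hm a
    have hab' : b ∈ Submodule.span E ({a} : Set (ι → F)) := by
      obtain ⟨t, ht⟩ := Submodule.mem_span_singleton.1 hab
      have ht0 : t ≠ 0 := by rintro rfl; exact ha (by rw [← ht, zero_smul])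
      refine Submodule.mem_span_singleton.2 ⟨1 + t⁻¹, ?_⟩
      have e : t⁻¹ • a = b - a := by
        conv_lhs => rw [← ht, smul_smul, inv_mul_cancel₀ ht0, one_smul]
      rw [add_smul, one_smul, e, add_sub_cancel]
    have h1 : a ∉ Submodule.span E ({c - a} : Set (ι → F)) := outside_trans
      (fun h => hc (by simpa using add_mem h (Submodule.mem_span_singleton_self a))) ha
    obtain ⟨g1, hg1, hg1l, hg1a⟩ := move_outside hm hH h1
    have h2 : c ∉ Submodule.span E ({b - c} : Set (ι → F)) := by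
      intro h
      obtain ⟨t, ht⟩ := Submodule.mem_span_singleton.1 h
      obtain ⟨s, hs⟩ := Submodule.mem_span_singleton.1 hab'
      apply hc
      by_cases h1t : 1 + t = 0
      · exfalso
        apply hb
        have e : t • b = (1 + t) • c := by rw [add_smul, one_smul]; conv_rhs => arg 1; rw [← ht]
                                           module
        rw [h1t, zero_smul] at e
        exact (smul_eq_zero.1 e).resolve_left (fun h0 => by rw [h0, add_zero] at h1t; exact one_ne_zero h1t)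
      · refine Submodule.mem_span_singleton.2 ⟨(1 + t)⁻¹ * (t * s), ?_⟩
        have e : (t * s) • a = (1 + t) • c := by
          rw [mul_smul, hs, add_smul, one_smul]; conv_rhs => arg 1; rw [← ht]
          module
        rw [mul_smul, e, smul_smul, inv_mul_cancel₀ h1t, one_smul]
    obtain ⟨g2, hg2, hg2l, hg2a⟩ := move_outside hm hH h2
    exact ⟨g2 * g1, M.mul_mem hg2 hg1, fun k x => by rw [act_mul, hg1l, hg2l, act_mul],
      by rw [act_mul, hg1a, hg2a]⟩
  · exact move_outside hm hH hab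

omit hm hH in
theorem finrank_E_pos : 0 < Module.finrank F E := Module.finrank_pos

/-- orbits outside a line of the stabiliser of a vector: a coordinate for the norm -/
theorem move_fix {v : ι → F} (hv : v ≠ 0) :
    ∃ Φ : (ι → F) →ₗ[E] E, Φ v = 0 ∧
      (Module.finrank E (ι → F) = 2 → ∀ x, Φ x = 0 → x ∈ Submodule.span E ({v} : Set (ι → F))) ∧
      ∀ u u' : ι → F, u ∉ Submodule.span E ({v} : Set (ι → F)) →
      u' ∉ Submodule.span E ({v} : Set (ι → F)) →
      (Module.finrank E (ι → F) = 2 → Algebra.norm F (Φ u) = Algebra.norm F (Φ u')) →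
      ∃ h ∈ M, Lin E h ∧ act h v = v ∧ act h u = u' := by
  classical
  obtain ⟨u0, hu0⟩ := out1 (E := E) hm v
  obtain ⟨Φ, hΦ1, hΦ⟩ := sepE hu0
  have hΦv : Φ v = 0 := hΦ v (Submodule.mem_span_singleton_self v)
  have hdec' : Module.finrank E (ι → F) = 2 → ∀ x, Φ x = 0 → x ∈ Submodule.span E ({v} : Set (ι → F)) := by
    intro h2 x hx
    by_contra hxv
    have hli : LinearIndependent E ![v, x] := by
      rw [LinearIndependent.pair_iff' hv]
      exact fun a h => hxv (Submodule.mem_span_singleton.2 ⟨a, h⟩)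
    have htop : Submodule.span E (Set.range ![v, x]) = ⊤ :=
      hli.span_eq_top_of_card_eq_finrank' (by simp [h2])
    have hu0' : u0 ∈ LinearMap.ker Φ := by
      have h3 : Submodule.span E (Set.range ![v, x]) ≤ LinearMap.ker Φ := Submodule.span_le.2 (by
        rintro _ ⟨i, rfl⟩; fin_cases i <;> simp [hΦv, hx])
      exact h3 (htop ▸ Submodule.mem_top)
    rw [LinearMap.mem_ker, hΦ1] at hu0'
    exact one_ne_zero hu0'
  refine ⟨Φ, hΦv, hdec', fun u u' hu hu' hcls => ?_⟩
  by_cases h2 : Module.finrank E (ι → F) = 2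
  · have hdec := hdec' h2
    have hc : Φ u ≠ 0 := fun h => hu (hdec u h)
    have hc' : Φ u' ≠ 0 := fun h => hu' (hdec u' h)
    obtain ⟨lam, hlam⟩ : ∃ lam, lam = Φ u' / Φ u := ⟨_, rfl⟩
    have hlam0 : lam ≠ 0 := hlam ▸ div_ne_zero hc' hc
    have hN : Algebra.norm F lam = 1 := by
      refine mul_right_cancel₀ (Algebra.norm_ne_zero_iff.2 hc : Algebra.norm F (Φ u) ≠ 0) ?_
      rw [one_mul, ← map_mul, hlam, div_mul_cancel₀ _ hc, hcls h2]
    obtain ⟨T, hT⟩ : ∃ T, T = LinearMap.transvection Φ ((lam - 1) • u0) := ⟨_, rfl⟩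
    obtain ⟨T', hT'⟩ : ∃ T', T' = LinearMap.transvection Φ ((lam⁻¹ - 1) • u0) := ⟨_, rfl⟩
    have hTx : ∀ x, T x = x + Φ x • (lam - 1) • u0 := fun x => by
      rw [hT]; simp [LinearMap.transvection.apply]
    have hT'x : ∀ x, T' x = x + Φ x • (lam⁻¹ - 1) • u0 := fun x => by
      rw [hT']; simp [LinearMap.transvection.apply]
    have hTT : T ∘ₗ T' = LinearMap.id := LinearMap.ext fun x => by
      rw [LinearMap.comp_apply, hTx, hT'x, map_add, map_smul, map_smul, hΦ1, LinearMap.id_apply]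
      match_scalars <;> (simp; try field_simp; try ring)
    have hTT' : T' ∘ₗ T = LinearMap.id := LinearMap.ext fun x => by
      rw [LinearMap.comp_apply, hT'x, hTx, map_add, map_smul, map_smul, hΦ1, LinearMap.id_apply]
      match_scalars <;> (simp; try field_simp; try ring)
    obtain ⟨h, hh⟩ : ∃ h : GL ι F, ∀ x, act h x = T x := by
      refine ⟨⟨LinearMap.toMatrix' (T.restrictScalars F), LinearMap.toMatrix' (T'.restrictScalars F),
        ?_, ?_⟩, fun x => LinearMap.toMatrix'_mulVec _ _⟩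
      · rw [← LinearMap.toMatrix'_comp, ← LinearMap.toMatrix'_id]
        exact congrArg _ (LinearMap.ext fun x => DFunLike.congr_fun hTT x)
      · rw [← LinearMap.toMatrix'_comp, ← LinearMap.toMatrix'_id]
        exact congrArg _ (LinearMap.ext fun x => DFunLike.congr_fun hTT' x)
    have hhl : Lin E h := fun k x => by rw [hh, hh, map_smul]
    have hhd : (h : Matrix ι ι F).det = 1 := by
      have e : Matrix.toLin' (h : Matrix ι ι F) = T.restrictScalars F :=
        LinearMap.ext fun x => by rw [Matrix.toLin'_apply]; exact hh x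
      rw [← LinearMap.det_toLin', e, LinearMap.det_restrictScalars, hT, LinearMap.transvection.det,
        map_smul, hΦ1, smul_eq_mul, mul_one, add_sub_cancel, hN]
    obtain ⟨d, hd⟩ : ∃ d : E, u' - act h u = d • v := by
      have : Φ (u' - act h u) = 0 := by
        rw [map_sub, hh, hTx, map_add, map_smul, map_smul, hΦ1, hlam]
        simp
        field_simp
        ring
      obtain ⟨d, hd⟩ := Submodule.mem_span_singleton.1 (hdec _ this)
      exact ⟨d, hd.symm⟩
    refine ⟨uni (rtMap v Φ (μ (d / Φ u'))) * h, M.mul_mem (rt_lin_mem hH hΦv _) (hH h hhl hhd),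
      fun k x => by rw [act_mul, hhl, lin_rt hΦv, act_mul], ?_, ?_⟩
    · rw [act_mul, hh, hTx, hΦv, zero_smul, add_zero, uni_act (rtMap_sq hΦv _), rtMap_apply, hΦv,
        map_zero, zero_smul, add_zero]
    · rw [act_mul, uni_act (rtMap_sq hΦv _), rtMap_apply]
      have : Φ (act h u) = Φ u' := by
        have h3 : Φ (u' - act h u) = 0 := by rw [hd, map_smul, hΦv, smul_zero]
        rw [map_sub, sub_eq_zero] at h3
        exact h3.symm
      rw [this, μ_apply, div_mul_cancel₀ _ hc', ← hd, add_sub_cancel]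
  · have hm3 : 3 ≤ Module.finrank E (ι → F) := by omega
    have direct : ∀ u u', u ∉ Submodule.span E ({v, u' - u} : Set (ι → F)) →
        ∃ h ∈ M, Lin E h ∧ act h v = v ∧ act h u = u' := by
      intro u u' h
      obtain ⟨φ, hφ1, hφ⟩ := sepE h
      have h0 : φ (u' - u) = 0 := hφ _ (Submodule.subset_span (by simp))
      refine ⟨_, rt_lin_mem hH h0 1, lin_rt h0 1, ?_, ?_⟩
      · rw [uni_act (rtMap_sq h0 _), rtMap_apply, hφ _ (Submodule.subset_span (by simp)), map_zero,
          zero_smul, add_zero]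
      · rw [uni_act (rtMap_sq h0 _), rtMap_apply, hφ1, μ_apply, mul_one, one_smul, add_sub_cancel]
    by_cases hd : u ∈ Submodule.span E ({v, u' - u} : Set (ι → F))
    · obtain ⟨p, s, hps⟩ := Submodule.mem_span_pair.1 hd
      have hs : s ≠ 0 := by
        rintro rfl
        exact hu (Submodule.mem_span_singleton.2 ⟨p, by rw [← hps, zero_smul, add_zero]⟩)
      obtain ⟨c, hc⟩ := out2 (E := E) hm3 v u
      have h1 : u ∉ Submodule.span E ({v, c - u} : Set (ι → F)) := by
        intro h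
        obtain ⟨p', s', hps'⟩ := Submodule.mem_span_pair.1 h
        have hs' : s' ≠ 0 := by
          rintro rfl
          exact hu (Submodule.mem_span_singleton.2 ⟨p', by rw [← hps', zero_smul, add_zero]⟩)
        apply hc
        refine Submodule.mem_span_pair.2 ⟨-(p' / s'), 1 + s'⁻¹, ?_⟩
        have e : s'⁻¹ • u = (p' / s') • v + (c - u) := by
          conv_lhs => rw [← hps', smul_add, smul_smul, smul_smul, inv_mul_cancel₀ hs', one_smul]
          rw [inv_mul_eq_div]
        rw [add_smul, one_smul, e, neg_smul]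
        abel
      have h2 : c ∉ Submodule.span E ({v, u' - c} : Set (ι → F)) := by
        intro h
        obtain ⟨p', s', hps'⟩ := Submodule.mem_span_pair.1 h
        have hu'mem : u' ∈ Submodule.span E ({v, u} : Set (ι → F)) := by
          refine Submodule.mem_span_pair.2 ⟨-(p / s), 1 + s⁻¹, ?_⟩
          have e : s⁻¹ • u = (p / s) • v + (u' - u) := by
            conv_lhs => rw [← hps, smul_add, smul_smul, smul_smul, inv_mul_cancel₀ hs, one_smul]
            rw [inv_mul_eq_div]
          rw [add_smul, one_smul, e, neg_smul]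
          abel
        have e : (1 + s') • c = p' • v + s' • u' := by
          rw [add_smul, one_smul]
          conv_lhs => arg 1; rw [← hps']
          module
        by_cases h1s : 1 + s' = 0
        · rw [h1s, zero_smul] at e
          have hs'0 : s' ≠ 0 := fun h0 => by rw [h0, add_zero] at h1s; exact one_ne_zero h1s
          exact hu' (Submodule.mem_span_singleton.2 ⟨-(p' / s'), by
            have h4 : s' • u' = (-p') • v := by rw [neg_smul]; exact (neg_eq_of_add_eq_zero_right e.symm).symm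
            rw [neg_div', ← inv_mul_eq_div, mul_smul, ← h4, smul_smul, inv_mul_cancel₀ hs'0, one_smul]⟩)
        · apply hc
          rw [← inv_smul_smul₀ h1s c, e]
          exact Submodule.smul_mem _ _ (add_mem (Submodule.smul_mem _ _ (Submodule.subset_span (by simp)))
            (Submodule.smul_mem _ _ hu'mem))
      obtain ⟨g1, hg1, hg1l, hg1v, hg1u⟩ := direct u c h1
      obtain ⟨g2, hg2, hg2l, hg2v, hg2u⟩ := direct c u' h2
      exact ⟨g2 * g1, M.mul_mem hg2 hg1, fun k x => by rw [act_mul, hg1l, hg2l, act_mul],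
        by rw [act_mul, hg1v, hg2v], by rw [act_mul, hg1u, hg2u]⟩
    · exact direct u u' hd

omit hH hm in
theorem eq_scalar (hm : 2 ≤ Module.finrank E (ι → F)) (f : (ι → F) →ₗ[F] (ι → F))
    (h : ∀ x, f x ∈ Submodule.span E ({x} : Set (ι → F))) : ∃ k : E, ∀ x, f x = k • x := by
  have hc : ∀ x, ∃ k : E, k • x = f x := fun x => Submodule.mem_span_singleton.1 (h x)
  choose c hc using hc
  obtain ⟨w, hw⟩ := out1 (E := E) hm 0
  have hw0 : w ≠ 0 := fun h => hw (by rw [h]; exact zero_mem _)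
  have key : ∀ x, x ≠ 0 → ∀ y, y ∉ Submodule.span E ({x} : Set (ι → F)) → c x = c y := by
    intro x hx y hy
    have h1 := hc (x + y)
    rw [map_add, ← hc x, ← hc y] at h1
    have h2 : (c (x + y) - c x) • x + (c (x + y) - c y) • y = 0 := by
      linear_combination (norm := module) h1
    have h3 : c (x + y) - c y = 0 := by
      by_contra h4
      refine hy (Submodule.mem_span_singleton.2 ⟨-((c (x + y) - c x) / (c (x + y) - c y)), ?_⟩)
      rw [neg_smul, ← inv_mul_eq_div, mul_smul, ← smul_neg, ← eq_neg_of_add_eq_zero_right h2,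
        smul_smul, inv_mul_cancel₀ h4, one_smul]
    rw [h3, zero_smul, add_zero, smul_eq_zero] at h2
    have h5 := h2.resolve_right hx
    rw [sub_eq_zero] at h3 h5
    rw [← h5, h3]
  refine ⟨c w, fun x => ?_⟩
  by_cases hx : x = 0
  · subst hx; rw [map_zero, smul_zero]
  rw [← hc x]
  congr 1
  by_cases hxw : x ∈ Submodule.span E ({w} : Set (ι → F))
  · obtain ⟨y, hy⟩ := out1 (E := E) hm w
    have hyx : y ∉ Submodule.span E ({x} : Set (ι → F)) := fun h => hy
      (Submodule.span_singleton_le_iff_mem _ _ |>.2 hxw h)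
    rw [key w hw0 y hy, key x hx y hyx]
  · rw [key w hw0 x hxw]

/-- a stabiliser element moving a multiple of the fixed vector off the line -/
theorem exists_moved (hr : (Module.finrank F E).Prime) (hN : ∃ g ∈ M, ¬ Semi E g)
    {v : ι → F} (hv : v ≠ 0) {k : E} (hk : k ∉ Set.range (algebraMap F E)) :
    ∃ g ∈ M, act g v = v ∧ act g (k • v) ∉ Submodule.span E ({v} : Set (ι → F)) := by
  by_contra hcon
  push Not at hcon
  -- `k` never leaves a line
  let S : Subalgebra F E :=
    { carrier := {k | ∀ w : ι → F, w ≠ 0 → ∀ g ∈ M, act g w = w →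
        act g (k • w) ∈ Submodule.span E ({w} : Set (ι → F))}
      mul_mem' := by
        intro a b ha hb w hw g hg hgw
        by_cases hb0 : b = 0
        · subst hb0; simp [act]
        have hbw : b • w ≠ 0 := smul_ne_zero hb0 hw
        obtain ⟨b', hb'⟩ := Submodule.mem_span_singleton.1 (hb w hw g hg hgw)
        obtain ⟨h, hh, hhl, hhb⟩ := move hm hH (a := act g (b • w)) (act_ne_zero g hbw) hbw
        have hb'0 : b' ≠ 0 := fun h0 => act_ne_zero g hbw (by rw [← hb', h0, zero_smul])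
        have h1 := ha (b • w) hbw (h * g) (M.mul_mem hh hg) (by rw [act_mul, hhb])
        rw [smul_smul] at h1
        obtain ⟨t, ht⟩ := Submodule.mem_span_singleton.1 h1
        refine Submodule.mem_span_singleton.2 ⟨t * b', ?_⟩
        have h2 : act h⁻¹ (t • b • w) = act g ((a * b) • w) := by rw [ht, act_mul, act_inv]
        rw [lin_inv hhl, ← hhb, act_inv, ← hb', smul_smul] at h2
        exact h2
      one_mem' := by
        intro w hw g hg hgw
        rw [one_smul, hgw]
        exact Submodule.mem_span_singleton_self w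
      add_mem' := by
        intro a b ha hb w hw g hg hgw
        rw [add_smul, show act g (a • w + b • w) = act g (a • w) + act g (b • w) from
          Matrix.mulVec_add _ _ _]
        exact add_mem (ha w hw g hg hgw) (hb w hw g hg hgw)
      zero_mem' := by
        intro w hw g hg hgw
        simp [act]
      algebraMap_mem' := by
        intro a w hw g hg hgw
        rw [algebraMap_smul, show act g (a • w) = a • act g w from Matrix.mulVec_smul _ _ _, hgw,
          ← algebraMap_smul E a w]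
        exact Submodule.smul_mem _ _ (Submodule.mem_span_singleton_self w) }
  have hkS : k ∈ S := by
    intro w hw g hg hgw
    obtain ⟨h, hh, hhl, hhv⟩ := move hm hH hv hw
    have h1 := hcon (h⁻¹ * g * h) (M.mul_mem (M.mul_mem (M.inv_mem hh) hg) hh)
      (by rw [act_mul, act_mul, hhv, hgw, ← hhv, act_inv])
    rw [act_mul, act_mul, hhl, hhv] at h1
    obtain ⟨t, ht⟩ := Submodule.mem_span_singleton.1 h1
    refine Submodule.mem_span_singleton.2 ⟨t, ?_⟩
    have h2 := congrArg (act h) ht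
    rw [hhl, hhv, act_inv'] at h2
    exact h2
  rcases (Subalgebra.isSimpleOrder_of_finrank_prime F E hr).eq_bot_or_eq_top S with hS | hS
  · exact hk (Algebra.mem_bot.1 (hS ▸ hkS))
  -- lines go to lines
  obtain ⟨g, hg, hgN⟩ := hN
  apply hgN
  have hline : ∀ (l : E) (x : ι → F), act g (l • x) ∈ Submodule.span E ({act g x} : Set (ι → F)) := by
    intro l x
    by_cases hx : x = 0
    · subst hx; simp [act]
    obtain ⟨h, hh, hhl, hhx⟩ := move hm hH (act_ne_zero g hx) hx
    have h1 := (hS ▸ Algebra.mem_top : l ∈ S) x hx (h * g) (M.mul_mem hh hg) (by rw [act_mul, hhx])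
    obtain ⟨t, ht⟩ := Submodule.mem_span_singleton.1 h1
    refine Submodule.mem_span_singleton.2 ⟨t, ?_⟩
    have h2 := congrArg (act h⁻¹) ht
    have e : act h⁻¹ x = act g x := by
      have := act_inv h (act g x)
      rwa [hhx] at this
    rw [lin_inv hhl, act_mul, act_inv, e] at h2
    exact h2
  intro l
  obtain ⟨l', hl'⟩ := eq_scalar (E := E) hm
    ({ toFun := fun y => act g (l • act g⁻¹ y)
       map_add' := fun a b => by simp [act, Matrix.mulVec_add]
       map_smul' := fun a b => by simp [act, Matrix.mulVec_smul, smul_comm l a] } :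
      (ι → F) →ₗ[F] (ι → F)) (fun y => by
      have := hline l (act g⁻¹ y)
      rwa [act_inv'] at this)
  refine ⟨l', fun x => ?_⟩
  have := hl' (act g x)
  simp only [LinearMap.coe_mk, AddHom.coe_mk, act_inv] at this
  exact this

/-- two multiples of a vector, not Galois conjugate, in one orbit of the stabiliser -/
theorem exists_pair (hr : (Module.finrank F E).Prime) (hex : ¬ (Nat.card F = 2 ∧ Module.finrank F E = 2))
    (hN : ∃ g ∈ M, ¬ Semi E g) {v : ι → F} (hv : v ≠ 0) :
    ∃ k k' : E, k ∉ Set.range (algebraMap F E) ∧ k' ∉ Set.range (algebraMap F E) ∧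
      (∀ σ : E ≃ₐ[F] E, σ k ≠ k') ∧ ∃ g ∈ M, act g v = v ∧ act g (k • v) = k' • v := by
  classical
  haveI : Finite E := Module.finite_of_finite F
  haveI : Fintype E := Fintype.ofFinite E
  haveI : Fintype F := Fintype.ofFinite F
  obtain ⟨Φ, hΦv, hdec, hmove⟩ := move_fix hm hH hv
  let s : Finset E := Finset.univ.filter fun k => k ∉ Set.range (algebraMap F E)
  have hmv : ∀ k ∈ s, ∃ g ∈ M, act g v = v ∧
      act g (k • v) ∉ Submodule.span E ({v} : Set (ι → F)) := fun k hk =>
    exists_moved hm hH hr hN hv (Finset.mem_filter.1 hk).2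
  choose! G hG hGv hGout using hmv
  let cls : E → F := fun k =>
    if Module.finrank E (ι → F) = 2 then Algebra.norm F (Φ (act (G k) (k • v))) else 1
  have hcls : ∀ k ∈ s, cls k ∈ Finset.univ.erase (0 : F) := by
    intro k hk
    refine Finset.mem_erase.2 ⟨?_, Finset.mem_univ _⟩
    simp only [cls]
    split_ifs with h
    · rw [Algebra.norm_ne_zero_iff]
      exact fun h0 => hGout k hk (hdec h _ h0)
    · exact one_ne_zero
  -- counting
  obtain ⟨r, hrdef⟩ : ∃ r, r = Module.finrank F E := ⟨_, rfl⟩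
  obtain ⟨q, hqdef⟩ : ∃ q, q = Fintype.card F := ⟨_, rfl⟩
  have hq2 : 2 ≤ q := hqdef ▸ Fintype.one_lt_card
  have hr2 : 2 ≤ r := hrdef ▸ hr.two_le
  have hs : s.card + q = q ^ r := by
    have h1 : Finset.univ.filter (fun k => k ∈ Set.range (algebraMap F E))
        = Finset.univ.image (algebraMap F E) := by ext k; simp
    have h2 := Finset.card_filter_add_card_filter_not (s := (Finset.univ : Finset E))
      (fun k => k ∈ Set.range (algebraMap F E))
    rw [h1, Finset.card_image_of_injective _ (algebraMap F E).injective, Finset.card_univ,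
      Finset.card_univ, Module.card_eq_pow_finrank (K := F) (V := E), ← hqdef, ← hrdef] at h2
    simp only [s]
    omega
  have hlt : r * (q - 1) + q < q ^ r := by
    obtain ⟨a, rfl⟩ : ∃ a, q = a + 1 := ⟨q - 1, by omega⟩
    rw [Nat.add_sub_cancel]
    rcases Nat.lt_or_ge r 3 with h3 | h3
    · obtain rfl : r = 2 := by omega
      have : a + 1 ≠ 2 := fun h => hex ⟨by rw [Nat.card_eq_fintype_card, ← hqdef, h], hrdef.symm⟩
      have ha : 2 ≤ a := by omega
      nlinarith
    · clear hs hrdef hr2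
      induction r, h3 using Nat.le_induction with
      | base => nlinarith [Nat.one_le_pow 3 a (by omega)]
      | succ r hr3 ih => rw [pow_succ]; nlinarith [Nat.mul_le_mul_left ((a + 1) ^ r) (show 2 ≤ a + 1 by omega)]
  obtain ⟨y, -, hy⟩ := Finset.exists_lt_card_fiber_of_mul_lt_card_of_maps_to (n := r) hcls (by
    rw [Finset.card_erase_of_mem (Finset.mem_univ _), Finset.card_univ, ← hqdef, mul_comm]
    omega)
  obtain ⟨k, hk⟩ := Finset.card_pos.1 (lt_of_le_of_lt (Nat.zero_le _) hy)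
  obtain ⟨k', hk', hgal⟩ : ∃ k' ∈ s.filter (fun k => cls k = y), ∀ σ : E ≃ₐ[F] E, σ k ≠ k' := by
    by_contra hc
    push Not at hc
    have hsub : s.filter (fun k => cls k = y) ⊆ Finset.univ.image (fun σ : E ≃ₐ[F] E => σ k) := by
      intro k' hk'
      obtain ⟨σ, hσ⟩ := hc k' hk'
      exact Finset.mem_image.2 ⟨σ, Finset.mem_univ _, hσ⟩
    have h1 := (Finset.card_le_card hsub).trans Finset.card_image_le
    have h2 := AlgEquiv.card_le (F := F) (K := E)
    rw [Finset.card_univ] at h1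
    omega
  obtain ⟨hks, hky⟩ := Finset.mem_filter.1 hk
  obtain ⟨hks', hky'⟩ := Finset.mem_filter.1 hk'
  obtain ⟨h, hh, -, hhv, hhu⟩ := hmove _ _ (hGout k hks) (hGout k' hks') (fun h2 => by
    have e := hky.trans hky'.symm
    simpa only [cls, if_pos h2] using e)
  refine ⟨k, k', (Finset.mem_filter.1 hks).2, (Finset.mem_filter.1 hks').2, hgal,
    (G k')⁻¹ * h * G k, M.mul_mem (M.mul_mem (M.inv_mem (hG k' hks')) hh) (hG k hks), ?_, ?_⟩
  · rw [act_mul, act_mul, hGv k hks, hhv]
    conv_lhs => rw [← hGv k' hks', act_inv]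
  · rw [act_mul, act_mul, hhu, act_inv]

end Main

section Roots

variable [Finite F] [FiniteDimensional F E] [Module.Finite E (ι → F)]
  (hm : 2 ≤ Module.finrank E (ι → F))
  {M : Subgroup (GL ι F)} (hH : ∀ g : GL ι F, Lin E g → (g : Matrix ι ι F).det = 1 → g ∈ M)

/-- every root element lies in `M` -/
def Full (E : Type*) [Field E] [Algebra F E] [Module E (ι → F)] [IsScalarTower F E (ι → F)]
    (M : Subgroup (GL ι F)) : Prop :=
  ∀ (v : ι → F) (Ψ : (ι → F) →ₗ[E] E) (X : E →ₗ[F] E), Ψ v = 0 → uni (rtMap v Ψ X) ∈ M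

omit [FiniteDimensional F E] [Module.Finite E (ι → F)] in
theorem rt_mem_of_zero {v : ι → F} {Ψ : (ι → F) →ₗ[E] E} (h : v = 0 ∨ Ψ = 0) (X : E →ₗ[F] E) :
    uni (rtMap v Ψ X) ∈ M := by
  have e : rtMap v Ψ X = 0 := LinearMap.ext fun x => by
    rcases h with rfl | rfl <;> simp [rtMap_apply]
  rw [e]
  have : uni (0 : (ι → F) →ₗ[F] (ι → F)) = 1 :=
    ext_act fun x => by rw [uni_act (fun y => rfl), act_one]; simp
  rw [this]
  exact M.one_mem

include hm in
theorem ker_out (Φ : (ι → F) →ₗ[E] E) (a : ι → F) (h3 : 3 ≤ Module.finrank E (ι → F)) :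
    ∃ u, Φ u = 0 ∧ u ∉ Submodule.span E ({a} : Set (ι → F)) := by
  by_contra h
  push Not at h
  have h1 := Submodule.finrank_mono (R := E) (fun x hx => h x (LinearMap.mem_ker.1 hx) :
    LinearMap.ker Φ ≤ Submodule.span E ({a} : Set (ι → F)))
  have h2 := Φ.finrank_range_add_finrank_ker
  have h4 := Submodule.finrank_le (LinearMap.range Φ)
  rw [Module.finrank_self] at h4
  have h5 : Module.finrank E (Submodule.span E ({a} : Set (ι → F))) ≤ 1 :=
    (finrank_span_le_card _).trans (by simp)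
  omega

include hm hH

theorem SL_le_of_full (hF : Full E M) : Cfsg.Geo.specialLinear ι F ≤ M := by
  classical
  haveI : Finite (ι → F) := inferInstance
  haveI : Finite E := Module.finite_of_finite F
  haveI : Finite ((ι → F) →ₗ[E] E) := Finite.of_injective _ DFunLike.coe_injective
  obtain ⟨k1, hk1⟩ : ∃ f : E →ₗ[F] F, f 1 = 1 := by
    obtain ⟨f, hf⟩ := LinearMap.exists_leftInverse_of_injective (Algebra.linearMap F E)
      (LinearMap.ker_eq_bot.2 (algebraMap F E).injective)
    exact ⟨f, by simpa using DFunLike.congr_fun hf 1⟩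
  have hrep : ∀ φ : (ι → F) →ₗ[F] F, ∃ Ψ : (ι → F) →ₗ[E] E, ∀ x, φ x = k1 (Ψ x) := by
    let T : ((ι → F) →ₗ[E] E) →ₗ[F] ((ι → F) →ₗ[F] F) :=
      { toFun := fun Ψ => k1 ∘ₗ Ψ.restrictScalars F
        map_add' := fun a b => LinearMap.ext fun x => by simp
        map_smul' := fun a b => LinearMap.ext fun x => by simp }
    have hinj : Function.Injective T := by
      rw [injective_iff_map_eq_zero]
      intro Ψ hΨ
      refine LinearMap.ext fun x => ?_
      by_contra hx
      have h1 : k1 (Ψ ((Ψ x)⁻¹ • x)) = 0 := DFunLike.congr_fun hΨ _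
      rw [map_smul, smul_eq_mul, inv_mul_cancel₀ hx, hk1] at h1
      exact one_ne_zero h1
    have hd : Module.finrank F ((ι → F) →ₗ[E] E) = Module.finrank F ((ι → F) →ₗ[F] F) := by
      rw [Module.finrank_linearMap_self, ← Module.finrank_mul_finrank F E ((ι → F) →ₗ[E] E),
        Module.finrank_linearMap_self, Module.finrank_mul_finrank F E (ι → F)]
    intro φ
    obtain ⟨Ψ, hΨ⟩ := (LinearMap.injective_iff_surjective_of_finrank_eq_finrank hd).1 hinj φ
    exact ⟨Ψ, fun x => (DFunLike.congr_fun hΨ x).symm⟩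
  have hgood : ∀ (w : ι → F) (φ : (ι → F) →ₗ[F] F) (Ψ : (ι → F) →ₗ[E] E), Ψ w = 0 →
      (∀ x, φ x = k1 (Ψ x)) → uni (rtMap w Ψ (k1.smulRight (1 : E))) ∈ M ∧
        ∀ x, rtMap w Ψ (k1.smulRight (1 : E)) x = φ x • w := by
    intro w φ Ψ h0 hx
    refine ⟨hF _ _ _ h0, fun x => ?_⟩
    rw [rtMap_apply, LinearMap.smulRight_apply, ← hx, smul_assoc, one_smul]
  refine CfsgLib.Lie.FormMaxSL.SL_le_of_tv_mem M fun w φ hφ => ?_
  obtain ⟨Ψ, hΨ⟩ := hrep φ
  by_cases hw : Ψ w = 0
  · obtain ⟨h1, h2⟩ := hgood w φ Ψ hw hΨ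
    convert h1 using 1
    refine ext_act fun x => ?_
    rw [uni_act (rtMap_sq hw _), h2]
    exact CfsgLib.Lie.FormMaxSL.tv_mulVec hφ x
  · obtain ⟨c, hc⟩ := out1 (E := E) hm w
    obtain ⟨b, hb⟩ : ∃ b, b = c - (Ψ c / Ψ w) • w := ⟨_, rfl⟩
    have hΨb : Ψ b = 0 := by rw [hb, map_sub, map_smul, smul_eq_mul, div_mul_cancel₀ _ hw, sub_self]
    have hbw : b ∉ Submodule.span E ({w} : Set (ι → F)) := fun h => hc (by
      have := add_mem h (Submodule.smul_mem _ (Ψ c / Ψ w) (Submodule.mem_span_singleton_self w))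
      rwa [hb, sub_add_cancel] at this)
    obtain ⟨Ψ1, h11, h10⟩ := sepE hbw
    have hw1 : Ψ1 w = 0 := h10 w (Submodule.mem_span_singleton_self w)
    obtain ⟨hA, hAx⟩ := hgood w (k1 ∘ₗ Ψ1.restrictScalars F) Ψ1 hw1 (fun x => rfl)
    obtain ⟨hB, hBx⟩ := hgood b φ Ψ hΨb hΨ
    have hgf : ∀ x, rtMap b Ψ (k1.smulRight (1 : E)) (rtMap w Ψ1 (k1.smulRight (1 : E)) x) = 0 := by
      intro x; rw [hBx, hAx, map_smul, hφ, smul_zero, zero_smul]
    have hm' := M.mul_mem (M.mul_mem (M.mul_mem hA hB) (M.inv_mem hA)) (M.inv_mem hB)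
    rw [comm_uni (rtMap_sq hw1 _) (rtMap_sq hΨb _) hgf] at hm'
    convert hm' using 1
    refine ext_act fun x => ?_
    rw [uni_act (fun y => by simp [hgf, rtMap_sq hw1]), LinearMap.comp_apply, hBx, map_smul, hAx]
    refine (CfsgLib.Lie.FormMaxSL.tv_mulVec hφ x).trans ?_
    rw [LinearMap.comp_apply, LinearMap.coe_restrictScalars, h11, hk1, one_smul]

theorem hopF {v : ι → F} {Ψ Φ : (ι → F) →ₗ[E] E} (hΨ : Ψ v = 0) (hΦ : Φ v = 0) {X : E →ₗ[F] E}
    (hX : uni (rtMap v Ψ X) ∈ M) {u : ι → F} (hu : Ψ u = 1) (hu' : Φ u = 0) :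
    uni (rtMap v Φ X) ∈ M := by
  have hY := rt_lin_mem hH hu' 1
  have hm' := M.mul_mem (M.mul_mem (M.mul_mem hX hY) (M.inv_mem hX)) (M.inv_mem hY)
  rw [comm_uni (rtMap_sq hΨ _) (rtMap_sq hu' _)
    (fun x => by simp [rtMap_apply, hΦ])] at hm'
  convert hm' using 2
  exact LinearMap.ext fun x => by simp [rtMap_apply, hu]

theorem hopC {v w : ι → F} {Ψ : (ι → F) →ₗ[E] E} (hΨ : Ψ v = 0) (hw : Ψ w = 0)
    (hwv : w ∉ Submodule.span E ({v} : Set (ι → F))) (hv : v ≠ 0) {X : E →ₗ[F] E}
    (hX : uni (rtMap v Ψ X) ∈ M) : uni (rtMap w Ψ X) ∈ M := by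
  obtain ⟨Φ, h1, h0⟩ := sepE (outside_trans hwv hv)
  have hΦw : Φ w = 0 := h0 w (Submodule.mem_span_singleton_self w)
  have hY := rt_lin_mem hH hΦw 1
  have hm' := M.mul_mem (M.mul_mem (M.mul_mem hY hX) (M.inv_mem hY)) (M.inv_mem hX)
  rw [comm_uni (rtMap_sq hΦw _) (rtMap_sq hΨ _) (fun x => by simp [rtMap_apply, hw])] at hm'
  convert hm' using 2
  exact LinearMap.ext fun x => by simp [rtMap_apply, h1]

theorem all_pairs (h3 : 3 ≤ Module.finrank E (ι → F)) {v : ι → F} {Ψ : (ι → F) →ₗ[E] E}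
    (hv : v ≠ 0) (hΨ0 : Ψ ≠ 0) (hΨ : Ψ v = 0) {X : E →ₗ[F] E} (hX : uni (rtMap v Ψ X) ∈ M)
    {w : ι → F} {Φ : (ι → F) →ₗ[E] E} (hΦ : Φ w = 0) : uni (rtMap w Φ X) ∈ M := by
  have funcs : ∀ (v : ι → F) (Ψ : (ι → F) →ₗ[E] E), Ψ ≠ 0 → Ψ v = 0 →
      uni (rtMap v Ψ X) ∈ M → ∀ Φ : (ι → F) →ₗ[E] E, Φ v = 0 → uni (rtMap v Φ X) ∈ M := by
    intro v Ψ hΨ0 hΨ hX Φ hΦ
    by_cases hΦ0 : Φ = 0
    · exact rt_mem_of_zero (Or.inr hΦ0) X
    obtain ⟨u0, hu0⟩ : ∃ u, Ψ u = 1 := by
      obtain ⟨z, hz⟩ : ∃ z, Ψ z ≠ 0 := by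
        by_contra h
        push Not at h
        exact hΨ0 (LinearMap.ext h)
      exact ⟨(Ψ z)⁻¹ • z, by rw [map_smul, smul_eq_mul, inv_mul_cancel₀ hz]⟩
    have hop : ∀ (Ψ Φ : (ι → F) →ₗ[E] E) (u0 k : ι → F), Ψ v = 0 → Φ v = 0 →
        uni (rtMap v Ψ X) ∈ M → Ψ u0 = 1 → Ψ k = 0 → Φ k ≠ 0 → uni (rtMap v Φ X) ∈ M := by
      intro Ψ Φ u0 k hΨ hΦ hX hu0 hk hk'
      refine hopF hm hH hΨ hΦ hX (u := u0 - (Φ u0 / Φ k) • k) ?_ ?_
      · rw [map_sub, map_smul, hk, smul_zero, sub_zero, hu0]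
      · rw [map_sub, map_smul, smul_eq_mul, div_mul_cancel₀ _ hk', sub_self]
    by_cases hker : ∀ k, Ψ k = 0 → Φ k = 0
    · obtain ⟨u1, hu1, hu1v⟩ := ker_out hm Ψ v h3
      obtain ⟨Φ', h1, h0⟩ := sepE hu1v
      have hΦ'v : Φ' v = 0 := h0 v (Submodule.mem_span_singleton_self v)
      have hne : Φ u0 ≠ 0 := by
        intro h
        apply hΦ0
        refine LinearMap.ext fun x => ?_
        have h2 := hker (x - Ψ x • u0) (by rw [map_sub, map_smul, hu0, smul_eq_mul, mul_one, sub_self])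
        rw [map_sub, map_smul, h, smul_zero, sub_zero] at h2
        exact h2
      have h2 := hop Ψ Φ' u0 u1 hΨ hΦ'v hX hu0 hu1 (by rw [h1]; exact one_ne_zero)
      refine hop Φ' Φ u1 (u0 - Φ' u0 • u1) hΦ'v hΦ h2 h1 ?_ ?_
      · rw [map_sub, map_smul, h1, smul_eq_mul, mul_one, sub_self]
      · rw [map_sub, map_smul, hker u1 hu1, smul_zero, sub_zero]; exact hne
    · push Not at hker
      obtain ⟨k, hk, hk'⟩ := hker
      exact hop Ψ Φ u0 k hΨ hΦ hX hu0 hk hk'
  have centres : ∀ (v : ι → F) (Ψ : (ι → F) →ₗ[E] E), v ≠ 0 → Ψ ≠ 0 → Ψ v = 0 →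
      uni (rtMap v Ψ X) ∈ M → ∀ w, w ∉ Submodule.span E ({v} : Set (ι → F)) →
      ∀ Φ : (ι → F) →ₗ[E] E, Φ w = 0 → uni (rtMap w Φ X) ∈ M := by
    intro v Ψ hv hΨ0 hΨ hX w hw Φ hΦ
    obtain ⟨c, hc⟩ := out2 (E := E) h3 v w
    obtain ⟨Φ', h1, h0⟩ := sepE hc
    have hv' : Φ' v = 0 := h0 v (Submodule.subset_span (by simp))
    have hw' : Φ' w = 0 := h0 w (Submodule.subset_span (by simp))
    have hne : Φ' ≠ 0 := fun h => by rw [h] at h1; simp at h1
    exact funcs w Φ' hne hw' (hopC hm hH hv' hw' hw hv (funcs v Ψ hΨ0 hΨ hX Φ' hv')) Φ hΦ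
  by_cases hw0 : w = 0
  · exact rt_mem_of_zero (Or.inl hw0) X
  by_cases hwv : w ∈ Submodule.span E ({v} : Set (ι → F))
  · obtain ⟨c, hc⟩ := out1 (E := E) hm v
    obtain ⟨d, hd⟩ := out1 (E := E) hm c
    obtain ⟨Φ', h1, h0⟩ := sepE hd
    have hc' : Φ' c = 0 := h0 c (Submodule.mem_span_singleton_self c)
    have hne : Φ' ≠ 0 := fun h => by rw [h] at h1; simp at h1
    have hcz : c ≠ 0 := fun h => hc (by rw [h]; exact zero_mem _)
    have hwc : w ∉ Submodule.span E ({c} : Set (ι → F)) := by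
      intro h
      apply hc
      obtain ⟨t, ht⟩ := Submodule.mem_span_singleton.1 h
      have ht0 : t ≠ 0 := by rintro rfl; exact hw0 (by rw [← ht, zero_smul])
      have := Submodule.smul_mem _ t⁻¹ hwv
      rwa [← ht, smul_smul, inv_mul_cancel₀ ht0, one_smul] at this
    exact centres c Φ' hcz hne hc' (centres v Ψ hv hΨ0 hΨ hX c hc Φ' hc') w hwc Φ hΦ
  · exact centres v Ψ hv hΨ0 hΨ hX w hwv Φ hΦ

theorem full_of_root (hr : (Module.finrank F E).Prime) (h3 : 3 ≤ Module.finrank E (ι → F))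
    {v : ι → F} {Ψ : (ι → F) →ₗ[E] E} (hv : v ≠ 0) (hΨ0 : Ψ ≠ 0) (hΨ : Ψ v = 0) {X : E →ₗ[F] E}
    (hX : uni (rtMap v Ψ X) ∈ M) (hne : ∀ k, X ≠ μ k) : Full E M := by
  let A : AddSubgroup (E →ₗ[F] E) :=
    { carrier := {Y | ∀ (w : ι → F) (Φ : (ι → F) →ₗ[E] E), Φ w = 0 → uni (rtMap w Φ Y) ∈ M}
      add_mem' := by
        intro a b ha hb w Φ h
        have e : rtMap w Φ (a + b) = rtMap w Φ a + rtMap w Φ b :=
          LinearMap.ext fun x => by simp [rtMap_apply, add_smul]
        rw [e, ← uni_mul_uni (rtMap_sq h _) (rtMap_sq h _) (fun x => by simp [rtMap_apply, h])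
          (fun x => by simp [rtMap_apply, h])]
        exact M.mul_mem (ha w Φ h) (hb w Φ h)
      zero_mem' := by
        intro w Φ h
        convert rt_lin_mem hH h 0 using 3
        exact LinearMap.ext fun x => by simp
      neg_mem' := by
        intro a ha w Φ h
        have e : rtMap w Φ (-a) = -rtMap w Φ a := LinearMap.ext fun x => by simp [rtMap_apply]
        rw [e, ← uni_inv (rtMap_sq h _)]
        exact M.inv_mem (ha w Φ h) }
  intro w Φ Y hw
  refine eq_top hr A (fun k w Φ h => rt_lin_mem hH h k) ?_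
    (fun w Φ h => all_pairs hm hH h3 hv hΨ0 hΨ hX h) hne Y w Φ hw
  intro P hP Q hQ w Φ h
  by_cases hw0 : w = 0
  · exact rt_mem_of_zero (Or.inl hw0) _
  obtain ⟨u, hu, huw⟩ := ker_out hm Φ w h3
  obtain ⟨Ψ', h1, h0⟩ := sepE huw
  have hΨw : Ψ' w = 0 := h0 w (Submodule.mem_span_singleton_self w)
  have hm' := M.mul_mem (M.mul_mem (M.mul_mem (hP w Ψ' hΨw) (hQ u Φ hu))
    (M.inv_mem (hP w Ψ' hΨw))) (M.inv_mem (hQ u Φ hu))
  rw [comm_uni (rtMap_sq hΨw _) (rtMap_sq hu _) (fun x => by simp [rtMap_apply, h])] at hm'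
  convert hm' using 2
  exact LinearMap.ext fun x => by simp [rtMap_apply, h1]

theorem lin_of_not_full (hr : (Module.finrank F E).Prime) (h3 : 3 ≤ Module.finrank E (ι → F))
    (hF : ¬ Full E M) {v : ι → F} (hv : v ≠ 0) {δ : (ι → F) →ₗ[F] E} (hδv : ∀ c : E, δ (c • v) = 0)
    (hmem : uni ((LinearMap.toSpanSingleton E (ι → F) v).restrictScalars F ∘ₗ δ) ∈ M) :
    ∀ (k : E) (x : ι → F), δ (k • x) = k * δ x := by
  intro k x
  obtain ⟨f, hf⟩ : ∃ f, f = (LinearMap.toSpanSingleton E (ι → F) v).restrictScalars F ∘ₗ δ :=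
    ⟨_, rfl⟩
  rw [← hf] at hmem
  have hfx : ∀ y, f y = δ y • v := fun y => by rw [hf]; rfl
  have hf2 : ∀ y, f (f y) = 0 := fun y => by rw [hfx, hfx, hδv, zero_smul]
  by_cases hx : x ∈ Submodule.span E ({v} : Set (ι → F))
  · obtain ⟨t, rfl⟩ := Submodule.mem_span_singleton.1 hx
    rw [smul_smul, hδv, hδv, mul_zero]
  obtain ⟨c, hc⟩ := out2 (E := E) h3 v x
  obtain ⟨Ψ, h1, h0⟩ := sepE hc
  have hΨv : Ψ v = 0 := h0 v (Submodule.subset_span (by simp))
  have hΨx : Ψ x = 0 := h0 x (Submodule.subset_span (by simp))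
  obtain ⟨X, hX⟩ : ∃ X : E →ₗ[F] E, X =
      δ ∘ₗ (LinearMap.toSpanSingleton E (ι → F) x).restrictScalars F := ⟨_, rfl⟩
  have hXc : ∀ c, X c = δ (c • x) := fun c => by rw [hX]; rfl
  have hs := rt_lin_mem hH hΨx 1
  have hm' := M.mul_mem (M.mul_mem (M.mul_mem hmem hs) (M.inv_mem hmem)) (M.inv_mem hs)
  rw [comm_uni hf2 (rtMap_sq hΨx _) (fun y => by simp [rtMap_apply, hfx, hΨv])] at hm'
  have e : f ∘ₗ rtMap x Ψ (μ 1) = rtMap v Ψ X :=
    LinearMap.ext fun y => by simp [rtMap_apply, hfx, hXc]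
  rw [e] at hm'
  by_contra hne
  refine hF (full_of_root hm hH hr h3 hv (fun h => by rw [h] at h1; simp at h1) hΨv hm' fun k0 h => hne ?_)
  have e1 := DFunLike.congr_fun h k
  have e2 := DFunLike.congr_fun h 1
  rw [hXc, μ_apply] at e1 e2
  rw [one_smul, mul_one] at e2
  rw [e1, e2, mul_comm]

/-- a dilation of norm one -/
theorem dilE {u : ι → F} {φ : (ι → F) →ₗ[E] E} (hφ : φ u = 1) {lam : E}
    (hN : Algebra.norm F lam = 1) :
    ∃ h ∈ M, (∀ x, act h x = x + ((lam - 1) * φ x) • u) ∧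
      (∀ x, act h⁻¹ x = x + ((lam⁻¹ - 1) * φ x) • u) := by
  have hlam0 : lam ≠ 0 := fun h => by rw [h, Algebra.norm_zero] at hN; exact zero_ne_one hN
  obtain ⟨T, hT⟩ : ∃ T, T = LinearMap.transvection φ ((lam - 1) • u) := ⟨_, rfl⟩
  obtain ⟨T', hT'⟩ : ∃ T', T' = LinearMap.transvection φ ((lam⁻¹ - 1) • u) := ⟨_, rfl⟩
  have hTx : ∀ x, T x = x + φ x • (lam - 1) • u := fun x => by
    rw [hT]; simp [LinearMap.transvection.apply]
  have hT'x : ∀ x, T' x = x + φ x • (lam⁻¹ - 1) • u := fun x => by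
    rw [hT']; simp [LinearMap.transvection.apply]
  have hTT : T ∘ₗ T' = LinearMap.id := LinearMap.ext fun x => by
    rw [LinearMap.comp_apply, hTx, hT'x, map_add, map_smul, map_smul, hφ, LinearMap.id_apply]
    match_scalars <;> (simp; try field_simp; try ring)
  have hTT' : T' ∘ₗ T = LinearMap.id := LinearMap.ext fun x => by
    rw [LinearMap.comp_apply, hT'x, hTx, map_add, map_smul, map_smul, hφ, LinearMap.id_apply]
    match_scalars <;> (simp; try field_simp; try ring)
  let h : GL ι F := ⟨LinearMap.toMatrix' (T.restrictScalars F), LinearMap.toMatrix' (T'.restrictScalars F),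
    by rw [← LinearMap.toMatrix'_comp, ← LinearMap.toMatrix'_id]
       exact congrArg _ (LinearMap.ext fun x => DFunLike.congr_fun hTT x),
    by rw [← LinearMap.toMatrix'_comp, ← LinearMap.toMatrix'_id]
       exact congrArg _ (LinearMap.ext fun x => DFunLike.congr_fun hTT' x)⟩
  have hh : ∀ x, act h x = T x := fun x => LinearMap.toMatrix'_mulVec _ _
  have hh' : ∀ x, act h⁻¹ x = T' x := fun x => LinearMap.toMatrix'_mulVec _ _
  have hhd : (h : Matrix ι ι F).det = 1 := by
    have e : Matrix.toLin' (h : Matrix ι ι F) = T.restrictScalars F :=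
      LinearMap.ext fun x => by rw [Matrix.toLin'_apply]; exact hh x
    rw [← LinearMap.det_toLin', e, LinearMap.det_restrictScalars, hT, LinearMap.transvection.det,
      map_smul, hφ, smul_eq_mul, mul_one, add_sub_cancel, hN]
  refine ⟨h, hH h (fun k x => by rw [hh, hh, map_smul]) hhd, fun x => ?_, fun x => ?_⟩
  · rw [hh, hTx, smul_smul, mul_comm]
  · rw [hh', hT'x, smul_smul, mul_comm]

omit hm hH in
/-- a subring containing the elements of norm one is everything -/
theorem subring_norm_one (hr : 2 ≤ Module.finrank F E) (R : Subring E)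
    (h : ∀ x : E, Algebra.norm F x = 1 → x ∈ R) : ∀ x, x ∈ R := by
  classical
  haveI : Finite E := Module.finite_of_finite F
  haveI : Fintype E := Fintype.ofFinite E
  haveI : Fintype F := Fintype.ofFinite F
  have hinv : ∀ x ∈ R, x⁻¹ ∈ R := by
    intro x hx
    by_cases hx0 : x = 0
    · subst hx0; simp
    have h1 := FiniteField.pow_card_sub_one_eq_one x hx0
    have h2 : x⁻¹ = x ^ (Fintype.card E - 2) := by
      refine inv_eq_of_mul_eq_one_right ?_
      rw [← pow_succ', ← h1]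
      congr 1
      have := Fintype.one_lt_card (α := E)
      omega
    rw [h2]
    exact R.pow_mem hx _
  let N : Eˣ →* Fˣ := Units.map (Algebra.norm F : E →* F)
  have h1 := N.ker.card_mul_index
  rw [Subgroup.index_ker] at h1
  have h2 : Nat.card N.range ≤ Fintype.card F - 1 := by
    refine le_trans (Subgroup.card_le_card_group _) ?_
    rw [Nat.card_units, Nat.card_eq_fintype_card]
  let ψ : N.ker ⊕ Unit → R := Sum.elim
    (fun x => ⟨((x : Eˣ) : E), h _ (congrArg Units.val (MonoidHom.mem_ker.1 x.2))⟩) (fun _ => 0)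
  have hψ : Function.Injective ψ := by
    rintro (x | a) (y | b) hxy
    · have h9 : ((x : Eˣ) : E) = ((y : Eˣ) : E) := congrArg Subtype.val hxy
      exact congrArg Sum.inl (Subtype.ext (Units.ext h9))
    · exact absurd (congrArg Subtype.val hxy) (x : Eˣ).ne_zero
    · exact absurd (congrArg Subtype.val hxy).symm (y : Eˣ).ne_zero
    · rfl
  have h3 := Nat.card_le_card_of_injective ψ hψ
  rw [Nat.card_sum, Nat.card_unique (α := Unit)] at h3
  rw [Nat.card_units, Nat.card_eq_fintype_card (α := E), Module.card_eq_pow_finrank (K := F) (V := E)] at h1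
  have hq : 2 ≤ Fintype.card F := Fintype.one_lt_card
  have hpow : Fintype.card F ^ 2 ≤ Fintype.card F ^ Module.finrank F E :=
    Nat.pow_le_pow_right (by omega) hr
  have hbig : Fintype.card E < Nat.card R * Nat.card R := by
    rw [Module.card_eq_pow_finrank (K := F) (V := E)]
    obtain ⟨S, hS⟩ : ∃ S, S = Nat.card R := ⟨_, rfl⟩
    obtain ⟨K, hK⟩ : ∃ K, K = Nat.card N.ker := ⟨_, rfl⟩
    obtain ⟨I, hI⟩ : ∃ I, I = Nat.card N.range := ⟨_, rfl⟩
    obtain ⟨P, hP⟩ : ∃ P, P = Fintype.card F ^ Module.finrank F E := ⟨_, rfl⟩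
    obtain ⟨q, hq'⟩ : ∃ q, q = Fintype.card F := ⟨_, rfl⟩
    rw [← hK, ← hI, ← hP] at h1
    rw [← hI, ← hq'] at h2
    rw [← hK, ← hS] at h3
    rw [← hP, ← hq'] at hpow
    rw [← hS, ← hP]
    rw [← hq'] at hq
    by_contra hle
    push Not at hle
    have hKI : K * I ≤ (S - 1) * (q - 1) := Nat.mul_le_mul (by omega) h2
    obtain ⟨s', rfl⟩ : ∃ s', S = s' + 1 := ⟨S - 1, by omega⟩
    obtain ⟨a, rfl⟩ : ∃ a, q = a + 2 := ⟨q - 2, by omega⟩
    simp only [Nat.add_sub_cancel, show a + 2 - 1 = a + 1 by omega] at hKI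
    have hP1 : K * I + 1 = P := by
      have : 1 ≤ P := le_trans (Nat.one_le_pow 2 _ (by omega)) hpow
      omega
    nlinarith
  intro x
  by_contra hx
  have hinj : Function.Injective (fun p : R × R => (p.1 : E) + p.2 * x) := by
    rintro ⟨a, b⟩ ⟨c, d⟩ he
    simp only at he
    by_cases hbd : b = d
    · subst hbd; simp only [add_left_inj, Subtype.coe_inj] at he; rw [he]
    · exfalso
      apply hx
      have hne : (b : E) - d ≠ 0 := fun h => hbd (Subtype.ext (sub_eq_zero.1 h))
      have e : x = ((c : E) - a) * ((b : E) - d)⁻¹ := by field_simp; linear_combination he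
      rw [e]
      exact R.mul_mem (R.sub_mem c.2 a.2) (hinv _ (R.sub_mem b.2 d.2))
  have := Nat.card_le_card_of_injective _ hinj
  rw [Nat.card_prod, Nat.card_eq_fintype_card (α := E)] at this
  omega

omit hH in
theorem ker_eq (h2 : Module.finrank E (ι → F) = 2) {v : ι → F} (hv : v ≠ 0)
    {Φ : (ι → F) →ₗ[E] E} (hΦ0 : Φ ≠ 0) (hΦ : Φ v = 0) {x : ι → F} (hx : Φ x = 0) :
    x ∈ Submodule.span E ({v} : Set (ι → F)) := by
  by_contra hxv
  have hli : LinearIndependent E ![v, x] := by
    rw [LinearIndependent.pair_iff' hv]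
    exact fun a h => hxv (Submodule.mem_span_singleton.2 ⟨a, h⟩)
  have htop : Submodule.span E (Set.range ![v, x]) = ⊤ :=
    hli.span_eq_top_of_card_eq_finrank' (by simp [h2])
  apply hΦ0
  refine LinearMap.ext fun y => ?_
  have h3 : Submodule.span E (Set.range ![v, x]) ≤ LinearMap.ker Φ := Submodule.span_le.2 (by
    rintro _ ⟨i, rfl⟩; fin_cases i <;> simp [hΦ, hx])
  exact h3 (htop ▸ Submodule.mem_top)

/-- dimension two: the root group is a bimodule -/
theorem two_dim (h2 : Module.finrank E (ι → F) = 2) (hr : (Module.finrank F E).Prime)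
    (hF : ¬ Full E M) {v u0 : ι → F} {Φ : (ι → F) →ₗ[E] E} (hv : v ≠ 0) (hΦ : Φ v = 0)
    (hu0 : Φ u0 = 1) :
    ∃ A : AddSubgroup (E →ₗ[F] E), (∀ X, X ∈ A ↔ uni (rtMap v Φ X) ∈ M) ∧ (∀ k, μ k ∈ A) ∧
      (∀ k, ∀ X ∈ A, μ k ∘ₗ X ∈ A) ∧ (∀ k, ∀ X ∈ A, X ∘ₗ μ k ∈ A) ∧ ∃ X, X ∉ A := by
  let A : AddSubgroup (E →ₗ[F] E) :=
    { carrier := {Y | uni (rtMap v Φ Y) ∈ M}
      add_mem' := by
        intro a b ha hb
        have e : rtMap v Φ (a + b) = rtMap v Φ a + rtMap v Φ b :=
          LinearMap.ext fun x => by simp [rtMap_apply, add_smul]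
        change uni (rtMap v Φ (a + b)) ∈ M
        rw [e, ← uni_mul_uni (rtMap_sq hΦ _) (rtMap_sq hΦ _) (fun x => by simp [rtMap_apply, hΦ])
          (fun x => by simp [rtMap_apply, hΦ])]
        exact M.mul_mem ha hb
      zero_mem' := by
        change uni (rtMap v Φ (0 : E →ₗ[F] E)) ∈ M
        convert rt_lin_mem hH hΦ 0 using 3
        exact LinearMap.ext fun x => by simp
      neg_mem' := by
        intro a ha
        have e : rtMap v Φ (-a) = -rtMap v Φ a := LinearMap.ext fun x => by simp [rtMap_apply]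
        change uni (rtMap v Φ (-a)) ∈ M
        rw [e, ← uni_inv (rtMap_sq hΦ _)]
        exact M.inv_mem ha }
  have hΦne : Φ ≠ 0 := fun h => by rw [h] at hu0; simp at hu0
  have hconj : ∀ h ∈ M, ∀ X Y : E →ₗ[F] E, X ∈ A →
      (∀ x, act h (X (Φ (act h⁻¹ x)) • v) = Y (Φ x) • v) → Y ∈ A := by
    intro h hh X Y hX he
    have hm' := M.mul_mem (M.mul_mem hh hX) (M.inv_mem hh)
    change uni (rtMap v Φ Y) ∈ M
    convert hm' using 1
    refine ext_act fun x => ?_
    rw [uni_act (rtMap_sq hΦ _), act_mul, act_mul, uni_act (rtMap_sq hΦ _), rtMap_apply, rtMap_apply,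
      show act h (act h⁻¹ x + X (Φ (act h⁻¹ x)) • v) = act h (act h⁻¹ x) + act h (X (Φ (act h⁻¹ x)) • v)
        from Matrix.mulVec_add _ _ _, act_inv', he]
  -- left and right multiplications by elements of norm one
  obtain ⟨Φ1, hΦ11, hΦ10⟩ : ∃ Φ1 : (ι → F) →ₗ[E] E, Φ1 v = 1 ∧ Φ1 u0 = 0 := by
    have : v ∉ Submodule.span E ({u0} : Set (ι → F)) := fun h => by
      obtain ⟨t, ht⟩ := Submodule.mem_span_singleton.1 h
      rw [← ht, map_smul, hu0, smul_eq_mul, mul_one] at hΦ
      exact hv (by rw [← ht, hΦ, zero_smul])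
    obtain ⟨Φ1, h1, h0⟩ := sepE this
    exact ⟨Φ1, h1, h0 _ (Submodule.mem_span_singleton_self _)⟩
  let R : Subring E :=
    { carrier := {k | ∀ X ∈ A, μ k ∘ₗ X ∈ A}
      mul_mem' := by
        intro a b ha hb X hX
        have := ha _ (hb X hX)
        convert this using 1
        exact LinearMap.ext fun x => by simp [mul_assoc]
      one_mem' := by
        intro X hX
        convert hX using 1
        exact LinearMap.ext fun x => by simp
      add_mem' := by
        intro a b ha hb X hX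
        have := A.add_mem (ha X hX) (hb X hX)
        convert this using 1
        exact LinearMap.ext fun x => by simp [add_mul]
      zero_mem' := by
        intro X hX
        convert A.zero_mem using 1
        exact LinearMap.ext fun x => by simp
      neg_mem' := by
        intro a ha X hX
        have := A.neg_mem (ha X hX)
        convert this using 1
        exact LinearMap.ext fun x => by simp }
  let R' : Subring E :=
    { carrier := {k | ∀ X ∈ A, X ∘ₗ μ k ∈ A}
      mul_mem' := by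
        intro a b ha hb X hX
        have := hb _ (ha X hX)
        convert this using 1
        exact LinearMap.ext fun x => by simp [mul_assoc]
      one_mem' := by
        intro X hX
        convert hX using 1
        exact LinearMap.ext fun x => by simp
      add_mem' := by
        intro a b ha hb X hX
        have := A.add_mem (ha X hX) (hb X hX)
        convert this using 1
        exact LinearMap.ext fun x => by simp [add_mul]
      zero_mem' := by
        intro X hX
        convert A.zero_mem using 1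
        exact LinearMap.ext fun x => by simp
      neg_mem' := by
        intro a ha X hX
        have := A.neg_mem (ha X hX)
        convert this using 1
        exact LinearMap.ext fun x => by simp }
  have hR : ∀ k, k ∈ R := subring_norm_one hr.two_le R fun lam hN X hX => by
    obtain ⟨h, hh, hhx, hhi⟩ := dilE hm hH hΦ11 hN
    refine hconj h hh X _ hX fun x => ?_
    rw [hhi, map_add, map_smul, hΦ, smul_zero, add_zero, hhx, map_smul, hΦ11, smul_eq_mul, mul_one,
      LinearMap.comp_apply, μ_apply, ← add_smul]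
    congr 1
    ring
  have hR' : ∀ k, k ∈ R' := subring_norm_one hr.two_le R' fun lam hN X hX => by
    obtain ⟨h, hh, hhx, hhi⟩ := dilE hm hH hu0 (lam := lam⁻¹) (by
      have h0 : lam ≠ 0 := fun h0 => by rw [h0, Algebra.norm_zero] at hN; exact zero_ne_one hN
      have h1 : Algebra.norm F lam⁻¹ * Algebra.norm F lam = 1 := by
        rw [← map_mul, inv_mul_cancel₀ h0, map_one]
      rwa [hN, mul_one] at h1)
    refine hconj h hh X _ hX fun x => ?_
    rw [hhi, inv_inv, map_add, map_smul, hu0, smul_eq_mul, mul_one, hhx, map_smul, hΦ,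
      smul_zero, mul_zero, zero_smul, add_zero, LinearMap.comp_apply, μ_apply]
    congr 2
    ring
  refine ⟨A, fun X => Iff.rfl, fun k => rt_lin_mem hH hΦ k, fun k => hR k, fun k => hR' k, ?_⟩
  by_contra hall
  push Not at hall
  apply hF
  intro w Ψ Y hw
  by_cases hw0 : w = 0
  · exact rt_mem_of_zero (Or.inl hw0) Y
  obtain ⟨h, hh, hhl, hhv⟩ := move hm hH hv hw0
  obtain ⟨k, hk⟩ : ∃ k, k = Ψ (act h u0) := ⟨_, rfl⟩
  have hΨ : ∀ x, Ψ x = k * Φ (act h⁻¹ x) := by
    intro x
    obtain ⟨t, ht⟩ := Submodule.mem_span_singleton.1 (ker_eq hm h2 hv hΦne hΦ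
      (x := act h⁻¹ x - Φ (act h⁻¹ x) • u0) (by rw [map_sub, map_smul, hu0, smul_eq_mul, mul_one, sub_self]))
    have e := congrArg (act h) ht
    rw [hhl, hhv, show act h (act h⁻¹ x - Φ (act h⁻¹ x) • u0) = act h (act h⁻¹ x) -
      act h (Φ (act h⁻¹ x) • u0) from Matrix.mulVec_sub _ _ _, act_inv', hhl] at e
    have e2 := congrArg Ψ e
    rw [map_smul, hw, smul_zero, map_sub, map_smul, ← hk, smul_eq_mul, eq_comm, sub_eq_zero] at e2
    rw [e2, mul_comm]
  have hm' := M.mul_mem (M.mul_mem hh (hall (Y ∘ₗ μ k))) (M.inv_mem hh)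
  convert hm' using 1
  refine ext_act fun x => ?_
  rw [uni_act (rtMap_sq hw _), act_mul, act_mul, uni_act (rtMap_sq hΦ _), rtMap_apply, rtMap_apply,
    show act h (act h⁻¹ x + (Y ∘ₗ μ k) (Φ (act h⁻¹ x)) • v) = act h (act h⁻¹ x) +
      act h ((Y ∘ₗ μ k) (Φ (act h⁻¹ x)) • v) from Matrix.mulVec_add _ _ _, act_inv', hhl, hhv,
    LinearMap.comp_apply, μ_apply, hΨ]

end Roots

section Fusion

variable [Finite F] [FiniteDimensional F E] [Module.Finite E (ι → F)]
  (hm : 2 ≤ Module.finrank E (ι → F))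
  {M : Subgroup (GL ι F)} (hH : ∀ g : GL ι F, Lin E g → (g : Matrix ι ι F).det = 1 → g ∈ M)

/-- elements fixing a line pointwise and linear modulo it -/
def linGroup (M : Subgroup (GL ι F)) (v : ι → F) (E : Type*) [Field E] [Algebra F E]
    [Module E (ι → F)] [IsScalarTower F E (ι → F)] : Subgroup (GL ι F) where
  carrier := {g | g ∈ M ∧ (∀ c : E, act g (c • v) = c • v) ∧
    ∀ (k : E) (x : ι → F), act g (k • x) - k • act g x ∈ Submodule.span E ({v} : Set (ι → F))}
  one_mem' := ⟨M.one_mem, fun c => act_one _, fun k x => by simp [act_one]⟩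
  mul_mem' := by
    rintro a b ⟨ha, ha1, ha2⟩ ⟨hb, hb1, hb2⟩
    refine ⟨M.mul_mem ha hb, fun c => by rw [act_mul, hb1, ha1], fun k x => ?_⟩
    obtain ⟨t, ht⟩ := Submodule.mem_span_singleton.1 (hb2 k x)
    rw [act_mul, act_mul, sub_eq_iff_eq_add.1 ht.symm,
      show act a (t • v + k • act b x) = act a (t • v) + act a (k • act b x) from
        Matrix.mulVec_add _ _ _, ha1, add_sub_assoc]
    exact add_mem (Submodule.smul_mem _ _ (Submodule.mem_span_singleton_self v)) (ha2 _ _)
  inv_mem' := by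
    rintro g ⟨hg, h1, h2⟩
    have hinv : ∀ c : E, act g⁻¹ (c • v) = c • v := fun c => by
      conv_lhs => rw [← h1 c, act_inv]
    refine ⟨M.inv_mem hg, hinv, fun k x => ?_⟩
    obtain ⟨t, ht⟩ := Submodule.mem_span_singleton.1 (h2 k (act g⁻¹ x))
    rw [act_inv'] at ht
    have e := congrArg (act g⁻¹) ht
    rw [hinv, show act g⁻¹ (act g (k • act g⁻¹ x) - k • x) = act g⁻¹ (act g (k • act g⁻¹ x)) -
      act g⁻¹ (k • x) from Matrix.mulVec_sub _ _ _, act_inv] at e
    rw [← neg_sub, ← e, ← neg_smul]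
    exact Submodule.smul_mem _ _ (Submodule.mem_span_singleton_self v)

include hm hH

/-- elements of `M` stabilising a line act semilinearly on it -/
theorem step (hr : (Module.finrank F E).Prime) (hF : ¬ Full E M) {v : ι → F} (hv : v ≠ 0)
    {h : GL ι F} (hh : h ∈ M) (hhv : act h v = v)
    (hL : ∀ c : E, act h (c • v) ∈ Submodule.span E ({v} : Set (ι → F))) :
    ∃ σ : E ≃ₐ[F] E, (∀ c : E, act h (c • v) = σ c • v) ∧
      ∀ k' : E, k' ∉ Set.range (algebraMap F E) → σ k' = k' → h ∈ linGroup M v E := by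
  classical
  haveI : Finite E := Module.finite_of_finite F
  have hL' : ∀ c : E, ∃ d : E, d • v = act h (c • v) := fun c => Submodule.mem_span_singleton.1 (hL c)
  choose Cf hCf using hL'
  have hcan : Function.Injective fun c : E => c • v := smul_left_injective E hv
  let Cl : E →ₗ[F] E :=
    { toFun := Cf
      map_add' := fun a b => hcan (by
        simp only
        rw [hCf, add_smul, add_smul, hCf, hCf]
        exact Matrix.mulVec_add _ _ _)
      map_smul' := fun a b => hcan (by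
        simp only [RingHom.id_apply]
        rw [hCf, smul_assoc, smul_assoc, hCf]
        exact Matrix.mulVec_smul _ _ _) }
  have hCinj : Function.Injective Cl := by
    intro a b hab
    have e : act h (a • v) = act h (b • v) := by
      rw [← hCf, ← hCf]; exact congrArg (fun z : E => z • v) hab
    have e2 := congrArg (act h⁻¹) e
    rw [act_inv, act_inv] at e2
    exact hcan e2
  obtain ⟨C, hC⟩ : ∃ C : E ≃ₗ[F] E, ∀ c, C c = Cl c :=
    ⟨LinearEquiv.ofBijective Cl ⟨hCinj, Finite.surjective_of_injective hCinj⟩, fun c => rfl⟩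
  have hhc : ∀ c : E, act h (c • v) = C c • v := fun c => by rw [hC]; exact (hCf c).symm
  have hC1 : C 1 = 1 := hcan (by simp only [← hhc, one_smul, hhv])
  have hhinv : ∀ c : E, act h⁻¹ (c • v) = C.symm c • v := fun c => by
    conv_lhs => rw [← C.apply_symm_apply c, ← hhc, act_inv]
  -- the main claims
  suffices hkey : (∀ a b, C (a * b) = C a * C b) ∧ ((∀ c, C c = c) →
      ∀ (k : E) (x : ι → F), act h⁻¹ (k • x) - k • act h⁻¹ x ∈ Submodule.span E ({v} : Set (ι → F))) by
    obtain ⟨hmul, hlin⟩ := hkey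
    refine ⟨AlgEquiv.ofLinearEquiv C hC1 hmul, fun c => hhc c, fun k' hk' hfix => ?_⟩
    have hfix' : C k' = k' := hfix
    have hid : ∀ c, C c = c := by
      let S : Subalgebra F E :=
        AlgHom.equalizer (AlgEquiv.ofLinearEquiv C hC1 hmul).toAlgHom (AlgHom.id F E)
      rcases (Subalgebra.isSimpleOrder_of_finrank_prime F E hr).eq_bot_or_eq_top S with hS | hS
      · exact absurd (Algebra.mem_bot.1 (hS ▸ (hfix' : k' ∈ S))) hk'
      · intro c
        have : c ∈ S := hS ▸ Algebra.mem_top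
        exact this
    have hi : h⁻¹ ∈ linGroup M v E := by
      refine ⟨M.inv_mem hh, fun c => ?_, hlin hid⟩
      rw [hhinv]
      conv_lhs => rw [← hid c, C.symm_apply_apply]
    simpa using (linGroup M v E).inv_mem hi
  by_cases h2 : Module.finrank E (ι → F) = 2
  · -- dimension two
    obtain ⟨u0, hu0⟩ := out1 (E := E) hm v
    obtain ⟨Φ, hΦ1, hΦ0⟩ := sepE hu0
    have hΦv : Φ v = 0 := hΦ0 v (Submodule.mem_span_singleton_self v)
    have hΦne : Φ ≠ 0 := fun h => by rw [h] at hΦ1; simp at hΦ1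
    obtain ⟨A, hA, hμ, hl, hr', hne⟩ := two_dim hm hH h2 hr hF hv hΦv hΦ1
    let Bl : E →ₗ[F] E :=
      { toFun := fun c => Φ (act h⁻¹ (c • u0))
        map_add' := fun a b => by
          rw [add_smul, show act h⁻¹ (a • u0 + b • u0) = act h⁻¹ (a • u0) + act h⁻¹ (b • u0) from
            Matrix.mulVec_add _ _ _, map_add]
        map_smul' := fun a b => by
          rw [smul_assoc, show act h⁻¹ (a • b • u0) = a • act h⁻¹ (b • u0) from
            Matrix.mulVec_smul _ _ _, Φ.map_smul_of_tower, RingHom.id_apply] }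
    have hB : ∀ x, Φ (act h⁻¹ x) = Bl (Φ x) := by
      intro x
      obtain ⟨t, ht⟩ := Submodule.mem_span_singleton.1 (ker_eq hm h2 hv hΦne hΦv
        (x := x - Φ x • u0) (by rw [map_sub, map_smul, hΦ1, smul_eq_mul, mul_one, sub_self]))
      have e : x = t • v + Φ x • u0 := by rw [ht, sub_add_cancel]
      conv_lhs => rw [e, show act h⁻¹ (t • v + Φ x • u0) = act h⁻¹ (t • v) + act h⁻¹ (Φ x • u0) from
        Matrix.mulVec_add _ _ _, hhinv, map_add, map_smul, hΦv, smul_zero, zero_add]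
      rfl
    have hBinj : Function.Injective Bl := by
      rw [injective_iff_map_eq_zero]
      intro c hc
      obtain ⟨t, ht⟩ := Submodule.mem_span_singleton.1 (ker_eq hm h2 hv hΦne hΦv
        (x := act h⁻¹ (c • u0)) hc)
      have e := congrArg (act h) ht
      rw [hhc, act_inv'] at e
      have e2 := congrArg Φ e
      rw [map_smul, map_smul, hΦv, hΦ1, smul_zero, smul_eq_mul, mul_one] at e2
      exact e2.symm
    obtain ⟨B, hBB⟩ : ∃ B : E ≃ₗ[F] E, ∀ c, B c = Bl c :=
      ⟨LinearEquiv.ofBijective Bl ⟨hBinj, Finite.surjective_of_injective hBinj⟩, fun c => rfl⟩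
    have hCB : ∀ X ∈ A, C.toLinearMap ∘ₗ X ∘ₗ B.toLinearMap ∈ A := by
      intro X hX
      rw [hA] at hX ⊢
      have hm' := M.mul_mem (M.mul_mem hh hX) (M.inv_mem hh)
      convert hm' using 1
      refine ext_act fun x => ?_
      rw [uni_act (rtMap_sq hΦv _), act_mul, act_mul, uni_act (rtMap_sq hΦv _), rtMap_apply,
        rtMap_apply, show act h (act h⁻¹ x + X (Φ (act h⁻¹ x)) • v) = act h (act h⁻¹ x) +
          act h (X (Φ (act h⁻¹ x)) • v) from Matrix.mulVec_add _ _ _, act_inv', hhc, hB]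
      simp [hBB]
    refine ⟨mul_of_compat hr A hμ hl hr' hne C B hCB hC1, fun hid => ?_⟩
    obtain ⟨b, hb⟩ : ∃ b, ∀ c, B c = b * c := by
      by_contra hc
      push Not at hc
      let S : AddSubgroup (E →ₗ[F] E) :=
        { carrier := {Y | ∀ X ∈ A, X ∘ₗ Y ∈ A}
          add_mem' := fun {a b} ha hb X hX => by rw [LinearMap.comp_add]; exact A.add_mem (ha X hX) (hb X hX)
          zero_mem' := fun X hX => by rw [LinearMap.comp_zero]; exact A.zero_mem
          neg_mem' := fun {a} ha X hX => by rw [LinearMap.comp_neg]; exact A.neg_mem (ha X hX) }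
      obtain ⟨X0, hX0⟩ := hne
      apply hX0
      have hall := eq_top hr S (fun k X hX => hr' k X hX)
        (fun P hP Q hQ X hX => by rw [← LinearMap.comp_assoc]; exact hQ _ (hP X hX))
        (X := B.toLinearMap) (fun X hX => by
          have := hCB X hX
          convert this using 1
          exact LinearMap.ext fun x => by simp [hid])
        (fun k hk => by
          obtain ⟨c, hc'⟩ := hc k
          exact hc' (DFunLike.congr_fun hk c)) X0 _ (hμ 1)
      convert hall using 1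
      exact LinearMap.ext fun x => by simp
    intro k x
    refine ker_eq hm h2 hv hΦne hΦv ?_
    rw [map_sub, map_smul, hB, hB, ← hBB, ← hBB, hb, hb, map_smul, smul_eq_mul, smul_eq_mul]
    ring
  · -- dimension at least three
    have h3 : 3 ≤ Module.finrank E (ι → F) := by omega
    have hglin : ∀ (Ψ : (ι → F) →ₗ[E] E), Ψ v = 0 → ∀ (l k : E) (x : ι → F),
        C (l * Ψ (act h⁻¹ (k • x))) = k * C (l * Ψ (act h⁻¹ x)) := by
      intro Ψ hΨ l
      let δ : (ι → F) →ₗ[F] E :=
        { toFun := fun x => C (l * Ψ (act h⁻¹ x))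
          map_add' := fun a b => by
            rw [show act h⁻¹ (a + b) = act h⁻¹ a + act h⁻¹ b from Matrix.mulVec_add _ _ _, map_add,
              mul_add, map_add]
          map_smul' := fun a b => by
            rw [show act h⁻¹ (a • b) = a • act h⁻¹ b from Matrix.mulVec_smul _ _ _,
              Ψ.map_smul_of_tower, mul_smul_comm, map_smul, RingHom.id_apply] }
      refine lin_of_not_full hm hH hr h3 hF hv (δ := δ) (fun c => ?_) ?_
      · change C (l * Ψ (act h⁻¹ (c • v))) = 0
        rw [hhinv, map_smul, hΨ, smul_zero, mul_zero, map_zero]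
      · have hm' := M.mul_mem (M.mul_mem hh (rt_lin_mem hH hΨ l)) (M.inv_mem hh)
        convert hm' using 1
        have hsq : ∀ y, ((LinearMap.toSpanSingleton E (ι → F) v).restrictScalars F ∘ₗ δ)
            (((LinearMap.toSpanSingleton E (ι → F) v).restrictScalars F ∘ₗ δ) y) = 0 := by
          intro y
          change C (l * Ψ (act h⁻¹ (C (l * Ψ (act h⁻¹ y)) • v))) • v = 0
          rw [hhinv, map_smul, hΨ, smul_zero, mul_zero, map_zero, zero_smul]
        refine ext_act fun x => ?_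
        rw [uni_act hsq, act_mul, act_mul, uni_act (rtMap_sq hΨ _), rtMap_apply, μ_apply,
          show act h (act h⁻¹ x + (l * Ψ (act h⁻¹ x)) • v) = act h (act h⁻¹ x) +
            act h ((l * Ψ (act h⁻¹ x)) • v) from Matrix.mulVec_add _ _ _, act_inv', hhc]
        rfl
    have hlinΨ : (∀ c, C c = c) → ∀ (Ψ : (ι → F) →ₗ[E] E), Ψ v = 0 → ∀ (k : E) (x : ι → F),
        Ψ (act h⁻¹ (k • x)) = k * Ψ (act h⁻¹ x) := by
      intro hid Ψ hΨ k x
      have := hglin Ψ hΨ 1 k x
      rwa [one_mul, one_mul, hid, hid] at this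
    refine ⟨fun a b => ?_, fun hid k x => ?_⟩
    · obtain ⟨u, hu⟩ := out1 (E := E) hm v
      obtain ⟨Ψ, h1, h0⟩ := sepE hu
      have hΨv : Ψ v = 0 := h0 v (Submodule.mem_span_singleton_self v)
      obtain ⟨m, hm'⟩ : ∃ m, m = Ψ (act h⁻¹ (C a • act h u)) := ⟨_, rfl⟩
      have e1 := hglin Ψ hΨv 1 (C a) (act h u)
      rw [act_inv, h1, one_mul, one_mul, hC1, mul_one, ← hm'] at e1
      have e2 := hglin Ψ hΨv b (C a) (act h u)
      rw [act_inv, h1, mul_one, ← hm', C.injective e1, mul_comm b a] at e2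
      exact e2
    · by_contra hout
      obtain ⟨Ψ, h1, h0⟩ := sepE hout
      rw [map_sub, hlinΨ hid Ψ (h0 v (Submodule.mem_span_singleton_self v)), map_smul, smul_eq_mul,
        sub_self] at h1
      exact zero_ne_one h1

/-- the main theorem, away from the smallest field -/
theorem full_of_not_semi (hr : (Module.finrank F E).Prime)
    (hex : ¬ (Nat.card F = 2 ∧ Module.finrank F E = 2)) (hN : ∃ g ∈ M, ¬ Semi E g) : Full E M := by
  classical
  by_contra hF
  haveI : Finite E := Module.finite_of_finite F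
  obtain ⟨v, hv⟩ : ∃ v : ι → F, v ∉ Submodule.span E ({0} : Set (ι → F)) := out1 (E := E) hm 0
  have hv0 : v ≠ 0 := fun h => hv (by rw [h]; exact zero_mem _)
  obtain ⟨k, k', hk, hk', hgal, g, hg, hgv, hgk⟩ := exists_pair hm hH hr hex hN hv0
  obtain ⟨p, hp⟩ := CharP.exists F
  haveI := hp
  haveI : Fintype F := Fintype.ofFinite F
  haveI : Fact p.Prime := ⟨CharP.char_is_prime F p⟩
  haveI : Finite (GL ι F) := inferInstance
  -- the translations
  obtain ⟨Q, hQ⟩ : ∃ Q, Q = linGroup M v E := ⟨_, rfl⟩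
  let U : Subgroup (GL ι F) :=
    { carrier := {u | u ∈ M ∧ (∀ c : E, act u (c • v) = c • v) ∧
        ∀ x, act u x - x ∈ Submodule.span E ({v} : Set (ι → F))}
      one_mem' := ⟨M.one_mem, fun c => act_one _, fun x => by simp [act_one]⟩
      mul_mem' := by
        rintro a b ⟨ha, ha1, ha2⟩ ⟨hb, hb1, hb2⟩
        refine ⟨M.mul_mem ha hb, fun c => by rw [act_mul, hb1, ha1], fun x => ?_⟩
        rw [act_mul]
        have := add_mem (ha2 (act b x)) (hb2 x)
        rwa [sub_add_sub_cancel] at this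
      inv_mem' := by
        rintro a ⟨ha, ha1, ha2⟩
        refine ⟨M.inv_mem ha, fun c => by conv_lhs => rw [← ha1 c, act_inv], fun x => ?_⟩
        have := neg_mem (ha2 (act a⁻¹ x))
        rwa [act_inv', neg_sub] at this }
  have hUp : IsPGroup p U := by
    rintro ⟨u, hu, hu1, hu2⟩
    refine ⟨1, Subtype.ext ?_⟩
    rw [pow_one, Subgroup.coe_pow, Subgroup.coe_one]
    refine ext_act fun x => ?_
    obtain ⟨t, ht⟩ := Submodule.mem_span_singleton.1 (hu2 x)
    have hx : act u x = x + t • v := by rw [ht, add_sub_cancel]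
    have hpow : ∀ n : ℕ, act (u ^ n) x = x + (n : E) • (t • v) := by
      intro n
      induction n with
      | zero => simp [act]
      | succ n ih =>
        rw [pow_succ', act_mul, ih, smul_smul,
          show act u (x + ((n : E) * t) • v) = act u x + act u (((n : E) * t) • v) from
            Matrix.mulVec_add _ _ _, hu1, hx, Nat.cast_succ]
        module
    rw [hpow, act_one]
    have : (p : E) = 0 := by rw [← map_natCast (algebraMap F E), CharP.cast_eq_zero, map_zero]
    rw [this, zero_smul, add_zero]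
  have hUQ : U ≤ Q := by
    rintro u ⟨hu, hu1, hu2⟩
    rw [hQ]
    refine ⟨hu, hu1, fun l x => ?_⟩
    have h1 := hu2 (l • x)
    have h2 := Submodule.smul_mem (Submodule.span E ({v} : Set (ι → F))) l (hu2 x)
    have := sub_mem h1 h2
    rwa [smul_sub, sub_sub_sub_cancel_right] at this
  -- a maximal p-subgroup
  obtain ⟨P, hP⟩ := (hUp.of_equiv (Subgroup.subgroupOfEquivOfLe hUQ).symm).exists_le_sylow
  obtain ⟨P0, hP0⟩ : ∃ P0, P0 = (P : Subgroup Q).map Q.subtype := ⟨_, rfl⟩
  have hP0p : IsPGroup p P0 := hP0 ▸ P.isPGroup'.map _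
  have hP0Q : P0 ≤ Q := hP0 ▸ Subgroup.map_subtype_le _
  have hUP0 : U ≤ P0 := by
    intro u hu
    rw [hP0]
    exact ⟨⟨u, hUQ hu⟩, hP (Subgroup.mem_subgroupOf.2 hu), rfl⟩
  have hP0max : ∀ R : Subgroup (GL ι F), IsPGroup p R → P0 ≤ R → R ≤ Q → R ≤ P0 := by
    intro R hR h1 h2
    have h3 := P.is_maximal' (hR.of_equiv (Subgroup.subgroupOfEquivOfLe h2).symm) (fun x hx => by
      rw [Subgroup.mem_subgroupOf]
      exact h1 (hP0 ▸ ⟨x, hx, rfl⟩))
    intro x hx
    rw [hP0]
    exact ⟨⟨x, h2 hx⟩, h3 ▸ Subgroup.mem_subgroupOf.2 hx, rfl⟩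
  -- the normaliser preserves the line
  have hnorm : ∀ h : GL ι F, (∀ x, x ∈ P0 → h⁻¹ * x * h ∈ P0) → ∀ c : E,
      act h (c • v) ∈ Submodule.span E ({v} : Set (ι → F)) := by
    intro h hh c
    by_contra hout
    obtain ⟨Ψ, h1, h0⟩ := sepE hout
    have hΨv : Ψ v = 0 := h0 v (Submodule.mem_span_singleton_self v)
    have hu : uni (rtMap v Ψ (μ 1)) ∈ U := by
      refine ⟨rt_lin_mem hH hΨv 1, fun d => ?_, fun x => ?_⟩
      · rw [uni_act (rtMap_sq hΨv _), rtMap_apply, map_smul, hΨv, smul_zero, map_zero, zero_smul,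
          add_zero]
      · rw [uni_act (rtMap_sq hΨv _), add_sub_cancel_left, rtMap_apply]
        exact Submodule.smul_mem _ _ (Submodule.mem_span_singleton_self v)
    have h2 := hh _ (hUP0 hu)
    have h3 : (h⁻¹ * uni (rtMap v Ψ (μ 1)) * h) ∈ linGroup M v E := hQ ▸ hP0Q h2
    have h4 := congrArg (act h) (h3.2.1 c)
    rw [act_mul, act_mul, act_inv', uni_act (rtMap_sq hΨv _), rtMap_apply, h1, μ_apply, mul_one,
      one_smul, add_eq_left] at h4
    exact hv0 h4
  -- pair stabilisers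
  let Y : Subgroup (GL ι F) :=
    { carrier := {y | y ∈ M ∧ act y v = v ∧ act y (k' • v) = k' • v}
      one_mem' := ⟨M.one_mem, act_one _, act_one _⟩
      mul_mem' := by
        rintro a b ⟨ha, ha1, ha2⟩ ⟨hb, hb1, hb2⟩
        exact ⟨M.mul_mem ha hb, by rw [act_mul, hb1, ha1], by rw [act_mul, hb2, ha2]⟩
      inv_mem' := by
        rintro a ⟨ha, ha1, ha2⟩
        exact ⟨M.inv_mem ha, by conv_lhs => rw [← ha1, act_inv],
          by conv_lhs => rw [← ha2, act_inv]⟩ }
  have hP0Y : P0 ≤ Y := fun x hx => by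
    have h3 : x ∈ linGroup M v E := hQ ▸ hP0Q hx
    exact ⟨h3.1, by simpa using h3.2.1 1, h3.2.1 k'⟩
  by_cases hbig : ∃ R : Subgroup (GL ι F), IsPGroup p R ∧ P0 < R ∧ R ≤ Y
  · obtain ⟨R, hR, hlt, hRY⟩ := hbig
    haveI := hR.isNilpotent
    have hne : P0.subgroupOf R < ⊤ := by
      rw [lt_top_iff_ne_top, Ne, Subgroup.subgroupOf_eq_top]
      exact hlt.not_ge
    have hlt' := normalizerCondition_of_isNilpotent _ hne
    obtain ⟨h, hh, hh'⟩ := SetLike.exists_of_lt hlt'
    rw [Subgroup.mem_normalizer_iff] at hh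
    rw [Subgroup.mem_subgroupOf] at hh'
    have hconj : ∀ x, x ∈ P0 → (h : GL ι F)⁻¹ * x * h ∈ P0 := by
      intro x hx
      have := (hh (h⁻¹ * ⟨x, hlt.le hx⟩ * h)).2 (by
        rw [Subgroup.mem_subgroupOf]
        simpa [mul_assoc] using hx)
      rw [Subgroup.mem_subgroupOf] at this
      simpa using this
    obtain ⟨hM', hhv, hhk⟩ := hRY h.2
    obtain ⟨σ, hσ, hlin⟩ := step hm hH hr hF hv0 hM' hhv (hnorm _ hconj)
    have hσk : σ k' = k' := smul_left_injective E hv0 (by simp only [← hσ, hhk])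
    have hQh : (h : GL ι F) ∈ Q := hQ ▸ hlin k' hk' hσk
    apply hh'
    have hle : P0 ⊔ Subgroup.zpowers (h : GL ι F) ≤ R :=
      sup_le hlt.le (Subgroup.zpowers_le.2 h.2)
    exact hP0max _ (hR.to_le hle) le_sup_left (sup_le hP0Q (Subgroup.zpowers_le.2 hQh))
      (le_sup_right (a := P0) (Subgroup.mem_zpowers _))
  · push Not at hbig
    -- both conjugates are Sylow subgroups of the pair stabiliser
    obtain ⟨P1, hP1⟩ : ∃ P1, P1 = P0.map (MulAut.conj g).toMonoidHom := ⟨_, rfl⟩
    have hP1Y : P1 ≤ Y := by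
      rintro _ hx
      rw [hP1] at hx
      obtain ⟨x, hx, rfl⟩ := hx
      have h3 : x ∈ linGroup M v E := hQ ▸ hP0Q hx
      have e0 : act g⁻¹ v = v := by conv_lhs => rw [← hgv, act_inv]
      have e1 : act g⁻¹ (k' • v) = k • v := by rw [← hgk, act_inv]
      refine ⟨M.mul_mem (M.mul_mem hg h3.1) (M.inv_mem hg), ?_, ?_⟩
      · change act (g * x * g⁻¹) v = v
        rw [act_mul, act_mul, e0]
        have := h3.2.1 1
        rw [one_smul] at this
        rw [this, hgv]
      · change act (g * x * g⁻¹) (k' • v) = k' • v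
        rw [act_mul, act_mul, e1, h3.2.1 k, hgk]
    have hP1p : IsPGroup p P1 := hP1 ▸ hP0p.map _
    have hcard : Nat.card P1 = Nat.card P0 := by
      rw [hP1]
      exact Subgroup.card_map_of_injective (MulAut.conj g).injective
    -- Sylow subgroups of `Y`
    obtain ⟨S0, hS0⟩ := (hP0p.of_equiv (Subgroup.subgroupOfEquivOfLe hP0Y).symm).exists_le_sylow
    obtain ⟨S1, hS1⟩ := (hP1p.of_equiv (Subgroup.subgroupOfEquivOfLe hP1Y).symm).exists_le_sylow
    have hS0eq : (S0 : Subgroup Y).map Y.subtype = P0 := by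
      by_contra hne
      refine hbig _ (S0.isPGroup'.map _) (lt_of_le_of_ne ?_ (Ne.symm hne)) (Subgroup.map_subtype_le _)
      intro x hx
      exact ⟨⟨x, hP0Y hx⟩, hS0 (Subgroup.mem_subgroupOf.2 hx), rfl⟩
    have hS1eq : (S1 : Subgroup Y).map Y.subtype = P1 := by
      refine (Subgroup.eq_of_le_of_card_ge ?_ ?_).symm
      · intro x hx
        exact ⟨⟨x, hP1Y hx⟩, hS1 (Subgroup.mem_subgroupOf.2 hx), rfl⟩
      · rw [hcard, ← hS0eq, Subgroup.card_map_of_injective Y.subtype_injective,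
          Subgroup.card_map_of_injective Y.subtype_injective]
        exact (Sylow.card_eq_multiplicity S1).le.trans (Sylow.card_eq_multiplicity S0).ge
    obtain ⟨y, hy⟩ := MulAction.exists_smul_eq Y S1 S0
    obtain ⟨g', hg'⟩ : ∃ g', g' = (y : GL ι F) * g := ⟨_, rfl⟩
    have hconj0 : ∀ x, x ∈ P0 → g' * x * g'⁻¹ ∈ P0 := by
      intro x hx
      have h1 : g * x * g⁻¹ ∈ (S1 : Subgroup Y).map Y.subtype := by
        rw [hS1eq, hP1]
        exact ⟨x, hx, rfl⟩
      obtain ⟨z, hz, hzx⟩ := h1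
      rw [← hS0eq]
      refine ⟨y * z * y⁻¹, ?_, ?_⟩
      · rw [← hy]
        change y * z * y⁻¹ ∈ ((y • S1 : Sylow p Y) : Subgroup Y)
        rw [Sylow.coe_subgroup_smul]
        exact Subgroup.smul_mem_pointwise_smul z (MulAut.conj y) _ hz
      · change ((y * z * y⁻¹ : Y) : GL ι F) = g' * x * g'⁻¹
        rw [Subgroup.coe_mul, Subgroup.coe_mul, InvMemClass.coe_inv, hg']
        change (y : GL ι F) * ((Y.subtype) z) * _ = _
        rw [hzx]
        group
    have hconj : ∀ x, x ∈ P0 → g'⁻¹ * x * g' ∈ P0 := by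
      have heq : P0.map (MulAut.conj g').toMonoidHom = P0 := by
        refine Subgroup.eq_of_le_of_card_ge ?_ (le_of_eq ?_)
        · rintro _ ⟨z, hz, rfl⟩
          exact hconj0 z hz
        · rw [Subgroup.card_map_of_injective (MulAut.conj g').injective]
      intro x hx
      rw [← heq] at hx
      obtain ⟨z, hz, rfl⟩ := hx
      change g'⁻¹ * (g' * z * g'⁻¹) * g' ∈ P0
      rwa [show g'⁻¹ * (g' * z * g'⁻¹) * g' = z by group]
    have hg'M : g' ∈ M := hg' ▸ M.mul_mem y.2.1 hg
    have hg'v : act g' v = v := by rw [hg', act_mul, hgv, y.2.2.1]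
    have hg'k : act g' (k • v) = k' • v := by rw [hg', act_mul, hgk, y.2.2.2]
    obtain ⟨σ, hσ, -⟩ := step hm hH hr hF hv0 hg'M hg'v (hnorm _ hconj)
    exact hgal σ (smul_left_injective E hv0 (by simp only [← hσ, hg'k]))

/-- the smallest field, dimension at least three -/
theorem full_of_not_semi_two (hr : (Module.finrank F E).Prime) (hF2 : Nat.card F = 2)
    (hE2 : Module.finrank F E = 2) (h3 : 3 ≤ Module.finrank E (ι → F))
    (hN : ∃ g ∈ M, ¬ Semi E g) : Full E M := by
  classical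
  haveI : Finite E := Module.finite_of_finite F
  haveI : Fintype E := Fintype.ofFinite E
  haveI : Fintype F := Fintype.ofFinite F
  obtain ⟨v, hv⟩ : ∃ v : ι → F, v ∉ Submodule.span E ({0} : Set (ι → F)) := out1 (E := E) hm 0
  have hv0 : v ≠ 0 := fun h => hv (by rw [h]; exact zero_mem _)
  obtain ⟨k, hk⟩ : ∃ k : E, k ∉ Set.range (algebraMap F E) := by
    by_contra hc
    push Not at hc
    have hsurj : Function.Surjective (algebraMap F E) := fun x => Set.mem_range.1 (hc x)
    have h1 := Fintype.card_le_of_surjective _ hsurj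
    rw [Module.card_eq_pow_finrank (K := F) (V := E), hE2] at h1
    rw [Nat.card_eq_fintype_card] at hF2
    rw [hF2] at h1
    omega
  obtain ⟨h, hh, hhv, hout⟩ := exists_moved hm hH hr hN hv0 hk
  -- coordinates on `E`
  have hcov : ∀ c : E, ∃ a b : F, c = algebraMap F E a + algebraMap F E b * k := by
    have hinj : Function.Injective fun p : F × F => algebraMap F E p.1 + algebraMap F E p.2 * k := by
      rintro ⟨a, b⟩ ⟨c, d⟩ he
      simp only at he
      by_cases hbd : b = d
      · subst hbd; simp at he; rw [he]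
      · exfalso
        refine hk ⟨(c - a) / (b - d), ?_⟩
        have hne : algebraMap F E (b - d) ≠ 0 := by simpa [sub_eq_zero] using hbd
        rw [map_div₀, map_sub, map_sub]
        rw [map_sub] at hne
        rw [div_eq_iff hne]
        linear_combination -he
    have hsurj := ((Fintype.bijective_iff_injective_and_card _).2 ⟨hinj, by
      rw [Fintype.card_prod, Module.card_eq_pow_finrank (K := F) (V := E), hE2, sq]⟩).2
    intro c
    obtain ⟨⟨a, b⟩, hab⟩ := hsurj c
    exact ⟨a, b, hab.symm⟩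
  have hhF : ∀ (a : F) (x : ι → F), act h (algebraMap F E a • x) = algebraMap F E a • act h x := by
    intro a x
    rw [algebraMap_smul, algebraMap_smul]
    exact Matrix.mulVec_smul _ _ _
  -- a functional killing the image of the line
  obtain ⟨d, hd⟩ := out2 (E := E) h3 v (act h (k • v))
  obtain ⟨Φ, hΦ1, hΦ0⟩ := sepE hd
  have hΦv : Φ v = 0 := hΦ0 v (Submodule.subset_span (by simp))
  have hΦw : Φ (act h (k • v)) = 0 := hΦ0 _ (Submodule.subset_span (by simp))
  have hΦh : ∀ c : E, Φ (act h (c • v)) = 0 := by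
    intro c
    obtain ⟨a, b, rfl⟩ := hcov c
    rw [add_smul, mul_smul, show act h (algebraMap F E a • v + algebraMap F E b • k • v) =
      act h (algebraMap F E a • v) + act h (algebraMap F E b • k • v) from Matrix.mulVec_add _ _ _,
      hhF, hhF, hhv, map_add, map_smul, map_smul, hΦv, hΦw, smul_zero, smul_zero, add_zero]
  have hinvout : act h⁻¹ (k • v) ∉ Submodule.span E ({v} : Set (ι → F)) := by
    intro hmem
    obtain ⟨t, ht⟩ := Submodule.mem_span_singleton.1 hmem
    obtain ⟨a, b, rfl⟩ := hcov t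
    have e := congrArg (act h) ht
    rw [act_inv', add_smul, mul_smul, show act h (algebraMap F E a • v + algebraMap F E b • k • v) =
      act h (algebraMap F E a • v) + act h (algebraMap F E b • k • v) from Matrix.mulVec_add _ _ _,
      hhF, hhF, hhv] at e
    by_cases hb : b = 0
    · subst hb
      rw [map_zero, zero_smul, add_zero] at e
      exact hk ⟨a, smul_left_injective E hv0 e⟩
    · apply hout
      have hb' : algebraMap F E b ≠ 0 := by simpa using hb
      refine Submodule.mem_span_singleton.2 ⟨(algebraMap F E b)⁻¹ * (k - algebraMap F E a), ?_⟩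
      rw [mul_smul, sub_smul, ← eq_sub_of_add_eq' e, smul_smul, inv_mul_cancel₀ hb', one_smul]
  obtain ⟨Φ1, h11, h10⟩ := sepE hinvout
  have hΦ1v : Φ1 v = 0 := h10 v (Submodule.mem_span_singleton_self v)
  -- the two elements
  let f : (ι → F) →ₗ[F] (ι → F) :=
    Matrix.toLin' (h : Matrix ι ι F) ∘ₗ rtMap v Φ1 (μ 1) ∘ₗ Matrix.toLin' ((h⁻¹ : GL ι F) : Matrix ι ι F)
  have hfx : ∀ x, f x = act h (Φ1 (act h⁻¹ x) • v) := fun x => by
    simp only [f, LinearMap.comp_apply, rtMap_apply, Matrix.toLin'_apply, μ_apply, one_mul]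
  have hf2 : ∀ x, f (f x) = 0 := by
    intro x
    rw [hfx, hfx, act_inv, map_smul, hΦ1v, smul_zero, zero_smul]
    simp [act]
  have hfM : uni f ∈ M := by
    have hm' := M.mul_mem (M.mul_mem hh (rt_lin_mem hH hΦ1v 1)) (M.inv_mem hh)
    convert hm' using 1
    refine ext_act fun x => ?_
    rw [uni_act hf2, hfx, act_mul, act_mul, uni_act (rtMap_sq hΦ1v _), rtMap_apply, μ_apply, one_mul,
      show act h (act h⁻¹ x + Φ1 (act h⁻¹ x) • v) = act h (act h⁻¹ x) + act h (Φ1 (act h⁻¹ x) • v)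
        from Matrix.mulVec_add _ _ _, act_inv']
  have hgf : ∀ x, rtMap v Φ (μ 1) (f x) = 0 := by
    intro x
    rw [rtMap_apply, hfx, hΦh, map_zero, zero_smul]
  have hm' := M.mul_mem (M.mul_mem (M.mul_mem hfM (rt_lin_mem hH hΦv 1)) (M.inv_mem hfM))
    (M.inv_mem (rt_lin_mem hH hΦv 1))
  rw [comm_uni hf2 (rtMap_sq hΦv _) hgf] at hm'
  obtain ⟨X, hX⟩ : ∃ X : E →ₗ[F] E, ∀ c, X c = Φ1 (act h⁻¹ (c • v)) := by
    refine ⟨{ toFun := fun c => Φ1 (act h⁻¹ (c • v)), map_add' := fun a b => ?_,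
              map_smul' := fun a b => ?_ }, fun c => rfl⟩
    · rw [add_smul, show act h⁻¹ (a • v + b • v) = act h⁻¹ (a • v) + act h⁻¹ (b • v) from
        Matrix.mulVec_add _ _ _, map_add]
    · rw [smul_assoc, show act h⁻¹ (a • b • v) = a • act h⁻¹ (b • v) from Matrix.mulVec_smul _ _ _,
        Φ1.map_smul_of_tower, RingHom.id_apply]
  have hhv' : act h⁻¹ v = v := by conv_lhs => rw [← hhv, act_inv]
  have hXF : ∀ c, ∃ b : F, X c = algebraMap F E b := by
    intro c
    obtain ⟨a, b, rfl⟩ := hcov c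
    refine ⟨b, ?_⟩
    rw [hX, add_smul, mul_smul, algebraMap_smul, algebraMap_smul,
      show act h⁻¹ (a • v + b • k • v) = a • act h⁻¹ v + b • act h⁻¹ (k • v) by
        simp only [act, Matrix.mulVec_add, Matrix.mulVec_smul],
      map_add, Φ1.map_smul_of_tower, Φ1.map_smul_of_tower, hhv', hΦ1v, h11, smul_zero, zero_add,
      Algebra.smul_def, mul_one]
  have e : f ∘ₗ rtMap v Φ (μ 1) = rtMap v Φ X := by
    refine LinearMap.ext fun x => ?_
    obtain ⟨b, hb⟩ := hXF (Φ x)
    rw [LinearMap.comp_apply, rtMap_apply, μ_apply, one_mul, hfx, ← hX, rtMap_apply, hb, hhF, hhv]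
  rw [e] at hm'
  have hXv : X 1 = 0 := by rw [hX, one_smul, hhv', hΦ1v]
  have hXk : X k = 1 := by rw [hX, h11]
  refine full_of_root hm hH hr h3 hv0 (fun h0 => by rw [h0] at hΦ1; simp at hΦ1) hΦv hm' fun c hc => ?_
  have e1 := DFunLike.congr_fun hc 1
  have e2 := DFunLike.congr_fun hc k
  rw [hXv, μ_apply, mul_one] at e1
  rw [hXk, ← e1, μ_apply, zero_mul] at e2
  exact one_ne_zero e2

end Fusion

end CfsgLib.Lie.ExtField
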