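import Cfsg.Agent.Lie.ExtField

/-!
The smallest field extension subgroup: the semilinear maps of a plane over the field with four
elements form a maximal subgroup of the four-dimensional linear group over two elements.
-/

set_option autoImplicit false
set_option linter.unusedSimpArgs false
set_option linter.unusedSectionVars false

namespace CfsgLib.Lie.ExtField

open Matrix
open CfsgLib.Lie.DecompSL (mem_SL det_eq_one)
open CfsgLib.Lie.ExtAlg

variable {F : Type*} [Field F] {ι : Type} [Fintype ι] [DecidableEq ι]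
variable {E : Type*} [Field E] [Algebra F E] [Module E (ι → F)] [IsScalarTower F E (ι → F)]

theorem det_two [Fintype F] (hF : Fintype.card F = 2) (g : GL ι F) :
    (g : Matrix ι ι F).det = 1 := by
  have h1 := FiniteField.pow_card_sub_one_eq_one (g : Matrix ι ι F).det
    ((Matrix.isUnit_iff_isUnit_det _).1 g.isUnit).ne_zero
  rw [hF] at h1
  simpa using h1

/-- trivial normal subgroups of `GL₄(2)` -/
theorem normal_two [Fintype F] (hF : Fintype.card F = 2) (hι : Fintype.card ι = 4)
    (K : Subgroup (GL ι F)) [hK : K.Normal] (hne : K ≠ ⊤) : K = ⊥ := by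
  haveI : Nontrivial ι := Fintype.one_lt_card_iff_nontrivial.1 (by omega)
  haveI := SLn.isSimpleGroup_PSL (ι := ι) (F := F) (Or.inl (by omega))
  have hc : Subgroup.center (SpecialLinearGroup ι F) = ⊥ := by
    rw [Subgroup.eq_bot_iff_forall]
    intro z hz
    obtain ⟨r, hr, hzr⟩ := Matrix.SpecialLinearGroup.mem_center_iff.1 hz
    have hr0 : r ≠ 0 := fun h => by rw [h, zero_pow (by omega)] at hr; exact zero_ne_one hr
    have h1 := FiniteField.pow_card_sub_one_eq_one r hr0
    rw [hF] at h1
    simp at h1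
    subst h1
    refine Subtype.ext ?_
    rw [← hzr]
    simp
  haveI hsimple : IsSimpleGroup (SpecialLinearGroup ι F) := by
    have e : SpecialLinearGroup ι F ≃* Matrix.ProjectiveSpecialLinearGroup ι F :=
      ((QuotientGroup.quotientBot).symm.trans (QuotientGroup.quotientMulEquivOfEq hc.symm))
    haveI : Nontrivial (SpecialLinearGroup ι F) := e.toEquiv.nontrivial
    exact IsSimpleGroup.isSimpleGroup_of_surjective e.symm.toMonoidHom e.symm.surjective
  have hsurj : ∀ g : GL ι F, ∃ s : SpecialLinearGroup ι F, SpecialLinearGroup.toGL s = g :=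
    fun g => ⟨⟨(g : Matrix ι ι F), det_two hF g⟩, Units.ext rfl⟩
  rcases (hsimple.eq_bot_or_eq_top_of_normal _ (hK.comap SpecialLinearGroup.toGL)) with h | h
  · rw [Subgroup.eq_bot_iff_forall]
    intro g hg
    obtain ⟨s, rfl⟩ := hsurj g
    have : s ∈ (K.comap SpecialLinearGroup.toGL) := hg
    rw [h, Subgroup.mem_bot] at this
    rw [this, map_one]
  · refine absurd (eq_top_iff.2 fun g _ => ?_) hne
    obtain ⟨s, rfl⟩ := hsurj g
    have : s ∈ (K.comap SpecialLinearGroup.toGL) := h ▸ Subgroup.mem_top s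
    exact this

theorem small_top [Fintype F] [FiniteDimensional F E] [Module.Finite E (ι → F)]
    (hF : Fintype.card F = 2) (hE : Module.finrank F E = 2) (hm2 : Module.finrank E (ι → F) = 2)
    {M : Subgroup (GL ι F)} (hH : ∀ g : GL ι F, Lin E g → (g : Matrix ι ι F).det = 1 → g ∈ M)
    (hN : ∃ g ∈ M, ¬ Semi E g) : M = ⊤ := by
  classical
  by_contra hne
  haveI : Finite E := Module.finite_of_finite F
  haveI : Fintype E := Fintype.ofFinite E
  have hr : (Module.finrank F E).Prime := hE ▸ Nat.prime_two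
  have hm : 2 ≤ Module.finrank E (ι → F) := hm2.ge
  have hι : Fintype.card ι = 4 := by
    have := Module.finrank_mul_finrank F E (ι → F)
    rw [hE, hm2, Module.finrank_fintype_fun_eq_card] at this
    omega
  have hE4 : Fintype.card E = 4 := by
    rw [Module.card_eq_pow_finrank (K := F) (V := E), hF, hE]; norm_num
  have hV16 : Fintype.card (ι → F) = 16 := by rw [Fintype.card_fun, hF, hι]; norm_num
  have hnorm : ∀ x : E, x ≠ 0 → Algebra.norm F x = 1 := by
    intro x hx
    have h1 := FiniteField.pow_card_sub_one_eq_one (Algebra.norm F x) (Algebra.norm_ne_zero_iff.2 hx)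
    rw [hF] at h1
    simpa using h1
  obtain ⟨v, hv⟩ : ∃ v : ι → F, v ∉ Submodule.span E ({0} : Set (ι → F)) := out1 (E := E) hm 0
  have hv0 : v ≠ 0 := fun h => hv (by rw [h]; exact zero_mem _)
  obtain ⟨k, hk⟩ : ∃ k : E, k ∉ Set.range (algebraMap F E) := by
    by_contra hc
    push Not at hc
    have hsurj : Function.Surjective (algebraMap F E) := fun x => Set.mem_range.1 (hc x)
    have h1 := Fintype.card_le_of_surjective _ hsurj
    omega
  have hFc : ∀ a : F, a = 0 ∨ a = 1 := by
    intro a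
    by_cases h : a = 0
    · exact Or.inl h
    · have h1 := FiniteField.pow_card_sub_one_eq_one a h
      rw [hF] at h1
      exact Or.inr (by simpa using h1)
  have hk0 : k ≠ 0 := fun h => hk ⟨0, by rw [h, map_zero]⟩
  have hk1 : k ≠ 1 := fun h => hk ⟨1, by rw [h, map_one]⟩
  -- transitivity on pairs
  obtain ⟨Φm, -, hdec, hmove⟩ := move_fix hm hH hv0
  have hfix : ∀ b : ι → F, b ≠ 0 → b ≠ v → ∃ g ∈ M, act g v = v ∧ act g (k • v) = b := by
    intro b hb hbv
    obtain ⟨g, hg, hgv, hgk⟩ := exists_moved hm hH hr hN hv0 hk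
    have hkey : ∀ b' : ι → F, b' ∉ Submodule.span E ({v} : Set (ι → F)) →
        ∃ g ∈ M, act g v = v ∧ act g (k • v) = b' := by
      intro b' hb'
      obtain ⟨h, hh, -, hhv, hhu⟩ := hmove _ b' hgk hb' (fun h2 => by
        rw [hnorm _ (fun h => hgk (hdec h2 _ h)), hnorm _ (fun h => hb' (hdec h2 _ h))])
      exact ⟨h * g, M.mul_mem hh hg, by rw [act_mul, hgv, hhv], by rw [act_mul, hhu]⟩
    by_cases hb' : b ∈ Submodule.span E ({v} : Set (ι → F))
    · obtain ⟨k', rfl⟩ := Submodule.mem_span_singleton.1 hb'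
      have hk' : k' ∉ Set.range (algebraMap F E) := by
        rintro ⟨a, rfl⟩
        rcases hFc a with rfl | rfl
        · exact hb (by rw [map_zero, zero_smul])
        · exact hbv (by rw [map_one, one_smul])
      obtain ⟨g', hg', hg'v, hg'k⟩ := exists_moved hm hH hr hN hv0 hk'
      obtain ⟨h, hh, hhv, hhu⟩ := hkey _ hg'k
      refine ⟨g'⁻¹ * h, M.mul_mem (M.inv_mem hg') hh, ?_, ?_⟩
      · rw [act_mul, hhv]; conv_lhs => rw [← hg'v, act_inv]
      · rw [act_mul, hhu, act_inv]
    · exact hkey b hb'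
  let pairs : Finset (Σ _ : ι → F, ι → F) :=
    (Finset.univ.erase 0).sigma (fun a => (Finset.univ.erase 0).erase a)
  have hpairs : pairs.card = 15 * 14 := by
    rw [Finset.card_sigma, Finset.sum_congr rfl (fun a ha => by
      rw [Finset.card_erase_of_mem ha, Finset.card_erase_of_mem (Finset.mem_univ _), Finset.card_univ,
        hV16] : ∀ a ∈ (Finset.univ.erase (0 : ι → F)), ((Finset.univ.erase 0).erase a).card = 14),
      Finset.sum_const, Finset.card_erase_of_mem (Finset.mem_univ _), Finset.card_univ, hV16,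
      smul_eq_mul]
  have hG : ∀ p : pairs, ∃ g ∈ M, act g v = p.1.1 ∧ act g (k • v) = p.1.2 := by
    rintro ⟨⟨a, b⟩, hp⟩
    simp only [pairs, Finset.mem_sigma, Finset.mem_erase, Finset.mem_univ, and_true] at hp
    obtain ⟨ha, hba, hb⟩ := hp
    obtain ⟨h, hh, -, hha⟩ := move hm hH hv0 ha
    obtain ⟨g, hg, hgv, hgk⟩ := hfix (act h⁻¹ b) (act_ne_zero _ hb) (fun he => hba (by
      have := congrArg (act h) he
      rw [act_inv', hha] at this
      exact this))
    exact ⟨h * g, M.mul_mem hh hg, by rw [act_mul, hgv, hha], by rw [act_mul, hgk, act_inv']⟩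
  choose G hGM hGv hGk using hG
  -- twelve elements fixing the base pair
  obtain ⟨u0, hu0⟩ := out1 (E := E) hm v
  obtain ⟨Φ, hΦ1, hΦ0⟩ := sepE hu0
  have hΦv : Φ v = 0 := hΦ0 v (Submodule.mem_span_singleton_self v)
  have hD : ∀ lam : Eˣ, ∃ h ∈ M, (∀ x, act h x = x + (((lam : E) - 1) * Φ x) • u0) := by
    intro lam
    obtain ⟨h, hh, hhx, -⟩ := dilE hm hH hΦ1 (hnorm _ lam.ne_zero)
    exact ⟨h, hh, hhx⟩
  choose D hDM hDx using hD
  obtain ⟨S, hS⟩ : ∃ S : Eˣ × E → GL ι F, S = fun p => uni (rtMap v Φ (μ p.2)) * D p.1 := ⟨_, rfl⟩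
  have hSM : ∀ p, S p ∈ M := fun p => hS ▸ M.mul_mem (rt_lin_mem hH hΦv _) (hDM _)
  have hSv : ∀ p (c : E), act (S p) (c • v) = c • v := by
    intro p c
    rw [hS, act_mul, hDx, map_smul, hΦv, smul_zero, mul_zero, zero_smul, add_zero,
      uni_act (rtMap_sq hΦv _), rtMap_apply, map_smul, hΦv, smul_zero, map_zero, zero_smul, add_zero]
  have hSu : ∀ p : Eˣ × E, act (S p) u0 = (p.1 : E) • u0 + (p.2 * p.1) • v := by
    intro p
    rw [hS, act_mul, hDx, hΦ1, mul_one, uni_act (rtMap_sq hΦv _), rtMap_apply, map_add, map_smul,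
      hΦ1, smul_eq_mul, mul_one, μ_apply, add_sub_cancel]
    module
  let Ψ : pairs × (Eˣ × E) → M := fun x => ⟨G x.1 * S x.2, M.mul_mem (hGM _) (hSM _)⟩
  have hΨ : Function.Injective Ψ := by
    rintro ⟨p, s⟩ ⟨p', s'⟩ h
    have h1 : G p * S s = G p' * S s' := congrArg Subtype.val h
    have hp : p = p' := by
      have e1 := congrArg (fun g => act g v) h1
      have e2 := congrArg (fun g => act g (k • v)) h1
      simp only [act_mul] at e1 e2
      have hs1 : ∀ q, act (S q) v = v := fun q => by simpa using hSv q 1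
      rw [hs1, hs1, hGv, hGv] at e1
      rw [hSv, hSv, hGk, hGk] at e2
      exact Subtype.ext (Sigma.ext e1 (heq_of_eq e2))
    subst hp
    have h2 := congrArg (fun g => act g u0) (mul_left_cancel h1)
    simp only [hSu] at h2
    have h3 := congrArg Φ h2
    simp only [map_add, map_smul, hΦ1, hΦv, smul_eq_mul, mul_one, mul_zero, add_zero] at h3
    have h4 : s.1 = s'.1 := Units.ext h3
    rw [h4, add_right_inj] at h2
    have h5 := mul_right_cancel₀ s'.1.ne_zero (smul_left_injective E hv0 h2)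
    rw [Prod.mk.injEq]
    exact ⟨rfl, Prod.ext h4 h5⟩
  have hM : 2520 ≤ Nat.card M := by
    refine le_trans (le_of_eq ?_) (Nat.card_le_card_of_injective Ψ hΨ)
    rw [Nat.card_prod, Nat.card_prod, Nat.card_eq_fintype_card, Fintype.card_coe, hpairs,
      Nat.card_units, Nat.card_eq_fintype_card (α := E), hE4]
  have hGL : Nat.card (GL ι F) = 20160 := by
    obtain ⟨e⟩ : Nonempty (ι ≃ Fin 4) := ⟨Fintype.equivFinOfCardEq hι⟩
    rw [Nat.card_congr (Units.mapEquiv (Matrix.reindexAlgEquiv F F e).toMulEquiv).toEquiv,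
      Matrix.card_GL_field, hF]
    simp [Fin.prod_univ_four]
  have hindex : M.index ≤ 8 := by
    have h1 := M.card_mul_index
    rw [hGL] at h1
    nlinarith
  -- the action on cosets is faithful
  haveI : Fintype (GL ι F ⧸ M) := Fintype.ofFinite _
  obtain ⟨φ, hφ⟩ : ∃ φ, φ = MulAction.toPermHom (GL ι F) (GL ι F ⧸ M) := ⟨_, rfl⟩
  have hcore : φ.ker ≤ M := by
    rw [hφ]
    intro g hg
    have h1 := DFunLike.congr_fun (MonoidHom.mem_ker.1 hg) ((1 : GL ι F) : GL ι F ⧸ M)
    change ((g * 1 : GL ι F) : GL ι F ⧸ M) = ((1 : GL ι F) : GL ι F ⧸ M) at h1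
    rw [mul_one, QuotientGroup.eq, mul_one, inv_mem_iff] at h1
    exact h1
  have hinj : Function.Injective φ := by
    rw [← MonoidHom.ker_eq_bot_iff]
    exact normal_two hF hι _ (fun h => hne (eq_top_iff.2 (h ▸ hcore)))
  -- an element of order fifteen
  haveI : CharP F 2 := by
    obtain ⟨p, hp⟩ := CharP.exists F
    haveI := hp
    obtain ⟨n, hpp, hn⟩ := FiniteField.card F p
    rw [hF] at hn
    have : p ∣ 2 := by rw [hn]; exact dvd_pow_self p (PNat.ne_zero n)
    rwa [(Nat.prime_dvd_prime_iff_eq hpp Nat.prime_two).1 this] at hp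
  haveI : CharP E 2 := charP_of_injective_algebraMap (algebraMap F E).injective 2
  have h2 : (2 : E) = 0 := CharTwo.two_eq_zero
  have hkk : k * k = k + 1 := by
    have h3 := FiniteField.pow_card_sub_one_eq_one k hk0
    rw [hE4] at h3
    have h4 : (k - 1) * (k * k + k + 1) = 0 := by norm_num at h3; linear_combination h3
    have h5 := (mul_eq_zero.1 h4).resolve_left (sub_ne_zero.2 hk1)
    linear_combination h5 - (k + 1) * h2
  obtain ⟨Φ1, hΦ11, hΦ10⟩ : ∃ Φ1 : (ι → F) →ₗ[E] E, Φ1 v = 1 ∧ Φ1 u0 = 0 := by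
    obtain ⟨Φ1, h1, h0⟩ := sepE (outside_trans hu0 hv0)
    exact ⟨Φ1, h1, h0 _ (Submodule.mem_span_singleton_self _)⟩
  obtain ⟨T, hTM, hTv, hTu, hTl⟩ : ∃ T ∈ M, act T v = u0 ∧ act T u0 = k • v + u0 ∧
      ∀ (c : E) x, act T (c • x) = c • act T x := by
    have hdec : ∀ x, x = Φ1 x • v + Φ x • u0 := by
      intro x
      obtain ⟨t, ht⟩ := Submodule.mem_span_singleton.1 (ker_eq hm hm2 hv0
        (fun h => by rw [h] at hΦ1; simp at hΦ1) hΦv
        (x := x - Φ x • u0) (by rw [map_sub, map_smul, hΦ1, smul_eq_mul, mul_one, sub_self]))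
      have h3 := congrArg Φ1 ht
      rw [map_smul, map_sub, map_smul, hΦ11, hΦ10, smul_eq_mul, mul_one, smul_zero, sub_zero] at h3
      rw [← h3, ht, sub_add_cancel]
    let L : (ι → F) →ₗ[E] (ι → F) :=
      Φ1.smulRight u0 + Φ.smulRight (k • v + u0)
    have hLinj : Function.Injective L := by
      rw [injective_iff_map_eq_zero]
      intro x hx
      have e1 := congrArg Φ hx
      have e2 := congrArg Φ1 hx
      simp [L, hΦ1, hΦv, hΦ11, hΦ10] at e1 e2
      have e3 : Φ x = 0 := e2.resolve_right hk0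
      rw [e3, add_zero] at e1
      rw [hdec x, e1, e3, zero_smul, zero_smul, add_zero]
    obtain ⟨T, hT⟩ : ∃ T : GL ι F, ∀ x, act T x = L x := by
      let e := LinearEquiv.ofBijective (L.restrictScalars F)
        ⟨hLinj, Finite.surjective_of_injective hLinj⟩
      refine ⟨⟨LinearMap.toMatrix' e.toLinearMap, LinearMap.toMatrix' e.symm.toLinearMap, ?_, ?_⟩,
        fun x => LinearMap.toMatrix'_mulVec _ _⟩
      · rw [← LinearMap.toMatrix'_comp, e.comp_symm, LinearMap.toMatrix'_id]
      · rw [← LinearMap.toMatrix'_comp, e.symm_comp, LinearMap.toMatrix'_id]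
    have hl : ∀ (c : E) x, act T (c • x) = c • act T x := fun c x => by rw [hT, hT, map_smul]
    exact ⟨T, hH T hl (det_two hF T), by rw [hT]; simp [L, hΦv, hΦ11],
      by rw [hT]; simp [L, hΦ1, hΦ10], hl⟩
  have hadd : ∀ x y, act T (x + y) = act T x + act T y := fun x y => Matrix.mulVec_add _ _ _
  have hpow : ∀ n : ℕ, ∀ x, act (T ^ (n + 1)) x = act T (act (T ^ n) x) := fun n x => by
    rw [pow_succ', act_mul]
  have t0 : act (T ^ 0) v = v := by rw [pow_zero, act_one]
  have t1 : act (T ^ 1) v = u0 := by rw [hpow, t0, hTv]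
  have t2 : act (T ^ 2) v = k • v + u0 := by rw [hpow, t1, hTu]
  have t3 : act (T ^ 3) v = k • v + (k + 1) • u0 := by
    rw [hpow, t2, hadd, hTl, hTv, hTu]; module
  have t4 : act (T ^ 4) v = v + u0 := by
    rw [hpow, t3, hadd, hTl, hTl, hTv, hTu]
    match_scalars
    all_goals first
      | linear_combination hkk + k * h2
      | linear_combination k * h2
  have t5 : act (T ^ 5) v = k • v := by
    rw [hpow, t4, hadd, hTv, hTu]
    match_scalars
    all_goals first
      | ring1
      | linear_combination h2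
  have hord : orderOf T = 15 := by
    have hlin : ∀ (n : ℕ) (c : E) x, act (T ^ n) (c • x) = c • act (T ^ n) x := by
      intro n
      induction n with
      | zero => intro c x; rw [pow_zero, act_one, act_one]
      | succ n ih => intro c x; rw [hpow, hpow, ih, hTl]
    have h15 : T ^ 15 = 1 := by
      refine ext_act fun x => ?_
      have hv15 : act (T ^ 15) v = v := by
        rw [show 15 = 5 + (5 + 5) by rfl, pow_add, act_mul, pow_add, act_mul, t5, hlin, t5, hlin,
          hlin, t5, smul_smul, smul_smul]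
        have h3 : k * k * k = 1 := by linear_combination (k + 1) * hkk + k * h2
        rw [h3, one_smul]
      have hu15 : act (T ^ 15) u0 = u0 := by
        rw [← hTv, ← act_mul, ← pow_succ, pow_succ', act_mul, hv15]
      obtain ⟨a, ha⟩ := Submodule.mem_span_singleton.1 (ker_eq hm hm2 hv0
        (fun h => by rw [h] at hΦ1; simp at hΦ1) hΦv
        (x := x - Φ x • u0) (by rw [map_sub, map_smul, hΦ1, smul_eq_mul, mul_one, sub_self]))
      rw [act_one, eq_add_of_sub_eq ha.symm, show act (T ^ 15) (a • v + Φ x • u0) =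
        act (T ^ 15) (a • v) + act (T ^ 15) (Φ x • u0) from Matrix.mulVec_add _ _ _, hlin, hlin,
        hv15, hu15]
    have hd := orderOf_dvd_of_pow_eq_one h15
    have h5 : ¬ orderOf T ∣ 5 := by
      intro h
      rw [orderOf_dvd_iff_pow_eq_one] at h
      rw [h, act_one] at t5
      exact hk1 (smul_left_injective E hv0 (by simp only [← t5, one_smul]))
    have h3 : ¬ orderOf T ∣ 3 := by
      intro h
      rw [orderOf_dvd_iff_pow_eq_one] at h
      rw [h, act_one] at t3
      have e := congrArg Φ t3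
      simp [map_add, map_smul, hΦv, hΦ1] at e
      exact hk1 (by linear_combination -e - h2)
    have hle := Nat.le_of_dvd (by norm_num) hd
    interval_cases h : orderOf T <;> first | rfl | omega
  have hσ15 : orderOf (φ T) = 15 := by rw [orderOf_injective φ hinj, hord]
  have hfixpt : φ T ((1 : GL ι F) : GL ι F ⧸ M) = ((1 : GL ι F) : GL ι F ⧸ M) := by
    rw [hφ]
    change ((T * 1 : GL ι F) : GL ι F ⧸ M) = _
    rw [mul_one, QuotientGroup.eq, mul_one, inv_mem_iff]
    exact hTM
  have hsupp : (φ T).support.card ≤ 7 := by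
    have h1 : (φ T).support ⊆ Finset.univ.erase ((1 : GL ι F) : GL ι F ⧸ M) := fun x hx =>
      Finset.mem_erase.2 ⟨fun h => (Equiv.Perm.mem_support.1 hx) (h ▸ hfixpt), Finset.mem_univ _⟩
    have h2 := Finset.card_le_card h1
    rw [Finset.card_erase_of_mem (Finset.mem_univ _), Finset.card_univ, ← Nat.card_eq_fintype_card] at h2
    have h3 : Nat.card (GL ι F ⧸ M) = M.index := rfl
    omega
  have h53 : ∀ p, p.Prime → p ∣ 15 → ∃ n ∈ (φ T).cycleType, p ∣ n := by
    intro p hp hp15
    by_contra hc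
    push Not at hc
    have hcop : ∀ s : Multiset ℕ, (∀ n ∈ s, ¬ p ∣ n) → ¬ p ∣ s.lcm := by
      intro s
      induction s using Multiset.induction_on with
      | empty => intro _ h; rw [Multiset.lcm_zero] at h; exact hp.not_dvd_one h
      | cons a s ih =>
        intro hs h
        rw [Multiset.lcm_cons] at h
        have := h.trans (Nat.lcm_dvd_mul a s.lcm)
        rcases hp.dvd_mul.1 this with h' | h'
        · exact hs a (Multiset.mem_cons_self a s) h'
        · exact ih (fun n hn => hs n (Multiset.mem_cons_of_mem hn)) h'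
    apply hcop _ hc
    rw [Equiv.Perm.lcm_cycleType, hσ15]
    exact hp15
  obtain ⟨a, ha, ha5⟩ := h53 5 (by norm_num) (by norm_num)
  obtain ⟨b, hb, hb3⟩ := h53 3 (by norm_num) (by norm_num)
  have hapos := Equiv.Perm.two_le_of_mem_cycleType ha
  have hbpos := Equiv.Perm.two_le_of_mem_cycleType hb
  obtain ⟨t, ht⟩ := Multiset.exists_cons_of_mem ha
  have hsum := Equiv.Perm.sum_cycleType (φ T)
  rw [ht, Multiset.sum_cons] at hsum
  have ha' : 5 ≤ a := Nat.le_of_dvd (by omega) ha5
  rw [ht, Multiset.mem_cons] at hb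
  rcases hb with rfl | hb
  · have : 15 ∣ b := (show Nat.Coprime 3 5 by norm_num).mul_dvd_of_dvd_of_dvd hb3 ha5
    have := Nat.le_of_dvd (by omega) this
    omega
  · have := Multiset.le_sum_of_mem hb
    have hb' : 3 ≤ b := Nat.le_of_dvd (by omega) hb3
    omega

end CfsgLib.Lie.ExtField
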