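import Cfsg.Prelude.Def_GeometricClasses
import Cfsg.Agent.Lie.SLn

/-!
The similarities of a non-degenerate alternating or hermitian form form a maximal subgroup of the
special linear group: transvection argument.
-/

set_option autoImplicit false
set_option linter.unusedSimpArgs false
set_option linter.unusedSectionVars false

namespace CfsgLib.Lie.FormMaxSL

open Matrix

variable {F : Type*} [Field F] {ι : Type} [Fintype ι] [DecidableEq ι]

/-- the transvection `x ↦ x + φ(x) w`, or `1` when `φ w ≠ 0` -/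
noncomputable def tv (w : ι → F) (φ : (ι → F) →ₗ[F] F) : GL ι F :=
  haveI := Classical.dec (φ w = 0)
  if h : φ w = 0 then
    { val := LinearMap.toMatrix' (LinearMap.id + φ.smulRight w)
      inv := LinearMap.toMatrix' (LinearMap.id + (-φ).smulRight w)
      val_inv := by
        rw [← LinearMap.toMatrix'_comp, ← LinearMap.toMatrix'_id]
        congr 1
        refine LinearMap.ext fun x => ?_
        simp [h]
      inv_val := by
        rw [← LinearMap.toMatrix'_comp, ← LinearMap.toMatrix'_id]
        congr 1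
        refine LinearMap.ext fun x => ?_
        simp [h] }
  else 1

theorem tv_mulVec {w : ι → F} {φ : (ι → F) →ₗ[F] F} (h : φ w = 0) (x : ι → F) :
    (tv w φ : Matrix ι ι F) *ᵥ x = x + φ x • w := by
  rw [tv, dif_pos h]
  change LinearMap.toMatrix' (LinearMap.id + φ.smulRight w) *ᵥ x = _
  rw [LinearMap.toMatrix'_mulVec]
  simp

theorem gl_ext {g h : GL ι F}
    (H : ∀ x : ι → F, (g : Matrix ι ι F) *ᵥ x = (h : Matrix ι ι F) *ᵥ x) : g = h :=
  Units.ext (Matrix.toLin'.injective (LinearMap.ext fun x => by simpa [Matrix.toLin'_apply] using H x))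

theorem inv_mulVec_mulVec (g : GL ι F) (x : ι → F) :
    ((g⁻¹ : GL ι F) : Matrix ι ι F) *ᵥ ((g : Matrix ι ι F) *ᵥ x) = x := by
  rw [Matrix.mulVec_mulVec, ← Units.val_mul, inv_mul_cancel, Units.val_one, Matrix.one_mulVec]

theorem mulVec_inv_mulVec (g : GL ι F) (x : ι → F) :
    (g : Matrix ι ι F) *ᵥ (((g⁻¹ : GL ι F) : Matrix ι ι F) *ᵥ x) = x := by
  rw [Matrix.mulVec_mulVec, ← Units.val_mul, mul_inv_cancel, Units.val_one, Matrix.one_mulVec]

theorem tv_mul {w : ι → F} {φ ψ : (ι → F) →ₗ[F] F} (hφ : φ w = 0) (hψ : ψ w = 0) :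
    tv w φ * tv w ψ = tv w (φ + ψ) := by
  refine gl_ext fun x => ?_
  rw [Units.val_mul, ← Matrix.mulVec_mulVec, tv_mulVec hψ, tv_mulVec hφ,
    tv_mulVec (by simp [hφ, hψ])]
  simp [hψ, hφ, add_smul]
  abel

theorem tv_mul_center {w w' : ι → F} {φ : (ι → F) →ₗ[F] F} (h : φ w = 0) (h' : φ w' = 0) :
    tv w φ * tv w' φ = tv (w + w') φ := by
  refine gl_ext fun x => ?_
  rw [Units.val_mul, ← Matrix.mulVec_mulVec, tv_mulVec h', tv_mulVec h,
    tv_mulVec (by simp [h, h'])]
  simp [h', h, smul_add]
  abel

theorem tv_zero (w : ι → F) : tv w (0 : (ι → F) →ₗ[F] F) = 1 :=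
  gl_ext fun x => by rw [tv_mulVec (by simp)]; simp

theorem tv_zero_vec (φ : (ι → F) →ₗ[F] F) : tv (0 : ι → F) φ = 1 :=
  gl_ext fun x => by rw [tv_mulVec (map_zero φ)]; simp

theorem tv_inv {w : ι → F} {φ : (ι → F) →ₗ[F] F} (h : φ w = 0) : (tv w φ)⁻¹ = tv w (-φ) :=
  inv_eq_of_mul_eq_one_right (by rw [tv_mul h (by simp [h]), add_neg_cancel, tv_zero])

theorem tv_smul {w : ι → F} {φ : (ι → F) →ₗ[F] F} (h : φ w = 0) (a : F) :
    tv (a • w) φ = tv w (a • φ) := by
  refine gl_ext fun x => ?_
  rw [tv_mulVec (by simp [h]), tv_mulVec (by simp [h])]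
  simp [smul_smul, mul_comm]

theorem tv_neg {w : ι → F} {φ : (ι → F) →ₗ[F] F} (h : φ w = 0) :
    tv w (-φ) = tv ((-1 : F) • w) φ := by
  rw [tv_smul h]
  congr 1
  exact LinearMap.ext fun x => by simp

theorem neg_one_smul_map (φ : (ι → F) →ₗ[F] F) : (-1 : F) • φ = -φ :=
  LinearMap.ext fun x => by simp

theorem conj_tv (g : GL ι F) {w : ι → F} {φ : (ι → F) →ₗ[F] F} (h : φ w = 0) :
    g * tv w φ * g⁻¹ = tv ((g : Matrix ι ι F) *ᵥ w)
      (φ ∘ₗ Matrix.toLin' ((g⁻¹ : GL ι F) : Matrix ι ι F)) := by
  refine gl_ext fun x => ?_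
  rw [Units.val_mul, Units.val_mul, ← Matrix.mulVec_mulVec, ← Matrix.mulVec_mulVec, tv_mulVec h,
    tv_mulVec (by rw [LinearMap.comp_apply, Matrix.toLin'_apply, inv_mulVec_mulVec, h]),
    Matrix.mulVec_add, Matrix.mulVec_smul, mulVec_inv_mulVec, LinearMap.comp_apply,
    Matrix.toLin'_apply]

theorem tv_det (w : ι → F) (φ : (ι → F) →ₗ[F] F) : ((tv w φ : GL ι F) : Matrix ι ι F).det = 1 := by
  by_cases h : φ w = 0
  · have e : ((tv w φ : GL ι F) : Matrix ι ι F) =
        1 + Matrix.replicateCol Unit w * Matrix.replicateRow Unit (fun j => φ (Pi.single j 1)) := by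
      rw [← Matrix.vecMulVec_eq Unit]
      refine Matrix.toLin'.injective (LinearMap.ext fun x => ?_)
      rw [Matrix.toLin'_apply, Matrix.toLin'_apply, tv_mulVec h, Matrix.add_mulVec, Matrix.one_mulVec,
        Matrix.vecMulVec_mulVec, op_smul_eq_smul]
      congr 2
      conv_lhs => rw [pi_eq_sum_univ' x]
      simp [dotProduct, map_sum, map_smul, mul_comm]
    rw [e, Matrix.det_one_add_replicateCol_mul_replicateRow]
    have : (fun j => φ (Pi.single j 1)) ⬝ᵥ w = φ w := by
      conv_rhs => rw [pi_eq_sum_univ' w]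
      simp [dotProduct, map_sum, map_smul, mul_comm]
    rw [this, h, add_zero]
  · rw [tv, dif_neg h]; simp

theorem tv_mem_SL (w : ι → F) (φ : (ι → F) →ₗ[F] F) : tv w φ ∈ Cfsg.Geo.specialLinear ι F := by
  rw [Cfsg.Geo.specialLinear, MonoidHom.mem_ker]
  exact Units.ext (tv_det w φ)

/-- A subgroup containing all transvections contains the special linear group. -/
theorem SL_le_of_tv_mem (M : Subgroup (GL ι F))
    (h : ∀ (w : ι → F) (φ : (ι → F) →ₗ[F] F), φ w = 0 → tv w φ ∈ M) :
    Cfsg.Geo.specialLinear ι F ≤ M := by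
  have htop : M.comap (Matrix.SpecialLinearGroup.toGL : SpecialLinearGroup ι F →* GL ι F) = ⊤ := by
    refine SLn.eq_top_of_transvection_mem _ fun i j hij c => ?_
    rw [Subgroup.mem_comap]
    have h0 : (c • (LinearMap.proj j : (ι → F) →ₗ[F] F)) (Pi.single i 1) = 0 := by
      simp [Pi.single_eq_of_ne hij.symm]
    convert h _ _ h0 using 1
    refine gl_ext fun x => ?_
    rw [tv_mulVec h0]
    change ((SpecialLinearGroup.transvection hij c : SpecialLinearGroup ι F) : Matrix ι ι F) *ᵥ x = _
    rw [SLn.tv_coe hij c, SLn.transv_mulVec]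
    simp
  intro g hg
  have hdet : (g : Matrix ι ι F).det = 1 := by
    rw [Cfsg.Geo.specialLinear, MonoidHom.mem_ker] at hg
    exact congrArg Units.val hg
  obtain ⟨gs, hgs⟩ : ∃ gs : SpecialLinearGroup ι F, gs = ⟨(g : Matrix ι ι F), hdet⟩ := ⟨_, rfl⟩
  have hmem : gs ∈
      M.comap (Matrix.SpecialLinearGroup.toGL : SpecialLinearGroup ι F →* GL ι F) :=
    htop ▸ Subgroup.mem_top _
  rw [Subgroup.mem_comap] at hmem
  convert hmem using 1
  exact Units.ext (by rw [hgs]; rfl)

theorem finrank_pair_le (a b : ι → F) :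
    Module.finrank F (Submodule.span F ({a, b} : Set (ι → F))) ≤ 2 := by
  classical
  have h := finrank_span_finset_le_card ({a, b} : Finset (ι → F)) (R := F)
  have h2 : ({a, b} : Finset (ι → F)).card ≤ 2 := Finset.card_le_two
  rw [Finset.coe_pair] at h
  exact le_trans h h2

/-- Hypotheses on a reflexive sesquilinear form, with a supply of singular vectors. -/
structure Good (σ : F →+* F) (ε : F) (f : (ι → F) → (ι → F) → F) : Prop where
  hε : ε * ε = 1
  σε : σ ε = ε
  invol : ∀ a, σ (σ a) = a
  add_left : ∀ x y v, f (x + y) v = f x v + f y v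
  smul_left : ∀ (c : F) x v, f (c • x) v = c * f x v
  herm : ∀ v w, f v w = ε * σ (f w v)
  nondeg : ∀ v, v ≠ 0 → ∃ x, f x v ≠ 0
  skewScalar : ∃ c : F, c ≠ 0 ∧ c + ε * σ c = 0
  singular_span : ∀ S : Submodule F (ι → F), Fintype.card ι ≤ Module.finrank F S + 2 →
    Submodule.span F {x | x ∈ S ∧ f x x = 0} = S
  dim : 5 ≤ Fintype.card ι

variable {σ : F →+* F} {ε : F} {f : (ι → F) → (ι → F) → F}

namespace Good

theorem ε_ne (G : Good σ ε f) : ε ≠ 0 := fun h => by have := G.hε; rw [h] at this; simp at this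

theorem add_right (G : Good σ ε f) (v x y : ι → F) : f v (x + y) = f v x + f v y := by
  rw [G.herm v, G.add_left, map_add, mul_add, ← G.herm, ← G.herm]

theorem smul_right (G : Good σ ε f) (c : F) (v x : ι → F) : f v (c • x) = σ c * f v x := by
  rw [G.herm v, G.smul_left, map_mul, G.herm v x]; ring

theorem zero_left (G : Good σ ε f) (v : ι → F) : f 0 v = 0 := by
  have := G.smul_left 0 0 v; simpa using this

theorem neg_left (G : Good σ ε f) (x v : ι → F) : f (-x) v = - f x v := by
  rw [← neg_one_smul F x, G.smul_left]; ring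

theorem zero_right (G : Good σ ε f) (v : ι → F) : f v 0 = 0 := by
  rw [G.herm, G.zero_left, map_zero, mul_zero]

theorem orth_symm (G : Good σ ε f) {v w : ι → F} (h : f v w = 0) : f w v = 0 := by
  rw [G.herm, h, map_zero, mul_zero]

/-- the functional `x ↦ f x z` -/
def rho (G : Good σ ε f) (z : ι → F) : (ι → F) →ₗ[F] F where
  toFun x := f x z
  map_add' x y := G.add_left x y z
  map_smul' c x := G.smul_left c x z

@[simp] theorem rho_apply (G : Good σ ε f) (z x : ι → F) : G.rho z x = f x z := rfl

theorem rho_smul (G : Good σ ε f) (a : F) (z : ι → F) : G.rho (a • z) = σ a • G.rho z := by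
  refine LinearMap.ext fun x => ?_
  simp [G.smul_right]

theorem rho_add (G : Good σ ε f) (y z : ι → F) : G.rho (y + z) = G.rho y + G.rho z := by
  refine LinearMap.ext fun x => ?_
  simp [G.add_right]

theorem eq_of_rho (G : Good σ ε f) {y z : ι → F} (h : ∀ x, f x y = f x z) : y = z := by
  by_contra hne
  obtain ⟨x, hx⟩ := G.nondeg (y + (-1 : F) • z) (by
    intro h0; apply hne
    rw [neg_one_smul, ← sub_eq_add_neg, sub_eq_zero] at h0; exact h0)
  apply hx
  rw [G.add_right, G.smul_right, map_neg, map_one, h x]; ring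

/-- every functional is represented -/
theorem exists_rho (G : Good σ ε f) (ψ : (ι → F) →ₗ[F] F) : ∃ z, G.rho z = ψ := by
  -- the linear map `v ↦ f v ·` composed with coordinates is injective, hence surjective
  let L : (ι → F) →ₗ[F] (ι → F) :=
    { toFun := fun v i => f v (Pi.single i 1)
      map_add' := fun v w => funext fun i => G.add_left v w _
      map_smul' := fun c v => funext fun i => G.smul_left c v _ }
  have hinj : Function.Injective L := by
    rw [← LinearMap.ker_eq_bot, Submodule.eq_bot_iff]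
    intro v hv
    by_contra hne
    obtain ⟨x, hx⟩ := G.nondeg v hne
    have hv' : ∀ i, f v (Pi.single i 1) = 0 := fun i => congrFun (LinearMap.mem_ker.1 hv) i
    have : G.rho v = 0 := by
      refine LinearMap.pi_ext fun i a => ?_
      have e : (Pi.single i a : ι → F) = a • Pi.single i 1 := by
        rw [← Pi.single_smul, smul_eq_mul, mul_one]
      rw [rho_apply, e, G.smul_left, G.orth_symm (hv' i), mul_zero, LinearMap.zero_apply]
    exact hx (LinearMap.congr_fun this x)
  obtain ⟨z, hz⟩ := (LinearMap.injective_iff_surjective.1 hinj)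
    (fun i => σ (ε * ψ (Pi.single i 1)))
  refine ⟨z, LinearMap.pi_ext fun i a => ?_⟩
  have e : (Pi.single i a : ι → F) = a • Pi.single i 1 := by
    rw [← Pi.single_smul, smul_eq_mul, mul_one]
  have hzi : f z (Pi.single i 1) = σ (ε * ψ (Pi.single i 1)) := congrFun hz i
  rw [rho_apply, e, G.smul_left, map_smul, smul_eq_mul, G.herm (Pi.single i 1), hzi, G.invol,
    ← mul_assoc ε, G.hε, one_mul]

/-- separation: a vector outside `S` is not orthogonal to `S^⊥` -/
theorem sep (G : Good σ ε f) {S : Submodule F (ι → F)} {z : ι → F} (hz : z ∉ S) :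
    ∃ y, (∀ s ∈ S, f y s = 0 ∧ f s y = 0) ∧ f y z ≠ 0 ∧ f z y ≠ 0 := by
  obtain ⟨ψ, hψz, hψS⟩ := Submodule.exists_dual_map_eq_bot_of_notMem hz inferInstance
  obtain ⟨y, hy⟩ := G.exists_rho ψ
  have hy' : ∀ x, f x y = ψ x := fun x => by rw [← hy, rho_apply]
  refine ⟨y, fun s hs => ?_, fun h => hψz ?_, fun h => hψz ?_⟩
  · have h0 : ψ s = 0 := by
      have : ψ s ∈ S.map ψ := Submodule.mem_map_of_mem hs
      rw [hψS] at this
      simpa using this
    exact ⟨G.orth_symm (by rw [hy', h0]), by rw [hy', h0]⟩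
  · rw [← hy']; exact G.orth_symm h
  · rw [← hy']; exact h

/-- the common orthogonal space of two vectors -/
def orth2 (G : Good σ ε f) (a b : ι → F) : Submodule F (ι → F) :=
  LinearMap.ker (G.rho a) ⊓ LinearMap.ker (G.rho b)

theorem mem_orth2 (G : Good σ ε f) {a b x : ι → F} :
    x ∈ G.orth2 a b ↔ f x a = 0 ∧ f x b = 0 := by
  simp [orth2]

theorem card_le_orth2 (G : Good σ ε f) (a b : ι → F) :
    Fintype.card ι ≤ Module.finrank F (G.orth2 a b) + 2 := by
  let L : (ι → F) →ₗ[F] F × F := (G.rho a).prod (G.rho b)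
  have hk : LinearMap.ker L = G.orth2 a b := LinearMap.ker_prod _ _
  have := L.finrank_range_add_finrank_ker
  have h1 := Submodule.finrank_le (LinearMap.range L)
  rw [Module.finrank_prod, Module.finrank_self] at h1
  rw [hk, Module.finrank_fintype_fun_eq_card] at this
  omega

/-- a functional not vanishing on a large subspace is nonzero at some singular vector of it -/
theorem exists_singular (G : Good σ ε f) {S : Submodule F (ι → F)}
    (hS : Fintype.card ι ≤ Module.finrank F S + 2) (ψ : (ι → F) →ₗ[F] F)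
    {x : ι → F} (hx : x ∈ S) (hψ : ψ x ≠ 0) : ∃ u ∈ S, f u u = 0 ∧ ψ u ≠ 0 := by
  by_contra hcon
  push Not at hcon
  apply hψ
  have hle : Submodule.span F {x | x ∈ S ∧ f x x = 0} ≤ LinearMap.ker ψ :=
    Submodule.span_le.2 fun u hu => LinearMap.mem_ker.2 (hcon u hu.1 hu.2)
  rw [G.singular_span S hS] at hle
  exact LinearMap.mem_ker.1 (hle hx)

/-- two singular vectors and a third on their line -/
theorem line (G : Good σ ε f) {v v' : ι → F} (hv : f v v = 0) (hv' : f v' v' = 0) :
    ∃ a : F, a ≠ 0 ∧ f (v + a • v') (v + a • v') = 0 := by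
  by_cases h : f v v' = 0
  · exact ⟨1, one_ne_zero, by
      rw [one_smul, G.add_left, G.add_right, G.add_right, hv, hv', h, G.orth_symm h]; ring⟩
  obtain ⟨c, hc0, hc⟩ := G.skewScalar
  refine ⟨σ (c / f v v'), ?_, ?_⟩
  · intro h0
    have := congrArg σ h0
    rw [G.invol, map_zero] at this
    exact (div_ne_zero hc0 h) this
  · rw [G.add_left, G.smul_left, G.add_right, G.add_right, G.smul_right, G.smul_right, hv, hv',
      G.invol, G.herm v' v, map_div₀]
    have hs : σ (f v v') ≠ 0 := by simpa using h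
    field_simp
    linear_combination (f v v' * σ (f v v')) * hc

end Good

section

variable (G : Good σ ε f)
include G

theorem isometry_tv {u : ι → F} (hu : f u u = 0) {c : F} (hc : c + ε * σ c = 0) (x y : ι → F) :
    f ((tv u (c • G.rho u) : Matrix ι ι F) *ᵥ x) ((tv u (c • G.rho u) : Matrix ι ι F) *ᵥ y) =
      f x y := by
  have h0 : (c • G.rho u) u = 0 := by simp [hu]
  rw [tv_mulVec h0, tv_mulVec h0]
  simp only [LinearMap.smul_apply, Good.rho_apply, smul_eq_mul, G.add_left, G.smul_left,
    G.add_right, G.smul_right, map_mul, hu]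
  rw [G.herm y u, map_mul, G.σε, G.invol]
  linear_combination (f x u * f u y) * hc

variable (H : Subgroup (GL ι F))
  (hH : ∀ g : GL ι F, g ∈ H ↔ (∃ c : Fˣ, ∀ u v, f ((g : Matrix ι ι F) *ᵥ u)
    ((g : Matrix ι ι F) *ᵥ v) = (c : F) * f u v) ∧ g ∈ Cfsg.Geo.specialLinear ι F)
include hH

theorem tv_mem_H {u : ι → F} (hu : f u u = 0) {c : F} (hc : c + ε * σ c = 0) :
    tv u (c • G.rho u) ∈ H :=
  (hH _).2 ⟨⟨1, fun x y => by rw [Units.val_one, one_mul]; exact isometry_tv G hu hc x y⟩,
    tv_mem_SL _ _⟩

theorem maximal : Cfsg.Geo.IsMaximalIn (Cfsg.Geo.specialLinear ι F) H := by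
  obtain ⟨c, hc0, hc⟩ := G.skewScalar
  have hdim := G.dim
  have hσ0 : ∀ a : F, a ≠ 0 → σ a ≠ 0 := fun a ha => by simpa using ha
  -- all singular vectors
  have hspan : Submodule.span F {x : ι → F | x ∈ (⊤ : Submodule F (ι → F)) ∧ f x x = 0} = ⊤ :=
    G.singular_span ⊤ (by simp [finrank_top])
  -- a nonzero singular vector exists
  obtain ⟨w0, hw0, hw00⟩ : ∃ w : ι → F, f w w = 0 ∧ w ≠ 0 := by
    obtain ⟨i⟩ : Nonempty ι := Fintype.card_pos_iff.1 (by omega)
    obtain ⟨u, -, hu, hu0⟩ := G.exists_singular (S := ⊤) (by simp [finrank_top])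
      (LinearMap.proj i) (x := Pi.single i 1) Submodule.mem_top (by simp)
    exact ⟨u, hu, fun h => hu0 (by simp [h])⟩
  have hperpz : ∀ w : ι → F, ∃ z, f z w = 0 ∧ z ∉ Submodule.span F {w} := by
    intro w
    have hlt : Submodule.span F {w} < G.orth2 w w ⊔ Submodule.span F {w} := by
      refine lt_of_le_of_ne le_sup_right fun h => ?_
      have h1 := G.card_le_orth2 w w
      have h2 : Module.finrank F (G.orth2 w w) ≤ Module.finrank F (Submodule.span F {w}) :=
        Submodule.finrank_mono (le_sup_left.trans h.ge)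
      have h3 : Module.finrank F (Submodule.span F {w}) ≤ 1 := (finrank_span_le_card _).trans (by simp)
      omega
    by_contra hcon
    push Not at hcon
    exact not_le_of_gt hlt (sup_le (fun z hz => hcon z (G.mem_orth2.1 hz).1) le_rfl)
  refine ⟨lt_of_le_of_ne (fun g hg => ((hH g).1 hg).2) ?_, ?_⟩
  · -- strictness
    intro heq
    obtain ⟨z, hzw, hz⟩ := hperpz w0
    have h0 : (G.rho z) w0 = 0 := G.orth_symm hzw
    obtain ⟨⟨l, hl⟩, -⟩ := (hH _).1 (heq ▸ tv_mem_SL w0 (G.rho z) : tv w0 (G.rho z) ∈ H)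
    obtain ⟨x, hx, hxz, -⟩ := G.sep hz
    have hxw : f x w0 = 0 := (hx w0 (Submodule.mem_span_singleton_self w0)).1
    obtain ⟨y, hy⟩ := G.nondeg w0 hw00
    have h1 := hl x z
    rw [tv_mulVec h0, tv_mulVec h0] at h1
    simp only [Good.rho_apply, G.add_left, G.smul_left, G.add_right, G.smul_right,
      G.orth_symm hzw, hxw, hw0, mul_zero, add_zero] at h1
    have hl1 : (l : F) = 1 := by
      have h9 : ((l : F) - 1) * f x z = 0 := by linear_combination -h1
      exact sub_eq_zero.1 ((mul_eq_zero.1 h9).resolve_right hxz)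
    have h2 := hl x y
    rw [tv_mulVec h0, tv_mulVec h0, hl1, one_mul] at h2
    simp only [Good.rho_apply, G.add_left, G.smul_left, G.add_right, G.smul_right, hxw, hw0,
      mul_zero, add_zero] at h2
    have h3 : f x z * f w0 y = 0 := by linear_combination h2
    exact (mul_ne_zero hxz (fun h => hy (G.orth_symm h))) h3
  intro M hHM hMSL
  by_cases hMH : M ≤ H
  · exact Or.inl (le_antisymm hMH hHM)
  right
  refine le_antisymm hMSL (SL_le_of_tv_mem M ?_)
  obtain ⟨g, hgM, hgH⟩ := SetLike.not_le_iff_exists.1 hMH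
  -- Step 0: a mixed transvection
  obtain ⟨w, hw, hw1, z, hzw, hzM, hz⟩ : ∃ w, f w w = 0 ∧ w ≠ 0 ∧ ∃ z, f z w = 0 ∧
      tv w (G.rho z) ∈ M ∧ z ∉ Submodule.span F {w} := by
    by_contra hcon
    push Not at hcon
    -- each singular vector is an eigenvector
    have heig : ∀ v, f v v = 0 → v ≠ 0 → ∃ l : F, ∀ u, f u v =
        l * f ((g : Matrix ι ι F) *ᵥ u) ((g : Matrix ι ι F) *ᵥ v) := by
      intro v hv hv0
      have h0 : (c • G.rho v) v = 0 := by simp [hv]
      have hconj := M.mul_mem (M.mul_mem hgM (hHM (tv_mem_H G H hH hv hc))) (M.inv_mem hgM)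
      rw [conj_tv g h0] at hconj
      obtain ⟨z, hz⟩ := G.exists_rho
        ((c • G.rho v) ∘ₗ Matrix.toLin' ((g⁻¹ : GL ι F) : Matrix ι ι F))
      rw [← hz] at hconj
      have hgv0 : (g : Matrix ι ι F) *ᵥ v ≠ 0 := fun h => hv0 (by
        rw [← inv_mulVec_mulVec g v, h, Matrix.mulVec_zero])
      have hzval : ∀ u, f ((g : Matrix ι ι F) *ᵥ u) z = c * f u v := by
        intro u
        have := LinearMap.congr_fun hz ((g : Matrix ι ι F) *ᵥ u)
        rw [LinearMap.comp_apply, Matrix.toLin'_apply, inv_mulVec_mulVec] at this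
        simpa using this
      have hwz : f z ((g : Matrix ι ι F) *ᵥ v) = 0 :=
        G.orth_symm (by rw [hzval, hv, mul_zero])
      by_cases hsing : f ((g : Matrix ι ι F) *ᵥ v) ((g : Matrix ι ι F) *ᵥ v) = 0
      · obtain ⟨a, ha⟩ := Submodule.mem_span_singleton.1 (hcon _ hsing hgv0 z hwz hconj)
        refine ⟨σ a / c, fun u => ?_⟩
        have := hzval u
        rw [← ha, G.smul_right] at this
        field_simp
        linear_combination -this
      · -- the image of `v` is not singular: move to a singular vector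
        exfalso
        set w := (g : Matrix ι ι F) *ᵥ v with hwdef
        -- `z` is nonzero
        have hz0 : z ≠ 0 := by
          intro h
          obtain ⟨u, hu⟩ := G.nondeg v hv0
          have := hzval u
          rw [h, G.zero_right] at this
          exact mul_ne_zero hc0 hu this.symm
        -- singular `p` orthogonal to neither `w` nor `z`
        obtain ⟨p, hp, hpw, hpz⟩ : ∃ p, f p p = 0 ∧ f p w ≠ 0 ∧ f p z = 0 := by
          have hS : Fintype.card ι ≤ Module.finrank F (G.orth2 z z) + 2 := G.card_le_orth2 z z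
          have hw' : w ∉ Submodule.span F {z} := by
            intro h
            obtain ⟨a, ha⟩ := Submodule.mem_span_singleton.1 h
            apply hsing
            conv_lhs => rw [← ha]
            rw [G.smul_left, ha, hwz, mul_zero]
          obtain ⟨y, hy, hyw, -⟩ := G.sep hw'
          obtain ⟨p, hp, hpp, hpw⟩ := G.exists_singular hS (G.rho w) (x := y)
            (G.mem_orth2.2 ⟨(hy z (Submodule.mem_span_singleton_self z)).1,
              (hy z (Submodule.mem_span_singleton_self z)).1⟩) hyw
          exact ⟨p, hpp, hpw, (G.mem_orth2.1 hp).1⟩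
        have hρw : (G.rho z) w = 0 := G.orth_symm hwz
        have hcp0 : (c • G.rho p) p = 0 := by simp [hp]
        have hh := tv_mem_H G H hH hp hc
        have hwz' := M.mul_mem (M.mul_mem (hHM hh) hconj) (M.inv_mem (hHM hh))
        rw [conj_tv _ hρw] at hwz'
        have hφ : (G.rho z) ∘ₗ Matrix.toLin'
            (((tv p (c • G.rho p))⁻¹ : GL ι F) : Matrix ι ι F) = G.rho z := by
          refine LinearMap.ext fun x => ?_
          rw [LinearMap.comp_apply, Matrix.toLin'_apply, tv_inv hcp0,
            tv_mulVec (by simp [hp])]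
          simp [G.add_left, G.smul_left, G.neg_left, hpz]
        rw [hφ, tv_mulVec hcp0] at hwz'
        have hzero : (G.rho z) (w + (c • G.rho p) w • p) = 0 := by
          simp [G.add_left, G.smul_left, hpz, G.orth_symm hwz]
        have hprod := M.mul_mem (M.inv_mem hconj) hwz'
        rw [tv_inv hρw] at hprod
        have e1 : tv w (-G.rho z) = tv ((-1 : F) • w) (G.rho z) := by
          exact tv_neg hρw
        rw [e1, tv_mul_center (by simp [G.neg_left, G.orth_symm hwz]) hzero] at hprod
        have e2 : (-1 : F) • w + (w + (c • G.rho p) w • p) = ((c • G.rho p) w) • p := by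
          rw [neg_one_smul]; abel
        rw [e2, tv_smul (by simpa using hpz)] at hprod
        obtain ⟨a, ha⟩ : ∃ a, a = (c • G.rho p) w := ⟨_, rfl⟩
        rw [← ha] at hprod
        have ha0 : a ≠ 0 := by
          rw [ha]; simp only [LinearMap.smul_apply, Good.rho_apply, smul_eq_mul]
          exact mul_ne_zero hc0 (fun h => hpw (G.orth_symm h))
        have e3 : a • G.rho z = G.rho (σ a • z) := by rw [G.rho_smul, G.invol]
        rw [e3] at hprod
        have hp0 : p ≠ 0 := fun h => hpw (by rw [h, G.zero_left])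
        have hmem := hcon p hp hp0 (σ a • z) (by rw [G.smul_left, G.orth_symm hpz, mul_zero]) hprod
        rw [Submodule.smul_mem_iff _ (hσ0 a ha0)] at hmem
        obtain ⟨b, hb⟩ := Submodule.mem_span_singleton.1 hmem
        have h4 : f p w = 0 := by
          have := hwz
          rw [← hb, G.smul_left] at this
          rcases mul_eq_zero.1 this with h | h
          · exfalso; apply hz0; rw [← hb, h, zero_smul]
          · exact h
        exact hpw h4
    -- the eigenvalue is constant
    obtain ⟨l0, hl0⟩ := heig w0 hw0 hw00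
    have hconst : ∀ v, f v v = 0 → ∀ u, f u v =
        l0 * f ((g : Matrix ι ι F) *ᵥ u) ((g : Matrix ι ι F) *ᵥ v) := by
      intro v hv u
      by_cases hdep : v ∈ Submodule.span F {w0}
      · obtain ⟨b, rfl⟩ := Submodule.mem_span_singleton.1 hdep
        rw [Matrix.mulVec_smul, G.smul_right, G.smul_right, hl0 u]; ring
      have hv0 : v ≠ 0 := fun h => hdep (h ▸ Submodule.zero_mem _)
      obtain ⟨l, hl⟩ := heig v hv hv0
      obtain ⟨a, ha0, hsum⟩ := G.line hw0 hv
      have hsum0 : w0 + a • v ≠ 0 := by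
        intro h
        apply hdep
        rw [← Submodule.smul_mem_iff _ ha0]
        have e : a • v = -w0 := eq_neg_of_add_eq_zero_right h
        rw [e]
        exact Submodule.neg_mem _ (Submodule.mem_span_singleton_self w0)
      obtain ⟨l', hl'⟩ := heig _ hsum hsum0
      -- compare
      have hrel : ∀ y, f y ((σ (l' - l0)) • ((g : Matrix ι ι F) *ᵥ w0) +
          (σ ((l' - l) * σ a)) • ((g : Matrix ι ι F) *ᵥ v)) = 0 := by
        intro y
        have h1 := hl' (((g⁻¹ : GL ι F) : Matrix ι ι F) *ᵥ y)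
        rw [mulVec_inv_mulVec, Matrix.mulVec_add, Matrix.mulVec_smul, G.add_right, G.add_right,
          G.smul_right, G.smul_right, hl0, hl, mulVec_inv_mulVec] at h1
        rw [G.add_right, G.smul_right, G.smul_right, G.invol, G.invol]
        linear_combination -h1
      have hzero : σ ((l' - l) * σ a) = 0 ∧ σ (l' - l0) = 0 := by
        have h0 : σ (l' - l0) • w0 + σ ((l' - l) * σ a) • v = 0 := by
          have h1 := G.eq_of_rho (z := (0 : ι → F)) fun x => by rw [hrel x, G.zero_right]
          rw [← Matrix.mulVec_smul, ← Matrix.mulVec_smul, ← Matrix.mulVec_add] at h1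
          rw [← inv_mulVec_mulVec g (σ (l' - l0) • w0 + σ ((l' - l) * σ a) • v), h1,
            Matrix.mulVec_zero]
        by_cases hc2 : σ ((l' - l) * σ a) = 0
        · rw [hc2, zero_smul, add_zero] at h0
          exact ⟨hc2, (smul_eq_zero.1 h0).resolve_right hw00⟩
        · exfalso
          apply hdep
          rw [← Submodule.smul_mem_iff _ hc2]
          have e := eq_neg_of_add_eq_zero_right h0
          rw [e]
          exact Submodule.neg_mem _ (Submodule.smul_mem _ _ (Submodule.mem_span_singleton_self w0))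
      have h1 : l' = l0 := by
        have := hzero.2
        rwa [map_eq_zero, sub_eq_zero] at this
      have h2 : l' = l := by
        have := hzero.1
        rw [map_eq_zero, mul_eq_zero, map_eq_zero] at this
        exact sub_eq_zero.1 (this.resolve_right ha0)
      rw [hl u, ← h2, h1]
    -- hence everywhere
    have hall : ∀ u v, f u v = l0 * f ((g : Matrix ι ι F) *ᵥ u) ((g : Matrix ι ι F) *ᵥ v) := by
      intro u v
      have hv : v ∈ Submodule.span F {x : ι → F | x ∈ (⊤ : Submodule F (ι → F)) ∧ f x x = 0} := by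
        rw [hspan]; exact Submodule.mem_top
      induction hv using Submodule.span_induction with
      | mem x hx => exact hconst x hx.2 u
      | zero => rw [Matrix.mulVec_zero, G.zero_right, G.zero_right, mul_zero]
      | add x y _ _ hx hy => rw [Matrix.mulVec_add, G.add_right, G.add_right, hx, hy, mul_add]
      | smul a x _ hx => rw [Matrix.mulVec_smul, G.smul_right, G.smul_right, hx]; ring
    have hl00 : l0 ≠ 0 := by
      intro h
      obtain ⟨x, hx⟩ := G.nondeg w0 hw00
      rw [hall x w0, h, zero_mul] at hx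
      exact hx rfl
    apply hgH
    refine (hH g).2 ⟨⟨(Units.mk0 l0 hl00)⁻¹, fun u v => ?_⟩, hMSL hgM⟩
    rw [Units.val_inv_eq_inv_val, Units.val_mk0, hall u v, ← mul_assoc, inv_mul_cancel₀ hl00,
      one_mul]
  -- Step 1: one mixed transvection gives the whole unipotent group at the singular vector
  let Full : (ι → F) → Prop := fun w => ∀ φ : (ι → F) →ₗ[F] F, φ w = 0 → tv w φ ∈ M
  have step1 : ∀ w, f w w = 0 → ∀ z, f z w = 0 → tv w (G.rho z) ∈ M →
      z ∉ Submodule.span F {w} → Full w := by
    intro w hw z hzw hzM hz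
    let Z : Set (ι → F) := {z | f z w = 0 ∧ tv w (G.rho z) ∈ M}
    have Zadd : ∀ a b, a ∈ Z → b ∈ Z → a + b ∈ Z := fun a b ha hb =>
      ⟨by rw [G.add_left, ha.1, hb.1, add_zero], by
        rw [G.rho_add, ← tv_mul (G.orth_symm ha.1) (G.orth_symm hb.1)]
        exact M.mul_mem ha.2 hb.2⟩
    have Zneg : ∀ a, a ∈ Z → (-1 : F) • a ∈ Z := fun a ha =>
      ⟨by rw [G.smul_left, ha.1, mul_zero], by
        rw [G.rho_smul, map_neg, map_one, neg_one_smul_map, ← tv_inv (G.orth_symm ha.1)]
        exact M.inv_mem ha.2⟩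
    have Zmove : ∀ a ∈ Z, ∀ u, f u u = 0 → f u w = 0 → (c * f a u) • u ∈ Z := by
      intro a ha u hu huw
      have h0 : (c • G.rho u) u = 0 := by simp [hu]
      have hh := tv_mem_H G H hH hu hc
      have hm := M.mul_mem (M.mul_mem (hHM hh) ha.2) (M.inv_mem (hHM hh))
      rw [conj_tv _ (show G.rho a w = 0 from G.orth_symm ha.1), tv_mulVec h0] at hm
      have e1 : w + (c • G.rho u) w • u = w := by simp [G.orth_symm huw]
      have e2 : (G.rho a) ∘ₗ Matrix.toLin' (((tv u (c • G.rho u))⁻¹ : GL ι F) : Matrix ι ι F) =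
          G.rho (a + (c * f a u) • u) := by
        refine LinearMap.ext fun x => ?_
        rw [LinearMap.comp_apply, Matrix.toLin'_apply, Good.rho_apply, Good.rho_apply]
        have hiso := isometry_tv G hu hc ((((tv u (c • G.rho u))⁻¹ : GL ι F) : Matrix ι ι F) *ᵥ x) a
        rw [mulVec_inv_mulVec, tv_mulVec h0] at hiso
        simpa using hiso.symm
      rw [e1, e2] at hm
      have hsum : a + (c * f a u) • u ∈ Z :=
        ⟨by rw [G.add_left, ha.1, G.smul_left, huw, mul_zero, add_zero], hm⟩
      have := Zadd _ _ (Zneg a ha) hsum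
      rwa [neg_one_smul, neg_add_cancel_left] at this
    -- from a singular `e`
    have fromE : ∀ e ∈ Z, f e e = 0 → e ∉ Submodule.span F {w} →
        ∀ e2, f e2 e2 = 0 → f e2 w = 0 → f e2 e = 0 → e ∉ Submodule.span F {w, e2} →
        ∀ a : F, a • e2 ∈ Z := by
      intro e heZ hee hew e2 he2 he2w he2e hne a
      obtain ⟨y, hy, hye, -⟩ := G.sep hne
      obtain ⟨u, hu, huu, hue⟩ := G.exists_singular (G.card_le_orth2 w e2) (G.rho e) (x := y)
        (G.mem_orth2.2 ⟨(hy w (Submodule.subset_span (by simp))).1,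
          (hy e2 (Submodule.subset_span (by simp))).1⟩) hye
      obtain ⟨huw, hue2⟩ := G.mem_orth2.1 hu
      have hk : c * f e u ≠ 0 := mul_ne_zero hc0 (fun h => hue (G.orth_symm h))
      set b := a / (c * f e u) with hb
      have hu2 : f (u + b • e2) (u + b • e2) = 0 := by
        simp [G.add_left, G.add_right, G.smul_left, G.smul_right, huu, he2, hue2, G.orth_symm hue2]
      have hu2w : f (u + b • e2) w = 0 := by simp [G.add_left, G.smul_left, huw, he2w]
      have hu2e : f e (u + b • e2) = f e u := by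
        simp [G.add_right, G.smul_right, G.orth_symm he2e]
      have h1 := Zmove e heZ (u + b • e2) hu2 hu2w
      rw [hu2e] at h1
      have h2 := Zadd _ _ h1 (Zneg _ (Zmove e heZ u huu huw))
      have e9 : (c * f e u) • (u + b • e2) + (-1 : F) • (c * f e u) • u = a • e2 := by
        rw [smul_add, smul_smul _ b, hb, mul_div_cancel₀ _ hk, neg_one_smul]; abel
      rwa [e9] at h2
    have perpE : ∀ e ∈ Z, f e e = 0 → e ∉ Submodule.span F {w} →
        ∀ x, x ∈ G.orth2 w e → x ∈ Z := by
      intro e heZ hee hew x hx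
      -- an auxiliary vector with all multiples in `Z`
      let U : Submodule F (ι → F) :=
        { carrier := {x | ∀ a : F, a • x ∈ Z}
          add_mem' := fun {p q} hp hq a => by rw [smul_add]; exact Zadd _ _ (hp a) (hq a)
          zero_mem' := fun a => by
            rw [smul_zero]
            exact ⟨G.zero_left w, by
              have : G.rho (0 : ι → F) = 0 := LinearMap.ext fun x => by simp [G.zero_right]
              rw [this, tv_zero]; exact M.one_mem⟩
          smul_mem' := fun b p hp a => by rw [smul_smul]; exact hp _ }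
      have houtside : ∀ s, s ∈ G.orth2 w e → f s s = 0 → s ∉ Submodule.span F {w, e} → s ∈ U := by
        intro s hs hss hsout
        obtain ⟨hsw, hse⟩ := G.mem_orth2.1 hs
        refine fromE e heZ hee hew s hss hsw hse fun hmem => ?_
        obtain ⟨p, q, hpq⟩ := Submodule.mem_span_pair.1 hmem
        by_cases hq : q = 0
        · apply hew
          rw [← hpq, hq, zero_smul, add_zero]
          exact Submodule.smul_mem _ _ (Submodule.mem_span_singleton_self w)
        · apply hsout
          rw [← Submodule.smul_mem_iff _ hq, ← sub_eq_iff_eq_add'.2 hpq.symm]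
          exact Submodule.sub_mem _ (Submodule.subset_span (by simp))
            (Submodule.smul_mem _ _ (Submodule.subset_span (by simp)))
      have hnotle : ¬ G.orth2 w e ≤ Submodule.span F {w, e} := by
        intro hle
        have h1 := G.card_le_orth2 w e
        have h2 := Submodule.finrank_mono hle
        have h3 : Module.finrank F (Submodule.span F ({w, e} : Set (ι → F))) ≤ 2 := by
          exact finrank_pair_le w e
        omega
      obtain ⟨s0, hs0, hs00, hs0out⟩ : ∃ s, s ∈ G.orth2 w e ∧ f s s = 0 ∧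
          s ∉ Submodule.span F {w, e} := by
        by_contra h
        push Not at h
        apply hnotle
        rw [← G.singular_span _ (G.card_le_orth2 w e)]
        exact Submodule.span_le.2 fun s hs => h s hs.1 hs.2
      have hle : G.orth2 w e ≤ U := by
        conv_lhs => rw [← G.singular_span _ (G.card_le_orth2 w e)]
        refine Submodule.span_le.2 fun s hs => ?_
        by_cases hsout : s ∈ Submodule.span F {w, e}
        · obtain ⟨p, q, hpq⟩ := Submodule.mem_span_pair.1 hsout
          have hs0' := G.mem_orth2.1 hs0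
          have hss0 : f s s0 = 0 := by
            rw [← hpq, G.add_left, G.smul_left, G.smul_left, G.orth_symm hs0'.1,
              G.orth_symm hs0'.2]
            ring
          have h1 : s + s0 ∈ U := by
            refine houtside _ (Submodule.add_mem _ hs.1 hs0) ?_ ?_
            · rw [G.add_left, G.add_right, G.add_right, hs.2, hs00, hss0, G.orth_symm hss0]; ring
            · intro h; exact hs0out (by simpa using Submodule.sub_mem _ h hsout)
          have := Submodule.sub_mem _ h1 (houtside _ hs0 hs00 hs0out)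
          simpa using this
        · exact houtside s hs.1 hs.2 hsout
      have := hle hx 1
      rwa [one_smul] at this
    -- a singular `e` in `Z` outside the line
    obtain ⟨y, hy, -, hzy⟩ := G.sep hz
    obtain ⟨u, hu, huu, huz⟩ := G.exists_singular (G.card_le_orth2 w w) (G.rho z) (x := y)
      (G.mem_orth2.2 ⟨(hy w (Submodule.mem_span_singleton_self w)).1,
        (hy w (Submodule.mem_span_singleton_self w)).1⟩) (fun h => hzy (G.orth_symm h))
    have huw := (G.mem_orth2.1 hu).1
    have hk : c * f z u ≠ 0 := mul_ne_zero hc0 (fun h => huz (G.orth_symm h))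
    have heZ := Zmove z ⟨hzw, hzM⟩ u huu huw
    have hee : f ((c * f z u) • u) ((c * f z u) • u) = 0 := by
      simp [G.smul_left, G.smul_right, huu]
    have hew : (c * f z u) • u ∉ Submodule.span F {w} := by
      rw [Submodule.smul_mem_iff _ hk]
      intro h
      obtain ⟨b, rfl⟩ := Submodule.mem_span_singleton.1 h
      exact huz (by simp [G.smul_left, G.orth_symm hzw])
    set e := (c * f z u) • u with hedef
    have hewperp : f e w = 0 := heZ.1
    -- a second one
    obtain ⟨y2, hy2, hy2e, -⟩ := G.sep hew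
    have hy2w : f y2 w = 0 := (hy2 w (Submodule.mem_span_singleton_self w)).1
    obtain ⟨e', he'1, he'2, he'out⟩ : ∃ s, s ∈ G.orth2 w e ∧ f s s = 0 ∧
        s ∉ Submodule.span F {w, e} := by
      by_contra h
      push Not at h
      have hle : G.orth2 w e ≤ Submodule.span F {w, e} := by
        rw [← G.singular_span _ (G.card_le_orth2 w e)]
        exact Submodule.span_le.2 fun s hs => h s hs.1 hs.2
      have h1 := G.card_le_orth2 w e
      have h2 := Submodule.finrank_mono hle
      have h3 : Module.finrank F (Submodule.span F ({w, e} : Set (ι → F))) ≤ 2 := by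
        exact finrank_pair_le w e
      omega
    have he'Z : e' ∈ Z := perpE e heZ hee hew e' he'1
    have he'w : e' ∉ Submodule.span F {w} := fun h =>
      he'out (Submodule.span_mono (by simp) h)
    obtain ⟨y3, hy3, hy3e, -⟩ : ∃ y, (∀ s ∈ Submodule.span F {w, e'}, f y s = 0 ∧ f s y = 0) ∧
        f y e ≠ 0 ∧ f e y ≠ 0 := by
      refine G.sep fun h => ?_
      obtain ⟨p, q, hpq⟩ := Submodule.mem_span_pair.1 h
      by_cases hq : q = 0
      · apply hew
        rw [← hpq, hq, zero_smul, add_zero]
        exact Submodule.smul_mem _ _ (Submodule.mem_span_singleton_self w)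
      · apply he'out
        rw [← Submodule.smul_mem_iff _ hq, ← sub_eq_iff_eq_add'.2 hpq.symm]
        exact Submodule.sub_mem _ (Submodule.subset_span (by simp))
          (Submodule.smul_mem _ _ (Submodule.subset_span (by simp)))
    have hy3w := (hy3 w (Submodule.subset_span (by simp))).1
    have hy3e' := (hy3 e' (Submodule.subset_span (by simp))).1
    intro φ hφ
    obtain ⟨x, rfl⟩ := G.exists_rho φ
    have hxw : f x w = 0 := G.orth_symm hφ
    have h1 : (f x e / f y3 e) • y3 ∈ Z :=
      perpE e' he'Z he'2 he'w _ (G.mem_orth2.2 ⟨by simp [G.smul_left, hy3w], by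
        simp [G.smul_left, hy3e']⟩)
    have h2 : x + (-(f x e / f y3 e)) • y3 ∈ Z :=
      perpE e heZ hee hew _ (G.mem_orth2.2 ⟨by simp [G.add_left, G.smul_left, G.neg_left, hxw, hy3w], by
        rw [G.add_left, G.smul_left]; field_simp; ring⟩)
    have h12 := (Zadd _ _ h2 h1).2
    rwa [neg_smul, neg_add_cancel_right] at h12
  have hfull : Full w := step1 w hw z hzw hzM hz
  -- Step 2: propagate along non-orthogonal singular vectors
  have step2 : ∀ w v, f w w = 0 → Full w → f v v = 0 → f w v ≠ 0 → Full v := by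
    intro w v hw hFw hv hwv
    have h0 : (c • G.rho v) v = 0 := by simp [hv]
    have hh := tv_mem_H G H hH hv hc
    obtain ⟨k, hk⟩ : ∃ k, k = c * f w v := ⟨_, rfl⟩
    have hk0 : k ≠ 0 := by rw [hk]; exact mul_ne_zero hc0 hwv
    -- a vector orthogonal to both
    obtain ⟨z, hz, hz0⟩ := Submodule.exists_mem_ne_zero_of_ne_bot
      (p := G.orth2 w v) (by
        intro h
        have := G.card_le_orth2 w v
        rw [h, finrank_bot] at this
        omega)
    obtain ⟨hzw, hzv⟩ := G.mem_orth2.1 hz
    have hrw : (G.rho z) w = 0 := G.orth_symm hzw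
    have hrv : (G.rho z) v = 0 := G.orth_symm hzv
    have hm := M.mul_mem (M.mul_mem (hHM hh) (hFw _ hrw)) (M.inv_mem (hHM hh))
    rw [conj_tv _ hrw, tv_mulVec h0] at hm
    have e2 : (G.rho z) ∘ₗ Matrix.toLin' (((tv v (c • G.rho v))⁻¹ : GL ι F) : Matrix ι ι F) =
        G.rho z := by
      refine LinearMap.ext fun x => ?_
      rw [LinearMap.comp_apply, Matrix.toLin'_apply, tv_inv h0, tv_mulVec (by simp [hv])]
      simp [G.add_left, G.smul_left, G.neg_left, G.orth_symm hzv]
    rw [e2] at hm
    have hneg : tv w (-G.rho z) ∈ M := hFw _ (by simp [G.orth_symm hzw])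
    have e1 : tv w (-G.rho z) = tv ((-1 : F) • w) (G.rho z) := by
      exact tv_neg hrw
    rw [e1] at hneg
    have hp := M.mul_mem hneg hm
    rw [tv_mul_center (by simp [G.neg_left, G.orth_symm hzw])
      (by simp [G.add_left, G.smul_left, G.orth_symm hzw, G.orth_symm hzv])] at hp
    have e3 : (-1 : F) • w + (w + (c • G.rho v) w • v) = k • v := by
      rw [neg_one_smul, hk]; simp
    rw [e3, tv_smul hrv] at hp
    have e4 : k • G.rho z = G.rho (σ k • z) := by rw [G.rho_smul, G.invol]
    rw [e4] at hp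
    refine step1 v hv (σ k • z) (by rw [G.smul_left, hzv, mul_zero]) hp ?_
    rw [Submodule.smul_mem_iff _ (hσ0 k hk0)]
    intro h
    obtain ⟨b, hb⟩ := Submodule.mem_span_singleton.1 h
    rw [← hb, G.smul_left] at hzw
    rcases mul_eq_zero.1 hzw with h' | h'
    · apply hz0; rw [← hb, h', zero_smul]
    · exact hwv (G.orth_symm h')
  -- Step 3: connectedness
  have step3 : ∀ v, f v v = 0 → Full v := by
    intro v hv
    by_cases hv0 : v = 0
    · intro φ _; rw [hv0, tv_zero_vec]; exact M.one_mem
    obtain ⟨y1, hy1⟩ := G.nondeg v hv0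
    obtain ⟨y2, hy2⟩ := G.nondeg w hw1
    obtain ⟨u1, -, hu1, hu1v⟩ := G.exists_singular (S := ⊤) (by simp [finrank_top]) (G.rho v)
      (x := y1) Submodule.mem_top hy1
    obtain ⟨u2, -, hu2, hu2w⟩ := G.exists_singular (S := ⊤) (by simp [finrank_top]) (G.rho w)
      (x := y2) Submodule.mem_top hy2
    obtain ⟨u, hu, huv, huw⟩ : ∃ u, f u u = 0 ∧ f u v ≠ 0 ∧ f u w ≠ 0 := by
      by_cases h1 : f u1 w = 0
      · by_cases h2 : f u2 v = 0
        · obtain ⟨a, ha0, ha⟩ := G.line hu1 hu2
          refine ⟨_, ha, ?_, ?_⟩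
          · rw [G.add_left, G.smul_left, h2, mul_zero, add_zero]; exact hu1v
          · rw [G.add_left, G.smul_left, h1, zero_add]; exact mul_ne_zero ha0 hu2w
        · exact ⟨u2, hu2, h2, hu2w⟩
      · exact ⟨u1, hu1, hu1v, h1⟩
    exact step2 u v hu (step2 w u hw hfull hu (fun h => huw (G.orth_symm h))) hv huv
  -- Step 4: all transvections
  intro v φ hφ
  let U : Submodule F (ι → F) :=
    { carrier := {x | φ x = 0 ∧ ∀ a : F, tv (a • x) φ ∈ M}
      add_mem' := fun {p q} hp hq => ⟨by rw [map_add, hp.1, hq.1, add_zero], fun a => by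
        rw [smul_add, ← tv_mul_center (by simp [hp.1]) (by simp [hq.1])]
        exact M.mul_mem (hp.2 a) (hq.2 a)⟩
      zero_mem' := ⟨map_zero φ, fun a => by rw [smul_zero, tv_zero_vec]; exact M.one_mem⟩
      smul_mem' := fun b p hp => ⟨by rw [map_smul, hp.1, smul_zero], fun a => by
        rw [smul_smul]; exact hp.2 _⟩ }
  have hle : LinearMap.ker φ ≤ U := by
    conv_lhs => rw [← G.singular_span (LinearMap.ker φ) (by
      have := φ.finrank_range_add_finrank_ker
      have h1 := Submodule.finrank_le (LinearMap.range φ)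
      rw [Module.finrank_self] at h1
      rw [Module.finrank_fintype_fun_eq_card] at this
      omega)]
    refine Submodule.span_le.2 fun x hx => ⟨LinearMap.mem_ker.1 hx.1, fun a => ?_⟩
    rw [tv_smul (LinearMap.mem_ker.1 hx.1)]
    exact step3 x hx.2 _ (by simp [LinearMap.mem_ker.1 hx.1])
  have := (hle (LinearMap.mem_ker.2 hφ)).2 1
  rwa [one_smul] at this

end

end CfsgLib.Lie.FormMaxSL
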