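import Cfsg.Agent.Lie.FormMaxSL

/-!
Instances: alternating and hermitian forms.
-/

set_option autoImplicit false
set_option linter.unusedSimpArgs false
set_option linter.unusedSectionVars false

namespace CfsgLib.Lie.FormMaxSL

open Matrix

variable {F : Type*} [Field F] {ι : Type} [Fintype ι] [DecidableEq ι]

theorem good_symplectic {f : (ι → F) → (ι → F) → F} (hf : Cfsg.Geo.IsSymplecticForm f)
    (hd : 5 ≤ Fintype.card ι) : Good (RingHom.id F) (-1 : F) f where
  hε := by ring
  σε := rfl
  invol _ := rfl
  add_left := hf.bilinear.add_left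
  smul_left := hf.bilinear.smul_left
  herm v w := by rw [hf.skew v w]; simp
  nondeg v hv := (hf.nondegenerate v hv).1
  skewScalar := ⟨1, one_ne_zero, by simp⟩
  singular_span S _ := by
    have : {x | x ∈ S ∧ f x x = 0} = (S : Set (ι → F)) := by
      ext x; simp [hf.alternating]
    rw [this, Submodule.span_eq]
  dim := hd

/-- For an involution of a finite field every fixed element is a norm. -/
theorem exists_norm [Finite F] (σ : F →+* F) (hσ : σ ≠ RingHom.id F) (hinv : ∀ a, σ (σ a) = a)
    (k : F) (hk0 : k ≠ 0) (hk : σ k = k) : ∃ a, a * σ a = k := by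
  let ψ : Fˣ →* Fˣ := MonoidHom.id Fˣ / Units.map (σ : F →* F)
  let N : Fˣ →* Fˣ := MonoidHom.id Fˣ * Units.map (σ : F →* F)
  have hker : N.ker = ψ.range := by
    ext a
    rw [MonoidHom.mem_ker, MonoidHom.mem_range]
    constructor
    · intro ha
      have ha' : (a : F) * σ a = 1 := congrArg Units.val ha
      obtain ⟨x, hx⟩ : ∃ x : F, x + a * σ x ≠ 0 := by
        by_contra h
        push Not at h
        have h1 := h 1
        rw [map_one, mul_one] at h1
        apply hσ
        refine RingHom.ext fun y => ?_
        show σ y = y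
        linear_combination σ y * h1 - h y
      refine ⟨Units.mk0 _ hx, Units.ext ?_⟩
      simp only [ψ, MonoidHom.div_apply, MonoidHom.id_apply, Units.val_div_eq_div_val,
        Units.coe_map, Units.val_mk0, RingHom.toMonoidHom_eq_coe, MonoidHom.coe_coe]
      have hb : σ (x + a * σ x) ≠ 0 := (map_ne_zero σ).2 hx
      rw [div_eq_iff hb, map_add, map_mul, hinv]
      linear_combination -x * ha'
    · rintro ⟨b, rfl⟩
      ext
      simp only [N, ψ, MonoidHom.mul_apply, MonoidHom.div_apply, MonoidHom.id_apply, Units.val_mul,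
        Units.val_div_eq_div_val, Units.coe_map, MonoidHom.coe_coe, map_div₀, hinv, Units.val_one]
      have hb : σ (b : F) ≠ 0 := by simp
      field_simp
  have hle : N.range ≤ ψ.ker := by
    rintro _ ⟨a, rfl⟩
    rw [MonoidHom.mem_ker]
    ext
    simp only [N, ψ, MonoidHom.mul_apply, MonoidHom.div_apply, MonoidHom.id_apply, Units.val_mul,
      Units.val_div_eq_div_val, Units.coe_map, MonoidHom.coe_coe, map_mul, hinv, Units.val_one]
    have : σ (a : F) ≠ 0 := by simp
    field_simp
  have hN : Nat.card N.range * Nat.card N.ker = Nat.card Fˣ := by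
    rw [← Subgroup.index_ker N, Subgroup.index_mul_card]
  have hψ : Nat.card ψ.range * Nat.card ψ.ker = Nat.card Fˣ := by
    rw [← Subgroup.index_ker ψ, Subgroup.index_mul_card]
  have heq : N.range = ψ.ker := by
    refine Subgroup.eq_of_le_of_card_ge hle (le_of_eq ?_)
    have hpos : 0 < Nat.card ψ.range := Nat.card_pos
    rw [hker] at hN
    nlinarith [hN, hψ]
  have hmem : Units.mk0 k hk0 ∈ N.range := by
    rw [heq, MonoidHom.mem_ker]
    ext
    simp [ψ, hk, hk0]
  obtain ⟨a, ha⟩ := hmem
  exact ⟨a, congrArg Units.val ha⟩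

theorem good_unitary [Finite F] {σ : F ≃+* F} {f : (ι → F) → (ι → F) → F}
    (hf : Cfsg.Geo.IsUnitaryForm σ f) (hd : 7 ≤ Fintype.card ι) :
    Good σ.toRingHom (1 : F) f := by
  obtain ⟨e0, he0⟩ : ∃ e : F, σ e ≠ e := by
    by_contra h
    push Not at h
    exact hf.ne_refl (RingEquiv.ext h)
  have herm : ∀ v w, f v w = 1 * σ.toRingHom (f w v) := fun v w => by
    rw [one_mul]; exact hf.herm v w
  have hnd : ∀ v, v ≠ 0 → ∃ x, f x v ≠ 0 := fun v hv => (hf.nondegenerate v hv).1
  have addr : ∀ v x y, f v (x + y) = f v x + f v y := fun v x y => by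
    rw [hf.herm, hf.add_left, map_add, ← hf.herm, ← hf.herm]
  have smulr : ∀ (c : F) v x, f v (c • x) = σ c * f v x := fun c v x => by
    rw [hf.herm, hf.smul_left, map_mul, ← hf.herm]
  have sumr : ∀ v {κ : Type} (s : Finset κ) (g : κ → ι → F),
      f v (∑ i ∈ s, g i) = ∑ i ∈ s, f v (g i) := fun v _ s g => by
    exact map_sum (AddMonoidHom.mk' (fun x => f v x) (addr v)) g s
  refine
    { hε := by ring
      σε := map_one _
      invol := hf.involutive
      add_left := hf.add_left
      smul_left := hf.smul_left
      herm := herm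
      nondeg := hnd
      skewScalar := ⟨e0 - σ e0, sub_ne_zero.2 (Ne.symm he0), by
        simp only [one_mul, RingEquiv.toRingHom_eq_coe, RingEquiv.coe_toRingHom, map_sub,
          hf.involutive]
        ring⟩
      singular_span := fun S hS => ?_
      dim := by omega }
  refine le_antisymm (Submodule.span_le.2 fun x hx => hx.1) fun u hu => ?_
  by_cases huu : f u u = 0
  · exact Submodule.subset_span ⟨hu, huu⟩
  -- an anisotropic vector of `S` orthogonal to `u`
  let ρ : (ι → F) →ₗ[F] F :=
    { toFun := fun x => f x u
      map_add' := fun x y => hf.add_left x y u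
      map_smul' := fun c x => hf.smul_left c x u }
  obtain ⟨z, hzS, hzu, hzz⟩ : ∃ z, z ∈ S ∧ f z u = 0 ∧ f z z ≠ 0 := by
    by_contra hcon
    push Not at hcon
    let T : Submodule F (ι → F) := S ⊓ LinearMap.ker ρ
    have hT : ∀ x ∈ T, ∀ y ∈ T, f x y = 0 := by
      have hself : ∀ x ∈ T, f x x = 0 := fun x hx => hcon x hx.1 (LinearMap.mem_ker.1 hx.2)
      intro x hx y hy
      have key : ∀ a : F, σ a * f x y + a * f y x = 0 := fun a => by
        have h1 := hself _ (T.add_mem hx (T.smul_mem a hy))
        rw [hf.add_left, hf.smul_left, addr, addr, smulr, smulr, hself x hx, hself y hy] at h1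
        linear_combination h1
      have h1 := key 1
      rw [map_one] at h1
      have h2 : (σ e0 - e0) * f x y = 0 := by linear_combination key e0 - e0 * h1
      exact (mul_eq_zero.1 h2).resolve_left (sub_ne_zero.2 he0)
    have hdimT : Fintype.card ι ≤ Module.finrank F T + 3 := by
      have h1 := Submodule.finrank_sup_add_finrank_inf_eq S (LinearMap.ker ρ)
      have h2 := Submodule.finrank_le (S ⊔ LinearMap.ker ρ)
      have h3 := ρ.finrank_range_add_finrank_ker
      have h4 := Submodule.finrank_le (LinearMap.range ρ)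
      rw [Module.finrank_self] at h4
      rw [Module.finrank_fintype_fun_eq_card] at h2 h3
      simp only [T]
      omega
    set d := Module.finrank F T
    let b := Module.finBasis F T
    let L : (ι → F) →ₗ[F] (Fin d → F) :=
      { toFun := fun x i => f x (b i : ι → F)
        map_add' := fun x y => funext fun i => hf.add_left x y _
        map_smul' := fun c x => funext fun i => hf.smul_left c x _ }
    have hsurj : LinearMap.range L = ⊤ := by
      refine Submodule.eq_top_iff'.2 fun y => ?_
      by_contra hy
      obtain ⟨φ, hφy, hφ⟩ := Submodule.exists_dual_map_eq_bot_of_notMem hy inferInstance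
      refine hφy ?_
      suffices hφ0 : φ = 0 by simp [hφ0]
      have hzero : (∑ i, σ (φ (Pi.single i 1)) • (b i : ι → F)) = 0 := by
        by_contra hne
        obtain ⟨x, hx⟩ := hnd _ hne
        apply hx
        rw [sumr]
        have : φ (L x) = 0 := by
          have h9 : φ (L x) ∈ (LinearMap.range L).map φ :=
            Submodule.mem_map_of_mem (LinearMap.mem_range_self L x)
          rw [hφ] at h9
          simpa using h9
        rw [← this]
        conv_rhs => rw [pi_eq_sum_univ' (L x), map_sum]
        refine Finset.sum_congr rfl fun i _ => ?_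
        rw [smulr, hf.involutive, map_smul, smul_eq_mul, mul_comm]
        rfl
      refine LinearMap.pi_ext fun i a => ?_
      have h0 : σ (φ (Pi.single i 1)) = 0 := by
        refine Fintype.linearIndependent_iff.1 b.linearIndependent
          (fun i => σ (φ (Pi.single i 1))) ?_ i
        apply Subtype.ext
        simpa using hzero
      have h1 : φ (Pi.single i 1) = 0 := by simpa using h0
      have e : (Pi.single i a : Fin d → F) = a • Pi.single i 1 := by
        rw [← Pi.single_smul, smul_eq_mul, mul_one]
      rw [e, map_smul, h1, smul_zero, LinearMap.zero_apply]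
    have hle : T ≤ LinearMap.ker L := fun x hx => LinearMap.mem_ker.2 (funext fun i =>
      hT x hx _ (b i).2)
    have h1 := Submodule.finrank_mono hle
    have h2 := L.finrank_range_add_finrank_ker
    rw [hsurj, finrank_top, Module.finrank_fintype_fun_eq_card,
      Module.finrank_fintype_fun_eq_card, Fintype.card_fin] at h2
    omega
  have hfix : ∀ v, σ (f v v) = f v v := fun v => (hf.herm v v).symm
  obtain ⟨μ, hμ⟩ := exists_norm σ.toRingHom
    (fun h => he0 (RingHom.congr_fun h e0)) hf.involutive (-(f u u) / f z z)
    (div_ne_zero (neg_ne_zero.2 huu) hzz) (by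
      simp only [RingEquiv.toRingHom_eq_coe, RingEquiv.coe_toRingHom, map_div₀, map_neg, hfix])
  have he00 : e0 ≠ 0 := fun h => he0 (by rw [h, map_zero])
  set μ' := μ * (e0 / σ e0) with hμ'
  have hσe : σ e0 ≠ 0 := by simpa using he00
  have hsing : ∀ a : F, a * σ a = -(f u u) / f z z →
      u + a • z ∈ Submodule.span F {x | x ∈ S ∧ f x x = 0} := by
    intro a ha
    refine Submodule.subset_span ⟨S.add_mem hu (S.smul_mem a hzS), ?_⟩
    have huz : f u z = 0 := by rw [hf.herm, hzu, map_zero]
    rw [hf.add_left, hf.smul_left, addr, addr, smulr, smulr, hzu, huz]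
    field_simp at ha
    linear_combination ha
  have h1 := hsing μ hμ
  have h2 := hsing μ' (by
    rw [hμ', map_mul, map_div₀, hf.involutive, ← hμ]
    simp only [RingEquiv.toRingHom_eq_coe, RingEquiv.coe_toRingHom]
    field_simp)
  have hμ0 : μ ≠ 0 := by
    rintro rfl
    rw [zero_mul] at hμ
    exact div_ne_zero (neg_ne_zero.2 huu) hzz hμ.symm
  have hne : μ - μ' ≠ 0 := by
    rw [hμ', sub_ne_zero]
    intro h
    have h3 : e0 / σ e0 = 1 := by
      have := h.symm
      rwa [mul_eq_left₀ hμ0] at this
    exact he0 ((div_eq_one_iff_eq hσe).1 h3).symm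
  have h3 : z ∈ Submodule.span F {x | x ∈ S ∧ f x x = 0} := by
    rw [← Submodule.smul_mem_iff _ hne]
    have := Submodule.sub_mem _ h1 h2
    simpa [sub_smul] using this
  have := Submodule.sub_mem _ h1 (Submodule.smul_mem _ μ h3)
  simpa using this

end CfsgLib.Lie.FormMaxSL
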