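import Cfsg.Agent.S0807
import Cfsg.Agent.Fus.PSL2Dihedral
import Mathlib.NumberTheory.LegendreSymbol.QuadraticChar.GaussSum

/-!
Conjugacy classes of four-subgroups of PSL₂(q), q odd.
-/

set_option autoImplicit false
set_option linter.unusedSectionVars false
set_option linter.unusedSimpArgs false
set_option linter.style.haveILetI false

namespace CfsgLib.Lie.FourGroupClasses

open CfsgLib.Fus.PSL2Two

/-! ### Four-groups from two commuting involutions -/

section Four

variable {G : Type*} [Group G]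

theorem mem_closure_pair {a b : G} (ha : a * a = 1) (hb : b * b = 1) (hc : a * b = b * a) {g : G} :
    g ∈ Subgroup.closure ({a, b} : Set G) ↔ g = 1 ∨ g = a ∨ g = b ∨ g = a * b := by
  constructor
  · intro h
    have c1 : ∀ z, a * (a * z) = z := fun z => by rw [← mul_assoc, ha, one_mul]
    have c2 : ∀ z, b * (b * z) = z := fun z => by rw [← mul_assoc, hb, one_mul]
    have c3 : ∀ z, b * (a * z) = a * (b * z) := fun z => by rw [← mul_assoc, ← hc, mul_assoc]
    induction h using Subgroup.closure_induction with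
    | mem x hx => rcases hx with rfl | rfl <;> simp
    | one => simp
    | mul x y _ _ hx hy =>
      rcases hx with rfl | rfl | rfl | rfl <;> rcases hy with rfl | rfl | rfl | rfl <;>
        simp [mul_assoc, ha, hb, c1, c2, c3, ← hc]
    | inv x _ hx =>
      rcases hx with rfl | rfl | rfl | rfl <;>
        simp [mul_inv_rev, inv_eq_of_mul_eq_one_right ha, inv_eq_of_mul_eq_one_right hb, ← hc]
  · rintro (rfl | rfl | rfl | rfl)
    · exact one_mem _
    · exact Subgroup.subset_closure (by simp)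
    · exact Subgroup.subset_closure (by simp)
    · exact mul_mem (Subgroup.subset_closure (by simp)) (Subgroup.subset_closure (by simp))

theorem card_closure_pair {a b : G} (ha : a * a = 1) (hb : b * b = 1) (hc : a * b = b * a) (ha1 : a ≠ 1) (hb1 : b ≠ 1)
    (hab : a ≠ b) : Nat.card (Subgroup.closure ({a, b} : Set G)) = 4 := by
  have hset : ((Subgroup.closure ({a, b} : Set G)) : Set G) = {1, a, b, a * b} := by
    ext g; simp [mem_closure_pair ha hb hc]
  have h1 : a * b ≠ 1 := fun e => hab ((eq_inv_of_mul_eq_one_left e).trans (inv_eq_of_mul_eq_one_right hb))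
  show Set.ncard ((Subgroup.closure ({a, b} : Set G)) : Set G) = 4
  rw [hset, Set.ncard_insert_of_notMem (by simp [ha1.symm, hb1.symm, h1.symm]) (Set.toFinite _),
    Set.ncard_insert_of_notMem (by simp [hab, hb1]) (Set.toFinite _), Set.ncard_pair (by simp [ha1])]

theorem isKlein_closure {a b : G} (ha : a * a = 1) (hb : b * b = 1) (hc : a * b = b * a) (ha1 : a ≠ 1) (hb1 : b ≠ 1)
    (hab : a ≠ b) : IsKleinFour (Subgroup.closure ({a, b} : Set G)) := by
  have h4 := card_closure_pair ha hb hc ha1 hb1 hab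
  haveI : Finite (Subgroup.closure ({a, b} : Set G)) := Nat.finite_of_card_ne_zero (by omega)
  haveI : Nontrivial (Subgroup.closure ({a, b} : Set G)) := Finite.one_lt_card_iff_nontrivial.1 (by omega)
  refine ⟨h4, ?_⟩
  rw [Monoid.exponent_eq_prime_iff Nat.prime_two]
  rintro ⟨z, hz⟩ hz1
  refine orderOf_eq_prime (Subtype.ext ?_) hz1
  show z ^ 2 = 1
  rw [pow_two]
  rcases (mem_closure_pair ha hb hc).1 hz with rfl | rfl | rfl | rfl
  · exact one_mul 1
  · exact ha
  · exact hb
  · rw [show a * b * (a * b) = a * (b * a) * b by group, ← hc, show a * (a * b) * b = a * a * (b * b) by group,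
      ha, hb, one_mul]

/-- two distinct involutions generate a four-group -/
theorem klein_gen (V : Subgroup G) [IsKleinFour V] :
    ∃ a b : G, a * a = 1 ∧ b * b = 1 ∧ a * b = b * a ∧ a ≠ 1 ∧ b ≠ 1 ∧ a ≠ b ∧ V = Subgroup.closure ({a, b} : Set G) := by
  classical
  have h4 : Nat.card V = 4 := IsKleinFour.card_four
  haveI : Finite V := Nat.finite_of_card_ne_zero (by omega)
  haveI := Fintype.ofFinite V
  rw [Nat.card_eq_fintype_card] at h4
  obtain ⟨a, ha⟩ : ∃ a : V, a ≠ 1 := by
    by_contra hc; push Not at hc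
    haveI : Subsingleton V := ⟨fun x y => (hc x).trans (hc y).symm⟩
    have := Fintype.card_le_one_iff_subsingleton.2 ‹_›
    omega
  obtain ⟨b, hb⟩ : ∃ b : V, b ∉ ({1, a} : Finset V) := by
    by_contra hc; push Not at hc
    have hle := Finset.card_le_card (show (Finset.univ : Finset V) ⊆ {1, a} from fun x _ => hc x)
    have : ({1, a} : Finset V).card ≤ 2 := Finset.card_le_two
    rw [Finset.card_univ] at hle
    omega
  simp only [Finset.mem_insert, Finset.mem_singleton, not_or] at hb
  have haa : (a : G) * a = 1 := congrArg Subtype.val (IsKleinFour.mul_self a)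
  have hbb : (b : G) * b = 1 := congrArg Subtype.val (IsKleinFour.mul_self b)
  have hc : (a : G) * b = b * a := by
    have h := congrArg Subtype.val (IsKleinFour.mul_self (a * b))
    simp only [Subgroup.coe_mul, OneMemClass.coe_one] at h
    calc (a : G) * b = a * (a * b * (a * b)) * b := by rw [h, mul_one]
      _ = (a : G) * a * (b * a) * (b * b) := by group
      _ = b * a := by rw [haa, hbb, one_mul, mul_one]
  have ha1 : (a : G) ≠ 1 := fun e => ha (Subtype.ext e)
  have hb1 : (b : G) ≠ 1 := fun e => hb.1 (Subtype.ext e)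
  have hab : (a : G) ≠ b := fun e => hb.2 (Subtype.ext e.symm)
  refine ⟨a, b, haa, hbb, hc, ha1, hb1, hab, (Subgroup.eq_of_le_of_card_ge ?_ ?_).symm⟩
  · rw [Subgroup.closure_le]
    rintro x (rfl | rfl)
    · exact a.2
    · exact b.2
  · rw [card_closure_pair haa hbb hc ha1 hb1 hab, Nat.card_eq_fintype_card, h4]

theorem closure_pair_mul {a b : G} (ha : a * a = 1) :
    Subgroup.closure ({a, a * b} : Set G) = Subgroup.closure ({a, b} : Set G) := by
  refine le_antisymm ((Subgroup.closure_le _).2 ?_) ((Subgroup.closure_le _).2 ?_)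
  · rintro x (rfl | rfl)
    · exact Subgroup.subset_closure (by simp)
    · exact mul_mem (Subgroup.subset_closure (by simp)) (Subgroup.subset_closure (by simp))
  · rintro x (rfl | rfl)
    · exact Subgroup.subset_closure (by simp)
    · have h1 : a ∈ Subgroup.closure ({a, a * x} : Set G) := Subgroup.subset_closure (by simp)
      have h2 : a * x ∈ Subgroup.closure ({a, a * x} : Set G) := Subgroup.subset_closure (by simp)
      have := mul_mem h1 h2
      rwa [← mul_assoc, ha, one_mul] at this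

end Four

/-! ### The circle group -/

variable {F : Type*} [Field F] [Fintype F]

local notation "SL2" => Matrix.SpecialLinearGroup (Fin 2) F
local notation "PSL2" => Matrix.ProjectiveSpecialLinearGroup (Fin 2) F

theorem v_mul (A B : SL2) : (A * B).1 = A.1 * B.1 := rfl

theorem v_neg (A : SL2) : (-A).1 = -A.1 := Matrix.SpecialLinearGroup.coe_neg A

theorem v_jEl : (jEl : SL2).1 = !![(0 : F), -1; 1, 0] := rfl

theorem jj : (jEl : SL2) * jEl = -1 := by
  refine Subtype.ext ?_
  show !![(0 : F), -1; 1, 0] * !![(0 : F), -1; 1, 0] = -1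
  ext i j; fin_cases i <;> fin_cases j <;> simp [Matrix.mul_apply, Fin.sum_univ_two]

theorem entries_of_comm {u : SL2} (h : u * jEl = jEl * u) : u.1 0 0 = u.1 1 1 ∧ u.1 0 1 = -u.1 1 0 := by
  have h' := congrArg Subtype.val h
  rw [v_mul, v_mul, v_jEl] at h'
  have h00 := congrFun (congrFun h' 0) 0
  have h01 := congrFun (congrFun h' 0) 1
  simp [Matrix.mul_apply, Fin.sum_univ_two] at h00 h01
  exact ⟨h01, h00⟩

/-- the centraliser of jEl -/
def circle (F : Type*) [Field F] [Fintype F] : Subgroup (Matrix.SpecialLinearGroup (Fin 2) F) :=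
  Subgroup.centralizer {jEl}

theorem mem_circle {u : SL2} : u ∈ circle F ↔ u * jEl = jEl * u := Subgroup.mem_centralizer_singleton_iff

theorem circle_comm {u v : SL2} (hu : u ∈ circle F) (hv : v ∈ circle F) : u * v = v * u := by
  obtain ⟨a1, a2⟩ := entries_of_comm (mem_circle.1 hu)
  obtain ⟨b1, b2⟩ := entries_of_comm (mem_circle.1 hv)
  refine Subtype.ext ?_
  rw [v_mul, v_mul]
  ext i j
  fin_cases i <;> fin_cases j <;> simp [Matrix.mul_apply, Fin.sum_univ_two, a1, a2, b1, b2] <;> ring

/-- squaring -/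
def sqHom (F : Type*) [Field F] [Fintype F] : circle F →* circle F where
  toFun u := u * u
  map_one' := mul_one 1
  map_mul' u v := by
    refine Subtype.ext ?_
    have h := circle_comm v.2 u.2
    simp only [Subgroup.coe_mul]
    rw [show (u : Matrix.SpecialLinearGroup (Fin 2) F) * v * (u * v) = u * (v * u) * v by group, h]
    group

/-- squares in the circle -/
def IsSq (r : SL2) : Prop := ∃ u ∈ circle F, u * u = r

theorem jEl_mem : (jEl : SL2) ∈ circle F := mem_circle.2 rfl

theorem neg_mem {u : SL2} (hu : u ∈ circle F) : -u ∈ circle F := mem_circle.2 (by rw [neg_mul, mul_neg, mem_circle.1 hu])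

theorem index_sq (hodd : Fintype.card F % 2 = 1) : (sqHom F).range.index = 2 := by
  have hk : Nat.card (sqHom F).ker = 2 := by
    have hne : (-1 : SL2) ≠ 1 := CfsgLib.Lie.SL2Sylow.neg_one_ne_one hodd
    rw [Nat.card_eq_two_iff]
    refine ⟨⟨1, one_mem _⟩, ⟨⟨-1, neg_mem (one_mem _)⟩, ?_⟩, ?_, ?_⟩
    · exact Subtype.ext (show (-1 : SL2) * -1 = 1 by rw [neg_mul_neg, one_mul])
    · intro e
      exact hne (congrArg (fun z : (sqHom F).ker => ((z : circle F) : SL2)) e).symm
    · refine Set.eq_univ_of_forall fun z => ?_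
      rcases sq_eq_one_cases hodd (show ((z : circle F) : SL2) * (z : circle F) = 1 from congrArg Subtype.val z.2) with e | e
      · left; exact Subtype.ext (Subtype.ext e)
      · right; exact Set.mem_singleton_iff.2 (Subtype.ext (Subtype.ext e))
  have h1 := (sqHom F).range.card_mul_index
  rw [← (sqHom F).ker.card_mul_index, hk, Subgroup.index_ker, mul_comm 2] at h1
  exact Nat.eq_of_mul_eq_mul_left Nat.card_pos h1

theorem isSq_iff {r : SL2} (hr : r ∈ circle F) : IsSq r ↔ (⟨r, hr⟩ : circle F) ∈ (sqHom F).range :=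
  ⟨fun ⟨u, hu, h⟩ => ⟨⟨u, hu⟩, Subtype.ext h⟩, fun ⟨u, h⟩ => ⟨u, u.2, congrArg Subtype.val h⟩⟩

theorem isSq_mul (hodd : Fintype.card F % 2 = 1) {a b : SL2} (ha : a ∈ circle F) (hb : b ∈ circle F) :
    IsSq (a * b) ↔ (IsSq a ↔ IsSq b) := by
  rw [isSq_iff (mul_mem ha hb), isSq_iff ha, isSq_iff hb]
  exact Subgroup.mul_mem_iff_of_index_two (index_sq hodd) (a := (⟨a, ha⟩ : circle F)) (b := ⟨b, hb⟩)

theorem exists_not_sq (hodd : Fintype.card F % 2 = 1) : ∃ z ∈ circle F, ¬ IsSq z := by
  by_contra hc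
  push Not at hc
  have h : (sqHom F).range = ⊤ := by
    rw [eq_top_iff]; rintro ⟨z, hz⟩ _
    exact (isSq_iff hz).1 (hc z hz)
  have := index_sq (F := F) hodd
  rw [h, Subgroup.index_top] at this
  omega

theorem isSq_one : IsSq (1 : SL2) := ⟨1, one_mem _, mul_one 1⟩

theorem isSq_neg_one : IsSq (-1 : SL2) := ⟨jEl, jEl_mem, jj⟩

theorem isSq_jEl_iff (hodd : Fintype.card F % 2 = 1) :
    IsSq (jEl : SL2) ↔ (Fintype.card F % 8 = 1 ∨ Fintype.card F % 8 = 7) := by
  have h2 := two_ne_zero' hodd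
  constructor
  · rintro ⟨u, hu, he⟩
    obtain ⟨a1, a2⟩ := entries_of_comm (mem_circle.1 hu)
    have he' := congrArg Subtype.val he
    rw [v_mul, v_jEl] at he'
    have h00 := congrFun (congrFun he' 0) 0
    have hd := u.2
    rw [Matrix.det_fin_two] at hd
    simp [Matrix.mul_apply, Fin.sum_univ_two, a2] at h00
    have hsq : IsSquare (2 : F) := ⟨2 * u.1 1 1, by
      rw [a1, a2] at hd
      rw [a1] at h00
      linear_combination -2 * hd - 2 * h00⟩
    have := FiniteField.isSquare_two_iff.1 hsq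
    omega
  · intro h
    obtain ⟨s, hs⟩ : IsSquare (2 : F) := FiniteField.isSquare_two_iff.2 ⟨by omega, by omega⟩
    have hs0 : s ≠ 0 := fun e => h2 (by rw [hs, e, mul_zero])
    obtain ⟨u, hu⟩ : ∃ u : SL2, u.1 = !![s⁻¹, -s⁻¹; s⁻¹, s⁻¹] := ⟨⟨_, by
      rw [Matrix.det_fin_two_of]; field_simp; linear_combination hs⟩, rfl⟩
    refine ⟨u, mem_circle.2 (Subtype.ext ?_), Subtype.ext ?_⟩
    · rw [v_mul, v_mul, v_jEl, hu]
      ext i j; fin_cases i <;> fin_cases j <;> simp [Matrix.mul_apply, Fin.sum_univ_two]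
    · rw [v_mul, v_jEl, hu]
      ext i j
      fin_cases i <;> fin_cases j <;> simp [Matrix.mul_apply, Fin.sum_univ_two] <;> field_simp <;>
        first | linear_combination hs | linear_combination -hs

theorem exists_anti (hodd : Fintype.card F % 2 = 1) : ∃ h₀ : SL2, jEl * h₀ = -(h₀ * jEl) := by
  obtain ⟨u, v, huv⟩ := exists_two_squares hodd (-1 : F)
  refine ⟨⟨!![u, v; v, -u], by simp [Matrix.det_fin_two]; linear_combination -huv⟩, Subtype.ext ?_⟩
  show !![(0 : F), -1; 1, 0] * !![u, v; v, -u] = -(!![u, v; v, -u] * !![(0 : F), -1; 1, 0])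
  ext i j; fin_cases i <;> fin_cases j <;> simp [Matrix.mul_apply, Fin.sum_univ_two]

/-- anticommuting elements invert the circle -/
theorem anti_inverts {J u : SL2} (hJ : jEl * J = -(J * jEl)) (hu : u ∈ circle F) : J * u = u⁻¹ * J := by
  obtain ⟨a1, a2⟩ := entries_of_comm (mem_circle.1 hu)
  have h' := congrArg Subtype.val hJ
  rw [v_mul, v_neg, v_mul, v_jEl] at h'
  have h00 := congrFun (congrFun h' 0) 0
  have h01 := congrFun (congrFun h' 0) 1
  simp [Matrix.mul_apply, Fin.sum_univ_two] at h00 h01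
  have hi : (u⁻¹).1 = !![u.1 1 1, -u.1 0 1; -u.1 1 0, u.1 0 0] := Matrix.adjugate_fin_two u.1
  refine Subtype.ext ?_
  rw [v_mul, v_mul, hi]
  ext i j
  fin_cases i <;> fin_cases j <;> simp [Matrix.mul_apply, Fin.sum_univ_two, a1, a2, h00]
  all_goals (try rw [← h01]); ring

theorem anti_mul {J r : SL2} (hJ : jEl * J = -(J * jEl)) (hr : r ∈ circle F) :
    jEl * (r * J) = -(r * J * jEl) := by
  rw [← mul_assoc, ← mem_circle.1 hr, mul_assoc, hJ, mul_neg, ← mul_assoc]

theorem anti_div {J J' : SL2} (hJ : jEl * J = -(J * jEl)) (hJ' : jEl * J' = -(J' * jEl)) :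
    J' * J⁻¹ ∈ circle F := by
  have h1 : jEl * J⁻¹ = -(J⁻¹ * jEl) := by
    have h := congrArg (fun z => J⁻¹ * z * J⁻¹) hJ
    simp [mul_assoc] at h
    rw [h, neg_neg]
  refine mem_circle.2 ?_
  rw [mul_assoc, show J⁻¹ * jEl = -(jEl * J⁻¹) by rw [h1, neg_neg], mul_neg, ← mul_assoc,
    show J' * jEl = -(jEl * J') by rw [hJ', neg_neg], neg_mul, neg_neg, mul_assoc]

theorem conj_anti {J u : SL2} (hJ : jEl * J = -(J * jEl)) (hu : u ∈ circle F) : u * J * u⁻¹ = u * u * J := by
  rw [mul_assoc, anti_inverts hJ (inv_mem hu), inv_inv, mul_assoc]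

theorem pi_neg (x : SL2) : (QuotientGroup.mk (-x) : PSL2) = QuotientGroup.mk x := by
  rw [← neg_one_mul, QuotientGroup.mk_mul, (QuotientGroup.eq_one_iff _).2 neg_one_mem_center, one_mul]

theorem pi_eq {x y : SL2} (h : (QuotientGroup.mk x : PSL2) = QuotientGroup.mk y) : x = y ∨ x = -y := by
  rw [QuotientGroup.eq] at h
  rcases mem_center_cases h with e | e
  · exact Or.inl (inv_mul_eq_one.1 e)
  · refine Or.inr ?_
    have := congrArg (fun z => x * z) e
    simp only [mul_inv_cancel_left, mul_neg, mul_one] at this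
    rw [this, neg_neg]

/-- the four-group of an anticommuting element -/
def fourOf (J : SL2) : Subgroup PSL2 :=
  Subgroup.closure {(QuotientGroup.mk jEl : PSL2), QuotientGroup.mk J}

theorem fourOf_basic (hodd : Fintype.card F % 2 = 1) {J : SL2} (hJ : jEl * J = -(J * jEl)) :
    (QuotientGroup.mk jEl : PSL2) * QuotientGroup.mk jEl = 1 ∧ (QuotientGroup.mk J : PSL2) * QuotientGroup.mk J = 1 ∧
    (QuotientGroup.mk jEl : PSL2) * QuotientGroup.mk J = QuotientGroup.mk J * QuotientGroup.mk jEl ∧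
    (QuotientGroup.mk jEl : PSL2) ≠ 1 ∧ (QuotientGroup.mk J : PSL2) ≠ 1 ∧
    (QuotientGroup.mk jEl : PSL2) ≠ QuotientGroup.mk J := by
  have hne : (-1 : SL2) ≠ 1 := CfsgLib.Lie.SL2Sylow.neg_one_ne_one hodd
  have hJ2 := Cfsg.Agent.S0807.sq_of_anti hodd hJ
  have hn1 : ((-1 : SL2) : SL2) ∈ Subgroup.center SL2 := neg_one_mem_center
  have h1 : ∀ g : SL2, g * g = -1 → (QuotientGroup.mk g : PSL2) ≠ 1 := fun g h e => by
    rcases mem_center_cases ((QuotientGroup.eq_one_iff _).1 e) with rfl | rfl <;> simp at h <;> exact hne h.symm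
  refine ⟨?_, ?_, ?_, h1 _ jj, h1 _ hJ2, fun e => ?_⟩
  · rw [← QuotientGroup.mk_mul, jj]; exact (QuotientGroup.eq_one_iff _).2 hn1
  · rw [← QuotientGroup.mk_mul, hJ2]; exact (QuotientGroup.eq_one_iff _).2 hn1
  · rw [← QuotientGroup.mk_mul, hJ, pi_neg, QuotientGroup.mk_mul]
  · rcases pi_eq e with h | h
    · rw [← h, jj] at hJ; simp at hJ; exact hne hJ
    · rw [show J = -jEl by rw [h, neg_neg], mul_neg, neg_mul, jj] at hJ
      simp at hJ; exact hne hJ.symm

theorem isKlein_fourOf (hodd : Fintype.card F % 2 = 1) {J : SL2} (hJ : jEl * J = -(J * jEl)) :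
    IsKleinFour (fourOf J) := by
  obtain ⟨a, b, c, d, e, f⟩ := fourOf_basic hodd hJ
  exact isKlein_closure a b c d e f

theorem fourOf_square {J r : SL2} (hJ : jEl * J = -(J * jEl)) (hr : IsSq r) :
    ∃ g : PSL2, fourOf (r * J) = (fourOf J).map (MulAut.conj g).toMonoidHom := by
  obtain ⟨u, hu, rfl⟩ := hr
  refine ⟨QuotientGroup.mk u, ?_⟩
  rw [fourOf, fourOf, MonoidHom.map_closure, Set.image_pair]
  congr 2
  · simp only [MulEquiv.coe_toMonoidHom, MulAut.conj_apply]
    rw [← QuotientGroup.mk_inv, ← QuotientGroup.mk_mul, ← QuotientGroup.mk_mul, mem_circle.1 hu, mul_inv_cancel_right]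
  · simp only [MulEquiv.coe_toMonoidHom, MulAut.conj_apply]
    rw [← QuotientGroup.mk_inv, ← QuotientGroup.mk_mul, ← QuotientGroup.mk_mul, conj_anti hJ hu]

theorem fourOf_jmul (hodd : Fintype.card F % 2 = 1) {J : SL2} (hJ : jEl * J = -(J * jEl)) :
    fourOf (jEl * J) = fourOf J := by
  rw [fourOf, fourOf, QuotientGroup.mk_mul]
  exact closure_pair_mul (fourOf_basic hodd hJ).1

/-- every four-group is conjugate to a standard one -/
theorem exists_fourOf (hodd : Fintype.card F % 2 = 1) (W : Subgroup PSL2) [IsKleinFour W] :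
    ∃ (J : SL2) (g : PSL2), jEl * J = -(J * jEl) ∧ W = (fourOf J).map (MulAut.conj g).toMonoidHom := by
  have hne : (-1 : SL2) ≠ 1 := CfsgLib.Lie.SL2Sylow.neg_one_ne_one hodd
  obtain ⟨a, b, ha, hb, hc, ha1, hb1, hab, hW⟩ := klein_gen W
  have hsq : ∀ x : SL2, (QuotientGroup.mk x : PSL2) ≠ 1 → (QuotientGroup.mk x : PSL2) * QuotientGroup.mk x = 1 → x * x = -1 := by
    intro x h1 h2
    rw [← QuotientGroup.mk_mul] at h2
    rcases mem_center_cases ((QuotientGroup.eq_one_iff _).1 h2) with h | h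
    · refine absurd ((QuotientGroup.eq_one_iff _).2 ?_) h1
      rcases sq_eq_one_cases hodd h with rfl | rfl
      · exact one_mem _
      · exact neg_one_mem_center
    · exact h
  obtain ⟨A, rfl⟩ := QuotientGroup.mk_surjective a
  obtain ⟨B, rfl⟩ := QuotientGroup.mk_surjective b
  obtain ⟨k, rfl⟩ := exists_conj_j hodd (hsq A ha1 ha)
  obtain ⟨J, hJ⟩ : ∃ J, J = k⁻¹ * B * k := ⟨_, rfl⟩
  have hB : B = k * J * k⁻¹ := by rw [hJ]; group
  subst hB
  refine ⟨J, QuotientGroup.mk k, ?_, ?_⟩
  · have hcJ : (QuotientGroup.mk (jEl * J) : PSL2) = QuotientGroup.mk (J * jEl) := by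
      simp only [QuotientGroup.mk_mul, QuotientGroup.mk_inv] at hc ⊢
      have := congrArg (fun z => (QuotientGroup.mk k : PSL2)⁻¹ * z * QuotientGroup.mk k) hc
      simpa [mul_assoc] using this
    refine (pi_eq hcJ).resolve_left fun e => ?_
    obtain ⟨j1, j2⟩ := entries_of_comm e.symm
    have hJJ : J * J = -1 := by
      have h := hsq _ hb1 hb
      have h' := congrArg (fun z => k⁻¹ * z * k) h
      simpa [mul_assoc] using h'
    have h' := congrArg Subtype.val hJJ
    rw [v_mul, v_neg] at h'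
    have h00 := congrFun (congrFun h' 0) 0
    have h01 := congrFun (congrFun h' 0) 1
    simp [Matrix.mul_apply, Fin.sum_univ_two, j1, j2] at h00 h01
    have hd := J.2
    rw [Matrix.det_fin_two, j1, j2] at hd
    have h2 := two_ne_zero' (F := F) hodd
    have hdiag : J.1 1 1 = 0 := by
      have h3 : (2 : F) * (J.1 1 1 * J.1 1 1) = 0 := by linear_combination h00 + hd
      exact mul_self_eq_zero.1 ((mul_eq_zero.1 h3).resolve_left h2)
    have hs : J.1 1 0 * J.1 1 0 = 1 := by rw [hdiag] at hd; linear_combination hd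
    refine hab ?_
    simp only [QuotientGroup.mk_mul, QuotientGroup.mk_inv]
    congr 2
    rcases mul_self_eq_one_iff.1 hs with h | h
    · refine congrArg _ (Subtype.ext ?_)
      rw [v_jEl]
      ext i j
      fin_cases i <;> fin_cases j <;> simp [j1, j2, hdiag, h]
    · rw [← pi_neg J]
      refine congrArg _ (Subtype.ext ?_)
      rw [v_neg, v_jEl]
      ext i j
      fin_cases i <;> fin_cases j <;> simp [j1, j2, hdiag, h]
  · rw [hW, fourOf, MonoidHom.map_closure, Set.image_pair]
    simp only [MulEquiv.coe_toMonoidHom, MulAut.conj_apply, QuotientGroup.mk_mul, QuotientGroup.mk_inv]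

theorem map_conj_map (V : Subgroup PSL2) (g h : PSL2) :
    (V.map (MulAut.conj g).toMonoidHom).map (MulAut.conj h).toMonoidHom = V.map (MulAut.conj (h * g)).toMonoidHom := by
  rw [Subgroup.map_map]
  congr 1
  ext x
  simp [mul_assoc]

/-- an element of order three cycling the four-group -/
theorem exists_cycle (hodd : Fintype.card F % 2 = 1) {J : SL2} (hJ : jEl * J = -(J * jEl)) :
    ∃ T : SL2, T * J = jEl * T ∧ T * (jEl * J) = J * T := by
  have h2 := two_ne_zero' (F := F) hodd
  have hJ2 : J.1 * J.1 = -1 := by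
    have h := congrArg Subtype.val (Cfsg.Agent.S0807.sq_of_anti hodd hJ)
    rwa [v_mul, v_neg] at h
  have hA : (jEl : SL2).1 * (jEl : SL2).1 = -1 := by
    have h := congrArg Subtype.val (jj (F := F))
    rwa [v_mul, v_neg] at h
  have hAJ : J.1 * (jEl : SL2).1 = -((jEl : SL2).1 * J.1) := by
    have h := congrArg Subtype.val hJ
    rw [v_mul, v_neg, v_mul] at h
    rw [h, neg_neg]
  obtain ⟨M, hM⟩ : ∃ M, M = (2 : F)⁻¹ • (-1 + (jEl : SL2).1 + J.1 + (jEl : SL2).1 * J.1) := ⟨_, rfl⟩
  have hd : M.det = 1 := by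
    have h' := congrArg Subtype.val hJ
    rw [v_mul, v_neg, v_mul, v_jEl] at h'
    have h00 := congrFun (congrFun h' 0) 0
    have h01 := congrFun (congrFun h' 0) 1
    simp [Matrix.mul_apply, Fin.sum_univ_two] at h00 h01
    obtain ⟨a, b, hJe⟩ : ∃ a b : F, J.1 = !![a, b; b, -a] := by
      refine ⟨J.1 0 0, J.1 0 1, ?_⟩
      ext i j
      fin_cases i <;> fin_cases j <;> simp
      · first | linear_combination h00 | linear_combination -h00 | exact h00 | exact h00.symm
      · first | linear_combination h01 | linear_combination -h01 | exact h01 | exact h01.symm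
    have hdJ := J.2
    rw [hJe, Matrix.det_fin_two_of] at hdJ
    rw [hM, Matrix.det_smul, Fintype.card_fin, v_jEl, hJe, Matrix.det_fin_two]
    simp [Matrix.mul_apply, Fin.sum_univ_two, Matrix.vecMul, dotProduct]
    field_simp
    linear_combination 2 * hdJ
  obtain ⟨T, hT⟩ : ∃ T : SL2, T.1 = M := ⟨⟨M, hd⟩, rfl⟩
  refine ⟨T, Subtype.ext ?_, Subtype.ext ?_⟩
  · rw [v_mul, v_mul, hT, hM, smul_mul_assoc, mul_smul_comm]
    congr 1
    simp only [add_mul, mul_add, neg_mul, mul_neg, one_mul, mul_one, mul_assoc, hJ2, hAJ]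
    simp only [← mul_assoc, hA, hJ2, neg_mul, one_mul]
    abel
  · rw [v_mul, v_mul, v_mul, hT, hM, smul_mul_assoc, mul_smul_comm]
    congr 1
    have e2 : (jEl : SL2).1 * ((jEl : SL2).1 * J.1) = -J.1 := by rw [← mul_assoc, hA, neg_one_mul]
    have e3 : J.1 * ((jEl : SL2).1 * J.1) = (jEl : SL2).1 := by
      rw [← mul_assoc, hAJ, neg_mul, mul_assoc, hJ2, mul_neg, neg_neg, mul_one]
    have e4 : (jEl : SL2).1 * J.1 * ((jEl : SL2).1 * J.1) = -1 := by rw [mul_assoc, e3, hA]
    simp only [add_mul, mul_add, neg_mul, mul_neg, one_mul, mul_one, e2, e3, e4, hAJ, hJ2]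
    abel

theorem four_classes (hodd : Fintype.card F % 2 = 1) :
    ((Fintype.card F % 8 = 3 ∨ Fintype.card F % 8 = 5) → ∀ V W : Subgroup PSL2, IsKleinFour V → IsKleinFour W →
      ∃ g : PSL2, W = V.map (MulAut.conj g).toMonoidHom) ∧
    ((Fintype.card F % 8 = 1 ∨ Fintype.card F % 8 = 7) → ∃ V₁ V₂ : Subgroup PSL2, IsKleinFour V₁ ∧ IsKleinFour V₂ ∧
      (¬ ∃ g : PSL2, V₂ = V₁.map (MulAut.conj g).toMonoidHom) ∧
      ∀ W : Subgroup PSL2, IsKleinFour W → (∃ g : PSL2, W = V₁.map (MulAut.conj g).toMonoidHom) ∨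
        (∃ g : PSL2, W = V₂.map (MulAut.conj g).toMonoidHom)) := by
  obtain ⟨J₀, hJ₀⟩ := exists_anti (F := F) hodd
  have hred : ∀ W : Subgroup PSL2, IsKleinFour W → ∃ (r : SL2) (g : PSL2), r ∈ circle F ∧
      W = (fourOf (r * J₀)).map (MulAut.conj g).toMonoidHom := by
    intro W hW
    obtain ⟨J, g, hJ, e⟩ := exists_fourOf hodd W
    exact ⟨J * J₀⁻¹, g, anti_div hJ₀ hJ, by rw [inv_mul_cancel_right]; exact e⟩
  constructor
  · intro h8 V W hV hW
    have hns : ¬ IsSq (jEl : SL2) := fun h => by have := (isSq_jEl_iff hodd).1 h; omega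
    have key : ∀ W : Subgroup PSL2, IsKleinFour W → ∃ g : PSL2, W = (fourOf J₀).map (MulAut.conj g).toMonoidHom := by
      intro W hW
      obtain ⟨r, g, hr, rfl⟩ := hred W hW
      by_cases hs : IsSq r
      · obtain ⟨u, hu⟩ := fourOf_square hJ₀ hs
        exact ⟨g * u, by rw [hu, map_conj_map]⟩
      · obtain ⟨u, hu⟩ := fourOf_square hJ₀ ((isSq_mul hodd jEl_mem hr).2 (iff_of_false hns hs))
        rw [mul_assoc, fourOf_jmul hodd (anti_mul hJ₀ hr)] at hu
        exact ⟨g * u, by rw [hu, map_conj_map]⟩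
    obtain ⟨g, rfl⟩ := key V hV
    obtain ⟨g', rfl⟩ := key W hW
    exact ⟨g' * g⁻¹, by rw [map_conj_map, inv_mul_cancel_right]⟩
  · intro h8
    have hjs : IsSq (jEl : SL2) := (isSq_jEl_iff hodd).2 h8
    obtain ⟨z, hz, hzn⟩ := exists_not_sq (F := F) hodd
    refine ⟨fourOf J₀, fourOf (z * J₀), isKlein_fourOf hodd hJ₀, isKlein_fourOf hodd (anti_mul hJ₀ hz), ?_, ?_⟩
    · rintro ⟨g, hg⟩
      have hJz := anti_mul hJ₀ hz
      obtain ⟨b1, b2, b3, b4, b5, b6⟩ := fourOf_basic hodd hJz
      obtain ⟨T, hT1, hT2⟩ := exists_cycle hodd hJz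
      -- adjust g so that it fixes jEl
      have hgi : g * QuotientGroup.mk jEl * g⁻¹ ∈ fourOf (z * J₀) := by
        rw [hg]
        exact Subgroup.mem_map_of_mem _ (Subgroup.subset_closure (by simp))
      have hT1' : (QuotientGroup.mk T : PSL2) * QuotientGroup.mk (z * J₀) * (QuotientGroup.mk T)⁻¹ = QuotientGroup.mk jEl := by
        rw [← QuotientGroup.mk_inv, ← QuotientGroup.mk_mul, ← QuotientGroup.mk_mul, hT1, mul_inv_cancel_right]
      have hT2' : (QuotientGroup.mk T : PSL2) * QuotientGroup.mk (jEl * (z * J₀)) * (QuotientGroup.mk T)⁻¹ =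
          QuotientGroup.mk (z * J₀) := by
        rw [← QuotientGroup.mk_inv, ← QuotientGroup.mk_mul, ← QuotientGroup.mk_mul, hT2, mul_inv_cancel_right]
      have hfix : ∀ h : PSL2, (∀ x ∈ fourOf (z * J₀), h * x * h⁻¹ ∈ fourOf (z * J₀)) →
          h * (g * QuotientGroup.mk jEl * g⁻¹) * h⁻¹ = QuotientGroup.mk jEl → False := by
        intro h hh he
        obtain ⟨G, hG⟩ := QuotientGroup.mk_surjective (h * g)
        have hmem : h * g * QuotientGroup.mk J₀ * (h * g)⁻¹ ∈ fourOf (z * J₀) := by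
          rw [show h * g * QuotientGroup.mk J₀ * (h * g)⁻¹ = h * (g * QuotientGroup.mk J₀ * g⁻¹) * h⁻¹ by group]
          refine hh _ ?_
          rw [hg]
          exact Subgroup.mem_map_of_mem _ (Subgroup.subset_closure (by simp))
        have he' : (QuotientGroup.mk (G * jEl) : PSL2) = QuotientGroup.mk (jEl * G) := by
          rw [QuotientGroup.mk_mul, QuotientGroup.mk_mul, hG]
          calc h * g * QuotientGroup.mk jEl = h * (g * QuotientGroup.mk jEl * g⁻¹) * h⁻¹ * (h * g) := by group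
            _ = _ := by rw [he]
        -- express as a circle element
        obtain ⟨u, hu, hu'⟩ : ∃ u ∈ circle F, h * g * QuotientGroup.mk J₀ * (h * g)⁻¹ =
            QuotientGroup.mk (u * u * J₀) := by
          rw [← hG, ← QuotientGroup.mk_inv, ← QuotientGroup.mk_mul, ← QuotientGroup.mk_mul]
          rcases pi_eq he' with e | e
          · exact ⟨G, mem_circle.2 e, by rw [conj_anti hJ₀ (mem_circle.2 e)]⟩
          · have hr := anti_div hJ₀ (J := J₀) (J' := G) (by rw [e, neg_neg])
            refine ⟨_, hr, ?_⟩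
            rw [← conj_anti hJ₀ hr]
            congr 1
            group
        rw [hu'] at hmem
        obtain ⟨c1, c2, c3, -, -, -⟩ := fourOf_basic hodd hJz
        rcases (mem_closure_pair c1 c2 c3).1 hmem with e | e | e | e
        · exact (fourOf_basic hodd (anti_mul hJ₀ (mul_mem hu hu))).2.2.2.2.1 e
        · exact (fourOf_basic hodd (anti_mul hJ₀ (mul_mem hu hu))).2.2.2.2.2 e.symm
        · rcases pi_eq e with e' | e'
          · exact hzn ⟨u, hu, mul_right_cancel e'⟩
          · rw [← neg_mul] at e'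
            have : IsSq (-1 * z) := ⟨u, hu, by rw [neg_one_mul]; exact mul_right_cancel e'⟩
            exact hzn (((isSq_mul hodd (neg_mem (one_mem _)) hz).1 this).1 isSq_neg_one)
        · rw [← QuotientGroup.mk_mul, ← mul_assoc] at e
          rcases pi_eq e with e' | e'
          · exact hzn (((isSq_mul hodd jEl_mem hz).1 ⟨u, hu, mul_right_cancel e'⟩).1 hjs)
          · rw [← neg_mul] at e'
            have : IsSq (-1 * (jEl * z)) := ⟨u, hu, by rw [neg_one_mul]; exact mul_right_cancel e'⟩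
            have := ((isSq_mul hodd (neg_mem (one_mem _)) (mul_mem jEl_mem hz)).1 this).1 isSq_neg_one
            exact hzn (((isSq_mul hodd jEl_mem hz).1 this).1 hjs)
      have hone : ∀ x ∈ fourOf (z * J₀), (1 : PSL2) * x * 1⁻¹ ∈ fourOf (z * J₀) := fun x hx => by simpa using hx
      have hTn : ∀ x ∈ fourOf (z * J₀), (QuotientGroup.mk T : PSL2) * x * (QuotientGroup.mk T)⁻¹ ∈ fourOf (z * J₀) := by
        have hA : (QuotientGroup.mk T : PSL2) * QuotientGroup.mk jEl * (QuotientGroup.mk T)⁻¹ =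
            QuotientGroup.mk (jEl * (z * J₀)) := by
          have hT2'' := hT2'
          rw [QuotientGroup.mk_mul _ jEl] at hT2'' ⊢
          calc (QuotientGroup.mk T : PSL2) * QuotientGroup.mk jEl * (QuotientGroup.mk T)⁻¹
              = QuotientGroup.mk T * (QuotientGroup.mk jEl * (QuotientGroup.mk (z * J₀) * QuotientGroup.mk (z * J₀))) *
                (QuotientGroup.mk T)⁻¹ := by rw [b2, mul_one]
            _ = QuotientGroup.mk T * (QuotientGroup.mk jEl * QuotientGroup.mk (z * J₀)) * (QuotientGroup.mk T)⁻¹ *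
                (QuotientGroup.mk T * QuotientGroup.mk (z * J₀) * (QuotientGroup.mk T)⁻¹) := by group
            _ = _ := by rw [hT2'', hT1', b3]
        intro x hx
        have hle : fourOf (z * J₀) ≤ (fourOf (z * J₀)).comap (MulAut.conj (QuotientGroup.mk T : PSL2)).toMonoidHom := by
          rw [fourOf, Subgroup.closure_le]
          rintro y (rfl | rfl)
          · show (QuotientGroup.mk T : PSL2) * QuotientGroup.mk jEl * (QuotientGroup.mk T)⁻¹ ∈ fourOf (z * J₀)
            rw [hA, QuotientGroup.mk_mul]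
            exact mul_mem (Subgroup.subset_closure (by simp)) (Subgroup.subset_closure (by simp))
          · show (QuotientGroup.mk T : PSL2) * QuotientGroup.mk (z * J₀) * (QuotientGroup.mk T)⁻¹ ∈ fourOf (z * J₀)
            rw [hT1']
            exact Subgroup.subset_closure (by simp)
        exact hle hx
      rcases (mem_closure_pair b1 b2 b3).1 hgi with e | e | e | e
      · refine b4 ?_
        have := congrArg (fun x => g⁻¹ * x * g) e
        simp only [mul_one, inv_mul_cancel] at this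
        rwa [show g⁻¹ * (g * QuotientGroup.mk jEl * g⁻¹) * g = QuotientGroup.mk jEl by group] at this
      · exact hfix 1 hone (by rw [e]; simp)
      · exact hfix _ hTn (by rw [e, hT1'])
      · refine hfix (QuotientGroup.mk T * QuotientGroup.mk T) (fun x hx => ?_) ?_
        · have := hTn _ (hTn x hx)
          simpa [mul_assoc, mul_inv_rev] using this
        · rw [e, ← QuotientGroup.mk_mul _ jEl, mul_inv_rev, ← hT1', ← hT2']
          group
    · intro W hW
      obtain ⟨r, g, hr, rfl⟩ := hred W hW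
      by_cases hs : IsSq r
      · left
        obtain ⟨u, hu⟩ := fourOf_square hJ₀ hs
        exact ⟨g * u, by rw [hu, map_conj_map]⟩
      · right
        have hrz : IsSq (r * z⁻¹) := (isSq_mul hodd hr (inv_mem hz)).2 (iff_of_false hs fun h => hzn (by
          obtain ⟨v, hv, hv'⟩ := h
          exact ⟨v⁻¹, inv_mem hv, by rw [← mul_inv_rev, hv', inv_inv]⟩))
        obtain ⟨u, hu⟩ := fourOf_square (anti_mul hJ₀ hz) hrz
        rw [← mul_assoc, inv_mul_cancel_right] at hu
        exact ⟨g * u, by rw [hu, map_conj_map]⟩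

end CfsgLib.Lie.FourGroupClasses
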