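import Cfsg.Agent.Lie.Orders
import Cfsg.Agent.Lie.SLn

/-!
Borel and unipotent subgroups of GL₂ and SL₂; the Sylow p-subgroups in characteristic p.
-/

set_option autoImplicit false
set_option linter.unusedSimpArgs false

namespace CfsgLib.Lie.GL2

open Matrix
open scoped MatrixGroups

variable {F : Type*} [Field F]

theorem coe_inv_GL (g : GL (Fin 2) F) :
    ((g⁻¹ : GL (Fin 2) F) : Matrix (Fin 2) (Fin 2) F) =
      (g : Matrix (Fin 2) (Fin 2) F).det⁻¹ • (g : Matrix (Fin 2) (Fin 2) F).adjugate := by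
  rw [Matrix.coe_units_inv, Matrix.inv_def, Ring.inverse_eq_inv']

/-- Upper triangular elements of GL₂. -/
def borel (F : Type*) [Field F] : Subgroup (GL (Fin 2) F) where
  carrier := {g | (g : Matrix (Fin 2) (Fin 2) F) 1 0 = 0}
  mul_mem' {a b} ha hb := by
    simp only [Set.mem_ofPred_eq, Units.val_mul, Matrix.mul_apply, Fin.sum_univ_two] at *
    rw [ha, hb]; ring
  one_mem' := by simp
  inv_mem' {a} ha := by
    simp only [Set.mem_ofPred_eq] at *
    simp [-Matrix.coe_units_inv, coe_inv_GL, Matrix.adjugate_fin_two, ha]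

theorem mem_borel {g : GL (Fin 2) F} :
    g ∈ borel F ↔ (g : Matrix (Fin 2) (Fin 2) F) 1 0 = 0 := Iff.rfl

/-- Upper unitriangular elements of GL₂. -/
def unip (F : Type*) [Field F] : Subgroup (GL (Fin 2) F) where
  carrier := {g | (g : Matrix (Fin 2) (Fin 2) F) 1 0 = 0 ∧ (g : Matrix (Fin 2) (Fin 2) F) 0 0 = 1 ∧
    (g : Matrix (Fin 2) (Fin 2) F) 1 1 = 1}
  mul_mem' {a b} ha hb := by
    simp only [Set.mem_ofPred_eq, Units.val_mul, Matrix.mul_apply, Fin.sum_univ_two] at *
    simp [ha.1, ha.2.1, ha.2.2, hb.1, hb.2.1, hb.2.2]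
  one_mem' := by simp
  inv_mem' {a} ha := by
    simp only [Set.mem_ofPred_eq] at *
    simp [-Matrix.coe_units_inv, coe_inv_GL, Matrix.adjugate_fin_two, Matrix.det_fin_two, ha.1, ha.2.1, ha.2.2]

theorem mem_unip {g : GL (Fin 2) F} :
    g ∈ unip F ↔ (g : Matrix (Fin 2) (Fin 2) F) 1 0 = 0 ∧
      (g : Matrix (Fin 2) (Fin 2) F) 0 0 = 1 ∧ (g : Matrix (Fin 2) (Fin 2) F) 1 1 = 1 := Iff.rfl

theorem unip_le_borel : unip F ≤ borel F := fun _ h => h.1

/-- The unipotent element with upper right entry b. -/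
def u (b : F) : GL (Fin 2) F :=
  Matrix.GeneralLinearGroup.mkOfDetNeZero !![1, b; 0, 1] (by simp [Matrix.det_fin_two])

@[simp] theorem coe_u (b : F) : ((u b : GL (Fin 2) F) : Matrix (Fin 2) (Fin 2) F) = !![1, b; 0, 1] :=
  rfl

theorem u_mem (b : F) : u b ∈ unip F := by simp [mem_unip]

theorem eq_u_of_mem {g : GL (Fin 2) F} (h : g ∈ unip F) :
    g = u ((g : Matrix (Fin 2) (Fin 2) F) 0 1) := by
  apply Units.ext
  rw [coe_u]
  ext i j
  fin_cases i <;> fin_cases j <;> simp [h.1, h.2.1, h.2.2]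

/-- unip ≃ F. -/
def unipEquiv : unip F ≃ F where
  toFun g := ((g : GL (Fin 2) F) : Matrix (Fin 2) (Fin 2) F) 0 1
  invFun b := ⟨u b, u_mem b⟩
  left_inv g := Subtype.ext (eq_u_of_mem g.2).symm
  right_inv b := by simp

/-- borel ≃ Fˣ × Fˣ × F. -/
noncomputable def borelEquiv : borel F ≃ Fˣ × Fˣ × F := by
  refine Equiv.ofBijective (fun g => (Units.mk0 (((g : GL (Fin 2) F) : Matrix (Fin 2) (Fin 2) F) 0 0) ?_,
    Units.mk0 (((g : GL (Fin 2) F) : Matrix (Fin 2) (Fin 2) F) 1 1) ?_,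
    ((g : GL (Fin 2) F) : Matrix (Fin 2) (Fin 2) F) 0 1)) ⟨?_, ?_⟩
  · intro h
    have := Matrix.GeneralLinearGroup.det_ne_zero (g : GL (Fin 2) F)
    rw [Matrix.det_fin_two, h, mem_borel.1 g.2] at this
    exact this (by ring)
  · intro h
    have := Matrix.GeneralLinearGroup.det_ne_zero (g : GL (Fin 2) F)
    rw [Matrix.det_fin_two, h, mem_borel.1 g.2] at this
    exact this (by ring)
  · intro g g' h
    simp only [Prod.mk.injEq, Units.ext_iff, Units.val_mk0] at h
    obtain ⟨h1, h2, h3⟩ := h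
    apply Subtype.ext
    apply Units.ext
    ext i j
    fin_cases i <;> fin_cases j <;>
      simp [h1, h2, h3, mem_borel.1 g.2, mem_borel.1 g'.2]
  · intro x
    refine ⟨⟨Matrix.GeneralLinearGroup.mkOfDetNeZero !![(x.1 : F), x.2.2; 0, x.2.1]
      (by simp [Matrix.det_fin_two]), by simp [mem_borel, Matrix.GeneralLinearGroup.mkOfDetNeZero]⟩, ?_⟩
    simp [Matrix.GeneralLinearGroup.mkOfDetNeZero]

/-- conjugation keeps a nontrivial unipotent in unip only from the Borel. -/
theorem mem_borel_of_conj_mem {g : GL (Fin 2) F} {b : F} (hb : b ≠ 0)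
    (h : g * u b * g⁻¹ ∈ unip F) : g ∈ borel F := by
  obtain ⟨h10, -, -⟩ := h
  rw [mem_borel]
  simp [-Matrix.coe_units_inv, coe_inv_GL, Matrix.mul_apply, Fin.sum_univ_two, Matrix.adjugate_fin_two] at h10
  set m := (g : Matrix (Fin 2) (Fin 2) F) with hm
  have hd : m.det ≠ 0 := Matrix.GeneralLinearGroup.det_ne_zero g
  have key : b * (m 1 0) * (m 1 0) * m.det⁻¹ = 0 := by
    linear_combination -h10
  simpa [hb, hd] using key

theorem conj_mem_unip {g x : GL (Fin 2) F} (hg : g ∈ borel F) (hx : x ∈ unip F) :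
    g * x * g⁻¹ ∈ unip F := by
  obtain ⟨b, rfl⟩ : ∃ b, x = u b := ⟨_, eq_u_of_mem hx⟩
  have hd := Matrix.GeneralLinearGroup.det_ne_zero g
  rw [Matrix.det_fin_two, mem_borel.1 hg] at hd
  simp only [mul_zero, sub_zero, ne_eq, mul_eq_zero, not_or] at hd
  refine ⟨?_, ?_, ?_⟩ <;>
    simp [-Matrix.coe_units_inv, coe_inv_GL, Matrix.mul_apply, Fin.sum_univ_two, Matrix.adjugate_fin_two,
      Matrix.det_fin_two, mem_borel.1 hg] <;> field_simp [hd.1, hd.2]

theorem normalizer_unip : Subgroup.normalizer (unip F : Set (GL (Fin 2) F)) = borel F := by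
  ext g
  rw [Subgroup.mem_normalizer_iff]
  constructor
  · intro h
    exact mem_borel_of_conj_mem one_ne_zero ((h (u 1)).1 (u_mem 1))
  · intro hg x
    refine ⟨fun hx => conj_mem_unip hg hx, fun hx => ?_⟩
    have := conj_mem_unip ((borel F).inv_mem hg) hx
    simpa [mul_assoc] using this

theorem centralizer_u_equiv {b : F} (hb : b ≠ 0) (g : GL (Fin 2) F) :
    g ∈ Subgroup.centralizer ({u b} : Set (GL (Fin 2) F)) ↔
      (g : Matrix (Fin 2) (Fin 2) F) 1 0 = 0 ∧
        (g : Matrix (Fin 2) (Fin 2) F) 0 0 = (g : Matrix (Fin 2) (Fin 2) F) 1 1 := by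
  rw [Subgroup.mem_centralizer_singleton_iff]
  constructor
  · intro h
    have h' := congrArg (fun x : GL (Fin 2) F => (x : Matrix (Fin 2) (Fin 2) F)) h
    have h00 := congrFun (congrFun h' 0) 0
    have h01 := congrFun (congrFun h' 0) 1
    simp [Matrix.mul_apply, Fin.sum_univ_two] at h00 h01
    have h10 : (g : Matrix (Fin 2) (Fin 2) F) 1 0 = 0 := by
      rcases h00 with h | h
      · exact absurd h hb
      · exact h
    refine ⟨h10, ?_⟩
    have : b * ((g : Matrix (Fin 2) (Fin 2) F) 0 0 - (g : Matrix (Fin 2) (Fin 2) F) 1 1) = 0 := by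
      linear_combination h01
    simpa [hb, sub_eq_zero] using this
  · rintro ⟨h1, h2⟩
    apply Units.ext
    ext i j
    fin_cases i <;> fin_cases j <;> simp [Matrix.mul_apply, Fin.sum_univ_two, h1, h2] <;> ring

noncomputable def centralizerEquiv {b : F} (hb : b ≠ 0) :
    Subgroup.centralizer ({u b} : Set (GL (Fin 2) F)) ≃ Fˣ × F := by
  refine Equiv.ofBijective (fun g => (Units.mk0 (((g : GL (Fin 2) F) : Matrix (Fin 2) (Fin 2) F) 0 0) ?_,
    ((g : GL (Fin 2) F) : Matrix (Fin 2) (Fin 2) F) 0 1)) ⟨?_, ?_⟩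
  · intro h
    have := Matrix.GeneralLinearGroup.det_ne_zero (g : GL (Fin 2) F)
    rw [Matrix.det_fin_two, h, ((centralizer_u_equiv hb _).1 g.2).1] at this
    exact this (by ring)
  · intro g g' h
    simp only [Prod.mk.injEq, Units.ext_iff, Units.val_mk0] at h
    obtain ⟨a1, a2⟩ := (centralizer_u_equiv hb _).1 g.2
    obtain ⟨b1, b2⟩ := (centralizer_u_equiv hb _).1 g'.2
    apply Subtype.ext
    apply Units.ext
    ext i j
    fin_cases i <;> fin_cases j <;> simp [h.1, h.2, a1, ← a2, b1, ← b2]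
  · intro x
    refine ⟨⟨Matrix.GeneralLinearGroup.mkOfDetNeZero !![(x.1 : F), x.2; 0, x.1]
      (by simp [Matrix.det_fin_two]), (centralizer_u_equiv hb _).2
      ⟨by simp [Matrix.GeneralLinearGroup.mkOfDetNeZero], by simp [Matrix.GeneralLinearGroup.mkOfDetNeZero]⟩⟩, ?_⟩
    simp [Matrix.GeneralLinearGroup.mkOfDetNeZero]

section Finite

variable [Fintype F] {q : ℕ} (hF : Fintype.card F = q) (p : ℕ) [Fact p.Prime] [CharP F p]

include hF in
theorem card_unip : Nat.card (unip F) = q := by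
  rw [Nat.card_congr unipEquiv, Nat.card_eq_fintype_card, hF]

include hF in
theorem card_borel : Nat.card (borel F) = q * (q - 1) ^ 2 := by
  rw [Nat.card_congr borelEquiv, Nat.card_prod, Nat.card_prod, Orders.card_units_eq,
    Nat.card_eq_fintype_card (α := F), hF]
  ring

include hF in
/-- Every Sylow p-subgroup of GL₂ is conjugate to unip. -/
theorem exists_conj_eq (P : Sylow p (GL (Fin 2) F)) :
    ∃ g : GL (Fin 2) F, (P : Subgroup (GL (Fin 2) F)) = (unip F).map (MulAut.conj g).toMonoidHom := by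
  have hc : Nat.card P = q := by
    rw [Orders.card_sylow_GL hF p 2 P]; norm_num
  have hpg : IsPGroup p (unip F) := by
    obtain ⟨f, -, hf⟩ := Orders.exists_card_eq_pow hF p
    exact IsPGroup.of_card (n := f) (by rw [card_unip hF, hf])
  obtain ⟨S, hS⟩ := hpg.exists_le_sylow
  have hSeq : (unip F) = (S : Subgroup (GL (Fin 2) F)) := by
    refine Subgroup.eq_of_le_of_card_ge hS ?_
    rw [card_unip hF]
    exact le_of_eq (by rw [Orders.card_sylow_GL hF p 2 S]; norm_num)
  obtain ⟨g, hg⟩ := MulAction.exists_smul_eq (GL (Fin 2) F) S P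
  refine ⟨g, ?_⟩
  rw [hSeq, ← hg]
  rfl

end Finite

end CfsgLib.Lie.GL2

namespace CfsgLib.Lie.GL2

open Matrix
open scoped MatrixGroups

variable {F : Type*} [Field F]

/-- The lower unipotent element. -/
def l (b : F) : GL (Fin 2) F :=
  Matrix.GeneralLinearGroup.mkOfDetNeZero !![1, 0; b, 1] (by simp [Matrix.det_fin_two])

@[simp] theorem coe_l (b : F) : ((l b : GL (Fin 2) F) : Matrix (Fin 2) (Fin 2) F) = !![1, 0; b, 1] :=
  rfl

theorem toGL_range_le {H : Subgroup (GL (Fin 2) F)} (hu : ∀ b, u b ∈ H) (hl : ∀ b, l b ∈ H) :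
    (SpecialLinearGroup.toGL : SpecialLinearGroup (Fin 2) F →* GL (Fin 2) F).range ≤ H := by
  rw [MonoidHom.range_eq_map, Subgroup.map_le_iff_le_comap, top_le_iff]
  refine SLn.eq_top_of_transvection_mem _ fun i j hij c => ?_
  rw [Subgroup.mem_comap]
  fin_cases i <;> fin_cases j <;> first | exact absurd rfl hij | skip
  · convert hu c
    apply Units.ext
    change Matrix.transvection (0 : Fin 2) 1 c = !![1, c; 0, 1]
    ext a b
    fin_cases a <;> fin_cases b <;> simp [Matrix.transvection]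
  · convert hl c
    apply Units.ext
    change Matrix.transvection (1 : Fin 2) 0 c = !![1, 0; c, 1]
    ext a b
    fin_cases a <;> fin_cases b <;> simp [Matrix.transvection]

/-- unip and a conjugate by an element outside the Borel generate at least SL₂. -/
theorem range_le_of_conj {H : Subgroup (GL (Fin 2) F)} {k : GL (Fin 2) F}
    (hk : k ∉ borel F) (hU : unip F ≤ H)
    (hK : ∀ x ∈ unip F, k * x * k⁻¹ ∈ H) :
    (SpecialLinearGroup.toGL : SpecialLinearGroup (Fin 2) F →* GL (Fin 2) F).range ≤ H := by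
  set m := (k : Matrix (Fin 2) (Fin 2) F) with hm
  have hc : m 1 0 ≠ 0 := hk
  have hd : m.det ≠ 0 := Matrix.GeneralLinearGroup.det_ne_zero k
  let s : F := -(m 0 0 / m 1 0)
  refine toGL_range_le (fun b => hU (u_mem b)) fun b => ?_
  let x : F := -(b * m.det / (m 1 0 * m 1 0))
  have hxk := hK (u x) (u_mem x)
  have : u s * (k * u x * k⁻¹) * (u s)⁻¹ = l b := by
    rw [mul_inv_eq_iff_eq_mul, ← mul_assoc, mul_inv_eq_iff_eq_mul]
    apply Units.ext
    simp only [Units.val_mul, coe_u, coe_l, ← hm]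
    rw [Matrix.eta_fin_two m]
    ext i j
    fin_cases i <;> fin_cases j <;>
      simp [Matrix.mul_apply, Fin.sum_univ_two, s, x, Matrix.det_fin_two] <;> field_simp <;> ring
  rw [← this]
  exact H.mul_mem (H.mul_mem (hU (u_mem s)) hxk) (H.inv_mem (hU (u_mem s)))

section Finite

variable [Fintype F] {q : ℕ} (hF : Fintype.card F = q) (p : ℕ) [Fact p.Prime] [CharP F p]

include hF in
theorem number_sylow : Nat.card (Sylow p (GL (Fin 2) F)) = q + 1 := by
  obtain ⟨P⟩ : Nonempty (Sylow p (GL (Fin 2) F)) := inferInstance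
  obtain ⟨g, hg⟩ := exists_conj_eq hF p P
  rw [P.card_eq_index_normalizer]
  have hN : Nat.card (Subgroup.normalizer ((P : Subgroup (GL (Fin 2) F)) : Set (GL (Fin 2) F))) =
      q * (q - 1) ^ 2 := by
    rw [hg, ← Subgroup.map_equiv_normalizer_eq, normalizer_unip,
      Subgroup.card_map_of_injective (MulEquiv.injective _), card_borel hF]
  have h := Subgroup.card_mul_index (Subgroup.normalizer ((P : Subgroup (GL (Fin 2) F)) : Set (GL (Fin 2) F)))
  rw [hN, Orders.card_GL_fin hF 2, Fin.prod_univ_two] at h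
  simp only [Fin.val_zero, Fin.val_one, pow_zero, pow_one] at h
  have h1 : 1 < q := hF ▸ Fintype.one_lt_card
  have hpos : 0 < q * (q - 1) ^ 2 := by
    have : 0 < q - 1 := by omega
    positivity
  apply Nat.eq_of_mul_eq_mul_left hpos
  refine h.trans ?_
  rw [show q ^ 2 - q = q * (q - 1) by rw [Nat.mul_sub_one, sq],
    show q ^ 2 - 1 = (q + 1) * (q - 1) by rw [← Nat.sq_sub_sq, one_pow]]
  ring

include hF in
theorem sylow_inf (P Q : Sylow p (GL (Fin 2) F)) (h : P ≠ Q) :
    (P : Subgroup (GL (Fin 2) F)) ⊓ (Q : Subgroup (GL (Fin 2) F)) = ⊥ := by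
  obtain ⟨g, hg⟩ := exists_conj_eq hF p P
  obtain ⟨k, hk⟩ := exists_conj_eq hF p Q
  rw [Subgroup.eq_bot_iff_forall]
  rintro x ⟨hxP, hxQ⟩
  rw [SetLike.mem_coe, hg] at hxP
  rw [SetLike.mem_coe, hk] at hxQ
  obtain ⟨a, ha, rfl⟩ := hxP
  obtain ⟨b, hb, hbx⟩ := hxQ
  rw [eq_u_of_mem hb] at hbx
  by_contra hx
  simp only [MulEquiv.coe_toMonoidHom, MulAut.conj_apply] at hbx hx
  set t := ((b : GL (Fin 2) F) : Matrix (Fin 2) (Fin 2) F) 0 1
  have ht : t ≠ 0 := by
    intro h0
    have h1 : (u (0 : F) : GL (Fin 2) F) = 1 := Units.ext (by simp [Matrix.one_fin_two])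
    rw [h0, h1, mul_one, mul_inv_cancel] at hbx
    exact hx hbx.symm
  have hmem : (g⁻¹ * k) ∈ borel F := by
    refine mem_borel_of_conj_mem ht ?_
    have he : g⁻¹ * k * u t * (g⁻¹ * k)⁻¹ = a := by
      calc g⁻¹ * k * u t * (g⁻¹ * k)⁻¹ = g⁻¹ * (k * u t * k⁻¹) * g := by group
        _ = a := by rw [hbx]; group
    rw [he]
    exact ha
  apply h
  apply Sylow.ext
  rw [hg, hk]
  rw [show k = g * (g⁻¹ * k) by group, map_mul]
  change _ = (unip F).map (((MulAut.conj g).toMonoidHom).comp (MulAut.conj (g⁻¹ * k)).toMonoidHom)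
  rw [← Subgroup.map_map]
  congr 1
  rw [← normalizer_unip] at hmem
  exact (Subgroup.mem_normalizer_iff_map_conj_eq.1 hmem).symm

end Finite

end CfsgLib.Lie.GL2

namespace CfsgLib.Lie.GL2

open Matrix
open scoped MatrixGroups

variable {F : Type*} [Field F]

theorem conj_unip_le_range (g : GL (Fin 2) F) :
    (unip F).map (MulAut.conj g).toMonoidHom ≤
      (SpecialLinearGroup.toGL : SpecialLinearGroup (Fin 2) F →* GL (Fin 2) F).range := by
  rw [Orders.toGL_range_eq_det_ker]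
  rintro _ ⟨x, hx, rfl⟩
  rw [eq_u_of_mem hx, MonoidHom.mem_ker]
  simp only [MulEquiv.coe_toMonoidHom, MulAut.conj_apply, map_mul, map_inv, mul_inv_cancel_comm]
  exact Units.ext (by simp [Matrix.det_fin_two])

variable [Fintype F] (p : ℕ) [Fact p.Prime] [CharP F p]

/-- A Sylow subgroup of SL₂ maps to a Sylow subgroup of GL₂. -/
theorem map_sylow_SL (P : Sylow p (SpecialLinearGroup (Fin 2) F)) :
    ∃ S : Sylow p (GL (Fin 2) F),
      (P : Subgroup (SpecialLinearGroup (Fin 2) F)).map SpecialLinearGroup.toGL = S := by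
  obtain ⟨S, hS⟩ := (P.isPGroup'.map SpecialLinearGroup.toGL).exists_le_sylow
  refine ⟨S, le_antisymm hS fun x hx => ?_⟩
  obtain ⟨g, hg⟩ := exists_conj_eq rfl p S
  obtain ⟨s, rfl⟩ := conj_unip_le_range g (hg ▸ hx)
  refine ⟨s, ?_, rfl⟩
  have hpg : IsPGroup p ((S : Subgroup (GL (Fin 2) F)).comap
      (SpecialLinearGroup.toGL : SpecialLinearGroup (Fin 2) F →* GL (Fin 2) F)) :=
    S.isPGroup'.comap_of_injective _ SpecialLinearGroup.toGL_injective
  have := P.is_maximal' hpg (Subgroup.map_le_iff_le_comap.1 hS)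
  rw [SetLike.mem_coe, ← this]
  exact hx

theorem sylow_SL_sup (P Q : Sylow p (SpecialLinearGroup (Fin 2) F)) (h : P ≠ Q) :
    (P : Subgroup (SpecialLinearGroup (Fin 2) F)) ⊔ (Q : Subgroup (SpecialLinearGroup (Fin 2) F)) = ⊤ := by
  obtain ⟨S, hS⟩ := map_sylow_SL p P
  obtain ⟨T, hT⟩ := map_sylow_SL p Q
  obtain ⟨g, hg⟩ := exists_conj_eq rfl p S
  obtain ⟨k, hk⟩ := exists_conj_eq rfl p T
  have hinj := SpecialLinearGroup.toGL_injective (n := Fin 2) (R := F)
  have hb : g⁻¹ * k ∉ borel F := by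
    intro hmem
    apply h
    apply Sylow.ext
    apply Subgroup.map_injective hinj
    rw [hS, hT, hg, hk]
    rw [show k = g * (g⁻¹ * k) by group, map_mul]
    change _ = (unip F).map (((MulAut.conj g).toMonoidHom).comp (MulAut.conj (g⁻¹ * k)).toMonoidHom)
    rw [← Subgroup.map_map]
    congr 1
    rw [← normalizer_unip] at hmem
    exact (Subgroup.mem_normalizer_iff_map_conj_eq.1 hmem).symm
  apply Subgroup.map_injective hinj
  rw [Subgroup.map_sup, hS, hT, hg, hk, ← MonoidHom.range_eq_map]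
  refine le_antisymm (sup_le (conj_unip_le_range g) (conj_unip_le_range k)) ?_
  set H := (unip F).map (MulAut.conj g).toMonoidHom ⊔ (unip F).map (MulAut.conj k).toMonoidHom
  have key := range_le_of_conj (H := H.comap (MulAut.conj g).toMonoidHom) hb
    (fun x hx => Subgroup.mem_sup_left ⟨x, hx, rfl⟩) (fun x hx => Subgroup.mem_sup_right ⟨x, hx, by
      simp only [MulEquiv.coe_toMonoidHom, MulAut.conj_apply]; group⟩)
  intro x hx
  have hn : (SpecialLinearGroup.toGL : SpecialLinearGroup (Fin 2) F →* GL (Fin 2) F).range.Normal := by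
    rw [Orders.toGL_range_eq_det_ker]; infer_instance
  have := key (hn.conj_mem x hx g⁻¹)
  simp only [Subgroup.mem_comap, MulEquiv.coe_toMonoidHom, MulAut.conj_apply, inv_inv] at this
  simpa [mul_assoc] using this

end CfsgLib.Lie.GL2
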