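import Cfsg.Agent.Lie.Unitary
import Mathlib.RingTheory.Nilpotent.Basic
import Mathlib.Algebra.Algebra.Subalgebra.Lattice

/-!
Conjugacy in the unitary group is controlled by the general linear group.
-/

set_option autoImplicit false
set_option linter.unusedSimpArgs false
set_option linter.unusedSectionVars false
set_option linter.style.haveILetI false

namespace CfsgLib.Lie.UnitaryConj

open Matrix

/-- a positive power of every element of a finite monoid is idempotent -/
theorem exists_idem {R : Type*} [Monoid R] [Finite R] (x : R) :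
    ∃ N, 0 < N ∧ x ^ N * x ^ N = x ^ N := by
  obtain ⟨i, j, hne, he⟩ := Finite.exists_ne_map_eq_of_infinite (fun i : ℕ => x ^ i)
  wlog hij : i < j generalizing i j
  · exact this j i (Ne.symm hne) he.symm (lt_of_le_of_ne (not_lt.1 hij) (Ne.symm hne))
  have key : ∀ t m, i ≤ m → x ^ (m + (j - i) * t) = x ^ m := by
    intro t
    induction t with
    | zero => intro m _; simp
    | succ t ih =>
      intro m hm
      rw [show m + (j - i) * (t + 1) = (m + (j - i) * t - i) + j by
          rw [Nat.mul_succ]; omega, pow_add, ← he, ← pow_add, Nat.sub_add_cancel (by omega), ih m hm]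
  refine ⟨(j - i) * (i + 1), Nat.mul_pos (by omega) (by omega), ?_⟩
  rw [← pow_add]
  exact key (i + 1) _ (le_trans (Nat.le_succ i) (Nat.le_mul_of_pos_left _ (by omega)))

/-- Hilbert 90 for a finite commutative ring with an involution. -/
theorem h90_exists {R : Type*} [CommRing R] [Finite R] (σ : R →+* R) (hσ : ∀ x, σ (σ x) = x)
    (ω : R) (hω : IsUnit (ω - σ ω)) (b : Rˣ) (hb' : σ (b : R) * b = 1) :
    ∃ c : Rˣ, (b : R) * σ (c : R) = c := by
  obtain ⟨N0, hN0, hid⟩ := exists_idem (1 + (b : R))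
  obtain ⟨k, hk⟩ : ∃ k, k = N0 * Nat.card Rˣ := ⟨_, rfl⟩
  have hkpos : 0 < k := hk ▸ Nat.mul_pos hN0 Nat.card_pos
  obtain ⟨e, he⟩ : ∃ e, e = (1 + (b : R)) ^ k := ⟨_, rfl⟩
  have hee : e * e = e := by rw [he, hk, pow_mul, ← mul_pow, hid]
  have hse : σ e = e := by
    have h1 : σ (1 + (b : R)) = σ b * (1 + b) := by rw [map_add, map_one, mul_add, mul_one, hb', add_comm]
    have h2 : σ (b : R) ^ k = 1 := by
      have h3 : (Units.map σ.toMonoidHom b) ^ k = 1 := by rw [hk, mul_comm, pow_mul, pow_card_eq_one', one_pow]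
      exact congrArg Units.val h3
    rw [he, map_pow, h1, mul_pow, h2, one_mul]
  obtain ⟨ν, hν⟩ : ∃ ν, ν = (1 - e) * (1 + (b : R)) * σ ω := ⟨_, rfl⟩
  have hnil : IsNilpotent ν := ⟨k, by
    rw [hν, mul_pow, mul_pow, ← he, show (1 - e) ^ k = 1 - e from IsIdempotentElem.pow_eq
      (show IsIdempotentElem (1 - e) from IsIdempotentElem.one_sub hee) (by omega)]
    linear_combination (-σ ω ^ k) * hee⟩
  obtain ⟨w, hw⟩ := hnil.isUnit_add_left_of_commute hω (Commute.all _ _)
  obtain ⟨c, hc⟩ : ∃ c, c = (e + (1 - e) * ω) + b * σ (e + (1 - e) * ω) := ⟨_, rfl⟩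
  have hc2 : c = e * (1 + b) + (1 - e) * (w : R) := by
    rw [hc, hw, hν, map_add, map_mul, map_sub, map_one, hse]
    linear_combination (-(1 + (b : R)) * σ ω) * hee
  have hcb : b * σ c = c := by
    rw [hc, map_add, map_mul, hσ]
    linear_combination (e + (1 - e) * ω) * hb'
  have hinv : c * (e * (1 + (b : R)) ^ (k - 1) + (1 - e) * ((w⁻¹ : Rˣ) : R)) = 1 := by
    have h1 : (1 + (b : R)) * (1 + (b : R)) ^ (k - 1) = e := by
      rw [← pow_succ', Nat.sub_add_cancel hkpos, he]
    rw [hc2]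
    linear_combination (e * e) * h1 + (1 - e) * (1 - e) * w.mul_inv + (e + 2 - (1 + (b : R)) * ((w⁻¹ : Rˣ) : R) - (w : R) * (1 + (b : R)) ^ (k - 1)) * hee
  exact ⟨Units.mkOfMulEqOne c _ hinv, hcb⟩

/-- Hilbert 90 and surjectivity of the norm for a finite commutative ring with an involution. -/
theorem norm_surj {R : Type*} [CommRing R] [Finite R] (σ : R →+* R) (hσ : ∀ x, σ (σ x) = x)
    (ω : R) (hω : IsUnit (ω - σ ω)) (a : Rˣ) (ha : σ a = a) : ∃ b : Rˣ, σ b * b = (a : R) := by
  classical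
  let s : Rˣ →* Rˣ := Units.map σ.toMonoidHom
  let N : Rˣ →* Rˣ := MonoidHom.mk' (fun u => s u * u) fun u v => by simp only [map_mul]; exact mul_mul_mul_comm _ _ _ _
  let d : Rˣ →* Rˣ := MonoidHom.mk' (fun u => u * (s u)⁻¹) fun u v => by
    simp only [map_mul, _root_.mul_inv_rev]; rw [mul_comm (s v)⁻¹, mul_mul_mul_comm]
  have hss : ∀ u, s (s u) = u := fun u => Units.ext (hσ u)
  have hH : ∀ u, u ∈ d.ker ↔ s u = u := fun u => by
    rw [MonoidHom.mem_ker]
    show u * (s u)⁻¹ = 1 ↔ _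
    rw [mul_inv_eq_one, eq_comm]
  have h90 : d.range = N.ker := by
    refine le_antisymm ?_ ?_
    · rintro _ ⟨u, rfl⟩
      show s (u * (s u)⁻¹) * (u * (s u)⁻¹) = 1
      rw [map_mul, map_inv, hss, mul_mul_mul_comm, mul_comm (s u) u, ← _root_.mul_inv_rev, mul_comm (s u) u,
        mul_inv_cancel]
    · intro b hb
      obtain ⟨c, hc⟩ := h90_exists σ hσ ω hω b (congrArg Units.val hb)
      refine ⟨c, Units.ext ?_⟩
      show (c : R) * ((s c)⁻¹ : Rˣ) = (b : R)
      rw [Units.mul_inv_eq_iff_eq_mul]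
      exact hc.symm
  have hle : N.range ≤ d.ker := by
    rintro _ ⟨u, rfl⟩
    rw [hH]
    show s (s u * u) = s u * u
    rw [map_mul, hss, mul_comm]
  have hcard : Nat.card d.ker ≤ Nat.card N.range := by
    have h1 := N.ker.card_mul_index
    have h2 := d.ker.card_mul_index
    rw [Subgroup.index_ker] at h1 h2
    rw [h90] at h2
    refine le_of_eq (Nat.eq_of_mul_eq_mul_right (Nat.card_pos (α := N.ker)) ?_)
    rw [h2, mul_comm, h1]
  have hmem : a ∈ N.range := by
    rw [Subgroup.eq_of_le_of_card_ge hle hcard, hH]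
    exact Units.ext ha
  obtain ⟨b, hb⟩ := hmem
  exact ⟨b, congrArg Units.val hb⟩

variable {K : Type*} [Field K] [Fintype K] {q n : ℕ} (hK : Fintype.card K = q ^ 2)

/-- conjugate transpose -/
def S (X : Matrix (Fin n) (Fin n) K) : Matrix (Fin n) (Fin n) K := (X.map (Herm.conj hK))ᵀ

theorem S_mul (X Y : Matrix (Fin n) (Fin n) K) : S hK (X * Y) = S hK Y * S hK X := by
  rw [S, Matrix.map_mul, Matrix.transpose_mul]; rfl

theorem S_S (X : Matrix (Fin n) (Fin n) K) : S hK (S hK X) = X := by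
  ext i j; exact Herm.conj_conj hK _

theorem S_one : S hK (1 : Matrix (Fin n) (Fin n) K) = 1 := by
  rw [S, Matrix.map_one _ (map_zero _) (map_one _), Matrix.transpose_one]

theorem mem_GU_iff (g : GL (Fin n) K) : g ∈ Cfsg.GU n K q ↔ S hK (g : Matrix (Fin n) (Fin n) K) * g = 1 := by
  constructor
  · intro h
    have h0 : (g : Matrix (Fin n) (Fin n) K)ᵀ * (g : Matrix (Fin n) (Fin n) K).map (Herm.conj hK) = 1 :=
      Unitary.transpose_mul_conj hK h
    have h1 := congrArg (fun X : Matrix (Fin n) (Fin n) K => X.map (Herm.conj hK)) h0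
    rw [Matrix.map_mul, Matrix.map_one _ (map_zero _) (map_one _)] at h1
    have h2 : (((g : Matrix (Fin n) (Fin n) K).map (Herm.conj hK)).map (Herm.conj hK)) = (g : Matrix (Fin n) (Fin n) K) := by
      ext i j; exact Herm.conj_conj hK _
    rw [h2, Matrix.transpose_map] at h1
    exact h1
  · intro h
    rw [Herm.mem_GU]
    intro u v
    have hh : (g : Matrix (Fin n) (Fin n) K)ᵀ * (g : Matrix (Fin n) (Fin n) K).map (Herm.conj hK) = 1 := by
      have h1 := congrArg (fun X : Matrix (Fin n) (Fin n) K => X.map (Herm.conj hK)) h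
      rw [Matrix.map_mul, Matrix.map_one _ (map_zero _) (map_one _)] at h1
      refine Eq.trans ?_ h1
      congr 1
      ext i j
      exact (Herm.conj_conj hK _).symm
    have e : ∀ u v : Fin n → K, Cfsg.hermForm n K q u v = u ⬝ᵥ (Herm.conj hK ∘ v) := fun u v => rfl
    have em : ∀ (M : Matrix (Fin n) (Fin n) K), Herm.conj hK ∘ (M *ᵥ v) = M.map (Herm.conj hK) *ᵥ (Herm.conj hK ∘ v) :=
      fun M => funext fun i => RingHom.map_mulVec (Herm.conj hK) M v i
    rw [e, e, em]
    rw [Matrix.dotProduct_mulVec, ← Matrix.vecMul_transpose, Matrix.vecMul_vecMul, hh, Matrix.vecMul_one]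

include hK in
theorem isConj_iff' (A B : Cfsg.GU n K q) :
    IsConj A B ↔ IsConj (A : GL (Fin n) K) (B : GL (Fin n) K) := by
  classical
  refine ⟨fun h => MonoidHom.map_isConj (Cfsg.GU n K q).subtype h, fun h => ?_⟩
  obtain ⟨x, hx⟩ := isConj_iff.1 h
  obtain ⟨g, hg⟩ : ∃ g : Matrix (Fin n) (Fin n) K, g = (A : GL (Fin n) K) := ⟨_, rfl⟩
  obtain ⟨h', hh'⟩ : ∃ h' : Matrix (Fin n) (Fin n) K, h' = (B : GL (Fin n) K) := ⟨_, rfl⟩
  have hgS : S hK g * g = 1 := hg ▸ (mem_GU_iff hK _).1 A.2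
  have hhS : S hK h' * h' = 1 := hh' ▸ (mem_GU_iff hK _).1 B.2
  have hxg : (x : Matrix (Fin n) (Fin n) K) * g = h' * x := by
    rw [hg, hh', ← Units.val_mul, ← Units.val_mul, ← hx, inv_mul_cancel_right]
  obtain ⟨a, ha⟩ : ∃ a, a = S hK (x : Matrix (Fin n) (Fin n) K) * x := ⟨_, rfl⟩
  have hag : a * g = g * a := by
    have h2 : S hK g * S hK (x : Matrix (Fin n) (Fin n) K) = S hK (x : Matrix (Fin n) (Fin n) K) * S hK h' := by
      rw [← S_mul, hxg, S_mul]
    have h3 : g * S hK g = 1 := mul_eq_one_comm.1 hgS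
    calc a * g = 1 * (S hK (x : Matrix (Fin n) (Fin n) K) * (x * g)) := by rw [one_mul, ha, mul_assoc]
      _ = g * (S hK g * S hK (x : Matrix (Fin n) (Fin n) K)) * (h' * x) := by
        rw [← h3, hxg]; simp only [mul_assoc]
      _ = g * (S hK (x : Matrix (Fin n) (Fin n) K) * (S hK h' * h') * x) := by
        rw [h2]; simp only [mul_assoc]
      _ = g * a := by rw [hhS, mul_one, ha]
  have haS : S hK a = a := by rw [ha, S_mul, S_S]
  let R := Algebra.adjoin K ({a} : Set (Matrix (Fin n) (Fin n) K))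
  letI : CommRing R :=
    { (inferInstance : Ring R) with
      mul_comm := (Algebra.isMulCommutative_adjoin_singleton (R := K) a).is_comm.comm }
  have hR : ∀ X ∈ R, S hK X ∈ R ∧ X * g = g * X := by
    intro X hX
    induction hX using Algebra.adjoin_induction with
    | mem X hX => obtain rfl := hX; exact ⟨haS.symm ▸ Algebra.self_mem_adjoin_singleton K X, hag⟩
    | algebraMap c =>
      refine ⟨?_, (Algebra.commutes c g)⟩
      have : S hK (algebraMap K (Matrix (Fin n) (Fin n) K) c) = algebraMap K _ (Herm.conj hK c) := by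
        rw [S, Algebra.algebraMap_eq_smul_one, Algebra.algebraMap_eq_smul_one, Matrix.smul_one_eq_diagonal,
          Matrix.smul_one_eq_diagonal, Matrix.diagonal_map (map_zero _), Matrix.diagonal_transpose]
      rw [this]
      exact R.algebraMap_mem _
    | add X Y _ _ h1 h2 =>
      refine ⟨?_, by rw [add_mul, mul_add, h1.2, h2.2]⟩
      rw [S, Matrix.map_add _ (map_add _), Matrix.transpose_add]
      exact R.add_mem h1.1 h2.1
    | mul X Y _ _ h1 h2 =>
      exact ⟨by rw [S_mul]; exact R.mul_mem h2.1 h1.1, by rw [mul_assoc, h2.2, ← mul_assoc, h1.2, mul_assoc]⟩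
  let σ : R →+* R :=
    { toFun := fun X => ⟨S hK X.1, (hR X.1 X.2).1⟩
      map_one' := Subtype.ext (S_one hK)
      map_mul' := fun X Y => Subtype.ext (by
        show S hK (X.1 * Y.1) = S hK X.1 * S hK Y.1
        rw [S_mul]
        exact congrArg Subtype.val (mul_comm (⟨_, (hR Y.1 Y.2).1⟩ : R) ⟨_, (hR X.1 X.2).1⟩))
      map_zero' := Subtype.ext (by
        show S hK 0 = 0
        rw [S, Matrix.map_zero _ (map_zero _), Matrix.transpose_zero])
      map_add' := fun X Y => Subtype.ext (by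
        show S hK (X.1 + Y.1) = S hK X.1 + S hK Y.1
        rw [S, Matrix.map_add _ (map_add _), Matrix.transpose_add]; rfl) }
  obtain ⟨θ, hθ⟩ : ∃ θ : K, θ - Herm.conj hK θ ≠ 0 := by
    by_contra hno
    push Not at hno
    exact Herm.conj_ne_id hK (RingHom.ext fun z => (sub_eq_zero.1 (hno z)).symm)
  have hau : IsUnit (⟨a, Algebra.self_mem_adjoin_singleton K a⟩ : R) := by
    have hinj : Function.Injective fun r : R => (⟨a, Algebra.self_mem_adjoin_singleton K a⟩ : R) * r := by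
      intro r t hrt
      have hu : IsUnit a := by
        rw [ha]
        refine IsUnit.mul ?_ x.isUnit
        exact IsUnit.of_mul_eq_one (S hK ((x⁻¹ : GL (Fin n) K) : Matrix (Fin n) (Fin n) K)) (by
          rw [← S_mul, ← Units.val_mul, inv_mul_cancel, Units.val_one, S_one])
      exact Subtype.ext (hu.mul_left_cancel (congrArg Subtype.val hrt))
    haveI : Finite R := Subtype.finite
    obtain ⟨r, hr⟩ := Finite.surjective_of_injective hinj 1
    exact IsUnit.of_mul_eq_one r hr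
  have hω : IsUnit (algebraMap K R θ - σ (algebraMap K R θ)) := by
    have h1 : σ (algebraMap K R θ) = algebraMap K R (Herm.conj hK θ) := Subtype.ext (by
      show S hK (algebraMap K (Matrix (Fin n) (Fin n) K) θ) = algebraMap K _ (Herm.conj hK θ)
      rw [S, Algebra.algebraMap_eq_smul_one, Algebra.algebraMap_eq_smul_one, Matrix.smul_one_eq_diagonal,
        Matrix.smul_one_eq_diagonal, Matrix.diagonal_map (map_zero _), Matrix.diagonal_transpose]
      skip)
    rw [h1, ← map_sub]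
    exact (isUnit_iff_ne_zero.2 hθ).map _
  haveI : Finite R := Subtype.finite
  obtain ⟨y, hy⟩ := norm_surj σ (fun X => Subtype.ext (S_S hK X.1)) _ hω hau.unit (Subtype.ext haS)
  have hy' : S hK ((y : R) : Matrix (Fin n) (Fin n) K) * ((y : R) : Matrix (Fin n) (Fin n) K) = a :=
    congrArg Subtype.val hy
  let Y : GL (Fin n) K := Units.map R.val.toRingHom.toMonoidHom y
  have hYv : (Y : Matrix (Fin n) (Fin n) K) = ((y : R) : Matrix (Fin n) (Fin n) K) := rfl
  have hYg : Y * (A : GL (Fin n) K) = (A : GL (Fin n) K) * Y := Units.ext (by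
    rw [Units.val_mul, Units.val_mul, hYv, ← hg]; exact (hR _ (y : R).2).2)
  have hu : x * Y⁻¹ ∈ Cfsg.GU n K q := by
    rw [mem_GU_iff hK, Units.val_mul, S_mul, mul_assoc, ← mul_assoc (S hK (x : Matrix (Fin n) (Fin n) K)), ← ha,
      ← hy', ← hYv, mul_assoc (S hK (Y : Matrix (Fin n) (Fin n) K)), ← Units.val_mul, mul_inv_cancel, Units.val_one,
      mul_one, ← S_mul, ← Units.val_mul, mul_inv_cancel, Units.val_one, S_one]
  refine isConj_iff.2 ⟨⟨_, hu⟩, Subtype.ext ?_⟩
  show x * Y⁻¹ * (A : GL (Fin n) K) * (x * Y⁻¹)⁻¹ = B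
  rw [← hx, _root_.mul_inv_rev, inv_inv]
  calc x * Y⁻¹ * (A : GL (Fin n) K) * (Y * x⁻¹) = x * Y⁻¹ * ((A : GL (Fin n) K) * Y) * x⁻¹ := by group
    _ = x * (A : GL (Fin n) K) * x⁻¹ := by rw [← hYg]; group

include hK in
theorem exists_hermitian_sqrt (M : GL (Fin n) K) (hM : S hK (M : Matrix (Fin n) (Fin n) K) = M) :
    ∃ x : GL (Fin n) K, S hK (x : Matrix (Fin n) (Fin n) K) * x = M := by
  classical
  let B : (Fin n → K) →ₛₗ[Herm.conj hK] (Fin n → K) →ₗ[K] K :=
    LinearMap.mk₂'ₛₗ (Herm.conj hK) (RingHom.id K)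
      (fun u v => (Herm.conj hK ∘ u) ⬝ᵥ ((M : Matrix (Fin n) (Fin n) K) *ᵥ v))
      (fun a b v => by simp [Matrix.mulVec, dotProduct, add_mul, Finset.sum_add_distrib, map_add, Herm.add_pow_q hK])
      (fun c u v => by simp [dotProduct, mul_assoc, mul_pow, Finset.mul_sum])
      (fun u a b => by simp [Matrix.mulVec_add, dotProduct_add])
      (fun c u v => by simp [Matrix.mulVec_smul, dotProduct_smul])
  have hent : ∀ i j, Herm.conj hK ((M : Matrix (Fin n) (Fin n) K) i j) = (M : Matrix (Fin n) (Fin n) K) j i :=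
    fun i j => congrFun (congrFun hM j) i
  have hBv : ∀ u v, B u v = ∑ i, ∑ j, Herm.conj hK (u i) * ((M : Matrix (Fin n) (Fin n) K) i j * v j) := fun u v => by
    show (Herm.conj hK ∘ u) ⬝ᵥ ((M : Matrix (Fin n) (Fin n) K) *ᵥ v) = _
    simp only [dotProduct, Matrix.mulVec, Function.comp, Finset.mul_sum]
  have hS' : ∀ u v, Herm.conj hK (B u v) = B v u := by
    intro u v
    rw [hBv, hBv, map_sum, Finset.sum_comm]
    refine Finset.sum_congr rfl fun i _ => ?_
    rw [map_sum]
    refine Finset.sum_congr rfl fun j _ => ?_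
    rw [map_mul, map_mul, Herm.conj_conj hK, hent]
    ring
  have hsep : B.SeparatingLeft := by
    intro u hu
    have h2 : (Herm.conj hK ∘ u) ᵥ* (M : Matrix (Fin n) (Fin n) K) = 0 := funext fun j => by
      have h := hu (Pi.single j 1)
      change (Herm.conj hK ∘ u) ⬝ᵥ ((M : Matrix (Fin n) (Fin n) K) *ᵥ Pi.single j 1) = 0 at h
      rw [Matrix.dotProduct_mulVec, dotProduct_single_one] at h
      exact h
    have h3 := congrArg (fun w => w ᵥ* ((M⁻¹ : GL (Fin n) K) : Matrix (Fin n) (Fin n) K)) h2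
    simp only [Matrix.vecMul_vecMul, ← Units.val_mul, mul_inv_cancel, Units.val_one, Matrix.vecMul_one, Matrix.zero_vecMul] at h3
    funext i
    have h4 := congrArg (Herm.conj hK) (congrFun h3 i)
    rw [Pi.zero_apply, map_zero, Function.comp_apply, Herm.conj_conj hK] at h4
    exact h4
  have hσne : ∃ c, Herm.conj hK c ≠ c := by
    by_contra h
    push Not at h
    exact Herm.conj_ne_id hK (RingHom.ext h)
  obtain ⟨e, he⟩ := OrthBasis.exists_orthonormal B hS' hsep (OrthBasis.hpol_herm B hσne hS')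
    (fun c hc0 hc => by obtain ⟨a, -, ha⟩ := Herm.exists_norm hK c hc0 hc; exact ⟨a, ha⟩) n
    (le_of_eq (Module.finrank_fin_fun K).symm)
  obtain ⟨E, hE⟩ : ∃ E : Matrix (Fin n) (Fin n) K, E = Matrix.of fun i j => e j i := ⟨_, rfl⟩
  have h1 : S hK E * (M : Matrix (Fin n) (Fin n) K) * E = 1 := by
    ext i j
    rw [Matrix.one_apply, ← he i j, hBv, hE, mul_assoc, Matrix.mul_apply]
    refine Finset.sum_congr rfl fun k _ => ?_
    rw [Matrix.mul_apply, Finset.mul_sum]
    rfl
  let EU : GL (Fin n) K := ⟨E, S hK E * (M : Matrix (Fin n) (Fin n) K), mul_eq_one_comm.1 h1, h1⟩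
  refine ⟨EU⁻¹, ?_⟩
  show S hK (S hK E * (M : Matrix (Fin n) (Fin n) K)) * (S hK E * (M : Matrix (Fin n) (Fin n) K)) = M
  rw [S_mul, S_S, hM, mul_assoc, ← mul_assoc E]
  rw [show (M : Matrix (Fin n) (Fin n) K) * (E * S hK E * (M : Matrix (Fin n) (Fin n) K)) =
    (M : Matrix (Fin n) (Fin n) K) * (E * (S hK E * (M : Matrix (Fin n) (Fin n) K))) by simp only [mul_assoc],
    mul_eq_one_comm.1 h1, mul_one]

include hK in
theorem exists_mem_GU_iff (A : GL (Fin n) K) : (∃ B : Cfsg.GU n K q, IsConj A (B : GL (Fin n) K)) ↔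
    IsConj (A : Matrix (Fin n) (Fin n) K) (S hK (A : Matrix (Fin n) (Fin n) K))⁻¹ := by
  classical
  have hSinv : ∀ x : GL (Fin n) K, S hK (x : Matrix (Fin n) (Fin n) K) * S hK ((x⁻¹ : GL (Fin n) K) : Matrix (Fin n) (Fin n) K) = 1 :=
    fun x => by rw [← S_mul, ← Units.val_mul, inv_mul_cancel, Units.val_one, S_one]
  let SU' : GL (Fin n) K → GL (Fin n) K := fun x => ⟨S hK (x : Matrix (Fin n) (Fin n) K),
    S hK ((x⁻¹ : GL (Fin n) K) : Matrix (Fin n) (Fin n) K), hSinv x, by
      rw [← S_mul, ← Units.val_mul, mul_inv_cancel, Units.val_one, S_one]⟩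
  have hm : ∀ x y : GL (Fin n) K, SU' (x * y) = SU' y * SU' x := fun x y => Units.ext (S_mul hK _ _)
  have hSS : ∀ x, SU' (SU' x) = x := fun x => Units.ext (S_S hK _)
  have h1' : SU' 1 = 1 := Units.ext (S_one hK)
  have hi : ∀ x, SU' x⁻¹ = (SU' x)⁻¹ := fun x => eq_inv_of_mul_eq_one_left (by rw [← hm, mul_inv_cancel, h1'])
  have hGU : ∀ g, g ∈ Cfsg.GU n K q ↔ SU' g * g = 1 := fun g => by
    rw [mem_GU_iff hK, Units.ext_iff]; rfl
  have hinv : (S hK (A : Matrix (Fin n) (Fin n) K))⁻¹ = ((SU' A)⁻¹ : GL (Fin n) K) := Matrix.inv_eq_right_inv (SU' A).mul_inv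
  rw [hinv]
  constructor
  · rintro ⟨⟨B, hB⟩, h⟩
    obtain ⟨x, hx⟩ := isConj_iff.1 h
    have hx' : x * A * x⁻¹ = B := hx
    have h2 := eq_inv_of_mul_eq_one_right ((hGU _).1 hB)
    rw [← hx', hm, hm, hi] at h2
    suffices hh : SU' x * x * A * (SU' x * x)⁻¹ = (SU' A)⁻¹ from
      MonoidHom.map_isConj (Units.coeHom (Matrix (Fin n) (Fin n) K)) (isConj_iff.2 ⟨SU' x * x, hh⟩)
    have h3 : x * A * x⁻¹ = SU' x⁻¹ * ((SU' A)⁻¹) * SU' x := by rw [h2, hi]; group
    calc SU' x * x * A * (SU' x * x)⁻¹ = SU' x * (x * A * x⁻¹) * (SU' x)⁻¹ := by group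
      _ = _ := by rw [h3, hi]; group
  · intro h
    obtain ⟨P, hP⟩ := h
    have hP' : P * A = (SU' A)⁻¹ * P := Units.ext hP
    obtain ⟨Z, hZ⟩ : ∃ Z, Z = P⁻¹ * SU' P := ⟨_, rfl⟩
    have hPA : SU' A * P * A = P := by rw [mul_assoc, hP', mul_inv_cancel_left]
    have hZA : Z * A = A * Z := by
      have h4 : SU' A * SU' P * A = SU' P := by
        have := congrArg SU' hPA
        rw [hm, hm, hSS] at this
        rw [mul_assoc]; exact this
      rw [hZ]
      calc P⁻¹ * SU' P * A = P⁻¹ * ((SU' A)⁻¹ * (SU' A * SU' P * A)) := by group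
        _ = P⁻¹ * (SU' A)⁻¹ * SU' P := by rw [h4]; group
        _ = (SU' A * P * A * A⁻¹)⁻¹ * SU' P := by group
        _ = A * (P⁻¹ * SU' P) := by rw [hPA]; group
    have hZS : P⁻¹ * SU' Z * P = Z⁻¹ := by
      rw [hZ, hm, hSS, hi]; group
    let R := Algebra.adjoin K ({((Z : GL (Fin n) K) : Matrix (Fin n) (Fin n) K)} : Set (Matrix (Fin n) (Fin n) K))
    letI : CommRing R :=
      { (inferInstance : Ring R) with
        mul_comm := (Algebra.isMulCommutative_adjoin_singleton (R := K) ((Z : GL (Fin n) K) : Matrix (Fin n) (Fin n) K)).is_comm.comm }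
    haveI : Finite R := Subtype.finite
    obtain ⟨zr, hzr⟩ : ∃ zr : R, zr = ⟨_, Algebra.self_mem_adjoin_singleton K _⟩ := ⟨_, rfl⟩
    obtain ⟨zi, hzi⟩ : ∃ zi : R, zr * zi = 1 := by
      refine Finite.surjective_of_injective (f := fun r : R => zr * r) (fun r t hrt => Subtype.ext ?_) 1
      have h5 := congrArg Subtype.val hrt
      rw [hzr] at h5
      exact Z.isUnit.mul_left_cancel h5
    have hzi' : (zi : Matrix (Fin n) (Fin n) K) = ((Z⁻¹ : GL (Fin n) K) : Matrix (Fin n) (Fin n) K) := by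
      refine Z.isUnit.mul_left_cancel ?_
      rw [← Units.val_mul, mul_inv_cancel, Units.val_one]
      have h5 := congrArg Subtype.val hzi
      rw [hzr] at h5
      exact h5
    obtain ⟨τ, hτd⟩ : ∃ τ : Matrix (Fin n) (Fin n) K → Matrix (Fin n) (Fin n) K,
        ∀ X, τ X = ((P⁻¹ : GL (Fin n) K) : Matrix (Fin n) (Fin n) K) * S hK X * (P : Matrix (Fin n) (Fin n) K) := ⟨_, fun _ => rfl⟩
    have hτmul : ∀ X Y, τ (X * Y) = τ Y * τ X := fun X Y => by
      rw [hτd, hτd, hτd, S_mul]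
      simp only [mul_assoc, ← mul_assoc (P : Matrix (Fin n) (Fin n) K), ← Units.val_mul, mul_inv_cancel, Units.val_one, one_mul]
    have hτadd : ∀ X Y, τ (X + Y) = τ X + τ Y := fun X Y => by
      rw [hτd, hτd, hτd, S, Matrix.map_add _ (map_add _), Matrix.transpose_add, mul_add, add_mul]; rfl
    have hτalg : ∀ c : K, τ (algebraMap K _ c) = algebraMap K _ (Herm.conj hK c) := fun c => by
      have : S hK (algebraMap K (Matrix (Fin n) (Fin n) K) c) = algebraMap K _ (Herm.conj hK c) := by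
        rw [S, Algebra.algebraMap_eq_smul_one, Algebra.algebraMap_eq_smul_one, Matrix.smul_one_eq_diagonal,
          Matrix.smul_one_eq_diagonal, Matrix.diagonal_map (map_zero _), Matrix.diagonal_transpose]
      rw [hτd, this, ← Algebra.commutes, mul_assoc, ← Units.val_mul, inv_mul_cancel, Units.val_one, mul_one]
    have hR : ∀ X ∈ R, τ X ∈ R ∧ τ (τ X) = X ∧ X * (A : Matrix (Fin n) (Fin n) K) = (A : Matrix (Fin n) (Fin n) K) * X := by
      intro X hX
      induction hX using Algebra.adjoin_induction with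
      | mem X hX =>
        obtain rfl := hX
        have e1 : τ ((Z : GL (Fin n) K) : Matrix (Fin n) (Fin n) K) = ((Z⁻¹ : GL (Fin n) K) : Matrix (Fin n) (Fin n) K) := by
          rw [hτd, ← hZS, Units.val_mul, Units.val_mul]
        refine ⟨e1 ▸ hzi' ▸ zi.2, ?_, by rw [← Units.val_mul, ← Units.val_mul, hZA]⟩
        rw [e1, hτd]
        show ((P⁻¹ : GL (Fin n) K) : Matrix (Fin n) (Fin n) K) * ((SU' Z⁻¹ : GL (Fin n) K) : Matrix (Fin n) (Fin n) K) * (P : Matrix (Fin n) (Fin n) K) = _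
        rw [← Units.val_mul, ← Units.val_mul, hi]
        congr 1
        calc P⁻¹ * (SU' Z)⁻¹ * P = (P⁻¹ * SU' Z * P)⁻¹ := by group
          _ = Z := by rw [hZS, inv_inv]
      | algebraMap c => exact ⟨by rw [hτalg]; exact R.algebraMap_mem _, by rw [hτalg, hτalg, Herm.conj_conj hK], Algebra.commutes c _⟩
      | add X Y _ _ h1 h2 => exact ⟨by rw [hτadd]; exact R.add_mem h1.1 h2.1, by rw [hτadd, hτadd, h1.2.1, h2.2.1],
          by rw [add_mul, mul_add, h1.2.2, h2.2.2]⟩
      | mul X Y _ _ h1 h2 => exact ⟨by rw [hτmul]; exact R.mul_mem h2.1 h1.1, by rw [hτmul, hτmul, h1.2.1, h2.2.1],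
          by rw [mul_assoc, h2.2.2, ← mul_assoc, h1.2.2, mul_assoc]⟩
    let σ : R →+* R :=
      { toFun := fun X => ⟨τ X.1, (hR X.1 X.2).1⟩
        map_one' := Subtype.ext (by
          show τ 1 = 1
          have := hτalg 1
          rwa [map_one, map_one, map_one] at this)
        map_mul' := fun X Y => Subtype.ext (by
          show τ (X.1 * Y.1) = τ X.1 * τ Y.1
          rw [hτmul]
          exact congrArg Subtype.val (mul_comm (⟨_, (hR Y.1 Y.2).1⟩ : R) ⟨_, (hR X.1 X.2).1⟩))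
        map_zero' := Subtype.ext (by
          show τ 0 = 0
          have := hτalg 0
          rwa [map_zero, map_zero, map_zero] at this)
        map_add' := fun X Y => Subtype.ext (hτadd _ _) }
    obtain ⟨θ, hθ⟩ : ∃ θ : K, θ - Herm.conj hK θ ≠ 0 := by
      by_contra hno
      push Not at hno
      exact Herm.conj_ne_id hK (RingHom.ext fun z => (sub_eq_zero.1 (hno z)).symm)
    have hω : IsUnit (algebraMap K R θ - σ (algebraMap K R θ)) := by
      have h1 : σ (algebraMap K R θ) = algebraMap K R (Herm.conj hK θ) := Subtype.ext (hτalg θ)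
      rw [h1, ← map_sub]
      exact (isUnit_iff_ne_zero.2 hθ).map _
    have hσz : σ zr * zr = 1 := Subtype.ext (by
      show τ (zr : Matrix (Fin n) (Fin n) K) * (zr : Matrix (Fin n) (Fin n) K) = 1
      rw [hzr]
      show τ ((Z : GL (Fin n) K) : Matrix (Fin n) (Fin n) K) * _ = 1
      rw [hτd, show ((P⁻¹ : GL (Fin n) K) : Matrix (Fin n) (Fin n) K) * S hK ((Z : GL (Fin n) K) : Matrix (Fin n) (Fin n) K) *
        (P : Matrix (Fin n) (Fin n) K) = ((P⁻¹ * SU' Z * P : GL (Fin n) K) : Matrix (Fin n) (Fin n) K) from rfl, hZS,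
        ← Units.val_mul, inv_mul_cancel, Units.val_one])
    obtain ⟨c, hc⟩ := h90_exists σ (fun X => Subtype.ext (hR X.1 X.2).2.1) _ hω
      (Units.mkOfMulEqOne zr zi hzi) hσz
    obtain ⟨C, hC⟩ : ∃ C : GL (Fin n) K, (C : Matrix (Fin n) (Fin n) K) = ((c : R) : Matrix (Fin n) (Fin n) K) :=
      ⟨Units.map R.val.toRingHom.toMonoidHom c, rfl⟩
    have hc2 : Z * (P⁻¹ * SU' C * P) = C := Units.ext (by
      have h6 := congrArg Subtype.val hc
      rw [hC, Units.val_mul, Units.val_mul, Units.val_mul]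
      rw [Units.val_mkOfMulEqOne, hzr] at h6
      change ((Z : GL (Fin n) K) : Matrix (Fin n) (Fin n) K) * τ ((c : R) : Matrix (Fin n) (Fin n) K) = _ at h6
      rw [hτd, ← hC] at h6
      rw [← hC]
      exact h6)
    have hCA : C * A = A * C := Units.ext (by
      rw [Units.val_mul, Units.val_mul, hC]; exact (hR _ (c : R).2).2.2)
    have hM : SU' (P * C) = P * C := by
      have h7 : SU' C * P = P * Z⁻¹ * C := by
        calc SU' C * P = P * Z⁻¹ * (Z * (P⁻¹ * SU' C * P)) := by group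
          _ = P * Z⁻¹ * C := by rw [hc2]
      have hcz : Commute C Z := Units.ext (by
        rw [Units.val_mul, Units.val_mul, hC]
        exact congrArg Subtype.val (mul_comm (c : R) ⟨_, Algebra.self_mem_adjoin_singleton K _⟩))
      rw [hm]
      calc SU' C * SU' P = SU' C * P * Z := by rw [hZ]; group
        _ = P * Z⁻¹ * (C * Z) := by rw [h7]; group
        _ = P * C := by rw [hcz.eq]; group
    obtain ⟨x, hx⟩ := exists_hermitian_sqrt hK (P * C) (congrArg Units.val hM)
    have hx' : SU' x * x = P * C := Units.ext hx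
    refine ⟨⟨x * A * x⁻¹, (hGU _).2 ?_⟩, isConj_iff.2 ⟨x, rfl⟩⟩
    rw [hm, hm, hi]
    calc (SU' x)⁻¹ * (SU' A * SU' x) * (x * A * x⁻¹) = (SU' x)⁻¹ * (SU' A * (SU' x * x) * A) * x⁻¹ := by group
      _ = (SU' x)⁻¹ * (SU' A * P * A * C) * x⁻¹ := by rw [hx']; simp only [mul_assoc, hCA]
      _ = 1 := by rw [hPA, ← hx']; group

end CfsgLib.Lie.UnitaryConj
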