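import Cfsg.Agent.Misc.JordanClasses
import Cfsg.Agent.Lie.UnitaryConj

/-!
Classes of elements of order p in the general unitary group.
-/

set_option autoImplicit false
set_option linter.unusedSectionVars false
set_option linter.unusedSimpArgs false

namespace CfsgLib.Lie.GUOrderPClasses

open Matrix CfsgLib.MiscJordan CfsgLib.Lie.NilType

universe u

variable {K : Type u} [Field K] [Fintype K] {n : ℕ}

theorem rank_map_ringEquiv (σ : K ≃+* K) (X : Matrix (Fin n) (Fin n) K) : (X.map σ).rank = X.rank := by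
  classical
  have key : ∀ v : Fin n → K, (X.map σ) *ᵥ (σ ∘ v) = σ ∘ (X *ᵥ v) := fun v => funext fun i =>
    (RingHom.map_mulVec σ.toRingHom X v i).symm
  let E : LinearMap.range X.mulVecLin ≃ LinearMap.range (X.map σ).mulVecLin :=
    Equiv.subtypeEquiv (Equiv.piCongrRight fun _ => σ.toEquiv) fun w => by
      constructor
      · rintro ⟨v, rfl⟩
        exact ⟨σ ∘ v, key v⟩
      · rintro ⟨v, hv⟩
        refine ⟨σ.symm ∘ v, funext fun i => σ.injective ?_⟩
        have h2 := congrFun (key (σ.symm ∘ v)) i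
        rw [show σ ∘ (σ.symm ∘ v) = v from funext fun j => σ.apply_symm_apply _] at h2
        exact (h2.symm.trans (congrFun hv i))
  have h := Nat.card_congr E
  rw [Module.natCard_eq_pow_finrank (K := K) (V := LinearMap.range X.mulVecLin),
    Module.natCard_eq_pow_finrank (K := K) (V := LinearMap.range (X.map σ).mulVecLin)] at h
  exact (Nat.pow_right_injective (show 2 ≤ Nat.card K from Finite.one_lt_card) h).symm

variable {p : ℕ} [Fact p.Prime] [CharP K p]

theorem isConj_of_rank {g h : GL (Fin n) K} {k : ℕ} (hg : g ^ (p ^ k) = 1) (hh : h ^ (p ^ k) = 1)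
    (hr : ∀ j, (((g : Matrix (Fin n) (Fin n) K) - 1) ^ j).rank = (((h : Matrix (Fin n) (Fin n) K) - 1) ^ j).rank) :
    IsConj g h := by
  classical
  obtain ⟨m, L, e, he, -⟩ := exists_type hg
  obtain ⟨m', L', e', he', -⟩ := exists_type hh
  refine conj_of_parts e he e' he' (parts_eq (F := K) fun j => ?_)
  rw [rk_conj e he, rk_conj e' he']
  have hrk : ∀ X : Matrix (Fin n) (Fin n) K, rk (Matrix.toLinAlgEquiv' X) ⊤ j = (X ^ j).rank := fun X => by
    rw [rk, ← map_pow, Submodule.map_top]; rfl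
  rw [hrk, hrk, hr]

variable {q : ℕ} (hK : Fintype.card K = q ^ 2)

include hK in
theorem exists_rep (g : GL (Fin n) K) {k : ℕ} (hg : g ^ (p ^ k) = 1) :
    ∃ B : Cfsg.GU n K q, IsConj g (B : GL (Fin n) K) := by
  classical
  refine (UnitaryConj.exists_mem_GU_iff hK g).2 ?_
  obtain ⟨σ, hσ⟩ : ∃ σ : K ≃+* K, ∀ x, σ x = Herm.conj hK x :=
    ⟨RingEquiv.ofBijective (Herm.conj hK) ⟨(Herm.conj hK).injective, fun a => ⟨_, Herm.conj_conj hK a⟩⟩, fun _ => rfl⟩
  let h : GL (Fin n) K := ⟨UnitaryConj.S hK ((g⁻¹ : GL (Fin n) K) : Matrix (Fin n) (Fin n) K),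
    UnitaryConj.S hK (g : Matrix (Fin n) (Fin n) K),
    by rw [← UnitaryConj.S_mul, ← Units.val_mul, mul_inv_cancel, Units.val_one, UnitaryConj.S_one],
    by rw [← UnitaryConj.S_mul, ← Units.val_mul, inv_mul_cancel, Units.val_one, UnitaryConj.S_one]⟩
  have hval : (h : Matrix (Fin n) (Fin n) K) = UnitaryConj.S hK ((g⁻¹ : GL (Fin n) K) : Matrix (Fin n) (Fin n) K) := rfl
  have hinv : (UnitaryConj.S hK (g : Matrix (Fin n) (Fin n) K))⁻¹ = (h : Matrix (Fin n) (Fin n) K) :=
    Matrix.inv_eq_right_inv h.inv_mul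
  have hSpow : ∀ (X : Matrix (Fin n) (Fin n) K) (j : ℕ), UnitaryConj.S hK X ^ j = UnitaryConj.S hK (X ^ j) := fun X j => by
    induction j with
    | zero => rw [pow_zero, pow_zero, UnitaryConj.S_one]
    | succ j ih => rw [pow_succ, ih, ← UnitaryConj.S_mul, ← pow_succ']
  have hh : h ^ (p ^ k) = 1 := Units.ext (by
    rw [Units.val_pow_eq_pow_val, hval, hSpow, ← Units.val_pow_eq_pow_val, inv_pow, hg, inv_one, Units.val_one,
      UnitaryConj.S_one])
  rw [hinv]
  refine MonoidHom.map_isConj (Units.coeHom (Matrix (Fin n) (Fin n) K)) (isConj_of_rank hg hh fun j => ?_)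
  have e : (h : Matrix (Fin n) (Fin n) K) - 1 =
      (h : Matrix (Fin n) (Fin n) K) * -(UnitaryConj.S hK ((g : Matrix (Fin n) (Fin n) K) - 1)) := by
    rw [show UnitaryConj.S hK ((g : Matrix (Fin n) (Fin n) K) - 1) = UnitaryConj.S hK (g : Matrix (Fin n) (Fin n) K) - 1 by
      simp only [UnitaryConj.S]
      rw [Matrix.map_sub _ (map_sub _), Matrix.transpose_sub, Matrix.map_one _ (map_zero _) (map_one _), Matrix.transpose_one],
      neg_sub, mul_sub, mul_one]
    rw [show (h : Matrix (Fin n) (Fin n) K) * UnitaryConj.S hK (g : Matrix (Fin n) (Fin n) K) = 1 from h.mul_inv]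
  have hc : Commute (h : Matrix (Fin n) (Fin n) K) (-(UnitaryConj.S hK ((g : Matrix (Fin n) (Fin n) K) - 1))) := by
    refine Commute.neg_right ?_
    rw [hval]
    show _ * _ = _ * _
    rw [← UnitaryConj.S_mul, ← UnitaryConj.S_mul, sub_mul, mul_sub, ← Units.val_mul, ← Units.val_mul, one_mul, mul_one,
      mul_inv_cancel, inv_mul_cancel]
  rw [e, hc.mul_pow, Matrix.rank_mul_eq_right_of_isUnit_det _ _ ((Matrix.isUnit_iff_isUnit_det _).1 (h.isUnit.pow j)),
    neg_pow, show ((-1 : Matrix (Fin n) (Fin n) K) ^ j) = ((-1 : GL (Fin n) K) ^ j : GL (Fin n) K) by simp,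
    Matrix.rank_mul_eq_right_of_isUnit_det _ _ ((Matrix.isUnit_iff_isUnit_det _).1 (Units.isUnit _)), hSpow]
  show _ = (((((g : Matrix (Fin n) (Fin n) K) - 1) ^ j).map (Herm.conj hK))ᵀ).rank
  rw [Matrix.rank_transpose, ← rank_map_ringEquiv σ]
  congr 1
  ext i l
  simp only [Matrix.map_apply, hσ]

include hK in
theorem card_order_p :
    Nat.card {C : ConjClasses ↥(Cfsg.GU n K q) // ∃ g : ↥(Cfsg.GU n K q), ConjClasses.mk g = C ∧ orderOf g = p} =
      (Finset.univ.filter (fun μ : Nat.Partition n => ∀ a ∈ μ.parts, a ≤ p)).card - 1 := by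
  classical
  rw [← card_order_p_classes (F := K) (p := p) n]
  let f : {C : ConjClasses ↥(Cfsg.GU n K q) // ∃ g : ↥(Cfsg.GU n K q), ConjClasses.mk g = C ∧ orderOf g = p} →
      {C : ConjClasses (GL (Fin n) K) // ∃ g : GL (Fin n) K, ConjClasses.mk g = C ∧ orderOf g = p} := fun C =>
    ⟨ConjClasses.mk (C.2.choose : GL (Fin n) K), _, rfl, by rw [Subgroup.orderOf_coe]; exact C.2.choose_spec.2⟩
  refine Nat.card_eq_of_bijective f ⟨fun C D e => ?_, ?_⟩
  · refine Subtype.ext ?_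
    rw [← C.2.choose_spec.1, ← D.2.choose_spec.1]
    exact ConjClasses.mk_eq_mk_iff_isConj.2 ((UnitaryConj.isConj_iff' hK _ _).2
      (ConjClasses.mk_eq_mk_iff_isConj.1 (congrArg Subtype.val e)))
  · rintro ⟨-, g, rfl, hg⟩
    obtain ⟨B, hB⟩ := exists_rep hK g (p := p) (k := 1) (by rw [pow_one, ← hg, pow_orderOf_eq_one])
    obtain ⟨c, hc⟩ := isConj_iff.1 hB
    have hBo : orderOf B = p := by
      rw [← Subgroup.orderOf_coe, ← hc, ← MulAut.conj_apply, MulEquiv.orderOf_eq, hg]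
    have hex : ∃ b, ConjClasses.mk b = ConjClasses.mk B ∧ orderOf b = p := ⟨B, rfl, hBo⟩
    refine ⟨⟨ConjClasses.mk B, hex⟩, Subtype.ext (ConjClasses.mk_eq_mk_iff_isConj.2 ?_)⟩
    exact ((UnitaryConj.isConj_iff' hK _ _).1 (ConjClasses.mk_eq_mk_iff_isConj.1 hex.choose_spec.1)).trans hB.symm

end CfsgLib.Lie.GUOrderPClasses
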