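import Cfsg.Agent.Lie.UnitaryConj

/-!
Elements of GU moved to scalar multiples by a field automorphism of odd prime order.
-/

set_option autoImplicit false
set_option linter.unusedSectionVars false

namespace CfsgLib.Lie.GUTwistFix

open Matrix

variable {K : Type*} [Field K] [Fintype K]

set_option maxHeartbeats 800000 in
theorem card_twist {q₀ q r n : ℕ} (hr : r.Prime) (hr2 : r ≠ 2) (hn : 1 ≤ n) (hq : q = q₀ ^ r)
    (hK : Fintype.card K = q ^ 2) (σ : K ≃+* K) (hσ : orderOf σ = r) :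
    (Nat.card {g : ↥(Cfsg.GU n K q) // ∃ c : K, c ≠ 0 ∧
      ((g : GL (Fin n) K) : Matrix (Fin n) (Fin n) K).map σ = c • ((g : GL (Fin n) K) : Matrix (Fin n) (Fin n) K)} : ℤ) =
      ((q + 1) / (q₀ + 1) : ℕ) * ((q₀ : ℤ) ^ (n * (n - 1) / 2) *
        ∏ i : Fin n, ((q₀ : ℤ) ^ ((i : ℕ) + 1) - (-1) ^ ((i : ℕ) + 1))) := by
  classical
  let H := Subgroup.zpowers σ
  haveI : Finite (K ≃+* K) := Finite.of_injective (fun e : K ≃+* K => (e : K → K)) DFunLike.coe_injective
  haveI : Fintype H := Fintype.ofFinite H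
  let F₀ := FixedPoints.subfield H K
  have hmem : ∀ x : K, x ∈ F₀ ↔ σ x = x := by
    intro x
    constructor
    · intro h; exact h ⟨σ, Subgroup.mem_zpowers σ⟩
    · intro h g
      obtain ⟨k, hk⟩ := g.2
      have h1 : σ ∈ MulAction.stabilizer (K ≃+* K) x := h
      exact (hk ▸ Subgroup.zpow_mem _ h1 k : (g : K ≃+* K) ∈ MulAction.stabilizer (K ≃+* K) x)
  have hK0 : Fintype.card F₀ = q₀ ^ 2 := by
    have h1 : Module.finrank F₀ K = r := by
      rw [FixedPoints.finrank_eq_card H K, ← Nat.card_eq_fintype_card, Nat.card_zpowers, hσ]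
    have h2 := Module.card_eq_pow_finrank (K := F₀) (V := K)
    rw [h1, hK, hq, ← pow_mul, mul_comm r 2, pow_mul] at h2
    exact (Nat.pow_left_injective hr.pos.ne' h2).symm
  have hodd : Odd r := hr.odd_of_ne_two hr2
  have hqx : ∀ x : K, x ∈ F₀ → x ^ q = x ^ q₀ := by
    intro x hx
    obtain ⟨t, ht⟩ := hodd
    have h1 : x ^ (q₀ ^ 2) = x := by
      have := congrArg Subtype.val (FiniteField.pow_card (⟨x, hx⟩ : F₀))
      rwa [hK0] at this
    have h2 : ∀ j, x ^ ((q₀ ^ 2) ^ j) = x := fun j => by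
      induction j with
      | zero => rw [pow_zero, pow_one]
      | succ j ih => rw [pow_succ, pow_mul, ih, h1]
    rw [hq, ht, pow_succ, pow_mul q₀, pow_mul, h2]
  -- isometries over the subfield are isometries
  have hS : ∀ M : Matrix (Fin n) (Fin n) F₀, UnitaryConj.S hK (M.map F₀.subtype) = (UnitaryConj.S hK0 M).map F₀.subtype := by
    intro M
    ext i j
    exact hqx _ (M j i).2
  let ι : GL (Fin n) F₀ →* GL (Fin n) K := GeneralLinearGroup.map F₀.subtype
  let scal : Kˣ →* GL (Fin n) K := Units.map ((Matrix.scalar (Fin n)).toMonoidHom)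
  let f : Unitary.N1 K q × Cfsg.GU n F₀ q₀ →* GL (Fin n) K :=
    MonoidHom.mk' (fun x => scal (x.1 : Kˣ) * ι (x.2 : GL (Fin n) F₀)) fun a b => by
      rw [Prod.fst_mul, Prod.snd_mul, Subgroup.coe_mul, Subgroup.coe_mul, map_mul, map_mul]
      apply Units.ext
      simp only [Units.val_mul, scal, Units.coe_map, RingHom.toMonoidHom_eq_coe, MonoidHom.coe_coe, Matrix.scalar_apply,
        ← Matrix.smul_one_eq_diagonal, Matrix.smul_mul, Matrix.mul_smul, Matrix.one_mul, smul_smul, mul_comm]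
  have hf : ∀ x : Unitary.N1 K q × Cfsg.GU n F₀ q₀, (f x : Matrix (Fin n) (Fin n) K) =
      ((x.1 : Kˣ) : K) • ((x.2 : GL (Fin n) F₀) : Matrix (Fin n) (Fin n) F₀).map F₀.subtype := fun x => by
    show Matrix.scalar (Fin n) ((x.1 : Kˣ) : K) * ((x.2 : GL (Fin n) F₀) : Matrix (Fin n) (Fin n) F₀).map F₀.subtype = _
    rw [Matrix.scalar_apply, ← Matrix.smul_one_eq_diagonal, Matrix.smul_mul, Matrix.one_mul]
  have hSsmul : ∀ (a : K) (X : Matrix (Fin n) (Fin n) K), UnitaryConj.S hK (a • X) = a ^ q • UnitaryConj.S hK X := fun a X => by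
    ext i j
    exact mul_pow a (X j i) q
  have hrange : ∀ g : GL (Fin n) K, g ∈ f.range ↔ g ∈ Cfsg.GU n K q ∧
      ∃ c : K, c ≠ 0 ∧ (g : Matrix (Fin n) (Fin n) K).map σ = c • (g : Matrix (Fin n) (Fin n) K) := by
    intro g
    constructor
    · rintro ⟨x, rfl⟩
      refine ⟨?_, σ (x.1 : Kˣ) * ((x.1 : Kˣ) : K)⁻¹,
        mul_ne_zero ((map_ne_zero_iff σ σ.injective).2 (Units.ne_zero _)) (inv_ne_zero (Units.ne_zero _)), ?_⟩
      · rw [UnitaryConj.mem_GU_iff hK, hf, hSsmul, hS, Matrix.smul_mul, Matrix.mul_smul, smul_smul, ← Matrix.map_mul,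
          (UnitaryConj.mem_GU_iff hK0 _).1 x.2.2, Matrix.map_one _ (map_zero _) (map_one _), mul_comm,
          Unitary.N1_val x.1.2, one_smul]
      · rw [hf]
        ext i j
        simp only [Matrix.map_apply, Matrix.smul_apply, smul_eq_mul, map_mul]
        have h0 : ∀ z : F₀, σ (F₀.subtype z) = F₀.subtype z := fun z => (hmem _).1 z.2
        rw [h0, mul_assoc, inv_mul_cancel_left₀ (Units.ne_zero _)]
    · rintro ⟨hgU, c, hc0, hc⟩
      obtain ⟨i₀, j₀, hne⟩ : ∃ i j, (g : Matrix (Fin n) (Fin n) K) i j ≠ 0 := by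
        by_contra hall
        push Not at hall
        haveI : Nonempty (Fin n) := ⟨⟨0, hn⟩⟩
        exact (GeneralLinearGroup.det g).ne_zero (by
          show (g : Matrix (Fin n) (Fin n) K).det = 0
          rw [show (g : Matrix (Fin n) (Fin n) K) = 0 from Matrix.ext hall, Matrix.det_zero])
      obtain ⟨a, ha⟩ : ∃ a, a = (g : Matrix (Fin n) (Fin n) K) i₀ j₀ := ⟨_, rfl⟩
      rw [← ha] at hne
      have hσe : ∀ i j, σ ((g : Matrix (Fin n) (Fin n) K) i j) = c * (g : Matrix (Fin n) (Fin n) K) i j := fun i j => by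
        have := congrFun (congrFun hc i) j
        rwa [Matrix.map_apply, Matrix.smul_apply, smul_eq_mul] at this
      have hfix : ∀ i j, a⁻¹ * (g : Matrix (Fin n) (Fin n) K) i j ∈ F₀ := fun i j => by
        rw [hmem, map_mul, map_inv₀, ha, hσe, hσe, mul_inv, mul_comm c⁻¹, mul_assoc, inv_mul_cancel_left₀ hc0]
      obtain ⟨M, hMd⟩ : ∃ M : Matrix (Fin n) (Fin n) F₀, M = Matrix.of fun i j => ⟨_, hfix i j⟩ := ⟨_, rfl⟩
      have hM : M.map F₀.subtype = a⁻¹ • (g : Matrix (Fin n) (Fin n) K) := by rw [hMd]; exact Matrix.ext fun i j => rfl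
      -- the multiplier of M
      obtain ⟨l, hl⟩ : ∃ l : F₀, l = (UnitaryConj.S hK0 M * M) ⟨0, hn⟩ ⟨0, hn⟩ := ⟨_, rfl⟩
      have hmul : (UnitaryConj.S hK0 M * M).map F₀.subtype = ((a⁻¹) ^ q * a⁻¹) • 1 := by
        rw [Matrix.map_mul, ← hS, hM, hSsmul, Matrix.smul_mul, Matrix.mul_smul, smul_smul,
          (UnitaryConj.mem_GU_iff hK g).1 hgU]
      have hlv : (l : K) = (a⁻¹) ^ q * a⁻¹ := by
        have := congrFun (congrFun hmul ⟨0, hn⟩) ⟨0, hn⟩
        rw [Matrix.map_apply, ← hl, Matrix.smul_apply, Matrix.one_apply_eq, smul_eq_mul, mul_one] at this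
        exact this
      have hl0 : l ≠ 0 := fun h => by
        rw [h, ZeroMemClass.coe_zero] at hlv
        exact mul_ne_zero (pow_ne_zero _ (inv_ne_zero hne)) (inv_ne_zero hne) hlv.symm
      have hlq : l ^ q₀ = l := Subtype.ext (by
        rw [SubmonoidClass.coe_pow, ← hqx _ l.2, hlv, mul_pow, Herm.pow_pow_q hK, mul_comm])
      obtain ⟨μ, hμ0, hμ⟩ := Herm.exists_norm hK0 l hl0 hlq
      have hM1 : UnitaryConj.S hK0 (μ⁻¹ • M) * (μ⁻¹ • M) = 1 := by
        have h1 : UnitaryConj.S hK0 (μ⁻¹ • M) = (μ⁻¹) ^ q₀ • UnitaryConj.S hK0 M := by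
          ext i j
          exact congrArg Subtype.val (mul_pow μ⁻¹ (M j i) q₀)
        have h2 : UnitaryConj.S hK0 M * M = l • 1 := by
          refine Matrix.map_injective F₀.subtype.injective ?_
          show (UnitaryConj.S hK0 M * M).map F₀.subtype = ((l • 1 : Matrix (Fin n) (Fin n) F₀)).map F₀.subtype
          rw [hmul, ← hlv]
          ext i j
          by_cases hij : i = j
          · subst hij; simp
          · simp [Matrix.one_apply_ne hij]
        rw [h1, Matrix.smul_mul, Matrix.mul_smul, smul_smul, h2, smul_smul, ← hμ]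
        rw [show μ⁻¹ ^ q₀ * μ⁻¹ * (μ * μ ^ q₀) = 1 by
          rw [inv_pow]; field_simp, one_smul]
      let M' : GL (Fin n) F₀ := ⟨μ⁻¹ • M, UnitaryConj.S hK0 (μ⁻¹ • M), mul_eq_one_comm.1 hM1, hM1⟩
      have hM'U : M' ∈ Cfsg.GU n F₀ q₀ := (UnitaryConj.mem_GU_iff hK0 M').2 hM1
      have hb : Units.mk0 (a * μ) (mul_ne_zero hne (by simpa using hμ0)) ∈ Unitary.N1 K q := by
        rw [Unitary.mem_N1]
        refine Units.ext ?_
        rw [Units.val_pow_eq_pow_val, Units.val_mk0, Units.val_one, pow_succ', mul_pow, hqx _ μ.2]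
        have h3 : (μ : K) * (μ : K) ^ q₀ = (l : K) := congrArg Subtype.val hμ
        rw [mul_mul_mul_comm, h3, hlv, inv_pow]
        field_simp
      refine ⟨(⟨_, hb⟩, ⟨M', hM'U⟩), Units.ext ?_⟩
      rw [hf]
      show (a * (μ : K)) • (μ⁻¹ • M).map F₀.subtype = (g : Matrix (Fin n) (Fin n) K)
      ext i j
      rw [Matrix.smul_apply, Matrix.map_apply, Matrix.smul_apply, smul_eq_mul, smul_eq_mul, map_mul, map_inv₀]
      have h4 : F₀.subtype (M i j) = a⁻¹ * (g : Matrix (Fin n) (Fin n) K) i j := congrFun (congrFun hM i) j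
      rw [h4]
      have hμK : (μ : K) ≠ 0 := by simpa using hμ0
      show a * (μ : K) * ((μ : K)⁻¹ * _) = _
      field_simp
  have hker : Nat.card f.ker = q₀ + 1 := by
    rw [← Unitary.card_N1 hK0]
    have hu1 : ∀ u : F₀ˣ, u ∈ Unitary.N1 F₀ q₀ → Units.map F₀.subtype.toMonoidHom u ∈ Unitary.N1 K q := fun u hu => by
      rw [Unitary.mem_N1]
      refine Units.ext ?_
      rw [Units.val_pow_eq_pow_val, Units.val_one, pow_succ']
      show ((u : F₀) : K) * ((u : F₀) : K) ^ q = 1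
      rw [hqx _ (SetLike.coe_mem _)]
      exact congrArg Subtype.val (Unitary.N1_val hu)
    let k : Unitary.N1 F₀ q₀ → f.ker := fun u => ⟨(⟨_, hu1 u u.2⟩, (Unitary.scalarGU n u)⁻¹), by
      rw [MonoidHom.mem_ker]
      show scal _ * ι _ = 1
      rw [Subgroup.coe_inv, map_inv, mul_inv_eq_one]
      apply Units.ext
      show Matrix.scalar (Fin n) _ = ((Unitary.scalarGU n u : GL (Fin n) F₀) : Matrix (Fin n) (Fin n) F₀).map F₀.subtype
      rw [Unitary.scalarGU_val]
      ext i j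
      by_cases hij : i = j
      · subst hij; simp
      · simp [hij]⟩
    refine (Nat.card_eq_of_bijective k ⟨fun u v h => Subtype.ext (Units.ext (Subtype.val_injective
      (congrArg (fun z : f.ker => ((z.1.1 : Kˣ) : K)) h))), ?_⟩).symm
    rintro ⟨⟨a, g₀⟩, h⟩
    have hval : ∀ i j, ((a : Kˣ) : K) * (((g₀ : GL (Fin n) F₀) : Matrix (Fin n) (Fin n) F₀) i j : K) = if i = j then 1 else 0 :=
      fun i j => by
        have := congrFun (congrFun (hf (a, g₀)) i) j
        rw [MonoidHom.mem_ker.1 h, Units.val_one, Matrix.one_apply] at this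
        exact this.symm
    have h00 := hval ⟨0, hn⟩ ⟨0, hn⟩
    rw [if_pos rfl] at h00
    have ha : ((a : Kˣ) : K) ∈ F₀ := by
      rw [eq_inv_of_mul_eq_one_left h00]
      exact inv_mem (SetLike.coe_mem _)
    obtain ⟨u, hu⟩ : ∃ u : Unitary.N1 F₀ q₀, (((u : F₀ˣ) : F₀) : K) = ((a : Kˣ) : K) := by
      refine ⟨⟨Units.mk0 ⟨_, ha⟩ (fun e => (a : Kˣ).ne_zero (congrArg Subtype.val e)), ?_⟩, rfl⟩
      rw [Unitary.mem_N1]
      refine Units.ext (Subtype.ext ?_)
      rw [Units.val_pow_eq_pow_val, SubmonoidClass.coe_pow, Units.val_mk0, pow_succ']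
      show ((a : Kˣ) : K) * ((a : Kˣ) : K) ^ q₀ = 1
      rw [← hqx _ ha]
      exact Unitary.N1_val a.2
    refine ⟨u, Subtype.ext (Prod.ext (Subtype.ext (Units.ext hu)) ?_)⟩
    show (Unitary.scalarGU n u)⁻¹ = g₀
    refine inv_eq_of_mul_eq_one_right (Subtype.ext (Units.ext ?_))
    rw [Subgroup.coe_mul, Units.val_mul, Unitary.scalarGU_val, Subgroup.coe_one, Units.val_one]
    ext i j
    have := hval i j
    rw [← hu] at this
    simp only [Matrix.smul_mul, Matrix.one_mul, Matrix.smul_apply, Matrix.one_apply, smul_eq_mul,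
      Matrix.scalar_apply, Matrix.diagonal_mul]
    rw [Subfield.coe_mul, this]
    split_ifs <;> rfl
  have hset : Nat.card {g : ↥(Cfsg.GU n K q) // ∃ c : K, c ≠ 0 ∧
      ((g : GL (Fin n) K) : Matrix (Fin n) (Fin n) K).map σ = c • ((g : GL (Fin n) K) : Matrix (Fin n) (Fin n) K)} =
      Nat.card f.range :=
    Nat.card_congr ((Equiv.subtypeSubtypeEquivSubtypeInter (fun g : GL (Fin n) K => g ∈ Cfsg.GU n K q)
      (fun g : GL (Fin n) K => ∃ c : K, c ≠ 0 ∧ (g : Matrix (Fin n) (Fin n) K).map σ = c • (g : Matrix (Fin n) (Fin n) K))).trans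
      (Equiv.subtypeEquivRight fun g => (hrange g).symm))
  have hmul : Nat.card f.range * (q₀ + 1) = (q + 1) * Nat.card (Cfsg.GU n F₀ q₀) := by
    rw [← hker, ← Subgroup.index_ker, mul_comm, Subgroup.card_mul_index, Nat.card_prod, Unitary.card_N1 hK]
  obtain ⟨e, he⟩ : q₀ + 1 ∣ q + 1 := by
    rw [hq]
    simpa using hodd.nat_add_dvd_pow_add_pow q₀ 1
  rw [hset, he, Nat.mul_div_cancel_left _ (Nat.succ_pos _)]
  rw [he, mul_assoc, mul_comm (Nat.card f.range)] at hmul
  rw [Nat.eq_of_mul_eq_mul_left (Nat.succ_pos _) hmul, Nat.cast_mul, Herm.card_GU hK0, Nat.cast_mul, Nat.cast_pow,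
    Nat.cast_prod, ← Fin.prod_univ_eq_prod_range]
  congr 2
  refine Finset.prod_congr rfl fun i _ => ?_
  by_cases h : Even (i : ℕ)
  · rw [if_pos h, (Even.add_one h).neg_one_pow]
    push_cast
    ring
  · rw [if_neg h, (Nat.not_even_iff_odd.1 h).add_one.neg_one_pow,
      Nat.cast_sub (Nat.one_le_pow _ _ (Nat.pos_of_ne_zero fun h0 => by have := Herm.two_le hK0; omega))]
    push_cast
    ring

end CfsgLib.Lie.GUTwistFix
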