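import Cfsg.Prelude.Def_ClassicalGeometry
import Cfsg.Prelude.Def_LieClassical
import Cfsg.Agent.Lie.Orders
import Cfsg.Agent.Lie.Witt
import Cfsg.Agent.Lie.OrthBasis

/-!
The standard Hermitian form, vector counts, the order of GU.
-/

set_option autoImplicit false
set_option linter.unusedSimpArgs false
set_option linter.unusedSectionVars false

namespace CfsgLib.Lie.Herm

open Matrix

variable {F : Type*} [Field F] [Fintype F] {q : ℕ}

theorem two_le (hF : Fintype.card F = q ^ 2) : 2 ≤ q := by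
  by_contra hc
  have h1 : 1 < Fintype.card F := Fintype.one_lt_card
  rcases (show q = 0 ∨ q = 1 by omega) with h | h <;> subst h <;> simp [hF] at h1

theorem pow_pow_q (hF : Fintype.card F = q ^ 2) (a : F) : (a ^ q) ^ q = a := by
  rw [← pow_mul, ← pow_two, ← hF, FiniteField.pow_card]

theorem add_pow_q (hF : Fintype.card F = q ^ 2) (x y : F) : (x + y) ^ q = x ^ q + y ^ q := by
  obtain ⟨k, hp, hk⟩ := FiniteField.card F (ringChar F)
  obtain ⟨j, -, rfl⟩ := (Nat.dvd_prime_pow hp).1 (show q ∣ ringChar F ^ (k : ℕ) from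
    hk ▸ hF ▸ dvd_pow_self q two_ne_zero)
  have := Fact.mk hp
  exact add_pow_char_pow x y _ j

/-- x ↦ x^q. -/
def conj (hF : Fintype.card F = q ^ 2) : F →+* F :=
  { powMonoidHom q with
    toFun := fun x => x ^ q
    map_zero' := zero_pow (by have := two_le hF; omega)
    map_add' := add_pow_q hF }

@[simp] theorem conj_apply (hF : Fintype.card F = q ^ 2) (x : F) : conj hF x = x ^ q := rfl

theorem conj_conj (hF : Fintype.card F = q ^ 2) (a : F) : conj hF (conj hF a) = a := pow_pow_q hF a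

theorem conj_surjective (hF : Fintype.card F = q ^ 2) : RingHomSurjective (conj hF) :=
  ⟨fun a => ⟨conj hF a, conj_conj hF a⟩⟩

theorem conj_ne_id (hF : Fintype.card F = q ^ 2) : conj hF ≠ RingHom.id F := by
  classical
  intro h
  have h1 : (Finset.univ : Finset F) ⊆ (Polynomial.X ^ q - Polynomial.X : Polynomial F).roots.toFinset := by
    intro x _
    have hd : (Polynomial.X ^ q - Polynomial.X : Polynomial F) ≠ 0 :=
      FiniteField.X_pow_card_sub_X_ne_zero F (by have := two_le hF; omega)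
    rw [Multiset.mem_toFinset, Polynomial.mem_roots hd]
    have := RingHom.congr_fun h x
    simp at this
    simp [this]
  have h2 := (Finset.card_le_card h1).trans ((Multiset.toFinset_card_le _).trans (Polynomial.card_roots' _))
  rw [Finset.card_univ, hF, FiniteField.X_pow_card_sub_X_natDegree_eq F (by have := two_le hF; omega)] at h2
  have := two_le hF
  nlinarith

variable {n : ℕ}

theorem form_comm (hF : Fintype.card F = q ^ 2) (u v : Fin n → F) :
    (Cfsg.hermForm n F q u v) ^ q = Cfsg.hermForm n F q v u := by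
  rw [Cfsg.hermForm, Cfsg.hermForm, ← conj_apply hF, map_sum]
  refine Finset.sum_congr rfl fun i _ => ?_
  rw [conj_apply, mul_pow, pow_pow_q hF, mul_comm]

theorem form_add_left (u u' v : Fin n → F) :
    Cfsg.hermForm n F q (u + u') v = Cfsg.hermForm n F q u v + Cfsg.hermForm n F q u' v := by
  simp [Cfsg.hermForm, add_mul, Finset.sum_add_distrib]

theorem form_smul_left (a : F) (u v : Fin n → F) :
    Cfsg.hermForm n F q (a • u) v = a * Cfsg.hermForm n F q u v := by
  simp [Cfsg.hermForm, Finset.mul_sum, mul_assoc]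

theorem form_add_right (hF : Fintype.card F = q ^ 2) (u v v' : Fin n → F) :
    Cfsg.hermForm n F q u (v + v') = Cfsg.hermForm n F q u v + Cfsg.hermForm n F q u v' := by
  simp [Cfsg.hermForm, add_pow_q hF, mul_add, Finset.sum_add_distrib]

theorem form_smul_right (a : F) (u v : Fin n → F) :
    Cfsg.hermForm n F q u (a • v) = a ^ q * Cfsg.hermForm n F q u v := by
  simp only [Cfsg.hermForm, Pi.smul_apply, smul_eq_mul, mul_pow, Finset.mul_sum]
  exact Finset.sum_congr rfl fun i _ => by ring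

/-- The form with conjugate-linear first argument: `hb u v = hermForm v u`. -/
def hb (n : ℕ) (hF : Fintype.card F = q ^ 2) :
    (Fin n → F) →ₛₗ[conj hF] (Fin n → F) →ₗ[F] F :=
  LinearMap.mk₂'ₛₗ (conj hF) (RingHom.id F) (fun u v => Cfsg.hermForm n F q v u)
    (fun a b v => form_add_right hF v a b) (fun a u v => form_smul_right a v u)
    (fun u a b => form_add_left a b u) (fun a u v => form_smul_left a v u)

theorem hb_apply (hF : Fintype.card F = q ^ 2) (u v : Fin n → F) :
    hb n hF u v = Cfsg.hermForm n F q v u := rfl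

theorem hb_symm (hF : Fintype.card F = q ^ 2) (u v : Fin n → F) :
    conj hF (hb n hF u v) = hb n hF v u := form_comm hF v u

theorem form_single (hF : Fintype.card F = q ^ 2) (i : Fin n) (v : Fin n → F) :
    Cfsg.hermForm n F q v (Pi.single i 1) = v i := by
  have h0 : q ≠ 0 := by have := two_le hF; omega
  rw [Cfsg.hermForm, Finset.sum_eq_single i]
  · simp
  · intro j _ hj; simp [Pi.single_eq_of_ne hj, zero_pow h0]
  · intro h; exact absurd (Finset.mem_univ i) h

theorem hb_sepLeft (hF : Fintype.card F = q ^ 2) : (hb n hF).SeparatingLeft := by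
  intro u hu
  funext i
  have h := congrArg (conj hF) (hu (Pi.single i 1))
  rw [hb_symm, map_zero, hb_apply, form_single hF] at h
  exact h

theorem form_snoc (w w' : Fin n → F) (x x' : F) :
    Cfsg.hermForm (n + 1) F q (Fin.snoc w x) (Fin.snoc w' x') =
      Cfsg.hermForm n F q w w' + x * x' ^ q := by
  simp [Cfsg.hermForm, Fin.sum_univ_castSucc]

/-- Vectors of norm c. -/
abbrev Lev (n : ℕ) (F : Type*) [Field F] (q : ℕ) (c : F) : Type _ :=
  {v : Fin n → F // Cfsg.hermForm n F q v v = c}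

theorem exists_norm (hF : Fintype.card F = q ^ 2) (c : F) (hc0 : c ≠ 0) (hc : c ^ q = c) :
    ∃ a : F, a ≠ 0 ∧ a * a ^ q = c := by
  obtain ⟨a, ha⟩ := OrthBasis.exists_norm (conj hF) (conj_ne_id hF) (conj_conj hF) c hc0 hc
  exact ⟨a, fun h => hc0 (by rw [← ha, h, zero_mul]), ha⟩

theorem card_lev (hF : Fintype.card F = q ^ 2) (c : F) (hc0 : c ≠ 0) (hc : c ^ q = c) :
    Nat.card (Lev n F q c) = Nat.card (Lev n F q (1 : F)) := by
  obtain ⟨a, ha0, ha⟩ := exists_norm hF c hc0 hc
  refine Nat.card_congr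
    { toFun := fun v => ⟨a⁻¹ • v.1, by
        rw [form_smul_left, form_smul_right, v.2, ← ha, inv_pow]
        field_simp⟩
      invFun := fun v => ⟨a • v.1, by
        rw [form_smul_left, form_smul_right, v.2, mul_one, ha]⟩
      left_inv := fun v => Subtype.ext (by simp [smul_smul, ha0])
      right_inv := fun v => Subtype.ext (by simp [smul_smul, ha0]) }

theorem card_fixed_units (hF : Fintype.card F = q ^ 2) :
    Nat.card {c : F // c ≠ 0 ∧ c ^ q = c} = q - 1 := by
  have hq := two_le hF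
  let T : Fˣ →* Fˣ := powMonoidHom (q - 1)
  have hu : Nat.card Fˣ = (q + 1) * (q - 1) := by
    rw [Orders.card_units_eq, Nat.card_eq_fintype_card, hF]
    simpa using Nat.sq_sub_sq q 1
  have hT : Nat.card T.ker = q - 1 := by
    rw [IsCyclic.card_powMonoidHom_ker, hu]
    exact Nat.gcd_eq_right (dvd_mul_left _ _)
  refine Eq.trans (Nat.card_congr ?_) hT
  exact
    { toFun := fun c => ⟨Units.mk0 c.1 c.2.1, Units.ext (by
        have h1 : c.1 ^ (q - 1) * c.1 = 1 * c.1 := by
          rw [← pow_succ, Nat.sub_add_cancel (by omega : 1 ≤ q), c.2.2, one_mul]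
        simpa [T] using mul_right_cancel₀ c.2.1 h1)⟩
      invFun := fun u => ⟨(u.1 : F), u.1.ne_zero, by
        have h := congrArg Units.val u.2
        simp [T] at h
        calc (u.1 : F) ^ q = (u.1 : F) ^ (q - 1 + 1) := by rw [Nat.sub_add_cancel (by omega : 1 ≤ q)]
          _ = _ := by rw [pow_succ, h, one_mul]⟩
      left_inv := fun c => rfl
      right_inv := fun u => Subtype.ext (Units.ext rfl) }

theorem card_total (hF : Fintype.card F = q ^ 2) :
    Nat.card (Lev n F q (0 : F)) + (q - 1) * Nat.card (Lev n F q (1 : F)) = (q ^ 2) ^ n := by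
  classical
  let T := {c : F // c ≠ 0 ∧ c ^ q = c}
  let e : (Fin n → F) ≃ Lev n F q (0 : F) ⊕ (Σ c : T, Lev n F q c.1) :=
    { toFun := fun v => if h : Cfsg.hermForm n F q v v = 0 then .inl ⟨v, h⟩
        else .inr ⟨⟨_, h, form_comm hF v v⟩, ⟨v, rfl⟩⟩
      invFun := Sum.elim Subtype.val (fun s => s.2.1)
      left_inv := fun v => by by_cases h : Cfsg.hermForm n F q v v = 0 <;> simp [h]
      right_inv := fun s => by
        rcases s with ⟨v, hv⟩ | ⟨⟨c, hc⟩, ⟨v, hv⟩⟩
        · simp [hv]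
        · dsimp only at hv
          subst hv
          simp [hc.1] }
  have h := Nat.card_congr e
  rw [Nat.card_fun, Nat.card_eq_fintype_card (α := F), hF, Nat.card_eq_fintype_card (α := Fin n),
    Fintype.card_fin, Nat.card_sum, Nat.card_sigma,
    Finset.sum_congr rfl (fun c _ => card_lev hF c.1 c.2.1 c.2.2), Finset.sum_const, smul_eq_mul,
    Finset.card_univ, ← Nat.card_eq_fintype_card, card_fixed_units hF] at h
  exact h.symm

theorem card_succ (hF : Fintype.card F = q ^ 2) :
    Nat.card (Lev (n + 1) F q (0 : F)) =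
      Nat.card (Lev n F q (0 : F)) + (q ^ 2 - 1) * Nat.card (Lev n F q (1 : F)) := by
  classical
  let e : Lev (n + 1) F q (0 : F) ≃ Σ x : F, Lev n F q (-(x * x ^ q)) :=
    { toFun := fun v => ⟨v.1 (Fin.last n), Fin.init v.1, by
        have h := v.2
        rw [← Fin.snoc_init_self v.1, form_snoc] at h
        exact eq_neg_of_add_eq_zero_left h⟩
      invFun := fun s => ⟨Fin.snoc s.2.1 s.1, by rw [form_snoc, s.2.2, neg_add_cancel]⟩
      left_inv := fun v => Subtype.ext (Fin.snoc_init_self v.1)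
      right_inv := fun s => by
        obtain ⟨x, w, hw⟩ := s
        exact Sigma.subtype_ext (Fin.snoc_last (α := fun _ => F) x w) (Fin.init_snoc (α := fun _ => F) x w) }
  rw [Nat.card_congr e, Nat.card_sigma, ← Finset.add_sum_erase _ _ (Finset.mem_univ (0 : F))]
  congr 1
  · simp [zero_mul]
  · have h : ∀ x ∈ (Finset.univ : Finset F).erase 0,
        Nat.card (Lev n F q (-(x * x ^ q))) = Nat.card (Lev n F q (1 : F)) := by
      intro x hx
      have hx0 := (Finset.mem_erase.1 hx).1
      refine card_lev hF _ (neg_ne_zero.2 (mul_ne_zero hx0 (pow_ne_zero _ hx0))) ?_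
      rw [← conj_apply hF, map_neg, map_mul, conj_apply, conj_apply, pow_pow_q hF, mul_comm]
    rw [Finset.sum_congr rfl h, Finset.sum_const, smul_eq_mul,
      Finset.card_erase_of_mem (Finset.mem_univ _), Finset.card_univ, hF]

theorem card_lev_zero_int (hF : Fintype.card F = q ^ 2) : ∀ n : ℕ,
    (q : ℤ) * Nat.card (Lev n F q (0 : F)) = q ^ (2 * n) + (-1) ^ n * ((q : ℤ) - 1) * q ^ n := by
  intro n
  induction n with
  | zero =>
    have : Nat.card (Lev 0 F q (0 : F)) = 1 := by
      rw [Nat.card_eq_one_iff_unique]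
      exact ⟨⟨fun a b => Subtype.ext (Subsingleton.elim _ _)⟩, ⟨⟨Fin.elim0, by simp [Cfsg.hermForm]⟩⟩⟩
    simp [this]
  | succ n ih =>
    have h1 := card_succ (n := n) hF
    have h2 := card_total (n := n) hF
    have hq := two_le hF
    have h1' : (Nat.card (Lev (n + 1) F q (0 : F)) : ℤ) =
        Nat.card (Lev n F q (0 : F)) + ((q : ℤ) ^ 2 - 1) * Nat.card (Lev n F q (1 : F)) := by
      rw [h1, Nat.cast_add, Nat.cast_mul, Nat.cast_sub (Nat.one_le_pow 2 q (by omega))]
      push_cast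
      ring
    have h2' : (Nat.card (Lev n F q (0 : F)) : ℤ) + ((q : ℤ) - 1) * Nat.card (Lev n F q (1 : F)) =
        ((q : ℤ) ^ 2) ^ n := by
      have := congrArg (Nat.cast : ℕ → ℤ) h2
      rw [Nat.cast_add, Nat.cast_mul, Nat.cast_sub (by omega : 1 ≤ q)] at this
      exact_mod_cast this
    rw [h1', ← pow_mul] at *
    have e1 : (q : ℤ) ^ (2 * (n + 1)) = q ^ 2 * q ^ (2 * n) := by rw [← pow_add]; ring_nf
    rw [e1, pow_succ, pow_succ (q : ℤ) n]
    linear_combination (-(q : ℤ)) * ih + ((q : ℤ) * (q + 1)) * h2'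

theorem card_lev_one_int (hF : Fintype.card F = q ^ 2) (n : ℕ) :
    (q : ℤ) * Nat.card (Lev n F q (1 : F)) = q ^ (2 * n) - (-1) ^ n * q ^ n := by
  have hq := two_le hF
  have h0 := card_lev_zero_int hF n
  have h2 := congrArg (Nat.cast : ℕ → ℤ) (card_total (n := n) hF)
  rw [← pow_mul, Nat.cast_add, Nat.cast_mul, Nat.cast_sub (by omega : 1 ≤ q)] at h2
  push_cast at h2
  have h3 : ((q : ℤ) - 1) * ((q : ℤ) * Nat.card (Lev n F q (1 : F))) =
      ((q : ℤ) - 1) * (q ^ (2 * n) - (-1) ^ n * q ^ n) := by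
    linear_combination (q : ℤ) * h2 - h0
  exact mul_left_cancel₀ (by omega) h3

theorem card_lev_one (hF : Fintype.card F = q ^ 2) (n : ℕ) :
    Nat.card (Lev n F q (1 : F)) =
      if Even n then q ^ (n - 1) * (q ^ n - 1) else q ^ (n - 1) * (q ^ n + 1) := by
  have hq := two_le hF
  have h := card_lev_one_int hF n
  rcases Nat.eq_zero_or_pos n with h0 | h0
  · subst h0
    simp at h ⊢
    rcases h with h | h
    · omega
    · exact h
  obtain ⟨k, rfl⟩ : ∃ k, n = k + 1 := ⟨n - 1, by omega⟩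
  have e : (q : ℤ) ^ (2 * (k + 1)) = q * (q ^ k * q ^ (k + 1)) := by
    rw [← pow_add, ← pow_succ']; congr 1; omega
  rw [e, pow_succ' (q : ℤ) k] at h
  rw [Nat.add_sub_cancel]
  have h1 : (1 : ℕ) ≤ q ^ (k + 1) := Nat.one_le_pow _ _ (by omega)
  apply Nat.cast_injective (R := ℤ)
  refine mul_left_cancel₀ (show (q : ℤ) ≠ 0 by omega) ?_
  rcases Nat.even_or_odd (k + 1) with he | he
  · rw [if_pos he, h, he.neg_one_pow, Nat.cast_mul, Nat.cast_sub h1]
    push_cast
    ring
  · rw [if_neg (Nat.not_even_iff_odd.2 he), h, he.neg_one_pow]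
    push_cast
    ring

theorem card_lev_zero (hF : Fintype.card F = q ^ 2) (n : ℕ) :
    Nat.card (Lev n F q (0 : F)) = (if Even n then (q ^ n - 1) * (q ^ (n - 1) + 1)
      else (q ^ n + 1) * (q ^ (n - 1) - 1)) + 1 := by
  have hq := two_le hF
  have h := card_lev_zero_int hF n
  rcases Nat.eq_zero_or_pos n with h0 | h0
  · subst h0
    simp
    rw [Nat.card_eq_one_iff_unique]
    exact ⟨⟨fun a b => Subtype.ext (Subsingleton.elim _ _)⟩, ⟨⟨Fin.elim0, by simp [Cfsg.hermForm]⟩⟩⟩
  obtain ⟨k, rfl⟩ : ∃ k, n = k + 1 := ⟨n - 1, by omega⟩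
  have e : (q : ℤ) ^ (2 * (k + 1)) = q * (q ^ k * q ^ (k + 1)) := by
    rw [← pow_add, ← pow_succ']; congr 1; omega
  rw [e, pow_succ' (q : ℤ) k] at h
  rw [Nat.add_sub_cancel]
  have h1 : (1 : ℕ) ≤ q ^ (k + 1) := Nat.one_le_pow _ _ (by omega)
  have h2 : (1 : ℕ) ≤ q ^ k := Nat.one_le_pow _ _ (by omega)
  apply Nat.cast_injective (R := ℤ)
  refine mul_left_cancel₀ (show (q : ℤ) ≠ 0 by omega) ?_
  rcases Nat.even_or_odd (k + 1) with he | he
  · rw [if_pos he, h, he.neg_one_pow, Nat.cast_add, Nat.cast_mul, Nat.cast_sub h1]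
    push_cast
    ring
  · rw [if_neg (Nat.not_even_iff_odd.2 he), h, he.neg_one_pow, Nat.cast_add, Nat.cast_mul,
      Nat.cast_sub h2]
    push_cast
    ring

theorem mem_GU {g : GL (Fin n) F} : g ∈ Cfsg.GU n F q ↔
    ∀ u v, Cfsg.hermForm n F q ((g : Matrix (Fin n) (Fin n) F) *ᵥ u)
      ((g : Matrix (Fin n) (Fin n) F) *ᵥ v) = Cfsg.hermForm n F q u v := Iff.rfl

theorem GU_transitive (hF : Fintype.card F = q ^ 2) {v w : Fin n → F}
    (hv : Cfsg.hermForm n F q v v = 1) (hw : Cfsg.hermForm n F q w w = 1) :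
    ∃ g ∈ Cfsg.GU n F q, (g : Matrix (Fin n) (Fin n) F) *ᵥ v = w := by
  have := conj_surjective hF
  have hv0 : v ≠ 0 := fun h => by simp [h, Cfsg.hermForm] at hv
  have hw0 : w ≠ 0 := fun h => by simp [h, Cfsg.hermForm] at hw
  let X := F ∙ v
  let co : X ≃ₗ[F] F := (LinearEquiv.toSpanNonzeroSingleton F (Fin n → F) v hv0).symm
  have hco : ∀ a : X, (a : Fin n → F) = co a • v := fun a => by
    conv_lhs => rw [← co.symm_apply_apply a]
    rfl
  let f : X →ₗ[F] (Fin n → F) := (LinearMap.toSpanSingleton F _ w).comp co.toLinearMap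
  have hf : ∀ a, f a = co a • w := fun a => rfl
  obtain ⟨g, hg, hg'⟩ := Witt.witt_hermitian (hb n hF) (conj_conj hF)
    (Witt.exists_trace (conj hF) (conj_ne_id hF) (conj_conj hF)) (hb_symm hF) (hb_sepLeft hF) X f
    (fun a b h => co.injective (smul_left_injective F hw0 h))
    (fun a b => by
      rw [hf, hf, hco a, hco b]
      simp only [hb_apply, form_smul_left, form_smul_right, hv, hw])
  refine ⟨Matrix.GeneralLinearGroup.toLin.symm (LinearMap.GeneralLinearGroup.ofLinearEquiv g), ?_, ?_⟩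
  · intro x y
    have := hg y x
    simp only [hb_apply] at this
    simpa [Matrix.GeneralLinearGroup.toLin, LinearMap.toMatrixAlgEquiv', LinearMap.toMatrix'_mulVec] using this
  · have := hg' ⟨v, Submodule.mem_span_singleton_self v⟩
    have hc1 : co ⟨v, Submodule.mem_span_singleton_self v⟩ = 1 :=
      smul_left_injective F hv0 (((hco _).symm.trans (one_smul F v).symm))
    rw [hf, hc1, one_smul] at this
    simpa [Matrix.GeneralLinearGroup.toLin, LinearMap.toMatrixAlgEquiv', LinearMap.toMatrix'_mulVec] using this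

/-- Extend a matrix by 1 in the last coordinate. -/
def extMat (M : Matrix (Fin n) (Fin n) F) : Matrix (Fin (n + 1)) (Fin (n + 1)) F :=
  Matrix.of fun i j => Fin.snoc (α := fun _ => F)
    (fun i' => Fin.snoc (α := fun _ => F) (M i') 0 j) (if j = Fin.last n then 1 else 0) i

theorem extMat_mulVec (M : Matrix (Fin n) (Fin n) F) (w : Fin n → F) (x : F) :
    extMat M *ᵥ Fin.snoc w x = Fin.snoc (M *ᵥ w) x := by
  funext i
  induction i using Fin.lastCases with
  | last => simp [extMat, Matrix.mulVec, dotProduct, Fin.sum_univ_castSucc, (Fin.castSucc_lt_last _).ne]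
  | cast i => simp [extMat, Matrix.mulVec, dotProduct, Fin.sum_univ_castSucc]

theorem ext_snoc {A B : Matrix (Fin (n + 1)) (Fin (n + 1)) F}
    (h : ∀ w x, A *ᵥ Fin.snoc w x = B *ᵥ Fin.snoc w x) : A = B := by
  refine Matrix.ext_of_mulVec_single fun i => ?_
  have hs := Fin.snoc_init_self (α := fun _ => F) (Pi.single i (1 : F))
  have := h (Fin.init (Pi.single i (1 : F) : Fin (n + 1) → F)) ((Pi.single i (1 : F) : Fin (n + 1) → F) (Fin.last n))
  rwa [hs] at this

/-- Extension as a unit. -/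
def extGL (g : GL (Fin n) F) : GL (Fin (n + 1)) F :=
  ⟨extMat (g : Matrix (Fin n) (Fin n) F), extMat ((g⁻¹ : GL (Fin n) F) : Matrix (Fin n) (Fin n) F),
    ext_snoc fun w x => by
      rw [← Matrix.mulVec_mulVec, extMat_mulVec, extMat_mulVec, Matrix.mulVec_mulVec, Units.mul_inv,
        Matrix.one_mulVec, Matrix.one_mulVec],
    ext_snoc fun w x => by
      rw [← Matrix.mulVec_mulVec, extMat_mulVec, extMat_mulVec, Matrix.mulVec_mulVec, Units.inv_mul,
        Matrix.one_mulVec, Matrix.one_mulVec]⟩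

/-- Elements of GU fixing the last basis vector. -/
abbrev Stab (n : ℕ) (F : Type*) [Field F] (q : ℕ) : Type _ :=
  {g : Cfsg.GU (n + 1) F q //
    ((g : GL (Fin (n + 1)) F) : Matrix (Fin (n + 1)) (Fin (n + 1)) F) *ᵥ Pi.single (Fin.last n) 1 =
      Pi.single (Fin.last n) 1}

theorem snoc_zero_one : (Fin.snoc (0 : Fin n → F) (1 : F) : Fin (n + 1) → F) = Pi.single (Fin.last n) 1 := by
  funext i
  induction i using Fin.lastCases with
  | last => simp
  | cast i => simp [(Fin.castSucc_lt_last i).ne]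

theorem stab_mulVec (hF : Fintype.card F = q ^ 2) (g : Stab n F q) (w : Fin n → F) (x : F) :
    ((g.1 : GL (Fin (n + 1)) F) : Matrix (Fin (n + 1)) (Fin (n + 1)) F) *ᵥ Fin.snoc w x =
      Fin.snoc (((g.1 : GL (Fin (n + 1)) F) : Matrix (Fin (n + 1)) (Fin (n + 1)) F).submatrix
        Fin.castSucc Fin.castSucc *ᵥ w) x := by
  set G := ((g.1 : GL (Fin (n + 1)) F) : Matrix (Fin (n + 1)) (Fin (n + 1)) F) with hG
  have hcol : ∀ i : Fin n, G i.castSucc (Fin.last n) = 0 := fun i => by
    have := congrFun g.2 i.castSucc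
    rw [Matrix.mulVec_single] at this
    simpa [(Fin.castSucc_lt_last i).ne] using this
  funext i
  induction i using Fin.lastCases with
  | last =>
    have h := g.1.2 (Fin.snoc w x) (Pi.single (Fin.last n) 1)
    change Cfsg.hermForm (n + 1) F q (G *ᵥ Fin.snoc w x) (G *ᵥ Pi.single (Fin.last n) 1) = _ at h
    rw [g.2, form_single hF, form_single hF] at h
    simpa using h
  | cast i =>
    rw [Fin.snoc_castSucc]
    simp [Matrix.mulVec, dotProduct, Fin.sum_univ_castSucc, hcol]

theorem card_stab (hF : Fintype.card F = q ^ 2) :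
    Nat.card (Stab n F q) = Nat.card (Cfsg.GU n F q) := by
  classical
  have hcoe : ∀ g : Cfsg.GU n F q, extGL (g : GL (Fin n) F) ∈ Cfsg.GU (n + 1) F q := by
    intro g u v
    change Cfsg.hermForm (n + 1) F q (extMat _ *ᵥ u) (extMat _ *ᵥ v) = _
    rw [← Fin.snoc_init_self u, ← Fin.snoc_init_self v, extMat_mulVec, extMat_mulVec, form_snoc,
      form_snoc]
    exact congrArg (· + _) (g.2 _ _)
  have hfix : ∀ g : Cfsg.GU n F q, extMat ((g : GL (Fin n) F) : Matrix (Fin n) (Fin n) F) *ᵥ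
      Pi.single (Fin.last n) 1 = Pi.single (Fin.last n) 1 := fun g => by
    rw [← snoc_zero_one, extMat_mulVec, Matrix.mulVec_zero]
  let φ : Cfsg.GU n F q → Stab n F q := fun g => ⟨⟨_, hcoe g⟩, hfix g⟩
  refine (Nat.card_eq_of_bijective φ ⟨fun a b h => ?_, fun g => ?_⟩).symm
  · refine Subtype.ext (Units.ext (Matrix.ext_of_mulVec_single fun i => ?_))
    have h' : extMat ((a : GL (Fin n) F) : Matrix (Fin n) (Fin n) F) =
        extMat ((b : GL (Fin n) F) : Matrix (Fin n) (Fin n) F) :=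
      congrArg (fun s : Stab n F q => ((s.1 : GL (Fin (n + 1)) F) : Matrix (Fin (n + 1)) (Fin (n + 1)) F)) h
    have := congrArg (fun A => A *ᵥ Fin.snoc (Pi.single i (1 : F)) 0) h'
    simp only [extMat_mulVec] at this
    simpa using congrArg Fin.init this
  · have hinv : ((g.1⁻¹ : Cfsg.GU (n + 1) F q) : GL (Fin (n + 1)) F).1 *ᵥ Pi.single (Fin.last n) 1 =
        Pi.single (Fin.last n) (1 : F) := by
      refine (congrArg (fun v => ((g.1⁻¹ : Cfsg.GU (n + 1) F q) : GL (Fin (n + 1)) F).1 *ᵥ v) g.2).symm.trans ?_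
      rw [Matrix.mulVec_mulVec, ← Units.val_mul, ← Subgroup.coe_mul, inv_mul_cancel]
      exact Matrix.one_mulVec _
    let g' : Stab n F q := ⟨g.1⁻¹, hinv⟩
    let A := ((g.1 : GL (Fin (n + 1)) F) : Matrix (Fin (n + 1)) (Fin (n + 1)) F).submatrix
      Fin.castSucc Fin.castSucc
    let A' := ((g'.1 : GL (Fin (n + 1)) F) : Matrix (Fin (n + 1)) (Fin (n + 1)) F).submatrix
      Fin.castSucc Fin.castSucc
    have hprod : ∀ a b : Stab n F q, (a.1 : Cfsg.GU (n + 1) F q) * b.1 = 1 →
        ((a.1 : GL (Fin (n + 1)) F) : Matrix (Fin (n + 1)) (Fin (n + 1)) F).submatrix Fin.castSucc Fin.castSucc *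
        ((b.1 : GL (Fin (n + 1)) F) : Matrix (Fin (n + 1)) (Fin (n + 1)) F).submatrix Fin.castSucc Fin.castSucc = 1 := by
      intro a b hab
      refine Matrix.ext_of_mulVec_single fun i => ?_
      have h1 : ((a.1 : GL (Fin (n + 1)) F) : Matrix (Fin (n + 1)) (Fin (n + 1)) F) *
          ((b.1 : GL (Fin (n + 1)) F) : Matrix (Fin (n + 1)) (Fin (n + 1)) F) = 1 := by
        rw [← Units.val_mul, ← Subgroup.coe_mul, hab]; rfl
      have h2 := congrArg (fun M => M *ᵥ Fin.snoc (Pi.single i (1 : F)) 0) h1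
      simp only [← Matrix.mulVec_mulVec, stab_mulVec hF, Matrix.one_mulVec] at h2
      rw [← Matrix.mulVec_mulVec, Matrix.one_mulVec]
      simpa only [Fin.init_snoc] using congrArg Fin.init h2
    have h1 : A * A' = 1 := hprod g g' (mul_inv_cancel _)
    have h2 : A' * A = 1 := hprod g' g (inv_mul_cancel _)
    refine ⟨⟨⟨A, A', h1, h2⟩, fun u v => ?_⟩, Subtype.ext (Subtype.ext (Units.ext (ext_snoc fun w x => ?_)))⟩
    · change Cfsg.hermForm n F q (A *ᵥ u) (A *ᵥ v) = _
      have h := g.1.2 (Fin.snoc u 0) (Fin.snoc v 0)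
      change Cfsg.hermForm (n + 1) F q
        (((g.1 : GL (Fin (n + 1)) F) : Matrix (Fin (n + 1)) (Fin (n + 1)) F) *ᵥ Fin.snoc u 0)
        (((g.1 : GL (Fin (n + 1)) F) : Matrix (Fin (n + 1)) (Fin (n + 1)) F) *ᵥ Fin.snoc v 0) = _ at h
      rw [stab_mulVec hF, stab_mulVec hF, form_snoc, form_snoc] at h
      simpa using h
    · change extMat A *ᵥ Fin.snoc w x = _
      rw [extMat_mulVec, stab_mulVec hF]

theorem card_GU_succ (hF : Fintype.card F = q ^ 2) :
    Nat.card (Cfsg.GU (n + 1) F q) =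
      Nat.card (Lev (n + 1) F q (1 : F)) * Nat.card (Cfsg.GU n F q) := by
  classical
  rw [← card_stab (n := n) hF, ← Nat.card_prod]
  have he : Cfsg.hermForm (n + 1) F q (Pi.single (Fin.last n) 1) (Pi.single (Fin.last n) 1) = (1 : F) := by
    rw [form_single hF, Pi.single_eq_same]
  choose t ht ht1 using fun v : Lev (n + 1) F q (1 : F) => GU_transitive hF he v.2
  let P : Cfsg.GU (n + 1) F q → Lev (n + 1) F q (1 : F) := fun g =>
    ⟨((g : GL (Fin (n + 1)) F) : Matrix (Fin (n + 1)) (Fin (n + 1)) F) *ᵥ Pi.single (Fin.last n) 1, by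
      exact (g.2 _ _).trans he⟩
  let T : Lev (n + 1) F q (1 : F) → Cfsg.GU (n + 1) F q := fun v => ⟨t v, ht v⟩
  have hPT : ∀ v (s : Stab n F q), P (T v * s.1) = v := by
    intro v s
    refine Subtype.ext ?_
    change ((t v : GL (Fin (n + 1)) F) * (s.1 : GL (Fin (n + 1)) F) : GL (Fin (n + 1)) F).1 *ᵥ _ = _
    rw [Units.val_mul, ← Matrix.mulVec_mulVec, s.2, ht1]
  have hS : ∀ g : Cfsg.GU (n + 1) F q, (((T (P g))⁻¹ * g : Cfsg.GU (n + 1) F q) : GL (Fin (n + 1)) F).1 *ᵥ
      Pi.single (Fin.last n) 1 = Pi.single (Fin.last n) (1 : F) := by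
    intro g
    rw [Subgroup.coe_mul, Units.val_mul, ← Matrix.mulVec_mulVec]
    change _ *ᵥ (P g).1 = _
    conv_lhs => rw [← ht1 (P g), Subgroup.coe_inv, Matrix.mulVec_mulVec, ← Units.val_mul,
      inv_mul_cancel, Units.val_one, Matrix.one_mulVec]
  exact Nat.card_congr
    { toFun := fun g => (P g, ⟨(T (P g))⁻¹ * g, hS g⟩)
      invFun := fun y => T y.1 * y.2.1
      left_inv := fun g => mul_inv_cancel_left _ _
      right_inv := fun y => Prod.ext (hPT y.1 y.2) (Subtype.ext (by
        change (T (P (T y.1 * y.2.1)))⁻¹ * (T y.1 * y.2.1) = y.2.1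
        rw [hPT, inv_mul_cancel_left])) }

theorem card_GU (hF : Fintype.card F = q ^ 2) (n : ℕ) : Nat.card (Cfsg.GU n F q) =
    q ^ (n * (n - 1) / 2) * ∏ i ∈ Finset.range n, (if Even i then q ^ (i + 1) + 1 else q ^ (i + 1) - 1) := by
  induction n with
  | zero =>
    simp only [Nat.zero_mul, Nat.zero_div, pow_zero, Finset.range_zero, Finset.prod_empty, one_mul]
    exact Nat.card_eq_one_iff_unique.2
      ⟨⟨fun a b => Subtype.ext (Units.ext (Subsingleton.elim _ _))⟩, ⟨1⟩⟩
  | succ n ih =>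
    rw [card_GU_succ hF, ih, card_lev_one hF, Finset.prod_range_succ, Nat.add_sub_cancel,
      show (n + 1) * n / 2 = n + n * (n - 1) / 2 by
        rcases n with _ | k
        · simp
        · rw [Nat.add_sub_cancel, show (k + 1 + 1) * (k + 1) = (k + 1) * k + (k + 1) * 2 by ring,
            Nat.add_mul_div_right _ _ two_pos]
          ring, pow_add]
    by_cases h : Even n
    · rw [if_pos h, if_neg (by simpa [Nat.even_add_one] using h)]
      ring
    · rw [if_neg h, if_pos (by simpa [Nat.even_add_one] using h)]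
      ring

end CfsgLib.Lie.Herm
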