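import Cfsg.Agent.Lie.SUStab

/-!
Totally isotropic lines of the unitary geometry.
-/

set_option autoImplicit false
set_option linter.unusedSimpArgs false
set_option linter.unusedSectionVars false

namespace CfsgLib.Lie.HermLines

open Matrix
open CfsgLib.Lie.Herm (form_add_left form_add_right form_smul_left form_smul_right form_comm form_snoc)

variable {F : Type*} [Field F] [Fintype F] {q n : ℕ}

theorem form_zero_zero (hF : Fintype.card F = q ^ 2) (u : Fin n → F) : Cfsg.hermForm n F q u 0 = 0 := by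
  have hq := Herm.two_le hF
  simp [Cfsg.hermForm, zero_pow (show q ≠ 0 by omega)]

/-- isometries are transitive on nonzero isotropic vectors -/
theorem iso_transitive (hF : Fintype.card F = q ^ 2) {v w : Fin n → F} (hv0 : v ≠ 0) (hw0 : w ≠ 0)
    (hv : Cfsg.hermForm n F q v v = 0) (hw : Cfsg.hermForm n F q w w = 0) :
    ∃ g : (Fin n → F) ≃ₗ[F] (Fin n → F), (∀ x y, Cfsg.hermForm n F q (g x) (g y) = Cfsg.hermForm n F q x y) ∧ g v = w := by
  have := Herm.conj_surjective hF
  let X := F ∙ v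
  let co : X ≃ₗ[F] F := (LinearEquiv.toSpanNonzeroSingleton F (Fin n → F) v hv0).symm
  have hco : ∀ a : X, (a : Fin n → F) = co a • v := fun a => by
    conv_lhs => rw [← co.symm_apply_apply a]
    rfl
  let f : X →ₗ[F] (Fin n → F) := (LinearMap.toSpanSingleton F _ w).comp co.toLinearMap
  have hf : ∀ a, f a = co a • w := fun a => rfl
  obtain ⟨g, hg, hg'⟩ := Witt.witt_hermitian (Herm.hb n hF) (Herm.conj_conj hF)
    (Witt.exists_trace (Herm.conj hF) (Herm.conj_ne_id hF) (Herm.conj_conj hF)) (Herm.hb_symm hF) (Herm.hb_sepLeft hF) X f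
    (fun a b h => co.injective (smul_left_injective F hw0 h))
    (fun a b => by
      rw [hf, hf, hco a, hco b]
      simp only [Herm.hb_apply, form_smul_left, form_smul_right, hv, hw])
  refine ⟨g, fun x y => ?_, ?_⟩
  · have := hg y x
    simpa only [Herm.hb_apply] using this
  · have := hg' ⟨v, Submodule.mem_span_singleton_self v⟩
    have hc1 : co ⟨v, Submodule.mem_span_singleton_self v⟩ = 1 :=
      smul_left_injective F hv0 (((hco _).symm.trans (one_smul F v).symm))
    rw [hf, hc1, one_smul] at this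
    exact this

/-- the isotropic vectors orthogonal to a fixed isotropic vector -/
theorem card_perp_iso (hF : Fintype.card F = q ^ 2) {v : Fin (n + 2) → F} (hv0 : v ≠ 0)
    (hv : Cfsg.hermForm (n + 2) F q v v = 0) :
    Nat.card {x : Fin (n + 2) → F // Cfsg.hermForm (n + 2) F q x v = 0 ∧ Cfsg.hermForm (n + 2) F q x x = 0} =
      q ^ 2 * Nat.card {w : Fin n → F // Cfsg.hermForm n F q w w = 0} := by
  have hq := Herm.two_le hF
  obtain ⟨a, ha⟩ := SUStab.exists_norm' hF (-1 : F) (by
    rw [← Herm.conj_apply hF, map_neg, map_one])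
  obtain ⟨v0, hv0d⟩ : ∃ v0 : Fin (n + 2) → F, v0 = Fin.snoc (Fin.snoc (0 : Fin n → F) 1) a := ⟨_, rfl⟩
  have hform : ∀ (w : Fin n → F) (x1 x2 : F), Cfsg.hermForm (n + 2) F q (Fin.snoc (Fin.snoc w x1) x2) v0 =
      x1 + x2 * a ^ q := by
    intro w x1 x2
    rw [hv0d, form_snoc, form_snoc, form_zero_zero hF, zero_add, one_pow, mul_one]
  have hself : ∀ (w : Fin n → F) (x1 x2 : F), Cfsg.hermForm (n + 2) F q (Fin.snoc (Fin.snoc w x1) x2) (Fin.snoc (Fin.snoc w x1) x2) =
      Cfsg.hermForm n F q w w + x1 * x1 ^ q + x2 * x2 ^ q := by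
    intro w x1 x2
    rw [form_snoc, form_snoc]
  have hv00 : v0 ≠ 0 := by
    intro e
    have := congrFun e (Fin.castSucc (Fin.last n))
    rw [hv0d] at this
    simp at this
  have hv0i : Cfsg.hermForm (n + 2) F q v0 v0 = 0 := by
    have := hform 0 1 a
    rw [← hv0d] at this
    rw [this, ha]; ring
  obtain ⟨g, hg, hgv⟩ := iso_transitive hF hv0 hv00 hv hv0i
  have hz : ∀ (w : Fin n → F) (x2 : F), (-(x2 * a ^ q)) * (-(x2 * a ^ q)) ^ q + x2 * x2 ^ q = 0 := by
    intro w x2
    rw [← Herm.conj_apply hF (-(x2 * a ^ q)), map_neg, map_mul, Herm.conj_apply, Herm.conj_apply, Herm.pow_pow_q hF]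
    linear_combination x2 * x2 ^ q * ha
  have hdec : ∀ x : Fin (n + 2) → F, x = Fin.snoc (Fin.snoc (Fin.init (Fin.init x)) (Fin.init x (Fin.last n))) (x (Fin.last (n + 1))) :=
    fun x => by rw [Fin.snoc_init_self, Fin.snoc_init_self]
  let e1 : {x : Fin (n + 2) → F // Cfsg.hermForm (n + 2) F q x v = 0 ∧ Cfsg.hermForm (n + 2) F q x x = 0} ≃
      {x : Fin (n + 2) → F // Cfsg.hermForm (n + 2) F q x v0 = 0 ∧ Cfsg.hermForm (n + 2) F q x x = 0} :=
    g.toEquiv.subtypeEquiv fun x => by
      show _ ↔ Cfsg.hermForm (n + 2) F q (g x) v0 = 0 ∧ Cfsg.hermForm (n + 2) F q (g x) (g x) = 0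
      rw [← hgv, hg, hg]
  let e2 : {x : Fin (n + 2) → F // Cfsg.hermForm (n + 2) F q x v0 = 0 ∧ Cfsg.hermForm (n + 2) F q x x = 0} ≃
      F × {w : Fin n → F // Cfsg.hermForm n F q w w = 0} :=
    { toFun := fun x => (x.1 (Fin.last (n + 1)), ⟨Fin.init (Fin.init x.1), by
        obtain ⟨x, h1, h2⟩ := x
        rw [hdec x, hform] at h1
        rw [hdec x, hself, eq_neg_of_add_eq_zero_left h1] at h2
        have := hz (Fin.init (Fin.init x)) (x (Fin.last (n + 1)))
        simp only
        linear_combination h2 - this⟩)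
      invFun := fun p => ⟨Fin.snoc (Fin.snoc p.2.1 (-(p.1 * a ^ q))) p.1, by
        rw [hform]; ring, by
        rw [hself, p.2.2, zero_add]; exact hz p.2.1 p.1⟩
      left_inv := fun x => by
        obtain ⟨x, h1, h2⟩ := x
        refine Subtype.ext ?_
        rw [hdec x, hform] at h1
        simp only
        conv_rhs => rw [hdec x, eq_neg_of_add_eq_zero_left h1]
      right_inv := fun p => by
        obtain ⟨y, w, hw⟩ := p
        simp }
  rw [Nat.card_congr (e1.trans e2), Nat.card_prod, Nat.card_eq_fintype_card (α := F), hF]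

/-- counting totally isotropic lines -/
theorem card_lines (hF : Fintype.card F = q ^ 2) (c : ℕ)
    (hc : Nat.card {w : Fin n → F // Cfsg.hermForm n F q w w = 0} = (q ^ 2 - 1) * c + 1) :
    Nat.card {W : Submodule F (Fin (n + 2) → F) //
        Module.finrank F W = 2 ∧ ∀ u ∈ W, ∀ v ∈ W, Cfsg.hermForm (n + 2) F q u v = 0} * ((q ^ 2) ^ 2 - 1) =
      (Nat.card {x : Fin (n + 2) → F // Cfsg.hermForm (n + 2) F q x x = 0} - 1) * c := by
  classical
  have hq := Herm.two_le hF
  have hcard : ∀ W : Submodule F (Fin (n + 2) → F), Nat.card W = (q ^ 2) ^ Module.finrank F W := fun W => by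
    rw [Module.natCard_eq_pow_finrank (K := F), Nat.card_eq_fintype_card, hF]
  haveI : Finite (Submodule F (Fin (n + 2) → F)) :=
    Finite.of_injective (fun W => (W : Set (Fin (n + 2) → F))) SetLike.coe_injective
  obtain ⟨B, hBdef⟩ : ∃ B : (Fin (n + 2) → F) → (Fin (n + 2) → F) → F, B = Cfsg.hermForm (n + 2) F q := ⟨_, rfl⟩
  rw [← hBdef]
  have hsym : ∀ {u v}, B u v = 0 → B v u = 0 := fun {u v} h => by
    rw [hBdef] at h ⊢; exact SUFull.form_eq_zero_symm hF h
  have part2 : ∀ v : Fin (n + 2) → F, v ≠ 0 → B v v = 0 → Nat.card {W : Submodule F (Fin (n + 2) → F) //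
      Module.finrank F W = 2 ∧ v ∈ W ∧ ∀ u ∈ W, ∀ w ∈ W, B u w = 0} = c := by
    intro v hv hvv
    let S := {W : Submodule F (Fin (n + 2) → F) // Module.finrank F W = 2 ∧ v ∈ W ∧ ∀ u ∈ W, ∀ w ∈ W, B u w = 0}
    let Lv := Submodule.span F {v}
    have hL : Module.finrank F Lv = 1 := finrank_span_singleton hv
    let T := {w : Fin (n + 2) → F // (B w v = 0 ∧ B w w = 0) ∧ w ∉ Lv}
    have hspan : ∀ w : T, Module.finrank F (Submodule.span F {v, w.1}) = 2 := by
      intro w
      have hli : LinearIndependent F ![v, w.1] := by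
        rw [LinearIndependent.pair_iff' hv]
        exact fun a h => w.2.2 (Submodule.mem_span_singleton.2 ⟨a, h⟩)
      have := finrank_span_eq_card hli
      rwa [Matrix.range_cons, Matrix.range_cons, Matrix.range_empty, Set.union_empty,
        Set.singleton_union, Fintype.card_fin] at this
    let φ : T → S := fun w => ⟨Submodule.span F {v, w.1}, hspan w,
      Submodule.subset_span (Set.mem_insert _ _), fun a ha b hb => by
        obtain ⟨a1, a2, rfl⟩ := Submodule.mem_span_pair.1 ha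
        obtain ⟨b1, b2, rfl⟩ := Submodule.mem_span_pair.1 hb
        have h2 := w.2.1.1
        have h1 := hsym h2
        have h4 := w.2.1.2
        subst hBdef
        simp [form_add_left, form_add_right hF, form_smul_left, form_smul_right, h1, h2, hvv, h4]⟩
    have hdiff : ∀ (W : Set (Fin (n + 2) → F)), (Lv : Set (Fin (n + 2) → F)) ⊆ W →
        Nat.card {w : Fin (n + 2) → F // w ∈ W ∧ w ∉ Lv} = Nat.card W - q ^ 2 := by
      intro W hW
      have h : (W \ (Lv : Set (Fin (n + 2) → F))).ncard = W.ncard - (Lv : Set (Fin (n + 2) → F)).ncard :=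
        Set.ncard_sdiff hW (Set.toFinite _)
      rw [← Nat.card_coe_set_eq, ← Nat.card_coe_set_eq, ← Nat.card_coe_set_eq] at h
      change Nat.card _ = Nat.card W - Nat.card Lv at h
      rw [hcard, hL, pow_one] at h
      exact h
    have hfib : ∀ W : S, Nat.card {w : T // φ w = W} = (q ^ 2) ^ 2 - q ^ 2 := by
      intro W
      have hLW : Lv ≤ W.1 := (Submodule.span_singleton_le_iff_mem _ _).2 W.2.2.1
      have h := hdiff (W.1 : Set (Fin (n + 2) → F)) hLW
      rw [show Nat.card (W.1 : Set (Fin (n + 2) → F)) = (q ^ 2) ^ 2 from (hcard W.1).trans (by rw [W.2.1])] at h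
      rw [← h]
      refine Nat.card_congr
        { toFun := fun w => ⟨w.1.1, congrArg Subtype.val w.2 ▸
            Submodule.subset_span (Set.mem_insert_of_mem _ rfl), w.1.2.2⟩
          invFun := fun w => ⟨⟨w.1, ⟨W.2.2.2 _ w.2.1 v W.2.2.1, W.2.2.2 _ w.2.1 _ w.2.1⟩, w.2.2⟩,
            Subtype.ext (Submodule.eq_of_le_of_finrank_eq (Submodule.span_le.2
              (Set.insert_subset W.2.2.1 (Set.singleton_subset_iff.2 w.2.1)))
              ((hspan _).trans W.2.1.symm))⟩
          left_inv := fun _ => rfl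
          right_inv := fun _ => rfl }
    have hT : Nat.card T = q ^ 2 * ((q ^ 2 - 1) * c) := by
      have hsub : (Lv : Set (Fin (n + 2) → F)) ⊆ {w | B w v = 0 ∧ B w w = 0} := by
        intro w hw
        obtain ⟨t, rfl⟩ := Submodule.mem_span_singleton.1 hw
        subst hBdef
        simp [form_smul_left, form_smul_right, hvv]
      have h := hdiff {w | B w v = 0 ∧ B w w = 0} hsub
      have h2 : Nat.card ({w | B w v = 0 ∧ B w w = 0} : Set (Fin (n + 2) → F)) = q ^ 2 * ((q ^ 2 - 1) * c + 1) := by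
        subst hBdef
        rw [← hc]
        exact card_perp_iso hF hv hvv
      rw [h2, mul_add, mul_one, Nat.add_sub_cancel] at h
      exact h
    haveI : Fintype S := Fintype.ofFinite S
    rw [← Nat.card_congr (Equiv.sigmaFiberEquiv φ), Nat.card_sigma, Finset.sum_congr rfl
      (fun W _ => hfib W), Finset.sum_const, smul_eq_mul, Finset.card_univ,
      ← Nat.card_eq_fintype_card] at hT
    have h4 : (q ^ 2) ^ 2 - q ^ 2 = q ^ 2 * (q ^ 2 - 1) := by
      rw [Nat.mul_sub, mul_one, pow_two (q ^ 2)]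
    have h5 : 0 < q ^ 2 * (q ^ 2 - 1) := by
      have : 2 * 2 ≤ q * q := Nat.mul_le_mul hq hq
      rw [pow_two]
      exact Nat.mul_pos (by omega) (by omega)
    rw [h4, ← mul_assoc (q ^ 2) (q ^ 2 - 1) c, mul_comm (q ^ 2 * (q ^ 2 - 1)) c] at hT
    exact Nat.eq_of_mul_eq_mul_right h5 hT
  let S := {W : Submodule F (Fin (n + 2) → F) // Module.finrank F W = 2 ∧ ∀ u ∈ W, ∀ v ∈ W, B u v = 0}
  let V := {v : Fin (n + 2) → F // B v v = 0 ∧ v ≠ 0}
  let e : (Σ W : S, {v : W.1 // v ≠ 0}) ≃ (Σ v : V,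
      {W : Submodule F (Fin (n + 2) → F) // Module.finrank F W = 2 ∧ v.1 ∈ W ∧ ∀ u ∈ W, ∀ w ∈ W, B u w = 0}) :=
    { toFun := fun p => ⟨⟨p.2.1.1, p.1.2.2 _ p.2.1.2 _ p.2.1.2, fun h => p.2.2 (Subtype.ext h)⟩,
        ⟨p.1.1, p.1.2.1, p.2.1.2, p.1.2.2⟩⟩
      invFun := fun p => ⟨⟨p.2.1, p.2.2.1, p.2.2.2.2⟩,
        ⟨⟨p.1.1, p.2.2.2.1⟩, fun h => p.1.2.2 (congrArg Subtype.val h)⟩⟩
      left_inv := fun _ => rfl
      right_inv := fun _ => rfl }
  haveI : Fintype S := Fintype.ofFinite S
  haveI : Fintype V := Fintype.ofFinite V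
  have h := Nat.card_congr e
  have hne : ∀ W : S, Nat.card {v : W.1 // v ≠ 0} = (q ^ 2) ^ 2 - 1 := fun W => by
    haveI : Fintype W.1 := Fintype.ofFinite _
    rw [Nat.card_eq_fintype_card, Fintype.card_subtype_compl, Fintype.card_subtype_eq, ← Nat.card_eq_fintype_card,
      hcard, W.2.1]
  have hV : Nat.card V = Nat.card {x : Fin (n + 2) → F // B x x = 0} - 1 := by
    have hz : B 0 0 = 0 := by subst hBdef; exact form_zero_zero hF 0
    haveI : Fintype {x : Fin (n + 2) → F // B x x = 0} := Fintype.ofFinite _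
    rw [Nat.card_congr ((Equiv.subtypeSubtypeEquivSubtypeInter (fun x => B x x = 0) (fun x => x ≠ 0)).symm.trans
      (Equiv.subtypeEquivRight (q := fun x : {x : Fin (n + 2) → F // B x x = 0} => x ≠ ⟨0, hz⟩) fun x => by
        simp [Subtype.ext_iff]))]
    rw [Nat.card_eq_fintype_card, Fintype.card_subtype_compl, Fintype.card_subtype_eq, ← Nat.card_eq_fintype_card]
  rw [Nat.card_sigma, Nat.card_sigma, Finset.sum_congr rfl (fun W _ => hne W),
    Finset.sum_congr (s₁ := (Finset.univ : Finset V)) rfl (fun v _ => part2 v.1 v.2.2 v.2.1), Finset.sum_const,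
    Finset.sum_const, smul_eq_mul, smul_eq_mul, Finset.card_univ, Finset.card_univ,
    ← Nat.card_eq_fintype_card, ← Nat.card_eq_fintype_card, hV] at h
  exact h

end CfsgLib.Lie.HermLines
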