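import Mathlib

/-!
Irredundant bases: equal sizes iff invariant under reordering.
-/

set_option autoImplicit false

namespace CfsgLib.Lie.IBIS

variable {G Ω : Type*} [Group G] [MulAction G Ω]

variable (G) in
/-- Irredundant list. -/
def Irr (l : List Ω) : Prop :=
  ∀ a x b, l = a ++ x :: b → ∃ g : G, (∀ y ∈ a, g • y = y) ∧ g • x ≠ x

variable (G) in
/-- Base. -/
def IsBase (l : List Ω) : Prop := ∀ g : G, (∀ y ∈ l, g • y = y) → g = 1

variable (G) in
/-- Irredundant base. -/
def IB (l : List Ω) : Prop := IsBase G l ∧ Irr G l

theorem Irr.prefix {a b : List Ω} (h : Irr G (a ++ b)) : Irr G a := fun c x d he =>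
  h c x (d ++ b) (by rw [he, List.append_assoc]; rfl)

theorem irr_nil : Irr G ([] : List Ω) := fun a x b h => by simp at h

theorem irr_append_singleton {a : List Ω} {x : Ω} (h : Irr G a) {g : G}
    (hg : ∀ y ∈ a, g • y = y) (hx : g • x ≠ x) : Irr G (a ++ [x]) := by
  intro c z d he
  rcases List.eq_nil_or_concat d with rfl | ⟨d', w, rfl⟩
  · obtain ⟨h1, h2⟩ := List.append_inj' he rfl
    cases h2
    subst h1
    exact ⟨g, hg, hx⟩
  · refine h c z d' ?_
    have h1 : a ++ [x] = (c ++ z :: d') ++ [w] := by simp [he]
    exact (List.append_inj' h1 rfl).1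

theorem Irr.nodup {l : List Ω} (h : Irr G l) : l.Nodup := by
  induction l using List.reverseRecOn with
  | nil => exact List.nodup_nil
  | append_singleton a x ih =>
    obtain ⟨g, hg, hx⟩ := h a x [] rfl
    rw [List.nodup_append]
    refine ⟨ih h.prefix, List.nodup_singleton x, fun y hy z hz => ?_⟩
    simp at hz
    subst hz
    exact fun he => hx (hg z (he ▸ hy))

theorem reduce {p : List Ω} (hp : Irr G p) (r : List Ω) :
    ∃ r', r'.Sublist r ∧ Irr G (p ++ r') ∧
      (∀ g : G, (∀ y ∈ p ++ r', g • y = y) → ∀ y ∈ p ++ r, g • y = y) ∧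
      (r'.length = r.length → Irr G (p ++ r)) := by
  induction r using List.reverseRecOn with
  | nil => exact ⟨[], List.Sublist.refl _, by simpa using hp, fun g hg => hg, fun _ => by simpa using hp⟩
  | append_singleton a x ih =>
    obtain ⟨a', hs, hirr, hfix, hlen⟩ := ih
    by_cases hx : ∃ g : G, (∀ y ∈ p ++ a', g • y = y) ∧ g • x ≠ x
    · obtain ⟨g, hg, hgx⟩ := hx
      refine ⟨a' ++ [x], hs.append (List.Sublist.refl _), ?_, ?_, ?_⟩
      · rw [← List.append_assoc]; exact irr_append_singleton hirr hg hgx
      · intro k hk y hy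
        rw [← List.append_assoc, List.mem_append] at hy
        rcases hy with hy | hy
        · exact hfix k (fun z hz => hk z (by
            rw [← List.append_assoc]; exact List.mem_append_left _ hz)) y hy
        · exact hk y (by rw [← List.append_assoc]; exact List.mem_append_right _ hy)
      · intro he
        have he' : a'.length = a.length := by simpa using he
        have : a' = a := hs.eq_of_length he'
        subst this
        rw [← List.append_assoc]
        exact irr_append_singleton hirr hg hgx
    · push_neg at hx
      refine ⟨a', hs.trans (List.sublist_append_left a [x]), hirr, ?_, ?_⟩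
      · intro k hk y hy
        rw [← List.append_assoc, List.mem_append] at hy
        rcases hy with hy | hy
        · exact hfix k hk y hy
        · rw [List.mem_singleton] at hy
          subst hy
          exact hx k hk
      · intro he
        have := hs.length_le
        simp at he
        omega

theorem perm_of_sizes (h : ∀ a b : List Ω, IB G a → IB G b → a.length = b.length) {l l' : List Ω}
    (hl : IB G l) (hp : l'.Perm l) : IB G l' := by
  have hb : IsBase G l' := fun g hg => hl.1 g fun y hy => hg y (hp.mem_iff.2 hy)
  obtain ⟨r, hs, hirr, hfix, hlen⟩ := reduce (G := G) irr_nil l'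
  have hr : IB G r := ⟨fun g hg => hb g (by simpa using hfix g (by simpa using hg)),
    by simpa using hirr⟩
  exact ⟨hb, by simpa using hlen (by rw [h r l hr hl, hp.length_eq])⟩

theorem length_le [DecidableEq Ω] (h : ∀ l l' : List Ω, IB G l → l'.Perm l → IB G l') :
    ∀ (n : ℕ) (B B' : List Ω), IB G B → IB G B' → (B'.filter (fun x => x ∉ B)).length = n →
      B'.length ≤ B.length := by
  intro n
  induction n using Nat.strong_induction_on with
  | _ n ih =>
    intro B B' hB hB' hn
    by_cases h0 : ∀ x ∈ B', x ∈ B
    · exact (hB'.2.nodup.subperm h0).length_le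
    push_neg at h0
    obtain ⟨x, hx', hx⟩ := h0
    have hBn := hB.2.nodup
    have hB'n := hB'.2.nodup
    set I := B.filter (fun y => y ∈ B') with hI
    set R := B.filter (fun y => decide (¬ (y ∈ B'))) with hR
    have hP : Irr G (I ++ [x]) := by
      have hsub : (I ++ [x]).Subperm B' := by
        refine List.Nodup.subperm ?_ ?_
        · rw [List.nodup_append]
          exact ⟨hBn.filter _, List.nodup_singleton x, fun y hy z hz he => by
            simp at hz; subst hz; subst he; exact hx (List.mem_filter.1 hy).1⟩
        · intro y hy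
          simp [hI] at hy
          rcases hy with hy | hy
          · exact hy.2
          · exact hy ▸ hx'
      obtain ⟨l0, hl0, hl1⟩ := hsub
      obtain ⟨t, ht⟩ := hl1.exists_perm_append
      exact (h B' _ hB' (ht.trans (hl0.append_right t)).symm).2.prefix
    obtain ⟨r, hs, hirr, hfix, hlen⟩ := reduce hP R
    have hmem : ∀ y ∈ B, y ∈ (I ++ [x]) ++ R := by
      intro y hy
      by_cases hy' : y ∈ B' <;> simp [hI, hR, hy, hy']
    have hnew : IB G ((I ++ [x]) ++ r) := ⟨fun g hg => hB.1 g fun y hy => hfix g hg y (hmem y hy), hirr⟩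
    have hperm : (I ++ R).Perm B := by
      have := List.filter_append_perm (fun y => decide (y ∈ B')) B
      simpa [hI, hR] using this
    have hlt : r.length < R.length := by
      rcases Nat.lt_or_ge r.length R.length with h1 | h1
      · exact h1
      · exfalso
        have heq := le_antisymm hs.length_le h1
        have hfull : IB G ((I ++ [x]) ++ R) := ⟨fun g hg => hB.1 g fun y hy => hg y (hmem y hy), hlen heq⟩
        have hp2 : (B ++ [x]).Perm ((I ++ [x]) ++ R) := by
          refine ((hperm.symm).append_right [x]).trans ?_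
          rw [List.append_assoc, List.append_assoc]
          exact List.Perm.append_left I List.perm_append_comm
        obtain ⟨g, hg, hgx⟩ := (h _ _ hfull hp2).2 B x [] rfl
        exact hgx (by rw [hB.1 g hg, one_smul])
    have h2 := ih _ ?_ _ B' hnew hB' rfl
    · refine le_trans h2 ?_
      rw [← hperm.length_eq]
      simp only [List.length_append, List.length_singleton]
      omega
    · rw [← hn]
      have hsubm : (B'.filter (fun z => z ∉ (I ++ [x]) ++ r)).Subperm ((B'.filter (fun z => z ∉ B)).erase x) := by
        refine (hB'n.filter _).subperm ?_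
        intro z hz
        simp only [List.mem_filter, decide_eq_true_eq, List.mem_append, List.mem_singleton, not_or] at hz
        rw [List.mem_erase_of_ne hz.2.1.2]
        simp only [List.mem_filter, decide_eq_true_eq]
        exact ⟨hz.1, fun hzB => hz.2.1.1 (List.mem_filter.2 ⟨hzB, by simpa using hz.1⟩)⟩
      have hxm : x ∈ B'.filter (fun z => z ∉ B) := by simp [hx', hx]
      have h3 := hsubm.length_le
      rw [List.length_erase_of_mem hxm] at h3
      have : 0 < (B'.filter (fun z => z ∉ B)).length := List.length_pos_of_mem hxm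
      omega

theorem ib_ofFn {t : ℕ} (f : Fin t → Ω) : IB G (List.ofFn f) ↔
    ((∀ g : G, (∀ i, g • f i = f i) → g = 1) ∧
      ∀ i : Fin t, ∃ g : G, (∀ j : Fin t, j < i → g • f j = f j) ∧ g • f i ≠ f i) := by
  refine and_congr ?_ ?_
  · simp only [IsBase, List.mem_ofFn, forall_exists_index]
    exact forall_congr' fun g => imp_congr_left ⟨fun h i => h _ i rfl, fun h y i hi => hi ▸ h i⟩
  · constructor
    · intro h i
      have hlen : (i : ℕ) < (List.ofFn f).length := by simp
      obtain ⟨g, hg, hgi⟩ := h ((List.ofFn f).take i) (f i) ((List.ofFn f).drop (i + 1)) (by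
        conv_lhs => rw [← List.take_append_drop (i : ℕ) (List.ofFn f), List.drop_eq_getElem_cons hlen]
        simp)
      refine ⟨g, fun j hj => hg _ ?_, hgi⟩
      rw [List.mem_take_iff_getElem]
      exact ⟨j, by simp [Fin.lt_def.1 hj], by simp⟩
    · intro h a x b he
      have hlen : a.length < t := by
        have := congrArg List.length he
        simp at this
        omega
      obtain ⟨g, hg, hgi⟩ := h ⟨a.length, hlen⟩
      have hget : ∀ k (hk : k < t), f ⟨k, hk⟩ = (a ++ x :: b)[k]'(by
          rw [← he]; simpa using hk) := fun k hk => by simp [← he]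
      refine ⟨g, fun y hy => ?_, ?_⟩
      · obtain ⟨k, hk, rfl⟩ := List.getElem_of_mem hy
        have h1 := hg ⟨k, by omega⟩ (Fin.lt_def.2 hk)
        rw [hget] at h1
        simpa [List.getElem_append_left hk] using h1
      · rw [hget] at hgi
        simpa using hgi

theorem ibis_iff (P : ∀ t : ℕ, (Fin t → Ω) → Prop) (hP : ∀ t f, P t f ↔ IB G (List.ofFn f)) :
    (∀ (t t' : ℕ) (f : Fin t → Ω) (f' : Fin t' → Ω), P t f → P t' f' → t = t') ↔
      ∀ (t : ℕ) (f : Fin t → Ω) (σ : Equiv.Perm (Fin t)), P t f → P t (f ∘ σ) := by
  classical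
  have hget : ∀ l : List Ω, IB G l → P l.length l.get := fun l hl => by rw [hP, List.ofFn_get]; exact hl
  constructor
  · intro h t f σ hf
    rw [hP] at hf ⊢
    exact perm_of_sizes (fun a b ha hb => h _ _ _ _ (hget a ha) (hget b hb)) hf (σ.ofFn_comp_perm f)
  · intro h t t' f f' hf hf'
    have hperm : ∀ l l' : List Ω, IB G l → l'.Perm l → IB G l' := by
      intro l l' hl hp
      obtain ⟨σ, hσ⟩ : ∃ σ : Equiv.Perm (Fin l.length), List.ofFn (l.get ∘ σ) = l' := by
        have hn := hl.2.nodup
        have hn' : l'.Nodup := hp.nodup_iff.2 hn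
        have hlen : l'.length = l.length := hp.length_eq
        let e : Fin l.length ≃ Fin l.length := (finCongr hlen.symm).trans
          ((List.Nodup.getEquiv l' hn').trans ((Equiv.subtypeEquivRight fun a => hp.mem_iff).trans
            (List.Nodup.getEquiv l hn).symm))
        refine ⟨e, List.ext_getElem (by simp [hlen]) fun i h1 h2 => ?_⟩
        simp [e]
      rw [← hσ, ← hP]
      exact h _ _ σ (hget l hl)
    rw [hP] at hf hf'
    have h1 := length_le hperm _ _ _ hf hf' rfl
    have h2 := length_le hperm _ _ _ hf' hf rfl
    simp at h1 h2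
    omega

end CfsgLib.Lie.IBIS
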