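import Cfsg.Prelude.Def_GeometricClasses
import Mathlib

/-!
A linear map squaring to a scalar is monomial in a suitable basis and preserves decompositions of every shape.
-/

set_option autoImplicit false
set_option linter.unusedSectionVars false

namespace CfsgLib.Lie.InvolutionDecomp

open Module Submodule

variable {F : Type*} [Field F] {V : Type*} [AddCommGroup V] [Module F V] [FiniteDimensional F V]

theorem pairs (T : V →ₗ[F] V) (z : F) (hT : ∀ v, T (T v) = z • v) (hz : ∀ r : F, r * r ≠ z) :
    ∀ k : ℕ, 2 * k ≤ finrank F V + 1 →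
      ∃ u : Fin k → V, finrank F (span F (Set.range (Sum.elim u (T ∘ u)))) = 2 * k := by
  intro k
  induction k with
  | zero => exact fun _ => ⟨Fin.elim0, by simp [Set.range_eq_empty, finrank_bot]⟩
  | succ k ih =>
    intro hk
    obtain ⟨u, hu⟩ := ih (by omega)
    obtain ⟨S, hS⟩ : ∃ S, S = span F (Set.range (Sum.elim u (T ∘ u))) := ⟨_, rfl⟩
    rw [← hS] at hu
    obtain ⟨w, hw⟩ : ∃ w, w ∉ S := by
      by_contra h
      push Not at h
      have h1 : S = ⊤ := eq_top_iff'.2 h
      rw [h1, finrank_top] at hu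
      omega
    have hTS : ∀ s ∈ S, T s ∈ S := by
      intro s hs
      rw [hS] at hs ⊢
      refine (span_le.2 ?_ : span F (Set.range (Sum.elim u (T ∘ u))) ≤ (span F (Set.range (Sum.elim u (T ∘ u)))).comap T) hs
      rintro - ⟨i | i, rfl⟩
      · exact subset_span ⟨Sum.inr i, rfl⟩
      · show T (T (u i)) ∈ span F (Set.range (Sum.elim u (T ∘ u)))
        rw [hT]; exact smul_mem _ _ (subset_span ⟨Sum.inl i, rfl⟩)
    have key : ∀ a b : F, a • w + b • T w ∈ S → a = 0 ∧ b = 0 := by
      intro a b h
      have h2 : (a * a - b * b * z) • w ∈ S := by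
        have h3 := sub_mem (smul_mem S a h) (smul_mem S b (hTS _ h))
        convert h3 using 1
        rw [map_add, map_smul, map_smul, hT]
        module
      have h4 : a * a - b * b * z = 0 := by
        by_contra hne
        exact hw ((smul_mem_iff S hne).1 h2)
      by_cases hb : b = 0
      · subst hb; simp at h4; exact ⟨h4, rfl⟩
      · exact absurd (by field_simp; linear_combination h4) (hz (a / b))
    obtain ⟨P, hP⟩ : ∃ P, P = span F (Set.range ![w, T w]) := ⟨_, rfl⟩
    have hPi : LinearIndependent F ![w, T w] := by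
      rw [LinearIndependent.pair_iff]
      exact fun a b h => key a b (by rw [h]; exact zero_mem S)
    have hPd : finrank F P = 2 := by rw [hP, finrank_span_eq_card hPi, Fintype.card_fin]
    have hinf : S ⊓ P = ⊥ := by
      rw [eq_bot_iff]
      rintro x ⟨hx1, hx2⟩
      rw [SetLike.mem_coe, hP, Submodule.mem_span_range_iff_exists_fun] at hx2
      obtain ⟨c, rfl⟩ := hx2
      simp only [Fin.sum_univ_two, Matrix.cons_val_zero, Matrix.cons_val_one] at hx1 ⊢
      obtain ⟨h1, h2⟩ := key _ _ hx1
      simp [h1, h2]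
    refine ⟨Fin.cons w u, ?_⟩
    have hset : Set.range (Sum.elim (Fin.cons w u : Fin (k + 1) → V) (T ∘ Fin.cons w u)) =
        Set.range (Sum.elim u (T ∘ u)) ∪ Set.range ![w, T w] := by
      rw [Set.Sum.elim_range, Set.Sum.elim_range, Set.range_comp, Set.range_comp, Fin.range_cons, Set.image_insert_eq]
      simp [Matrix.range_cons, Matrix.range_empty]
      ext x; simp; tauto
    rw [hset, span_union, ← hS, ← hP]
    have h := finrank_sup_add_finrank_inf_eq S P
    rw [hinf, finrank_bot, hPd, hu] at h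
    omega

/-- A map squaring to a non-zero scalar is monomial in a suitable basis. -/
theorem exists_basis (T : V →ₗ[F] V) (z : F) (hT : ∀ v, T (T v) = z • v) (hz0 : z ≠ 0) :
    ∃ (k f : ℕ) (b : Basis ((Fin k ⊕ Fin k) ⊕ Fin f) F V) (lam : Fin f → F),
      (∀ i, T (b (Sum.inl (Sum.inl i))) = b (Sum.inl (Sum.inr i))) ∧ (∀ j, T (b (Sum.inr j)) = lam j • b (Sum.inr j)) ∧
      (∀ j, lam j ≠ 0) := by
  by_cases hsq : ∃ r : F, r * r = z
  · obtain ⟨μ, rfl⟩ := hsq
    have hμ : μ ≠ 0 := fun h => hz0 (by rw [h, mul_zero])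
    obtain ⟨N, hN⟩ : ∃ N : V →ₗ[F] V, N = T - μ • LinearMap.id := ⟨_, rfl⟩
    have hNv : ∀ v, N v = T v - μ • v := fun v => by simp [hN]
    by_cases h2 : (2 : F) = 0
    · have hN2 : ∀ v, N (N v) = 0 := fun v => by
        rw [hNv, hNv, map_sub, map_smul, hT]
        have : (μ * μ) • v - μ • T v - μ • (T v - μ • v) = (2 * (μ * μ)) • v - (2 * μ) • T v := by module
        rw [this, h2]; simp
      obtain ⟨C, hC⟩ := Submodule.exists_isCompl (LinearMap.ker N)
      have hle : LinearMap.range N ≤ LinearMap.ker N := by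
        rintro - ⟨v, rfl⟩; exact hN2 v
      obtain ⟨D, hD⟩ := Submodule.exists_isCompl ((LinearMap.range N).comap (LinearMap.ker N).subtype)
      let bc := Module.finBasis F C
      let bd := Module.finBasis F D
      let g : (Fin (finrank F C) ⊕ Fin (finrank F C)) ⊕ Fin (finrank F D) → V :=
        Sum.elim (Sum.elim (fun i => (bc i : V)) (fun i => T (bc i : V))) (fun j => ((bd j : LinearMap.ker N) : V))
      obtain ⟨W, hW⟩ : ∃ W, W = span F (Set.range g) := ⟨_, rfl⟩
      have hCW : ∀ c ∈ C, c ∈ W ∧ T c ∈ W := by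
        intro c hc
        have : (C : Submodule F V) ≤ W ⊓ W.comap T := by
          rw [← Submodule.map_subtype_top C, ← bc.span_eq, Submodule.map_span,
            Submodule.span_le]
          rintro - ⟨-, ⟨i, rfl⟩, rfl⟩
          exact ⟨hW ▸ subset_span ⟨Sum.inl (Sum.inl i), rfl⟩,
            Submodule.mem_comap.2 (hW ▸ subset_span ⟨Sum.inl (Sum.inr i), rfl⟩)⟩
        exact this hc
      have hRW : LinearMap.range N ≤ W := by
        rintro - ⟨v, rfl⟩
        have hv : v ∈ LinearMap.ker N ⊔ C := by rw [hC.sup_eq_top]; trivial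
        obtain ⟨a, ha, c, hc, rfl⟩ := Submodule.mem_sup.1 hv
        rw [map_add, LinearMap.mem_ker.1 ha, zero_add, hNv]
        exact sub_mem (hCW c hc).2 (smul_mem _ _ (hCW c hc).1)
      have hKW : LinearMap.ker N ≤ W := by
        intro v hv
        have h : (⟨v, hv⟩ : LinearMap.ker N) ∈ (LinearMap.range N).comap (LinearMap.ker N).subtype ⊔ D := by
          rw [hD.sup_eq_top]; trivial
        obtain ⟨a, ha, d, hd, e⟩ := Submodule.mem_sup.1 h
        have hdW : ∀ d : D, ((d : LinearMap.ker N) : V) ∈ W := fun d => by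
          rw [← bd.sum_repr d]
          simp only [Submodule.coe_sum, Submodule.coe_smul]
          exact sum_mem fun j _ => smul_mem _ _ (hW ▸ subset_span ⟨Sum.inr j, rfl⟩)
        have := congrArg Subtype.val e
        rw [Submodule.coe_add] at this
        simp only at this
        rw [← this]
        exact add_mem (hRW ha) (hdW ⟨d, hd⟩)
      have htop : ⊤ ≤ span F (Set.range g) := by
        intro v _
        have hv : v ∈ LinearMap.ker N ⊔ C := by rw [hC.sup_eq_top]; trivial
        obtain ⟨a, ha, c, hc, rfl⟩ := Submodule.mem_sup.1 hv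
        rw [← hW]
        exact add_mem (hKW ha) (hCW c hc).1
      have hcard : Fintype.card ((Fin (finrank F C) ⊕ Fin (finrank F C)) ⊕ Fin (finrank F D)) = finrank F V := by
        have h1 := Submodule.finrank_add_eq_of_isCompl hC
        have h3 := LinearMap.finrank_range_add_finrank_ker N
        have h4 := Submodule.finrank_add_eq_of_isCompl hD
        rw [LinearEquiv.finrank_eq (Submodule.comapSubtypeEquivOfLe hle)] at h4
        simp only [Fintype.card_sum, Fintype.card_fin]
        omega
      refine ⟨_, _, basisOfTopLeSpanOfCardEqFinrank g htop hcard, fun _ => μ, fun i => ?_, fun j => ?_, fun _ => hμ⟩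
      · rw [coe_basisOfTopLeSpanOfCardEqFinrank]; rfl
      · rw [coe_basisOfTopLeSpanOfCardEqFinrank]
        have := LinearMap.mem_ker.1 (bd j : LinearMap.ker N).2
        rw [hNv, sub_eq_zero] at this
        exact this
    · obtain ⟨N', hN'⟩ : ∃ N' : V →ₗ[F] V, N' = T + μ • LinearMap.id := ⟨_, rfl⟩
      have hNv' : ∀ v, N' v = T v + μ • v := fun v => by simp [hN']
      have h2μ : 2 * μ ≠ 0 := mul_ne_zero h2 hμ
      have hc : IsCompl (LinearMap.ker N) (LinearMap.ker N') := by
        refine ⟨Submodule.disjoint_def.2 fun v h1 h3 => ?_, codisjoint_iff.2 (eq_top_iff'.2 fun v => ?_)⟩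
        · rw [LinearMap.mem_ker, hNv] at h1
          rw [LinearMap.mem_ker, hNv'] at h3
          have : (2 * μ) • v = 0 := by
            rw [show (2 * μ) • v = (T v + μ • v) - (T v - μ • v) by module, h1, h3, sub_zero]
          exact (smul_eq_zero.1 this).resolve_left h2μ
        · refine Submodule.mem_sup.2 ⟨(2 * μ)⁻¹ • N' v, ?_, -((2 * μ)⁻¹ • N v), ?_, ?_⟩
          · rw [LinearMap.mem_ker, map_smul, hNv, hNv', map_add, map_smul, hT]
            rw [show (μ * μ) • v + μ • T v - μ • (T v + μ • v) = 0 by module, smul_zero]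
          · rw [LinearMap.mem_ker, map_neg, map_smul, hNv', hNv, map_sub, map_smul, hT]
            rw [show (μ * μ) • v - μ • T v + μ • (T v - μ • v) = 0 by module, smul_zero, neg_zero]
          · rw [← sub_eq_add_neg, ← smul_sub, hNv, hNv', show T v + μ • v - (T v - μ • v) = (2 * μ) • v by module,
              smul_smul, inv_mul_cancel₀ h2μ, one_smul]
      let bs : Basis (Fin (finrank F (LinearMap.ker N)) ⊕ Fin (finrank F (LinearMap.ker N'))) F V :=
        ((Module.finBasis F (LinearMap.ker N)).prod (Module.finBasis F (LinearMap.ker N'))).map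
          (Submodule.prodEquivOfIsCompl _ _ hc)
      let e : Fin (finrank F (LinearMap.ker N)) ⊕ Fin (finrank F (LinearMap.ker N')) ≃
          (Fin 0 ⊕ Fin 0) ⊕ Fin (finrank F (LinearMap.ker N) + finrank F (LinearMap.ker N')) :=
        finSumFinEquiv.trans (Equiv.emptySum _ _).symm
      refine ⟨0, _, bs.reindex e,
        fun j => Sum.elim (fun _ => μ) (fun _ => -μ) (e.symm (Sum.inr j)), fun i => i.elim0, fun j => ?_, fun j => ?_⟩
      · rw [Basis.reindex_apply]
        dsimp only
        generalize e.symm (Sum.inr j) = i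
        rcases i with i | i
        · have := LinearMap.mem_ker.1 (Module.finBasis F (LinearMap.ker N) i).2
          rw [hNv, sub_eq_zero] at this
          simpa [bs] using this
        · have := LinearMap.mem_ker.1 (Module.finBasis F (LinearMap.ker N') i).2
          rw [hNv', add_eq_zero_iff_eq_neg] at this
          simpa [bs] using this
      · dsimp only
        generalize e.symm (Sum.inr j) = i
        rcases i with i | i
        · exact hμ
        · exact neg_ne_zero.2 hμ
  · push Not at hsq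
    obtain ⟨k, hk1, hk2⟩ : ∃ k, finrank F V ≤ 2 * k ∧ 2 * k ≤ finrank F V + 1 :=
      ⟨(finrank F V + 1) / 2, by omega, by omega⟩
    obtain ⟨u, hu⟩ := pairs T z hT hsq k hk2
    have hle := Submodule.finrank_le (span F (Set.range (Sum.elim u (T ∘ u))))
    have htop : span F (Set.range (Sum.elim u (T ∘ u))) = ⊤ := Submodule.eq_top_of_finrank_eq (by omega)
    have hcard : Fintype.card (Fin k ⊕ Fin k) = finrank F V := by
      simp only [Fintype.card_sum, Fintype.card_fin]; omega
    refine ⟨k, 0, (basisOfTopLeSpanOfCardEqFinrank _ htop.ge hcard).reindex (Equiv.sumEmpty _ _).symm,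
      fun _ => 1, fun i => ?_, fun j => j.elim0, fun j => j.elim0⟩
    simp only [Basis.reindex_apply, coe_basisOfTopLeSpanOfCardEqFinrank]
    rfl

/-- involutions on a grid respecting its rows -/
def Good (β : Type) (a f : ℕ) : Prop :=
  ∃ (σ : Equiv.Perm (β × Fin a)) (τ : β → β), (∀ x, σ (σ x) = x) ∧ (∀ x, (σ x).1 = τ x.1) ∧
    Nat.card {x // σ x = x} = f

theorem Good.sum {β γ : Type} [Finite β] [Finite γ] {a f g : ℕ} (h1 : Good β a f) (h2 : Good γ a g) :
    Good (β ⊕ γ) a (f + g) := by
  obtain ⟨σ, τ, s1, s2, s3⟩ := h1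
  obtain ⟨σ', τ', t1, t2, t3⟩ := h2
  let d := Equiv.sumProdDistrib β γ (Fin a)
  refine ⟨d.trans ((Equiv.sumCongr σ σ').trans d.symm), Sum.map τ τ', ?_, ?_, ?_⟩
  · rintro ⟨x | x, i⟩ <;> simp [d, s1, t1]
  · rintro ⟨x | x, i⟩ <;> simp [d, s2, t2]
  · rw [← s3, ← t3, ← Nat.card_sum]
    refine Nat.card_congr ((d.subtypeEquiv (q := fun y => Equiv.sumCongr σ σ' y = y) fun x => ?_).trans ?_)
    · simp [Equiv.symm_apply_eq]
    · refine Equiv.trans Equiv.subtypeSum (Equiv.sumCongr ?_ ?_)
      · exact Equiv.subtypeEquivRight fun x => by simp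
      · exact Equiv.subtypeEquivRight fun x => by simp

theorem Good.congr {β γ : Type} {a f : ℕ} (e : β ≃ γ) (h : Good β a f) : Good γ a f := by
  obtain ⟨σ, τ, s1, s2, s3⟩ := h
  let d := Equiv.prodCongr e (Equiv.refl (Fin a))
  refine ⟨d.symm.trans (σ.trans d), fun c => e (τ (e.symm c)), fun x => ?_, fun x => ?_, ?_⟩
  · simp [s1]
  · simp [d, s2]
  · rw [← s3]
    exact Nat.card_congr (d.subtypeEquiv fun x => by simp).symm

theorem good_zero (a : ℕ) : Good (Fin 0) a 0 :=
  ⟨1, id, fun _ => rfl, fun x => rfl, by simp⟩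

theorem good_one (a g : ℕ) (hg : g ≤ a) (hp : g % 2 = a % 2) : Good (Fin 1) a g := by
  let sN : ℕ → ℕ := fun i => if i < g then i else if (i - g) % 2 = 0 then i + 1 else i - 1
  have hlt : ∀ i, i < a → sN i < a := fun i hi => by
    simp only [sN]; split_ifs <;> omega
  let s : Fin a → Fin a := fun i => ⟨sN i.val, hlt _ i.2⟩
  have hs : Function.Involutive s := fun i => by
    refine Fin.ext ?_
    show sN (sN i.val) = i.val
    simp only [sN]; split_ifs <;> omega
  refine ⟨Equiv.prodCongr (Equiv.refl _) (hs.toPerm s), id, fun x => Prod.ext rfl (hs x.2), fun x => rfl, ?_⟩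
  rw [← Nat.card_fin g]
  refine Nat.card_congr
    { toFun := fun x => ⟨x.1.2.val, ?_⟩
      invFun := fun i => ⟨(0, ⟨i.val, by have := i.2; omega⟩), ?_⟩
      left_inv := fun x => by
        refine Subtype.ext (Prod.ext (Subsingleton.elim _ _) rfl)
      right_inv := fun i => rfl }
  · obtain ⟨⟨b, i⟩, hx⟩ := x
    have hx' : s i = i := congrArg Prod.snd hx
    show i.val < g
    by_contra hge
    have h5 : sN i.val = i.val := congrArg Fin.val hx'
    simp only [sN, if_neg hge] at h5
    split_ifs at h5 <;> omega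
  · show ((0 : Fin 1), s _) = _
    refine Prod.ext rfl (Fin.ext ?_)
    show sN i.val = i.val
    exact if_pos i.2

theorem good_two (a : ℕ) : Good (Fin 2) a 0 := by
  refine ⟨Equiv.prodCongr (Equiv.swap 0 1) (Equiv.refl _), Equiv.swap 0 1, fun x => Prod.ext (Equiv.swap_apply_self 0 1 x.1) rfl, fun x => rfl, ?_⟩
  rw [Nat.card_eq_zero]
  left
  refine ⟨fun ⟨⟨b, i⟩, h⟩ => ?_⟩
  have h1 : Equiv.swap (0 : Fin 2) 1 b = b := congrArg Prod.fst h
  fin_cases b <;> simp at h1

theorem good_all (a : ℕ) : ∀ t f : ℕ, f ≤ t * a → f % 2 = (t * a) % 2 → Good (Fin t) a f := by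
  intro t
  induction t using Nat.strong_induction_on with
  | _ t ih =>
    intro f hf hp
    rcases t with - | t
    · rw [Nat.zero_mul] at hf
      rw [Nat.le_zero.1 hf]
      exact good_zero a
    rw [Nat.succ_mul] at hf hp
    by_cases hc : a % 2 = 1 ∧ f < t + 1
    · obtain ⟨hc1, hc2⟩ := hc
      have hodd : ∀ m : ℕ, (m * a) % 2 = m % 2 := fun m => by
        rw [Nat.mul_mod, hc1, Nat.mul_one, Nat.mod_mod]
      have hpar : f % 2 = (t + 1) % 2 := by
        have := hodd t
        omega
      obtain ⟨s, rfl⟩ : ∃ s, t = s + 1 := ⟨t - 1, by omega⟩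
      have h1 : f ≤ s * a := le_trans (show f ≤ s by omega) (Nat.le_mul_of_pos_right s (by omega))
      have h2 := ih s (by omega) f h1 (by have := hodd s; omega)
      have h3 := h2.sum (good_two a)
      rw [Nat.add_zero] at h3
      exact h3.congr (finSumFinEquiv (m := s) (n := 2))
    · by_cases hle : f ≤ t * a + a % 2
      · have hg : a % 2 ≤ f := by omega
        have h2 := ih t (by omega) (f - a % 2) (by omega) (by omega)
        have h3 := h2.sum (good_one a (a % 2) (Nat.mod_le a 2) (Nat.mod_mod a 2))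
        rw [Nat.sub_add_cancel hg] at h3
        exact h3.congr finSumFinEquiv
      · have h2 := ih t (by omega) (t * a) le_rfl rfl
        have h3 := h2.sum (good_one a (f - t * a) (by omega) (by omega))
        rw [Nat.add_sub_cancel' (by omega)] at h3
        exact h3.congr finSumFinEquiv

theorem isConj_of_fixed {α : Type} [Fintype α] [DecidableEq α] {σ π : Equiv.Perm α} (hσ : ∀ x, σ (σ x) = x)
    (hπ : ∀ x, π (π x) = x) (h : Nat.card {x // σ x = x} = Nat.card {x // π x = x}) : IsConj σ π := by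
  have key : ∀ ρ : Equiv.Perm α, (∀ x, ρ (ρ x) = x) →
      ρ.cycleType = Multiset.replicate ρ.cycleType.card 2 ∧ 2 * ρ.cycleType.card + Nat.card {x // ρ x = x} = Fintype.card α := by
    intro ρ hρ
    have h1 := Equiv.Perm.cycleType_of_pow_prime_eq_one (p := 2) (σ := ρ)
      (Equiv.ext fun x => by rw [pow_two]; exact hρ x)
    refine ⟨h1, ?_⟩
    have h2 := ρ.sum_cycleType
    rw [h1, Multiset.sum_replicate, smul_eq_mul] at h2
    rw [mul_comm, h2, Nat.card_eq_fintype_card, Fintype.card_subtype, ← Finset.card_compl_add_card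
      (Finset.univ.filter fun x => ρ x = x)]
    congr 1
    congr 1
    ext x; simp
  obtain ⟨a1, a2⟩ := key σ hσ
  obtain ⟨b1, b2⟩ := key π hπ
  rw [Equiv.Perm.isConj_iff_cycleType_eq, a1, b1, show σ.cycleType.card = π.cycleType.card by omega]

/-- decomposition preserved by a map squaring to a scalar -/
theorem exists_decomposition {ι : Type} [Fintype ι] [DecidableEq ι] (T : (ι → F) →ₗ[F] (ι → F)) (z : F)
    (hT : ∀ v, T (T v) = z • v) (hz0 : z ≠ 0) {a t : ℕ} (hat : Fintype.card ι = a * t) (ha : 1 ≤ a) (ht : 2 ≤ t) :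
    ∃ D : Fin t → Submodule F (ι → F), Cfsg.Geo.IsMDecomposition a D ∧
      ∃ σ : Equiv.Perm (Fin t), ∀ j, (D j).map T = D (σ j) := by
  classical
  obtain ⟨k, f, b, lam, hb1, hb2, hlam⟩ := exists_basis T z hT hz0
  let sw : Equiv.Perm ((Fin k ⊕ Fin k) ⊕ Fin f) := Equiv.sumCongr (Equiv.sumComm _ _) (Equiv.refl _)
  have hsw : ∀ i, ∃ c : F, c ≠ 0 ∧ T (b i) = c • b (sw i) := by
    rintro ((i | i) | j)
    · exact ⟨1, one_ne_zero, by rw [hb1, one_smul]; rfl⟩
    · exact ⟨z, hz0, by rw [← hb1, hT]; rfl⟩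
    · exact ⟨lam j, hlam j, hb2 j⟩
  have hfix : Nat.card {x // sw x = x} = f := by
    refine Eq.trans ?_ (Nat.card_fin f)
    refine (Nat.card_congr (Equiv.ofBijective (fun j : Fin f => (⟨Sum.inr j, rfl⟩ : {x // sw x = x})) ⟨?_, ?_⟩)).symm
    · intro i j h; exact Sum.inr_injective (congrArg Subtype.val h)
    · rintro ⟨(i | i) | j, h⟩
      · simp [sw] at h
      · simp [sw] at h
      · exact ⟨j, rfl⟩
  have hn : 2 * k + f = a * t := by
    rw [← hat, ← Module.finrank_fintype_fun_eq_card (η := ι) F, finrank_eq_card_basis b]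
    simp; omega
  have hta : t * a = a * t := mul_comm t a
  obtain ⟨σ₀, τ, g1, g2, g3⟩ := good_all a t f (by omega) (by omega)
  obtain ⟨e₀⟩ : Nonempty ((Fin k ⊕ Fin k) ⊕ Fin f ≃ Fin t × Fin a) := Finite.card_eq.1 (by simp; omega)
  have hconj : IsConj ((e₀.symm.trans sw).trans e₀) σ₀ := by
    refine isConj_of_fixed (fun x => by simp [sw]) g1 ?_
    refine (Eq.trans ?_ hfix).trans g3.symm
    exact Nat.card_congr (e₀.symm.subtypeEquiv fun x => by simp [Equiv.eq_symm_apply])
  obtain ⟨c, hc⟩ := isConj_iff.1 hconj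
  let e : (Fin k ⊕ Fin k) ⊕ Fin f ≃ Fin t × Fin a := e₀.trans c
  have he : ∀ i, e (sw i) = σ₀ (e i) := fun i => by
    rw [← hc]
    simp [e, Equiv.Perm.mul_apply]
  have hτ : Function.Injective τ := by
    intro i j h
    have hi : ∀ i, τ (τ i) = i := fun i => by
      have := g2 (σ₀ (i, ⟨0, by omega⟩))
      rw [g1, g2] at this
      exact this.symm
    rw [← hi i, h, hi]
  let D : Fin t → Submodule F (ι → F) := fun j => span F (b '' {i | (e i).1 = j})
  refine ⟨D, ⟨ht, ha, fun j => ?_, fun j => ?_, ?_⟩, Equiv.ofBijective τ (Finite.injective_iff_bijective.1 hτ), fun j => ?_⟩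
  · show finrank F (span F (b '' {i | (e i).1 = j})) = a
    rw [Set.image_eq_range]
    refine (finrank_span_eq_card (b := fun i : {i // (e i).1 = j} => b i)
      (b.linearIndependent.comp _ Subtype.val_injective)).trans ?_
    rw [← Nat.card_eq_fintype_card]
    refine Eq.trans ?_ (Nat.card_fin a)
    exact Nat.card_congr
      { toFun := fun i => (e i.1).2
        invFun := fun s => ⟨e.symm (j, s), by simp⟩
        left_inv := fun i => Subtype.ext (by
          obtain ⟨i, hi⟩ := i
          show e.symm (j, (e i).2) = i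
          rw [← hi]; simp)
        right_inv := fun s => by simp }
  · have h : (⨆ (j') (_ : j' ≠ j), D j') = span F (b '' {i | (e i).1 ≠ j}) := by
      show (⨆ (j') (_ : j' ≠ j), span F (b '' {i | (e i).1 = j'})) = _
      simp only [← Submodule.span_iUnion, ← Set.image_iUnion]
      congr 2
      ext i; simp
    rw [h]
    exact b.linearIndependent.disjoint_span_image (Set.disjoint_left.2 fun i h1 h2 => h2 h1)
  · show (⨆ j, span F (b '' {i | (e i).1 = j})) = ⊤
    simp only [← Submodule.span_iUnion, ← Set.image_iUnion]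
    rw [show (⋃ j, {i | (e i).1 = j}) = Set.univ by ext i; simp, Set.image_univ, b.span_eq]
  · show (span F (b '' {i | (e i).1 = j})).map T = span F (b '' {i | (e i).1 = τ j})
    rw [Submodule.map_span]
    refine le_antisymm (span_le.2 ?_) (span_le.2 ?_)
    · rintro - ⟨-, ⟨i, hi, rfl⟩, rfl⟩
      obtain ⟨r, -, hr⟩ := hsw i
      rw [hr]
      refine smul_mem _ _ (subset_span ⟨sw i, ?_, rfl⟩)
      show (e (sw i)).1 = τ j
      rw [he, g2, show (e i).1 = j from hi]
    · rintro - ⟨i, hi, rfl⟩
      obtain ⟨r, hr0, hr⟩ := hsw (sw i)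
      have hii : sw (sw i) = i := by simp [sw]
      rw [hii] at hr
      have hj : (e (sw i)).1 = j := by
        apply hτ
        rw [← g2, ← he, hii]; exact hi
      rw [show b i = r⁻¹ • T (b (sw i)) by rw [hr, smul_smul, inv_mul_cancel₀ hr0, one_smul]]
      exact smul_mem _ _ (subset_span ⟨_, ⟨sw i, hj, rfl⟩, rfl⟩)

end CfsgLib.Lie.InvolutionDecomp
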