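import Cfsg.Agent.Lie.SLn
import Cfsg.Agent.Lie.Orders
import Cfsg.Agent.Lie.OrthOrder2
import Cfsg.Agent.Lie.OrthForms
import Cfsg.Agent.Lie.OrthDickson

/-!
The Klein correspondence: the exterior square of the natural module of `SL₄(q)` gives a surjection onto
`Ω⁺₆(q)` with kernel `±1`, hence `PΩ⁺₆(q) ≅ PSL₄(q)`.
-/

set_option autoImplicit false
set_option linter.unusedSectionVars false

namespace CfsgLib.Lie.Klein

open Matrix
open scoped commutatorElement

variable {F : Type*} [Field F]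

abbrev P6 := Fin 3 ⊕ Fin 3

/-- first member of a pair of lines -/
def fa : P6 → Fin 4 := Sum.elim ![0, 0, 0] ![2, 3, 1]

/-- second member of a pair -/
def fb : P6 → Fin 4 := Sum.elim ![1, 2, 3] ![3, 1, 2]

/-- the second compound matrix -/
def C (A : Matrix (Fin 4) (Fin 4) F) : Matrix P6 P6 F :=
  Matrix.of fun i j => A (fa i) (fa j) * A (fb i) (fb j) - A (fa i) (fb j) * A (fb i) (fa j)

theorem C_mul (A B : Matrix (Fin 4) (Fin 4) F) : C (A * B) = C A * C B := by
  refine Matrix.ext fun i j => ?_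
  simp only [C, Matrix.of_apply, Matrix.mul_apply, Fintype.sum_sum_type, Fin.sum_univ_three,
    Fin.sum_univ_four, fa, fb, Sum.elim_inl, Sum.elim_inr, Matrix.cons_val_zero, Matrix.cons_val_one,
    Matrix.cons_val_two, Matrix.head_cons, Matrix.tail_cons, Matrix.cons_val]
  ring

theorem C_scalar (c : F) : C (Matrix.scalar (Fin 4) c) = (c * c) • (1 : Matrix P6 P6 F) := by
  refine Matrix.ext fun i j => ?_
  rcases i with i | i <;> rcases j with j | j <;> fin_cases i <;> fin_cases j <;>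
    simp [C, fa, fb, Matrix.one_apply]

theorem C_one : C (1 : Matrix (Fin 4) (Fin 4) F) = 1 := by
  rw [← map_one (Matrix.scalar (Fin 4) (α := F)), C_scalar, mul_one, one_smul]

theorem det4 (A : Matrix (Fin 4) (Fin 4) F) : A.det =
    (A 0 0 * A 1 1 - A 0 1 * A 1 0) * (A 2 2 * A 3 3 - A 2 3 * A 3 2)
      - (A 0 0 * A 1 2 - A 0 2 * A 1 0) * (A 2 1 * A 3 3 - A 2 3 * A 3 1)
      + (A 0 0 * A 1 3 - A 0 3 * A 1 0) * (A 2 1 * A 3 2 - A 2 2 * A 3 1)
      + (A 0 1 * A 1 2 - A 0 2 * A 1 1) * (A 2 0 * A 3 3 - A 2 3 * A 3 0)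
      - (A 0 1 * A 1 3 - A 0 3 * A 1 1) * (A 2 0 * A 3 2 - A 2 2 * A 3 0)
      + (A 0 2 * A 1 3 - A 0 3 * A 1 2) * (A 2 0 * A 3 1 - A 2 1 * A 3 0) := by
  rw [Matrix.det_succ_row_zero]
  simp [Fin.sum_univ_succ, Matrix.det_fin_three, Fin.succAbove]
  ring

theorem quad_C (A : Matrix (Fin 4) (Fin 4) F) (v : P6 → F) :
    Cfsg.quadFormPlus 3 F (C A *ᵥ v) = A.det * Cfsg.quadFormPlus 3 F v := by
  simp only [Cfsg.quadFormPlus, Matrix.mulVec, dotProduct, C, Matrix.of_apply, Fintype.sum_sum_type,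
    Fin.sum_univ_three, fa, fb, Sum.elim_inl, Sum.elim_inr, Matrix.cons_val_zero, Matrix.cons_val_one,
    Matrix.cons_val_two, Matrix.head_cons, Matrix.tail_cons, Matrix.cons_val, det4]
  ring

abbrev G4 (F : Type*) [Field F] := Matrix.SpecialLinearGroup (Fin 4) F

abbrev Q6 (F : Type*) [Field F] := OrthOrder.plusQ 3 F

/-- the exterior square as a linear representation -/
def toGL6 : G4 F →* GL P6 F :=
  MonoidHom.toHomUnits
    { toFun := fun g => C g.1
      map_one' := C_one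
      map_mul' := fun g h => C_mul g.1 h.1 }

theorem toGL6_mem (g : G4 F) : toGL6 g ∈ Cfsg.isometryGroup F ⇑(Q6 F) := by
  intro u _
  show Q6 F (C g.1 *ᵥ u) = Q6 F u
  rw [OrthOrder.plusQ_apply, OrthOrder.plusQ_apply, quad_C, g.2, one_mul]

/-- the map into the orthogonal group -/
def Φ : G4 F →* Cfsg.isometryGroup F ⇑(Q6 F) := toGL6.codRestrict _ toGL6_mem

theorem Φ_eq_one {g : G4 F} : Φ g = 1 ↔ C g.1 = 1 :=
  ⟨fun h => congrArg (fun x : Cfsg.isometryGroup F ⇑(Q6 F) => x.1.1) h,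
    fun h => Subtype.ext (Units.ext h)⟩

theorem perfect : commutator (G4 F) = ⊤ := SLn.commutator_eq_top (Or.inl (by simp))

theorem range_le : (Φ (F := F)).range ≤ Cfsg.Omega F ⇑(Q6 F) := by
  rw [MonoidHom.range_eq_map, ← perfect, commutator_def, Subgroup.map_commutator]
  exact Subgroup.commutator_mono le_top le_top

/-- a proper normal subgroup of `SL₄` is central -/
theorem normal_le_center (N : Subgroup (G4 F)) [N.Normal] (hN : N ≠ ⊤) :
    N ≤ Subgroup.center (G4 F) := by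
  haveI := SLn.isSimpleGroup_PSL (ι := Fin 4) (F := F) (Or.inl (by simp))
  rcases (Subgroup.Normal.map (inferInstance : N.Normal) (QuotientGroup.mk' (Subgroup.center (G4 F)))
    (QuotientGroup.mk'_surjective _)).eq_bot_or_eq_top with h | h
  · rw [Subgroup.map_eq_bot_iff, QuotientGroup.ker_mk'] at h
    exact h
  · refine absurd (top_le_iff.1 ?_) hN
    rw [← perfect, commutator_def, Subgroup.commutator_le]
    have hsup : ∀ a : G4 F, ∃ n ∈ N, ∃ z ∈ Subgroup.center (G4 F), a = n * z := fun a => by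
      obtain ⟨n, hn, hna⟩ : QuotientGroup.mk' (Subgroup.center (G4 F)) a ∈ N.map (QuotientGroup.mk' _) := by
        rw [h]; trivial
      exact ⟨n, hn, n⁻¹ * a, QuotientGroup.eq.1 hna, by group⟩
    intro a _ b _
    obtain ⟨n, hn, z, hz, rfl⟩ := hsup a
    obtain ⟨m, hm, w, hw, rfl⟩ := hsup b
    refine (QuotientGroup.eq_one_iff _).1 ?_
    show QuotientGroup.mk' N ⁅n * z, m * w⁆ = 1
    rw [map_commutatorElement, map_mul, map_mul,
      (show QuotientGroup.mk' N n = 1 from (QuotientGroup.eq_one_iff n).2 hn),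
      (show QuotientGroup.mk' N m = 1 from (QuotientGroup.eq_one_iff m).2 hm), one_mul, one_mul,
      commutatorElement_eq_one_iff_mul_comm, ← map_mul, ← map_mul, Subgroup.mem_center_iff.1 hw z]

/-- a transvection -/
def T01 : G4 F := ⟨Matrix.transvection 0 1 1, Matrix.det_transvection_of_ne _ _ (by decide) 1⟩

theorem ker_ne_top : (Φ (F := F)).ker ≠ ⊤ := fun h => by
  have h1 : C (T01 (F := F)).1 = 1 := Φ_eq_one.1 (MonoidHom.mem_ker.1 (h ▸ Subgroup.mem_top _))
  have h2 := congrFun (congrFun h1 (.inl 1)) (.inr 2)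
  simp [C, T01, fa, fb, Matrix.transvection, Matrix.single_apply, Matrix.one_apply] at h2

theorem mem_ker {g : G4 F} : g ∈ (Φ (F := F)).ker ↔ ∃ c : F, c * c = 1 ∧ Matrix.scalar (Fin 4) c = g.1 := by
  constructor
  · intro hg
    obtain ⟨c, -, hc⟩ := Matrix.SpecialLinearGroup.mem_center_iff.1 (normal_le_center _ ker_ne_top hg)
    refine ⟨c, ?_, hc⟩
    have h1 := congrFun (congrFun (Φ_eq_one.1 (MonoidHom.mem_ker.1 hg)) (.inl 0)) (.inl 0)
    rw [← hc, C_scalar] at h1
    simpa using h1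
  · rintro ⟨c, hc, hg⟩
    rw [MonoidHom.mem_ker, Φ_eq_one, ← hg, C_scalar, hc, one_smul]

theorem card_ker [Finite F] : Nat.card (Φ (F := F)).ker = Nat.card {c : F // c * c = 1} := by
  refine (Nat.card_congr (Equiv.ofBijective (fun c : {c : F // c * c = 1} =>
    (⟨⟨Matrix.scalar (Fin 4) c.1, ?_⟩, mem_ker.2 ⟨c.1, c.2, rfl⟩⟩ : (Φ (F := F)).ker)) ⟨?_, ?_⟩)).symm
  · simp only [Matrix.scalar_apply, Matrix.det_diagonal, Finset.prod_const, Finset.card_univ, Fintype.card_fin]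
    linear_combination (c.1 * c.1 + 1) * c.2
  · intro a b h
    have h1 := congrArg (fun x : (Φ (F := F)).ker => x.1.1 0 0) h
    exact Subtype.ext (by simpa using h1)
  · rintro ⟨g, hg⟩
    obtain ⟨c, hc, hcg⟩ := mem_ker.1 hg
    exact ⟨⟨c, hc⟩, Subtype.ext (Subtype.ext hcg)⟩

theorem nondeg [Fintype F] : (QuadraticMap.polarBilin (Q6 F)).Nondegenerate := OrthForms.plus_nondeg 3

theorem index_eq [Fintype F] : (Cfsg.Omega F ⇑(Q6 F)).index = 2 * Nat.card (Φ (F := F)).ker := by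
  classical
  rw [card_ker]
  by_cases h2 : (2 : F) = 0
  · have e : Nat.card {c : F // c * c = 1} = 1 := by
      rw [Nat.card_eq_one_iff_unique]
      refine ⟨⟨fun a b => Subtype.ext ?_⟩, ⟨⟨1, one_mul 1⟩⟩⟩
      have ha : ∀ c : F, c * c = 1 → c = 1 := fun c hc => by
        rcases mul_self_eq_one_iff.1 hc with h | h
        · exact h
        · rw [h]; linear_combination -h2
      rw [ha a.1 a.2, ha b.1 b.2]
    rw [e, mul_one]
    haveI : CharP F 2 := (CharP.charP_iff_prime_eq_zero Nat.prime_two).2 (by exact_mod_cast h2)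
    exact OrthDickson.omega_index nondeg (Or.inr (by simp))
  · have e : Nat.card {c : F // c * c = 1} = 2 := by
      rw [show {c : F // c * c = 1} = ↥({c : F | c * c = 1}) from rfl, Nat.card_coe_set_eq,
        show {c : F | c * c = 1} = {1, -1} from Set.ext fun c => mul_self_eq_one_iff, Set.ncard_pair]
      exact fun h => h2 (by linear_combination h)
    rw [e, OrthChar.omega_index h2 nondeg (by simp)]

theorem card_iso [Fintype F] :
    Nat.card (Cfsg.isometryGroup F ⇑(Q6 F)) = 2 * Nat.card (G4 F) := by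
  obtain ⟨q, hF⟩ : ∃ q, Fintype.card F = q := ⟨_, rfl⟩
  have hq : 1 < q := hF ▸ Fintype.one_lt_card
  have he : ⇑(Q6 F) = Cfsg.quadFormPlus 3 F := funext fun v => OrthOrder.plusQ_apply 3 v
  rw [show Nat.card (Cfsg.isometryGroup F ⇑(Q6 F)) = Nat.card (Cfsg.isometryGroup F (Cfsg.quadFormPlus 3 F))
    by rw [he], OrthOrder.card_plus hF 3 (by omega)]
  refine Nat.eq_of_mul_eq_mul_left (show 0 < q - 1 by omega) ?_
  rw [mul_left_comm (q - 1) 2 (Nat.card (G4 F)), Orders.card_SL_mul hF 4 (by omega)]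
  simp only [Fin.prod_univ_four, Finset.prod_range_succ, Finset.prod_range_zero, one_mul]
  rw [show q ^ 4 - q ^ ((1 : Fin 4) : ℕ) = q * (q ^ 3 - 1) by rw [Nat.mul_sub_one]; simp; ring_nf,
    show q ^ 4 - q ^ ((2 : Fin 4) : ℕ) = q ^ 2 * (q ^ 2 - 1) by rw [Nat.mul_sub_one]; simp; ring_nf,
    show q ^ 4 - q ^ ((3 : Fin 4) : ℕ) = q ^ 3 * (q - 1) by rw [Nat.mul_sub_one]; simp; ring_nf]
  simp
  ring

theorem range_eq [Fintype F] : (Φ (F := F)).range = Cfsg.Omega F ⇑(Q6 F) := by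
  refine Subgroup.eq_of_le_of_card_ge range_le (le_of_eq ?_)
  have h1 := Subgroup.card_mul_index (Cfsg.Omega F ⇑(Q6 F))
  have h2 : Nat.card (Φ (F := F)).ker * Nat.card (Φ (F := F)).range = Nat.card (G4 F) := by
    rw [← Subgroup.index_ker, Subgroup.card_mul_index]
  rw [index_eq, card_iso, ← h2] at h1
  refine Nat.eq_of_mul_eq_mul_right (show 0 < 2 * Nat.card (Φ (F := F)).ker by
    have : 0 < Nat.card (Φ (F := F)).ker := Nat.card_pos
    omega) ?_
  rw [h1]
  ring

/-- `PΩ⁺₆(q) ≅ PSL₄(q)` -/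
theorem pomega_iso [Fintype F] :
    Nonempty (Cfsg.POmega F ⇑(Q6 F) ≃* Matrix.ProjectiveSpecialLinearGroup (Fin 4) F) := by
  classical
  let Φ' : G4 F →* Cfsg.Omega F ⇑(Q6 F) := Φ.codRestrict _ fun g => range_le ⟨g, rfl⟩
  have hΦ' : Function.Surjective Φ' := fun x => by
    obtain ⟨g, hg⟩ : x.1 ∈ (Φ (F := F)).range := by rw [range_eq]; exact x.2
    exact ⟨g, Subtype.ext hg⟩
  let ψ := (QuotientGroup.mk' (Subgroup.center (Cfsg.Omega F ⇑(Q6 F)))).comp Φ'
  have hψ : Function.Surjective ψ := (QuotientGroup.mk'_surjective _).comp hΦ'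
  have hne : ψ.ker ≠ ⊤ := fun h => ker_ne_top (F := F) (top_le_iff.1 (by
    rw [← perfect, commutator_def, Subgroup.commutator_le]
    intro a _ b _
    have hc : ∀ x, Φ' x ∈ Subgroup.center (Cfsg.Omega F ⇑(Q6 F)) := fun x =>
      (QuotientGroup.eq_one_iff _).1 (MonoidHom.mem_ker.1 (show x ∈ ψ.ker from h ▸ Subgroup.mem_top x))
    have e : Φ' ⁅a, b⁆ = 1 := by
      rw [map_commutatorElement, commutatorElement_eq_one_iff_mul_comm]
      exact Subgroup.mem_center_iff.1 (hc b) (Φ' a)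
    exact MonoidHom.mem_ker.2 (congrArg Subtype.val e)))
  have hker : ψ.ker = Subgroup.center (G4 F) := by
    refine le_antisymm (normal_le_center _ hne) fun z hz => MonoidHom.mem_ker.2 ?_
    refine (QuotientGroup.eq_one_iff _).2 (Subgroup.mem_center_iff.2 fun y => ?_)
    obtain ⟨x, rfl⟩ := hΦ' y
    rw [← map_mul, ← map_mul, Subgroup.mem_center_iff.1 hz x]
  exact ⟨((QuotientGroup.quotientMulEquivOfEq hker.symm).trans (QuotientGroup.quotientKerEquivOfSurjective ψ hψ)).symm⟩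

end CfsgLib.Lie.Klein
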