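import Mathlib.GroupTheory.QuotientGroup.Basic
import Mathlib.GroupTheory.Commutator.Basic
import Mathlib.GroupTheory.Abelianization.Defs
import Mathlib.GroupTheory.Subgroup.Simple

/-!
A quasi-simple cover determines the central quotient of its image.
-/

set_option autoImplicit false

namespace CfsgLib.Lie.KleinQuot

open scoped commutatorElement

variable {G H : Type*} [Group G] [Group H]

/-- a proper normal subgroup of a quasi-simple group is central -/
theorem normal_le_center (hperf : commutator G = ⊤) [IsSimpleGroup (G ⧸ Subgroup.center G)] (N : Subgroup G)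
    [N.Normal] (hN : N ≠ ⊤) : N ≤ Subgroup.center G := by
  rcases (Subgroup.Normal.map (inferInstance : N.Normal) (QuotientGroup.mk' (Subgroup.center G))
    (QuotientGroup.mk'_surjective _)).eq_bot_or_eq_top with h | h
  · rw [Subgroup.map_eq_bot_iff, QuotientGroup.ker_mk'] at h
    exact h
  · refine absurd (top_le_iff.1 ?_) hN
    rw [← hperf, commutator_def, Subgroup.commutator_le]
    have hsup : ∀ a : G, ∃ n ∈ N, ∃ z ∈ Subgroup.center G, a = n * z := fun a => by
      obtain ⟨n, hn, hna⟩ : QuotientGroup.mk' (Subgroup.center G) a ∈ N.map (QuotientGroup.mk' _) := by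
        rw [h]; trivial
      exact ⟨n, hn, n⁻¹ * a, QuotientGroup.eq.1 hna, (mul_inv_cancel_left n a).symm⟩
    intro a _ b _
    obtain ⟨n, hn, z, hz, rfl⟩ := hsup a
    obtain ⟨m, hm, w, hw, rfl⟩ := hsup b
    refine (QuotientGroup.eq_one_iff _).1 ?_
    show QuotientGroup.mk' N ⁅n * z, m * w⁆ = 1
    rw [map_commutatorElement, map_mul, map_mul,
      (show QuotientGroup.mk' N n = 1 from (QuotientGroup.eq_one_iff n).2 hn),
      (show QuotientGroup.mk' N m = 1 from (QuotientGroup.eq_one_iff m).2 hm), one_mul, one_mul,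
      commutatorElement_eq_one_iff_mul_comm, ← map_mul, ← map_mul, Subgroup.mem_center_iff.1 hw z]

/-- If a quasi-simple `G` maps nontrivially onto the subgroup `K`, then `K/Z(K) ≅ G/Z(G)`. -/
theorem quot_iso (hperf : commutator G = ⊤) [IsSimpleGroup (G ⧸ Subgroup.center G)] (φ : G →* H)
    (K : Subgroup H) (hK : φ.range = K) (hne : φ.ker ≠ ⊤) :
    Nonempty (↥K ⧸ Subgroup.center K ≃* G ⧸ Subgroup.center G) := by
  let φ' : G →* K := φ.codRestrict _ fun g => hK ▸ ⟨g, rfl⟩
  have hφ' : Function.Surjective φ' := fun x => by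
    obtain ⟨g, hg⟩ : x.1 ∈ φ.range := by rw [hK]; exact x.2
    exact ⟨g, Subtype.ext hg⟩
  let ψ := (QuotientGroup.mk' (Subgroup.center K)).comp φ'
  have hψ : Function.Surjective ψ := (QuotientGroup.mk'_surjective _).comp hφ'
  have hne' : ψ.ker ≠ ⊤ := fun h => hne (top_le_iff.1 (by
    rw [← hperf, commutator_def, Subgroup.commutator_le]
    intro a _ b _
    have hc : ∀ x, φ' x ∈ Subgroup.center K := fun x =>
      (QuotientGroup.eq_one_iff _).1 (MonoidHom.mem_ker.1 (show x ∈ ψ.ker from h ▸ Subgroup.mem_top x))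
    have e : φ' ⁅a, b⁆ = 1 := by
      rw [map_commutatorElement, commutatorElement_eq_one_iff_mul_comm]
      exact Subgroup.mem_center_iff.1 (hc b) (φ' a)
    exact MonoidHom.mem_ker.2 (congrArg Subtype.val e)))
  have hker : ψ.ker = Subgroup.center G := by
    refine le_antisymm (normal_le_center hperf _ hne') fun z hz => MonoidHom.mem_ker.2 ?_
    refine (QuotientGroup.eq_one_iff _).2 (Subgroup.mem_center_iff.2 fun y => ?_)
    obtain ⟨x, rfl⟩ := hφ' y
    rw [← map_mul, ← map_mul, Subgroup.mem_center_iff.1 hz x]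
  exact ⟨((QuotientGroup.quotientMulEquivOfEq hker.symm).trans
    (QuotientGroup.quotientKerEquivOfSurjective ψ hψ)).symm⟩

end CfsgLib.Lie.KleinQuot
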