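import Cfsg.Agent.Lie.Sp

/-!
The centre of the symplectic group.
-/

set_option autoImplicit false
set_option linter.unusedSimpArgs false
set_option linter.unusedSectionVars false

namespace CfsgLib.Lie.Sp

open Matrix

variable {m : ℕ} {F : Type*} [Field F]

/-- An element commuting with all transvections is a scalar with square 1. -/
theorem exists_scalar_of_comm (hm : 1 ≤ m) {z : G m F}
    (hz : ∀ w c, z * tv w c = tv w c * z) : ∃ a : F, a * a = 1 ∧ ∀ v, act z v = a • v := by
  have line : ∀ w : V m F, w ≠ 0 → ∃ a : F, act z w = a • w := by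
    intro w hw
    obtain ⟨x, hx⟩ := exists_bf_eq_one hw
    refine ⟨bf m F (act z (-x)) w, ?_⟩
    have h := congrArg (fun g => act g (-x)) (hz w 1)
    have h1 : bf m F (-x) w = 1 := by
      rw [map_neg, LinearMap.neg_apply, bf_swap w x, neg_neg, hx]
    simp only [act_mul, act_tv, one_mul, act_add, act_smul, h1, one_smul] at h
    exact add_left_cancel h
  let i : Fin m := ⟨0, hm⟩
  have he : (e i : V m F) ≠ 0 := by simp [e]
  have hf : (f i : V m F) ≠ 0 := by simp [f]
  obtain ⟨a, ha⟩ := line _ he
  obtain ⟨b, hb⟩ := line _ hf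
  have hab : a = b := by
    have hne : (e i + f i : V m F) ≠ 0 := fun h => by
      simpa [e, f] using congrFun h (.inl i)
    obtain ⟨c, hc⟩ := line _ hne
    rw [act_add, ha, hb] at hc
    have h1 := congrFun hc (.inl i)
    have h2 := congrFun hc (.inr i)
    simp [e, f] at h1 h2
    rw [h1, h2]
  refine ⟨a, ?_, fun v => ?_⟩
  · have h := bf_act z (f i) (e i)
    rw [ha, hb, ← hab] at h
    simpa [bf_f_e] using h
  by_cases hv : v = 0
  · subst hv; simp [act]
  obtain ⟨c, hc⟩ := line v hv
  rw [hc]
  congr 1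
  have ha0 : a * a = 1 := by
    have h := bf_act z (f i) (e i)
    rw [ha, hb, ← hab] at h
    simpa [bf_f_e] using h
  -- a partner in {e i, f i} or orthogonal to both
  by_cases h1 : bf m F v (e i) ≠ 0
  · have h := bf_act z v (e i)
    rw [hc, ha] at h
    simp at h
    have h3 : (c * a - a * a) * bf m F v (e i) = 0 := by rw [ha0]; linear_combination h
    rcases mul_eq_zero.1 h3 with h4 | h4
    · have h5 : (c - a) * a = 0 := by linear_combination h4
      rcases mul_eq_zero.1 h5 with h6 | h6
      · exact sub_eq_zero.1 h6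
      · rw [h6] at ha0; simp at ha0
    · exact absurd h4 h1
  push_neg at h1
  have hne : v + f i ≠ 0 := fun h => by
    have := congrArg (fun x => bf m F x (e i)) h
    simp [h1, bf_f_e] at this
  obtain ⟨d, hd⟩ := line _ hne
  rw [act_add, hc, hb, ← hab, smul_add] at hd
  have h3 := congrArg (fun x => bf m F x (e i)) hd
  simp [h1, bf_f_e] at h3
  subst h3
  have h4 : (c - a) • v = 0 := by rw [sub_smul, sub_eq_zero]; exact add_right_cancel hd
  exact sub_eq_zero.1 ((smul_eq_zero.1 h4).resolve_right hv)

theorem mem_center_iff (hm : 1 ≤ m) {z : G m F} :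
    z ∈ Subgroup.center (G m F) ↔ ∃ a : F, a * a = 1 ∧ ∀ v, act z v = a • v := by
  refine ⟨fun h => exists_scalar_of_comm hm fun w c => (Subgroup.mem_center_iff.1 h _).symm, ?_⟩
  rintro ⟨a, -, ha⟩
  exact Subgroup.mem_center_iff.2 fun g => act_ext fun v => by
    rw [act_mul, act_mul, ha, ha, act_smul]

/-- The scalar matrix with square one as a group element. -/
def scalarG (m : ℕ) {F : Type*} [Field F] (a : F) (ha : a * a = 1) : G m F :=
  ⟨a • 1, mem_iff_bf.2 fun u v => by
    simp [Matrix.smul_mulVec, ← mul_assoc, ha]⟩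

theorem act_scalarG (a : F) (ha : a * a = 1) (v : V m F) : act (scalarG m a ha) v = a • v := by
  simp [act, scalarG, Matrix.smul_mulVec]

theorem card_center [Finite F] (hm : 1 ≤ m) :
    Nat.card (Subgroup.center (G m F)) = Nat.gcd 2 (Nat.card F - 1) := by
  classical
  let φ : (powMonoidHom 2 : Fˣ →* Fˣ).ker → Subgroup.center (G m F) := fun a =>
    have ha : ((a : Fˣ) : F) * (a : Fˣ) = 1 := by
      have h := congrArg Units.val a.2
      simpa [sq] using h
    ⟨scalarG m _ ha, (mem_center_iff hm).2 ⟨_, ha, act_scalarG _ ha⟩⟩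
  have hinj : Function.Injective φ := by
    intro a b h
    have h1 := congrArg (fun g : Subgroup.center (G m F) => act (g : G m F) (e ⟨0, hm⟩)) h
    simp only [φ, act_scalarG] at h1
    have h2 := congrFun h1 (.inl ⟨0, hm⟩)
    simp [e] at h2
    exact Subtype.ext (Units.ext h2)
  have hsurj : Function.Surjective φ := by
    rintro ⟨z, hz⟩
    obtain ⟨a, ha, h⟩ := (mem_center_iff hm).1 hz
    exact ⟨⟨⟨a, a, ha, ha⟩, Units.ext (by simpa [sq] using ha)⟩,
      Subtype.ext (act_ext fun v => by simp only [φ, act_scalarG, h])⟩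
  rw [← Nat.card_congr (Equiv.ofBijective φ ⟨hinj, hsurj⟩), IsCyclic.card_powMonoidHom_ker,
    Nat.card_units, Nat.gcd_comm]

end CfsgLib.Lie.Sp
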