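import Cfsg.Agent.Lie.Sp

/-!
The order of the symplectic group over a finite field.
-/

set_option autoImplicit false
set_option linter.unusedSimpArgs false
set_option linter.unusedSectionVars false

namespace CfsgLib.Lie.Sp

open Matrix

variable {m : ℕ} {F : Type*} [Field F]

/-- Vectors orthogonal to the first k hyperbolic pairs. -/
def W (m : ℕ) (F : Type*) [Field F] (k : ℕ) : Submodule F (V m F) where
  carrier := {x | ∀ i : Fin m, (i : ℕ) < k → x (.inl i) = 0 ∧ x (.inr i) = 0}
  add_mem' := fun {a b} ha hb i hi => by simp [(ha i hi).1, (ha i hi).2, (hb i hi).1, (hb i hi).2]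
  zero_mem' := fun i _ => by simp
  smul_mem' := fun c a ha i hi => by simp [(ha i hi).1, (ha i hi).2]

theorem mem_W {k : ℕ} {x : V m F} :
    x ∈ W m F k ↔ ∀ s ∈ pairs m F k, bf m F s x = 0 := orth_pairs_iff.symm

theorem card_W [Finite F] (k : ℕ) : Nat.card (W m F k) = Nat.card F ^ (2 * (m - k)) := by
  classical
  have := Fintype.ofFinite F
  let e : W m F k ≃ ({i : Fin m // k ≤ (i : ℕ)} ⊕ {i : Fin m // k ≤ (i : ℕ)} → F) :=
    { toFun := fun x => Sum.elim (fun i => (x : V m F) (.inl i.1)) (fun i => (x : V m F) (.inr i.1))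
      invFun := fun y => ⟨Sum.elim (fun i => if h : k ≤ (i : ℕ) then y (.inl ⟨i, h⟩) else 0)
          (fun i => if h : k ≤ (i : ℕ) then y (.inr ⟨i, h⟩) else 0),
        fun i hi => by simp [not_le.2 hi]⟩
      left_inv := fun x => Subtype.ext (funext fun j => by
        rcases j with j | j
        · by_cases h : k ≤ (j : ℕ)
          · simp [h]
          · simp [h, (x.2 j (not_le.1 h)).1]
        · by_cases h : k ≤ (j : ℕ)
          · simp [h]
          · simp [h, (x.2 j (not_le.1 h)).2])
      right_inv := fun y => funext fun j => by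
        rcases j with j | j <;> simp [j.2] }
  have hc : Nat.card {i : Fin m // k ≤ (i : ℕ)} = m - k := by
    let e' : {i : Fin m // k ≤ (i : ℕ)} ≃ Fin (m - k) :=
      { toFun := fun i => ⟨(i.1 : ℕ) - k, by have := i.1.isLt; have := i.2; omega⟩
        invFun := fun j => ⟨⟨(j : ℕ) + k, by have := j.isLt; omega⟩, Nat.le_add_left k (j : ℕ)⟩
        left_inv := fun i => Subtype.ext (Fin.ext (Nat.sub_add_cancel i.2))
        right_inv := fun j => Fin.ext (Nat.add_sub_cancel (j : ℕ) k) }
    rw [Nat.card_congr e', Nat.card_eq_fintype_card, Fintype.card_fin]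
  rw [Nat.card_congr e, Nat.card_fun, Nat.card_sum, hc, two_mul]

theorem exists_partner {k : ℕ} {u : V m F} (hu : u ∈ W m F k) (h0 : u ≠ 0) :
    ∃ v ∈ W m F k, bf m F u v = 1 := by
  obtain ⟨i, hi⟩ := Function.ne_iff.1 h0
  simp only [Pi.zero_apply] at hi
  rcases i with i | i
  · have hk : k ≤ (i : ℕ) := not_lt.1 fun h => hi (hu i h).1
    refine ⟨(-(u (.inl i))⁻¹) • f i, Submodule.smul_mem _ _ (mem_W.2 (f_orth i hk)), ?_⟩
    rw [map_smul, bf_swap, bf_f_left, smul_eq_mul]
    field_simp
  · have hk : k ≤ (i : ℕ) := not_lt.1 fun h => hi (hu i h).2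
    refine ⟨(u (.inr i))⁻¹ • e i, Submodule.smul_mem _ _ (mem_W.2 (e_orth i hk)), ?_⟩
    rw [map_smul, bf_swap, bf_e_left, smul_eq_mul]
    field_simp

/-- Hyperbolic pairs inside `W k`. -/
abbrev HPair (m : ℕ) (F : Type*) [Field F] (k : ℕ) : Type _ :=
  {p : W m F k × W m F k // bf m F (p.1 : V m F) (p.2 : V m F) = 1}

theorem card_HPair [Finite F] {k : ℕ} (hk : k < m) :
    Nat.card (HPair m F k) =
      (Nat.card F ^ (2 * (m - k)) - 1) * Nat.card F ^ (2 * (m - k) - 1) := by
  classical
  have := Fintype.ofFinite F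
  have := Fintype.ofFinite (W m F k)
  let Z : Type _ := {u : W m F k // u ≠ 0}
  let e1 : HPair m F k ≃ Σ u : Z, {v : W m F k // bf m F (u.1 : V m F) (v : V m F) = 1} :=
    { toFun := fun p => ⟨⟨p.1.1, fun h => by
        have h2 := p.2
        simp [h] at h2⟩, ⟨p.1.2, p.2⟩⟩
      invFun := fun s => ⟨(s.1.1, s.2.1), s.2.2⟩
      left_inv := fun _ => rfl
      right_inv := fun _ => rfl }
  have hfib : ∀ u : Z, Nat.card {v : W m F k // bf m F (u.1 : V m F) (v : V m F) = 1} =
      Nat.card F ^ (2 * (m - k) - 1) := by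
    intro u
    obtain ⟨v0, hv0, hv1⟩ := exists_partner u.1.2 (fun h => u.2 (Subtype.ext h))
    let b : W m F k →ₗ[F] F := (bf m F (u.1 : V m F)).comp (W m F k).subtype
    let w0 : W m F k := ⟨v0, hv0⟩
    have hb : b w0 = 1 := hv1
    let e2 : W m F k ≃ F × {v : W m F k // b v = 1} :=
      { toFun := fun x => (b x, ⟨x - (b x - 1) • w0, by simp [map_sub, map_smul, hb]⟩)
        invFun := fun y => y.2.1 + (y.1 - 1) • w0
        left_inv := fun x => sub_add_cancel x _
        right_inv := fun y => by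
          have h : b (y.2.1 + (y.1 - 1) • w0) = y.1 := by simp [map_add, map_smul, hb, y.2.2]
          refine Prod.ext h (Subtype.ext ?_)
          change (y.2.1 + (y.1 - 1) • w0) - (b (y.2.1 + (y.1 - 1) • w0) - 1) • w0 = _
          rw [h, add_sub_cancel_right] }
    have h := Nat.card_congr e2
    rw [card_W, Nat.card_prod] at h
    have h2 : 2 * (m - k) = (2 * (m - k) - 1) + 1 := by omega
    rw [h2, pow_succ'] at h
    exact (Nat.eq_of_mul_eq_mul_left Nat.card_pos h).symm
  have hZ : Nat.card Z = Nat.card F ^ (2 * (m - k)) - 1 := by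
    rw [← card_W (m := m) (F := F) k, Nat.card_eq_fintype_card, Nat.card_eq_fintype_card,
      Fintype.card_subtype_compl, Fintype.card_subtype_eq]
  rw [Nat.card_congr e1, Nat.card_sigma, Finset.sum_congr rfl fun u _ => hfib u, Finset.sum_const,
    smul_eq_mul, Finset.card_univ, ← Nat.card_eq_fintype_card, hZ]

theorem tgen_le_fixPairs (k : ℕ) : tgen (pairs m F k) ≤ fixPairs m F k :=
  fun _ hg _ hs => tgen_fix hg hs

theorem card_fixPairs_succ [Finite F] {k : ℕ} (hk : k < m) :
    Nat.card (fixPairs m F k) = Nat.card (HPair m F k) * Nat.card (fixPairs m F (k + 1)) := by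
  classical
  rw [← Nat.card_prod]
  let i : Fin m := ⟨k, hk⟩
  have hf := f_orth (F := F) (k := k) i le_rfl
  have he := e_orth (F := F) (k := k) i le_rfl
  choose t ht ht1 ht2 using fun p : HPair m F k =>
    move_pair hf he (mem_W.1 p.1.1.2) (mem_W.1 p.1.2.2) (bf_f_e i) p.2
  have ht' : ∀ p, t p ∈ fixPairs m F k := fun p => tgen_le_fixPairs k (ht p)
  have hWa : ∀ g : fixPairs m F k, ∀ x, x ∈ W m F k → act (g : G m F) x ∈ W m F k := fun g x hx =>
    mem_W.2 fun s hs => by rw [← g.2 s hs, bf_act, mem_W.1 hx s hs]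
  let P : fixPairs m F k → HPair m F k := fun g =>
    ⟨(⟨_, hWa g _ (mem_W.2 hf)⟩, ⟨_, hWa g _ (mem_W.2 he)⟩), by
      change bf m F (act (g : G m F) (f i)) (act (g : G m F) (e i)) = 1
      rw [bf_act, bf_f_e]⟩
  have hrest : ∀ g : fixPairs m F k, (t (P g))⁻¹ * (g : G m F) ∈ fixPairs m F (k + 1) := by
    rintro g s ⟨j, hj, hs⟩
    rcases Nat.lt_succ_iff_lt_or_eq.1 hj with hj | hj
    · exact (mul_mem (inv_mem (ht' (P g))) g.2) s ⟨j, hj, hs⟩
    · have : j = i := Fin.ext hj
      subst this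
      rcases hs with rfl | rfl
      · rw [act_mul]
        conv_rhs => rw [← act_inv_act (t (P g)) (e i), ht2]
      · rw [act_mul]
        conv_rhs => rw [← act_inv_act (t (P g)) (f i), ht1]
  have hsub : fixPairs m F (k + 1) ≤ fixPairs m F k :=
    fun g hg s hs => hg s (pairs_mono (Nat.le_succ k) hs)
  have hP : ∀ p (h : fixPairs m F (k + 1)),
      P ⟨t p * (h : G m F), mul_mem (ht' p) (hsub h.2)⟩ = p := by
    intro p h
    refine Subtype.ext (Prod.ext (Subtype.ext ?_) (Subtype.ext ?_))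
    · change act (t p * (h : G m F)) (f i) = _
      rw [act_mul, h.2 (f i) ⟨i, Nat.lt_succ_self k, Or.inr rfl⟩, ht1]
    · change act (t p * (h : G m F)) (e i) = _
      rw [act_mul, h.2 (e i) ⟨i, Nat.lt_succ_self k, Or.inl rfl⟩, ht2]
  refine Nat.card_congr
    { toFun := fun g => (P g, ⟨_, hrest g⟩)
      invFun := fun y => ⟨t y.1 * (y.2 : G m F), mul_mem (ht' y.1) (hsub y.2.2)⟩
      left_inv := fun g => Subtype.ext (mul_inv_cancel_left _ _)
      right_inv := fun y => by
        refine Prod.ext (hP y.1 y.2) (Subtype.ext ?_)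
        simp [hP y.1 y.2] }

theorem card_fixPairs [Finite F] : ∀ d k, k + d = m → Nat.card (fixPairs m F k) =
    Nat.card F ^ (d ^ 2) * ∏ i ∈ Finset.range d, (Nat.card F ^ (2 * (i + 1)) - 1)
  | 0, k, h => by
    have : k = m := h
    subst this
    have : fixPairs k F k = ⊥ := eq_bot_iff.2 fun g hg => eq_one_of_mem_fixPairs hg
    rw [this, Subgroup.card_bot]
    simp
  | d + 1, k, h => by
    rw [card_fixPairs_succ (by omega), card_fixPairs d (k + 1) (by omega), card_HPair (by omega),
      Finset.prod_range_succ, show m - k = d + 1 by omega,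
      show 2 * (d + 1) - 1 = 2 * d + 1 by omega, show (d + 1) ^ 2 = (2 * d + 1) + d ^ 2 by ring,
      pow_add]
    ring

/-- The order of the symplectic group. -/
theorem card_G [Finite F] : Nat.card (G m F) =
    Nat.card F ^ (m ^ 2) * ∏ i ∈ Finset.range m, (Nat.card F ^ (2 * (i + 1)) - 1) := by
  rw [← card_fixPairs m 0 (Nat.zero_add m), fixPairs_zero, Subgroup.card_top]

end CfsgLib.Lie.Sp
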