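import Cfsg.Agent.Lie.SpCenter

/-!
Perfectness of Sp, primitivity on points, simplicity of PSp.
-/

set_option autoImplicit false
set_option linter.unusedSimpArgs false
set_option linter.unusedSectionVars false

namespace CfsgLib.Lie.Sp

open Matrix MulAction
open scoped LinearAlgebra.Projectivization Pointwise

variable {m : ℕ} {F : Type*} [Field F]

theorem exists_ne_of_four_le [Fintype F] (h : 4 ≤ Fintype.card F) :
    ∃ a : F, a ≠ 0 ∧ a * a ≠ 1 := by
  classical
  by_contra hc
  push_neg at hc
  have hs : (Finset.univ : Finset F) ⊆ {0, 1, -1} := by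
    intro x _
    simp only [Finset.mem_insert, Finset.mem_singleton]
    by_cases hx : x = 0
    · exact Or.inl hx
    · exact Or.inr (mul_self_eq_one_iff.1 (hc x hx))
  have h2 : Fintype.card F ≤ ({0, 1, -1} : Finset F).card := Finset.card_le_card hs
  have h3 : ({0, 1, -1} : Finset F).card ≤ 3 := Finset.card_le_three
  omega

theorem of_tv_eq {v w : V m F} (hv : v ≠ 0) (hw : w ≠ 0) (c : F) :
    Abelianization.of (tv v c) = Abelianization.of (tv w c) := by
  obtain ⟨g, hg⟩ := transitive hv hw
  rw [← hg, ← conj_tv, map_mul, map_mul, map_inv, mul_inv_cancel_comm]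

theorem tv_orth_identity {u v : V m F} (h : bf m F u v = 0) (c : F) :
    tv (u + v) c * tv (u - v) c = tv u (2 * c) * tv v (2 * c) := by
  have h' : bf m F v u = 0 := by rw [bf_swap, h, neg_zero]
  refine act_ext fun x => ?_
  simp only [act_mul, act_tv, map_add, map_sub, map_smul, LinearMap.add_apply, LinearMap.sub_apply,
    LinearMap.smul_apply, smul_eq_mul, bf_self, h, h']
  module

theorem tv_triple_identity {u v w : V m F} (h1 : bf m F u v = 0) (h2 : bf m F u w = 0)
    (h3 : bf m F v w = 0) (c : F) :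
    tv (u + v + w) c * (tv u c * (tv v c * tv w c)) =
      tv (u + v) c * (tv (u + w) c * tv (v + w) c) := by
  have h1' : bf m F v u = 0 := by rw [bf_swap, h1, neg_zero]
  have h2' : bf m F w u = 0 := by rw [bf_swap, h2, neg_zero]
  have h3' : bf m F w v = 0 := by rw [bf_swap, h3, neg_zero]
  refine act_ext fun x => ?_
  simp only [act_mul, act_tv, map_add, map_smul, LinearMap.add_apply, LinearMap.smul_apply,
    smul_eq_mul, bf_self, h1, h1', h2, h2', h3, h3']
  module

theorem commutator_eq_top [Fintype F]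
    (h : 3 ≤ m ∨ (m = 2 ∧ 3 ≤ Fintype.card F) ∨ 4 ≤ Fintype.card F) :
    commutator (G m F) = ⊤ := by
  classical
  refine eq_top_of_tv_mem _ fun w c => ?_
  rw [← Abelianization.ker_of, MonoidHom.mem_ker]
  by_cases hw : w = 0
  · subst hw
    rw [show tv (0 : V m F) c = 1 from act_ext fun x => by simp [act_tv, act_one], map_one]
  have hadd : ∀ a b : F,
      Abelianization.of (tv w (a + b)) = Abelianization.of (tv w a) * Abelianization.of (tv w b) :=
    fun a b => by rw [← map_mul, tv_add]
  by_cases hA : ∃ a : F, a ≠ 0 ∧ a * a ≠ 1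
  · obtain ⟨a, ha, ha1⟩ := hA
    have key : ∀ d : F, Abelianization.of (tv w (a * a * d - d)) = 1 := by
      intro d
      have h1 := of_tv_eq (smul_ne_zero ha hw) hw d
      rw [tv_smul] at h1
      have h2 := hadd (a * a * d - d) d
      rw [sub_add_cancel, h1] at h2
      exact mul_eq_right.1 h2.symm
    have h3 := key ((a * a - 1)⁻¹ * c)
    rwa [show a * a * ((a * a - 1)⁻¹ * c) - (a * a - 1)⁻¹ * c = c by
      rw [← sub_one_mul, mul_inv_cancel_left₀ (sub_ne_zero.2 ha1)]] at h3
  have hm : 2 ≤ m := by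
    rcases h with h | ⟨h, -⟩ | h
    · omega
    · omega
    · exact absurd (exists_ne_of_four_le h) hA
  let i0 : Fin m := ⟨0, by omega⟩
  let i1 : Fin m := ⟨1, by omega⟩
  have h01 : bf m F (e i0) (e i1) = 0 := by rw [bf_e_left]; simp [e, i0, i1]
  have hne : ∀ i : Fin m, (e i : V m F) ≠ 0 := fun i => by simp [e]
  by_cases h3 : 3 ≤ m
  · let i2 : Fin m := ⟨2, by omega⟩
    have hid := congrArg Abelianization.of (tv_triple_identity (u := (e i0 : V m F)) (v := e i1)
      (w := e i2) h01 (by rw [bf_e_left]; simp [e, i0, i2]) (by rw [bf_e_left]; simp [e, i1, i2]) c)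
    have n1 : (e i0 + e i1 + e i2 : V m F) ≠ 0 := fun hh => by
      simpa [e, i0, i1, i2] using congrFun hh (.inl i0)
    have n2 : (e i0 + e i1 : V m F) ≠ 0 := fun hh => by
      simpa [e, i0, i1] using congrFun hh (.inl i0)
    have n3 : (e i0 + e i2 : V m F) ≠ 0 := fun hh => by
      simpa [e, i0, i2] using congrFun hh (.inl i0)
    have n4 : (e i1 + e i2 : V m F) ≠ 0 := fun hh => by
      simpa [e, i1, i2] using congrFun hh (.inl i1)
    simp only [map_mul, of_tv_eq n1 hw, of_tv_eq n2 hw, of_tv_eq n3 hw, of_tv_eq n4 hw,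
      of_tv_eq (hne i0) hw, of_tv_eq (hne i1) hw, of_tv_eq (hne i2) hw] at hid
    exact mul_eq_right.1 hid
  have h2 : (2 : F) ≠ 0 := by
    intro h2
    push_neg at hA
    rcases h with h | ⟨-, hq⟩ | h
    · omega
    · have hs : (Finset.univ : Finset F) ⊆ {0, 1} := by
        intro x _
        simp only [Finset.mem_insert, Finset.mem_singleton]
        by_cases hx : x = 0
        · exact Or.inl hx
        · rcases mul_self_eq_one_iff.1 (hA x hx) with h' | h'
          · exact Or.inr h'
          · exact Or.inr (by rw [h']; linear_combination -h2)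
      have h4 : Fintype.card F ≤ ({0, 1} : Finset F).card := Finset.card_le_card hs
      have h5 : ({0, 1} : Finset F).card ≤ 2 := Finset.card_le_two
      omega
    · exact absurd (exists_ne_of_four_le h) (by push_neg; exact hA)
  have hid := congrArg Abelianization.of (tv_orth_identity h01 (2⁻¹ * c))
  have n2 : (e i0 + e i1 : V m F) ≠ 0 := fun hh => by
    simpa [e, i0, i1] using congrFun hh (.inl i0)
  have n3 : (e i0 - e i1 : V m F) ≠ 0 := fun hh => by
    simpa [e, i0, i1] using congrFun hh (.inl i0)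
  simp only [map_mul, of_tv_eq n2 hw, of_tv_eq n3 hw, of_tv_eq (hne i0) hw,
    of_tv_eq (hne i1) hw] at hid
  rw [← hadd, mul_inv_cancel_left₀ h2, ← two_mul, mul_inv_cancel_left₀ h2] at hid
  exact mul_eq_right.1 hid.symm

/-- The action on points, through GL. -/
@[instance_reducible]
def pointAction : MulAction (G m F) (ℙ F (V m F)) :=
  MulAction.compHom _ (Cfsg.spToMat m F).toHomUnits

attribute [scoped instance] pointAction

theorem smul_point (g : G m F) (v : V m F) (hv : v ≠ 0) (w : V m F) (hw : w ≠ 0)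
    (h : ∃ a : F, a • w = act g v) :
    g • Projectivization.mk F v hv = Projectivization.mk F w hw := by
  change (Cfsg.spToMat m F).toHomUnits g • Projectivization.mk F v hv = _
  rw [Projectivization.smul_mk, Projectivization.mk_eq_mk_iff']
  exact h

theorem act_ne_zero (g : G m F) {v : V m F} (hv : v ≠ 0) : act g v ≠ 0 := fun h => hv (by
  rw [← act_inv_act g v, h]; exact Matrix.mulVec_zero _)

theorem pretransitive : IsPretransitive (G m F) (ℙ F (V m F)) := by
  constructor
  intro x y
  obtain ⟨g, hg⟩ := transitive x.rep_nonzero y.rep_nonzero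
  refine ⟨g, ?_⟩
  conv_lhs => rw [← x.mk_rep]
  conv_rhs => rw [← y.mk_rep]
  exact smul_point g _ _ _ _ ⟨1, by rw [one_smul, hg]⟩

/-- Membership of the line of `v`. -/
def InB (B : Set (ℙ F (V m F))) (v : V m F) : Prop :=
  ∃ hv : v ≠ 0, Projectivization.mk F v hv ∈ B

theorem InB.smul {B : Set (ℙ F (V m F))} {v : V m F} (h : InB B v) {a : F} (ha : a ≠ 0) :
    InB B (a • v) := by
  obtain ⟨hv, h⟩ := h
  refine ⟨smul_ne_zero ha hv, ?_⟩
  rwa [(Projectivization.mk_eq_mk_iff' F (a • v) v _ _).2 ⟨a, rfl⟩]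

theorem InB.move {B : Set (ℙ F (V m F))} (hB : IsBlock (G m F) B) {u w : V m F} (hu : InB B u)
    (hw : InB B w) {g : G m F} (hg : act g u = u) : InB B (act g w) := by
  obtain ⟨hu0, hu⟩ := hu
  obtain ⟨hw0, hw⟩ := hw
  have h1 : g • Projectivization.mk F u hu0 = Projectivization.mk F u hu0 :=
    smul_point g _ _ _ _ ⟨1, by rw [one_smul, hg]⟩
  have h2 : g • B = B := isBlock_iff_smul_eq_of_mem.1 hB hu (by rw [h1]; exact hu)
  refine ⟨act_ne_zero g hw0, ?_⟩
  rw [← h2]
  exact ⟨_, hw, smul_point g _ _ _ _ ⟨1, one_smul _ _⟩⟩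

theorem InB.of_pair {B : Set (ℙ F (V m F))} (hB : IsBlock (G m F) B) {u w : V m F} (hu : InB B u)
    (hw : InB B w) (h : bf m F u w ≠ 0) {x : V m F} (hx : bf m F u x ≠ 0) : InB B x := by
  obtain ⟨g, -, hg1, hg2⟩ := move_pair (S := (∅ : Set (V m F))) (u := u)
    (v := (bf m F u w)⁻¹ • w) (u' := u) (v' := (bf m F u x)⁻¹ • x) (by simp) (by simp) (by simp)
    (by simp) (by simp [h]) (by simp [hx])
  have h1 := (InB.move hB hu (hw.smul (inv_ne_zero h)) hg1).smul hx
  rwa [hg2, smul_smul, mul_inv_cancel₀ hx, one_smul] at h1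

theorem InB.all_of_pair {B : Set (ℙ F (V m F))} (hB : IsBlock (G m F) B) {u w : V m F}
    (hu : InB B u) (hw : InB B w) (h : bf m F u w ≠ 0) {x : V m F} (hx : x ≠ 0) : InB B x := by
  by_cases h1 : bf m F u x ≠ 0
  · exact InB.of_pair hB hu hw h h1
  push_neg at h1
  obtain ⟨b, hb⟩ := exists_bf_eq_one hx
  obtain ⟨s, hs1, hs2⟩ : ∃ s, bf m F u s ≠ 0 ∧ bf m F x s ≠ 0 := by
    by_cases h2 : bf m F u b ≠ 0
    · exact ⟨b, h2, by simp [hb]⟩
    by_cases h3 : bf m F x w ≠ 0
    · exact ⟨w, h, h3⟩
    push_neg at h2 h3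
    exact ⟨w + b, by simp [h2, h], by simp [h3, hb]⟩
  have hs := InB.of_pair hB hu hw h hs1
  exact InB.of_pair hB hs hu (by rw [bf_swap]; simpa using hs1) (by rw [bf_swap]; simpa using hs2)

theorem InB.all {B : Set (ℙ F (V m F))} (hB : IsBlock (G m F) B) {u w : V m F}
    (hu : InB B u) (hw : InB B w) (h : ∀ c : F, w ≠ c • u) {x : V m F} (hx : x ≠ 0) : InB B x := by
  have hu0 := hu.1
  by_cases h1 : bf m F u w ≠ 0
  · exact InB.all_of_pair hB hu hw h1 hx
  push_neg at h1
  have orth : ∀ r : V m F, bf m F u r = 0 → (∀ c : F, r ≠ c • u) → InB B r := by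
    intro r hr hr'
    obtain ⟨a, ha1, ha2⟩ := exists_bf_zero_one hu0 h
    obtain ⟨b, hb1, hb2⟩ := exists_bf_zero_one hu0 hr'
    obtain ⟨g, hg, hgw⟩ := Sp.move (S := ({u} : Set (V m F))) (u := w) (v := a) (w := r) (v' := b)
      (by simpa using h1) (by simpa using ha1) (by simpa using hr) (by simpa using hb1) ha2 hb2
    rw [← hgw]
    exact InB.move hB hu hw (tgen_fix hg (Set.mem_singleton u))
  obtain ⟨v, hv⟩ := exists_bf_eq_one hu0
  have hs0 : bf m F u (w + bf m F v w • u) = 0 := by simp [h1, bf_self]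
  have hs' : ∀ c : F, w + bf m F v w • u ≠ c • u := fun c hc =>
    h (c - bf m F v w) (by rw [sub_smul, ← hc, add_sub_cancel_right])
  obtain ⟨t, ht1, ht2⟩ := exists_bf_zero_one hu0 hs'
  have ht' : ∀ c : F, t ≠ c • u := fun c hc => by
    subst hc
    rw [map_smul, bf_swap u] at ht2
    simp [hs0] at ht2
  exact InB.all_of_pair hB (orth _ hs0 hs') (orth t ht1 ht') (by rw [ht2]; exact one_ne_zero) hx

theorem preprimitive (hm : 1 ≤ m) : IsPreprimitive (G m F) (ℙ F (V m F)) := by
  have := pretransitive (m := m) (F := F)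
  have he : (e ⟨0, hm⟩ : V m F) ≠ 0 := by simp [e]
  refine IsPreprimitive.of_isTrivialBlock_base (Projectivization.mk F _ he) fun {B} haB hB => ?_
  by_contra hc
  simp only [IsTrivialBlock, not_or] at hc
  apply hc.2
  obtain ⟨p, hp, hne⟩ : ∃ p ∈ B, p ≠ Projectivization.mk F _ he := by
    by_contra hh
    push_neg at hh
    exact hc.1 fun x hx y hy => (hh x hx).trans (hh y hy).symm
  refine Set.eq_univ_of_forall fun x => ?_
  have h1 : InB B (e ⟨0, hm⟩) := ⟨he, haB⟩
  have h2 : InB B p.rep := ⟨p.rep_nonzero, by rwa [p.mk_rep]⟩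
  have h3 : ∀ c : F, p.rep ≠ c • (e ⟨0, hm⟩ : V m F) := by
    intro c hcc
    apply hne
    rw [← p.mk_rep, Projectivization.mk_eq_mk_iff']
    exact ⟨c, hcc.symm⟩
  obtain ⟨hx, hxB⟩ := InB.all hB h1 h2 h3 x.rep_nonzero
  rwa [x.mk_rep] at hxB

theorem ker_toPerm (hm : 1 ≤ m) :
    (MulAction.toPermHom (G m F) (ℙ F (V m F))).ker = Subgroup.center (G m F) := by
  ext g
  rw [mem_center_iff hm, MonoidHom.mem_ker, Equiv.Perm.ext_iff]
  simp only [toPermHom_apply, toPerm_apply, Equiv.Perm.one_apply]
  constructor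
  · intro h
    obtain ⟨a, ha⟩ := LinearMap.exists_eq_smul_id_of_forall_notLinearIndependent
      (f := Matrix.mulVecLin (g : Matrix (Fin m ⊕ Fin m) (Fin m ⊕ Fin m) F)) fun v => by
        by_cases hv : v = 0
        · simp [hv, linearIndependent_fin2]
        · have h1 := h (Projectivization.mk F v hv)
          change (Cfsg.spToMat m F).toHomUnits g • Projectivization.mk F v hv = _ at h1
          rw [Projectivization.smul_mk, Projectivization.mk_eq_mk_iff'] at h1
          obtain ⟨c, hc⟩ := h1
          intro hli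
          exact (LinearIndependent.pair_iff' hv).1 hli c (hc.trans rfl)
    have ha' : ∀ v, act g v = a • v := fun v => by
      simpa [act, Module.algebraMap_end_apply] using LinearMap.congr_fun ha v
    refine ⟨a, ?_, ha'⟩
    have h2 := bf_act g (f ⟨0, hm⟩) (e ⟨0, hm⟩)
    rw [ha', ha'] at h2
    simpa [bf_f_e] using h2
  · rintro ⟨a, -, h⟩ p
    conv_lhs => rw [← p.mk_rep]
    conv_rhs => rw [← p.mk_rep]
    exact smul_point g _ _ _ _ ⟨a, (h _).symm⟩

/-- The transvections with given vector. -/
def rootHom (w : V m F) : Multiplicative F →* G m F :=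
  MonoidHom.mk' (fun c => tv w c.toAdd) fun a b => (tv_add w a.toAdd b.toAdd).symm

theorem range_rootHom_smul (w : V m F) {a : F} (ha : a ≠ 0) :
    (rootHom (a • w)).range = (rootHom w).range := by
  ext g
  constructor
  · rintro ⟨c, rfl⟩
    exact ⟨Multiplicative.ofAdd (a * a * c.toAdd), (tv_smul w a c.toAdd).symm⟩
  · rintro ⟨c, rfl⟩
    refine ⟨Multiplicative.ofAdd ((a * a)⁻¹ * c.toAdd), ?_⟩
    change tv (a • w) ((a * a)⁻¹ * c.toAdd) = tv w c.toAdd
    rw [tv_smul, mul_inv_cancel_left₀ (mul_ne_zero ha ha)]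

theorem map_conj_range_rootHom (g : G m F) (w : V m F) :
    (rootHom w).range.map (MulAut.conj g).toMonoidHom = (rootHom (act g w)).range := by
  rw [MonoidHom.map_range]
  congr 1
  ext c
  simp [rootHom, conj_tv]

/-- PSp is simple. -/
theorem isSimpleGroup_PSp [Fintype F] (hm : 2 ≤ m) (h : m = 2 → 3 ≤ Fintype.card F) :
    IsSimpleGroup (Cfsg.PSp m F) := by
  classical
  have hker := ker_toPerm (m := m) (F := F) (by omega)
  let ρ : Cfsg.PSp m F →* Equiv.Perm (ℙ F (V m F)) :=
    QuotientGroup.lift _ (MulAction.toPermHom (G m F) (ℙ F (V m F))) hker.ge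
  letI : MulAction (Cfsg.PSp m F) (ℙ F (V m F)) := MulAction.compHom _ ρ
  have hmk : ∀ (g : G m F) (p : ℙ F (V m F)), (QuotientGroup.mk' _ g : Cfsg.PSp m F) • p = g • p :=
    fun _ _ => rfl
  have hinj : Function.Injective ρ := by
    rw [← MonoidHom.ker_eq_bot_iff, QuotientGroup.ker_lift, hker, QuotientGroup.map_mk'_self]
  have hF : FaithfulSMul (Cfsg.PSp m F) (ℙ F (V m F)) :=
    faithfulSMul_iff.2 fun g hg => hinj (Equiv.ext fun x => by
      rw [map_one]
      exact hg x)
  have hprim : IsPreprimitive (Cfsg.PSp m F) (ℙ F (V m F)) :=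
    @MulAction.IsPreprimitive.of_surjective _ _ _ _ _ _ _ _
      (QuotientGroup.mk' (Subgroup.center (G m F)))
      { toFun := id, map_smul' := fun _ _ => rfl } (preprimitive (by omega))
      Function.surjective_id
  have : Nontrivial (Cfsg.PSp m F) := by
    let i0 : Fin m := ⟨0, by omega⟩
    refine ⟨⟨QuotientGroup.mk' _ (tv (f i0) (1 : F)), 1, fun hh => ?_⟩⟩
    have h1 : tv (f i0) (1 : F) ∈ Subgroup.center (G m F) :=
      (QuotientGroup.eq_one_iff _).1 hh
    obtain ⟨a, -, ha⟩ := (mem_center_iff (by omega)).1 h1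
    have h2 := congrFun (ha (e i0)) (.inr i0)
    rw [act_tv, bf_swap, bf_f_e] at h2
    simp [e, f] at h2
  let T : ℙ F (V m F) → Subgroup (Cfsg.PSp m F) := fun p =>
    (rootHom p.rep).range.map (QuotientGroup.mk' _)
  have hT : ∀ (w : V m F) (hw : w ≠ 0), T (Projectivization.mk F w hw) =
      (rootHom w).range.map (QuotientGroup.mk' _) := by
    intro w hw
    obtain ⟨a, ha⟩ := (Projectivization.mk_eq_mk_iff F _ _
      (Projectivization.mk F w hw).rep_nonzero hw).1 (Projectivization.mk F w hw).mk_rep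
    simp only [T, ← ha, Units.smul_def, range_rootHom_smul w a.ne_zero]
  let S : IwasawaStructure (Cfsg.PSp m F) (ℙ F (V m F)) :=
    { T := T
      is_comm := fun p => by
        have : IsMulCommutative (rootHom p.rep).range := ⟨⟨fun x y => by
          obtain ⟨_, a, rfl⟩ := x
          obtain ⟨_, b, rfl⟩ := y
          exact Subtype.ext (by
            change rootHom p.rep a * rootHom p.rep b = rootHom p.rep b * rootHom p.rep a
            rw [← map_mul, ← map_mul, mul_comm])⟩⟩
        exact Subgroup.map_isMulCommutative _ _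
      is_conj := fun g p => by
        obtain ⟨g, rfl⟩ := QuotientGroup.mk'_surjective _ g
        rw [hmk]
        conv_lhs => rw [← p.mk_rep, smul_point g _ _ _ (act_ne_zero g p.rep_nonzero) ⟨1, one_smul _ _⟩]
        rw [hT]
        change Subgroup.map _ (rootHom (act g p.rep)).range =
          Subgroup.map (MulAut.conj (QuotientGroup.mk' (Subgroup.center (G m F)) g)).toMonoidHom
            ((rootHom p.rep).range.map (QuotientGroup.mk' _))
        rw [← map_conj_range_rootHom, Subgroup.map_map, Subgroup.map_map]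
        exact congrArg (fun φ => Subgroup.map φ (rootHom p.rep).range)
          (MonoidHom.ext fun x => by simp [MulAut.conj_apply])
      is_generator := by
        have hall : (⨆ p : ℙ F (V m F), (rootHom p.rep).range) = (⊤ : Subgroup (G m F)) := by
          refine eq_top_of_tv_mem _ fun w c => ?_
          by_cases hw : w = 0
          · subst hw
            rw [show tv (0 : V m F) c = 1 from act_ext fun x => by simp [act_tv, act_one]]
            exact one_mem _
          refine Subgroup.mem_iSup_of_mem (Projectivization.mk F w hw) ?_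
          obtain ⟨a, ha⟩ := (Projectivization.mk_eq_mk_iff F _ _
            (Projectivization.mk F w hw).rep_nonzero hw).1 (Projectivization.mk F w hw).mk_rep
          rw [← ha, Units.smul_def, range_rootHom_smul w a.ne_zero]
          exact ⟨Multiplicative.ofAdd c, rfl⟩
        change (⨆ p, Subgroup.map _ _) = _
        rw [← Subgroup.map_iSup, hall]
        exact Subgroup.map_top_of_surjective _ (QuotientGroup.mk'_surjective _) }
  refine S.isSimpleGroup ?_ hF
  have : Group.IsPerfect (G m F) := ⟨commutator_eq_top (by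
    rcases Nat.lt_or_ge m 3 with h3 | h3
    · exact Or.inr (Or.inl ⟨by omega, h (by omega)⟩)
    · exact Or.inl h3)⟩
  have : Group.IsPerfect (Cfsg.PSp m F) := inferInstance
  exact this.commutator_eq_top

theorem preprimitive_spGL (hm : 1 ≤ m) :
    IsPreprimitive (Cfsg.spGL m F) (ℙ F (V m F)) := by
  have hu : ∀ g : G m F, IsUnit (g : Matrix (Fin m ⊕ Fin m) (Fin m ⊕ Fin m) F) := fun g =>
    IsUnit.of_mul_eq_one _ (congrArg Subtype.val (mul_inv_cancel g))
  let φ : G m F → Cfsg.spGL m F := fun g => ⟨(hu g).unit, fun u v => by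
    change Cfsg.sympForm m F _ _ = _
    rw [← bf_eq, ← bf_eq]
    exact bf_act g u v⟩
  exact @MulAction.IsPreprimitive.of_surjective _ _ _ _ _ _ _ _ φ
    { toFun := id
      map_smul' := fun g p => by
        induction p using Projectivization.ind with
        | _ v hv => rfl }
    (preprimitive hm) Function.surjective_id

end CfsgLib.Lie.Sp
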