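import Cfsg.Agent.Lie.Klein
import Cfsg.Agent.Lie.KleinQuot
import Cfsg.Agent.Lie.OrthStd
import Cfsg.Agent.Lie.SpSimple
import Cfsg.Agent.Lie.SpCenter
import Cfsg.Agent.Lie.SpOrder

/-!
`PΩ₅(q) ≅ PSp₄(q)` in odd characteristic, as the stabiliser of a nonsingular vector of the Klein quadric.
-/

set_option autoImplicit false
set_option linter.unusedSectionVars false
set_option linter.unusedSimpArgs false

namespace CfsgLib.Lie.KleinSp

open Matrix

variable {F : Type*} [Field F]

abbrev P5 := Unit ⊕ (Fin 2 ⊕ Fin 2)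

/-- numbering of the symplectic basis -/
def num : Fin 4 ≃ Fin 2 ⊕ Fin 2 where
  toFun := ![.inl 0, .inl 1, .inr 0, .inr 1]
  invFun := Sum.elim ![0, 1] ![2, 3]
  left_inv := by decide
  right_inv := by decide

/-- `Sp₄ → SL₄` -/
def toSL : Sp.G 2 F →* Klein.G4 F where
  toFun g := ⟨(g.1).submatrix num num, by rw [Matrix.det_submatrix_equiv_self]; exact SymplecticGroup.det_eq_one g.2⟩
  map_one' := Subtype.ext (Matrix.submatrix_one_equiv num)
  map_mul' g h := Subtype.ext (Matrix.submatrix_mul_equiv g.1 h.1 num num num).symm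

theorem toSL_apply (g : Sp.G 2 F) (i j : Fin 4) : (toSL g).1 i j = g.1 (num i) (num j) := rfl

/-- the invariant bivector -/
def om : Klein.P6 → F := Sum.elim ![0, 1, 0] ![0, -1, 0]

theorem om_fix (g : Sp.G 2 F) : Klein.C (toSL g).1 *ᵥ om = om := by
  have h := SymplecticGroup.mem_iff.1 g.2
  have k : ∀ a b : Fin 4, _ := fun a b => congrFun (congrFun h (num a)) (num b)
  funext p
  have hp := k (Klein.fa p) (Klein.fb p)
  rcases p with p | p <;> fin_cases p <;>
    simp [Klein.fa, Klein.fb, num, Matrix.mul_apply, Matrix.J, Fintype.sum_sum_type, Fin.sum_univ_two,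
      Matrix.one_apply] at hp <;>
    simp [Klein.C, Klein.fa, Klein.fb, toSL_apply, num, om, Matrix.mulVec, dotProduct, Fintype.sum_sum_type,
      Fin.sum_univ_three] <;>
    linear_combination -hp

/-- the hyperplane orthogonal to `om` -/
def P : (P5 → F) →ₗ[F] (Klein.P6 → F) where
  toFun v := Sum.elim ![v (.inr (.inl 0)), v (.inl ()), v (.inr (.inl 1))]
    ![v (.inr (.inr 0)), v (.inl ()), v (.inr (.inr 1))]
  map_add' u v := by funext p; rcases p with p | p <;> fin_cases p <;> simp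
  map_smul' c v := by funext p; rcases p with p | p <;> fin_cases p <;> simp

/-- the coordinates on the hyperplane -/
def R : (Klein.P6 → F) →ₗ[F] (P5 → F) where
  toFun z := Sum.elim (fun _ => z (.inl 1)) (Sum.elim ![z (.inl 0), z (.inl 2)] ![z (.inr 0), z (.inr 2)])
  map_add' u v := by funext p; rcases p with p | (p | p) <;> first | (fin_cases p <;> simp) | simp
  map_smul' c v := by funext p; rcases p with p | (p | p) <;> first | (fin_cases p <;> simp) | simp

theorem R_P (v : P5 → F) : R (P v) = v := by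
  funext p
  rcases p with ⟨⟩ | (p | p)
  · rfl
  all_goals (fin_cases p <;> rfl)

theorem P_R {z : Klein.P6 → F} (hz : z (.inr 1) = z (.inl 1)) : P (R z) = z := by
  funext p; rcases p with p | p <;> fin_cases p <;> simp [P, R, hz]

theorem quad_P (v : P5 → F) : Cfsg.quadFormPlus 3 F (P v) = Cfsg.quadFormOdd 2 F v := by
  simp [Cfsg.quadFormPlus, Cfsg.quadFormOdd, P, Fin.sum_univ_three, Fin.sum_univ_two]
  ring

theorem image_mem (g : Sp.G 2 F) (v : P5 → F) :
    (Klein.C (toSL g).1 *ᵥ P v) (.inr 1) = (Klein.C (toSL g).1 *ᵥ P v) (.inl 1) := by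
  have h1 := Klein.quad_C (toSL g).1 (P v + om)
  have h2 := Klein.quad_C (toSL g).1 (P v)
  rw [(toSL g).2, one_mul] at h1 h2
  rw [Matrix.mulVec_add, om_fix] at h1
  have h3 : (P v) (.inr 1) = (P v) (.inl 1) := by simp [P]
  generalize Klein.C (toSL g).1 *ᵥ P v = y at h1 h2 ⊢
  generalize P v = z at h1 h2 h3
  simp [Cfsg.quadFormPlus, om, Fin.sum_univ_three] at h1 h2
  linear_combination h1 - h2 + h3

/-- the five-dimensional representation -/
def lin (g : Sp.G 2 F) : (P5 → F) →ₗ[F] (P5 → F) := R ∘ₗ (Matrix.mulVecLin (Klein.C (toSL g).1) ∘ₗ P)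

theorem P_lin (g : Sp.G 2 F) (v : P5 → F) : P (lin g v) = Klein.C (toSL g).1 *ᵥ P v :=
  P_R (image_mem g v)

/-- as invertible matrices -/
def toGL5 : Sp.G 2 F →* GL P5 F :=
  MonoidHom.toHomUnits
    { toFun := fun g => LinearMap.toMatrix' (lin g)
      map_one' := by
        rw [show lin (1 : Sp.G 2 F) = LinearMap.id from LinearMap.ext fun v => by
          show R (Klein.C (toSL 1).1 *ᵥ P v) = v
          rw [map_one, Matrix.SpecialLinearGroup.coe_one, Klein.C_one, Matrix.one_mulVec, R_P]]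
        exact LinearMap.toMatrix'_id
      map_mul' := fun g h => by
        rw [show lin (g * h) = lin g ∘ₗ lin h from LinearMap.ext fun v => by
          show R (Klein.C (toSL (g * h)).1 *ᵥ P v) = R (Klein.C (toSL g).1 *ᵥ P (lin h v))
          rw [map_mul, Matrix.SpecialLinearGroup.coe_mul, Klein.C_mul, ← Matrix.mulVec_mulVec, P_lin]]
        exact LinearMap.toMatrix'_comp _ _ }

theorem toGL5_mem (g : Sp.G 2 F) : toGL5 g ∈ Cfsg.isometryGroup F ⇑(OrthStd.oddQ 2 F) := by
  intro u _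
  show OrthStd.oddQ 2 F (LinearMap.toMatrix' (lin g) *ᵥ u) = OrthStd.oddQ 2 F u
  rw [LinearMap.toMatrix'_mulVec, OrthStd.oddQ_apply, OrthStd.oddQ_apply, ← quad_P, P_lin, Klein.quad_C,
    (toSL g).2, one_mul, quad_P]

/-- the map into `O₅(q)` -/
def Φ : Sp.G 2 F →* Cfsg.isometryGroup F ⇑(OrthStd.oddQ 2 F) := toGL5.codRestrict _ toGL5_mem

theorem mem_ker (h2 : (2 : F) ≠ 0) {g : Sp.G 2 F} :
    g ∈ (Φ (F := F)).ker ↔ g ∈ Subgroup.center (Sp.G 2 F) := by
  rw [Sp.mem_center_iff (by omega)]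
  constructor
  · intro hg
    have h : lin g = LinearMap.id := LinearMap.toMatrix'.injective (by
      rw [LinearMap.toMatrix'_id]
      exact congrArg (fun x : Cfsg.isometryGroup F ⇑(OrthStd.oddQ 2 F) => x.1.1) (MonoidHom.mem_ker.1 hg))
    have hC : Klein.C (toSL g).1 = 1 := Matrix.ext_iff_mulVec.2 fun z => by
      obtain ⟨c, hc⟩ : ∃ c : F, c * 2 = z (.inl 1) - z (.inr 1) :=
        ⟨_, div_mul_cancel₀ _ h2⟩
      have hz : z = P (R (z - c • om)) + c • om := by
        rw [P_R (by simp [om]; linear_combination hc), sub_add_cancel]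
      rw [Matrix.one_mulVec, hz, Matrix.mulVec_add, Matrix.mulVec_smul, om_fix, ← P_lin, h, LinearMap.id_apply]
    obtain ⟨c, hc, hcg⟩ := Klein.mem_ker.1 (MonoidHom.mem_ker.2 (Klein.Φ_eq_one.2 hC))
    refine ⟨c, hc, fun v => funext fun i => ?_⟩
    have h3 : g.1 = Matrix.scalar (Fin 2 ⊕ Fin 2) c := Matrix.ext fun i j => by
      have := congrFun (congrFun hcg (num.symm i)) (num.symm j)
      rw [toSL_apply, Equiv.apply_symm_apply, Equiv.apply_symm_apply] at this
      rw [← this]
      simp [Matrix.diagonal_apply]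
    show (g.1 *ᵥ v) i = (c • v) i
    rw [h3]; simp [Matrix.mulVec_diagonal]
  · rintro ⟨a, ha, hg⟩
    have h3 : (toSL g).1 = Matrix.scalar (Fin 4) a := Matrix.ext fun i j => by
      have h4 := congrFun (hg (Pi.single (num j) 1)) (num i)
      simp only [Sp.act, Matrix.mulVec_single, MulOpposite.op_one, one_smul, Pi.smul_apply, Matrix.col_apply,
        smul_eq_mul, Pi.single_apply] at h4
      show g.1 (num i) (num j) = _
      rw [h4]
      simp [Matrix.diagonal_apply]
    refine MonoidHom.mem_ker.2 (Subtype.ext (Units.ext ?_))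
    show LinearMap.toMatrix' (lin g) = 1
    rw [show lin g = LinearMap.id from LinearMap.ext fun v => by
      show R (Klein.C (toSL g).1 *ᵥ P v) = v
      rw [h3, Klein.C_scalar, ha, one_smul, Matrix.one_mulVec, R_P]]
    exact LinearMap.toMatrix'_id

theorem pomega_iso [Fintype F] (hodd : Odd (Fintype.card F)) :
    Nonempty (Cfsg.POmega F ⇑(OrthStd.oddQ 2 F) ≃* Cfsg.PSp 2 F) := by
  classical
  obtain ⟨q, hF⟩ : ∃ q, Fintype.card F = q := ⟨_, rfl⟩
  rw [hF] at hodd
  have h2 : (2 : F) ≠ 0 := fun h => by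
    haveI : CharP F 2 := (CharP.charP_iff_prime_eq_zero Nat.prime_two).2 (by exact_mod_cast h)
    obtain ⟨n, -, hn⟩ := FiniteField.card F 2
    rw [← hF, hn] at hodd
    exact absurd hodd (by simp [Nat.odd_pow_iff])
  have h3 : 3 ≤ Fintype.card F := by
    have h1 := Fintype.one_lt_card (α := F)
    obtain ⟨k, hk⟩ := hodd
    omega
  have hperf : commutator (Sp.G 2 F) = ⊤ := Sp.commutator_eq_top (Or.inr (Or.inl ⟨rfl, h3⟩))
  haveI : IsSimpleGroup (Sp.G 2 F ⧸ Subgroup.center (Sp.G 2 F)) := Sp.isSimpleGroup_PSp le_rfl fun _ => h3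
  have hker : (Φ (F := F)).ker = Subgroup.center (Sp.G 2 F) := SetLike.ext fun g => mem_ker h2
  have hle : (Φ (F := F)).range ≤ Cfsg.Omega F ⇑(OrthStd.oddQ 2 F) := by
    rw [MonoidHom.range_eq_map, ← hperf, commutator_def, Subgroup.map_commutator]
    exact Subgroup.commutator_mono le_top le_top
  have hk : Nat.card (Φ (F := F)).ker = 2 := by
    rw [hker, Sp.card_center (by omega), Nat.card_eq_fintype_card, hF]
    obtain ⟨k, hk⟩ := hodd
    rw [hk, Nat.add_sub_cancel, Nat.gcd_mul_right_right]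
  have heq : (Φ (F := F)).range = Cfsg.Omega F ⇑(OrthStd.oddQ 2 F) := by
    refine Subgroup.eq_of_le_of_card_ge hle (le_of_eq ?_)
    have h1 := Subgroup.card_mul_index (Cfsg.Omega F ⇑(OrthStd.oddQ 2 F))
    have h4 : Nat.card (Φ (F := F)).ker * Nat.card (Φ (F := F)).range = Nat.card (Sp.G 2 F) := by
      rw [← Subgroup.index_ker, Subgroup.card_mul_index]
    rw [hk] at h4
    have h5 : Nat.card (Cfsg.isometryGroup F ⇑(OrthStd.oddQ 2 F)) = 2 * Nat.card (Sp.G 2 F) := by
      rw [show ⇑(OrthStd.oddQ 2 F) = Cfsg.quadFormOdd 2 F from funext fun v => OrthStd.oddQ_apply 2 v,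
        OrthOrder.card_odd hF hodd, Sp.card_G, Nat.card_eq_fintype_card, hF]
      ring
    rw [OrthChar.omega_index h2 (OrthStd.odd_nondeg h2 2) (by simp), h5, ← h4] at h1
    omega
  have hne : (Φ (F := F)).ker ≠ ⊤ := fun h => by
    have := Subgroup.card_top (G := Sp.G 2 F)
    rw [← h, hk, Sp.card_G, Nat.card_eq_fintype_card, hF] at this
    simp [Finset.prod_range_succ] at this
    have : 81 ≤ q ^ 4 := by
      calc 81 = 3 ^ 4 := by norm_num
        _ ≤ q ^ 4 := Nat.pow_le_pow_left (by omega) 4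
    have h8 : 1 ≤ (q ^ 2 - 1) * (q ^ 4 - 1) := Nat.mul_pos (by nlinarith [Nat.sub_pos_of_lt (show 1 < q ^ 2 by nlinarith)]) (by omega)
    nlinarith
  exact KleinQuot.quot_iso hperf Φ _ heq hne

end CfsgLib.Lie.KleinSp
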