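import Mathlib
import Cfsg.Agent.Lie.Orders

/-!
Element orders in direct powers of linear groups over two elements.
-/

set_option autoImplicit false
set_option linter.unusedSectionVars false
set_option linter.unusedSimpArgs false

namespace CfsgLib.Lie.LinSpec

open Matrix Polynomial

variable {F : Type*} [Field F] [Fintype F]

/-- lcm of 2^d-1 for d ≤ n -/
def bigL (n : ℕ) : ℕ := (Finset.Icc 1 n).lcm fun d => 2 ^ d - 1

theorem dvd_bigL {n d : ℕ} (h1 : 1 ≤ d) (h2 : d ≤ n) : 2 ^ d - 1 ∣ bigL n :=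
  Finset.dvd_lcm (Finset.mem_Icc.2 ⟨h1, h2⟩)

theorem eq01 (hF : Fintype.card F = 2) (a : F) (ha : a ≠ 0) : a = 1 := by
  have := FiniteField.pow_card_sub_one_eq_one a ha
  rw [hF] at this
  simpa using this

theorem pow_bound (hF : Fintype.card F = 2) {n : ℕ} (g : GL (Fin n) F) (s : ℕ) (hs : n ≤ 2 ^ s) :
    g ^ (bigL n * 2 ^ s) = 1 := by
  classical
  have hc : CharP F 2 := charP_of_card_eq_prime_pow (p := 2) (f := 1) (by simpa using hF)
  set A := (g : Matrix (Fin n) (Fin n) F) with hA
  set χ := A.charpoly with hχ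
  have hmonic : χ.Monic := A.charpoly_monic
  have hdeg : χ.natDegree = n := by rw [hχ, Matrix.charpoly_natDegree_eq_dim, Fintype.card_fin]
  have h0 : ¬ (X : F[X]) ∣ χ := by
    rw [X_dvd_iff]
    intro h
    have hdet : A.det = 0 := by rw [A.det_eq_sign_charpoly_coeff, ← hχ, h, mul_zero]
    exact (Matrix.isUnit_iff_isUnit_det A).1 g.isUnit |>.ne_zero hdet
  set fs := UniqueFactorizationMonoid.normalizedFactors χ with hfs
  have hprod : Associated fs.prod χ := UniqueFactorizationMonoid.prod_normalizedFactors hmonic.ne_zero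
  have hP : ∀ P ∈ fs, P ∣ (X ^ bigL n - 1 : F[X]) ∧ 1 ≤ P.natDegree := by
    intro P hP
    have hirr := UniqueFactorizationMonoid.irreducible_of_normalized_factor P hP
    have hdvd := UniqueFactorizationMonoid.dvd_of_mem_normalizedFactors hP
    have hd1 : 1 ≤ P.natDegree := hirr.natDegree_pos
    have hdn : P.natDegree ≤ n := hdeg ▸ natDegree_le_of_dvd hdvd hmonic.ne_zero
    refine ⟨?_, hd1⟩
    have h := hirr.natDegree_dvd_iff_dvd_X_pow_card_pow_sub_X.1 (dvd_refl P.natDegree)
    rw [Nat.card_eq_fintype_card, hF] at h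
    have he : (X : F[X]) ^ (2 ^ P.natDegree) - X = X * (X ^ (2 ^ P.natDegree - 1) - 1) := by
      rw [mul_sub, mul_one, ← pow_succ', Nat.sub_add_cancel (Nat.one_le_two_pow)]
    rw [he] at h
    rcases hirr.prime.dvd_or_dvd h with h | h
    · exact absurd ((hirr.associated_of_dvd irreducible_X h).symm.dvd.trans hdvd) h0
    · obtain ⟨c, hc⟩ := dvd_bigL hd1 hdn
      refine h.trans ?_
      rw [hc, pow_mul]
      simpa using sub_dvd_pow_sub_pow ((X : F[X]) ^ (2 ^ P.natDegree - 1)) 1 c
  have hcard : fs.card ≤ n := by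
    rw [← hdeg, ← natDegree_eq_of_degree_eq (degree_eq_degree_of_associated hprod),
      natDegree_multiset_prod _ (UniqueFactorizationMonoid.zero_notMem_normalizedFactors χ)]
    refine le_trans (le_of_eq ?_) (Multiset.card_nsmul_le_sum (a := 1) (fun x hx => ?_))
    · rw [Multiset.card_map, smul_eq_mul, mul_one]
    · obtain ⟨P, hPm, rfl⟩ := Multiset.mem_map.1 hx
      exact (hP P hPm).2
  have hdiv : χ ∣ X ^ (bigL n * 2 ^ s) - 1 := by
    have h1 : fs.prod ∣ (X ^ bigL n - 1 : F[X]) ^ fs.card := by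
      clear hprod hcard
      revert hP
      generalize fs = m
      intro hP
      induction m using Multiset.induction_on with
      | empty => simp
      | cons a m ih =>
        rw [Multiset.prod_cons, Multiset.card_cons, pow_succ']
        exact mul_dvd_mul (hP a (Multiset.mem_cons_self a m)).1 (ih fun P hPm => hP P (Multiset.mem_cons_of_mem hPm))
    have h2 : (X ^ bigL n - 1 : F[X]) ^ (2 ^ s) = X ^ (bigL n * 2 ^ s) - 1 := by
      rw [sub_pow_char_pow, one_pow, pow_mul]
    rw [← h2]
    exact hprod.symm.dvd.trans (h1.trans (pow_dvd_pow _ (hcard.trans hs)))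
  obtain ⟨c, hc⟩ := hdiv
  have h := congrArg (aeval A) hc
  rw [map_mul, hχ, Matrix.aeval_self_charpoly, zero_mul, map_sub, map_pow, map_one, aeval_X,
    sub_eq_zero] at h
  exact Units.ext (by rw [Units.val_pow_eq_pow_val]; exact h)

theorem exists_unipotent (hF : Fintype.card F = 2) {n : ℕ} (hn : 2 ≤ n) :
    ∃ u : GL (Fin n) F, orderOf u = 2 ^ Nat.clog 2 n := by
  classical
  have hc : CharP F 2 := charP_of_card_eq_prime_pow (p := 2) (f := 1) (by simpa using hF)
  have hne : NeZero n := ⟨by omega⟩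
  let N : Matrix (Fin n) (Fin n) F := Matrix.of fun i j => if (j : ℕ) = i + 1 then 1 else 0
  have hN : ∀ p : ℕ, ∀ i j, (N ^ p) i j = if (j : ℕ) = i + p then 1 else 0 := by
    intro p
    induction p with
    | zero => intro i j; simp [Matrix.one_apply, Fin.ext_iff, eq_comm]
    | succ p ih =>
      intro i j
      rw [pow_succ, Matrix.mul_apply]
      simp only [ih, N, Matrix.of_apply, ite_mul, one_mul, zero_mul]
      by_cases hip : (i : ℕ) + p < n
      · rw [Finset.sum_eq_single (⟨i + p, hip⟩ : Fin n)]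
        · simp [add_assoc]
        · intro b _ hb; rw [if_neg fun h => hb (Fin.ext h)]
        · simp
      · rw [Finset.sum_eq_zero fun b _ => if_neg fun h => hip (by have := b.2; omega), if_neg]
        omega
  set U := 1 + N with hU
  set s := Nat.clog 2 n with hs
  have hUp : ∀ k, U ^ (2 ^ k) = 1 + N ^ (2 ^ k) := fun k => by
    have hcm : CharP (Matrix (Fin n) (Fin n) F) 2 :=
      charP_of_injective_algebraMap (algebraMap F (Matrix (Fin n) (Fin n) F)).injective 2
    rw [hU, add_pow_char_pow_of_commute 2 k (Commute.one_left N), one_pow]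
  have hzero : U ^ (2 ^ s) = 1 := by
    rw [hUp]
    refine add_eq_left.2 (Matrix.ext fun i j => ?_)
    have : n ≤ 2 ^ s := Nat.le_pow_clog one_lt_two n
    rw [hN, if_neg (by omega)]; rfl
  have hunit : IsUnit U := IsUnit.of_pow_eq_one hzero (pow_ne_zero _ two_ne_zero)
  refine ⟨hunit.unit, ?_⟩
  have hs1 : 1 ≤ s := Nat.clog_pos one_lt_two hn
  obtain ⟨r, hr⟩ : ∃ r, s = r + 1 := ⟨s - 1, by omega⟩
  rw [hr]
  refine orderOf_eq_prime_pow (p := 2) ?_ ?_
  · intro h
    have h' : U ^ (2 ^ r) = 1 := by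
      have := congrArg Units.val h
      rwa [Units.val_pow_eq_pow_val, IsUnit.unit_spec, Units.val_one] at this
    rw [hUp, add_eq_left] at h'
    have hlt : 2 ^ r < n := by
      have := Nat.pow_pred_clog_lt_self one_lt_two (x := n) (by omega)
      rwa [← hs, hr] at this
    have := congrFun (congrFun h' ⟨0, by omega⟩) ⟨2 ^ r, hlt⟩
    rw [hN] at this
    simp at this
  · refine Units.ext ?_
    rw [Units.val_pow_eq_pow_val, IsUnit.unit_spec, ← hr, hzero, Units.val_one]

theorem exists_singer (hF : Fintype.card F = 2) {n e : ℕ} (he1 : 1 ≤ e) (hen : e ≤ n) :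
    ∃ u : GL (Fin n) F, orderOf u = 2 ^ e - 1 := by
  classical
  have hc : CharP F 2 := charP_of_card_eq_prime_pow (p := 2) (f := 1) (by simpa using hF)
  let ι : F ≃+* ZMod 2 := (ZMod.ringEquiv F hF).symm
  let K := GaloisField 2 e
  let : Algebra F K := ((algebraMap (ZMod 2) K).comp ι.toRingHom).toAlgebra
  have : Fintype K := Fintype.ofFinite K
  have hK : Fintype.card K = 2 ^ e := by
    rw [← Nat.card_eq_fintype_card]; exact GaloisField.card 2 e (by omega)
  have hdim : Module.finrank F K = e := by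
    have h := Module.card_eq_pow_finrank (K := F) (V := K)
    rw [hK, hF] at h
    exact (Nat.pow_right_injective le_rfl h).symm
  let R := Fin (n - e) → F
  have hdimV : Module.finrank F (K × R) = Module.finrank F (Fin n → F) := by
    rw [Module.finrank_prod, hdim, Module.finrank_fintype_fun_eq_card, Module.finrank_fintype_fun_eq_card,
      Fintype.card_fin, Fintype.card_fin]
    omega
  let θ := LinearEquiv.ofFinrankEq (K × R) (Fin n → F) hdimV
  let f : K →* Module.End F (K × R) :=
    { toFun := fun k => (Algebra.lmul F K k).prodMap LinearMap.id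
      map_one' := by ext <;> simp
      map_mul' := fun a b => by ext <;> simp [mul_assoc] }
  let T : Module.End F (K × R) ≃* Matrix (Fin n) (Fin n) F :=
    (θ.conjAlgEquiv F |>.trans LinearMap.toMatrixAlgEquiv').toMulEquiv
  let φ : Kˣ →* GL (Fin n) F := Units.map (T.toMonoidHom.comp f)
  have hφ : Function.Injective φ := by
    intro a b h
    have h' := T.injective (congrArg Units.val h : T (f a) = T (f b))
    have := congrArg Prod.fst (LinearMap.congr_fun h' (1, 0))
    simp [f] at this
    exact Units.ext this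
  obtain ⟨k, hk⟩ := IsCyclic.exists_generator (α := Kˣ)
  refine ⟨φ k, ?_⟩
  rw [orderOf_injective φ hφ, orderOf_eq_card_of_forall_mem_zpowers hk, Orders.card_units_eq,
    Nat.card_eq_fintype_card, hK]

theorem bigL_odd (n : ℕ) (s : ℕ) : Nat.Coprime (2 ^ s) (bigL n) := by
  refine Nat.Coprime.coprime_dvd_right (Finset.lcm_dvd fun d hd => Finset.dvd_prod_of_mem (fun d => 2 ^ d - 1) hd) ?_
  refine Nat.Coprime.prod_right fun d hd => Nat.Coprime.pow_left s ?_
  rw [Nat.prime_two.coprime_iff_not_dvd]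
  have h1 := (Finset.mem_Icc.1 hd).1
  obtain ⟨c, rfl⟩ : ∃ c, d = c + 1 := ⟨d - 1, by omega⟩
  rw [pow_succ]
  have := Nat.one_le_two_pow (n := c)
  omega

theorem main (hF : Fintype.card F = 2) (n k : ℕ) (hn : 2 ≤ n) (hk : (n + 3) / 2 ≤ k) :
    Set.range (orderOf : (Fin k → Matrix.ProjectiveSpecialLinearGroup (Fin n) F) → ℕ) =
      Set.range (orderOf : (Fin ((n + 3) / 2) → Matrix.ProjectiveSpecialLinearGroup (Fin n) F) → ℕ) := by
  classical
  have hne : NeZero n := ⟨by omega⟩
  set k0 := (n + 3) / 2 with hk0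
  let ι : GL (Fin n) F →* Matrix.SpecialLinearGroup (Fin n) F :=
    { toFun := fun g => ⟨g, eq01 hF _ ((Matrix.isUnit_iff_isUnit_det _).1 g.isUnit).ne_zero⟩
      map_one' := Subtype.ext rfl
      map_mul' := fun a b => Subtype.ext rfl }
  have hι : Function.Bijective ι := ⟨fun a b h => Units.ext (congrArg Subtype.val h), fun x =>
    ⟨Matrix.SpecialLinearGroup.toGL x, Subtype.ext rfl⟩⟩
  let mk := QuotientGroup.mk' (Subgroup.center (Matrix.SpecialLinearGroup (Fin n) F))
  have hZ : Subgroup.center (Matrix.SpecialLinearGroup (Fin n) F) = ⊥ := by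
    rw [← Subgroup.card_eq_one, Orders.card_center_SL, Nat.card_eq_fintype_card, hF]
    simp
  have hmk : Function.Bijective mk := ⟨(MonoidHom.ker_eq_bot_iff _).1 (by rw [QuotientGroup.ker_mk', hZ]),
    QuotientGroup.mk'_surjective _⟩
  let ψ : GL (Fin n) F ≃* Matrix.ProjectiveSpecialLinearGroup (Fin n) F :=
    MulEquiv.ofBijective (mk.comp ι) (hmk.comp hι)
  set s := Nat.clog 2 n
  obtain ⟨u, hu⟩ := exists_unipotent hF hn
  choose σ hσ using fun i : Fin ((n + 1) / 2) => exists_singer hF (n := n) (e := n - i) (by omega) (by omega)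
  let w : Fin k0 → Matrix.ProjectiveSpecialLinearGroup (Fin n) F := fun i =>
    if h : (i : ℕ) < (n + 1) / 2 then ψ (σ ⟨i, h⟩) else ψ u
  have hw : ∀ f : Fin k → Matrix.ProjectiveSpecialLinearGroup (Fin n) F, orderOf f ∣ orderOf w := by
    intro f
    have hcomp : ∀ i, orderOf (w i) ∣ orderOf w := fun i =>
      orderOf_map_dvd (Pi.evalMonoidHom (fun _ : Fin k0 => Matrix.ProjectiveSpecialLinearGroup (Fin n) F) i) w
    have h2 : 2 ^ s ∣ orderOf w := by
      have h := hcomp ⟨(n + 1) / 2, by omega⟩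
      rwa [show w ⟨(n + 1) / 2, by omega⟩ = ψ u from dif_neg (lt_irrefl _),
        MulEquiv.orderOf_eq, hu] at h
    have hd : ∀ j d, 1 ≤ d → d ≤ n → n - d ≤ j → 2 ^ d - 1 ∣ orderOf w := by
      intro j
      induction j using Nat.strong_induction_on with
      | _ j ih =>
        intro d h1 hdn hj
        rcases Nat.lt_or_ge (n - d) ((n + 1) / 2) with h | h
        · have h' := hcomp ⟨n - d, by omega⟩
          rwa [show w ⟨n - d, by omega⟩ = ψ (σ ⟨n - d, h⟩) from dif_pos h, MulEquiv.orderOf_eq, hσ,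
            show n - (n - d) = d by omega] at h'
        · refine dvd_trans ?_ (ih (n - 2 * d) (by omega) (2 * d) (by omega) (by omega) le_rfl)
          simpa [pow_mul'] using Nat.sub_dvd_pow_sub_pow (2 ^ d) 1 2
    have hL : bigL n ∣ orderOf w :=
      Finset.lcm_dvd fun d hd' => hd _ d (Finset.mem_Icc.1 hd').1 (Finset.mem_Icc.1 hd').2 le_rfl
    refine dvd_trans (orderOf_dvd_of_pow_eq_one (funext fun i => ?_))
      ((bigL_odd n s).symm.mul_dvd_of_dvd_of_dvd hL h2)
    obtain ⟨g, hg⟩ := ψ.surjective (f i)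
    rw [Pi.pow_apply, Pi.one_apply, ← hg, ← map_pow, pow_bound hF g s (Nat.le_pow_clog one_lt_two n), map_one]
  apply Set.Subset.antisymm
  · rintro _ ⟨f, rfl⟩
    exact ⟨w ^ (orderOf w / orderOf f), orderOf_pow_orderOf_div (orderOf_pos w).ne' (hw f)⟩
  · rintro _ ⟨g, rfl⟩
    let pad : (Fin k0 → Matrix.ProjectiveSpecialLinearGroup (Fin n) F) →*
        (Fin k → Matrix.ProjectiveSpecialLinearGroup (Fin n) F) :=
      { toFun := fun g i => if h : (i : ℕ) < k0 then g ⟨i, h⟩ else 1
        map_one' := funext fun i => by by_cases h : (i : ℕ) < k0 <;> simp [h]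
        map_mul' := fun a b => funext fun i => by by_cases h : (i : ℕ) < k0 <;> simp [h] }
    refine ⟨pad g, orderOf_injective pad (fun a b h => funext fun i => ?_) g⟩
    simpa [pad] using congrFun h ⟨i, lt_of_lt_of_le i.2 hk⟩

end CfsgLib.Lie.LinSpec
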