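import Cfsg.Agent.Lie.DecompSL

/-!
Groups containing all monomial matrices over a field with at least five elements: a non-monomial
element yields an elementary transvection.
-/

set_option autoImplicit false
set_option linter.unusedSimpArgs false
set_option linter.unusedSectionVars false

namespace CfsgLib.Lie.MonomialGL

open Matrix
open CfsgLib.Lie.FormMaxSL
open CfsgLib.Lie.DecompSL (dil dil_mulVec dil_det)

variable {F : Type*} [Field F] {ι : Type} [Fintype ι] [DecidableEq ι]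

/-- monomial matrices -/
def Mon (g : GL ι F) : Prop := ∀ k, ∃ l, ∀ i, i ≠ l → (g : Matrix ι ι F) i k = 0

/-- the monomial matrix sending the `k`-th axis to the `σ k`-th, scaled by `c k` -/
def monGL (σ : Equiv.Perm ι) (c : ι → Fˣ) : GL ι F where
  val := Matrix.of fun i k => if i = σ k then (c k : F) else 0
  inv := Matrix.of fun k i => if i = σ k then ((c k)⁻¹ : Fˣ).val else 0
  val_inv := by
    ext i j
    rw [Matrix.mul_apply, Finset.sum_eq_single (σ.symm i)]
    · by_cases h : i = j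
      · subst h; simp
      · simp [h, Matrix.one_apply, Ne.symm h]
    · intro k _ hk
      have : i ≠ σ k := fun h => hk (by simp [h])
      simp [this]
    · simp
  inv_val := by
    ext i j
    rw [Matrix.mul_apply, Finset.sum_eq_single (σ i)]
    · by_cases h : i = j
      · subst h; simp
      · simp [h, Matrix.one_apply, Ne.symm h, σ.injective.eq_iff]
    · intro k _ hk
      simp [hk]
    · simp

theorem monGL_apply (σ : Equiv.Perm ι) (c : ι → Fˣ) (i k : ι) :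
    (monGL σ c : Matrix ι ι F) i k = if i = σ k then (c k : F) else 0 := rfl

theorem monGL_mulVec (σ : Equiv.Perm ι) (c : ι → Fˣ) (x : ι → F) (k : ι) :
    ((monGL σ c : Matrix ι ι F) *ᵥ x) (σ k) = c k * x k := by
  rw [Matrix.mulVec, dotProduct, Finset.sum_eq_single k]
  · rw [monGL_apply, if_pos rfl]
  · intro j _ hj
    rw [monGL_apply, if_neg (fun h => hj (σ.injective h).symm), zero_mul]
  · simp

theorem monGL_mulVec' (σ : Equiv.Perm ι) (c : ι → Fˣ) (x : ι → F) (i : ι) :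
    ((monGL σ c : Matrix ι ι F) *ᵥ x) i = c (σ.symm i) * x (σ.symm i) := by
  conv_lhs => rw [← σ.apply_symm_apply i]
  exact monGL_mulVec σ c x _

theorem monGL_single (σ : Equiv.Perm ι) (c : ι → Fˣ) (k : ι) :
    (monGL σ c : Matrix ι ι F) *ᵥ Pi.single k 1 = (c k : F) • Pi.single (σ k) 1 := by
  funext i
  rw [monGL_mulVec']
  by_cases h : i = σ k
  · subst h; simp
  · have : σ.symm i ≠ k := fun hc => h (by simp [← hc])
    simp [h, this]

theorem monGL_inv_mulVec (σ : Equiv.Perm ι) (c : ι → Fˣ) (x : ι → F) (k : ι) :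
    (((monGL σ c)⁻¹ : GL ι F) : Matrix ι ι F).mulVec x k = ((c k)⁻¹ : Fˣ).val * x (σ k) := by
  change ((Matrix.of fun k i => if i = σ k then ((c k)⁻¹ : Fˣ).val else 0) *ᵥ x) k = _
  rw [Matrix.mulVec, dotProduct, Finset.sum_eq_single (σ k)]
  · simp
  · intro j _ hj; simp [hj]
  · simp

theorem monGL_inv_single (σ : Equiv.Perm ι) (c : ι → Fˣ) (k : ι) :
    (((monGL σ c)⁻¹ : GL ι F) : Matrix ι ι F) *ᵥ Pi.single (σ k) 1
      = ((c k)⁻¹ : Fˣ).val • Pi.single k 1 := by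
  funext i
  rw [monGL_inv_mulVec]
  by_cases h : i = k
  · subst h; simp
  · simp [h, σ.injective.eq_iff]

theorem monGL_mon (σ : Equiv.Perm ι) (c : ι → Fˣ) : Mon (monGL σ c) := fun k =>
  ⟨σ k, fun i hi => by rw [monGL_apply, if_neg hi]⟩

theorem monGL_det (σ : Equiv.Perm ι) (c : ι → Fˣ) :
    (monGL σ c : Matrix ι ι F).det = ((Equiv.Perm.sign σ : ℤˣ) : F) * ∏ k, (c k : F) := by
  have e : (monGL σ c : Matrix ι ι F)
      = (Matrix.diagonal fun k => (c k : F)).submatrix σ.symm id := by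
    ext i k
    rw [monGL_apply, Matrix.submatrix_apply, Matrix.diagonal_apply]
    by_cases h : i = σ k
    · subst h; simp
    · rw [if_neg h, if_neg (fun hc => h (by rw [id] at hc; simp [← hc]))]
  rw [e, Matrix.det_permute, Matrix.det_diagonal, Equiv.Perm.sign_symm]

theorem eq_monGL {g : GL ι F} (h : Mon g) : ∃ σ c, g = monGL σ c := by
  choose l hl using h
  have hne : ∀ k, (g : Matrix ι ι F) (l k) k ≠ 0 := by
    intro k hk
    have hcol : (g : Matrix ι ι F) *ᵥ Pi.single k 1 = 0 := by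
      funext i
      rw [Matrix.mulVec_single_one]
      by_cases h : i = l k
      · subst h; exact hk
      · exact hl k i h
    have h2 : (Pi.single k (1 : F) : ι → F) = 0 := by
      rw [← inv_mulVec_mulVec g (Pi.single k 1), hcol, Matrix.mulVec_zero]
    simpa using congrFun h2 k
  have hinj : Function.Injective l := by
    intro j k hjk
    by_contra hne'
    have e : (g : Matrix ι ι F) *ᵥ ((g : Matrix ι ι F) (l k) k • Pi.single j 1)
        = (g : Matrix ι ι F) *ᵥ ((g : Matrix ι ι F) (l j) j • Pi.single k 1) := by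
      funext i
      rw [Matrix.mulVec_smul, Matrix.mulVec_smul, Matrix.mulVec_single_one, Matrix.mulVec_single_one]
      simp only [Pi.smul_apply, smul_eq_mul, Matrix.col_apply]
      by_cases h : i = l j
      · subst h; rw [← hjk]; ring
      · rw [hl j i h, hl k i (hjk ▸ h)]; ring
    have e2 := congrArg (((g⁻¹ : GL ι F) : Matrix ι ι F) *ᵥ ·) e
    simp only [inv_mulVec_mulVec] at e2
    have e3 := congrFun e2 j
    simp [Pi.single_eq_of_ne hne'] at e3
    exact hne k e3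
  refine ⟨Equiv.ofBijective l (Finite.injective_iff_bijective.1 hinj),
    fun k => Units.mk0 _ (hne k), Units.ext (Matrix.ext fun i k => ?_)⟩
  rw [monGL_apply]
  by_cases h : i = l k
  · subst h; simp
  · rw [if_neg (by simpa using h)]; exact hl k i h

theorem mon_inv {g : GL ι F} (h : Mon g) : Mon g⁻¹ := by
  obtain ⟨σ, c, rfl⟩ := eq_monGL h
  intro k
  refine ⟨σ.symm k, fun i hi => ?_⟩
  have h1 := congrFun (monGL_inv_single σ c (σ.symm k)) i
  rw [σ.apply_symm_apply, Matrix.mulVec_single_one, Matrix.col_apply] at h1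
  rw [h1]; simp [hi]

theorem mon_mul {g h : GL ι F} (hg : Mon g) (hh : Mon h) : Mon (g * h) := by
  intro k
  obtain ⟨l, hl⟩ := hh k
  obtain ⟨m, hm⟩ := hg l
  refine ⟨m, fun i hi => ?_⟩
  rw [Units.val_mul, Matrix.mul_apply]
  refine Finset.sum_eq_zero fun j _ => ?_
  by_cases hj : j = l
  · subst hj; rw [hm i hi, zero_mul]
  · rw [hl j hj, mul_zero]

/-- the coefficients of a functional -/
def coe (φ : (ι → F) →ₗ[F] F) (k : ι) : F := φ (Pi.single k 1)

theorem apply_eq_sum (φ : (ι → F) →ₗ[F] F) (x : ι → F) : φ x = ∑ k, x k * coe φ k := by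
  conv_lhs => rw [pi_eq_sum_univ' x]
  simp [coe, map_sum, map_smul]

theorem coe_zero_iff (φ : (ι → F) →ₗ[F] F) : φ = 0 ↔ ∀ k, coe φ k = 0 :=
  ⟨fun h k => by simp [coe, h], fun h => LinearMap.ext fun x => by
    rw [apply_eq_sum]; simp [h]⟩

theorem conj_dil (g : GL ι F) {u : ι → F} {φ : (ι → F) →ₗ[F] F} (h : 1 + φ u ≠ 0) :
    g * dil u φ * g⁻¹ = dil ((g : Matrix ι ι F) *ᵥ u)
      (φ ∘ₗ Matrix.toLin' ((g⁻¹ : GL ι F) : Matrix ι ι F)) := by
  refine gl_ext fun x => ?_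
  rw [Units.val_mul, Units.val_mul, ← Matrix.mulVec_mulVec, ← Matrix.mulVec_mulVec, dil_mulVec h,
    dil_mulVec (by rwa [LinearMap.comp_apply, Matrix.toLin'_apply, inv_mulVec_mulVec]),
    Matrix.mulVec_add, Matrix.mulVec_smul, mulVec_inv_mulVec, LinearMap.comp_apply,
    Matrix.toLin'_apply]

theorem dil_inv_mulVec {u : ι → F} {φ : (ι → F) →ₗ[F] F} (h : 1 + φ u ≠ 0) (x : ι → F) :
    ((dil u φ)⁻¹ : GL ι F).val *ᵥ x = x + (-(1 + φ u)⁻¹ * φ x) • u := by
  have e : (dil u φ : Matrix ι ι F) *ᵥ (x + (-(1 + φ u)⁻¹ * φ x) • u) = x := by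
    rw [dil_mulVec h, map_add, map_smul, smul_eq_mul]
    match_scalars <;> field_simp <;> ring
  calc ((dil u φ)⁻¹ : GL ι F).val *ᵥ x
      = ((dil u φ)⁻¹ : GL ι F).val *ᵥ ((dil u φ : Matrix ι ι F) *ᵥ
          (x + (-(1 + φ u)⁻¹ * φ x) • u)) := by rw [e]
    _ = _ := inv_mulVec_mulVec _ _

theorem exists_avoid [Fintype F] (hq : 5 ≤ Fintype.card F) (a b c d : F) :
    ∃ ρ : F, ρ ≠ a ∧ ρ ≠ b ∧ ρ ≠ c ∧ ρ ≠ d := by
  classical
  by_contra h
  push Not at h
  have hsub : (Finset.univ : Finset F) ⊆ {a, b, c, d} := fun ρ _ => by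
    simp only [Finset.mem_insert, Finset.mem_singleton]
    by_cases h1 : ρ = a
    · exact Or.inl h1
    by_cases h2 : ρ = b
    · exact Or.inr (Or.inl h2)
    by_cases h3 : ρ = c
    · exact Or.inr (Or.inr (Or.inl h3))
    exact Or.inr (Or.inr (Or.inr (h ρ h1 h2 h3)))
  have := Finset.card_le_card hsub
  have h4 : ({a, b, c, d} : Finset F).card ≤ 4 := Finset.card_le_four
  simp at this
  omega

/-- scaling one coordinate -/
def dg (l : ι) (ρ : Fˣ) : GL ι F := monGL 1 (Function.update 1 l ρ)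

theorem dg_mulVec (l : ι) (ρ : Fˣ) (x : ι → F) (i : ι) :
    ((dg l ρ : GL ι F) : Matrix ι ι F).mulVec x i = (if i = l then (ρ : F) else 1) * x i := by
  rw [dg, monGL_mulVec' 1, show (Equiv.symm (1 : Equiv.Perm ι)) i = i from rfl]
  by_cases h : i = l
  · subst h; simp
  · simp [h]

theorem dg_fix (l : ι) (ρ : Fˣ) {x : ι → F} (h : x l = 0) :
    ((dg l ρ : GL ι F) : Matrix ι ι F) *ᵥ x = x := by
  funext i
  rw [dg_mulVec]
  by_cases hi : i = l
  · subst hi; simp [h]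
  · simp [hi]

theorem dg_inv_single (l : ι) (ρ : Fˣ) (i : ι) :
    (((dg l ρ)⁻¹ : GL ι F) : Matrix ι ι F) *ᵥ Pi.single i 1
      = (if i = l then (ρ : F)⁻¹ else 1) • Pi.single i 1 := by
  have := monGL_inv_single (1 : Equiv.Perm ι) (Function.update 1 l ρ) i
  rw [Equiv.Perm.one_apply] at this
  rw [dg, this]
  congr 1
  by_cases h : i = l
  · subst h; simp
  · simp [h]

section Group

variable [Fintype F] (hq : 5 ≤ Fintype.card F) {M : Subgroup (GL ι F)}
  (hM : ∀ σ c, monGL σ c ∈ M)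

/-- there is a transvection with different supports for centre and axis -/
def HasGood (M : Subgroup (GL ι F)) : Prop :=
  ∃ (w : ι → F) (φ : (ι → F) →ₗ[F] F) (l : ι), φ w = 0 ∧ tv w φ ∈ M ∧
    ((w l ≠ 0 ∧ coe φ l = 0 ∧ φ ≠ 0) ∨ (coe φ l ≠ 0 ∧ w l = 0 ∧ w ≠ 0))

/-- pseudo-reflections of eigenvalue `1 + c` in `M` -/
def PR (M : Subgroup (GL ι F)) (c : F) (u : ι → F) (α : (ι → F) →ₗ[F] F) : Prop :=
  α u = c ∧ u ≠ 0 ∧ dil u α ∈ M

/-- the support -/
noncomputable def supp (u : ι → F) : Finset ι :=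
  haveI := Classical.decEq F
  Finset.univ.filter fun k => u k ≠ 0

omit hq hM in
theorem mem_supp {u : ι → F} {k : ι} : k ∈ supp u ↔ u k ≠ 0 := by
  simp [supp]

include hM

theorem elementary_of_good (hq : 5 ≤ Fintype.card F) (h : HasGood M) :
    ∃ i b, i ≠ b ∧ ∃ μ : F, μ ≠ 0 ∧
      tv (Pi.single i 1) (μ • (LinearMap.proj b : (ι → F) →ₗ[F] F)) ∈ M := by
  classical
  obtain ⟨w, φ, l, h0, hm, hcase⟩ := h
  obtain ⟨ρ, hρ0, hρ1, -, -⟩ := exists_avoid hq (0 : F) 1 0 0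
  have hr1 : (ρ - 1 : F) ≠ 0 := sub_ne_zero.2 hρ1
  have hr2 : (ρ⁻¹ - 1 : F) ≠ 0 := sub_ne_zero.2 (fun h => hρ1 (inv_eq_one.1 h))
  -- scaling a coordinate on which the centre or the axis vanishes
  have stepw : ∀ (w : ι → F) (φ : (ι → F) →ₗ[F] F) (l : ι), φ w = 0 → tv w φ ∈ M →
      coe φ l = 0 → tv (((ρ - 1) * w l) • Pi.single l 1) φ ∈ M := by
    intro w φ l h0 hm hl
    have hh := M.mul_mem (M.mul_mem (hM 1 (Function.update 1 l (Units.mk0 ρ hρ0))) hm)
      (M.inv_mem (hM 1 (Function.update 1 l (Units.mk0 ρ hρ0))))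
    change dg l (Units.mk0 ρ hρ0) * tv w φ * (dg l (Units.mk0 ρ hρ0))⁻¹ ∈ M at hh
    rw [conj_tv _ h0] at hh
    have e2 : φ ∘ₗ Matrix.toLin' (((dg l (Units.mk0 ρ hρ0))⁻¹ : GL ι F) : Matrix ι ι F) = φ := by
      refine LinearMap.pi_ext fun i a => ?_
      have ea : (Pi.single i a : ι → F) = a • Pi.single i 1 := by
        rw [← Pi.single_smul, smul_eq_mul, mul_one]
      rw [LinearMap.comp_apply, Matrix.toLin'_apply, ea, Matrix.mulVec_smul, dg_inv_single, map_smul,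
        map_smul, map_smul]
      by_cases hi : i = l
      · subst hi; rw [show φ (Pi.single i 1) = 0 from hl]; simp
      · simp [hi]
    rw [e2] at hh
    have hw' : φ ((dg l (Units.mk0 ρ hρ0) : Matrix ι ι F) *ᵥ w) = 0 := by
      conv_lhs => rw [← e2]
      rw [LinearMap.comp_apply, Matrix.toLin'_apply, inv_mulVec_mulVec, h0]
    have hn := M.inv_mem hm
    rw [tv_inv h0, tv_neg h0] at hn
    have hp := M.mul_mem hn hh
    rw [tv_mul_center (by rw [map_smul, h0, smul_zero]) hw'] at hp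
    convert hp using 2
    funext i
    rw [Pi.add_apply, dg_mulVec]
    by_cases hi : i = l
    · subst hi; simp; ring
    · simp [hi]
  have stepφ : ∀ (w : ι → F) (φ : (ι → F) →ₗ[F] F) (l : ι), φ w = 0 → tv w φ ∈ M →
      w l = 0 → tv w (((ρ⁻¹ - 1) * coe φ l) • (LinearMap.proj l : (ι → F) →ₗ[F] F)) ∈ M := by
    intro w φ l h0 hm hl
    have hh := M.mul_mem (M.mul_mem (hM 1 (Function.update 1 l (Units.mk0 ρ hρ0))) hm)
      (M.inv_mem (hM 1 (Function.update 1 l (Units.mk0 ρ hρ0))))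
    change dg l (Units.mk0 ρ hρ0) * tv w φ * (dg l (Units.mk0 ρ hρ0))⁻¹ ∈ M at hh
    rw [conj_tv _ h0, dg_fix _ _ hl] at hh
    have hw' : (φ ∘ₗ Matrix.toLin' (((dg l (Units.mk0 ρ hρ0))⁻¹ : GL ι F) : Matrix ι ι F)) w = 0 := by
      conv_lhs => rw [← dg_fix l (Units.mk0 ρ hρ0) hl]
      rw [LinearMap.comp_apply, Matrix.toLin'_apply, inv_mulVec_mulVec, h0]
    have hp := M.mul_mem (M.inv_mem hm) hh
    rw [tv_inv h0, tv_mul (by simp [h0]) hw'] at hp
    convert hp using 2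
    refine LinearMap.pi_ext fun i a => ?_
    have ea : (Pi.single i a : ι → F) = a • Pi.single i 1 := by
      rw [← Pi.single_smul, smul_eq_mul, mul_one]
    rw [LinearMap.smul_apply, LinearMap.add_apply, LinearMap.neg_apply, LinearMap.comp_apply,
      Matrix.toLin'_apply, ea, Matrix.mulVec_smul, dg_inv_single, map_smul, map_smul, map_smul,
      map_smul]
    by_cases hi : i = l
    · subst hi; simp [coe]; ring
    · simp [hi, Ne.symm hi]
  rcases hcase with ⟨hwl, hφl, hφ⟩ | ⟨hφl, hwl, hw⟩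
  · have hk : (ρ - 1) * w l ≠ 0 := mul_ne_zero hr1 hwl
    have h1 := stepw w φ l h0 hm hφl
    obtain ⟨b, hb⟩ : ∃ b, coe φ b ≠ 0 := by
      by_contra hc
      push Not at hc
      exact hφ ((coe_zero_iff φ).2 hc)
    have hbl : l ≠ b := fun h => hb (h ▸ hφl)
    have h00 : φ (((ρ - 1) * w l) • Pi.single l 1) = 0 := by
      rw [map_smul]; exact smul_eq_zero_of_right _ hφl
    have h2 := stepφ _ φ b h00 h1 (by simp [Ne.symm hbl])
    rw [tv_smul (by simp [hbl, Ne.symm hbl])] at h2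
    refine ⟨l, b, hbl, _, mul_ne_zero hk (mul_ne_zero hr2 hb), ?_⟩
    rwa [smul_smul] at h2
  · have h1 := stepφ w φ l h0 hm hwl
    obtain ⟨b, hb⟩ : ∃ b, w b ≠ 0 := by
      by_contra hc
      push Not at hc
      exact hw (funext hc)
    have hbl : b ≠ l := fun h => hb (h ▸ hwl)
    have h00 : (((ρ⁻¹ - 1) * coe φ l) • (LinearMap.proj l : (ι → F) →ₗ[F] F)) w = 0 := by simp [hwl]
    have h2 := stepw w _ b h00 h1 (by simp [coe, hbl.symm])
    rw [tv_smul (by simp [hbl, Ne.symm hbl])] at h2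
    refine ⟨b, l, hbl, _, mul_ne_zero (mul_ne_zero hr1 hb) (mul_ne_zero hr2 hφl), ?_⟩
    rwa [smul_smul] at h2

variable (hN : ¬ HasGood M) {c : F}
include hN

theorem inv_diff (hc1 : 1 + c ≠ 0) {u : ι → F} {α α' : (ι → F) →ₗ[F] F} (h : PR M c u α)
    (h' : PR M c u α') : tv u (α' + -α) ∈ M := by
  have hm := M.mul_mem h'.2.2 (M.inv_mem h.2.2)
  convert hm using 1
  refine gl_ext fun x => ?_
  have e : (α' + -α) u = 0 := by simp [h.1, h'.1]
  rw [tv_mulVec e, Units.val_mul, ← Matrix.mulVec_mulVec, dil_inv_mulVec (by rwa [h.1]),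
    dil_mulVec (by rwa [h'.1]), map_add, map_smul, h.1, h'.1, LinearMap.add_apply, LinearMap.neg_apply,
    smul_eq_mul]
  match_scalars <;> field_simp <;> ring

omit hN in
theorem pr_map (hc1 : 1 + c ≠ 0) {u : ι → F} {α : (ι → F) →ₗ[F] F} (h : PR M c u α) {g : GL ι F}
    (hg : g ∈ M) : PR M c ((g : Matrix ι ι F) *ᵥ u)
      (α ∘ₗ Matrix.toLin' ((g⁻¹ : GL ι F) : Matrix ι ι F)) := by
  refine ⟨by rw [LinearMap.comp_apply, Matrix.toLin'_apply, inv_mulVec_mulVec]; exact h.1,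
    fun h0 => h.2.1 (by rw [← inv_mulVec_mulVec g u, h0, Matrix.mulVec_zero]), ?_⟩
  rw [← conj_dil g (by rwa [h.1])]
  exact M.mul_mem (M.mul_mem hg h.2.2) (M.inv_mem hg)

theorem inv1 (hq : 5 ≤ Fintype.card F) (hc1 : 1 + c ≠ 0) {u : ι → F} {α : (ι → F) →ₗ[F] F}
    (h : PR M c u α) {o : ι} (ho : u o = 0) : coe α o = 0 := by
  by_contra hα
  obtain ⟨ρ, hρ0, hρ1, -, -⟩ := exists_avoid hq (0 : F) 1 0 0
  have hp := pr_map hM hc1 h (hM 1 (Function.update 1 o (Units.mk0 ρ hρ0)))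
  change PR M c ((dg o (Units.mk0 ρ hρ0) : Matrix ι ι F) *ᵥ u)
    (α ∘ₗ Matrix.toLin' (((dg o (Units.mk0 ρ hρ0))⁻¹ : GL ι F) : Matrix ι ι F)) at hp
  rw [dg_fix _ _ ho] at hp
  refine hN ⟨u, _, o, ?_, inv_diff hM hN hc1 h hp, Or.inr ⟨?_, ho, h.2.1⟩⟩
  · rw [LinearMap.add_apply, LinearMap.neg_apply, hp.1, h.1, add_neg_cancel]
  · change α (_ *ᵥ Pi.single o 1) + -(α (Pi.single o 1)) ≠ 0
    rw [dg_inv_single, if_pos rfl, map_smul, smul_eq_mul, ← sub_eq_add_neg, Units.val_mk0]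
    intro h0
    have h1 : (ρ⁻¹ - 1) * α (Pi.single o 1) = 0 := by linear_combination h0
    exact hρ1 (inv_eq_one.1 (sub_eq_zero.1 ((mul_eq_zero.1 h1).resolve_right hα)))

theorem inv2 (hc1 : 1 + c ≠ 0) {u : ι → F} {α : (ι → F) →ₗ[F] F}
    (h : PR M c u α) {k l m : ι} (hk : u k ≠ 0) (hl : u l ≠ 0) (hm : u m ≠ 0) (hkl : k ≠ l)
    (hmk : m ≠ k) (hml : m ≠ l) : u k * coe α k = u l * coe α l := by
  by_contra hne
  obtain ⟨d, hd⟩ : ∃ d : ι → Fˣ, d = Function.update (Function.update (1 : ι → Fˣ) k (Units.mk0 _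
      (div_ne_zero hl hk))) l (Units.mk0 _ (div_ne_zero hk hl)) := ⟨_, rfl⟩
  have hp := pr_map hM hc1 h (hM (Equiv.swap k l) d)
  have hfix : (monGL (Equiv.swap k l) d : Matrix ι ι F) *ᵥ u = u := by
    funext i
    rw [monGL_mulVec', Equiv.symm_swap, hd]
    rcases eq_or_ne i k with rfl | hik
    · simp [hkl, hkl.symm]; field_simp
    rcases eq_or_ne i l with rfl | hil
    · simp [hkl, hkl.symm]; field_simp
    simp [Equiv.swap_apply_of_ne_of_ne hik hil, hik, hil]
  rw [hfix] at hp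
  refine hN ⟨u, _, m, ?_, inv_diff hM hN hc1 h hp, Or.inl ⟨hm, ?_, ?_⟩⟩
  · rw [LinearMap.add_apply, LinearMap.neg_apply, hp.1, h.1, add_neg_cancel]
  · change α (_ *ᵥ Pi.single m 1) + -(α (Pi.single m 1)) = 0
    have h1 := monGL_inv_single (Equiv.swap k l) d m
    rw [Equiv.swap_apply_of_ne_of_ne hmk hml] at h1
    rw [h1, hd]
    simp [hmk, hml]
  · intro h0
    have h1 := congrArg (fun φ => coe φ l) h0
    have h2 := monGL_inv_single (Equiv.swap k l) d k
    rw [Equiv.swap_apply_left] at h2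
    change α (_ *ᵥ Pi.single l 1) + -(α (Pi.single l 1)) = 0 at h1
    rw [h2, hd] at h1
    simp [hkl, hkl.symm] at h1
    apply hne
    simp only [coe]
    field_simp at h1
    linear_combination h1

/-- moving one point of the support to a point outside -/
theorem swap_move (hq : 5 ≤ Fintype.card F) (hc1 : 1 + c ≠ 0) (hc2 : c + 2 ≠ 0)
    {u : ι → F} {α : (ι → F) →ₗ[F] F} (h : PR M c u α) {o k l : ι} (ho : u o = 0) (hk : u k ≠ 0)
    (hl : u l ≠ 0) (hkl : k ≠ l) {A : F} (hA : A = c - u k * coe α k) (hA0 : A ≠ 0)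
    (hal : u l * coe α l ≠ 0) :
    u k * coe α k ≠ 0 ∧ A * A = -(1 + c) ∧
      u l * coe α l * (1 + A) * (1 + c - A) = u k * coe α k * (1 + c) := by
  have hok : o ≠ k := fun h => hk (h ▸ ho)
  have hol : o ≠ l := fun h => hl (h ▸ ho)
  have hαo : coe α o = 0 := inv1 hM hN hq hc1 h ho
  obtain ⟨x, hx⟩ : ∃ x, x = dil u α := ⟨_, rfl⟩
  obtain ⟨p, hp⟩ : ∃ p : GL ι F, p = monGL (Equiv.swap k o) 1 := ⟨_, rfl⟩
  have hP := pr_map hM hc1 (pr_map hM hc1 h (hM (Equiv.swap k o) 1)) h.2.2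
  rw [← hp, ← hx] at hP
  obtain ⟨v, hv⟩ : ∃ v, v = (p : Matrix ι ι F) *ᵥ u := ⟨_, rfl⟩
  obtain ⟨β, hβ⟩ : ∃ β, β = α ∘ₗ Matrix.toLin' ((p⁻¹ : GL ι F) : Matrix ι ι F) := ⟨_, rfl⟩
  rw [← hv, ← hβ] at hP
  have hvv : ∀ i, v i = u (Equiv.swap k o i) := by
    intro i; rw [hv, hp, monGL_mulVec', Equiv.symm_swap]; simp
  have hβv : ∀ i, coe β i = coe α (Equiv.swap k o i) := by
    intro i
    have h1 := monGL_inv_single (Equiv.swap k o) (1 : ι → Fˣ) (Equiv.swap k o i)
    rw [Equiv.swap_apply_self] at h1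
    rw [coe, hβ, LinearMap.comp_apply, Matrix.toLin'_apply, hp, h1]
    simp [coe]
  have hsum : c = ∑ i, u i * coe α i := by rw [← apply_eq_sum, h.1]
  have hαv : α v = A := by
    rw [apply_eq_sum, hA, hsum, eq_sub_iff_add_eq]
    rw [← Finset.sum_erase_add (f := fun i => u i * coe α i) _ (Finset.mem_univ k),
      ← Finset.sum_erase_add (f := fun i => v i * coe α i) _ (Finset.mem_univ k), hvv k,
      Equiv.swap_apply_left, ho, zero_mul, add_zero]
    congr 1
    refine Finset.sum_congr rfl fun i hi => ?_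
    rcases eq_or_ne i o with rfl | hio
    · simp [hαo]
    · rw [hvv, Equiv.swap_apply_of_ne_of_ne (Finset.ne_of_mem_erase hi) hio]
  have hβu : β u = A := by
    rw [apply_eq_sum, hA, hsum, eq_sub_iff_add_eq]
    rw [← Finset.sum_erase_add (f := fun i => u i * coe α i) _ (Finset.mem_univ k),
      ← Finset.sum_erase_add (f := fun i => u i * coe β i) _ (Finset.mem_univ k), hβv k,
      Equiv.swap_apply_left, hαo, mul_zero, add_zero]
    congr 1
    refine Finset.sum_congr rfl fun i hi => ?_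
    rcases eq_or_ne i o with rfl | hio
    · simp [ho]
    · rw [hβv, Equiv.swap_apply_of_ne_of_ne (Finset.ne_of_mem_erase hi) hio]
  obtain ⟨u', hu'⟩ : ∃ u', u' = (x : Matrix ι ι F) *ᵥ v := ⟨_, rfl⟩
  obtain ⟨α', hα'⟩ : ∃ α', α' = β ∘ₗ Matrix.toLin' ((x⁻¹ : GL ι F) : Matrix ι ι F) := ⟨_, rfl⟩
  rw [← hu', ← hα'] at hP
  have hu'v : ∀ i, u' i = v i + A * u i := by
    intro i
    rw [hu', hx, dil_mulVec (by rwa [h.1]), hαv]
    simp
  have hα'v : ∀ i, coe α' i * (1 + c) = coe β i * (1 + c) - A * coe α i := by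
    intro i
    rw [coe, hα', LinearMap.comp_apply, Matrix.toLin'_apply, hx, dil_inv_mulVec (by rwa [h.1]),
      h.1, map_add, map_smul, hβu, smul_eq_mul]
    simp only [coe]
    field_simp
    ring
  have ho' : u' o = u k := by rw [hu'v, hvv, Equiv.swap_apply_right, ho]; ring
  have hk' : u' k = A * u k := by rw [hu'v, hvv, Equiv.swap_apply_left, ho]; ring
  have hl' : u' l = u l * (1 + A) := by
    rw [hu'v, hvv, Equiv.swap_apply_of_ne_of_ne hkl.symm hol.symm]; ring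
  have eo : coe α' o * (1 + c) = coe α k * (1 + c) := by
    rw [hα'v, hβv, Equiv.swap_apply_right, hαo]; ring
  have ek : coe α' k * (1 + c) = - A * coe α k := by
    rw [hα'v, hβv, Equiv.swap_apply_left, hαo]; ring
  have el : coe α' l * (1 + c) = coe α l * (1 + c - A) := by
    rw [hα'v, hβv, Equiv.swap_apply_of_ne_of_ne hkl.symm hol.symm]; ring
  by_cases hA1 : 1 + A = 0
  · exfalso
    have h0 := inv1 hM hN hq hc1 hP (o := l) (by rw [hl', hA1, mul_zero])
    rw [h0, zero_mul] at el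
    rcases mul_eq_zero.1 el.symm with h1 | h1
    · exact hal (by rw [h1, mul_zero])
    · exact hc2 (by linear_combination h1 + hA1)
  have no : u' o ≠ 0 := ho' ▸ hk
  have nk : u' k ≠ 0 := hk' ▸ mul_ne_zero hA0 hk
  have nl : u' l ≠ 0 := hl' ▸ mul_ne_zero hl hA1
  have q1 := inv2 hM hN hc1 hP no nk nl hok hol.symm hkl.symm
  have q2 := inv2 hM hN hc1 hP no nl nk hol hok.symm hkl
  have p1 : u k * coe α k * (1 + c) = -(A * A) * (u k * coe α k) := by
    have : u' o * (coe α' o * (1 + c)) = u' k * (coe α' k * (1 + c)) := by linear_combination (1 + c) * q1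
    rw [ho', hk', eo, ek] at this
    linear_combination this
  have p2 : u l * coe α l * (1 + A) * (1 + c - A) = u k * coe α k * (1 + c) := by
    have : u' o * (coe α' o * (1 + c)) = u' l * (coe α' l * (1 + c)) := by linear_combination (1 + c) * q2
    rw [ho', hl', eo, el] at this
    linear_combination -this
  have hak : u k * coe α k ≠ 0 := by
    intro h0
    have hAc : A = c := by rw [hA, h0, sub_zero]
    rw [h0, zero_mul, hAc] at p2
    rcases mul_eq_zero.1 p2 with h1 | h1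
    · exact (mul_ne_zero hal (hAc ▸ hA1)) h1
    · exact one_ne_zero (by linear_combination h1)
  refine ⟨hak, ?_, p2⟩
  have : (u k * coe α k) * (A * A + (1 + c)) = 0 := by linear_combination p1
  exact eq_neg_of_add_eq_zero_left ((mul_eq_zero.1 this).resolve_left hak)

theorem two_supp (hq : 5 ≤ Fintype.card F) (hc0 : c ≠ 0) (hc1 : 1 + c ≠ 0) (hc2 : c + 2 ≠ 0)
    {u : ι → F} {α : (ι → F) →ₗ[F] F} (h : PR M c u α) {o k l : ι} (ho : u o = 0) (hk : u k ≠ 0)
    (hl : u l ≠ 0) (hkl : k ≠ l) (hrest : ∀ i, i ≠ k → i ≠ l → u i = 0) : False := by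
  have hsum : c = u k * coe α k + u l * coe α l := by
    rw [← h.1, apply_eq_sum, ← Finset.sum_pair (f := fun i => u i * coe α i) hkl]
    refine (Finset.sum_subset (Finset.subset_univ _) fun i _ hi => ?_).symm
    simp at hi
    rw [hrest i hi.1 hi.2, zero_mul]
  have key : ∀ k l, k ≠ l → u k ≠ 0 → u l ≠ 0 → c = u k * coe α k + u l * coe α l →
      u l * coe α l ≠ 0 → u k * coe α k ≠ 0 ∧
        (u l * coe α l) * (u l * coe α l) = -(1 + c) := by
    intro k l hkl hk hl hs hal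
    have hA : u l * coe α l = c - u k * coe α k := by rw [hs]; ring
    obtain ⟨h1, h2, -⟩ := swap_move hM hN hq hc1 hc2 h ho hk hl hkl hA hal hal
    exact ⟨h1, h2⟩
  have hsum' : c = u l * coe α l + u k * coe α k := by rw [hsum]; ring
  have hboth : u k * coe α k ≠ 0 ∧ u l * coe α l ≠ 0 := by
    by_cases hal : u l * coe α l = 0
    · have hak : u k * coe α k ≠ 0 := by
        intro h0; exact hc0 (by rw [hsum, h0, hal, add_zero])
      exact absurd hal (key l k hkl.symm hl hk hsum' hak).1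
    · exact ⟨(key k l hkl hk hl hsum hal).1, hal⟩
  obtain ⟨hak, hal⟩ := hboth
  have h1 := (key k l hkl hk hl hsum hal).2
  have h2 := (key l k hkl.symm hl hk hsum' hak).2
  have h3 : (u k * coe α k - u l * coe α l) * (u k * coe α k + u l * coe α l) = 0 := by
    linear_combination h2 - h1
  have h4 : u k * coe α k = u l * coe α l :=
    sub_eq_zero.1 ((mul_eq_zero.1 h3).resolve_right (fun h => hc0 (hsum.trans h)))
  have h5 : (u l * coe α l + 1) * (u l * coe α l + 1) = 0 := by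
    rw [h4] at hsum
    linear_combination h1 + (-1 : F) * hsum
  have h6 : u l * coe α l = -1 := eq_neg_of_add_eq_zero_left (mul_self_eq_zero.1 h5)
  exact hc2 (by rw [hsum, h4, h6]; ring)

/-- scaling a coordinate in the support -/
theorem diag_move (hq : 5 ≤ Fintype.card F) (hc1 : 1 + c ≠ 0) (hc2 : c + 2 ≠ 0) (hc0 : c ≠ 0)
    {u : ι → F} {α : (ι → F) →ₗ[F] F} (h : PR M c u α) {a : F}
    (ha : ∀ i, u i ≠ 0 → u i * coe α i = a) (ha0 : a ≠ 0) {k l m : ι} (hk : u k ≠ 0)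
    (hl : u l ≠ 0) (hm : u m ≠ 0) (hkl : k ≠ l) (hkm : k ≠ m) (hlm : l ≠ m) :
    ∃ u' α', PR M c u' α' ∧ u' k = 0 ∧ (∀ i, i ≠ k → (u' i = 0 ↔ u i = 0)) ∧
      ∃ ρ : F, ρ ≠ 0 ∧ ρ + (c + (ρ - 1) * a) = 0 := by
  obtain ⟨K0, hK0⟩ : ∃ K0, K0 = (1 + c) * (c - a) + a := ⟨_, rfl⟩
  obtain ⟨ρ, hρ0, hρ1, hρA, hρb⟩ :=
    exists_avoid hq 0 1 (1 - (1 + c) / a) (-K0 / (c * (1 + a)))
  have hA1 : 1 + (c + (ρ - 1) * a) ≠ 0 := by
    intro h0
    apply hρA
    field_simp
    linear_combination h0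
  have hbad : ρ * (c * (1 + a)) + K0 ≠ 0 := by
    intro h0
    by_cases hK : 1 + a = 0
    · rw [hK, mul_zero, mul_zero, zero_add, hK0] at h0
      have ha' : a = -1 := eq_neg_of_add_eq_zero_right hK
      rw [ha'] at h0
      exact (mul_ne_zero hc0 hc2) (by linear_combination h0)
    · apply hρb
      rw [eq_div_iff (mul_ne_zero hc0 hK)]
      linear_combination h0
  obtain ⟨x, hx⟩ : ∃ x, x = dil u α := ⟨_, rfl⟩
  obtain ⟨p, hp⟩ : ∃ p : GL ι F, p = dg k (Units.mk0 ρ hρ0) := ⟨_, rfl⟩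
  have hP := pr_map hM hc1 (pr_map hM hc1 h (g := p) (hp ▸ hM _ _)) h.2.2
  rw [← hx] at hP
  obtain ⟨v, hv⟩ : ∃ v, v = (p : Matrix ι ι F) *ᵥ u := ⟨_, rfl⟩
  obtain ⟨β, hβ⟩ : ∃ β, β = α ∘ₗ Matrix.toLin' ((p⁻¹ : GL ι F) : Matrix ι ι F) := ⟨_, rfl⟩
  rw [← hv, ← hβ] at hP
  have hvv : ∀ i, v i = (if i = k then ρ else 1) * u i := by
    intro i; rw [hv, hp, dg_mulVec, Units.val_mk0]
  have hβv : ∀ i, coe β i = (if i = k then ρ⁻¹ else 1) * coe α i := by
    intro i
    rw [coe, hβ, LinearMap.comp_apply, Matrix.toLin'_apply, hp, dg_inv_single, map_smul,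
      smul_eq_mul, Units.val_mk0, coe]
  have hsum : c = ∑ i, u i * coe α i := by rw [← apply_eq_sum, h.1]
  have hαv : α v = c + (ρ - 1) * a := by
    rw [apply_eq_sum, hsum, ← ha k hk]
    rw [← Finset.sum_erase_add (f := fun i => u i * coe α i) _ (Finset.mem_univ k),
      ← Finset.sum_erase_add (f := fun i => v i * coe α i) _ (Finset.mem_univ k), hvv k, if_pos rfl]
    have : ∀ i ∈ Finset.univ.erase k, v i * coe α i = u i * coe α i := fun i hi => by
      rw [hvv, if_neg (Finset.ne_of_mem_erase hi), one_mul]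
    rw [Finset.sum_congr rfl this]
    ring
  have hβu : β u = c + (ρ⁻¹ - 1) * a := by
    rw [apply_eq_sum, hsum, ← ha k hk]
    rw [← Finset.sum_erase_add (f := fun i => u i * coe α i) _ (Finset.mem_univ k),
      ← Finset.sum_erase_add (f := fun i => u i * coe β i) _ (Finset.mem_univ k), hβv k, if_pos rfl]
    have : ∀ i ∈ Finset.univ.erase k, u i * coe β i = u i * coe α i := fun i hi => by
      rw [hβv, if_neg (Finset.ne_of_mem_erase hi), one_mul]
    rw [Finset.sum_congr rfl this]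
    ring
  obtain ⟨A, hA⟩ : ∃ A, A = c + (ρ - 1) * a := ⟨_, rfl⟩
  obtain ⟨B, hB⟩ : ∃ B, B = c + (ρ⁻¹ - 1) * a := ⟨_, rfl⟩
  rw [← hA] at hαv hA1
  rw [← hB] at hβu
  obtain ⟨u', hu'⟩ : ∃ u', u' = (x : Matrix ι ι F) *ᵥ v := ⟨_, rfl⟩
  obtain ⟨α', hα'⟩ : ∃ α', α' = β ∘ₗ Matrix.toLin' ((x⁻¹ : GL ι F) : Matrix ι ι F) := ⟨_, rfl⟩
  rw [← hu', ← hα'] at hP
  have hu'v : ∀ i, u' i = ((if i = k then ρ else 1) + A) * u i := by
    intro i
    rw [hu', hx, dil_mulVec (by rwa [h.1]), hαv]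
    simp only [Pi.add_apply, Pi.smul_apply, smul_eq_mul, hvv]
    ring
  have hα'v : ∀ i, coe α' i * (1 + c) = ((if i = k then ρ⁻¹ else 1) * (1 + c) - B) * coe α i := by
    intro i
    rw [coe, hα', LinearMap.comp_apply, Matrix.toLin'_apply, hx, dil_inv_mulVec (by rwa [h.1]),
      h.1, map_add, map_smul, hβu, smul_eq_mul,
      show β (Pi.single i 1) = (if i = k then ρ⁻¹ else 1) * coe α i from hβv i,
      show α (Pi.single i 1) = coe α i from rfl]
    field_simp
    ring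
  by_cases hρA0 : ρ + A = 0
  · refine ⟨u', α', hP, ?_, fun i hi => ?_, ρ, hρ0, hA ▸ hρA0⟩
    · rw [hu'v, if_pos rfl, hρA0, zero_mul]
    · rw [hu'v, if_neg hi, mul_eq_zero]
      exact ⟨fun h => h.resolve_left hA1, Or.inr⟩
  exfalso
  have nk : u' k ≠ 0 := by rw [hu'v, if_pos rfl]; exact mul_ne_zero hρA0 hk
  have nl : u' l ≠ 0 := by rw [hu'v, if_neg hkl.symm]; exact mul_ne_zero hA1 hl
  have nm : u' m ≠ 0 := by rw [hu'v, if_neg hkm.symm]; exact mul_ne_zero hA1 hm
  have q := inv2 hM hN hc1 hP nk nl nm hkl hkm.symm hlm.symm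
  have e1 : u' k * (coe α' k * (1 + c)) = u' l * (coe α' l * (1 + c)) := by linear_combination (1 + c) * q
  rw [hu'v, hu'v, hα'v, hα'v, if_pos rfl, if_pos rfl, if_neg hkl.symm, if_neg hkl.symm] at e1
  have e2 : (ρ + A) * (ρ⁻¹ * (1 + c) - B) * a = (1 + A) * (1 + c - B) * a := by
    calc (ρ + A) * (ρ⁻¹ * (1 + c) - B) * a
        = (ρ + A) * u k * ((ρ⁻¹ * (1 + c) - B) * coe α k) := by rw [← ha k hk]; ring
      _ = (1 + A) * u l * ((1 * (1 + c) - B) * coe α l) := e1
      _ = (1 + A) * (1 + c - B) * a := by rw [← ha l hl]; ring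
  have e3 := mul_right_cancel₀ ha0 e2
  rw [hA, hB] at e3
  field_simp at e3
  have e4 : (ρ - 1) * (ρ * (c * (1 + a)) + K0) = 0 := by
    rw [hK0]; linear_combination -e3
  exact (mul_ne_zero (sub_ne_zero.2 hρ1) hbad) e4

omit hN in
theorem products (hq : 5 ≤ Fintype.card F) (hN : ¬ HasGood M) (hc0 : c ≠ 0) (hc1 : 1 + c ≠ 0) {u : ι → F}
    {α : (ι → F) →ₗ[F] F} (h : PR M c u α) (hs : 2 < (supp u).card) :
    ∃ a, a ≠ 0 ∧ ∀ i, u i ≠ 0 → u i * coe α i = a := by
  obtain ⟨k, hk⟩ := Finset.card_pos.1 (by omega : 0 < (supp u).card)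
  have hall : ∀ i, u i ≠ 0 → u i * coe α i = u k * coe α k := by
    intro i hi
    rcases eq_or_ne i k with rfl | hik
    · rfl
    obtain ⟨m, hm, hmk, hmi⟩ : ∃ m ∈ supp u, m ≠ k ∧ m ≠ i := by
      by_contra hc
      push Not at hc
      have : supp u ⊆ {k, i} := fun m hm => by
        by_cases h1 : m = k
        · simp [h1]
        · simp [hc m hm h1]
      have := (Finset.card_le_card this).trans Finset.card_le_two
      omega
    exact inv2 hM hN hc1 h hi (mem_supp.1 hk) (mem_supp.1 hm) hik hmi hmk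
  refine ⟨_, fun h0 => hc0 ?_, hall⟩
  rw [← h.1, apply_eq_sum]
  refine Finset.sum_eq_zero fun i _ => ?_
  by_cases hi : u i = 0
  · rw [hi, zero_mul]
  · rw [hall i hi, h0]

theorem lt_case (hq : 5 ≤ Fintype.card F) (hc0 : c ≠ 0) (hc1 : 1 + c ≠ 0) (hc2 : c + 2 ≠ 0)
    {u : ι → F} {α : (ι → F) →ₗ[F] F} (h : PR M c u α) (hs : 2 < (supp u).card) {o : ι}
    (ho : u o = 0) : False := by
  obtain ⟨a, ha0, ha⟩ := products hM hq hN hc0 hc1 h hs
  obtain ⟨k, l, m, hk, hl, hm, hkl, hkm, hlm⟩ := Finset.two_lt_card_iff.1 hs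
  rw [mem_supp] at hk hl hm
  by_cases hca : c = a
  · obtain ⟨u', α', -, -, -, ρ, hρ, hρe⟩ :=
      diag_move hM hN hq hc1 hc2 hc0 h ha ha0 hk hl hm hkl hkm hlm
    rw [← hca] at hρe
    exact (mul_ne_zero hρ hc1) (by linear_combination hρe)
  · obtain ⟨-, -, p⟩ := swap_move hM hN hq hc1 hc2 h ho hk hl hkl (A := c - a) (by rw [ha k hk])
      (sub_ne_zero.2 hca) (by rwa [ha l hl])
    rw [ha k hk, ha l hl] at p
    have : a * a * (c - a) = 0 := by linear_combination p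
    exact (mul_ne_zero (mul_ne_zero ha0 ha0) (sub_ne_zero.2 hca)) this

omit hN in
theorem exists_elementary (hq : 5 ≤ Fintype.card F) (hn : 4 ≤ Fintype.card ι) {g : GL ι F}
    (hgM : g ∈ M) (hg : ¬ Mon g) :
    ∃ i b, i ≠ b ∧ ∃ μ : F, μ ≠ 0 ∧
      tv (Pi.single i 1) (μ • (LinearMap.proj b : (ι → F) →ₗ[F] F)) ∈ M := by
  classical
  by_contra hcon
  have hN : ¬ HasGood M := fun hG => hcon (elementary_of_good hM hq hG)
  simp only [Mon, not_forall] at hg
  obtain ⟨b, hb⟩ := hg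
  push Not at hb
  obtain ⟨lam, hl0, hl1, hl2, -⟩ := exists_avoid hq (0 : F) 1 (-1) 0
  have hc0 : lam - 1 ≠ 0 := sub_ne_zero.2 hl1
  have hc1 : 1 + (lam - 1) ≠ 0 := by simpa using hl0
  have hc2 : lam - 1 + 2 ≠ 0 := fun h => hl2 (by linear_combination h)
  have h0 : PR M (lam - 1) (Pi.single b 1)
      ((lam - 1) • (LinearMap.proj b : (ι → F) →ₗ[F] F)) := by
    refine ⟨by simp, fun h => by simpa using congrFun h b, ?_⟩
    convert hM 1 (Function.update 1 b (Units.mk0 lam hl0)) using 1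
    refine gl_ext fun x => funext fun i => ?_
    change _ = (dg b (Units.mk0 lam hl0) : Matrix ι ι F).mulVec x i
    rw [dil_mulVec (by simpa using hl0), dg_mulVec]
    by_cases hi : i = b
    · subst hi; simp; ring
    · simp [hi]
  have h := pr_map hM hc1 h0 hgM
  obtain ⟨u, hu⟩ : ∃ u, u = (g : Matrix ι ι F) *ᵥ Pi.single b 1 := ⟨_, rfl⟩
  rw [← hu] at h
  obtain ⟨k, hk⟩ : ∃ k, u k ≠ 0 := by
    by_contra hc
    push Not at hc
    exact h.2.1 (funext hc)
  obtain ⟨l, hlk, hl⟩ : ∃ l, l ≠ k ∧ u l ≠ 0 := by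
    obtain ⟨l, h1, h2⟩ := hb k
    exact ⟨l, h1, by rw [hu, Matrix.mulVec_single_one, Matrix.col_apply]; exact h2⟩
  by_cases hs : 2 < (supp u).card
  · by_cases hfull : ∀ i, u i ≠ 0
    · -- full support
      obtain ⟨a, ha0, ha⟩ := products hM hq hN hc0 hc1 h hs
      obtain ⟨k', l', m', hk', hl', hm', hkl, hkm, hlm⟩ := Finset.two_lt_card_iff.1 hs
      rw [mem_supp] at hk' hl' hm'
      obtain ⟨u', α', hP, hzero, hiff, -⟩ :=
        diag_move hM hN hq hc1 hc2 hc0 h ha ha0 hk' hl' hm' hkl hkm hlm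
      refine lt_case hM hN hq hc0 hc1 hc2 hP ?_ hzero
      have : Finset.univ.erase k' ⊆ supp u' := fun i hi => by
        rw [mem_supp, ne_eq, hiff i (Finset.ne_of_mem_erase hi)]
        exact hfull i
      have := Finset.card_le_card this
      rw [Finset.card_erase_of_mem (Finset.mem_univ _), Finset.card_univ] at this
      omega
    · push Not at hfull
      obtain ⟨o, ho⟩ := hfull
      exact lt_case hM hN hq hc0 hc1 hc2 h hs ho
  · have hrest : ∀ i, i ≠ k → i ≠ l → u i = 0 := by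
      intro i hik hil
      by_contra hi
      apply hs
      refine Finset.two_lt_card_iff.2 ⟨k, l, i, mem_supp.2 hk, mem_supp.2 hl, mem_supp.2 hi,
        hlk.symm, hik.symm, hil.symm⟩
    obtain ⟨o, hok, hol⟩ : ∃ o, o ≠ k ∧ o ≠ l := by
      by_contra hc
      push Not at hc
      have : (Finset.univ : Finset ι) ⊆ {k, l} := fun o _ => by
        by_cases h : o = k
        · simp [h]
        · simp [hc o h]
      have := (Finset.card_le_card this).trans Finset.card_le_two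
      simp at this
      omega
    exact two_supp hM hN hq hc0 hc1 hc2 h (hrest o hok hol) hk hl hlk.symm hrest

end Group

end CfsgLib.Lie.MonomialGL
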