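import Cfsg.Agent.Lie.MonomialGL
import Mathlib.GroupTheory.SpecificGroups.Alternating.Simple

/-!
The monomial matrices of determinant one form a maximal subgroup of the special linear group over a
field with at least five elements.
-/

set_option autoImplicit false
set_option linter.unusedSimpArgs false
set_option linter.unusedSectionVars false

namespace CfsgLib.Lie.MonomialSL

open Matrix
open CfsgLib.Lie.FormMaxSL
open CfsgLib.Lie.MonomialGL

variable {F : Type*} [Field F] {ι : Type} [Fintype ι] [DecidableEq ι]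

/-- the `j`-th column -/
def cl (g : GL ι F) (j : ι) : ι → F := (g : Matrix ι ι F) *ᵥ Pi.single j 1

theorem cl_apply (g : GL ι F) (i j : ι) : cl g j i = (g : Matrix ι ι F) i j := by
  rw [cl, Matrix.mulVec_single_one, Matrix.col_apply]

theorem cl_ne_zero (g : GL ι F) (j : ι) : cl g j ≠ 0 := fun h => by
  have := congrArg (((g⁻¹ : GL ι F) : Matrix ι ι F) *ᵥ ·) h
  simp only [cl, inv_mulVec_mulVec, Matrix.mulVec_zero] at this
  simpa using congrFun this j

theorem row_nonzero (g : GL ι F) (o : ι) : ∃ j, cl g j o ≠ 0 := by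
  by_contra h
  push Not at h
  have h1 := congrFun (mulVec_inv_mulVec g (Pi.single o 1)) o
  rw [Matrix.mulVec, dotProduct, Finset.sum_eq_zero (fun j _ => by
    rw [← cl_apply, h j, zero_mul])] at h1
  simp at h1

theorem monGL_mul (σ τ : Equiv.Perm ι) (c d : ι → Fˣ) :
    monGL σ c * monGL τ d = monGL (σ * τ) (fun k => c (τ k) * d k) := by
  refine gl_ext fun x => funext fun i => ?_
  obtain ⟨k, rfl⟩ : ∃ k, (σ * τ) k = i := ⟨(σ * τ).symm i, Equiv.apply_symm_apply _ _⟩
  rw [Units.val_mul, ← Matrix.mulVec_mulVec, monGL_mulVec, Equiv.Perm.mul_apply, monGL_mulVec,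
    monGL_mulVec, Units.val_mul]
  ring

theorem monGL_perm_eq {σ τ : Equiv.Perm ι} {c d : ι → Fˣ} (h : monGL σ c = monGL τ d) : σ = τ := by
  ext k
  have h1 := congrArg (fun g : GL ι F => (g : Matrix ι ι F) (σ k) k) h
  simp only [monGL_apply, if_pos rfl] at h1
  by_contra hne
  rw [if_neg hne] at h1
  exact (c k).ne_zero h1

theorem monGL_one_comm (c d : ι → Fˣ) :
    monGL (1 : Equiv.Perm ι) c * monGL 1 d = monGL 1 d * monGL 1 c := by
  rw [monGL_mul, monGL_mul]
  congr 1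
  funext k
  simp [mul_comm]

theorem prod_update_one (a : ι) (x : Fˣ) : ∏ k, (Function.update (1 : ι → Fˣ) a x k : F) = x := by
  rw [Finset.prod_eq_single a]
  · simp
  · intro k _ hk; simp [hk]
  · simp

theorem monGL_mem {M : Subgroup (GL ι F)}
    (hM : ∀ σ c, (monGL σ c : Matrix ι ι F).det = 1 → monGL σ c ∈ M)
    (σ : Equiv.Perm ι) (c : ι → Fˣ)
    (h : ((Equiv.Perm.sign σ : ℤˣ) : F) * ∏ k, (c k : F) = 1) : monGL σ c ∈ M :=
  hM σ c (by rw [monGL_det, h])

theorem sign_ne (σ : Equiv.Perm ι) : (((Equiv.Perm.sign σ : ℤˣ) : ℤ) : F) ≠ 0 := by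
  rcases Int.units_eq_one_or (Equiv.Perm.sign σ) with h | h <;> simp [h]

theorem exists_extra {n : ℕ} (s : Finset ι) (h : s.card ≤ n) (hn : n < Fintype.card ι) :
    ∃ x, x ∉ s := by
  by_contra hc
  push Not at hc
  have := Finset.card_le_card (fun x _ => hc x : (Finset.univ : Finset ι) ⊆ s)
  simp at this
  omega

section Group

variable [Fintype F] (hq : 5 ≤ Fintype.card F) (hn : 5 ≤ Fintype.card ι) {M : Subgroup (GL ι F)}
  (hM : ∀ σ c, (monGL σ c : Matrix ι ι F).det = 1 → monGL σ c ∈ M)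

/-- a non-monomial element with an axis as a column -/
def HasZ (M : Subgroup (GL ι F)) : Prop :=
  ∃ z ∈ M, ¬ Mon z ∧ ∃ a, ∀ i, i ≠ a → (z : Matrix ι ι F) i a = 0

include hq hn hM

theorem hasZ_of_axis {g : GL ι F} (hg : g ∈ M) (hgm : ¬ Mon g) {a l : ι}
    (h : ∀ i, i ≠ l → cl g a i = 0) : HasZ M := by
  obtain ⟨s, hs⟩ : ∃ s : Fˣ, (s : F) = (((Equiv.Perm.sign (Equiv.swap a l) : ℤˣ) : ℤ) : F) :=
    ⟨Units.mk0 _ (sign_ne _), rfl⟩
  have hp : monGL (Equiv.swap a l) (Function.update 1 a s) ∈ M := monGL_mem hM _ _ (by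
    rw [prod_update_one, hs, ← Int.cast_mul, ← Units.val_mul, Int.units_mul_self]; simp)
  refine ⟨monGL (Equiv.swap a l) (Function.update 1 a s) * g, M.mul_mem hp hg,
    fun hm => hgm ?_, a, fun i hi => ?_⟩
  · have := mon_mul (mon_inv (monGL_mon (Equiv.swap a l) (Function.update (1 : ι → Fˣ) a s))) hm
    rwa [inv_mul_cancel_left] at this
  · rw [← cl_apply, cl, Units.val_mul, ← Matrix.mulVec_mulVec, monGL_mulVec', Equiv.symm_swap]
    refine mul_eq_zero_of_right _ (h _ ?_)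
    intro hc
    apply hi
    rw [← Equiv.swap_apply_self a l i, hc, Equiv.swap_apply_right]

theorem stab_mon (hZ : ¬ HasZ M) {g h : GL ι F} (hg : g ∈ M) (hh : h ∈ M) {a : ι}
    (hfix : (h : Matrix ι ι F) *ᵥ cl g a = cl g a) :
    ∃ (τ : Equiv.Perm ι) (c : ι → Fˣ), g⁻¹ * h * g = monGL τ c ∧ τ a = a ∧
      ∀ j, (h : Matrix ι ι F) *ᵥ cl g j = (c j : F) • cl g (τ j) := by
  have hy : g⁻¹ * h * g ∈ M := M.mul_mem (M.mul_mem (M.inv_mem hg) hh) hg
  have hya : ((g⁻¹ * h * g : GL ι F) : Matrix ι ι F) *ᵥ Pi.single a 1 = Pi.single a 1 := by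
    rw [Units.val_mul, Units.val_mul, ← Matrix.mulVec_mulVec, ← Matrix.mulVec_mulVec]
    rw [cl] at hfix
    rw [hfix, inv_mulVec_mulVec]
  by_cases hm : Mon (g⁻¹ * h * g)
  · obtain ⟨τ, c, hτ⟩ := eq_monGL hm
    refine ⟨τ, c, hτ, ?_, fun j => ?_⟩
    · by_contra hne
      rw [hτ, monGL_single] at hya
      have h1 := congrFun hya (τ a)
      simp [hne] at h1
    · have h1 := congrArg (fun y : GL ι F => ((g * y : GL ι F) : Matrix ι ι F) *ᵥ Pi.single j 1) hτ
      rw [show g * (g⁻¹ * h * g) = h * g by group] at h1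
      simp only [Units.val_mul, ← Matrix.mulVec_mulVec, monGL_single, Matrix.mulVec_smul] at h1
      exact h1
  · exact absurd ⟨_, hy, hm, a, fun i hi => by
      rw [← cl_apply, cl, hya, Pi.single_eq_of_ne hi]⟩ hZ

theorem no_full (hZ : ¬ HasZ M) {g : GL ι F} (hg : g ∈ M) {a : ι} (hu : ∀ i, cl g a i ≠ 0) :
    False := by
  classical
  obtain ⟨u, hudef⟩ : ∃ u, u = cl g a := ⟨_, rfl⟩
  rw [← hudef] at hu
  -- the twisted permutations
  obtain ⟨H, hH⟩ : ∃ H : Equiv.Perm ι → GL ι F,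
      H = fun σ => monGL σ (fun k => Units.mk0 _ (div_ne_zero (hu (σ k)) (hu k))) := ⟨_, rfl⟩
  have hHM : ∀ σ : alternatingGroup ι, H σ ∈ M := by
    intro σ
    rw [hH]
    refine monGL_mem hM _ _ ?_
    rw [Equiv.Perm.mem_alternatingGroup.1 σ.2]
    simp only [Units.val_mk0, Finset.prod_div_distrib, Units.val_one, Int.cast_one, one_mul]
    rw [Equiv.prod_comp (σ : Equiv.Perm ι) u,
      div_self (Finset.prod_ne_zero_iff.2 fun k _ => hu k)]
  have hHfix : ∀ σ, (H σ : Matrix ι ι F) *ᵥ cl g a = cl g a := by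
    intro σ
    rw [hH, ← hudef]
    funext i
    rw [monGL_mulVec']
    simp only [Units.val_mk0, Equiv.apply_symm_apply]
    rw [div_mul_cancel₀ _ (hu _)]
  have hHmul : ∀ σ τ, H σ * H τ = H (σ * τ) := by
    intro σ τ
    rw [hH]
    simp only [monGL_mul]
    congr 1
    funext k
    refine Units.ext ?_
    simp only [Units.val_mul, Units.val_mk0, Equiv.Perm.mul_apply]
    rw [div_mul_div_cancel₀ (hu (τ k))]
  choose T C hTC hTa _ using fun σ : alternatingGroup ι =>
    stab_mon hq hn hM hZ hg (hHM σ) (hHfix σ)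
  have hTmul : ∀ σ τ : alternatingGroup ι, T (σ * τ) = T σ * T τ := by
    intro σ τ
    refine monGL_perm_eq (c := C (σ * τ)) (d := fun k => C σ (T τ k) * C τ k) ?_
    rw [← monGL_mul, ← hTC, ← hTC, ← hTC, Subgroup.coe_mul, ← hHmul]
    group
  let φ : alternatingGroup ι →* Equiv.Perm ι := MonoidHom.mk' T hTmul
  haveI : IsSimpleGroup (alternatingGroup ι) :=
    alternatingGroup.isSimpleGroup (by rwa [Nat.card_eq_fintype_card])
  haveI : Nontrivial ι := Fintype.one_lt_card_iff_nontrivial.1 (by omega)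
  rcases φ.normal_ker.eq_bot_or_eq_top with hk | hk
  · -- too small a target
    have hinj : Function.Injective φ := (MonoidHom.ker_eq_bot_iff φ).1 hk
    have hne : ∀ σ x, T σ x ≠ a ↔ x ≠ a := by
      intro σ x
      conv_lhs => rw [← hTa σ]
      exact (T σ).injective.ne_iff
    let ψ : alternatingGroup ι → Equiv.Perm {x : ι // x ≠ a} := fun σ =>
      (T σ).subtypePerm (hne σ)
    have hψ : Function.Injective ψ := by
      intro σ τ hst
      refine hinj (Equiv.ext fun x => ?_)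
      change T σ x = T τ x
      by_cases hx : x = a
      · rw [hx, hTa, hTa]
      · exact congrArg Subtype.val (DFunLike.congr_fun hst ⟨x, hx⟩)
    have h1 := Fintype.card_le_of_injective ψ hψ
    have h2 : 2 * Fintype.card (alternatingGroup ι) = Fintype.card (Equiv.Perm ι) :=
      two_mul_card_alternatingGroup
    rw [Fintype.card_perm, Fintype.card_subtype_compl, Fintype.card_subtype_eq] at h1
    rw [Fintype.card_perm] at h2
    obtain ⟨n, hn'⟩ : ∃ n, Fintype.card ι = n + 1 := ⟨Fintype.card ι - 1, by omega⟩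
    rw [hn'] at h1 h2 hn
    rw [Nat.add_sub_cancel] at h1
    rw [Nat.factorial_succ] at h2
    have := Nat.factorial_pos n
    nlinarith
  · have hT1 : ∀ σ, T σ = 1 := fun σ => MonoidHom.mem_ker.1 (hk ▸ Subgroup.mem_top σ)
    have hcomm : ∀ σ τ : alternatingGroup ι,
        (σ : Equiv.Perm ι) * τ = (τ : Equiv.Perm ι) * σ := by
      intro σ τ
      have h1 : g⁻¹ * H σ * g * (g⁻¹ * H τ * g) = g⁻¹ * H τ * g * (g⁻¹ * H σ * g) := by
        rw [hTC, hTC, hT1, hT1, monGL_one_comm]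
      have h2 : H ((σ : Equiv.Perm ι) * τ) = H ((τ : Equiv.Perm ι) * σ) := by
        rw [← hHmul, ← hHmul]
        have := congrArg (fun y => g * y * g⁻¹) h1
        simpa [mul_assoc] using this
      rw [hH] at h2
      exact monGL_perm_eq h2
    obtain ⟨e⟩ : Nonempty (Fin 4 ↪ ι) :=
      Function.Embedding.nonempty_of_card_le (by simp; omega)
    have hne : ∀ i j, i ≠ j → e i ≠ e j := fun i j h hc => h (e.injective hc)
    have hs : ∀ i j k : Fin 4, i ≠ j → j ≠ k →
        Equiv.swap (e i) (e j) * Equiv.swap (e j) (e k) ∈ alternatingGroup ι := by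
      intro i j k hij hjk
      rw [Equiv.Perm.mem_alternatingGroup, map_mul, Equiv.Perm.sign_swap (hne i j hij),
        Equiv.Perm.sign_swap (hne j k hjk)]
      rfl
    have h1 := congrArg (fun p : Equiv.Perm ι => p (e 0))
      (hcomm ⟨_, hs 0 1 2 (by decide) (by decide)⟩ ⟨_, hs 0 1 3 (by decide) (by decide)⟩)
    simp only [Equiv.Perm.mul_apply] at h1
    simp [Equiv.swap_apply_def, hne] at h1

theorem two_out (hZ : ¬ HasZ M) {g : GL ι F} (hg : g ∈ M) {a o p j : ι} (hop : o ≠ p)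
    (ho : cl g a o = 0) (hp : cl g a p = 0) (hj : cl g j o ≠ 0) :
    ∀ x, x ≠ o → x ≠ p → cl g j x = 0 := by
  intro x hxo hxp
  by_contra hx
  obtain ⟨l2, h20, h21, -, -⟩ := exists_avoid hq (0 : F) 1 1 1
  obtain ⟨l3, h30, h31, h32, -⟩ := exists_avoid hq (0 : F) 1 l2 l2
  obtain ⟨l4, h40, h41, h42, h43⟩ := exists_avoid hq (0 : F) 1 l2 l3
  obtain ⟨v, hv⟩ : ∃ v, v = cl g j := ⟨_, rfl⟩
  rw [← hv] at hj hx
  obtain ⟨A, hA⟩ : ∃ A, A = ((g⁻¹ : GL ι F) : Matrix ι ι F) *ᵥ (v o • Pi.single o 1) := ⟨_, rfl⟩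
  obtain ⟨B, hB⟩ : ∃ B, B = ((g⁻¹ : GL ι F) : Matrix ι ι F) *ᵥ (v p • Pi.single p 1) := ⟨_, rfl⟩
  obtain ⟨C, hC⟩ : ∃ C, C = ((g⁻¹ : GL ι F) : Matrix ι ι F) *ᵥ
      (v - v o • Pi.single o 1 - v p • Pi.single p 1) := ⟨_, rfl⟩
  have key : ∀ lam : F, lam ≠ 0 → ∃ (k : ι) (μ : F), μ ≠ 0 ∧
      (∀ i, lam * A i + lam⁻¹ * B i + C i = μ * (Pi.single k (1 : F) : ι → F) i) ∧
      lam * v o = μ * cl g k o ∧ v x = μ * cl g k x := by
    intro lam hlam
    obtain ⟨d, hd⟩ : ∃ d : ι → Fˣ, d = Function.update (Function.update (1 : ι → Fˣ) o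
        (Units.mk0 lam hlam)) p (Units.mk0 lam hlam)⁻¹ := ⟨_, rfl⟩
    have hdM : monGL 1 d ∈ M := monGL_mem hM _ _ (by
      simp only [map_one, Units.val_one, Int.cast_one, one_mul]
      rw [← Finset.mul_prod_erase _ _ (Finset.mem_univ p),
        ← Finset.mul_prod_erase _ _ (Finset.mem_erase.2 ⟨hop, Finset.mem_univ o⟩),
        Finset.prod_eq_one (fun i hi => by
          obtain ⟨h1, h2⟩ := Finset.mem_erase.1 hi
          rw [hd]; simp [h1, (Finset.mem_erase.1 h2).1])]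
      rw [hd]; simp [hop, hlam])
    have hdv : ∀ w i, ((monGL 1 d : GL ι F) : Matrix ι ι F).mulVec w i = (d i : F) * w i := by
      intro w i; rw [monGL_mulVec' 1]; rfl
    have hfix : (monGL 1 d : Matrix ι ι F) *ᵥ cl g a = cl g a := by
      funext i
      rw [hdv]
      by_cases h1 : i = p
      · subst h1; rw [hp, mul_zero]
      by_cases h2 : i = o
      · subst h2; rw [ho, mul_zero]
      rw [hd]; simp [h1, h2]
    obtain ⟨τ, c, -, -, hc⟩ := stab_mon hq hn hM hZ hg hdM hfix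
    have h1 := hc j
    rw [← hv] at h1
    have hdec : (monGL 1 d : Matrix ι ι F) *ᵥ v = lam • (v o • Pi.single o 1) +
        lam⁻¹ • (v p • Pi.single p 1) + (v - v o • Pi.single o 1 - v p • Pi.single p 1) := by
      funext i
      rw [hdv, hd]
      by_cases h2 : i = p
      · subst h2; simp [hop, hop.symm]
      by_cases h3 : i = o
      · subst h3; simp [hop, hop.symm]
      simp [h2, h3]
    refine ⟨τ j, c j, Units.ne_zero _, fun i => ?_, ?_, ?_⟩
    · have h2 := congrArg (((g⁻¹ : GL ι F) : Matrix ι ι F) *ᵥ ·) h1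
      simp only [Matrix.mulVec_smul, cl, inv_mulVec_mulVec] at h2
      rw [hdec, Matrix.mulVec_add, Matrix.mulVec_add, Matrix.mulVec_smul _ lam,
        Matrix.mulVec_smul _ lam⁻¹, ← hA, ← hB, ← hC] at h2
      exact congrFun h2 i
    · have h2 := congrFun h1 o
      rw [hdv, hd] at h2
      simpa [hop] using h2
    · have h2 := congrFun h1 x
      rw [hdv, hd] at h2
      simpa [hxo, hxp] using h2
  obtain ⟨k1, m1, n1, e1, o1, x1⟩ := key 1 one_ne_zero
  obtain ⟨k2, m2, n2, e2, o2, x2⟩ := key l2 h20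
  obtain ⟨k3, m3, n3, e3, o3, x3⟩ := key l3 h30
  obtain ⟨k4, m4, n4, e4, o4, x4⟩ := key l4 h40
  have hdist : ∀ {k : ι} {l m l' m' : F}, l * v o = m * cl g k o → v x = m * cl g k x →
      l' * v o = m' * cl g k o → v x = m' * cl g k x → l = l' := by
    intro k l m l' m' a1 b1 a2 b2
    have hw : cl g k x ≠ 0 := fun h => hx (by rw [b1, h, mul_zero])
    have hmm : m = m' := mul_right_cancel₀ hw (b1.symm.trans b2)
    exact mul_right_cancel₀ hj (a1.trans (by rw [hmm, a2]))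
  have d1 : k4 ≠ k1 := by rintro rfl; exact h41 (hdist o4 x4 o1 x1)
  have d2 : k4 ≠ k2 := by rintro rfl; exact h42 (hdist o4 x4 o2 x2)
  have d3 : k4 ≠ k3 := by rintro rfl; exact h43 (hdist o4 x4 o3 x3)
  have q1 := e1 k4
  have q2 := e2 k4
  have q3 := e3 k4
  have q4 := e4 k4
  rw [Pi.single_eq_of_ne d1, mul_zero] at q1
  rw [Pi.single_eq_of_ne d2, mul_zero] at q2
  rw [Pi.single_eq_of_ne d3, mul_zero] at q3
  rw [Pi.single_eq_same, mul_one] at q4
  field_simp at q1 q2 q3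
  have r2 : A k4 * (1 + l2) + C k4 = 0 :=
    (mul_eq_zero.1 (by linear_combination q1 - q2 :
      (1 - l2) * (A k4 * (1 + l2) + C k4) = 0)).resolve_left (sub_ne_zero.2 h21.symm)
  have r3 : A k4 * (1 + l3) + C k4 = 0 :=
    (mul_eq_zero.1 (by linear_combination q1 - q3 :
      (1 - l3) * (A k4 * (1 + l3) + C k4) = 0)).resolve_left (sub_ne_zero.2 h31.symm)
  have hA0 : A k4 = 0 := (mul_eq_zero.1 (by linear_combination r2 - r3 :
      A k4 * (l2 - l3) = 0)).resolve_right (sub_ne_zero.2 h32.symm)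
  have hC0 : C k4 = 0 := by rw [hA0, zero_mul, zero_add] at r2; exact r2
  have hB0 : B k4 = 0 := by rw [hA0, hC0] at q1; linear_combination q1
  rw [hA0, hB0, hC0] at q4
  exact n4 (by linear_combination -q4)

theorem not_three (hZ : ¬ HasZ M) {g : GL ι F} (hg : g ∈ M) (hgm : ¬ Mon g) {a o p s : ι}
    (hop : o ≠ p) (hos : o ≠ s) (hps : p ≠ s) (ho : cl g a o = 0) (hp : cl g a p = 0)
    (hs : cl g a s = 0) : False := by
  obtain ⟨j, hj⟩ := row_nonzero g o
  refine hZ (hasZ_of_axis hq hn hM hg hgm (a := j) (l := o) fun i hi => ?_)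
  by_cases hip : i = p
  · exact two_out hq hn hM hZ hg hos ho hs hj i hi (hip ▸ hps)
  · exact two_out hq hn hM hZ hg hop ho hp hj i hi hip

theorem at_most_one (hZ : ¬ HasZ M) {g : GL ι F} (hg : g ∈ M) (hgm : ¬ Mon g) {a o p : ι}
    (ho : cl g a o = 0) (hp : cl g a p = 0) : o = p := by
  by_contra hop
  obtain ⟨j, hj⟩ := row_nonzero g o
  have h := two_out hq hn hM hZ hg hop ho hp hj
  obtain ⟨x, hx⟩ := exists_extra {o, p} Finset.card_le_two (by omega)
  obtain ⟨y, hy⟩ := exists_extra {o, p, x} Finset.card_le_three (by omega)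
  obtain ⟨z, hz⟩ := exists_extra {o, p, x, y} Finset.card_le_four (by omega)
  simp only [Finset.mem_insert, Finset.mem_singleton, not_or] at hx hy hz
  exact not_three hq hn hM hZ hg hgm (Ne.symm hy.2.2) (Ne.symm hz.2.2.1) (Ne.symm hz.2.2.2)
    (h x hx.1 hx.2) (h y hy.1 hy.2.1) (h z hz.1 hz.2.1)

theorem exists_z {g : GL ι F} (hg : g ∈ M) (hgm : ¬ Mon g) : HasZ M := by
  classical
  by_contra hZ
  have hex : ∀ (g : GL ι F), g ∈ M → ¬ Mon g → ∀ j, ∃ i, cl g j i = 0 := by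
    intro g hg hgm j
    by_contra h
    push Not at h
    exact no_full hq hn hM hZ hg h
  obtain ⟨a⟩ : Nonempty ι := Fintype.card_pos_iff.1 (by omega)
  choose z hz using hex g hg hgm
  have hz' : ∀ j i, i ≠ z j → cl g j i ≠ 0 := fun j i hi h =>
    hi (at_most_one hq hn hM hZ hg hgm h (hz j))
  obtain ⟨o, ho⟩ : ∃ o, o = z a := ⟨_, rfl⟩
  obtain ⟨u, hu⟩ : ∃ u, u = cl g a := ⟨_, rfl⟩
  have huo : u o = 0 := by rw [hu, ho]; exact hz a
  have hune : ∀ i, i ≠ o → u i ≠ 0 := fun i hi => by rw [hu]; exact hz' a i (ho ▸ hi)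
  -- twisted permutations fixing `o`
  obtain ⟨w, hw⟩ : ∃ w : ι → Fˣ, ∀ i, (w i : F) = if i = o then 1 else u i :=
    ⟨fun i => Units.mk0 (if i = o then 1 else u i) (by
      by_cases h : i = o
      · simp [h]
      · rw [if_neg h]; exact hune i h), fun i => rfl⟩
  have twist : ∀ σ : Equiv.Perm ι, Equiv.Perm.sign σ = 1 → σ o = o →
      ∃ (τ : Equiv.Perm ι) (c : ι → Fˣ), ∀ j k, (w (σ k) : F) / w k * cl g j k
        = (c j : F) * cl g (τ j) (σ k) := by
    intro σ hσ hσo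
    have hmem : monGL σ (fun k => w (σ k) * (w k)⁻¹) ∈ M := monGL_mem hM _ _ (by
      simp only [hσ, Units.val_one, Int.cast_one, one_mul, Units.val_mul, Units.val_inv_eq_inv_val]
      rw [Finset.prod_mul_distrib, Equiv.prod_comp σ (fun k => (w k : F)), Finset.prod_inv_distrib,
        mul_inv_cancel₀ (Finset.prod_ne_zero_iff.2 fun k _ => Units.ne_zero _)])
    have hfix : (monGL σ (fun k => w (σ k) * (w k)⁻¹) : Matrix ι ι F) *ᵥ cl g a = cl g a := by
      funext i
      obtain ⟨k, rfl⟩ : ∃ k, σ k = i := ⟨σ.symm i, σ.apply_symm_apply i⟩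
      rw [monGL_mulVec, ← hu, Units.val_mul, Units.val_inv_eq_inv_val, hw, hw]
      by_cases hk : k = o
      · subst hk; rw [hσo, huo, mul_zero]
      · have : σ k ≠ o := fun h => hk (σ.injective (h.trans hσo.symm))
        rw [if_neg this, if_neg hk]
        field_simp [hune k hk]
    obtain ⟨τ, c, -, -, hc⟩ := stab_mon hq hn hM hZ hg hmem hfix
    refine ⟨τ, c, fun j k => ?_⟩
    have h1 := congrFun (hc j) (σ k)
    rw [monGL_mulVec, Units.val_mul, Units.val_inv_eq_inv_val, Pi.smul_apply, smul_eq_mul] at h1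
    rw [div_eq_mul_inv]
    exact h1
  -- the zero positions form a bijection
  have hsurj : Function.Surjective z := by
    intro k
    by_cases hk : k = o
    · exact ⟨a, by rw [hk, ho]⟩
    obtain ⟨j, hj⟩ := row_nonzero g o
    have hzo : z j ≠ o := fun h => hj (h ▸ hz j)
    by_cases hjk : z j = k
    · exact ⟨j, hjk⟩
    obtain ⟨x, hx⟩ := exists_extra {z j, k, o} Finset.card_le_three (by omega)
    simp only [Finset.mem_insert, Finset.mem_singleton, not_or] at hx
    obtain ⟨τ, c, hτ⟩ := twist (Equiv.swap (z j) k * Equiv.swap k x)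
      (by rw [map_mul, Equiv.Perm.sign_swap hjk, Equiv.Perm.sign_swap (Ne.symm hx.2.1)]; rfl)
      (by rw [Equiv.Perm.mul_apply, Equiv.swap_apply_of_ne_of_ne (Ne.symm hk) (Ne.symm hx.2.2),
        Equiv.swap_apply_of_ne_of_ne hzo.symm (Ne.symm hk)])
    have h1 := hτ j (z j)
    rw [Equiv.Perm.mul_apply, Equiv.swap_apply_of_ne_of_ne hjk (Ne.symm hx.1),
      Equiv.swap_apply_left, hz j, mul_zero] at h1
    have h2 : cl g (τ j) k = 0 := (mul_eq_zero.1 h1.symm).resolve_left (Units.ne_zero _)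
    refine ⟨τ j, ?_⟩
    by_contra h
    exact hz' (τ j) k (Ne.symm h) h2
  have hinj : Function.Injective z := Finite.injective_iff_surjective.2 hsurj
  have hzo : ∀ j, j ≠ a → z j ≠ o := fun j hj h => hj (hinj (h.trans ho))
  -- the columns
  have hcol : ∀ j, j ≠ a → ∀ x y, x ≠ o → x ≠ z j → y ≠ o → y ≠ z j → x ≠ y →
      u y * cl g j x = u x * cl g j y := by
    intro j hj x y hxo hxi hyo hyi hxy
    obtain ⟨v, hv⟩ := exists_extra {o, z j, x, y} Finset.card_le_four (by omega)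
    simp only [Finset.mem_insert, Finset.mem_singleton, not_or] at hv
    obtain ⟨σ, hσ⟩ : ∃ σ : Equiv.Perm ι, σ = Equiv.swap x y * Equiv.swap y v := ⟨_, rfl⟩
    have hσo : σ o = o := by
      rw [hσ, Equiv.Perm.mul_apply, Equiv.swap_apply_of_ne_of_ne hyo.symm (Ne.symm hv.1),
        Equiv.swap_apply_of_ne_of_ne hxo.symm hyo.symm]
    have hσi : σ (z j) = z j := by
      rw [hσ, Equiv.Perm.mul_apply, Equiv.swap_apply_of_ne_of_ne hyi.symm (Ne.symm hv.2.1),
        Equiv.swap_apply_of_ne_of_ne hxi.symm hyi.symm]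
    have hσx : σ x = y := by
      rw [hσ, Equiv.Perm.mul_apply, Equiv.swap_apply_of_ne_of_ne hxy (Ne.symm hv.2.2.1),
        Equiv.swap_apply_left]
    obtain ⟨τ, c, hτ⟩ := twist σ (by
      rw [hσ, map_mul, Equiv.Perm.sign_swap hxy, Equiv.Perm.sign_swap (Ne.symm hv.2.2.2)]; rfl) hσo
    have h1 := hτ j (z j)
    rw [hσi, hz j, mul_zero] at h1
    have hτj : τ j = j := hinj (by
      by_contra h
      exact hz' (τ j) (z j) (Ne.symm h) ((mul_eq_zero.1 h1.symm).resolve_left (Units.ne_zero _)))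
    have h2 := hτ j o
    rw [hσo, hτj, div_self (Units.ne_zero _)] at h2
    have hc1 : (c j : F) = 1 :=
      (mul_right_cancel₀ (hz' j o (fun h => hzo j hj h.symm)) h2).symm
    have h3 := hτ j x
    rw [hσx, hτj, hc1, hw, hw, if_neg hxo, if_neg hyo, one_mul] at h3
    field_simp [hune x hxo] at h3
    linear_combination h3
  -- normalise
  have hpick : ∀ j, ∃ x, x ≠ o ∧ x ≠ z j := fun j => by
    obtain ⟨x, hx⟩ := exists_extra {o, z j} Finset.card_le_two (by omega)
    simp only [Finset.mem_insert, Finset.mem_singleton, not_or] at hx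
    exact ⟨x, hx⟩
  choose px hpx1 hpx2 using hpick
  obtain ⟨α, hα⟩ : ∃ α : ι → F, α = fun j => cl g j (px j) / u (px j) := ⟨_, rfl⟩
  have hα0 : ∀ j, j ≠ a → α j ≠ 0 := fun j hj => by
    rw [hα]; exact div_ne_zero (hz' j _ (hpx2 j)) (hune _ (hpx1 j))
  have hαu : ∀ j, j ≠ a → ∀ y, y ≠ o → y ≠ z j → cl g j y = α j * u y := by
    intro j hj y hyo hyi
    rw [hα]
    have h0 := hune _ (hpx1 j)
    by_cases hxy : px j = y
    · subst hxy; field_simp
    · have h1 := hcol j hj (px j) y (hpx1 j) (hpx2 j) hyo hyi hxy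
      field_simp
      linear_combination -h1
  obtain ⟨j0, hj0⟩ := exists_extra {a} (le_of_eq (Finset.card_singleton a)) (by omega)
  rw [Finset.mem_singleton] at hj0
  obtain ⟨γ, hγ⟩ : ∃ γ : F, γ = cl g j0 o / α j0 := ⟨_, rfl⟩
  have hγ0 : γ ≠ 0 := by
    rw [hγ]; exact div_ne_zero (hz' j0 o (fun h => hzo j0 hj0 h.symm)) (hα0 j0 hj0)
  have hαo : ∀ j, j ≠ a → cl g j o = α j * γ := by
    intro j hj
    by_cases hjj : j = j0
    · subst hjj; rw [hγ, mul_div_cancel₀ _ (hα0 j hj)]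
    have hik : z j0 ≠ z j := fun h => hjj (hinj h).symm
    obtain ⟨x, hx⟩ := exists_extra {z j0, z j, o} Finset.card_le_three (by omega)
    simp only [Finset.mem_insert, Finset.mem_singleton, not_or] at hx
    obtain ⟨σ, hσ⟩ : ∃ σ : Equiv.Perm ι, σ = Equiv.swap (z j0) (z j) * Equiv.swap (z j) x :=
      ⟨_, rfl⟩
    have hσo : σ o = o := by
      rw [hσ, Equiv.Perm.mul_apply, Equiv.swap_apply_of_ne_of_ne (hzo j hj).symm (Ne.symm hx.2.2),
        Equiv.swap_apply_of_ne_of_ne (hzo j0 hj0).symm (hzo j hj).symm]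
    have hσi : σ (z j0) = z j := by
      rw [hσ, Equiv.Perm.mul_apply, Equiv.swap_apply_of_ne_of_ne hik (Ne.symm hx.1),
        Equiv.swap_apply_left]
    obtain ⟨τ, c, hτ⟩ := twist σ (by
      rw [hσ, map_mul, Equiv.Perm.sign_swap hik, Equiv.Perm.sign_swap (Ne.symm hx.2.1)]; rfl) hσo
    have h1 := hτ j0 (z j0)
    rw [hσi, hz j0, mul_zero] at h1
    have hτj : τ j0 = j := hinj (by
      by_contra h
      exact hz' (τ j0) (z j) (Ne.symm h) ((mul_eq_zero.1 h1.symm).resolve_left (Units.ne_zero _)))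
    have h2 := hτ j0 o
    rw [hσo, hτj, div_self (Units.ne_zero _), one_mul] at h2
    -- a further position
    obtain ⟨y, hy⟩ := exists_extra {o, z j, z j0} Finset.card_le_three (by omega)
    simp only [Finset.mem_insert, Finset.mem_singleton, not_or] at hy
    obtain ⟨k, hk⟩ : ∃ k, σ k = y := ⟨σ.symm y, σ.apply_symm_apply y⟩
    have hko : k ≠ o := fun h => hy.1 (by rw [← hk, h, hσo])
    have hki : k ≠ z j0 := fun h => hy.2.1 (by rw [← hk, h, hσi])
    have h3 := hτ j0 k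
    rw [hk, hτj, hw, hw, if_neg hko, if_neg hy.1, hαu j0 hj0 k hko hki,
      hαu j hj y hy.1 hy.2.1] at h3
    have h4 : α j0 = c j0 * α j := by
      have := hune k hko
      have := hune y hy.1
      field_simp at h3
      linear_combination h3
    rw [hγ]
    field_simp [hα0 j0 hj0]
    have hcj : (c j0 : F) ≠ 0 := Units.ne_zero _
    rw [h2, h4]
    ring
  -- a column with full support
  obtain ⟨a0, ha00, ha01, -, -⟩ := exists_avoid hq (0 : F) 1 0 0
  obtain ⟨j1, hj1⟩ := exists_extra {a} (le_of_eq (Finset.card_singleton a)) (by omega)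
  rw [Finset.mem_singleton] at hj1
  obtain ⟨j2, hj2⟩ := exists_extra {a, j1} Finset.card_le_two (by omega)
  simp only [Finset.mem_insert, Finset.mem_singleton, not_or] at hj2
  obtain ⟨R, hR⟩ : ∃ R, R = 1 - ∑ j ∈ ((Finset.univ.erase a).erase j1).erase j2, a0 := ⟨_, rfl⟩
  obtain ⟨p, hp0, hp1, hpR, hpR1⟩ := exists_avoid hq 0 1 R (R - 1)
  obtain ⟨t, ht⟩ : ∃ t : ι → F, t = fun j => if j = j1 then p else if j = j2 then R - p else a0 :=
    ⟨_, rfl⟩
  have htv : ∀ j, t j ≠ 0 ∧ t j ≠ 1 := by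
    intro j; rw [ht]; simp only
    split_ifs
    · exact ⟨hp0, hp1⟩
    · exact ⟨sub_ne_zero.2 (Ne.symm hpR), fun h => hpR1 (by linear_combination -h)⟩
    · exact ⟨ha00, ha01⟩
  have hT : ∑ j ∈ Finset.univ.erase a, t j = 1 := by
    rw [← Finset.add_sum_erase _ _ (Finset.mem_erase.2 ⟨hj1, Finset.mem_univ _⟩),
      ← Finset.add_sum_erase _ _ (Finset.mem_erase.2 ⟨hj2.2, Finset.mem_erase.2 ⟨hj2.1, Finset.mem_univ _⟩⟩),
      Finset.sum_congr rfl (fun j hj => by
        obtain ⟨h1, h2⟩ := Finset.mem_erase.1 hj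
        rw [ht]; simp only; rw [if_neg (Finset.mem_erase.1 h2).1, if_neg h1] :
          ∀ j ∈ ((Finset.univ.erase a).erase j1).erase j2, t j = a0)]
    rw [ht]; simp [hj2.2, hR]
    ring
  -- a monomial element carrying `u` to the wanted vector
  obtain ⟨d, hd⟩ : ∃ d : ι → Fˣ, ∀ k, k ≠ o →
      (d k : F) = t (Equiv.swap o a k) / α (Equiv.swap o a k) / u k := by
    refine ⟨fun k => if h : k = o then 1 else Units.mk0
      (t (Equiv.swap o a k) / α (Equiv.swap o a k) / u k) ?_, fun k hk => by simp [hk]⟩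
    have hsk : Equiv.swap o a k ≠ a := fun hc => h (by
      rw [← Equiv.swap_apply_self o a k, hc, Equiv.swap_apply_right])
    exact div_ne_zero (div_ne_zero (htv _).1 (hα0 _ hsk)) (hune k h)
  obtain ⟨e, he⟩ : ∃ e : Fˣ, (e : F) * ((((Equiv.Perm.sign (Equiv.swap o a) : ℤˣ) : ℤ) : F)
      * ∏ k ∈ Finset.univ.erase o, (d k : F)) = 1 :=
    ⟨(Units.mk0 _ (mul_ne_zero (sign_ne _)
      (Finset.prod_ne_zero_iff.2 fun k _ => Units.ne_zero _)))⁻¹, by
      rw [Units.val_inv_eq_inv_val, Units.val_mk0]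
      exact inv_mul_cancel₀ (mul_ne_zero (sign_ne _)
        (Finset.prod_ne_zero_iff.2 fun k _ => Units.ne_zero _))⟩
  obtain ⟨h, hh⟩ : ∃ h, h = monGL (Equiv.swap o a) (Function.update d o e) := ⟨_, rfl⟩
  have hhM : h ∈ M := by
    rw [hh]
    refine monGL_mem hM _ _ ?_
    rw [← Finset.mul_prod_erase _ _ (Finset.mem_univ o), Finset.prod_congr rfl (fun k hk => by
      rw [Function.update_of_ne (Finset.ne_of_mem_erase hk)] :
      ∀ k ∈ Finset.univ.erase o, (Function.update d o e k : F) = (d k : F)), Function.update_self]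
    linear_combination he
  obtain ⟨X, hX⟩ : ∃ X, X = (h : Matrix ι ι F) *ᵥ u := ⟨_, rfl⟩
  have hXa : X a = 0 := by
    rw [hX, hh, monGL_mulVec', Equiv.symm_swap, Equiv.swap_apply_right, huo, mul_zero]
  have hXj : ∀ j, j ≠ a → X j = t j / α j := by
    intro j hj
    have hko : Equiv.swap o a j ≠ o := fun hc => hj (by
      rw [← Equiv.swap_apply_self o a j, hc, Equiv.swap_apply_left])
    rw [hX, hh, monGL_mulVec', Equiv.symm_swap, Function.update_of_ne hko, hd _ hko,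
      Equiv.swap_apply_self, div_mul_cancel₀ _ (hune _ hko)]
  refine no_full hq hn hM hZ (M.mul_mem (M.mul_mem hg hhM) hg) (a := a) fun k => ?_
  have hval : cl (g * h * g) a k = ∑ j ∈ Finset.univ.erase a, cl g j k * (t j / α j) := by
    rw [cl, Units.val_mul, Units.val_mul, ← Matrix.mulVec_mulVec, ← Matrix.mulVec_mulVec,
      show (g : Matrix ι ι F) *ᵥ Pi.single a 1 = u from hu.symm, ← hX, Matrix.mulVec, dotProduct,
      ← Finset.sum_erase_add _ _ (Finset.mem_univ a), hXa, mul_zero, add_zero]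
    exact Finset.sum_congr rfl fun j hj => by rw [cl_apply, hXj j (Finset.ne_of_mem_erase hj)]
  by_cases hk : k = o
  · rw [hval, hk, Finset.sum_congr rfl (fun j hj => by
      have := hα0 j (Finset.ne_of_mem_erase hj)
      rw [hαo j (Finset.ne_of_mem_erase hj)]; field_simp :
      ∀ j ∈ Finset.univ.erase a, cl g j o * (t j / α j) = γ * t j),
      ← Finset.mul_sum, hT, mul_one]
    exact hγ0
  · obtain ⟨jk, hjk⟩ := hsurj k
    have hjka : jk ∈ Finset.univ.erase a :=
      Finset.mem_erase.2 ⟨fun hc => hk (by rw [← hjk, hc, ho]), Finset.mem_univ _⟩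
    rw [hval, ← Finset.sum_erase_add _ _ hjka,
      show cl g jk k = 0 from hjk ▸ hz jk, zero_mul, add_zero,
      Finset.sum_congr rfl (fun j hj => by
        obtain ⟨h1, h2⟩ := Finset.mem_erase.1 hj
        have := hα0 j (Finset.ne_of_mem_erase h2)
        rw [hαu j (Finset.ne_of_mem_erase h2) k hk (fun hc => h1 (hinj (hc.symm.trans hjk.symm)))]
        field_simp :
        ∀ j ∈ (Finset.univ.erase a).erase jk, cl g j k * (t j / α j) = u k * t j),
      ← Finset.mul_sum]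
    refine mul_ne_zero (hune k hk) fun h0 => (htv jk).2 ?_
    rw [← hT, ← Finset.sum_erase_add _ _ hjka, h0, zero_add]

omit hn in
/-- a transvection centred on an axis yields an elementary transvection -/
theorem elementary_of_axis (hn : 4 ≤ Fintype.card ι) {a : ι} {φ : (ι → F) →ₗ[F] F}
    (h0 : coe φ a = 0) (hφ : φ ≠ 0) (hm : tv (Pi.single a 1) φ ∈ M) :
    ∃ i b, i ≠ b ∧ ∃ μ : F, μ ≠ 0 ∧
      tv (Pi.single i 1) (μ • (LinearMap.proj b : (ι → F) →ₗ[F] F)) ∈ M := by
  classical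
  obtain ⟨ρ, hρ0, hρ1, -, -⟩ := exists_avoid hq (0 : F) 1 0 0
  have hr2 : (ρ⁻¹ - 1 : F) ≠ 0 := sub_ne_zero.2 (fun h => hρ1 (inv_eq_one.1 h))
  have step : ∀ (φ : (ι → F) →ₗ[F] F), coe φ a = 0 → tv (Pi.single a 1) φ ∈ M →
      ∀ b c, b ≠ a → c ≠ a → b ≠ c → tv (Pi.single a 1)
        (((ρ⁻¹ - 1) * coe φ b) • (LinearMap.proj b : (ι → F) →ₗ[F] F) +
          ((ρ - 1) * coe φ c) • (LinearMap.proj c : (ι → F) →ₗ[F] F)) ∈ M := by
    intro φ h0 hm b c hba hca hbc
    obtain ⟨d, hd⟩ : ∃ d : ι → Fˣ, d = Function.update (Function.update (1 : ι → Fˣ) b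
        (Units.mk0 ρ hρ0)) c (Units.mk0 ρ hρ0)⁻¹ := ⟨_, rfl⟩
    have hdM : monGL 1 d ∈ M := monGL_mem hM _ _ (by
      simp only [map_one, Units.val_one, Int.cast_one, one_mul]
      rw [← Finset.mul_prod_erase _ _ (Finset.mem_univ c),
        ← Finset.mul_prod_erase _ _ (Finset.mem_erase.2 ⟨hbc, Finset.mem_univ b⟩),
        Finset.prod_eq_one (fun i hi => by
          obtain ⟨h1, h2⟩ := Finset.mem_erase.1 hi
          rw [hd]; simp [h1, (Finset.mem_erase.1 h2).1])]
      rw [hd]; simp [hbc, hρ0])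
    have hfix : (monGL 1 d : Matrix ι ι F) *ᵥ Pi.single a 1 = Pi.single a 1 := by
      rw [monGL_single, hd]; simp [hba.symm, hca.symm]
    have h00 : φ (Pi.single a 1) = 0 := h0
    have hh := M.mul_mem (M.mul_mem hdM hm) (M.inv_mem hdM)
    rw [conj_tv _ h00, hfix] at hh
    have hw' : (φ ∘ₗ Matrix.toLin' (((monGL 1 d)⁻¹ : GL ι F) : Matrix ι ι F)) (Pi.single a 1) = 0 := by
      conv_lhs => rw [← hfix]
      rw [LinearMap.comp_apply, Matrix.toLin'_apply, inv_mulVec_mulVec, h00]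
    have hp := M.mul_mem (M.inv_mem hm) hh
    rw [tv_inv h00, tv_mul (by rw [LinearMap.neg_apply, h00, neg_zero]) hw'] at hp
    convert hp using 2
    refine LinearMap.pi_ext fun i x => ?_
    have ea : (Pi.single i x : ι → F) = x • Pi.single i 1 := by
      rw [← Pi.single_smul, smul_eq_mul, mul_one]
    have hi := monGL_inv_single (1 : Equiv.Perm ι) d i
    rw [Equiv.Perm.one_apply] at hi
    rw [ea, map_smul, map_smul, LinearMap.add_apply, LinearMap.add_apply, LinearMap.neg_apply,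
      LinearMap.comp_apply, Matrix.toLin'_apply, hi, map_smul, hd]
    congr 1
    by_cases h1 : i = b
    · subst h1; simp [hbc, hbc.symm, coe]; ring
    by_cases h2 : i = c
    · subst h2; simp [hbc, hbc.symm, coe]; ring
    simp [h1, h2, Ne.symm h1, Ne.symm h2]
  obtain ⟨b, hb⟩ : ∃ b, coe φ b ≠ 0 := by
    by_contra hc
    push Not at hc
    exact hφ ((coe_zero_iff φ).2 hc)
  have hba : b ≠ a := fun h => hb (h ▸ h0)
  obtain ⟨c, hc⟩ := exists_extra {a, b} Finset.card_le_two (by omega)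
  obtain ⟨e, he⟩ := exists_extra {a, b, c} Finset.card_le_three (by omega)
  simp only [Finset.mem_insert, Finset.mem_singleton, not_or] at hc he
  have h1 := step φ h0 hm b c hba hc.1 (Ne.symm hc.2)
  have h2 := step _ (by simp [coe, hba.symm, Ne.symm hc.1, Ne.symm hba]) h1 b e hba he.1 (Ne.symm he.2.1)
  refine ⟨a, b, hba.symm, (ρ⁻¹ - 1) * ((ρ⁻¹ - 1) * coe φ b),
    mul_ne_zero hr2 (mul_ne_zero hr2 hb), ?_⟩
  convert h2 using 2
  have ee : coe (((ρ⁻¹ - 1) * coe φ b) • (LinearMap.proj b : (ι → F) →ₗ[F] F) +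
      ((ρ - 1) * coe φ c) • (LinearMap.proj c : (ι → F) →ₗ[F] F)) e = 0 := by
    simp [coe, he.2.1, he.2.2, Ne.symm he.2.1, Ne.symm he.2.2]
  have eb : coe (((ρ⁻¹ - 1) * coe φ b) • (LinearMap.proj b : (ι → F) →ₗ[F] F) +
      ((ρ - 1) * coe φ c) • (LinearMap.proj c : (ι → F) →ₗ[F] F)) b = (ρ⁻¹ - 1) * coe φ b := by
    simp [coe, hc.2, Ne.symm hc.2]
  rw [ee, eb, mul_zero, zero_smul, add_zero]

omit hn in
theorem SL_le_of_elementary (hn : 3 ≤ Fintype.card ι) {i₀ b₀ : ι} (hib : i₀ ≠ b₀) {μ : F}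
    (hμ : μ ≠ 0) (hm : tv (Pi.single i₀ 1) (μ • (LinearMap.proj b₀ : (ι → F) →ₗ[F] F)) ∈ M) :
    Cfsg.Geo.specialLinear ι F ≤ M := by
  classical
  -- transport by monomial elements
  have htrans : ∀ (σ : Equiv.Perm ι) (i b : ι), i ≠ b → ∀ ν lam : F, lam ≠ 0 →
      tv (Pi.single i 1) (ν • (LinearMap.proj b : (ι → F) →ₗ[F] F)) ∈ M →
      tv (Pi.single (σ i) 1) ((lam * ν) • (LinearMap.proj (σ b) : (ι → F) →ₗ[F] F)) ∈ M := by
    intro σ i b hib ν lam hlam hm
    obtain ⟨l, hl⟩ := exists_extra {i, b} Finset.card_le_two (by omega)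
    simp only [Finset.mem_insert, Finset.mem_singleton, not_or] at hl
    obtain ⟨e, he⟩ : ∃ e : Fˣ, (e : F) * (lam * (((Equiv.Perm.sign σ : ℤˣ) : ℤ) : F)) = 1 :=
      ⟨(Units.mk0 _ (mul_ne_zero hlam (sign_ne σ)))⁻¹, by
        rw [Units.val_inv_eq_inv_val, Units.val_mk0]
        exact inv_mul_cancel₀ (mul_ne_zero hlam (sign_ne σ))⟩
    obtain ⟨d, hd⟩ : ∃ d : ι → Fˣ, d = Function.update (Function.update (1 : ι → Fˣ) i
        (Units.mk0 lam hlam)) l e := ⟨_, rfl⟩
    have hdM : monGL σ d ∈ M := monGL_mem hM _ _ (by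
      rw [← Finset.mul_prod_erase _ _ (Finset.mem_univ l),
        ← Finset.mul_prod_erase _ _ (Finset.mem_erase.2 ⟨Ne.symm hl.1, Finset.mem_univ i⟩),
        Finset.prod_eq_one (fun k hk => by
          obtain ⟨h1, h2⟩ := Finset.mem_erase.1 hk
          rw [hd]; simp [h1, (Finset.mem_erase.1 h2).1])]
      rw [hd]; simp [Ne.symm hl.1]
      linear_combination he)
    have h00 : (ν • (LinearMap.proj b : (ι → F) →ₗ[F] F)) (Pi.single i 1) = 0 := by
      simp [Ne.symm hib, hib]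
    have hh := M.mul_mem (M.mul_mem hdM hm) (M.inv_mem hdM)
    rw [conj_tv _ h00, monGL_single, hd] at hh
    simp only [Function.update_of_ne (Ne.symm hl.1), Function.update_self, Units.val_mk0] at hh
    rw [← hd] at hh
    have e2 : (ν • (LinearMap.proj b : (ι → F) →ₗ[F] F)) ∘ₗ
        Matrix.toLin' (((monGL σ d)⁻¹ : GL ι F) : Matrix ι ι F) =
        ν • (LinearMap.proj (σ b) : (ι → F) →ₗ[F] F) := by
      refine LinearMap.ext fun x => ?_
      rw [LinearMap.comp_apply, Matrix.toLin'_apply, LinearMap.smul_apply, LinearMap.smul_apply,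
        LinearMap.proj_apply, LinearMap.proj_apply, monGL_inv_mulVec, hd]
      simp [Ne.symm hl.2, Ne.symm hib]
    rw [e2, tv_smul (by simp [σ.injective.eq_iff, Ne.symm hib, hib]), smul_smul] at hh
    exact hh
  have hroot : ∀ i b, i ≠ b → ∀ ν : F,
      tv (Pi.single i 1) (ν • (LinearMap.proj b : (ι → F) →ₗ[F] F)) ∈ M := by
    intro i b hib' ν
    rcases eq_or_ne ν 0 with rfl | hν
    · rw [zero_smul, tv_zero]; exact M.one_mem
    obtain ⟨σ, hσi, hσb⟩ : ∃ σ : Equiv.Perm ι, σ i₀ = i ∧ σ b₀ = b := by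
      refine ⟨Equiv.swap (Equiv.swap i₀ i b₀) b * Equiv.swap i₀ i, ?_, ?_⟩
      · rw [Equiv.Perm.mul_apply, Equiv.swap_apply_left]
        refine Equiv.swap_apply_of_ne_of_ne ?_ hib'
        intro h
        apply hib
        apply (Equiv.swap i₀ i).injective
        rw [Equiv.swap_apply_left, ← h]
      · rw [Equiv.Perm.mul_apply, Equiv.swap_apply_left]
    have := htrans σ i₀ b₀ hib μ (ν / μ) (div_ne_zero hν hμ) hm
    rwa [hσi, hσb, div_mul_cancel₀ _ hμ] at this
  have htop : M.comap (Matrix.SpecialLinearGroup.toGL : SpecialLinearGroup ι F →* GL ι F) = ⊤ := by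
    refine SLn.eq_top_of_transvection_mem _ fun i j hij c => ?_
    rw [Subgroup.mem_comap]
    have h0 : (c • (LinearMap.proj j : (ι → F) →ₗ[F] F)) (Pi.single i 1) = 0 := by
      simp [Pi.single_eq_of_ne hij.symm]
    convert hroot i j hij c using 1
    refine gl_ext fun x => ?_
    rw [tv_mulVec h0]
    change ((SpecialLinearGroup.transvection hij c : SpecialLinearGroup ι F) : Matrix ι ι F) *ᵥ x = _
    rw [SLn.tv_coe hij c, SLn.transv_mulVec]
    simp
  intro g hg
  have hdet := DecompSL.det_eq_one hg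
  obtain ⟨gs, hgs⟩ : ∃ gs : SpecialLinearGroup ι F, gs = ⟨(g : Matrix ι ι F), hdet⟩ := ⟨_, rfl⟩
  have hmem : gs ∈
      M.comap (Matrix.SpecialLinearGroup.toGL : SpecialLinearGroup ι F →* GL ι F) :=
    htop ▸ Subgroup.mem_top _
  rw [Subgroup.mem_comap] at hmem
  convert hmem using 1
  exact Units.ext (by rw [hgs]; rfl)

end Group

section Quotient

variable [Fintype F]

theorem submatrix_mul_of_col (X Y : Matrix ι ι F) (a : ι) (h : ∀ i, i ≠ a → X i a = 0)
    (i k : {x : ι // x ≠ a}) :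
    (X * Y) i k = ∑ j : {x : ι // x ≠ a}, X i j * Y j k := by
  rw [Matrix.mul_apply, ← Finset.add_sum_erase _ _ (Finset.mem_univ a), h i i.2, zero_mul, zero_add,
    Finset.sum_subtype (Finset.univ.erase a) (p := fun x => x ≠ a) (fun x => by simp)]

/-- the action on the quotient by the `a`-th axis -/
def quot (M : Subgroup (GL ι F)) (a : ι) : Subgroup (GL {x : ι // x ≠ a} F) :=
  let S : Submonoid (GL {x : ι // x ≠ a} F) :=
    { carrier := {A | ∃ m ∈ M, (∀ i j : {x : ι // x ≠ a}, (m : Matrix ι ι F) i j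
          = (A : Matrix {x : ι // x ≠ a} {x : ι // x ≠ a} F) i j) ∧
        ∀ i : {x : ι // x ≠ a}, (m : Matrix ι ι F) i a = 0}
      one_mem' := ⟨1, M.one_mem, fun i j => by simp [Matrix.one_apply, Subtype.ext_iff],
        fun i => by simp [i.2]⟩
      mul_mem' := by
        rintro A B ⟨m, hm, h1, h2⟩ ⟨m', hm', h1', h2'⟩
        refine ⟨m * m', M.mul_mem hm hm', fun i j => ?_, fun i => ?_⟩
        · rw [Units.val_mul, Units.val_mul, submatrix_mul_of_col _ _ a (fun r hr => h2 ⟨r, hr⟩),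
            Matrix.mul_apply]
          exact Finset.sum_congr rfl fun k _ => by rw [h1, h1']
        · rw [Units.val_mul, Matrix.mul_apply]
          refine Finset.sum_eq_zero fun k _ => ?_
          by_cases hk : k = a
          · subst hk; rw [h2, zero_mul]
          · rw [h2' ⟨k, hk⟩, mul_zero] }
  { S with
    inv_mem' := fun {A} hA => by
      haveI : Finite (GL {x : ι // x ≠ a} F) := inferInstance
      have h : A⁻¹ = A ^ (orderOf A - 1) := by
        refine inv_eq_of_mul_eq_one_right ?_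
        rw [← pow_succ', Nat.sub_add_cancel (orderOf_pos A), pow_orderOf_eq_one]
      rw [h]
      exact S.pow_mem hA _ }

theorem eq_tv {y : GL ι F} (hdet : (y : Matrix ι ι F).det = 1) (a : ι)
    (h : ∀ i, i ≠ a → ∀ k, (y : Matrix ι ι F) i k = if i = k then 1 else 0) :
    ∃ φ : (ι → F) →ₗ[F] F, coe φ a = 0 ∧ y = tv (Pi.single a 1) φ := by
  obtain ⟨r, hr⟩ : ∃ r : ι → F, r = fun k => (y : Matrix ι ι F) a k - if a = k then 1 else 0 :=
    ⟨_, rfl⟩
  obtain ⟨φ, hφ⟩ : ∃ φ : (ι → F) →ₗ[F] F,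
      φ = (LinearMap.proj a : (ι → F) →ₗ[F] F) ∘ₗ Matrix.toLin' (Matrix.vecMulVec (Pi.single a 1) r) :=
    ⟨_, rfl⟩
  have hy : (y : Matrix ι ι F) = 1 + Matrix.vecMulVec (Pi.single a 1) r := by
    ext i k
    rw [Matrix.add_apply, Matrix.one_apply, Matrix.vecMulVec_apply]
    by_cases hi : i = a
    · subst hi; rw [hr]; simp
    · rw [h i hi k]; simp [hi]
  have hφx : ∀ x, φ x = r ⬝ᵥ x := by
    intro x
    rw [hφ, LinearMap.comp_apply, Matrix.toLin'_apply, Matrix.vecMulVec_mulVec]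
    simp
  have hra : r a = 0 := by
    have := hdet
    rw [hy, Matrix.vecMulVec_eq Unit, Matrix.det_one_add_replicateCol_mul_replicateRow] at this
    simpa using this
  refine ⟨φ, by rw [coe, hφx]; simpa using hra, gl_ext fun x => ?_⟩
  rw [tv_mulVec (by rw [hφx]; simpa using hra), hy, Matrix.add_mulVec, Matrix.one_mulVec,
    Matrix.vecMulVec_mulVec, hφx, op_smul_eq_smul]

theorem tv_single_apply {i b : ι} (hib : i ≠ b) (μ : F) (r k : ι) :
    (tv (Pi.single i 1) (μ • (LinearMap.proj b : (ι → F) →ₗ[F] F)) : Matrix ι ι F) r k =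
      (if r = k then 1 else 0) + (if k = b then μ else 0) * (if r = i then 1 else 0) := by
  have h0 : (μ • (LinearMap.proj b : (ι → F) →ₗ[F] F)) (Pi.single i 1) = 0 := by
    simp [Ne.symm hib, hib]
  rw [← cl_apply, cl, tv_mulVec h0]
  by_cases h1 : k = b
  · subst h1; by_cases h2 : r = i <;> by_cases h3 : r = k <;> simp_all
  · by_cases h2 : r = i <;> by_cases h3 : r = k <;> simp_all [Ne.symm h1]

variable (hq : 5 ≤ Fintype.card F) (hn : 5 ≤ Fintype.card ι) {M : Subgroup (GL ι F)}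
  (hM : ∀ σ c, (monGL σ c : Matrix ι ι F).det = 1 → monGL σ c ∈ M)
  (hSL : ∀ g ∈ M, (g : Matrix ι ι F).det = 1)
include hq hn hM hSL

theorem elementary_of_z (hZ : HasZ M) :
    ∃ i b, i ≠ b ∧ ∃ μ : F, μ ≠ 0 ∧
      tv (Pi.single i 1) (μ • (LinearMap.proj b : (ι → F) →ₗ[F] F)) ∈ M := by
  classical
  obtain ⟨z, hz, hzm, a, ha⟩ := hZ
  have hext : ∀ (σ : Equiv.Perm {x : ι // x ≠ a}) (c : {x : ι // x ≠ a} → Fˣ),
      ∃ m ∈ M, ∃ (τ : Equiv.Perm ι) (d : ι → Fˣ), m = monGL τ d ∧ τ a = a ∧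
        ∀ i : {x : ι // x ≠ a}, τ i = σ i ∧ d i = c i := by
    intro σ c
    obtain ⟨τ, hτ⟩ : ∃ τ, τ = Equiv.Perm.ofSubtype σ := ⟨_, rfl⟩
    obtain ⟨d, hd⟩ : ∃ d : ι → Fˣ, d = fun k => if h : k ≠ a then c ⟨k, h⟩ else 1 := ⟨_, rfl⟩
    obtain ⟨e, he⟩ : ∃ e : Fˣ, (e : F) * ((((Equiv.Perm.sign τ : ℤˣ) : ℤ) : F) * ∏ k, (d k : F)) = 1 :=
      ⟨(Units.mk0 _ (mul_ne_zero (sign_ne τ)
        (Finset.prod_ne_zero_iff.2 fun k _ => Units.ne_zero _)))⁻¹, by
        rw [Units.val_inv_eq_inv_val, Units.val_mk0]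
        exact inv_mul_cancel₀ (mul_ne_zero (sign_ne τ)
          (Finset.prod_ne_zero_iff.2 fun k _ => Units.ne_zero _))⟩
    refine ⟨_, monGL_mem hM τ (Function.update d a e) ?_, τ, _, rfl, ?_, fun i => ⟨?_, ?_⟩⟩
    · rw [← Finset.mul_prod_erase _ _ (Finset.mem_univ a), Finset.prod_congr rfl (fun k hk => by
        rw [Function.update_of_ne (Finset.ne_of_mem_erase hk)] :
        ∀ k ∈ Finset.univ.erase a, (Function.update d a e k : F) = (d k : F)), Function.update_self]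
      rw [← Finset.mul_prod_erase _ _ (Finset.mem_univ a),
        show (d a : F) = 1 by rw [hd]; simp, one_mul] at he
      linear_combination he
    · rw [hτ]; exact Equiv.Perm.ofSubtype_apply_of_not_mem σ (by simp)
    · rw [hτ]; exact Equiv.Perm.ofSubtype_apply_coe σ i
    · rw [Function.update_of_ne i.2, hd]; simp [i.2]
  have hQ : ∀ σ c, monGL σ c ∈ quot M a := by
    intro σ c
    obtain ⟨m, hm, τ, d, rfl, hτa, hτi⟩ := hext σ c
    refine ⟨_, hm, fun i j => ?_, fun i => ?_⟩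
    · rw [monGL_apply, monGL_apply, (hτi j).1, (hτi j).2]
      simp [Subtype.ext_iff]
    · rw [monGL_apply, hτa, if_neg i.2]
  -- the image of `z`
  have hza : (z : Matrix ι ι F) *ᵥ Pi.single a 1 = (z : Matrix ι ι F) a a • Pi.single a 1 := by
    funext i
    rw [Matrix.mulVec_single_one, Matrix.col_apply]
    by_cases hi : i = a
    · subst hi; simp
    · rw [ha i hi]; simp [hi]
  have hzaa : (z : Matrix ι ι F) a a ≠ 0 := by
    intro h0
    exact cl_ne_zero z a (by rw [cl, hza, h0, zero_smul])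
  have hza' : ∀ i, i ≠ a → ((z⁻¹ : GL ι F) : Matrix ι ι F) i a = 0 := by
    intro i hi
    have h1 := congrArg (fun v => (((z⁻¹ : GL ι F) : Matrix ι ι F) *ᵥ v) i) hza
    simp only [inv_mulVec_mulVec, Matrix.mulVec_smul] at h1
    rw [Matrix.mulVec_single_one, Pi.smul_apply, Matrix.col_apply, smul_eq_mul] at h1
    simpa [hi, hzaa] using h1
  obtain ⟨A, hA⟩ : ∃ A : GL {x : ι // x ≠ a} F, ∀ i j,
      (A : Matrix {x : ι // x ≠ a} {x : ι // x ≠ a} F) i j = (z : Matrix ι ι F) i j := by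
    refine ⟨⟨Matrix.of fun i j => (z : Matrix ι ι F) i j,
      Matrix.of fun i j => ((z⁻¹ : GL ι F) : Matrix ι ι F) i j, ?_, ?_⟩, fun i j => rfl⟩
    · ext i k
      rw [Matrix.mul_apply]
      simp only [Matrix.of_apply]
      rw [← submatrix_mul_of_col _ _ a ha, ← Units.val_mul, mul_inv_cancel]
      simp [Matrix.one_apply, Subtype.ext_iff]
    · ext i k
      rw [Matrix.mul_apply]
      simp only [Matrix.of_apply]
      rw [← submatrix_mul_of_col _ _ a hza', ← Units.val_mul, inv_mul_cancel]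
      simp [Matrix.one_apply, Subtype.ext_iff]
  by_cases hAm : Mon A
  · -- upper triangular
    obtain ⟨σ, c, hAσ⟩ := eq_monGL hAm
    obtain ⟨m, hm, τ, d, hmd, hτa, hτi⟩ := hext σ c
    obtain ⟨y, hy⟩ : ∃ y, y = z * m⁻¹ := ⟨_, rfl⟩
    have hyM : y ∈ M := hy ▸ M.mul_mem hz (M.inv_mem hm)
    have hrows : ∀ i, i ≠ a → ∀ k, (y : Matrix ι ι F) i k = if i = k then 1 else 0 := by
      intro i hi k
      obtain ⟨j, rfl⟩ : ∃ j, τ j = k := ⟨τ.symm k, τ.apply_symm_apply k⟩
      have h1 : (z : Matrix ι ι F) i j = (y : Matrix ι ι F) i (τ j) * d j := by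
        have h2 : z = y * monGL τ d := by rw [hy, ← hmd, inv_mul_cancel_right]
        rw [h2, Units.val_mul, Matrix.mul_apply, Finset.sum_eq_single (τ j)]
        · rw [monGL_apply, if_pos rfl]
        · intro r _ hr; rw [monGL_apply, if_neg hr, mul_zero]
        · simp
      by_cases hj : j = a
      · subst hj
        rw [ha i hi] at h1
        rw [hτa, if_neg hi]
        rw [hτa] at h1
        exact (mul_eq_zero.1 h1.symm).resolve_right (Units.ne_zero _)
      · rw [show (z : Matrix ι ι F) i j = (A : Matrix {x : ι // x ≠ a} {x : ι // x ≠ a} F) ⟨i, hi⟩ ⟨j, hj⟩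
          from (hA ⟨i, hi⟩ ⟨j, hj⟩).symm, hAσ, monGL_apply, (hτi ⟨j, hj⟩).2] at h1
        rw [(hτi ⟨j, hj⟩).1] at h1 ⊢
        by_cases hij : i = σ ⟨j, hj⟩
        · rw [if_pos hij]
          rw [if_pos (Subtype.ext hij)] at h1
          exact (mul_eq_right₀ (Units.ne_zero _)).1 h1.symm
        · rw [if_neg hij]
          rw [if_neg (fun h => hij (congrArg Subtype.val h))] at h1
          exact (mul_eq_zero.1 h1.symm).resolve_right (Units.ne_zero _)
    obtain ⟨φ, hφa, hyφ⟩ := eq_tv (hSL y hyM) a hrows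
    refine elementary_of_axis hq hM (by omega) hφa ?_ (hyφ ▸ hyM)
    intro h0
    apply hzm
    rw [h0, tv_zero, hy, mul_inv_eq_one] at hyφ
    rw [hyφ, hmd]
    exact monGL_mon τ d
  · -- an elementary element on the quotient
    have hn' : 4 ≤ Fintype.card {x : ι // x ≠ a} := by
      rw [Fintype.card_subtype_compl, Fintype.card_subtype_eq]; omega
    have hAQ : A ∈ quot M a := ⟨z, hz, fun i j => (hA i j).symm, fun i => ha i i.2⟩
    obtain ⟨i', b', hib', μ, hμ, hE⟩ :=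
      MonomialGL.exists_elementary hQ hq hn' hAQ hAm
    obtain ⟨m, hm, hm1, hm2⟩ := hE
    obtain ⟨i, hia⟩ := i'
    obtain ⟨b, hba⟩ := b'
    have hib : i ≠ b := fun h => hib' (Subtype.ext h)
    obtain ⟨E, hE⟩ : ∃ E : GL ι F, E = tv (Pi.single i 1) (μ • (LinearMap.proj b : (ι → F) →ₗ[F] F)) :=
      ⟨_, rfl⟩
    obtain ⟨y, hy⟩ : ∃ y, y = m * E⁻¹ := ⟨_, rfl⟩
    have hydet : (y : Matrix ι ι F).det = 1 := by
      have h1 : (E⁻¹ : GL ι F) ∈ Cfsg.Geo.specialLinear ι F :=
        Subgroup.inv_mem _ (hE ▸ tv_mem_SL _ _)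
      rw [hy, Units.val_mul, Matrix.det_mul, hSL m hm, DecompSL.det_eq_one h1, mul_one]
    have hrows : ∀ r, r ≠ a → ∀ k, (y : Matrix ι ι F) r k = if r = k then 1 else 0 := by
      intro r hr
      have hme : ∀ k, (m : Matrix ι ι F) r k = (E : Matrix ι ι F) r k := by
        intro k
        by_cases hk : k = a
        · subst hk
          rw [hm2 ⟨r, hr⟩, hE, tv_single_apply hib]
          simp [hr, Ne.symm hba, hba]
        · rw [hm1 ⟨r, hr⟩ ⟨k, hk⟩, hE, tv_single_apply hib,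
            tv_single_apply (fun h => hib' h)]
          simp [Subtype.ext_iff]
      intro k
      have h1 : (y : Matrix ι ι F) r k = ((E * E⁻¹ : GL ι F) : Matrix ι ι F) r k := by
        rw [hy, Units.val_mul, Units.val_mul, Matrix.mul_apply, Matrix.mul_apply]
        exact Finset.sum_congr rfl fun j _ => by rw [hme]
      rw [h1, mul_inv_cancel, Units.val_one, Matrix.one_apply]
    obtain ⟨φ, hφa, hyφ⟩ := eq_tv hydet a hrows
    by_cases hφ : φ = 0
    · refine ⟨i, b, hib, μ, hμ, ?_⟩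
      rw [hφ, tv_zero, hy, mul_inv_eq_one] at hyφ
      rw [← hE, ← hyφ]
      exact hm
    obtain ⟨k, hk⟩ : ∃ k, coe φ k ≠ 0 := by
      by_contra hc
      push Not at hc
      exact hφ ((coe_zero_iff φ).2 hc)
    have hka : k ≠ a := fun h => hk (h ▸ hφa)
    obtain ⟨l, hl⟩ := exists_extra {a, i, b, k} Finset.card_le_four (by omega)
    simp only [Finset.mem_insert, Finset.mem_singleton, not_or] at hl
    obtain ⟨ρ, hρ0, hρ1, -, -⟩ := exists_avoid hq (0 : F) 1 0 0
    obtain ⟨d, hd⟩ : ∃ d : ι → Fˣ, d = Function.update (Function.update (1 : ι → Fˣ) a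
        (Units.mk0 ρ hρ0)) l (Units.mk0 ρ hρ0)⁻¹ := ⟨_, rfl⟩
    obtain ⟨h, hh⟩ : ∃ h : GL ι F, h = monGL 1 d := ⟨_, rfl⟩
    have hhM : h ∈ M := hh ▸ monGL_mem hM _ _ (by
      simp only [map_one, Units.val_one, Int.cast_one, one_mul]
      rw [← Finset.mul_prod_erase _ _ (Finset.mem_univ l),
        ← Finset.mul_prod_erase _ _ (Finset.mem_erase.2 ⟨Ne.symm hl.1, Finset.mem_univ a⟩),
        Finset.prod_eq_one (fun r hr => by
          obtain ⟨h1, h2⟩ := Finset.mem_erase.1 hr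
          rw [hd]; simp [h1, (Finset.mem_erase.1 h2).1])]
      rw [hd]; simp [Ne.symm hl.1, hρ0])
    have hinv : ∀ x r, (((h⁻¹ : GL ι F) : Matrix ι ι F) *ᵥ x) r = ((d r)⁻¹ : Fˣ).val * x r := by
      intro x r; rw [hh, monGL_inv_mulVec]; rfl
    have hEh : h * E * h⁻¹ = E := by
      have h0 : (μ • (LinearMap.proj b : (ι → F) →ₗ[F] F)) (Pi.single i 1) = 0 := by
        simp [Ne.symm hib, hib]
      rw [hE, conj_tv h h0]
      congr 1
      · rw [hh, monGL_single, hd]
        simp [hia, Ne.symm hl.2.1]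
      · refine LinearMap.ext fun x => ?_
        rw [LinearMap.comp_apply, Matrix.toLin'_apply, LinearMap.smul_apply, LinearMap.smul_apply,
          LinearMap.proj_apply, LinearMap.proj_apply, hinv, hd]
        simp [hba, Ne.symm hl.2.2.1]
    have h0 : φ (Pi.single a 1) = 0 := hφa
    have hy' : h * y * h⁻¹ * y⁻¹ ∈ M := by
      have h1 : h * m * h⁻¹ * m⁻¹ = h * y * h⁻¹ * y⁻¹ := by
        have h2 : m = y * E := by rw [hy, inv_mul_cancel_right]
        calc h * m * h⁻¹ * m⁻¹ = h * y * h⁻¹ * (h * E * h⁻¹) * E⁻¹ * y⁻¹ := by rw [h2]; group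
          _ = _ := by rw [hEh]; group
      rw [← h1]
      exact M.mul_mem (M.mul_mem (M.mul_mem hhM hm) (M.inv_mem hhM)) (M.inv_mem hm)
    rw [hyφ, conj_tv h h0] at hy'
    have ha1 : (h : Matrix ι ι F) *ᵥ Pi.single a 1 = ρ • Pi.single a 1 := by
      rw [hh, monGL_single, hd]
      simp [Ne.symm hl.1]
    have ha2 : (φ ∘ₗ Matrix.toLin' ((h⁻¹ : GL ι F) : Matrix ι ι F)) (Pi.single a 1) = 0 := by
      have : ((h⁻¹ : GL ι F) : Matrix ι ι F) *ᵥ Pi.single a 1 = ρ⁻¹ • Pi.single a 1 := by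
        funext r
        rw [hinv, hd]
        by_cases hr : r = a
        · subst hr; simp [Ne.symm hl.1]
        · simp [hr]
      rw [LinearMap.comp_apply, Matrix.toLin'_apply, this, map_smul, h0, smul_zero]
    rw [ha1, tv_smul ha2, tv_inv h0,
      tv_mul (by rw [LinearMap.smul_apply, ha2, smul_zero]) (by rw [LinearMap.neg_apply, h0, neg_zero])] at hy'
    refine elementary_of_axis hq hM (by omega) ?_ ?_ hy'
    · rw [coe, LinearMap.add_apply, LinearMap.smul_apply, ha2, LinearMap.neg_apply, h0]; simp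
    · intro hc
      have h1 := LinearMap.congr_fun hc (Pi.single k 1)
      have : ((h⁻¹ : GL ι F) : Matrix ι ι F) *ᵥ Pi.single k 1 = Pi.single k 1 := by
        funext r
        rw [hinv, hd]
        by_cases hr : r = k
        · subst hr; simp [hka, Ne.symm hl.2.2.2]
        · simp [hr]
      rw [LinearMap.add_apply, LinearMap.smul_apply, LinearMap.comp_apply, Matrix.toLin'_apply, this,
        LinearMap.neg_apply, LinearMap.zero_apply, smul_eq_mul] at h1
      have h2 : (ρ - 1) * φ (Pi.single k 1) = 0 := by linear_combination h1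
      exact hk ((mul_eq_zero.1 h2).resolve_left (sub_ne_zero.2 hρ1))

theorem SL_le {g : GL ι F} (hg : g ∈ M) (hgm : ¬ Mon g) : Cfsg.Geo.specialLinear ι F ≤ M := by
  obtain ⟨i, b, hib, μ, hμ, hm⟩ :=
    elementary_of_z hq hn hM hSL (exists_z hq hn hM hg hgm)
  exact SL_le_of_elementary hq hM (by omega) hib hμ hm

end Quotient

end CfsgLib.Lie.MonomialSL
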