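import Mathlib

/-!
Block counts of a nilpotent operator on invariant subspaces, through ranks of powers.
-/

set_option autoImplicit false
set_option linter.unusedSectionVars false

namespace CfsgLib.Lie.NilType

open Module Submodule

variable {F : Type*} [Field F] {V : Type*} [AddCommGroup V] [Module F V] [FiniteDimensional F V]

/-- rank of the `k`-th power on a subspace -/
noncomputable def rk (N : V →ₗ[F] V) (S : Submodule F V) (k : ℕ) : ℕ := finrank F (S.map (N ^ k))

/-- number of blocks longer than `k` -/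
noncomputable def dd (N : V →ₗ[F] V) (S : Submodule F V) (k : ℕ) : ℕ :=
  finrank F (LinearMap.ker N ⊓ S.map (N ^ k) : Submodule F V)

/-- number of blocks of length `k + 1` -/
noncomputable def cc (N : V →ₗ[F] V) (S : Submodule F V) (k : ℕ) : ℕ := dd N S k - dd N S (k + 1)

variable {N : V →ₗ[F] V} {S : Submodule F V}

theorem rk_succ (k : ℕ) : rk N S k = rk N S (k + 1) + dd N S k := by
  have h := LinearMap.finrank_range_add_finrank_ker (N.domRestrict (S.map (N ^ k)))
  rw [LinearMap.range_domRestrict, LinearMap.ker_domRestrict] at h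
  have e1 : (S.map (N ^ k)).map N = S.map (N ^ (k + 1)) := by
    rw [← Submodule.map_comp, pow_succ']; rfl
  have e2 : finrank F ((LinearMap.ker N).comap (S.map (N ^ k)).subtype) = dd N S k := by
    rw [dd, ← Submodule.finrank_map_subtype_eq, Submodule.map_comap_subtype, inf_comm]
  rw [e1, e2] at h
  exact h.symm

theorem dd_antitone (hS : S.map N ≤ S) (k : ℕ) : dd N S (k + 1) ≤ dd N S k := by
  refine Submodule.finrank_mono (inf_le_inf_left _ ?_)
  rw [pow_succ]
  show S.map ((N ^ k).comp N) ≤ _
  rw [Submodule.map_comp]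
  exact Submodule.map_mono hS

theorem sum_weight (hS : S.map N ≤ S) : ∀ m : ℕ,
    (∑ k ∈ Finset.range m, (k + 1) * cc N S k) + m * dd N S m + rk N S m = finrank F S := by
  intro m
  induction m with
  | zero =>
    simp only [rk, Finset.range_zero, Finset.sum_empty, zero_mul, zero_add]
    rw [pow_zero, Module.End.one_eq_id, Submodule.map_id]
  | succ m ih =>
    rw [rk_succ m] at ih
    rw [Finset.sum_range_succ]
    obtain ⟨c, hc⟩ := Nat.exists_eq_add_of_le (dd_antitone hS m)
    have hcc : cc N S m = c := by rw [cc, hc]; omega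
    rw [hcc]
    rw [hc] at ih
    linarith

theorem sum_eq {p : ℕ} (hS : S.map N ≤ S) (hN : N ^ p = 0) :
    ∑ k ∈ Finset.range p, (k + 1) * cc N S k = finrank F S := by
  have h := sum_weight hS p
  have h1 : dd N S p = 0 := by rw [dd, hN]; simp
  have h2 : rk N S p = 0 := by rw [rk, hN]; simp
  rw [h1, h2] at h
  simpa using h

theorem map_pow_le (hS : S.map N ≤ S) : ∀ k : ℕ, S.map (N ^ k) ≤ S := by
  intro k
  induction k with
  | zero => simp [Module.End.one_eq_id]
  | succ k ih =>
    rw [pow_succ']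
    show S.map (N.comp (N ^ k)) ≤ S
    rw [Submodule.map_comp]
    exact (Submodule.map_mono ih).trans hS

theorem rk_add {D R : Submodule F V} (hc : IsCompl D R) (hD : D.map N ≤ D) (hR : R.map N ≤ R) (k : ℕ) :
    rk N ⊤ k = rk N D k + rk N R k := by
  have hd : Disjoint (D.map (N ^ k)) (R.map (N ^ k)) := hc.disjoint.mono (map_pow_le hD k) (map_pow_le hR k)
  have h := Submodule.finrank_sup_add_finrank_inf_eq (D.map (N ^ k)) (R.map (N ^ k))
  rw [hd.eq_bot, finrank_bot, ← Submodule.map_sup, hc.sup_eq_top] at h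
  unfold rk
  omega

theorem cc_le {D R : Submodule F V} (hc : IsCompl D R) (hD : D.map N ≤ D) (hR : R.map N ≤ R) (k : ℕ) :
    cc N D k ≤ cc N ⊤ k := by
  have h1 := rk_succ (N := N) (S := ⊤) k
  have h2 := rk_succ (N := N) (S := ⊤) (k + 1)
  have h3 := rk_succ (N := N) (S := D) k
  have h4 := rk_succ (N := N) (S := D) (k + 1)
  have h5 := rk_succ (N := N) (S := R) k
  have h6 := rk_succ (N := N) (S := R) (k + 1)
  have e0 := rk_add hc hD hR k
  have e1 := rk_add hc hD hR (k + 1)
  have e2 := rk_add hc hD hR (k + 1 + 1)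
  have a1 := dd_antitone hR k
  have a2 := dd_antitone hD k
  unfold cc
  omega

section model

variable {m : ℕ} (L : Fin m → ℕ)

/-- the shift on a union of strings -/
def shift (F : Type*) [Field F] {m : ℕ} (L : Fin m → ℕ) :
    ((Σ i, Fin (L i)) → F) →ₗ[F] ((Σ i, Fin (L i)) → F) where
  toFun v x := if 0 < x.2.val then v ⟨x.1, ⟨x.2.val - 1, by have := x.2.2; omega⟩⟩ else 0
  map_add' u v := by funext x; simp only [Pi.add_apply]; split_ifs <;> simp
  map_smul' c v := by funext x; simp only [Pi.smul_apply, RingHom.id_apply]; split_ifs <;> simp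

theorem shift_pow (k : ℕ) (v : (Σ i, Fin (L i)) → F) (x : Σ i, Fin (L i)) :
    (shift F L ^ k) v x = if k ≤ x.2.val then v ⟨x.1, ⟨x.2.val - k, by have := x.2.2; omega⟩⟩ else 0 := by
  induction k generalizing x with
  | zero => simp
  | succ k ih =>
    rw [pow_succ', Module.End.mul_apply]
    show (if 0 < x.2.val then (shift F L ^ k) v ⟨x.1, ⟨x.2.val - 1, _⟩⟩ else 0) = _
    rw [ih]
    dsimp only
    split_ifs <;> first | rfl | omega | (congr 3; omega)

theorem range_shift_pow (k : ℕ) :
    (⊤ : Submodule F ((Σ i, Fin (L i)) → F)).map (shift F L ^ k) =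
      span F (Pi.basisFun F (Σ i, Fin (L i)) '' {x | k ≤ x.2.val}) := by
  classical
  refine le_antisymm ?_ (span_le.2 ?_)
  · rintro - ⟨v, -, rfl⟩
    rw [← (Pi.basisFun F (Σ i, Fin (L i))).sum_repr ((shift F L ^ k) v)]
    refine sum_mem fun x _ => ?_
    by_cases h : k ≤ x.2.val
    · exact smul_mem _ _ (subset_span ⟨x, h, rfl⟩)
    · rw [Pi.basisFun_repr, shift_pow, if_neg h, zero_smul]; exact zero_mem _
  · rintro - ⟨x, hx, rfl⟩
    refine ⟨Pi.single ⟨x.1, ⟨x.2.val - k, by have := x.2.2; omega⟩⟩ 1, trivial, ?_⟩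
    funext y
    rw [shift_pow, Pi.basisFun_apply]
    obtain ⟨b, s, hs⟩ := x
    obtain ⟨c, r, hr⟩ := y
    have hx' : k ≤ s := hx
    by_cases hbc : c = b
    · subst hbc
      simp only [Pi.single_apply, Sigma.mk.injEq, heq_eq_eq, true_and, Fin.mk.injEq]
      split_ifs <;> first | rfl | omega
    · simp [Pi.single_apply, hbc]

theorem rk_shift (k : ℕ) :
    rk (shift F L) ⊤ k = Nat.card {x : Σ i, Fin (L i) // k ≤ x.2.val} := by
  classical
  rw [rk, range_shift_pow, Set.image_eq_range, Nat.card_eq_fintype_card]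
  exact finrank_span_eq_card ((Pi.basisFun F (Σ i, Fin (L i))).linearIndependent.comp _ Subtype.val_injective)

theorem dd_shift (k : ℕ) : dd (shift F L) ⊤ k = (Finset.univ.filter fun i => k < L i).card := by
  classical
  have h := rk_succ (N := shift F L) (S := ⊤) k
  rw [rk_shift, rk_shift] at h
  have e : Nat.card {x : Σ i, Fin (L i) // k ≤ x.2.val} =
      Nat.card {x : Σ i, Fin (L i) // k + 1 ≤ x.2.val} + Nat.card {i : Fin m // k < L i} := by
    rw [← Nat.card_sum]
    refine Nat.card_congr
      { toFun := fun x => if hx : k + 1 ≤ x.1.2.val then Sum.inl ⟨x.1, hx⟩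
          else Sum.inr ⟨x.1.1, lt_of_le_of_lt x.2 x.1.2.2⟩
        invFun := Sum.elim (fun x => ⟨x.1, le_trans (Nat.le_succ k) x.2⟩) (fun i => ⟨⟨i.1, ⟨k, i.2⟩⟩, le_rfl⟩)
        left_inv := fun x => ?_
        right_inv := fun x => ?_ }
    · obtain ⟨⟨i, s, hs⟩, hx⟩ := x
      by_cases h : k + 1 ≤ s
      · simp [h]
      · have hsk : s = k := by have : k ≤ s := hx; omega
        subst hsk
        simp
    · rcases x with ⟨x, hx⟩ | ⟨i, hi⟩
      · simp [hx]
      · simp
  rw [Nat.card_eq_fintype_card (α := {i : Fin m // k < L i}), Fintype.card_subtype] at e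
  omega

theorem cc_shift (k : ℕ) : cc (shift F L) ⊤ k = (Finset.univ.filter fun i => L i = k + 1).card := by
  classical
  rw [cc, dd_shift, dd_shift]
  have : (Finset.univ.filter fun i => k < L i) =
      (Finset.univ.filter fun i => k + 1 < L i) ∪ (Finset.univ.filter fun i => L i = k + 1) := by
    ext i; simp; omega
  rw [this, Finset.card_union_of_disjoint (Finset.disjoint_filter.2 fun i _ h1 h2 => by omega)]
  omega

end model

end CfsgLib.Lie.NilType
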