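import Cfsg.Agent.Lie.NonMax
import Cfsg.Agent.Lie.Herm

/-!
The symplectic and monomial non-maximality statements.
-/

set_option autoImplicit false
set_option linter.unusedSectionVars false
set_option linter.unusedSimpArgs false

namespace CfsgLib.Lie.NonMax

open Matrix

variable {F : Type*} [Field F] [Fintype F]

theorem sp_two (m : ℕ) (hm : 7 ≤ m) (hq : Fintype.card F = 2) {t : ℕ}
    (D : Fin t → Submodule F (Fin m ⊕ Fin m → F))
    (hD : Cfsg.Geo.IsNondegenerateMDecomposition (Cfsg.sympForm m F) 2 D) :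
    ∃ K : Subgroup (GL (Fin m ⊕ Fin m) F),
      Cfsg.Geo.decompositionStabilizer D ⊓ Cfsg.spGL m F < K ∧ K < Cfsg.spGL m F := by
  classical
  have hi := hD.decomp.indep
  have ht := hD.decomp.iSup_eq_top
  have hdim := hD.decomp.finrank_eq
  have hd := LinearEquiv.finrank_eq (cmp hi ht)
  rw [Module.finrank_fintype_fun_eq_card, Module.finrank_pi_fintype, Finset.sum_congr rfl (fun i _ => hdim i), Finset.sum_const,
    Finset.card_univ, Fintype.card_fin, smul_eq_mul,
    Fintype.card_sum, Fintype.card_fin] at hd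
  refine blocks_nonmax hi ht (Sp.bf m F) hq (by omega) hdim Sp.bf_self
    (fun i j hij u hu v hv => by rw [Sp.bf_eq]; exact hD.orthogonal i j hij u hu v hv)
    (fun i u hu hu0 => by
      obtain ⟨x, hx, hx'⟩ := (hD.nondegenerate i u hu hu0).2
      exact ⟨x, hx, by rwa [Sp.bf_eq]⟩) _ (fun u => ?_)
  intro x y
  rw [← Sp.bf_eq, ← Sp.bf_eq]
  change Sp.bf m F ((btv (Sp.bf m F) Sp.bf_self u : Matrix _ _ F) *ᵥ x) ((btv (Sp.bf m F) Sp.bf_self u : Matrix _ _ F) *ᵥ y) = _
  rw [btv_mulVec, btv_mulVec]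
  simp only [map_add, map_smul, LinearMap.add_apply, LinearMap.smul_apply, smul_eq_mul, Sp.bf_self,
    mul_zero, add_zero]
  rw [Sp.bf_swap u x]
  ring

variable {n t : ℕ} {D : Fin t → Submodule F (Fin n → F)}

theorem lin_two (hn : 13 ≤ n) (hq : Fintype.card F = 2) (hD : Cfsg.Geo.IsMDecomposition 2 D) :
    ∃ K : Subgroup (GL (Fin n) F),
      Cfsg.Geo.decompositionStabilizer D ⊓ Cfsg.Geo.specialLinear (Fin n) F < K ∧
        K < Cfsg.Geo.specialLinear (Fin n) F := by
  classical
  have hi := hD.indep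
  have ht := hD.iSup_eq_top
  have hdim := hD.finrank_eq
  have hd := LinearEquiv.finrank_eq (cmp hi ht)
  rw [Module.finrank_fintype_fun_eq_card, Module.finrank_pi_fintype, Finset.sum_congr rfl (fun i _ => hdim i), Finset.sum_const,
    Finset.card_univ, Fintype.card_fin, smul_eq_mul,
    Fintype.card_fin] at hd
  let c : ∀ i, D i ≃ₗ[F] (Fin 2 → F) := fun i => (Module.finBasisOfFinrankEq F _ (hdim i)).equivFun
  let π : ∀ i, (Fin n → F) →ₗ[F] (Fin 2 → F) := fun i =>
    (c i).toLinearMap.comp ((LinearMap.proj i).comp (cmp hi ht).toLinearMap)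
  let B : (Fin n → F) →ₗ[F] (Fin n → F) →ₗ[F] F :=
    LinearMap.mk₂ F (fun x y => ∑ i, (π i x 0 * π i y 1 - π i x 1 * π i y 0))
      (fun x x' y => by
        rw [← Finset.sum_add_distrib]; exact Finset.sum_congr rfl fun i _ => by simp; ring)
      (fun a x y => by
        simp only [smul_eq_mul, Finset.mul_sum]; exact Finset.sum_congr rfl fun i _ => by simp; ring)
      (fun x y y' => by
        rw [← Finset.sum_add_distrib]; exact Finset.sum_congr rfl fun i _ => by simp; ring)
      (fun a x y => by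
        simp only [smul_eq_mul, Finset.mul_sum]; exact Finset.sum_congr rfl fun i _ => by simp; ring)
  have hB : ∀ x y, B x y = ∑ i, (π i x 0 * π i y 1 - π i x 1 * π i y 0) := fun x y => rfl
  have hπ : ∀ {i : Fin t} {u : Fin n → F} (hu : u ∈ D i) (j : Fin t),
      π j u = if h : j = i then c j ⟨u, h ▸ hu⟩ else 0 := by
    intro i u hu j
    change c j (cmp hi ht u j) = _
    split_ifs with h
    · exact congrArg _ (Subtype.ext (by rw [cmp_of_mem hi ht hu, if_pos h]))
    · rw [show cmp hi ht u j = 0 from Subtype.ext (by rw [cmp_of_mem hi ht hu, if_neg h]; rfl), map_zero]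
  refine blocks_nonmax hi ht B hq (by omega) hdim
    (fun v => by rw [hB]; exact Finset.sum_eq_zero fun i _ => by ring)
    (fun i j hij u hu v hv => by
      rw [hB]
      refine Finset.sum_eq_zero fun k _ => ?_
      by_cases hk : k = i
      · rw [hπ hv k, dif_neg (fun h => hij (hk.symm.trans h))]; simp
      · rw [hπ hu k, dif_neg hk]; simp)
    (fun i u hu hu0 => ?_) _ (fun u => tvGL_mem_SL _ _ _)
  have hBl : ∀ v, v ∈ D i → B u v = π i u 0 * π i v 1 - π i u 1 * π i v 0 := fun v hv => by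
    rw [hB, Finset.sum_eq_single i]
    · intro k _ hk; rw [hπ hu k, dif_neg hk]; simp
    · simp
  have hne : π i u ≠ 0 := fun h => hu0 (by
    rw [hπ hu i, dif_pos rfl, LinearEquiv.map_eq_zero_iff] at h
    exact congrArg Subtype.val h)
  have hv : ∀ w : Fin 2 → F, π i ((c i).symm w : D i) = w := fun w => by
    rw [hπ ((c i).symm w).2 i, dif_pos rfl]; exact (c i).apply_symm_apply w
  by_cases h0 : π i u 0 = 0
  · have h1 : π i u 1 ≠ 0 := fun h1 => hne (funext fun k => by fin_cases k <;> simp [h0, h1])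
    refine ⟨_, ((c i).symm (Pi.single 0 1)).2, ?_⟩
    rw [hBl _ ((c i).symm _).2, hv]
    simp [h0, h1]
  · refine ⟨_, ((c i).symm (Pi.single 1 1)).2, ?_⟩
    rw [hBl _ ((c i).symm _).2, hv]
    simp [h0]

/-- Monomial groups preserve a form in small fields. -/
theorem lin_one (hn : 13 ≤ n) (hq : Fintype.card F ≤ 4) (hD : Cfsg.Geo.IsMDecomposition 1 D) :
    ∃ K : Subgroup (GL (Fin n) F),
      Cfsg.Geo.decompositionStabilizer D ⊓ Cfsg.Geo.specialLinear (Fin n) F < K ∧
        K < Cfsg.Geo.specialLinear (Fin n) F := by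
  classical
  have hi := hD.indep
  have ht := hD.iSup_eq_top
  have hdim := hD.finrank_eq
  have htn : t = n := by
    have hd := LinearEquiv.finrank_eq (cmp hi ht)
    rw [Module.finrank_fintype_fun_eq_card, Module.finrank_pi_fintype, Finset.sum_congr rfl (fun i _ => hdim i), Finset.sum_const,
      Finset.card_univ, Fintype.card_fin, smul_eq_mul, mul_one,
      Fintype.card_fin] at hd
    exact hd.symm
  subst htn
  -- the exponent
  obtain ⟨s, hs2, hs, hone, hc⟩ : ∃ s : ℕ, 1 ≤ s ∧ (∀ x y : F, (x + y) ^ s = x ^ s + y ^ s) ∧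
      (∀ a : F, a ≠ 0 → a * a ^ s = 1) ∧ (6 : F) = 0 := by
    have hlt : 1 < Fintype.card F := Fintype.one_lt_card
    have hpow : ∀ a : F, a ≠ 0 → a ^ (Fintype.card F - 1) = 1 := fun a ha =>
      FiniteField.pow_card_sub_one_eq_one a ha
    have hchar := Nat.cast_card_eq_zero F
    rcases (show Fintype.card F = 2 ∨ Fintype.card F = 3 ∨ Fintype.card F = 4 by omega) with h | h | h <;>
      rw [h] at hpow hchar
    · refine ⟨1, le_rfl, by simp, fun a ha => ?_, ?_⟩
      · have h1 := hpow a ha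
        rw [show a = 1 by simpa using h1]; simp
      · norm_num at hchar; linear_combination (3 : F) * hchar
    · refine ⟨1, le_rfl, by simp, fun a ha => by rw [pow_one, ← pow_two]; exact hpow a ha, ?_⟩
      norm_num at hchar; linear_combination (2 : F) * hchar
    · have hF : Fintype.card F = 2 ^ 2 := h
      refine ⟨2, by norm_num, Herm.add_pow_q hF, fun a ha => by rw [← pow_succ']; exact hpow a ha, ?_⟩
      have h2 : (2 : F) = 0 := by
        norm_num at hchar
        exact mul_self_eq_zero.1 (show (2 : F) * 2 = 0 by linear_combination hchar)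
      linear_combination (3 : F) * h2
  -- frame
  have hne : ∀ i, D i ≠ ⊥ := fun i h => by have := hdim i; rw [h, finrank_bot] at this; omega
  choose e he he0 using fun i => Submodule.exists_mem_ne_zero_of_ne_bot (hne i)
  have hspan : ∀ i, ∀ x ∈ D i, ∃ a : F, x = a • e i := by
    intro i x hx
    obtain ⟨a, ha⟩ := exists_smul_eq_of_finrank_eq_one (hdim i) (x := ⟨e i, he i⟩)
      (fun h => he0 i (congrArg Subtype.val h)) ⟨x, hx⟩
    exact ⟨a, (congrArg Subtype.val ha).symm⟩
  let Bm : Matrix (Fin t) (Fin t) F := Matrix.of fun k i => e i k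
  have hBm : ∀ x : Fin t → F, Bm *ᵥ x = ∑ i, x i • e i := fun x => by
    funext k; simp [Bm, Matrix.mulVec, dotProduct, mul_comm]
  have hinj : Function.Injective fun x => Bm *ᵥ x := by
    intro x y hxy
    funext i
    simp only [hBm] at hxy
    have h1 := cmp_eq hi ht (x := fun j => x j • (⟨e j, he j⟩ : D j)) (v := ∑ j, x j • e j) (by simp)
    have h2 := cmp_eq hi ht (x := fun j => y j • (⟨e j, he j⟩ : D j)) (v := ∑ j, x j • e j) (by simp [hxy])
    have := congrArg Subtype.val (congrFun (h1.symm.trans h2) i)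
    exact smul_left_injective F (he0 i) this
  let Bg : GL (Fin t) F := (Matrix.mulVec_injective_iff_isUnit.1 hinj).unit
  have hBg : ∀ x : Fin t → F, (Bg : Matrix (Fin t) (Fin t) F) *ᵥ x = ∑ i, x i • e i := hBm
  have hBs : ∀ i, (Bg : Matrix (Fin t) (Fin t) F) *ᵥ Pi.single i 1 = e i := fun i => by
    rw [hBg, Finset.sum_eq_single i] <;> simp +contextual
  let conj := (MulAut.conj Bg).toMonoidHom
  let K := (Cfsg.GU t F s).map conj ⊓ Cfsg.Geo.specialLinear (Fin t) F
  have hSL : ∀ g, conj g ∈ Cfsg.Geo.specialLinear (Fin t) F ↔ g ∈ Cfsg.Geo.specialLinear (Fin t) F :=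
    fun g => ⟨fun h => by simpa [conj, Cfsg.Geo.specialLinear] using h,
      fun h => by simpa [conj, Cfsg.Geo.specialLinear] using h⟩
  have hdec : ∀ g, conj g ∈ Cfsg.Geo.decompositionStabilizer D → ∃ (σ : Equiv.Perm (Fin t)) (a : Fin t → F),
      (∀ i, a i ≠ 0) ∧ ∀ i, (g : Matrix (Fin t) (Fin t) F) *ᵥ Pi.single i 1 = a i • Pi.single (σ i) 1 := by
    rintro g ⟨σ, hσ⟩
    have key : ∀ i, ∃ a : F, a ≠ 0 ∧
        (g : Matrix (Fin t) (Fin t) F) *ᵥ Pi.single i 1 = a • Pi.single (σ i) 1 := by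
      intro i
      have hm : (Bg : Matrix (Fin t) (Fin t) F) *ᵥ ((g : Matrix (Fin t) (Fin t) F) *ᵥ Pi.single i 1) ∈ D (σ i) := by
        rw [← hσ i]
        refine ⟨e i, he i, ?_⟩
        rw [Matrix.toLin'_apply, ← hBs i]
        simp only [conj, MulEquiv.coe_toMonoidHom, MulAut.conj_apply, Matrix.mulVec_mulVec, ← Units.val_mul,
          inv_mul_cancel_right]
      obtain ⟨a, ha⟩ := hspan _ _ hm
      have heq : (g : Matrix (Fin t) (Fin t) F) *ᵥ Pi.single i 1 = a • Pi.single (σ i) 1 :=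
        hinj (by
          change (Bg : Matrix (Fin t) (Fin t) F) *ᵥ _ = (Bg : Matrix (Fin t) (Fin t) F) *ᵥ _
          rw [ha, Matrix.mulVec_smul, hBs])
      refine ⟨a, fun h0 => ?_, heq⟩
      rw [h0, zero_smul] at heq
      have hgi : Function.Injective fun x => (g : Matrix (Fin t) (Fin t) F) *ᵥ x :=
        Matrix.mulVec_injective_of_isUnit g.isUnit
      exact one_ne_zero (α := F) (by
        simpa using congrFun (hgi (heq.trans (Matrix.mulVec_zero _).symm)) i)
    choose a ha0 ha using key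
    exact ⟨σ, a, ha0, ha⟩
  have hmono : ∀ g : GL (Fin t) F, conj g ∈ Cfsg.Geo.decompositionStabilizer D → g ∈ Cfsg.GU t F s := by
    intro g hg
    obtain ⟨σ, a, ha0, ha⟩ := hdec g hg
    have hval : ∀ (u : Fin t → F) i, ((g : Matrix (Fin t) (Fin t) F) *ᵥ u) (σ i) = a i * u i := by
      intro u i
      conv_lhs => rw [pi_eq_sum_univ' u, Matrix.mulVec_sum]
      rw [Finset.sum_apply, Finset.sum_eq_single i]
      · rw [Matrix.mulVec_smul, ha]; simp [mul_comm]
      · intro j _ hj
        rw [Matrix.mulVec_smul, ha]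
        simp [σ.injective.ne hj.symm]
      · simp
    intro u v
    change Cfsg.hermForm t F s _ _ = _
    rw [Cfsg.hermForm, Cfsg.hermForm, ← Equiv.sum_comp σ]
    refine Finset.sum_congr rfl fun i _ => ?_
    change ((g : Matrix (Fin t) (Fin t) F) *ᵥ u) (σ i) * (((g : Matrix (Fin t) (Fin t) F) *ᵥ v) (σ i)) ^ s = _
    rw [hval, hval, mul_pow]
    calc a i * u i * (a i ^ s * v i ^ s) = a i * a i ^ s * (u i * v i ^ s) := by ring
      _ = _ := by rw [hone _ (ha0 i), one_mul]
  have hs0 : (0 : F) ^ s = 0 := zero_pow (by omega)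
  refine ⟨K, lt_of_le_of_ne ?_ ?_, lt_of_le_of_ne inf_le_right ?_⟩
  · intro g hg
    refine ⟨⟨(MulAut.conj Bg).symm g, hmono _ ?_, ?_⟩, hg.2⟩
    · change MulAut.conj Bg ((MulAut.conj Bg).symm g) ∈ _
      rw [MulEquiv.apply_symm_apply]; exact hg.1
    · change MulAut.conj Bg ((MulAut.conj Bg).symm g) = g
      rw [MulEquiv.apply_symm_apply]
  · intro heq
    -- x ↦ x + (w ⬝ x) w with w the sum of four basis vectors
    let S : Finset (Fin t) := {i | (i : ℕ) < 4}
    have hS : S.card = 4 := by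
      rw [show S = Finset.Iio (⟨4, by omega⟩ : Fin t) by ext i; simp [S, Fin.lt_def], Fin.card_Iio]
    let w : Fin t → F := fun i => if i ∈ S then 1 else 0
    have hw2 : ∀ i, w i ^ s = w i := fun i => by
      by_cases h : i ∈ S <;> simp [w, h, hs0]
    have hww : w ⬝ᵥ w = 4 := by
      simp [w, dotProduct, hS]
    let M : Matrix (Fin t) (Fin t) F := 1 + vecMulVec w w
    have hM : ∀ x, M *ᵥ x = x + (w ⬝ᵥ x) • w := fun x => by
      simp [M, Matrix.add_mulVec, Matrix.vecMulVec_mulVec]
    have hpowsum : ∀ (S' : Finset (Fin t)) (f : Fin t → F), (∑ i ∈ S', f i) ^ s = ∑ i ∈ S', f i ^ s := by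
      intro S' f
      induction S' using Finset.induction_on with
      | empty => simpa using hs0
      | insert a S' h ih => rw [Finset.sum_insert h, Finset.sum_insert h, hs, ih]
    have hiso : ∀ u v, Cfsg.hermForm t F s (M *ᵥ u) (M *ᵥ v) = Cfsg.hermForm t F s u v := by
      intro u v
      have hd : (w ⬝ᵥ v) ^ s = ∑ i, w i * v i ^ s := by
        rw [dotProduct, hpowsum]
        exact Finset.sum_congr rfl fun i _ => by rw [mul_pow, hw2]
      have e1 : ∀ a b : F, ∑ i, (u i + a * w i) * (v i ^ s + b * w i) =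
          Cfsg.hermForm t F s u v + a * (∑ i, w i * v i ^ s) + b * (w ⬝ᵥ u) + a * b * (w ⬝ᵥ w) := by
        intro a b
        simp only [Cfsg.hermForm, dotProduct, Finset.mul_sum, ← Finset.sum_add_distrib]
        exact Finset.sum_congr rfl fun i _ => by ring
      rw [hM, hM, Cfsg.hermForm]
      have e2 : ∀ i, (v + (w ⬝ᵥ v) • w) i ^ s = v i ^ s + (w ⬝ᵥ v) ^ s * w i := fun i => by
        rw [Pi.add_apply, hs, Pi.smul_apply, smul_eq_mul, mul_pow, hw2]
      simp only [e2]
      simp only [Pi.add_apply, Pi.smul_apply, smul_eq_mul]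
      rw [e1, hd, hww]
      linear_combination ((w ⬝ᵥ u) * ∑ i, w i * v i ^ s) * hc
    have hdet : M.det = 5 := by
      change (1 + vecMulVec w w).det = 5
      rw [Matrix.vecMulVec_eq Unit, Matrix.det_one_add_replicateCol_mul_replicateRow, hww]
      norm_num
    have hdet0 : M.det ≠ 0 := by
      rw [hdet]; intro h; exact one_ne_zero (show (1 : F) = 0 by linear_combination hc - h)
    -- correct the determinant by a diagonal matrix
    let d : Fin t → F := Function.update 1 ⟨0, by omega⟩ M.det⁻¹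
    have hd0 : ∀ i, d i ≠ 0 := fun i => by
      by_cases h : i = ⟨0, by omega⟩
      · simp [d, h, hdet0]
      · simp [d, Function.update_of_ne h]
    let N := diagonal d * M
    have hNdet : N.det = 1 := by
      rw [Matrix.det_mul, Matrix.det_diagonal, Finset.prod_update_of_mem (Finset.mem_univ _)]
      simp [hdet0]
    let g : GL (Fin t) F := Matrix.GeneralLinearGroup.mkOfDetNeZero N (by rw [hNdet]; exact one_ne_zero)
    have hg : g ∈ Cfsg.GU t F s := by
      intro u v
      change Cfsg.hermForm t F s (N *ᵥ u) (N *ᵥ v) = _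
      rw [← Matrix.mulVec_mulVec, ← Matrix.mulVec_mulVec]
      refine Eq.trans ?_ (hiso u v)
      simp only [Cfsg.hermForm, Matrix.mulVec_diagonal]
      refine Finset.sum_congr rfl fun i _ => ?_
      rw [mul_pow]
      calc d i * (M *ᵥ u) i * (d i ^ s * (M *ᵥ v) i ^ s) =
            d i * d i ^ s * ((M *ᵥ u) i * (M *ᵥ v) i ^ s) := by ring
        _ = _ := by rw [hone _ (hd0 i), one_mul]
    have hmem : conj g ∈ K := ⟨⟨g, hg, rfl⟩, (hSL g).2 (MonoidHom.mem_ker.2 (Units.ext hNdet))⟩
    rw [← heq] at hmem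
    obtain ⟨σ, a, ha0, ha⟩ := hdec g hmem.1
    have hcol : ∀ j : Fin t, j ∈ S → j ≠ ⟨0, by omega⟩ →
        (N *ᵥ Pi.single ⟨0, by omega⟩ 1) j = d j := by
      intro j hj hj0
      rw [← Matrix.mulVec_mulVec, Matrix.mulVec_diagonal, hM]
      have hj' : (j : ℕ) < 4 := by simpa [S] using hj
      simp [Pi.single_eq_of_ne hj0, dotProduct_single, w, hj', S, show (0 : ℕ) < 4 by norm_num]
    have h1 := hcol ⟨1, by omega⟩ (by simp [S]) (by simp)
    have h2 := hcol ⟨2, by omega⟩ (by simp [S]) (by simp)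
    have hh := ha ⟨0, by omega⟩
    change N *ᵥ _ = _ at hh
    rw [hh] at h1 h2
    simp only [Pi.smul_apply, smul_eq_mul] at h1 h2
    by_cases h : (⟨1, by omega⟩ : Fin t) = σ ⟨0, by omega⟩
    · rw [← h, Pi.single_eq_of_ne (by simp), mul_zero] at h2
      exact hd0 _ h2.symm
    · rw [Pi.single_eq_of_ne h, mul_zero] at h1
      exact hd0 _ h1.symm
  · intro heq
    let g : GL (Fin t) F := tvGL (Pi.single ⟨0, by omega⟩ 1) (Pi.single ⟨1, by omega⟩ 1) (by simp)
    have hg : conj g ∈ K := heq.symm ▸ (hSL g).2 (tvGL_mem_SL _ _ _)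
    obtain ⟨g', hg', hgg⟩ := hg.1
    have : g' = g := (MulAut.conj Bg).injective hgg
    subst this
    have h := hg' (Pi.single ⟨1, by omega⟩ 1) (Pi.single ⟨1, by omega⟩ 1)
    change Cfsg.hermForm t F s ((g : Matrix (Fin t) (Fin t) F) *ᵥ _) ((g : Matrix (Fin t) (Fin t) F) *ᵥ _) = _ at h
    rw [tvGL_mulVec] at h
    simp only [dotProduct_single, Pi.single_eq_same, mul_one, one_smul, Cfsg.hermForm,
      Pi.add_apply] at h
    have h1 : ∀ i : Fin t, ((Pi.single ⟨1, by omega⟩ 1 : Fin t → F) i + (Pi.single ⟨0, by omega⟩ 1 : Fin t → F) i) *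
        ((Pi.single ⟨1, by omega⟩ 1 : Fin t → F) i + (Pi.single ⟨0, by omega⟩ 1 : Fin t → F) i) ^ s =
        (Pi.single ⟨1, by omega⟩ 1 : Fin t → F) i + (Pi.single ⟨0, by omega⟩ 1 : Fin t → F) i := fun i => by
      by_cases h1 : i = ⟨1, by omega⟩
      · subst h1; simp
      · by_cases h0 : i = ⟨0, by omega⟩
        · subst h0; simp
        · simp [h1, h0]
    rw [Finset.sum_congr rfl (fun i _ => h1 i), Finset.sum_add_distrib, Finset.sum_pi_single'] at h
    simp [Pi.single_apply, hs0] at h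

end CfsgLib.Lie.NonMax
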