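import Cfsg.Agent.Lie.NonMax
import Cfsg.Agent.Lie.Orders
import Cfsg.Agent.Lie.Herm

/-!
Tensor and unitary non-maximality over the smallest fields.
-/

set_option autoImplicit false
set_option linter.unusedSectionVars false
set_option linter.unusedSimpArgs false

namespace CfsgLib.Lie.NonMax

open Matrix
open scoped Kronecker

variable {F : Type*} [Field F] [Fintype F]

theorem tensor_two (n : ℕ) (hn : 13 ≤ n) (hq : Fintype.card F = 2) (n₂ : ℕ) (e : Fin n ≃ Fin 2 × Fin n₂)
    (P : GL (Fin n) F) : ∃ K : Subgroup (GL (Fin n) F),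
      Cfsg.Geo.tensorProductSubgroup 2 n₂ e P ⊓ Cfsg.Geo.specialLinear (Fin n) F < K ∧
        K < Cfsg.Geo.specialLinear (Fin n) F := by
  classical
  have h2 := two_eq_zero hq
  have hn2 : 2 ≤ n₂ := by
    have := Fintype.card_congr e
    simp at this; omega
  have hSL : Cfsg.Geo.specialLinear (Fin n) F = ⊤ := by
    refine eq_top_iff.2 fun g _ => MonoidHom.mem_ker.2 (Units.ext ?_)
    exact (eq01 hq _).resolve_left (Units.ne_zero _)
  rw [hSL, inf_top_eq]
  -- the element of order three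
  let ω : GL (Fin 2) F := ⟨!![0, 1; 1, 1], !![1, 1; 1, 0],
    by ext i j; fin_cases i <;> fin_cases j <;> simp [Matrix.mul_apply, Fin.sum_univ_two] <;> linear_combination h2,
    by ext i j; fin_cases i <;> fin_cases j <;> simp [Matrix.mul_apply, Fin.sum_univ_two] <;> linear_combination h2⟩
  have hZ : (Subgroup.zpowers ω).Normal := by
    refine Subgroup.normal_of_index_eq_two ?_
    have hord : orderOf ω = 3 := orderOf_eq_prime (Units.ext (by
      rw [pow_succ, pow_two, Units.val_mul, Units.val_mul, Units.val_one]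
      change !![(0 : F), 1; 1, 1] * !![(0 : F), 1; 1, 1] * !![(0 : F), 1; 1, 1] = 1
      ext i j; fin_cases i <;> fin_cases j <;>
        simp [Matrix.mul_apply, Fin.sum_univ_two] <;> linear_combination h2)) (fun h => by
      have h' : (ω : Matrix (Fin 2) (Fin 2) F) 0 1 = (1 : Matrix (Fin 2) (Fin 2) F) 0 1 := by rw [h]; rfl
      simp [ω] at h')
    have hc : Nat.card (GL (Fin 2) F) = 6 := by
      rw [Orders.card_GL_fin hq 2]
      simp [Fin.prod_univ_two]
    have h := (Subgroup.zpowers ω).card_mul_index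
    rw [Nat.card_zpowers, hord, hc] at h
    omega
  let φ : GL (Fin 2) F →* GL (Fin 2 × Fin n₂) F := Units.map
    { toFun := fun a : Matrix (Fin 2) (Fin 2) F => a ⊗ₖ (1 : Matrix (Fin n₂) (Fin n₂) F)
      map_one' := Matrix.one_kronecker_one
      map_mul' := fun a b => by rw [← Matrix.mul_kronecker_mul, Matrix.one_mul] }
  let ψ : GL (Fin n₂) F →* GL (Fin 2 × Fin n₂) F := Units.map
    { toFun := fun b : Matrix (Fin n₂) (Fin n₂) F => (1 : Matrix (Fin 2) (Fin 2) F) ⊗ₖ b
      map_one' := Matrix.one_kronecker_one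
      map_mul' := fun a b => by rw [← Matrix.mul_kronecker_mul, Matrix.one_mul] }
  have hφψ : ∀ a b, φ a * ψ b = ψ b * φ a := fun a b => Units.ext (by
    change ((a : Matrix (Fin 2) (Fin 2) F) ⊗ₖ 1) * (1 ⊗ₖ (b : Matrix (Fin n₂) (Fin n₂) F)) = (1 ⊗ₖ _) * (_ ⊗ₖ 1)
    rw [← Matrix.mul_kronecker_mul, ← Matrix.mul_kronecker_mul, Matrix.mul_one, Matrix.one_mul,
      Matrix.mul_one, Matrix.one_mul])
  let Z := (Subgroup.zpowers ω).map φ
  let N := Subgroup.normalizer (Z : Set (GL (Fin 2 × Fin n₂) F))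
  have hle : Cfsg.Geo.kroneckerSubgroup 2 n₂ F ≤ N := by
    rintro g ⟨a, b, hg⟩
    have hgab : g = φ a * ψ b := Units.ext (by
      rw [hg]
      change _ = ((a : Matrix (Fin 2) (Fin 2) F) ⊗ₖ 1) * (1 ⊗ₖ (b : Matrix (Fin n₂) (Fin n₂) F))
      rw [← Matrix.mul_kronecker_mul, Matrix.mul_one, Matrix.one_mul])
    rw [hgab]
    refine mul_mem ?_ ?_
    · exact Subgroup.le_normalizer_map φ ⟨a, by rw [Subgroup.normalizer_eq_top]; trivial, rfl⟩
    · rw [Subgroup.mem_normalizer_iff]
      intro z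
      constructor
      · rintro ⟨c, hc, rfl⟩
        exact ⟨c, hc, by rw [← hφψ, mul_inv_cancel_right]⟩
      · rintro ⟨c, hc, hcz⟩
        refine ⟨c, hc, ?_⟩
        rw [← mul_right_cancel_iff (a := (ψ b)⁻¹), ← mul_left_cancel_iff (a := ψ b), ← mul_assoc (ψ b) z, ← hcz,
          ← mul_assoc, ← hφψ, mul_inv_cancel_right]
  let j0 : Fin n₂ := ⟨0, by omega⟩
  let j1 : Fin n₂ := ⟨1, by omega⟩
  have hj : j0 ≠ j1 := by simp [j0, j1]
  let E0 : Matrix (Fin n₂) (Fin n₂) F := diagonal fun j => if j = j0 then 1 else 0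
  let E1 : Matrix (Fin n₂) (Fin n₂) F := diagonal fun j => if j = j0 then 0 else 1
  have e00 : E0 * E0 = E0 := by simp [E0]
  have e11 : E1 * E1 = E1 := by simp [E1]
  have e01 : E0 * E1 = 0 := by
    simp only [E0, E1, Matrix.diagonal_mul_diagonal]
    refine Matrix.diagonal_eq_zero.2 ?_
    funext j; by_cases h : j = j0 <;> simp [h]
  have e10 : E1 * E0 = 0 := by
    simp only [E0, E1, Matrix.diagonal_mul_diagonal]
    refine Matrix.diagonal_eq_zero.2 ?_
    funext j; by_cases h : j = j0 <;> simp [h]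
  have esum : E0 + E1 = 1 := by
    simp only [E0, E1, Matrix.diagonal_add]
    rw [← Matrix.diagonal_one]
    congr 1; funext j; by_cases h : j = j0 <;> simp [h]
  let A : GL (Fin 2 × Fin n₂) F :=
    ⟨(ω : Matrix (Fin 2) (Fin 2) F) ⊗ₖ E0 + (1 : Matrix (Fin 2) (Fin 2) F) ⊗ₖ E1,
      ((ω⁻¹ : GL (Fin 2) F) : Matrix (Fin 2) (Fin 2) F) ⊗ₖ E0 + (1 : Matrix (Fin 2) (Fin 2) F) ⊗ₖ E1,
      by
        simp only [Matrix.add_mul, Matrix.mul_add, ← Matrix.mul_kronecker_mul, e00, e11, e01, e10,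
          Matrix.kronecker_zero, Matrix.mul_one, add_zero, zero_add, Units.mul_inv]
        rw [← Matrix.kronecker_add, esum, Matrix.one_kronecker_one],
      by
        simp only [Matrix.add_mul, Matrix.mul_add, ← Matrix.mul_kronecker_mul, e00, e11, e01, e10,
          Matrix.kronecker_zero, Matrix.mul_one, add_zero, zero_add, Units.inv_mul]
        rw [← Matrix.kronecker_add, esum, Matrix.one_kronecker_one]⟩
  have hA : A ∈ N := by
    rw [Subgroup.mem_normalizer_iff]
    have hc : ∀ z ∈ Z, A * z = z * A := by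
      rintro _ ⟨c, ⟨k, rfl⟩, rfl⟩
      have h1 : A * φ ω = φ ω * A := Units.ext (by
        change ((ω : Matrix (Fin 2) (Fin 2) F) ⊗ₖ E0 + (1 : Matrix (Fin 2) (Fin 2) F) ⊗ₖ E1) *
            ((ω : Matrix (Fin 2) (Fin 2) F) ⊗ₖ (1 : Matrix (Fin n₂) (Fin n₂) F)) =
          ((ω : Matrix (Fin 2) (Fin 2) F) ⊗ₖ (1 : Matrix (Fin n₂) (Fin n₂) F)) *
            ((ω : Matrix (Fin 2) (Fin 2) F) ⊗ₖ E0 + (1 : Matrix (Fin 2) (Fin 2) F) ⊗ₖ E1)
        simp only [Matrix.add_mul, Matrix.mul_add, ← Matrix.mul_kronecker_mul, Matrix.mul_one, Matrix.one_mul])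
      rw [map_zpow]
      exact ((show Commute A (φ ω) from h1).zpow_right k).eq
    intro z
    constructor
    · intro hz; rw [hc z hz, mul_inv_cancel_right]; exact hz
    · intro hz
      have h := hc _ hz
      have : A * z * A⁻¹ = z := mul_left_cancel (h.trans (by rw [inv_mul_cancel_right]))
      rwa [this] at hz
  have hAk : A ∉ Cfsg.Geo.kroneckerSubgroup 2 n₂ F := by
    rintro ⟨a, b, hab⟩
    change (ω : Matrix (Fin 2) (Fin 2) F) ⊗ₖ E0 + 1 ⊗ₖ E1 = _ at hab
    have h1 := congrFun (congrFun hab (0, j0)) (1, j0)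
    have h2' := congrFun (congrFun hab (0, j1)) (1, j1)
    have h3 := congrFun (congrFun hab (0, j1)) (0, j1)
    simp [Matrix.kroneckerMap_apply, E0, E1, ω, hj.symm] at h1 h2' h3
    rcases h2' with h | h
    · rw [h, zero_mul] at h1; exact one_ne_zero h1
    · rw [h, mul_zero] at h3; exact one_ne_zero h3
  let T : GL (Fin 2 × Fin n₂) F := tvGL (Pi.single (0, j0) 1) (Pi.single (0, j1) 1) (by simp [hj.symm])
  have hT : T ∉ N := by
    intro hT
    obtain ⟨c, -, hc⟩ := (Subgroup.mem_normalizer_iff.1 hT (φ ω)).1 ⟨ω, Subgroup.mem_zpowers ω, rfl⟩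
    rw [eq_mul_inv_iff_mul_eq] at hc
    let M : Matrix (Fin 2 × Fin n₂) (Fin 2 × Fin n₂) F :=
      1 + vecMulVec (Pi.single (0, j0) 1) (Pi.single (0, j1) 1)
    let K1 : Matrix (Fin 2 × Fin n₂) (Fin 2 × Fin n₂) F := (c : Matrix (Fin 2) (Fin 2) F) ⊗ₖ (1 : Matrix (Fin n₂) (Fin n₂) F)
    let K2 : Matrix (Fin 2 × Fin n₂) (Fin 2 × Fin n₂) F := (ω : Matrix (Fin 2) (Fin 2) F) ⊗ₖ (1 : Matrix (Fin n₂) (Fin n₂) F)
    have hc' : K1 * M = M * K2 := congrArg Units.val hc
    have h : (K1 * M) (0, j0) (1, j1) = (M * K2) (0, j0) (1, j1) := by rw [hc']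
    simp only [M, K1, K2] at h
    rw [Matrix.mul_add, Matrix.add_mul, Matrix.mul_one, Matrix.one_mul, Matrix.add_apply, Matrix.add_apply,
      Matrix.mul_vecMulVec, Matrix.vecMulVec_mul, Matrix.vecMulVec_apply, Matrix.vecMulVec_apply] at h
    simp [Matrix.kroneckerMap_apply, Matrix.one_apply, hj, hj.symm, ω] at h
  let Φ : GL (Fin 2 × Fin n₂) F ≃* GL (Fin n) F := (Cfsg.Geo.glReindex e.symm).trans (MulAut.conj P)
  have hH : Cfsg.Geo.tensorProductSubgroup 2 n₂ e P =
      (Cfsg.Geo.kroneckerSubgroup 2 n₂ F).map Φ.toMonoidHom := by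
    rw [Cfsg.Geo.tensorProductSubgroup, Subgroup.map_map]; rfl
  refine ⟨N.map Φ.toMonoidHom, ?_, ?_⟩
  · rw [hH]
    exact (Subgroup.map_lt_map_iff_of_injective Φ.injective).2 (lt_of_le_not_ge hle fun h => hAk (h hA))
  · refine lt_top_iff_ne_top.2 fun h => hT ?_
    obtain ⟨x, hx, hxT⟩ := (h.symm ▸ Subgroup.mem_top (Φ T) : Φ T ∈ N.map Φ.toMonoidHom)
    exact Φ.injective hxT ▸ hx

theorem unitary_two (n : ℕ) (hF : Fintype.card F = 4) (hn : 13 ≤ n) {t : ℕ}
    (D : Fin t → Submodule F (Fin n → F))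
    (hD : Cfsg.Geo.IsNondegenerateMDecomposition (Cfsg.hermForm n F 2) 2 D) :
    ∃ K : Subgroup (GL (Fin n) F),
      Cfsg.Geo.decompositionStabilizer D ⊓ (Cfsg.GU n F 2 ⊓ Cfsg.Geo.specialLinear (Fin n) F) < K ∧
        K < (Cfsg.GU n F 2 ⊓ Cfsg.Geo.specialLinear (Fin n) F) := by
  classical
  have hF2 : Fintype.card F = 2 ^ 2 := hF
  have hi := hD.decomp.indep
  have ht := hD.decomp.iSup_eq_top
  have hdim := hD.decomp.finrank_eq
  have ht7 : 7 ≤ t := by
    have hd := LinearEquiv.finrank_eq (cmp hi ht)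
    rw [Module.finrank_fintype_fun_eq_card, Module.finrank_pi_fintype, Finset.sum_congr rfl (fun i _ => hdim i),
      Finset.sum_const, Finset.card_univ, Fintype.card_fin, smul_eq_mul, Fintype.card_fin] at hd
    omega
  have h2 : (2 : F) = 0 := by
    have := Nat.cast_card_eq_zero F
    rw [hF] at this
    norm_num at this
    exact mul_self_eq_zero.1 (show (2 : F) * 2 = 0 by linear_combination this)
  set h := Cfsg.hermForm n F 2 with hh
  have hsm : ∀ (a : F) x y, h (a • x) y = a * h x y := fun a x y => Herm.form_smul_left a x y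
  have hsr : ∀ (a : F) x y, h x (a • y) = a ^ 2 * h x y := fun a x y => Herm.form_smul_right a x y
  have hal : ∀ x y z, h (x + y) z = h x z + h y z := fun x y z => Herm.form_add_left x y z
  have har : ∀ x y z, h x (y + z) = h x y + h x z := fun x y z => Herm.form_add_right hF2 x y z
  have hcomm : ∀ x y, h x y ^ 2 = h y x := fun x y => Herm.form_comm hF2 x y
  have h01 : ∀ c : F, c ^ 2 = c → c = 0 ∨ c = 1 := fun c hc => by
    rcases mul_eq_zero.1 (show c * (c - 1) = 0 by linear_combination hc) with h' | h'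
    · exact Or.inl h'
    · exact Or.inr (sub_eq_zero.1 h')
  have hortho : ∀ i j, i ≠ j → ∀ u ∈ D i, ∀ v ∈ D j, h u v = 0 := hD.orthogonal
  have hex : ∀ i, ∃ e ∈ D i, h e e = 1 := by
    intro i
    by_contra hcon
    push Not at hcon
    have hiso : ∀ v ∈ D i, h v v = 0 := fun v hv => (h01 _ (hcomm v v)).resolve_right (hcon v hv)
    obtain ⟨u, hu, hu0⟩ := Submodule.exists_mem_ne_zero_of_ne_bot (fun hb : D i = ⊥ => by
      have := hdim i; rw [hb, finrank_bot] at this; omega)
    obtain ⟨x, hx, hux⟩ := (hD.nondegenerate i u hu hu0).2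
    obtain ⟨k, hk⟩ := Witt.exists_trace (Herm.conj hF2) (Herm.conj_ne_id hF2) (Herm.conj_conj hF2) 1 (map_one _)
    have := hiso (u + (k * (h u x)⁻¹) ^ 2 • x) (add_mem hu (Submodule.smul_mem _ _ hx))
    rw [hal, har, har, hsm, hsm, hsr, hsr, hiso u hu, hiso x hx, ← hcomm u x, Herm.conj_apply] at *
    rw [Herm.pow_pow_q hF2] at this
    have e1 : k * (h u x)⁻¹ * h u x = k := by rw [mul_assoc, inv_mul_cancel₀ hux, mul_one]
    have e2 : (k * (h u x)⁻¹) ^ 2 * h u x ^ 2 = k ^ 2 := by rw [← mul_pow, e1]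
    exact one_ne_zero (show (1 : F) = 0 by linear_combination this - e1 - e2 - hk)
  choose e heD he using hex
  have he0 : ∀ i, e i ≠ 0 := fun i h0 => by
    have := he i; rw [h0, ← zero_smul F (0 : Fin n → F), hsm, zero_mul] at this; exact zero_ne_one this
  -- norm-one vectors of the blocks
  let S : Set (Fin n → F) := {v | ∃ i, v ∈ D i ∧ h v v = 1}
  have hfr : ∀ i, ∀ s ∈ D i, h s s = 1 → (∃ a : F, s = a • e i) ∨ h s (e i) = 0 := by
    intro i s hs hs1
    refine or_iff_not_imp_right.2 fun hne => ⟨h s (e i), ?_⟩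
    set a := h s (e i) with ha
    have hNa : a * a ^ 2 = 1 := by
      have := FiniteField.pow_card_sub_one_eq_one a hne
      rw [hF] at this
      rw [← pow_succ']; exact this
    have hres : h (e i) s = a ^ 2 := (hcomm s (e i)).symm
    set r := s + a • e i with hr
    have hre : h r (e i) = 0 := by rw [hr, hal, hsm, he, ← ha]; linear_combination a * h2
    have hrr : h r r = 0 := by
      rw [hr, hal, har, har, hsm, hsm, hsr, hsr, he, hs1, hres, ← ha]
      linear_combination 2 * h2 + 3 * hNa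
    by_cases hr0 : r = 0
    · have : s = s + a • e i + a • e i := by rw [add_assoc, ← add_smul, ← two_mul, h2, zero_mul, zero_smul, add_zero]
      rw [← hr, hr0, zero_add] at this
      exact this
    · exfalso
      have hrD : r ∈ D i := add_mem hs (Submodule.smul_mem _ _ (heD i))
      have her : h (e i) r = 0 := by rw [← hcomm r (e i), hre, zero_pow two_ne_zero]
      have hli : LinearIndependent F ![(⟨e i, heD i⟩ : D i), ⟨r, hrD⟩] := by
        rw [LinearIndependent.pair_iff]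
        intro c d hcd
        have hcd' : c • e i + d • r = 0 := congrArg Subtype.val hcd
        have hc : c = 0 := by
          have h' := congrArg (fun x => h x (e i)) hcd'
          rw [hal, hsm, hsm, he, hre, ← zero_smul F (e i), hsm] at h'
          linear_combination h'
        rw [hc, zero_smul, zero_add] at hcd'
        exact ⟨hc, (smul_eq_zero.1 hcd').resolve_right hr0⟩
      have hsp := hli.span_eq_top_of_card_eq_finrank' (by rw [Fintype.card_fin, hdim])
      obtain ⟨x, hx, hrx⟩ := (hD.nondegenerate i r hrD hr0).2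
      have hm : (⟨x, hx⟩ : D i) ∈ Submodule.span F (Set.range ![(⟨e i, heD i⟩ : D i), ⟨r, hrD⟩]) :=
        hsp ▸ Submodule.mem_top
      obtain ⟨c, hc⟩ := (Submodule.mem_span_range_iff_exists_fun F).1 hm
      have hc' := congrArg Subtype.val hc
      simp [Fin.sum_univ_two] at hc'
      exact hrx (by rw [← hc', har, hsr, hsr, hre, hrr]; ring)
  have htv : ∀ u : Fin n → F, h u u = 0 → ∃ g ∈ Cfsg.GU n F 2 ⊓ Cfsg.Geo.specialLinear (Fin n) F,
      ∀ x, (g : Matrix (Fin n) (Fin n) F) *ᵥ x = x + h x u • u := by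
    intro u hu
    have hdot : ∀ x, (fun j => u j ^ 2) ⬝ᵥ x = h x u := fun x => by
      simp [hh, Cfsg.hermForm, dotProduct, mul_comm]
    let g := tvGL u (fun j => u j ^ 2) (by rw [hdot]; exact hu)
    have hgx : ∀ x, (g : Matrix (Fin n) (Fin n) F) *ᵥ x = x + h x u • u := fun x => by
      rw [tvGL_mulVec, hdot]
    refine ⟨g, ⟨fun x y => ?_, tvGL_mem_SL _ _ _⟩, hgx⟩
    change h ((g : Matrix (Fin n) (Fin n) F) *ᵥ x) ((g : Matrix (Fin n) (Fin n) F) *ᵥ y) = _
    rw [hgx, hgx, hal, har, har, hsm, hsm, hsr, hsr, hu, hcomm y u]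
    linear_combination h x u * h u y * h2
  let i0 : Fin t := ⟨0, by omega⟩
  let i1 : Fin t := ⟨1, by omega⟩
  let i2 : Fin t := ⟨2, by omega⟩
  let i3 : Fin t := ⟨3, by omega⟩
  have d01 : i0 ≠ i1 := by simp [i0, i1]
  have d02 : i0 ≠ i2 := by simp [i0, i2]
  have d03 : i0 ≠ i3 := by simp [i0, i3]
  have d12 : i1 ≠ i2 := by simp [i1, i2]
  have d13 : i1 ≠ i3 := by simp [i1, i3]
  have d23 : i2 ≠ i3 := by simp [i2, i3]
  have ho : ∀ {i j}, i ≠ j → h (e i) (e j) = 0 := fun hij => hortho _ _ hij _ (heD _) _ (heD _)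
  let K := Cfsg.stabilizing (Units.coeHom (Matrix (Fin n) (Fin n) F)) S ⊓
    (Cfsg.GU n F 2 ⊓ Cfsg.Geo.specialLinear (Fin n) F)
  refine ⟨K, lt_of_le_of_ne ?_ ?_, lt_of_le_of_ne inf_le_right ?_⟩
  · intro g hg
    refine ⟨fun v => ⟨?_, ?_⟩, hg.2⟩
    · obtain ⟨σ, hσ⟩ := hg.1
      rintro ⟨i, hv, hv1⟩
      exact ⟨σ i, hσ i ▸ ⟨v, hv, Matrix.toLin'_apply _ _⟩, (hg.2.1 v v).trans hv1⟩
    · obtain ⟨σ, hσ⟩ := (Cfsg.Geo.decompositionStabilizer D).inv_mem hg.1
      rintro ⟨i, hv, hv1⟩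
      refine ⟨σ i, ?_, (hg.2.1 v v).symm.trans hv1⟩
      rw [← hσ i]
      refine ⟨_, hv, ?_⟩
      rw [Matrix.toLin'_apply]
      change ((g⁻¹ : GL (Fin n) F) : Matrix (Fin n) (Fin n) F) *ᵥ ((g : Matrix (Fin n) (Fin n) F) *ᵥ v) = v
      rw [Matrix.mulVec_mulVec, ← Units.val_mul, inv_mul_cancel, Units.val_one, Matrix.one_mulVec]
  · intro heq
    set u := e i0 + e i1 with hu
    obtain ⟨g, hg, hgx⟩ := htv u (by
      rw [hu, hal, har, har, he, he, ho d01, ho d01.symm]; linear_combination h2)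
    have hmap0 : (g : Matrix (Fin n) (Fin n) F) *ᵥ e i0 = e i1 := by
      rw [hgx, hu, har, he, ho d01, add_zero, one_smul, ← add_assoc, ← two_smul F, h2, zero_smul, zero_add]
    have hmap1 : (g : Matrix (Fin n) (Fin n) F) *ᵥ e i1 = e i0 := by
      rw [hgx, hu, har, he, ho d01.symm, zero_add, one_smul, add_comm (e i1), add_assoc, ← two_smul F, h2,
        zero_smul, add_zero]
    have hfix : ∀ v ∈ S, (g : Matrix (Fin n) (Fin n) F) *ᵥ v ∈ S := by
      rintro v ⟨i, hv, hv1⟩
      by_cases hc : (∃ a : F, v = a • e i0) ∨ ∃ a : F, v = a • e i1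
      · rcases hc with ⟨a, rfl⟩ | ⟨a, rfl⟩
        · refine ⟨i1, ?_, (hg.1 _ _).trans hv1⟩
          rw [Matrix.mulVec_smul, hmap0]; exact Submodule.smul_mem _ _ (heD _)
        · refine ⟨i0, ?_, (hg.1 _ _).trans hv1⟩
          rw [Matrix.mulVec_smul, hmap1]; exact Submodule.smul_mem _ _ (heD _)
      · rw [not_or] at hc
        have z0 : h v (e i0) = 0 := by
          by_cases hi0 : i = i0
          · subst hi0; exact (hfr _ v hv hv1).resolve_left hc.1
          · exact hortho i i0 hi0 v hv _ (heD _)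
        have z1 : h v (e i1) = 0 := by
          by_cases hi1 : i = i1
          · subst hi1; exact (hfr _ v hv hv1).resolve_left hc.2
          · exact hortho i i1 hi1 v hv _ (heD _)
        refine ⟨i, ?_, (hg.1 _ _).trans hv1⟩
        rw [hgx, hu, har, z0, z1, add_zero, zero_smul, add_zero]
        exact hv
    have hinv : ∀ v, (g : Matrix (Fin n) (Fin n) F) *ᵥ ((g : Matrix (Fin n) (Fin n) F) *ᵥ v) = v := by
      intro v
      rw [hgx v, hgx]
      rw [hal, hsm, show h u u = 0 by rw [hu, hal, har, har, he, he, ho d01, ho d01.symm]; linear_combination h2,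
        mul_zero, add_zero, add_assoc, ← add_smul, ← two_mul, h2, zero_mul, zero_smul, add_zero]
    have hmem : g ∈ K := ⟨fun v => ⟨hfix v, fun hv => hinv v ▸ hfix _ hv⟩, hg⟩
    rw [← heq] at hmem
    -- the partner of e i0 stays, e i0 moves
    obtain ⟨x, hx, hx1, hxe⟩ : ∃ x ∈ D i0, x ≠ 0 ∧ h x (e i0) = 0 := by
      have : ∃ y ∈ D i0, ∀ a : F, y ≠ a • e i0 := by
        by_contra hcon
        push Not at hcon
        have hle : D i0 ≤ Submodule.span F {e i0} := fun y hy => by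
          obtain ⟨a, rfl⟩ := hcon y hy
          exact Submodule.smul_mem _ _ (Submodule.mem_span_singleton_self _)
        have := Submodule.finrank_mono hle
        rw [hdim, finrank_span_singleton (he0 _)] at this
        omega
      obtain ⟨y, hy, hy'⟩ := this
      refine ⟨y + h y (e i0) • e i0, add_mem hy (Submodule.smul_mem _ _ (heD _)), fun h0 => hy' (h y (e i0)) ?_, ?_⟩
      · calc y = y + h y (e i0) • e i0 + h y (e i0) • e i0 := by
              rw [add_assoc, ← add_smul, ← two_mul, h2, zero_mul, zero_smul, add_zero]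
          _ = _ := by rw [h0, zero_add]
      · rw [hal, hsm, he, mul_one]; linear_combination h y (e i0) * h2
    have hgx' : (g : Matrix (Fin n) (Fin n) F) *ᵥ x = x := by
      rw [hgx, hu, har, hxe, hortho i0 i1 d01 x hx _ (heD _), add_zero, zero_smul, add_zero]
    refine not_perm hi ht (g := g) (add_mem hx (heD i0)) d01 ?_ ?_ hmem.1
    all_goals rw [Matrix.mulVec_add, hgx', hmap0, map_add, Pi.add_apply, Submodule.coe_add,
      cmp_of_mem hi ht hx, cmp_of_mem hi ht (heD i1)]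
    · rw [if_pos rfl, if_neg d01, add_zero]; exact hx1
    · rw [if_neg d01.symm, if_pos rfl, zero_add]; exact he0 _
  · intro heq
    set u := e i0 + e i1 + (e i2 + e i3) with hu
    obtain ⟨g, hg, hgx⟩ := htv u (by
      simp only [hu, hal, har, he, ho d01, ho d01.symm, ho d02, ho d02.symm, ho d03, ho d03.symm, ho d12,
        ho d12.symm, ho d13, ho d13.symm, ho d23, ho d23.symm]
      linear_combination 2 * h2)
    have hmem : g ∈ K := heq.symm ▸ hg
    obtain ⟨i, hv, -⟩ := (hmem.1 (e i0)).1 ⟨i0, heD _, he _⟩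
    change (g : Matrix (Fin n) (Fin n) F) *ᵥ e i0 ∈ D i at hv
    have hval : (g : Matrix (Fin n) (Fin n) F) *ᵥ e i0 = e i1 + (e i2 + e i3) := by
      rw [hgx]
      rw [show h (e i0) u = 1 by simp only [hu, har, he, ho d01, ho d02, ho d03, add_zero]]
      rw [one_smul, hu, ← add_assoc, ← add_assoc (e i0), ← two_smul F (e i0), h2, zero_smul, zero_add]
    rw [hval] at hv
    have c1 := cmp_of_mem hi ht hv i1
    have c2 := cmp_of_mem hi ht hv i2
    simp only [map_add, Pi.add_apply, Submodule.coe_add, cmp_of_mem hi ht (heD i1), cmp_of_mem hi ht (heD i2),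
      cmp_of_mem hi ht (heD i3), if_neg d12, if_neg d13, if_neg d12.symm, if_neg d23, if_true, add_zero,
      zero_add] at c1 c2
    by_cases hi1 : i1 = i
    · rw [if_neg (fun h' => d12 (hi1.trans h'.symm))] at c2; exact he0 _ c2
    · rw [if_neg hi1] at c1; exact he0 _ c1

end CfsgLib.Lie.NonMax
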