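import Cfsg.Agent.Lie.OrthSimple

/-!
The centraliser of the group of root elements at a point, and a lower bound for conjugacy classes meeting it
(odd dimension).
-/

set_option autoImplicit false
set_option linter.unusedSimpArgs false
set_option linter.unusedSectionVars false

namespace CfsgLib.Lie.OrthCent

open Matrix QuadraticMap
open CfsgLib.Lie.Refl (act act_mul act_one act_inv act_inj act_Q act_polar act_ext)
open CfsgLib.Lie.OrthChar (map_add')
open CfsgLib.Lie.OrthRoot CfsgLib.Lie.OrthSimple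

variable {F : Type*} [Field F] [Fintype F] {ι : Type} [Fintype ι] [DecidableEq ι]
  {Q : QuadraticForm F (ι → F)}

variable (hQ : (QuadraticMap.polarBilin Q).Nondegenerate) (h5 : 5 ≤ Fintype.card ι)

include hQ in
theorem E_inj {e a b : ι → F} (he0 : e ≠ 0) (he : Q e = 0) (ha : polar ⇑Q e a = 0) (hb : polar ⇑Q e b = 0)
    (h : E Q e a = E Q e b) : ∃ k : F, a = b + k • e := by
  obtain ⟨z, hz⟩ : ∃ z, polar ⇑Q e z ≠ 0 := by
    by_contra hc; push Not at hc; exact he0 (hQ.1 e hc)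
  have hd : polar ⇑Q e (a - b) = 0 := by
    rw [sub_eq_add_neg, QuadraticMap.polar_add_right, QuadraticMap.polar_neg_right, ha, hb]; simp
  have hnb : polar ⇑Q e (-b) = 0 := by rw [QuadraticMap.polar_neg_right, hb, neg_zero]
  have h1 : E Q e (a - b) = 1 := by rw [sub_eq_add_neg, E_add he ha hnb, E_neg he hb, h, mul_inv_cancel]
  obtain ⟨d, hd'⟩ : ∃ d, d = a - b := ⟨_, rfl⟩
  rw [← hd'] at h1 hd
  have h2 : z + (polar ⇑Q e z • d - polar ⇑Q d z • e) - (Q d * polar ⇑Q e z) • e = z := by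
    rw [← E_act he hd z, h1, act_one]
  refine ⟨(polar ⇑Q e z)⁻¹ * (polar ⇑Q d z + Q d * polar ⇑Q e z), ?_⟩
  rw [add_sub_assoc, add_eq_left, sub_sub, sub_eq_zero, ← add_smul] at h2
  rw [← smul_smul, ← h2, smul_smul, inv_mul_cancel₀ hz, one_smul, hd', add_sub_cancel]

include hQ in
theorem line_mem {e b e' b' : ι → F} (he : Q e = 0) (hb : polar ⇑Q e b = 0) (he0' : e' ≠ 0) (he' : Q e' = 0)
    (hb' : polar ⇑Q e' b' = 0) (hind : ∀ t : F, b' ≠ t • e') (h : E Q e b = E Q e' b') :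
    ∃ s t : F, e' = s • e + t • b := by
  obtain ⟨x, hx, hx'⟩ := Refl.exists_polar hQ (li_pair he0' hind)
  have h1 : x + (polar ⇑Q e x • b - polar ⇑Q b x • e) - (Q b * polar ⇑Q e x) • e = x - e' := by
    rw [← E_act he hb x, h, E_act he' hb', hx, hx']
    simp [sub_eq_add_neg]
  refine ⟨polar ⇑Q b x + Q b * polar ⇑Q e x, -polar ⇑Q e x, ?_⟩
  have h2 : e' = x - (x - e') := by abel
  rw [h2, ← h1]
  match_scalars <;> ring

include hQ h5 in
theorem comm_line {e : ι → F} (he0 : e ≠ 0) (he : Q e = 0) {h : Cfsg.isometryGroup F ⇑Q}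
    (hh : ∀ a, polar ⇑Q e a = 0 → h * E Q e a = E Q e a * h) : ∃ t : F, t ≠ 0 ∧ act Q h e = t • e := by
  obtain ⟨e1, f1, he1, hf1, he1Q, hf1Q, hef⟩ := perp_hyp hQ h5 he0 he
  rw [mem_perp] at he1 hf1
  have hne : act Q h e ≠ 0 := fun h0 => he0 (act_inj h (h0.trans (by simp [act])))
  have key : ∀ a b, polar ⇑Q e a = 0 → polar ⇑Q a b = 1 → polar ⇑Q e b = 0 → Q a = 0 →
      ∃ s t : F, act Q h e = s • e + t • a := by
    intro a b ha hab heb haQ
    have hconj : E Q (act Q h e) (act Q h a) = E Q e a := by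
      rw [← E_conj h he ha, hh a ha, mul_assoc, mul_inv_cancel, mul_one]
    refine line_mem hQ he ha hne (by rw [act_Q, he]) (by rw [act_polar, ha]) (fun t ht => ?_) hconj.symm
    have h1 : act Q h a = act Q h (t • e) := by rw [ht, act_smul]
    rw [act_inj h h1, QuadraticMap.polar_smul_left, heb] at hab
    simp at hab
  obtain ⟨s, t, h1⟩ := key e1 f1 he1 hef hf1 he1Q
  obtain ⟨s', t', h2⟩ := key f1 e1 hf1 (by rw [QuadraticMap.polar_comm, hef]) he1 hf1Q
  have h3 := congrArg (fun v => polar ⇑Q v f1) (h1.symm.trans h2)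
  simp only [QuadraticMap.polar_add_left, QuadraticMap.polar_smul_left, hf1, hef, QuadraticMap.polar_self,
    hf1Q, smul_eq_mul, smul_zero, mul_zero, mul_one, zero_add] at h3
  rw [h3, zero_smul, add_zero] at h1
  exact ⟨s, fun hs => hne (by rw [h1, hs, zero_smul]), h1⟩

include hQ h5 in
theorem eq_E_of_comm (hodd : Odd (Fintype.card ι)) {e : ι → F} (he0 : e ≠ 0) (he : Q e = 0)
    {h : Cfsg.isometryGroup F ⇑Q} (hO : h ∈ Cfsg.Omega F ⇑Q)
    (hh : ∀ a, polar ⇑Q e a = 0 → h * E Q e a = E Q e a * h) : ∃ b, polar ⇑Q e b = 0 ∧ h = E Q e b := by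
  obtain ⟨t, ht0, hte⟩ := comm_line hQ h5 he0 he hh
  have hperp : ∀ a, polar ⇑Q e a = 0 → polar ⇑Q e (act Q h a) = 0 := fun a ha => by
    have := act_polar h e a
    rw [hte, QuadraticMap.polar_smul_left, ha, smul_eq_mul] at this
    exact (mul_eq_zero.1 this).resolve_left ht0
  have hcong : ∀ a, polar ⇑Q e a = 0 → ∃ k : F, t • act Q h a = a + k • e := by
    intro a ha
    refine E_inj hQ he0 he (by rw [QuadraticMap.polar_smul_right, hperp a ha, smul_zero]) ha ?_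
    rw [← E_smul he (hperp a ha), ← hte, ← E_conj h he ha, hh a ha, mul_assoc, mul_inv_cancel, mul_one]
  obtain ⟨e1, f1, he1, hf1, he1Q, hf1Q, hef⟩ := perp_hyp hQ h5 he0 he
  rw [mem_perp] at he1 hf1
  have ht2 : t * t = 1 := by
    obtain ⟨k, hk⟩ := hcong e1 he1
    obtain ⟨k', hk'⟩ := hcong f1 hf1
    have hp : polar ⇑Q (t • act Q h e1) (t • act Q h f1) = t * t := by
      rw [QuadraticMap.polar_smul_left, QuadraticMap.polar_smul_right, act_polar, hef, smul_eq_mul, smul_eq_mul,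
        mul_one]
    rw [← hp, hk, hk']
    simp [QuadraticMap.polar_add_left, QuadraticMap.polar_add_right, QuadraticMap.polar_smul_left,
      QuadraticMap.polar_smul_right, QuadraticMap.polar_comm (f := ⇑Q) e1 e, he1, hf1, hef,
      QuadraticMap.polar_self, he]
  obtain ⟨z, hz⟩ : ∃ z, polar ⇑Q e z ≠ 0 := by
    by_contra hc; push Not at hc; exact he0 (hQ.1 e hc)
  obtain ⟨f, hfQ, hef'⟩ : ∃ f, Q f = 0 ∧ polar ⇑Q e f = 1 := by
    obtain ⟨z', hz'⟩ : ∃ z', z' = (polar ⇑Q e z)⁻¹ • z := ⟨_, rfl⟩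
    have hez : polar ⇑Q e z' = 1 := by
      rw [hz', QuadraticMap.polar_smul_right, smul_eq_mul, inv_mul_cancel₀ hz]
    refine ⟨z' - Q z' • e, by rw [Quad.map_sub_smul, hez, he]; ring, ?_⟩
    rw [sub_eq_add_neg, QuadraticMap.polar_add_right, hez, QuadraticMap.polar_neg_right,
      QuadraticMap.polar_smul_right, QuadraticMap.polar_self, he]
    simp
  obtain ⟨p, hp⟩ : ∃ p, p = t • act Q h f := ⟨_, rfl⟩
  have hLp : ∀ x y, polar ⇑Q (t • act Q h x) (t • act Q h y) = polar ⇑Q x y := fun x y => by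
    rw [QuadraticMap.polar_smul_left, QuadraticMap.polar_smul_right, act_polar, smul_eq_mul, smul_eq_mul,
      ← mul_assoc, ht2, one_mul]
  have hLe : t • act Q h e = e := by rw [hte, smul_smul, ht2, one_smul]
  have hep : polar ⇑Q e p = 1 := by rw [hp, ← hef', ← hLp e f, hLe]
  have hpQ : Q p = 0 := by rw [hp, OrthChar.map_smul', act_Q, hfQ, mul_zero]
  obtain ⟨h0, hmove⟩ := E_move he hfQ hpQ hef' hep
  have hon : ∀ a, polar ⇑Q e a = 0 → t • act Q h a = act Q (E Q e (p - f)) a := by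
    intro a ha
    obtain ⟨k, hk⟩ := hcong a ha
    have h1 : polar ⇑Q p (a + k • e) = polar ⇑Q f a := by rw [hp, ← hk, hLp]
    rw [QuadraticMap.polar_add_right, QuadraticMap.polar_smul_right, QuadraticMap.polar_comm (f := ⇑Q) p e,
      hep, smul_eq_mul, mul_one] at h1
    rw [hk, E_act he h0, ha, show polar ⇑Q (p - f) a = -k by
      rw [sub_eq_add_neg, QuadraticMap.polar_add_left, QuadraticMap.polar_neg_left]
      linear_combination h1]
    match_scalars <;> ring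
  have hall : ∀ x, t • act Q h x = act Q (E Q e (p - f)) x := by
    intro x
    obtain ⟨a, ha⟩ : ∃ a, a = x - polar ⇑Q e x • f := ⟨_, rfl⟩
    have hea : polar ⇑Q e a = 0 := by
      rw [ha, sub_eq_add_neg, QuadraticMap.polar_add_right, QuadraticMap.polar_neg_right,
        QuadraticMap.polar_smul_right, hef', smul_eq_mul, mul_one, add_neg_cancel]
    have hx : x = a + polar ⇑Q e x • f := by rw [ha, sub_add_cancel]
    rw [hx, act_add, act_add, smul_add, hon a hea, act_smul, act_smul, hmove, smul_comm, ← hp]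
  have hmat : t • ((h : GL ι F) : Matrix ι ι F) = ((E Q e (p - f) : GL ι F) : Matrix ι ι F) :=
    Matrix.ext_of_mulVec_single fun i => by rw [Matrix.smul_mulVec]; exact hall _
  have ht : t = 1 := by
    have h1 := congrArg Matrix.det hmat
    rw [Matrix.det_smul, OrthChar.det_omega hO, OrthChar.det_omega (E_omega hQ h5 he h0), mul_one] at h1
    obtain ⟨k, hk⟩ := hodd
    rwa [hk, pow_succ, pow_mul, pow_two, ht2, one_pow, one_mul] at h1
  exact ⟨p - f, h0, act_ext fun x => by simpa [ht] using hall x⟩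

include hQ h5 in
theorem exists_singular_point : ∃ e : ι → F, e ≠ 0 ∧ Q e = 0 := by
  obtain ⟨e, -, he0, he⟩ := exists_singular (Q := Q) ⊤ (by
    rw [finrank_top, Module.finrank_fintype_fun_eq_card]; omega)
  exact ⟨e, he0, he⟩

include hQ h5 in
theorem transitive {e p : ι → F} (he0 : e ≠ 0) (he : Q e = 0) (hp0 : p ≠ 0) (hp : Q p = 0) :
    ∃ m : Cfsg.Omega F ⇑Q, ∃ c : F, c ≠ 0 ∧ act Q (m : Cfsg.isometryGroup F ⇑Q) e = c • p := by
  suffices hmv : ∃ m ∈ (⊤ : Subgroup (Cfsg.Omega F ⇑Q)),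
      ∀ c : F, act Q (m : Cfsg.isometryGroup F ⇑Q) e ≠ c • e by
    obtain ⟨m, -, hm⟩ := orbit_all hQ h5 (⊤ : Subgroup (Cfsg.Omega F ⇑Q)) he0 he le_top hmv hp0 hp
    exact ⟨m, hm⟩
  obtain ⟨z, hz⟩ : ∃ z, polar ⇑Q e z ≠ 0 := by
    by_contra hc; push Not at hc; exact he0 (hQ.1 e hc)
  obtain ⟨f, hf⟩ : ∃ f, f = z - (Q z / polar ⇑Q e z) • e := ⟨_, rfl⟩
  have hfQ : Q f = 0 := by rw [hf, Quad.map_sub_smul, he, div_mul_cancel₀ _ hz]; ring
  have hfe : polar ⇑Q f e ≠ 0 := by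
    rw [hf]; simpa [sub_eq_add_neg, QuadraticMap.polar_add_left, QuadraticMap.polar_neg_left,
      QuadraticMap.polar_smul_left, QuadraticMap.polar_self, he, QuadraticMap.polar_comm (f := ⇑Q) z e] using hz
  have hd := finrank_perp2 (Q := Q) f e
  obtain ⟨a, ⟨hfa, hea⟩, ha0, haQ⟩ := exists_singular (Q := Q) (perp Q f ⊓ perp Q e) (by omega)
  rw [SetLike.mem_coe, mem_perp] at hfa hea
  refine ⟨⟨E Q f a, E_omega hQ h5 hfQ hfa⟩, Subgroup.mem_top _, fun c hc => ha0 ?_⟩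
  change act Q (E Q f a) e = c • e at hc
  rw [E_act hfQ hfa, QuadraticMap.polar_comm (f := ⇑Q) a e, hea, haQ] at hc
  simp only [zero_smul, sub_zero, zero_mul] at hc
  have h1 := congrArg (fun v => polar ⇑Q v f) hc
  simp only [QuadraticMap.polar_add_left, QuadraticMap.polar_smul_left, QuadraticMap.polar_comm (f := ⇑Q) a f,
    hfa, smul_zero, add_zero, mul_zero, smul_eq_mul, QuadraticMap.polar_comm (f := ⇑Q) e f] at h1
  have hc1 : c = 1 := ((mul_eq_right₀ hfe).1 h1.symm)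
  rw [hc1, one_smul, add_eq_left, smul_eq_zero] at hc
  exact hc.resolve_left hfe

include hQ h5 in
theorem center_eq_bot (hodd : Odd (Fintype.card ι)) : Subgroup.center (Cfsg.Omega F ⇑Q) = ⊥ := by
  refine (Subgroup.eq_bot_iff_forall _).2 fun z hz => Subtype.ext ?_
  obtain ⟨e, he0, he⟩ := exists_singular_point hQ h5
  have hcomm : ∀ {u a : ι → F} (hu : Q u = 0) (ha : polar ⇑Q u a = 0),
      (z : Cfsg.isometryGroup F ⇑Q) * E Q u a = E Q u a * z := fun hu ha =>
    (congrArg Subtype.val (Subgroup.mem_center_iff.1 hz ⟨_, E_omega hQ h5 hu ha⟩)).symm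
  obtain ⟨b, hb, hzb⟩ := eq_E_of_comm hQ h5 hodd he0 he z.2 fun a ha => hcomm he ha
  obtain ⟨w, hw⟩ : ∃ w, polar ⇑Q e w ≠ 0 := by
    by_contra hc; push Not at hc; exact he0 (hQ.1 e hc)
  obtain ⟨f, hf⟩ : ∃ f, f = w - (Q w / polar ⇑Q e w) • e := ⟨_, rfl⟩
  have hfQ : Q f = 0 := by rw [hf, Quad.map_sub_smul, he, div_mul_cancel₀ _ hw]; ring
  have hef : polar ⇑Q e f ≠ 0 := by
    rw [hf]; simpa [sub_eq_add_neg, QuadraticMap.polar_add_right, QuadraticMap.polar_neg_right,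
      QuadraticMap.polar_smul_right, QuadraticMap.polar_self, he] using hw
  have hf0 : f ≠ 0 := fun h => hef (by rw [h, QuadraticMap.polar_zero_right])
  obtain ⟨c, -, hcf⟩ := comm_line hQ h5 hf0 hfQ fun a ha => hcomm hfQ ha
  rw [hzb, E_act he hb] at hcf
  have h1 := congrArg (fun v => polar ⇑Q e v) hcf
  simp only [sub_eq_add_neg, ← neg_smul, QuadraticMap.polar_add_right, QuadraticMap.polar_smul_right,
    QuadraticMap.polar_self, he, hb, smul_eq_mul, smul_zero, mul_zero, add_zero] at h1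
  rw [(mul_eq_right₀ hef).1 h1.symm, one_smul, add_sub_assoc, add_eq_left, sub_sub, sub_eq_zero, ← add_smul] at hcf
  rw [OneMemClass.coe_one, hzb, show b = ((polar ⇑Q e f)⁻¹ * (polar ⇑Q b f + Q b * polar ⇑Q e f)) • e by
    rw [← smul_smul, ← hcf, smul_smul, inv_mul_cancel₀ hef, one_smul], E_self he]

include hQ in
/-- lower bound for the class of a root element -/
theorem class_bound (h7 : 7 ≤ Fintype.card ι) {e b : ι → F} (he0 : e ≠ 0) (he : Q e = 0)
    (hb : polar ⇑Q e b = 0) (hbe : ∀ t : F, b ≠ t • e) (h : Cfsg.Omega F ⇑Q)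
    (hh : (h : Cfsg.isometryGroup F ⇑Q) = E Q e b) :
    Nat.card {u : ι → F // u ≠ 0 ∧ Q u = 0} ≤ Nat.card (Set.range fun x : Cfsg.Omega F ⇑Q => x * h * x⁻¹) := by
  classical
  have h5 : 5 ≤ Fintype.card ι := by omega
  obtain ⟨e1, f1, he1, hf1, he1Q, hf1Q, hef⟩ := perp_hyp hQ h5 he0 he
  obtain ⟨z, hz⟩ := Refl.exists_polar hQ (li_pair he0 hbe)
  obtain ⟨g0, hg0, hg0Q, hg0b⟩ := singular_sep (perp Q e) he1 hf1 he1Q hf1Q hef (QuadraticMap.polarBilin Q b)
    ⟨z, mem_perp.2 hz.1, by rw [QuadraticMap.polarBilin_apply_apply, hz.2]; exact one_ne_zero⟩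
  rw [QuadraticMap.polarBilin_apply_apply] at hg0b
  rw [mem_perp] at hg0
  obtain ⟨g, hg⟩ : ∃ g, g = (polar ⇑Q b g0)⁻¹ • g0 := ⟨_, rfl⟩
  have hgQ : Q g = 0 := by rw [hg, OrthChar.map_smul', hg0Q, mul_zero]
  have hge : polar ⇑Q g e = 0 := by
    rw [hg, QuadraticMap.polar_smul_left, QuadraticMap.polar_comm (f := ⇑Q) g0 e, hg0, smul_zero]
  have hgb : polar ⇑Q g b = 1 := by
    rw [hg, QuadraticMap.polar_smul_left, QuadraticMap.polar_comm (f := ⇑Q) g0 b, smul_eq_mul,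
      inv_mul_cancel₀ hg0b]
  -- two directions independent modulo the plane of `e` and `g`
  obtain ⟨C, hC⟩ := Submodule.exists_isCompl (Submodule.span F ({e, g} : Set (ι → F)))
  have hD : 2 ≤ Module.finrank F (perp Q g ⊓ perp Q e ⊓ C : Submodule F (ι → F)) := by
    have h1 := Submodule.finrank_sup_add_finrank_inf_eq (perp Q g ⊓ perp Q e) C
    have h2 := Submodule.finrank_le (perp Q g ⊓ perp Q e ⊔ C)
    rw [Module.finrank_fintype_fun_eq_card] at h2
    have h3 := Submodule.finrank_add_eq_of_isCompl hC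
    rw [Module.finrank_fintype_fun_eq_card] at h3
    have h4 : Module.finrank F (Submodule.span F ({e, g} : Set (ι → F))) ≤ 2 := by
      have := finrank_span_finset_le_card (R := F) ({e, g} : Finset (ι → F))
      rw [Finset.coe_insert, Finset.coe_singleton] at this
      exact le_trans this Finset.card_le_two
    have h6 := finrank_perp2 (Q := Q) g e
    omega
  obtain ⟨y, hy, hy0⟩ := exists_ne_zero _ (show 1 ≤ Module.finrank F
    (perp Q g ⊓ perp Q e ⊓ C : Submodule F (ι → F)) by omega)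
  obtain ⟨y', hy', hyy'⟩ := exists_notMem_span _ hD y
  have hcomb : ∀ t s : F, t • y + s • y' ∈ Submodule.span F ({e, g} : Set (ι → F)) → t = 0 ∧ s = 0 := by
    intro t s hmem
    have h0 := Submodule.disjoint_def.1 hC.disjoint _ hmem
      (add_mem (Submodule.smul_mem _ _ hy.2) (Submodule.smul_mem _ _ hy'.2))
    exact LinearIndependent.pair_iff.1 (li_pair hy0 hyy') t s h0
  obtain ⟨Y, hY⟩ : ∃ Y : F × F → (ι → F), Y = fun p => p.1 • y + p.2 • y' := ⟨_, rfl⟩
  have hYW : ∀ p, polar ⇑Q g (Y p) = 0 ∧ polar ⇑Q e (Y p) = 0 := fun p => by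
    have h1 : Y p ∈ perp Q g ⊓ perp Q e :=
      hY ▸ add_mem (Submodule.smul_mem _ _ hy.1) (Submodule.smul_mem _ _ hy'.1)
    exact ⟨mem_perp.1 h1.1, mem_perp.1 h1.2⟩
  obtain ⟨b', hb'⟩ : ∃ b' : F × F → (ι → F), b' = fun p => act Q (E Q g (Y p)) b := ⟨_, rfl⟩
  have hke : ∀ p, act Q (E Q g (Y p)) e = e := fun p => by
    rw [E_act hgQ (hYW p).1, hge, QuadraticMap.polar_comm (f := ⇑Q) (Y p) e, (hYW p).2]; simp
  have hb'e : ∀ p, polar ⇑Q e (b' p) = 0 := fun p => by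
    rw [hb', ← hb, ← act_polar (E Q g (Y p)) e b, hke]
  have hb'ne : ∀ (p : F × F) (t : F), b' p ≠ t • e := fun p t ht => hbe t (act_inj (E Q g (Y p)) (by
    rw [act_smul, hke]; simpa [hb'] using ht))
  have hb'inj : ∀ (p p' : F × F) (k : F), b' p = b' p' + k • e → p = p' := by
    intro p p' k hk
    simp only [hb', E_act hgQ (hYW _).1, hgb] at hk
    obtain ⟨c, hc⟩ : ∃ c : F, c = polar ⇑Q (Y p) b + Q (Y p) - polar ⇑Q (Y p') b - Q (Y p') := ⟨_, rfl⟩
    have h1 : (p.1 - p'.1) • y + (p.2 - p'.2) • y' = c • g + k • e := by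
      have e1 : (p.1 - p'.1) • y + (p.2 - p'.2) • y' = Y p - Y p' := by rw [hY]; module
      rw [e1, hc]
      simp only [one_smul, mul_one] at hk
      linear_combination (norm := module) hk
    have h2 := hcomb _ _ (h1 ▸ add_mem
      (Submodule.smul_mem _ c (Submodule.subset_span (show g ∈ ({e, g} : Set (ι → F)) from Or.inr rfl)))
      (Submodule.smul_mem _ k (Submodule.subset_span (show e ∈ ({e, g} : Set (ι → F)) from Or.inl rfl))))
    exact Prod.ext (sub_eq_zero.1 h2.1) (sub_eq_zero.1 h2.2)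
  -- the map to the class
  have hm : ∀ u : {u : ι → F // u ≠ 0 ∧ Q u = 0}, ∃ m : Cfsg.Omega F ⇑Q, ∃ c : F, c ≠ 0 ∧
      act Q (m : Cfsg.isometryGroup F ⇑Q) e = c • u.1 := fun u => transitive hQ h5 he0 he u.2.1 u.2.2
  choose m c hc hmc using hm
  obtain ⟨k, hk⟩ : ∃ k : F × F → Cfsg.Omega F ⇑Q,
      ∀ p, (k p : Cfsg.isometryGroup F ⇑Q) = E Q g (Y p) :=
    ⟨fun p => ⟨E Q g (Y p), E_omega hQ h5 hgQ (hYW p).1⟩, fun p => rfl⟩
  obtain ⟨w, hw⟩ : ∃ w : {u : ι → F // u ≠ 0 ∧ Q u = 0} → F × F → (ι → F),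
      w = fun u p => c u • act Q (m u : Cfsg.isometryGroup F ⇑Q) (b' p) := ⟨_, rfl⟩
  have hperp : ∀ u p, polar ⇑Q u.1 (act Q (m u : Cfsg.isometryGroup F ⇑Q) (b' p)) = 0 := by
    intro u p
    have := act_polar (m u : Cfsg.isometryGroup F ⇑Q) e (b' p)
    rw [hmc, QuadraticMap.polar_smul_left, hb'e, smul_eq_mul] at this
    exact (mul_eq_zero.1 this).resolve_left (hc u)
  have hwperp : ∀ u p, polar ⇑Q u.1 (w u p) = 0 := fun u p => by
    rw [hw, QuadraticMap.polar_smul_right, hperp, smul_zero]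
  have hval : ∀ u p, ((m u * k p * h * (m u * k p)⁻¹ : Cfsg.Omega F ⇑Q) : Cfsg.isometryGroup F ⇑Q) =
      E Q u.1 (w u p) := by
    intro u p
    rw [Subgroup.coe_mul, Subgroup.coe_mul, InvMemClass.coe_inv, hh, E_conj _ he hb, Subgroup.coe_mul, act_mul,
      act_mul, hk, hke, hmc, hw, E_smul u.2.2 (by simpa [hb'] using hperp u p)]
    simp [hb']
  have hwne : ∀ u p (t : F), w u p ≠ t • u.1 := by
    intro u p t ht
    rw [hw] at ht
    have h1 : act Q (m u : Cfsg.isometryGroup F ⇑Q) (b' p) =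
        act Q (m u : Cfsg.isometryGroup F ⇑Q) (((c u)⁻¹ * t * (c u)⁻¹) • e) := by
      rw [act_smul, hmc, smul_smul, mul_assoc, inv_mul_cancel₀ (hc u), mul_one, ← smul_smul, ← ht, smul_smul,
        inv_mul_cancel₀ (hc u), one_smul]
    exact hb'ne p _ (act_inj _ h1)
  let S := Set.range fun x : Cfsg.Omega F ⇑Q => x * h * x⁻¹
  let Ψ : {u : ι → F // u ≠ 0 ∧ Q u = 0} × (F × F) → S := fun up =>
    ⟨m up.1 * k up.2 * h * (m up.1 * k up.2)⁻¹, _, rfl⟩
  have hfib : ∀ s : S, Nat.card {up // Ψ up = s} ≤ Nat.card (F × F) := by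
    intro s
    rcases isEmpty_or_nonempty {up // Ψ up = s} with hE | ⟨⟨⟨u0, p0⟩, h0⟩⟩
    · rw [Nat.card_of_isEmpty]; exact Nat.zero_le _
    have hu : ∀ up : {up // Ψ up = s}, ∃ st : F × F, up.1.1.1 = st.1 • u0.1 + st.2 • w u0 p0 := by
      rintro ⟨⟨u, p⟩, hup⟩
      have h1 : E Q u0.1 (w u0 p0) = E Q u.1 (w u p) := by
        rw [← hval, ← hval]
        exact congrArg (fun s : S => (s.1 : Cfsg.isometryGroup F ⇑Q)) (h0.trans hup.symm)
      obtain ⟨a, a', ha⟩ := line_mem hQ u0.2.2 (hwperp u0 p0) u.2.1 u.2.2 (hwperp u p) (hwne u p) h1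
      exact ⟨(a, a'), ha⟩
    choose st hst using hu
    refine Nat.card_le_card_of_injective st fun x x' hxx => ?_
    have hu : x.1.1 = x'.1.1 := Subtype.ext (by rw [hst x, hst x', hxx])
    have h1 : E Q x.1.1.1 (w x.1.1 x.1.2) = E Q x.1.1.1 (w x.1.1 x'.1.2) := by
      rw [← hval, ← hval]
      have := congrArg (fun s : S => (s.1 : Cfsg.isometryGroup F ⇑Q)) (x.2.trans x'.2.symm)
      simp only [Ψ] at this
      rw [← hu] at this
      exact this
    obtain ⟨r, hr⟩ := E_inj hQ x.1.1.2.1 x.1.1.2.2 (hwperp _ _) (hwperp _ _) h1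
    simp only [hw] at hr
    have h2 : act Q (m x.1.1 : Cfsg.isometryGroup F ⇑Q) (b' x.1.2) = act Q (m x.1.1 : Cfsg.isometryGroup F ⇑Q)
        (b' x'.1.2 + ((c x.1.1)⁻¹ * r * (c x.1.1)⁻¹) • e) := by
      rw [act_add, act_smul, hmc, smul_smul, mul_assoc, inv_mul_cancel₀ (hc _), mul_one, ← smul_smul,
        ← smul_right_inj (hc x.1.1), hr, smul_add, smul_smul (c _) (c _)⁻¹, mul_inv_cancel₀ (hc _), one_smul]
    exact Subtype.ext (Prod.ext hu (hb'inj _ _ _ (act_inj _ h2)))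
  have := Fintype.ofFinite S
  have hle : Nat.card ({u : ι → F // u ≠ 0 ∧ Q u = 0} × (F × F)) ≤ Nat.card S * Nat.card (F × F) := by
    rw [← Nat.card_congr (Equiv.sigmaFiberEquiv Ψ), Nat.card_sigma, Nat.card_eq_fintype_card (α := S),
      ← smul_eq_mul, ← Finset.card_univ, ← Finset.sum_const]
    exact Finset.sum_le_sum fun s _ => hfib s
  rw [Nat.card_prod] at hle
  exact Nat.le_of_mul_le_mul_right hle Nat.card_pos

end CfsgLib.Lie.OrthCent
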