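import Cfsg.Agent.Lie.Refl
import Cfsg.Prelude.Def_Classical

/-!
The spinor character of the orthogonal group in odd characteristic, as the sign of the permutation
of the vectors of value one, and the index of the derived subgroup.
-/

set_option autoImplicit false
set_option linter.unusedSimpArgs false
set_option linter.unusedSectionVars false

namespace CfsgLib.Lie.OrthChar

open Matrix
open CfsgLib.Lie.Refl (act act_mul act_one act_inv act_inj act_Q act_polar act_ext)

theorem sign_of_involution {α : Type*} [Fintype α] [DecidableEq α] (τ : Equiv.Perm α) (h : τ * τ = 1) :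
    ∃ k, τ.support.card = 2 * k ∧ Equiv.Perm.sign τ = (-1) ^ k := by
  have : Fact (Nat.Prime 2) := ⟨Nat.prime_two⟩
  have hc := Equiv.Perm.cycleType_of_pow_prime_eq_one (p := 2) (σ := τ) (by rw [pow_two, h])
  refine ⟨τ.cycleType.card, ?_, ?_⟩
  · rw [← Equiv.Perm.sum_cycleType]
    conv_lhs => rw [hc]
    simp [mul_comm]
  · rw [Equiv.Perm.sign_of_cycleType, hc]
    simp only [Multiset.sum_replicate, Multiset.card_replicate, smul_eq_mul]
    rw [pow_add, mul_comm _ 2, pow_mul, neg_one_sq, one_pow, one_mul]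

variable {F : Type*} [Field F] [Fintype F] {ι : Type} [Fintype ι] [DecidableEq ι]
  {Q : QuadraticForm F (ι → F)}

theorem sq_mul_of_not (h2 : (2 : F) ≠ 0) {a b : F} (ha : ¬ IsSquare a) (hb : ¬ IsSquare b) : IsSquare (a * b) := by
  have hc : ringChar F ≠ 2 := fun h => h2 (by
    have : CharP F 2 := ringChar.of_eq h
    exact CharTwo.two_eq_zero)
  have ha0 : a ≠ 0 := fun h => ha (h ▸ IsSquare.zero)
  have hb0 : b ≠ 0 := fun h => hb (h ▸ IsSquare.zero)
  rw [FiniteField.isSquare_iff hc (mul_ne_zero ha0 hb0), mul_pow]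
  rw [FiniteField.isSquare_iff hc ha0] at ha
  rw [FiniteField.isSquare_iff hc hb0] at hb
  rw [(FiniteField.pow_dichotomy hc ha0).resolve_left ha, (FiniteField.pow_dichotomy hc hb0).resolve_left hb]
  ring

/-- polar form facts in the shape used below -/
theorem polar_self' (v : ι → F) : QuadraticMap.polar ⇑Q v v = 2 * Q v := by
  rw [QuadraticMap.polar_self, two_smul, two_mul]

theorem map_add' (x y : ι → F) : Q (x + y) = Q x + Q y + QuadraticMap.polar ⇑Q x y :=
  QuadraticMap.map_add (f := ⇑Q) x y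

theorem map_smul' (a : F) (x : ι → F) : Q (a • x) = a * a * Q x := by
  rw [QuadraticMap.map_smul, smul_eq_mul]

theorem map_comb (p s : F) (v u : ι → F) (h : QuadraticMap.polar ⇑Q v u = 0) :
    Q (p • v + s • u) = p * p * Q v + s * s * Q u := by
  rw [map_add', map_smul', map_smul', QuadraticMap.polar_smul_left, QuadraticMap.polar_smul_right, h]
  simp

theorem reflection_smul (v : ι → F) {a : F} (ha : a ≠ 0) :
    Cfsg.reflectionMatrix ⇑Q (a • v) = Cfsg.reflectionMatrix ⇑Q v := by
  refine Matrix.ext_of_mulVec_single fun i => ?_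
  rw [Quad.reflection_mulVec, Quad.reflection_mulVec, map_smul', QuadraticMap.polar_smul_left, smul_smul]
  congr 2
  by_cases hv : Q v = 0
  · simp [hv]
  · rw [smul_eq_mul]; field_simp

variable (Q) in
open Classical in
/-- the reflection in `v`, as an isometry (the identity if `v` is singular) -/
noncomputable def R (v : ι → F) : Cfsg.isometryGroup F ⇑Q :=
  if h : Q v ≠ 0 then (Refl.refl_exists h).choose else 1

theorem R_val {v : ι → F} (hv : Q v ≠ 0) :
    ((R Q v : GL ι F) : Matrix ι ι F) = Cfsg.reflectionMatrix ⇑Q v := by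
  rw [R, dif_pos hv]; exact (Refl.refl_exists hv).choose_spec

theorem R_act {v : ι → F} (hv : Q v ≠ 0) (x : ι → F) :
    act Q (R Q v) x = x - ((Q v)⁻¹ * QuadraticMap.polar ⇑Q v x) • v := by
  rw [act, R_val hv, Quad.reflection_mulVec]

theorem R_self {v : ι → F} (hv : Q v ≠ 0) : act Q (R Q v) v = -v := by
  rw [R_act hv, polar_self', mul_comm (2 : F), ← mul_assoc, inv_mul_cancel₀ hv, one_mul, two_smul]
  abel

theorem R_mul_self {v : ι → F} (hv : Q v ≠ 0) : R Q v * R Q v = 1 := by
  refine act_ext fun x => ?_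
  rw [act_mul, act_one, R_act hv, R_act hv]
  simp only [sub_eq_add_neg, ← neg_smul, QuadraticMap.polar_add_right, QuadraticMap.polar_smul_right,
    polar_self', smul_eq_mul]
  match_scalars <;> (field_simp <;> ring)

theorem R_inv {v : ι → F} (hv : Q v ≠ 0) : (R Q v)⁻¹ = R Q v := inv_eq_of_mul_eq_one_right (R_mul_self hv)

theorem R_smul {v : ι → F} (hv : Q v ≠ 0) {a : F} (ha : a ≠ 0) : R Q (a • v) = R Q v := by
  have hav : Q (a • v) ≠ 0 := by rw [map_smul']; exact mul_ne_zero (mul_ne_zero ha ha) hv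
  refine Subtype.ext (Units.ext ?_)
  rw [R_val hav, R_val hv, reflection_smul v ha]

theorem R_conj (g : Cfsg.isometryGroup F ⇑Q) {v : ι → F} (hv : Q v ≠ 0) :
    g * R Q v * g⁻¹ = R Q (act Q g v) := by
  have hgv : Q (act Q g v) ≠ 0 := by rwa [act_Q]
  refine act_ext fun x => ?_
  obtain ⟨y, rfl⟩ : ∃ y, act Q g y = x := ⟨act Q g⁻¹ x, by rw [← act_mul, mul_inv_cancel, act_one]⟩
  rw [act_mul, act_mul, act_inv, R_act hgv, R_act hv, act_Q, act_polar]
  simp [act, Matrix.mulVec_sub, Matrix.mulVec_smul]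

theorem R_det {v : ι → F} (hv : Q v ≠ 0) : ((R Q v : GL ι F) : Matrix ι ι F).det = -1 := by
  rw [R_val hv, Quad.reflection_det Q hv]

/-- reflections of equal value are conjugate -/
theorem R_conj_of_eq (h2 : (2 : F) ≠ 0) {v w : ι → F} (hv : Q v ≠ 0) (hvw : Q w = Q v) :
    ∃ g : Cfsg.isometryGroup F ⇑Q, g * R Q v * g⁻¹ = R Q w := by
  have h1 : ∀ z : ι → F, Q z ≠ 0 → act Q (R Q z) v = w ∨ act Q (R Q z) v = -w →
      ∃ g : Cfsg.isometryGroup F ⇑Q, g * R Q v * g⁻¹ = R Q w := by
    intro z _ h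
    refine ⟨R Q z, ?_⟩
    rw [R_conj _ hv]
    rcases h with h | h <;> rw [h]
    rw [← neg_one_smul F w, R_smul (hvw ▸ hv) (neg_ne_zero.2 one_ne_zero)]
  obtain ⟨B, hB⟩ : ∃ B, B = QuadraticMap.polar ⇑Q v w := ⟨_, rfl⟩
  have hd : Q (v - w) = 2 * Q v - B := by
    rw [sub_eq_add_neg, ← neg_one_smul F w, map_add', map_smul', QuadraticMap.polar_smul_right, hvw, hB]
    simp only [smul_eq_mul]; ring
  have hs : Q (v + w) = 2 * Q v + B := by rw [map_add', hvw, hB]; ring
  by_cases hm : Q (v - w) = 0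
  · have hp : Q (v + w) ≠ 0 := by
      rw [hs]
      rw [hd] at hm
      intro h
      exact hv ((mul_eq_zero.1 (show 2 * (2 * Q v) = 0 by linear_combination hm + h)).resolve_left h2
        |> fun h' => (mul_eq_zero.1 h').resolve_left h2)
    refine h1 _ hp (Or.inr ?_)
    have e : QuadraticMap.polar ⇑Q (v + w) v = Q (v + w) := by
      rw [QuadraticMap.polar_add_left, polar_self', hs, hB, QuadraticMap.polar_comm (f := ⇑Q) w v]
    rw [R_act hp, e, inv_mul_cancel₀ hp, one_smul]
    abel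
  · refine h1 _ hm (Or.inl ?_)
    have e : QuadraticMap.polar ⇑Q (v - w) v = Q (v - w) := by
      rw [sub_eq_add_neg v w, QuadraticMap.polar_add_left, QuadraticMap.polar_neg_left, polar_self',
        ← sub_eq_add_neg v w, hd, hB, QuadraticMap.polar_comm (f := ⇑Q) w v]
      ring
    rw [R_act hm, e, inv_mul_cancel₀ hm, one_smul]
    abel

theorem R_conj_of_square (h2 : (2 : F) ≠ 0) {v w : ι → F} (hv : Q v ≠ 0) (hw : Q w ≠ 0)
    (h : IsSquare (Q v * Q w)) : ∃ g : Cfsg.isometryGroup F ⇑Q, g * R Q v * g⁻¹ = R Q w := by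
  obtain ⟨t, ht⟩ := h
  have ht0 : t ≠ 0 := fun h0 => mul_ne_zero hv hw (by rw [ht, h0, mul_zero])
  obtain ⟨g, hg⟩ := R_conj_of_eq h2 (v := v) (w := (Q v / t) • w) hv (by
    rw [map_smul']
    field_simp
    linear_combination ht)
  exact ⟨g, by rw [hg, R_smul hw (div_ne_zero hv ht0)]⟩

variable (Q) in
/-- the sphere -/
def Sph : Type _ := {x : ι → F // Q x = 1}

noncomputable instance : Fintype (Sph Q) := by
  classical
  exact inferInstanceAs (Fintype {x : ι → F // Q x = 1})

variable (Q) in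
/-- the action on the sphere -/
def permHom : Cfsg.isometryGroup F ⇑Q →* Equiv.Perm (Sph Q) where
  toFun g :=
    { toFun := fun x => ⟨act Q g x.1, by rw [act_Q]; exact x.2⟩
      invFun := fun x => ⟨act Q g⁻¹ x.1, by rw [act_Q]; exact x.2⟩
      left_inv := fun x => Subtype.ext (act_inv g x.1)
      right_inv := fun x => Subtype.ext (show act Q g (act Q g⁻¹ x.1) = x.1 by rw [← act_mul, mul_inv_cancel, act_one]) }
  map_one' := Equiv.ext fun x => Subtype.ext (act_one x.1)
  map_mul' g h := Equiv.ext fun x => Subtype.ext (act_mul g h x.1)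

variable (Q) in
open Classical in
/-- the spinor character -/
noncomputable def chi : Cfsg.isometryGroup F ⇑Q →* ℤˣ :=
  (Equiv.Perm.sign : Equiv.Perm (Sph Q) →* ℤˣ).comp (permHom Q)

theorem chi_conj (g x : Cfsg.isometryGroup F ⇑Q) : chi Q (g * x * g⁻¹) = chi Q x := by
  rw [map_mul, map_mul, map_inv, mul_inv_cancel_comm]

theorem exists_aniso [Nonempty ι] (h2 : (2 : F) ≠ 0) (hQ : (QuadraticMap.polarBilin Q).Nondegenerate) :
    ∃ v, Q v ≠ 0 := by
  by_contra h
  push Not at h
  obtain ⟨i⟩ := ‹Nonempty ι›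
  have h1 := hQ.1 (Pi.single i 1) fun y => by
    simp [QuadraticMap.polarBilin_apply_apply, QuadraticMap.polar, h]
  have := congrFun h1 i
  simp at this

theorem exists_orth_aniso (h2 : (2 : F) ≠ 0) (hQ : (QuadraticMap.polarBilin Q).Nondegenerate)
    (hn : 2 ≤ Fintype.card ι) {v : ι → F} (hv : Q v ≠ 0) :
    ∃ u, QuadraticMap.polar ⇑Q v u = 0 ∧ Q u ≠ 0 := by
  by_contra h
  push Not at h
  obtain ⟨K, hK⟩ : ∃ K, K = LinearMap.ker (QuadraticMap.polarBilin Q v) := ⟨_, rfl⟩
  have hmem : ∀ x, x ∈ K ↔ QuadraticMap.polar ⇑Q v x = 0 := fun x => by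
    rw [hK, LinearMap.mem_ker, QuadraticMap.polarBilin_apply_apply]
  have hdim : 1 ≤ Module.finrank F K := by
    rw [hK]
    have h1 := LinearMap.finrank_range_add_finrank_ker (QuadraticMap.polarBilin Q v)
    have h2' := Submodule.finrank_le (LinearMap.range (QuadraticMap.polarBilin Q v))
    rw [Module.finrank_self] at h2'
    rw [Module.finrank_fintype_fun_eq_card] at h1
    omega
  obtain ⟨z, hz, hz0⟩ := Submodule.exists_mem_ne_zero_of_ne_bot (p := K) fun hb => by
    rw [hb, finrank_bot] at hdim; omega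
  refine hz0 (hQ.1 z fun y => ?_)
  rw [QuadraticMap.polarBilin_apply_apply]
  -- `z` is orthogonal to `v` and to its orthogonal complement
  have hzz := (hmem z).1 hz
  obtain ⟨t, ht⟩ : ∃ t, t = QuadraticMap.polar ⇑Q v y / (2 * Q v) := ⟨_, rfl⟩
  have hy : QuadraticMap.polar ⇑Q v (y - t • v) = 0 := by
    rw [sub_eq_add_neg, ← neg_smul, QuadraticMap.polar_add_right, QuadraticMap.polar_smul_right, polar_self', ht,
      smul_eq_mul]
    field_simp
    ring
  have h3 : QuadraticMap.polar ⇑Q z (y - t • v) = 0 := by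
    have hsum := h _ (show QuadraticMap.polar ⇑Q v (z + (y - t • v)) = 0 by
      rw [QuadraticMap.polar_add_right, hzz, hy, add_zero])
    rw [QuadraticMap.polar, hsum, h z hzz, h _ hy, sub_zero, sub_zero]
  rw [sub_eq_add_neg, ← neg_smul, QuadraticMap.polar_add_right, QuadraticMap.polar_smul_right,
    QuadraticMap.polar_comm (f := ⇑Q) z v, hzz, smul_zero, add_zero] at h3
  exact h3

theorem exists_binary (h2 : (2 : F) ≠ 0) {a b : F} (ha : a ≠ 0) (hb : b ≠ 0) (c : F) :
    ∃ p s : F, p * p * a + s * s * b = c := by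
  have hodd : Fintype.card F % 2 = 1 := by
    refine FiniteField.odd_card_of_char_ne_two fun h => h2 ?_
    have : CharP F 2 := ringChar.of_eq h
    exact CharTwo.two_eq_zero
  obtain ⟨p, s, hps⟩ := FiniteField.exists_root_sum_quadratic
    (f := Polynomial.C a * Polynomial.X ^ 2) (g := Polynomial.C b * Polynomial.X ^ 2 - Polynomial.C c)
    (Polynomial.degree_C_mul_X_pow 2 ha)
    (by rw [Polynomial.degree_sub_C (by rw [Polynomial.degree_C_mul_X_pow 2 hb]; decide)]
        exact Polynomial.degree_C_mul_X_pow 2 hb) hodd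
  simp only [Polynomial.eval_mul, Polynomial.eval_C, Polynomial.eval_pow, Polynomial.eval_X,
    Polynomial.eval_sub] at hps
  exact ⟨p, s, by linear_combination hps⟩

theorem count_split (h2 : (2 : F) ≠ 0) {b b' : F} (hb : b ≠ 0) (hb' : b' ≠ 0) (hns : ¬ IsSquare (b * b')) (z : F) :
    Nat.card {t : F // t * t * b = z} + Nat.card {t : F // t * t * b' = z} = 2 := by
  classical
  by_cases hz : z = 0
  · subst hz
    have e : ∀ d : F, d ≠ 0 → Nat.card {t : F // t * t * d = 0} = 1 := fun d hd => by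
      rw [Nat.card_eq_one_iff_unique]
      refine ⟨⟨fun x y => Subtype.ext ?_⟩, ⟨⟨0, by ring⟩⟩⟩
      rcases x with ⟨x, hx⟩
      rcases y with ⟨y, hy⟩
      simp only [mul_eq_zero, hd, or_false, or_self] at hx hy
      exact hx.trans hy.symm
    rw [e b hb, e b' hb']
  have two : ∀ d : F, d ≠ 0 → IsSquare (z * d) → Nat.card {t : F // t * t * d = z} = 2 := by
    rintro d hd ⟨r, hr⟩
    have hr0 : r ≠ 0 := fun h => mul_ne_zero hz hd (by rw [hr, h, mul_zero])
    rw [Nat.card_eq_fintype_card, Fintype.card_subtype]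
    have e : (Finset.univ.filter fun t : F => t * t * d = z) = {r / d, -(r / d)} := by
      ext t
      simp only [Finset.mem_filter, Finset.mem_univ, true_and, Finset.mem_insert, Finset.mem_singleton]
      constructor
      · intro ht
        have h0 : (t * d - r) * (t * d + r) = 0 := by linear_combination d * ht + hr
        rcases mul_eq_zero.1 h0 with h | h
        · left; field_simp; linear_combination h
        · right; field_simp; linear_combination h
      · rintro (rfl | rfl) <;> (field_simp; linear_combination -hr)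
    rw [e, Finset.card_pair]
    intro h
    have : (2 : F) * (r / d) = 0 := by linear_combination h
    exact mul_ne_zero h2 (div_ne_zero hr0 hd) this
  have none : ∀ d : F, ¬ IsSquare (z * d) → Nat.card {t : F // t * t * d = z} = 0 := by
    intro d hns'
    have : IsEmpty {t : F // t * t * d = z} := ⟨fun ⟨t, ht⟩ => hns' ⟨t * d, by linear_combination -d * ht⟩⟩
    exact Nat.card_of_isEmpty
  by_cases h : IsSquare (z * b)
  · rw [two b hb h, none b' fun h' => hns ?_]
    obtain ⟨r, hr⟩ := h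
    obtain ⟨r', hr'⟩ := h'
    refine ⟨r * r' / z, ?_⟩
    field_simp
    linear_combination (z * b') * hr + r * r * hr'
  · have h' : IsSquare (z * b') := by
      obtain ⟨r, hr⟩ := sq_mul_of_not h2 h hns
      refine ⟨r / b, ?_⟩
      field_simp
      linear_combination hr
    rw [none b h, two b' hb' h']

/-- two reflections with different spinor character -/
theorem exists_pair (h2 : (2 : F) ≠ 0) (hQ : (QuadraticMap.polarBilin Q).Nondegenerate)
    (hn : 2 ≤ Fintype.card ι) :
    ∃ v v' : ι → F, Q v ≠ 0 ∧ Q v' ≠ 0 ∧ ¬ IsSquare (Q v * Q v') ∧ chi Q (R Q v) * chi Q (R Q v') = -1 := by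
  classical
  have : Nonempty ι := Fintype.card_pos_iff.1 (by omega)
  obtain ⟨v, hv⟩ := exists_aniso h2 hQ
  obtain ⟨u, hvu, hu⟩ := exists_orth_aniso h2 hQ hn hv
  have hc2 : ringChar F ≠ 2 := fun h => h2 (by
    have : CharP F 2 := ringChar.of_eq h
    exact CharTwo.two_eq_zero)
  obtain ⟨ν, hν⟩ := FiniteField.exists_nonsquare hc2
  have hν0 : ν ≠ 0 := fun h => hν (h ▸ IsSquare.zero)
  obtain ⟨p, s, hps⟩ := exists_binary h2 hv hu (ν * Q v)
  obtain ⟨v', hv'⟩ : ∃ v', v' = p • v + s • u := ⟨_, rfl⟩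
  obtain ⟨u', hu'⟩ : ∃ u', u' = (s * Q u) • v + (-(p * Q v)) • u := ⟨_, rfl⟩
  have hQv' : Q v' = ν * Q v := by rw [hv', map_comb p s v u hvu, hps]
  have hQu' : Q u' = Q v * Q u * (ν * Q v) := by
    rw [hu', map_comb _ _ v u hvu, ← hps]; ring
  have huv : QuadraticMap.polar ⇑Q u v = 0 := by rw [QuadraticMap.polar_comm, hvu]
  have hv'0 : Q v' ≠ 0 := by rw [hQv']; exact mul_ne_zero hν0 hv
  have hu'0 : Q u' ≠ 0 := by rw [hQu']; exact mul_ne_zero (mul_ne_zero hv hu) (mul_ne_zero hν0 hv)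
  have hv'u' : QuadraticMap.polar ⇑Q v' u' = 0 := by
    simp only [hv', hu', QuadraticMap.polar_add_left, QuadraticMap.polar_add_right, QuadraticMap.polar_smul_left,
      QuadraticMap.polar_smul_right, hvu, huv, polar_self', smul_eq_mul]
    ring
  have hns : ¬ IsSquare (Q v * Q v') := by
    rintro ⟨r, hr⟩
    apply hν
    refine ⟨r / Q v, ?_⟩
    rw [hQv'] at hr
    field_simp
    linear_combination hr
  refine ⟨v, v', hv, hv'0, hns, ?_⟩
  -- the common orthogonal space
  obtain ⟨W, hW⟩ : ∃ W, W = LinearMap.ker (QuadraticMap.polarBilin Q v) ⊓ LinearMap.ker (QuadraticMap.polarBilin Q u) :=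
    ⟨_, rfl⟩
  have hWm : ∀ x, x ∈ W ↔ QuadraticMap.polar ⇑Q v x = 0 ∧ QuadraticMap.polar ⇑Q u x = 0 := fun x => by
    rw [hW, Submodule.mem_inf, LinearMap.mem_ker, LinearMap.mem_ker, QuadraticMap.polarBilin_apply_apply,
      QuadraticMap.polarBilin_apply_apply]
  have param : ∀ z w : ι → F, Q w ≠ 0 → (∀ x, (QuadraticMap.polar ⇑Q z x = 0 ∧ QuadraticMap.polar ⇑Q w x = 0) ↔
      x ∈ W) → QuadraticMap.polar ⇑Q z w = 0 →
      Nat.card {x : Sph Q // QuadraticMap.polar ⇑Q z x.1 = 0} =
        ∑ r : W, Nat.card {t : F // t * t * Q w = 1 - Q (r : ι → F)} := by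
    intro z w hw hiff hzw
    rw [← Nat.card_sigma]
    have hcoef : ∀ (r : W) (t : F), QuadraticMap.polar ⇑Q w ((r : ι → F) + t • w) / (2 * Q w) = t := fun r t => by
      rw [QuadraticMap.polar_add_right, ((hiff _).2 r.2).2, QuadraticMap.polar_smul_right, polar_self', smul_eq_mul]
      field_simp
      ring
    refine (Nat.card_eq_of_bijective (fun y : Σ r : W, {t : F // t * t * Q w = 1 - Q (r : ι → F)} =>
      (⟨⟨(y.1 : ι → F) + y.2.1 • w, ?_⟩, ?_⟩ : {x : Sph Q // QuadraticMap.polar ⇑Q z x.1 = 0})) ⟨?_, ?_⟩).symm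
    · have h0 : QuadraticMap.polar ⇑Q (y.1 : ι → F) w = 0 := by
        rw [QuadraticMap.polar_comm, ((hiff _).2 y.1.2).2]
      rw [map_add', map_smul', QuadraticMap.polar_smul_right, h0, y.2.2]
      simp
    · show QuadraticMap.polar ⇑Q z _ = 0
      rw [QuadraticMap.polar_add_right, QuadraticMap.polar_smul_right, hzw, ((hiff _).2 y.1.2).1]
      simp
    · rintro ⟨r, t, ht⟩ ⟨r', t', ht'⟩ h
      have h' : (r : ι → F) + t • w = (r' : ι → F) + t' • w := congrArg (fun x => x.1.1) h
      have e : t = t' := by rw [← hcoef r t, h', hcoef r' t']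
      subst e
      obtain rfl : r = r' := Subtype.ext (add_right_cancel h')
      rfl
    · rintro ⟨⟨x, hx⟩, hzx⟩
      replace hzx : QuadraticMap.polar ⇑Q z x = 0 := hzx
      obtain ⟨t, ht⟩ : ∃ t, t = QuadraticMap.polar ⇑Q w x / (2 * Q w) := ⟨_, rfl⟩
      have hr : x + (-t) • w ∈ W := by
        rw [← hiff, QuadraticMap.polar_add_right, QuadraticMap.polar_add_right, QuadraticMap.polar_smul_right,
          QuadraticMap.polar_smul_right, hzx, hzw, polar_self', ht, smul_eq_mul, smul_eq_mul]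
        constructor
        · ring
        · field_simp; ring
      refine ⟨⟨⟨_, hr⟩, t, ?_⟩, ?_⟩
      · show t * t * Q w = 1 - Q (x + (-t) • w)
        rw [map_add', hx, map_smul', QuadraticMap.polar_smul_right, QuadraticMap.polar_comm (f := ⇑Q) x w, smul_eq_mul]
        have : QuadraticMap.polar ⇑Q w x = t * (2 * Q w) := by rw [ht]; field_simp
        linear_combination -t * this
      · refine Subtype.ext (Subtype.ext ?_)
        show x + (-t) • w + t • w = x
        rw [neg_smul, neg_add_cancel_right]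
  have h1 := param v u hu (fun x => (hWm x).symm) hvu
  have h2' := param v' u' hu'0 (fun x => by
    rw [hWm, hv', hu']
    simp only [QuadraticMap.polar_add_left, QuadraticMap.polar_smul_left, smul_eq_mul]
    constructor
    · rintro ⟨e1, e2⟩
      have hD : p * p * Q v + s * s * Q u ≠ 0 := by rw [hps]; exact mul_ne_zero hν0 hv
      constructor
      · refine (mul_eq_zero.1 ?_).resolve_left hD
        linear_combination (p * Q v) * e1 + s * e2
      · refine (mul_eq_zero.1 ?_).resolve_left hD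
        linear_combination (s * Q u) * e1 - p * e2
    · rintro ⟨e1, e2⟩
      rw [e1, e2]; constructor <;> ring) hv'u'
  have hbb : ¬ IsSquare (Q u * Q u') := by
    rintro ⟨r, hr⟩
    apply hν
    refine ⟨r / (Q u * Q v), ?_⟩
    rw [hQu'] at hr
    field_simp
    linear_combination hr
  have hsum : Nat.card {x : Sph Q // QuadraticMap.polar ⇑Q v x.1 = 0} +
      Nat.card {x : Sph Q // QuadraticMap.polar ⇑Q v' x.1 = 0} = 2 * Nat.card W := by
    rw [h1, h2', ← Finset.sum_add_distrib, Finset.sum_congr rfl fun r _ => count_split h2 hu hu'0 hbb _,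
      Finset.sum_const, Finset.card_univ, smul_eq_mul, Nat.card_eq_fintype_card, mul_comm]
  have hWodd : Odd (Nat.card W) := by
    rw [Module.natCard_eq_pow_finrank (K := F), Nat.card_eq_fintype_card]
    exact (Nat.odd_iff.2 (FiniteField.odd_card_of_char_ne_two hc2)).pow
  have hSeven : Even (Fintype.card (Sph Q)) := by
    let τ : Equiv.Perm (Sph Q) :=
      { toFun := fun x => ⟨-x.1, by rw [QuadraticMap.map_neg]; exact x.2⟩
        invFun := fun x => ⟨-x.1, by rw [QuadraticMap.map_neg]; exact x.2⟩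
        left_inv := fun x => Subtype.ext (neg_neg x.1)
        right_inv := fun x => Subtype.ext (neg_neg x.1) }
    obtain ⟨k, hk, -⟩ := sign_of_involution τ (Equiv.ext fun x => Subtype.ext (neg_neg x.1))
    have e : τ.support = Finset.univ := by
      refine Finset.eq_univ_iff_forall.2 fun x => Equiv.Perm.mem_support.2 fun h => ?_
      have h' : -x.1 = x.1 := congrArg Subtype.val h
      have h0 : x.1 = 0 := by
        funext i
        have := congrFun h' i
        simp only [Pi.neg_apply] at this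
        exact (mul_eq_zero.1 (show (2 : F) * x.1 i = 0 by linear_combination -this)).resolve_left h2
      have h1 : Q x.1 = 1 := x.2
      rw [h0, map_zero] at h1
      exact zero_ne_one h1
    rw [e, Finset.card_univ] at hk
    exact ⟨k, by omega⟩
  have half : ∀ z, Q z ≠ 0 → ∃ k, chi Q (R Q z) = (-1) ^ k ∧
      2 * k + Nat.card {x : Sph Q // QuadraticMap.polar ⇑Q z x.1 = 0} = Fintype.card (Sph Q) := by
    intro z hz
    obtain ⟨k, hk, hsg⟩ := sign_of_involution (permHom Q (R Q z)) (by rw [← map_mul, R_mul_self hz, map_one])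
    refine ⟨k, hsg, ?_⟩
    rw [← hk, Nat.card_eq_fintype_card, Fintype.card_subtype]
    rw [show (permHom Q (R Q z)).support = Finset.univ.filter fun x : Sph Q => ¬ QuadraticMap.polar ⇑Q z x.1 = 0 from ?_]
    · rw [add_comm, Finset.card_filter_add_card_filter_not]
      rfl
    ext x
    rw [Equiv.Perm.mem_support, Finset.mem_filter]
    simp only [Finset.mem_univ, true_and]
    have e : permHom Q (R Q z) x = x ↔ act Q (R Q z) x.1 = x.1 :=
      ⟨fun h => congrArg Subtype.val h, fun h => Subtype.ext h⟩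
    rw [not_iff_not, e, R_act hz, sub_eq_self, smul_eq_zero, mul_eq_zero]
    have hz0 : z ≠ 0 := fun h => hz (by rw [h, map_zero])
    simp [hz, hz0]
  obtain ⟨k, hk, hk2⟩ := half v hv
  obtain ⟨k', hk', hk'2⟩ := half v' hv'0
  rw [hk, hk', ← pow_add]
  refine Odd.neg_one_pow ?_
  obtain ⟨w, hw⟩ := hWodd
  obtain ⟨j, hj⟩ := hSeven
  exact Nat.odd_iff.2 (by omega)

/-- the character separates the square classes -/
theorem chi_eq_iff (h2 : (2 : F) ≠ 0) (hQ : (QuadraticMap.polarBilin Q).Nondegenerate)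
    (hn : 2 ≤ Fintype.card ι) {v w : ι → F} (hv : Q v ≠ 0) (hw : Q w ≠ 0) :
    chi Q (R Q v) = chi Q (R Q w) ↔ IsSquare (Q v * Q w) := by
  have same : ∀ {v w : ι → F}, Q v ≠ 0 → Q w ≠ 0 → IsSquare (Q v * Q w) → chi Q (R Q v) = chi Q (R Q w) := by
    intro v w hv hw h
    obtain ⟨g, hg⟩ := R_conj_of_square h2 hv hw h
    rw [← hg, chi_conj]
  refine ⟨fun h => ?_, same hv hw⟩
  by_contra hns
  obtain ⟨a, b, ha, hb, hab, hprod⟩ := exists_pair h2 hQ hn
  by_cases h1 : IsSquare (Q a * Q v)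
  · have h3 : ¬ IsSquare (Q a * Q w) := by
      rintro ⟨r, hr⟩
      obtain ⟨r', hr'⟩ := h1
      refine hns ⟨r * r' / Q a, ?_⟩
      field_simp
      linear_combination (Q a * Q w) * hr' + r' * r' * hr
    obtain ⟨r, hr⟩ := sq_mul_of_not h2 hab h3
    have h4 : IsSquare (Q b * Q w) := ⟨r / Q a, by field_simp; linear_combination hr⟩
    rw [same ha hv h1, same hb hw h4, h] at hprod
    rcases Int.units_eq_one_or (chi Q (R Q w)) with e | e <;> rw [e] at hprod <;> simp at hprod
  · obtain ⟨r, hr⟩ := sq_mul_of_not h2 hab h1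
    have h4 : IsSquare (Q b * Q v) := ⟨r / Q a, by field_simp; linear_combination hr⟩
    have h5 : IsSquare (Q a * Q w) := by
      obtain ⟨r', hr'⟩ := sq_mul_of_not h2 h1 hns
      exact ⟨r' / Q v, by field_simp; linear_combination hr'⟩
    rw [same hb hv h4, same ha hw h5, h] at hprod
    rcases Int.units_eq_one_or (chi Q (R Q w)) with e | e <;> rw [e] at hprod <;> simp at hprod

theorem gen (h2 : (2 : F) ≠ 0) (hQ : (QuadraticMap.polarBilin Q).Nondegenerate) :
    Subgroup.closure {g : Cfsg.isometryGroup F ⇑Q | ∃ v, Q v ≠ 0 ∧ g = R Q v} = ⊤ := by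
  have h : Fintype.card F ≠ 2 ∨ Fintype.card ι ≠ 4 := Or.inl fun hc => by
    have := FiniteField.even_card_iff_char_two.2 (show Fintype.card F % 2 = 0 by rw [hc])
    have : CharP F 2 := ringChar.of_eq this
    exact h2 CharTwo.two_eq_zero
  rw [← Refl.W_eq_top hQ h, Refl.W]
  congr 1
  ext g
  refine ⟨fun ⟨v, hv, hg⟩ => ⟨v, hv, by rw [hg, R_val hv]⟩, fun ⟨v, hv, hg⟩ => ⟨v, hv, Subtype.ext (Units.ext ?_)⟩⟩
  rw [hg, R_val hv]

/-- every element is a product of at most two fixed reflections modulo the derived subgroup -/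
theorem reps (h2 : (2 : F) ≠ 0) (hQ : (QuadraticMap.polarBilin Q).Nondegenerate) {v v' : ι → F}
    (hv : Q v ≠ 0) (hv' : Q v' ≠ 0) (hns : ¬ IsSquare (Q v * Q v')) (g : Cfsg.isometryGroup F ⇑Q) :
    g ∈ Cfsg.Omega F ⇑Q ∨ g * R Q v ∈ Cfsg.Omega F ⇑Q ∨ g * R Q v' ∈ Cfsg.Omega F ⇑Q ∨
      g * (R Q v * R Q v') ∈ Cfsg.Omega F ⇑Q := by
  obtain ⟨π, hπ⟩ : ∃ π, π = (Abelianization.of : Cfsg.isometryGroup F ⇑Q →* _) := ⟨_, rfl⟩
  have hmem : ∀ x, x ∈ Cfsg.Omega F ⇑Q ↔ π x = 1 := fun x => by
    rw [← MonoidHom.mem_ker, hπ, Abelianization.ker_of]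
  have hsq : ∀ z, Q z ≠ 0 → π (R Q z) * π (R Q z) = 1 := fun z hz => by rw [← map_mul, R_mul_self hz, map_one]
  have hA := hsq v hv
  have hB := hsq v' hv'
  have hA' : ∀ x, π (R Q v) * (π (R Q v) * x) = x := fun x => by rw [← mul_assoc, hA, one_mul]
  have hB' : ∀ x, π (R Q v') * (π (R Q v') * x) = x := fun x => by rw [← mul_assoc, hB, one_mul]
  have key : π g = 1 ∨ π g = π (R Q v) ∨ π g = π (R Q v') ∨ π g = π (R Q v) * π (R Q v') := by
    have hg : g ∈ Subgroup.closure {g : Cfsg.isometryGroup F ⇑Q | ∃ v, Q v ≠ 0 ∧ g = R Q v} := by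
      rw [gen h2 hQ]; trivial
    induction hg using Subgroup.closure_induction with
    | mem x hx =>
      obtain ⟨z, hz, rfl⟩ := hx
      have conj : ∀ w, Q w ≠ 0 → IsSquare (Q w * Q z) → π (R Q z) = π (R Q w) := by
        intro w hw h
        obtain ⟨c, hc⟩ := R_conj_of_square h2 hw hz h
        rw [← hc, map_mul, map_mul, map_inv, mul_inv_cancel_comm]
      by_cases h : IsSquare (Q v * Q z)
      · exact Or.inr (Or.inl (conj v hv h))
      · refine Or.inr (Or.inr (Or.inl (conj v' hv' ?_)))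
        obtain ⟨r, hr⟩ := sq_mul_of_not h2 hns h
        exact ⟨r / Q v, by field_simp; linear_combination hr⟩
    | one => exact Or.inl (map_one π)
    | mul x y _ _ hx hy =>
      rw [map_mul]
      rcases hx with hx | hx | hx | hx <;> rcases hy with hy | hy | hy | hy <;> rw [hx, hy]
      all_goals first
        | (refine Or.inl ?_; simp [hA, hB, hA', hB', mul_assoc, mul_comm, mul_left_comm]; done)
        | (refine Or.inr (Or.inl ?_); simp [hA, hB, hA', hB', mul_assoc, mul_comm, mul_left_comm]; done)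
        | (refine Or.inr (Or.inr (Or.inl ?_)); simp [hA, hB, hA', hB', mul_assoc, mul_comm, mul_left_comm]; done)
        | (refine Or.inr (Or.inr (Or.inr ?_)); simp [hA, hB, hA', hB', mul_assoc, mul_comm, mul_left_comm]; done)
    | inv x _ hx =>
      rw [map_inv]
      rcases hx with hx | hx | hx | hx <;> rw [hx]
      · exact Or.inl inv_one
      · exact Or.inr (Or.inl (inv_eq_of_mul_eq_one_right hA))
      · exact Or.inr (Or.inr (Or.inl (inv_eq_of_mul_eq_one_right hB)))
      · exact Or.inr (Or.inr (Or.inr (by rw [mul_inv, inv_eq_of_mul_eq_one_right hA, inv_eq_of_mul_eq_one_right hB])))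
  rcases key with h | h | h | h
  · exact Or.inl ((hmem g).2 h)
  · exact Or.inr (Or.inl ((hmem _).2 (by rw [map_mul, h, hA])))
  · exact Or.inr (Or.inr (Or.inl ((hmem _).2 (by rw [map_mul, h, hB]))))
  · exact Or.inr (Or.inr (Or.inr ((hmem _).2 (by
      rw [map_mul, map_mul, h, mul_mul_mul_comm, hA, hB, one_mul]))))

theorem chi_omega {g : Cfsg.isometryGroup F ⇑Q} (h : g ∈ Cfsg.Omega F ⇑Q) : chi Q g = 1 := by
  have := Abelianization.commutator_subset_ker (chi Q) h
  exact this

theorem det_omega {g : Cfsg.isometryGroup F ⇑Q} (h : g ∈ Cfsg.Omega F ⇑Q) :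
    ((g : GL ι F) : Matrix ι ι F).det = 1 := by
  have := Abelianization.commutator_subset_ker
    (Matrix.GeneralLinearGroup.det.comp (Cfsg.isometryGroup F ⇑Q).subtype) h
  exact congrArg Units.val this

theorem det_mul (g h : Cfsg.isometryGroup F ⇑Q) :
    (((g * h : Cfsg.isometryGroup F ⇑Q) : GL ι F) : Matrix ι ι F).det =
      ((g : GL ι F) : Matrix ι ι F).det * ((h : GL ι F) : Matrix ι ι F).det := by
  rw [Subgroup.coe_mul, Units.val_mul, Matrix.det_mul]

/-- the derived subgroup -/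
theorem mem_omega_iff (h2 : (2 : F) ≠ 0) (hQ : (QuadraticMap.polarBilin Q).Nondegenerate)
    (hn : 2 ≤ Fintype.card ι) (g : Cfsg.isometryGroup F ⇑Q) :
    g ∈ Cfsg.Omega F ⇑Q ↔ ((g : GL ι F) : Matrix ι ι F).det = 1 ∧ chi Q g = 1 := by
  refine ⟨fun h => ⟨det_omega h, chi_omega h⟩, fun ⟨hd, hc⟩ => ?_⟩
  obtain ⟨v, v', hv, hv', hns, hprod⟩ := exists_pair h2 hQ hn
  have hne : (-1 : F) ≠ 1 := fun h => h2 (by linear_combination -h)
  rcases reps h2 hQ hv hv' hns g with h | h | h | h
  · exact h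
  · have := det_omega h
    rw [det_mul, hd, R_det hv, one_mul] at this
    exact absurd this hne
  · have := det_omega h
    rw [det_mul, hd, R_det hv', one_mul] at this
    exact absurd this hne
  · have := chi_omega h
    rw [map_mul, map_mul, hc, hprod, one_mul] at this
    exact absurd this (by decide)

/-- the two characters, jointly surjective -/
theorem omega_index (h2 : (2 : F) ≠ 0) (hQ : (QuadraticMap.polarBilin Q).Nondegenerate)
    (hn : 2 ≤ Fintype.card ι) : (Cfsg.Omega F ⇑Q).index = 4 := by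
  classical
  obtain ⟨v, v', hv, hv', hns, hprod⟩ := exists_pair h2 hQ hn
  have hne : (-1 : F) ≠ 1 := fun h => h2 (by linear_combination -h)
  obtain ⟨f, hf⟩ : ∃ f : Fin 2 × Fin 2 → Cfsg.isometryGroup F ⇑Q ⧸ Cfsg.Omega F ⇑Q,
      f = fun ij => ((R Q v ^ (ij.1 : ℕ) * R Q v' ^ (ij.2 : ℕ) : Cfsg.isometryGroup F ⇑Q) : _ ⧸ Cfsg.Omega F ⇑Q) :=
    ⟨_, rfl⟩
  rw [Subgroup.index, ← Nat.card_eq_of_bijective f ⟨?_, ?_⟩]
  · simp [Nat.card_eq_fintype_card]
  · rintro ⟨i, j⟩ ⟨i', j'⟩ h
    rw [hf] at h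
    replace h := QuotientGroup.eq.1 h
    have hdet := det_omega h
    have hchi := chi_omega h
    simp only [Subgroup.coe_mul, InvMemClass.coe_inv, SubmonoidClass.coe_pow, Units.val_mul, Matrix.det_mul,
      Units.val_pow_eq_pow_val, Matrix.det_pow, Matrix.coe_units_inv, Matrix.det_nonsing_inv, R_det hv, R_det hv',
      Ring.inverse_eq_inv'] at hdet
    simp only [map_mul, map_inv, map_pow] at hchi
    rcases Int.units_eq_one_or (chi Q (R Q v)) with e | e <;>
      rcases Int.units_eq_one_or (chi Q (R Q v')) with e' | e' <;> rw [e, e'] at hprod <;>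
      rw [e, e'] at hchi <;> simp at hprod <;> fin_cases i <;> fin_cases j <;> fin_cases i' <;> fin_cases j' <;>
      simp_all [neg_eq_iff_eq_neg]
  · intro x
    obtain ⟨g, rfl⟩ := QuotientGroup.mk_surjective x
    have step : ∀ a, g * a ∈ Cfsg.Omega F ⇑Q → (g : Cfsg.isometryGroup F ⇑Q ⧸ Cfsg.Omega F ⇑Q) = ((a⁻¹ : Cfsg.isometryGroup F ⇑Q) : _ ⧸ _) :=
      fun a h => QuotientGroup.eq.2 (by
        rw [← _root_.mul_inv_rev]
        exact (Cfsg.Omega F ⇑Q).inv_mem ((inferInstance : (Cfsg.Omega F ⇑Q).Normal).mem_comm h))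
    rw [hf]
    rcases reps h2 hQ hv hv' hns g with h | h | h | h
    · exact ⟨(0, 0), by simpa using (QuotientGroup.eq_one_iff g).2 h |>.symm⟩
    · exact ⟨(1, 0), by simpa [R_inv hv] using (step _ h).symm⟩
    · exact ⟨(0, 1), by simpa [R_inv hv'] using (step _ h).symm⟩
    · refine ⟨(1, 1), ?_⟩
      rw [step _ h, _root_.mul_inv_rev, R_inv hv, R_inv hv']
      simp only [Fin.isValue, Fin.val_one, pow_one]
      refine QuotientGroup.eq.2 ((mem_omega_iff h2 hQ hn _).2 ⟨?_, ?_⟩)
      · simp only [_root_.mul_inv_rev, R_inv hv, R_inv hv', det_mul, R_det hv, R_det hv']; norm_num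
      · simp only [_root_.mul_inv_rev, R_inv hv, R_inv hv', map_mul, hprod, mul_comm (chi Q (R Q v')) (chi Q (R Q v))]
        norm_num

end CfsgLib.Lie.OrthChar
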