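import Cfsg.Agent.Lie.OrthSimple
import Cfsg.Prelude.Def_GeometricClasses

/-!
A subgroup of the derived orthogonal group with two opposite full root groups is everything; maximality of the
stabiliser of a totally singular subspace.
-/

set_option autoImplicit false
set_option linter.unusedSimpArgs false
set_option linter.unusedSectionVars false

namespace CfsgLib.Lie.OrthFull

open Matrix QuadraticMap
open CfsgLib.Lie.Refl (act act_mul act_one act_inv act_inj act_Q act_polar act_ext)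
open CfsgLib.Lie.OrthChar (map_add')
open CfsgLib.Lie.OrthRoot CfsgLib.Lie.OrthSimple

variable {F : Type*} [Field F] [Fintype F] {ι : Type} [Fintype ι] [DecidableEq ι]
  {Q : QuadraticForm F (ι → F)}

theorem act_inv' (g : Cfsg.isometryGroup F ⇑Q) (x : ι → F) : act Q g (act Q g⁻¹ x) = x := by
  rw [← act_mul, mul_inv_cancel, act_one]

/-- all root transformations at a point lie in the subgroup -/
def Pt (M : Subgroup (Cfsg.isometryGroup F ⇑Q)) (u : ι → F) : Prop :=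
  Q u = 0 ∧ ∀ a, polar ⇑Q u a = 0 → E Q u a ∈ M

theorem Pt.smul {M : Subgroup (Cfsg.isometryGroup F ⇑Q)} {u : ι → F} (h : Pt M u) (c : F) : Pt M (c • u) := by
  refine ⟨by rw [OrthChar.map_smul', h.1, mul_zero], fun a ha => ?_⟩
  rw [QuadraticMap.polar_smul_left, smul_eq_mul] at ha
  rcases mul_eq_zero.1 ha with hc | ha
  · rw [hc, E_of_eq_zero (zero_smul F u)]; exact one_mem _
  · rw [E_smul h.1 ha]
    exact h.2 _ (by rw [QuadraticMap.polar_smul_right, ha, smul_zero])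

theorem Pt.move {M : Subgroup (Cfsg.isometryGroup F ⇑Q)} {u : ι → F} (h : Pt M u)
    {g : Cfsg.isometryGroup F ⇑Q} (hg : g ∈ M) : Pt M (act Q g u) := by
  refine ⟨by rw [act_Q, h.1], fun a ha => ?_⟩
  obtain ⟨b, rfl⟩ : ∃ b, act Q g b = a := ⟨act Q g⁻¹ a, act_inv' g a⟩
  rw [act_polar] at ha
  rw [← E_conj g h.1 ha]
  exact mul_mem (mul_mem hg (h.2 _ ha)) (inv_mem hg)

variable (hQ : (QuadraticMap.polarBilin Q).Nondegenerate) (h5 : 5 ≤ Fintype.card ι)

include hQ h5 in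
/-- two non-orthogonal such points suffice -/
theorem full (M : Subgroup (Cfsg.isometryGroup F ⇑Q)) {u f : ι → F} (hu : Pt M u) (hf : Pt M f)
    (huf : polar ⇑Q u f ≠ 0) : Cfsg.Omega F ⇑Q ≤ M := by
  have h1 : ∀ {u f p : ι → F}, Pt M u → Pt M f → polar ⇑Q u f ≠ 0 → Q p = 0 → polar ⇑Q u p ≠ 0 → Pt M p := by
    intro u f p hu hf huf hp hup
    obtain ⟨f1, hf1⟩ : ∃ f1, f1 = (polar ⇑Q u f)⁻¹ • f := ⟨_, rfl⟩
    obtain ⟨p1, hp1⟩ : ∃ p1, p1 = (polar ⇑Q u p)⁻¹ • p := ⟨_, rfl⟩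
    have hf1P : Pt M f1 := hf1 ▸ hf.smul _
    obtain ⟨h0, hmove⟩ := E_move hu.1 hf1P.1 (p := p1) (by rw [hp1, OrthChar.map_smul', hp, mul_zero])
      (by rw [hf1, QuadraticMap.polar_smul_right, smul_eq_mul, inv_mul_cancel₀ huf])
      (by rw [hp1, QuadraticMap.polar_smul_right, smul_eq_mul, inv_mul_cancel₀ hup])
    have h2 := (hf1P.move (hu.2 _ h0)).smul (polar ⇑Q u p)
    rwa [hmove, hp1, smul_smul, mul_inv_cancel₀ hup, one_smul] at h2
  have hall : ∀ p, Q p = 0 → Pt M p := by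
    intro p hp
    rcases eq_or_ne p 0 with h0 | h0
    · exact ⟨hp, fun a _ => by rw [E_of_eq_zero h0]; exact one_mem _⟩
    have hu0 : u ≠ 0 := fun h => huf (by rw [h, QuadraticMap.polar_zero_left])
    obtain ⟨g, hg, hgu, hgp⟩ := exists_common hQ h5 hu0 hu.1 h0 hp
    exact h1 (h1 hu hf huf hg (by rwa [QuadraticMap.polar_comm])) hu hgu hp hgp
  rw [omega_eq hQ h5, T, Subgroup.closure_le]
  rintro g ⟨a, b, c, ha, hb, hab, hg⟩
  rw [siegel_eq ha hb hab c hg]
  exact (hall a ha).2 _ (by rw [QuadraticMap.polar_smul_right, hab, smul_zero])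

/-- stabilising a subspace -/
def Stab (W : Submodule F (ι → F)) (g : Cfsg.isometryGroup F ⇑Q) : Prop := ∀ x, x ∈ W ↔ act Q g x ∈ W

theorem stab_of_fwd {W : Submodule F (ι → F)} {g : Cfsg.isometryGroup F ⇑Q} (h : ∀ x ∈ W, act Q g x ∈ W) :
    Stab W g := by
  obtain ⟨G, hG⟩ : ∃ G, G = Matrix.toLin' ((g : GL ι F) : Matrix ι ι F) := ⟨_, rfl⟩
  have hGx : ∀ x, G x = act Q g x := fun x => by rw [hG, Matrix.toLin'_apply]; rfl
  have hinj : Function.Injective G := fun x y hxy => act_inj g (by rw [← hGx, ← hGx, hxy])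
  have hle : W.map G ≤ W := by
    rintro _ ⟨x, hx, rfl⟩
    rw [hGx]
    exact h x hx
  have heq : W.map G = W :=
    Submodule.eq_of_le_of_finrank_eq hle (Submodule.equivMapOfInjective G hinj W).finrank_eq.symm
  refine fun x => ⟨h x, fun hx => ?_⟩
  obtain ⟨y, hy, hyx⟩ : act Q g x ∈ W.map G := by rwa [heq]
  rwa [← hinj (hyx.trans (hGx x).symm)]

theorem stab_E {W : Submodule F (ι → F)} {u a : ι → F} (hu : Q u = 0) (ha : polar ⇑Q u a = 0)
    (h : ∀ x ∈ W, (polar ⇑Q u x = 0 ∧ polar ⇑Q a x = 0) ∨ (a ∈ W ∧ u ∈ W) ∨ (polar ⇑Q u x = 0 ∧ u ∈ W)) :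
    Stab W (E Q u a) := by
  refine stab_of_fwd fun x hx => ?_
  rw [E_act hu ha]
  rcases h x hx with ⟨h1, h2⟩ | ⟨h1, h2⟩ | ⟨h1, h2⟩
  · simp [h1, h2, hx]
  · exact sub_mem (add_mem hx (sub_mem (W.smul_mem _ h1) (W.smul_mem _ h2))) (W.smul_mem _ h2)
  · rw [h1, zero_smul, mul_zero, zero_smul, sub_zero, zero_sub]
    exact add_mem hx (neg_mem (W.smul_mem _ h2))

include hQ in
theorem exists_rep_in (W : Submodule F (ι → F)) {p : ι → F} (hp : p ∉ W) :
    ∃ z, (∀ w ∈ W, polar ⇑Q w z = 0) ∧ polar ⇑Q p z = 1 := by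
  obtain ⟨φ, hφp, hφ⟩ := Submodule.exists_dual_map_eq_bot_of_notMem hp inferInstance
  obtain ⟨z, hz⟩ := Quad.exists_rep _ hQ ((φ p)⁻¹ • φ)
  refine ⟨z, fun w hw => ?_, ?_⟩
  · have h1 : φ w ∈ W.map φ := Submodule.mem_map_of_mem hw
    rw [hφ, Submodule.mem_bot] at h1
    rw [← QuadraticMap.polarBilin_apply_apply, hz, LinearMap.smul_apply, h1, smul_zero]
  · rw [← QuadraticMap.polarBilin_apply_apply, hz, LinearMap.smul_apply, smul_eq_mul, inv_mul_cancel₀ hφp]

/-- the orthogonal complement of a subspace -/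
def perpW (Q : QuadraticForm F (ι → F)) (W : Submodule F (ι → F)) : Submodule F (ι → F) where
  carrier := {x | ∀ w ∈ W, polar ⇑Q w x = 0}
  add_mem' ha hb w hw := by rw [QuadraticMap.polar_add_right, ha w hw, hb w hw, add_zero]
  zero_mem' w _ := QuadraticMap.polar_zero_right Q w
  smul_mem' c x hx w hw := by rw [QuadraticMap.polar_smul_right, hx w hw, smul_zero]

theorem mem_perpW {W : Submodule F (ι → F)} {x : ι → F} :
    x ∈ perpW Q W ↔ ∀ w ∈ W, polar ⇑Q w x = 0 := Iff.rfl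

include hQ in
theorem finrank_perpW (W : Submodule F (ι → F)) :
    Module.finrank F (perpW Q W) + Module.finrank F W = Fintype.card ι := by
  let S : (ι → F) →ₗ[F] (W →ₗ[F] F) := LinearMap.domRestrict' W ∘ₗ QuadraticMap.polarBilin Q
  have hker : LinearMap.ker S = perpW Q W := by
    ext x
    rw [LinearMap.mem_ker, mem_perpW]
    constructor
    · intro h w hw
      rw [QuadraticMap.polar_comm]
      exact LinearMap.congr_fun h ⟨w, hw⟩
    · exact fun h => LinearMap.ext fun v => (QuadraticMap.polar_comm (f := ⇑Q) x v.1).trans (h v.1 v.2)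
  have hsurj : Function.Surjective S := by
    intro ψ
    obtain ⟨ψ', hψ'⟩ := LinearMap.exists_extend ψ
    obtain ⟨z, hz⟩ := Quad.exists_rep _ hQ ψ'
    refine ⟨z, LinearMap.ext fun v => ?_⟩
    rw [← hψ']
    exact ((QuadraticMap.polar_comm (f := ⇑Q) z (v : ι → F)).trans (hz v))
  have d1 := LinearMap.finrank_range_add_finrank_ker S
  rw [LinearMap.range_eq_top.2 hsurj, finrank_top, Subspace.dual_finrank_eq,
    Module.finrank_fintype_fun_eq_card, hker] at d1
  omega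

include hQ h5 in
/-- the stabiliser of a totally singular subspace -/
theorem ts_full (W : Submodule F (ι → F)) (hW0 : W ≠ ⊥) (hW : ∀ w ∈ W, Q w = 0)
    (hdim : 2 * (Module.finrank F W + 1) ≠ Fintype.card ι ∨
      ∀ U : Submodule F (ι → F), (∀ u ∈ U, Q u = 0) → 2 * Module.finrank F U ≠ Fintype.card ι)
    (M : Subgroup (Cfsg.isometryGroup F ⇑Q))
    (hM : ∀ g ∈ Cfsg.Omega F ⇑Q, Stab W g → g ∈ M)
    {m : Cfsg.isometryGroup F ⇑Q} (hm : m ∈ M) (hmW : ¬ Stab W m) : Cfsg.Omega F ⇑Q ≤ M := by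
  have hWW : ∀ a ∈ W, ∀ b ∈ W, polar ⇑Q a b = 0 := fun a ha b hb => by
    rw [QuadraticMap.polar, hW _ (add_mem ha hb), hW a ha, hW b hb]; simp
  have hPt : ∀ w ∈ W, Pt M w := fun w hw => ⟨hW w hw, fun a ha => hM _ (E_omega hQ h5 (hW w hw) ha)
    (stab_E (hW w hw) ha fun x hx => Or.inr (Or.inr ⟨hWW w hw x hx, hw⟩))⟩
  obtain ⟨w0, hw0, hp0⟩ : ∃ w ∈ W, act Q m w ∉ W := by
    by_contra hc; push Not at hc; exact hmW (stab_of_fwd hc)
  by_cases hnon : ∃ w ∈ W, polar ⇑Q w (act Q m w0) ≠ 0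
  · obtain ⟨w, hw, hne⟩ := hnon
    exact full hQ h5 M (hPt w hw) ((hPt w0 hw0).move hm) hne
  push Not at hnon
  obtain ⟨p, hp⟩ : ∃ p, p = act Q m w0 := ⟨_, rfl⟩
  rw [← hp] at hp0 hnon
  have hpP : Pt M p := hp ▸ (hPt w0 hw0).move hm
  obtain ⟨z, hzW, hzp⟩ := exists_rep_in hQ W hp0
  obtain ⟨g, hg⟩ : ∃ g, g = z - Q z • p := ⟨_, rfl⟩
  have hgW : ∀ w ∈ W, polar ⇑Q w g = 0 := fun w hw => by
    rw [hg, sub_eq_add_neg, QuadraticMap.polar_add_right, QuadraticMap.polar_neg_right,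
      QuadraticMap.polar_smul_right, hzW w hw, hnon w hw]
    simp
  have hgQ : Q g = 0 := by rw [hg, Quad.map_sub_smul, hzp, hpP.1]; ring
  have hgp : polar ⇑Q g p = 1 := by
    rw [hg, sub_eq_add_neg, QuadraticMap.polar_add_left, QuadraticMap.polar_neg_left,
      QuadraticMap.polar_smul_left, QuadraticMap.polar_self, hpP.1, QuadraticMap.polar_comm (f := ⇑Q) z p, hzp]
    simp
  -- a non-singular direction
  obtain ⟨x, ⟨hxW, hgx⟩, hx⟩ : ∃ x ∈ perpW Q W ⊓ perp Q g, Q x ≠ 0 := by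
    by_contra hc
    push Not at hc
    have hTS : ∀ a ∈ perpW Q W ⊓ perp Q g, ∀ b ∈ perpW Q W ⊓ perp Q g, polar ⇑Q a b = 0 := fun a ha b hb => by
      rw [QuadraticMap.polar, hc _ (add_mem ha hb), hc a ha, hc b hb]; simp
    have h1 := finrank_inf_perp (Q := Q) (perpW Q W) g
    have h2 := finrank_perpW hQ W
    have h3 : 2 * Module.finrank F W ≤ Fintype.card ι := by
      by_contra h
      obtain ⟨a, ha, b, hb, hab⟩ := exists_not_isotropic hQ W (by omega)
      exact hab (hWW a ha b hb)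
    have h4 : 2 * Module.finrank F (perpW Q W ⊓ perp Q g : Submodule F (ι → F)) ≤ Fintype.card ι := by
      by_contra h
      obtain ⟨a, ha, b, hb, hab⟩ := exists_not_isotropic hQ _ (show Fintype.card ι <
        2 * Module.finrank F (perpW Q W ⊓ perp Q g : Submodule F (ι → F)) by omega)
      exact hab (hTS a ha b hb)
    have h5' : 1 ≤ Module.finrank F W := by
      by_contra h
      exact hW0 (Submodule.finrank_eq_zero.1 (by omega))
    -- `p` is singular, outside `W`, and orthogonal to `W`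
    have h6 : 2 * (Module.finrank F W + 1) ≤ Fintype.card ι := by
      by_contra h
      have hW' : ∀ a ∈ W ⊔ (F ∙ p), ∀ b ∈ W ⊔ (F ∙ p), polar ⇑Q a b = 0 := by
        intro a ha b hb
        obtain ⟨a1, ha1, a2, ha2, rfl⟩ := Submodule.mem_sup.1 ha
        obtain ⟨b1, hb1, b2, hb2, rfl⟩ := Submodule.mem_sup.1 hb
        obtain ⟨s, rfl⟩ := Submodule.mem_span_singleton.1 ha2
        obtain ⟨t, rfl⟩ := Submodule.mem_span_singleton.1 hb2
        simp [QuadraticMap.polar_add_left, QuadraticMap.polar_add_right, QuadraticMap.polar_smul_left,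
          QuadraticMap.polar_smul_right, QuadraticMap.polar_self, hpP.1, hWW a1 ha1 b1 hb1, hnon a1 ha1,
          QuadraticMap.polar_comm (f := ⇑Q) p b1, hnon b1 hb1]
      have h7 : Module.finrank F W < Module.finrank F (W ⊔ (F ∙ p) : Submodule F (ι → F)) := by
        refine Submodule.finrank_lt_finrank_of_lt ?_
        refine lt_of_le_of_ne le_sup_left fun h => hp0 ?_
        rw [h]
        exact Submodule.mem_sup_right (Submodule.mem_span_singleton_self p)
      obtain ⟨a, ha, b, hb, hab⟩ := exists_not_isotropic hQ (W ⊔ (F ∙ p)) (by omega)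
      exact hab (hW' a ha b hb)
    rcases hdim with hdim | hdim
    · omega
    · refine hdim (W ⊔ (F ∙ p)) (fun u hu => ?_) ?_
      · obtain ⟨a, ha, b, hb, rfl⟩ := Submodule.mem_sup.1 hu
        obtain ⟨t, rfl⟩ := Submodule.mem_span_singleton.1 hb
        rw [map_add', OrthChar.map_smul', hW a ha, hpP.1, QuadraticMap.polar_smul_right, hnon a ha]
        simp
      · have h8 := Submodule.finrank_sup_add_finrank_inf_eq W (F ∙ p)
        have h9 : W ⊓ (F ∙ p) = ⊥ := (Submodule.eq_bot_iff _).2 fun x hx => by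
          obtain ⟨t, rfl⟩ := Submodule.mem_span_singleton.1 hx.2
          by_contra h0
          exact hp0 (by simpa [smul_smul, inv_mul_cancel₀ (left_ne_zero_of_smul h0)] using W.smul_mem t⁻¹ hx.1)
        have h10 : Module.finrank F (F ∙ p) = 1 :=
          finrank_span_singleton fun h => hp0 (by rw [h]; exact W.zero_mem)
        rw [h9, finrank_bot, h10] at h8
        omega
  rw [SetLike.mem_coe, mem_perp] at hgx
  have hE : E Q g x ∈ M := hM _ (E_omega hQ h5 hgQ hgx)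
    (stab_E hgQ hgx fun w hw => Or.inl ⟨by rw [QuadraticMap.polar_comm, hgW w hw],
      by rw [QuadraticMap.polar_comm, hxW w hw]⟩)
  refine full hQ h5 M hpP (hpP.move hE) ?_
  rw [E_act hgQ hgx, hgp, QuadraticMap.polar_comm (f := ⇑Q) x p]
  simp only [sub_eq_add_neg, ← neg_smul, QuadraticMap.polar_add_right, QuadraticMap.polar_smul_right,
    QuadraticMap.polar_self, hpP.1, smul_zero, zero_add, smul_eq_mul, mul_one, one_mul,
    QuadraticMap.polar_comm (f := ⇑Q) p g, hgp]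
  intro h
  exact hx (by linear_combination -h)

/-! ### passing to the general linear group -/

theorem subspaceStab_iff {W : Submodule F (ι → F)} {g : Cfsg.isometryGroup F ⇑Q} :
    (g : GL ι F) ∈ Cfsg.Geo.subspaceStabilizer W ↔ Stab W g := Iff.rfl

theorem maximal_of_full (W : Submodule F (ι → F)) (hne : ∃ g ∈ Cfsg.Omega F ⇑Q, ¬ Stab W g)
    (h : ∀ M : Subgroup (Cfsg.isometryGroup F ⇑Q), (∀ g ∈ Cfsg.Omega F ⇑Q, Stab W g → g ∈ M) →
      ∀ m ∈ M, ¬ Stab W m → Cfsg.Omega F ⇑Q ≤ M) :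
    Cfsg.Geo.IsMaximalIn (Cfsg.Geo.omegaGL ⇑Q) (Cfsg.Geo.subspaceStabilizer W ⊓ Cfsg.Geo.omegaGL ⇑Q) := by
  refine ⟨lt_of_le_of_ne inf_le_right fun heq => ?_, fun M hHM hMO => ?_⟩
  · obtain ⟨g, hg, hgW⟩ := hne
    have h1 : (g : GL ι F) ∈ Cfsg.Geo.subspaceStabilizer W ⊓ Cfsg.Geo.omegaGL ⇑Q := by
      rw [heq]; exact ⟨g, hg, rfl⟩
    exact hgW h1.1
  · by_cases hall : ∀ m ∈ M, m ∈ Cfsg.Geo.subspaceStabilizer W
    · exact Or.inl (le_antisymm (fun m hm => ⟨hall m hm, hMO hm⟩) hHM)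
    · right
      push Not at hall
      obtain ⟨m, hm, hmW⟩ := hall
      obtain ⟨m', -, rfl⟩ := hMO hm
      have h1 := h (M.comap (Cfsg.isometryGroup F ⇑Q).subtype)
        (fun g hg hgW => hHM ⟨hgW, g, hg, rfl⟩) m' hm hmW
      refine le_antisymm hMO ?_
      rintro _ ⟨g, hg, rfl⟩
      exact h1 hg

include hQ h5 in
theorem ts_maximal (W : Submodule F (ι → F)) (hW0 : W ≠ ⊥) (hW : ∀ w ∈ W, Q w = 0)
    (hdim : 2 * (Module.finrank F W + 1) ≠ Fintype.card ι ∨
      ∀ U : Submodule F (ι → F), (∀ u ∈ U, Q u = 0) → 2 * Module.finrank F U ≠ Fintype.card ι) :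
    Cfsg.Geo.IsMaximalIn (Cfsg.Geo.omegaGL ⇑Q) (Cfsg.Geo.subspaceStabilizer W ⊓ Cfsg.Geo.omegaGL ⇑Q) := by
  refine maximal_of_full W ?_ fun M hM m hm hmW => ts_full hQ h5 W hW0 hW hdim M hM hm hmW
  -- some element moves `W`
  by_contra hc
  push Not at hc
  obtain ⟨e, he, he0⟩ := Submodule.exists_mem_ne_zero_of_ne_bot hW0
  have heQ := hW e he
  obtain ⟨z, hz⟩ : ∃ z, polar ⇑Q e z ≠ 0 := by
    by_contra h; push Not at h; exact he0 (hQ.1 e h)
  obtain ⟨f, hf⟩ : ∃ f, f = z - (Q z / polar ⇑Q e z) • e := ⟨_, rfl⟩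
  have hfQ : Q f = 0 := by rw [hf, Quad.map_sub_smul, heQ, div_mul_cancel₀ _ hz]; ring
  have hef : polar ⇑Q e f ≠ 0 := by
    rw [hf]; simpa [sub_eq_add_neg, QuadraticMap.polar_add_right, QuadraticMap.polar_neg_right,
      QuadraticMap.polar_smul_right, QuadraticMap.polar_self, heQ] using hz
  have hd := finrank_perp2 (Q := Q) f e
  obtain ⟨x, ⟨hfx, hex⟩, hx⟩ := exists_value hQ (perp Q f ⊓ perp Q e) (by omega)
  rw [SetLike.mem_coe, mem_perp] at hfx hex
  have h1 : act Q (E Q f x) e ∈ W := ((hc _ (E_omega hQ h5 hfQ hfx)) e).1 he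
  have h2 : polar ⇑Q e (act Q (E Q f x) e) = 0 := by
    rw [QuadraticMap.polar, hW _ (add_mem he h1), hW e he, hW _ h1]; simp
  rw [E_act hfQ hfx, QuadraticMap.polar_comm (f := ⇑Q) x e, hex] at h2
  simp only [zero_smul, sub_zero, sub_eq_add_neg, ← neg_smul, QuadraticMap.polar_add_right,
    QuadraticMap.polar_smul_right, QuadraticMap.polar_self, heQ, hex, smul_eq_mul, smul_zero, mul_zero,
    zero_add, add_zero, neg_mul, neg_eq_zero, neg_zero, QuadraticMap.polar_zero_right] at h2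
  rw [QuadraticMap.polar_comm (f := ⇑Q) f e] at h2
  exact mul_ne_zero (mul_ne_zero hx hef) hef h2

/-- a quadratic form given as a function -/
def ofFun (Q : (ι → F) → F) (hQ : Cfsg.Geo.IsNondegenerateQuadraticForm Q) : QuadraticForm F (ι → F) :=
  QuadraticMap.ofPolar Q (fun a x => by rw [hQ.smul, smul_eq_mul, _root_.sq])
    hQ.polar_bilinear.add_left (fun a x y => hQ.polar_bilinear.smul_left a x y)

theorem ofFun_coe (Q : (ι → F) → F) (hQ : Cfsg.Geo.IsNondegenerateQuadraticForm Q) : ⇑(ofFun Q hQ) = Q := rfl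

theorem ofFun_nondeg (Q : (ι → F) → F) (hQ : Cfsg.Geo.IsNondegenerateQuadraticForm Q) :
    (QuadraticMap.polarBilin (ofFun Q hQ)).Nondegenerate := by
  refine ⟨fun x hx => ?_, fun x hx => ?_⟩ <;> by_contra h0
  · obtain ⟨-, y, hy⟩ := hQ.nondegenerate x h0
    exact hy (hx y)
  · obtain ⟨⟨y, hy⟩, -⟩ := hQ.nondegenerate x h0
    exact hy (hx y)

end CfsgLib.Lie.OrthFull
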