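import Cfsg.Agent.Lie.OrthRoot

/-!
Simplicity of the projective derived orthogonal groups in dimension at least five, all characteristics
(Iwasawa's criterion on singular points).
-/

set_option autoImplicit false
set_option linter.unusedSimpArgs false
set_option linter.unusedSectionVars false

namespace CfsgLib.Lie.OrthSimple

open Matrix QuadraticMap
open CfsgLib.Lie.Refl (act act_mul act_one act_inv act_inj act_Q act_polar act_ext)
open CfsgLib.Lie.OrthChar (map_add')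
open CfsgLib.Lie.OrthRoot
open scoped commutatorElement

variable {F : Type*} [Field F] [Fintype F] {ι : Type} [Fintype ι] [DecidableEq ι]
  {Q : QuadraticForm F (ι → F)}

theorem E_fix {e a : ι → F} (he : Q e = 0) (ha : polar ⇑Q e a = 0) : act Q (E Q e a) e = e := by
  rw [E_act he ha, QuadraticMap.polar_self, he, QuadraticMap.polar_comm (f := ⇑Q) a e, ha]
  simp

theorem E_move {e f p : ι → F} (he : Q e = 0) (hf : Q f = 0) (hp : Q p = 0) (hef : polar ⇑Q e f = 1)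
    (hep : polar ⇑Q e p = 1) :
    polar ⇑Q e (p - f) = 0 ∧ act Q (E Q e (p - f)) f = p := by
  have h0 : polar ⇑Q e (p - f) = 0 := by
    rw [sub_eq_add_neg, QuadraticMap.polar_add_right, QuadraticMap.polar_neg_right, hep, hef, add_neg_cancel]
  refine ⟨h0, ?_⟩
  rw [E_act he h0, hef, show p - f = p - (1 : F) • f by simp, Quad.map_sub_smul, hp, hf]
  simp only [sub_eq_add_neg, ← neg_smul, QuadraticMap.polar_add_left, QuadraticMap.polar_smul_left,
    QuadraticMap.polar_self, hf, QuadraticMap.polar_comm (f := ⇑Q) f p, smul_eq_mul, nsmul_eq_mul]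
  match_scalars <;> ring

variable (hQ : (QuadraticMap.polarBilin Q).Nondegenerate) (h5 : 5 ≤ Fintype.card ι)

include hQ h5 in
theorem exists_third {e f : ι → F} (he : Q e = 0) (hf : Q f = 0) (hef : polar ⇑Q e f ≠ 0) :
    ∃ g, Q g = 0 ∧ polar ⇑Q g e ≠ 0 ∧ polar ⇑Q g f ≠ 0 := by
  have hd := finrank_perp2 (Q := Q) e f
  obtain ⟨z, ⟨hez, hfz⟩, hz⟩ := exists_value hQ (perp Q e ⊓ perp Q f) (by omega)
  rw [SetLike.mem_coe, mem_perp] at hez hfz
  obtain ⟨k, hk⟩ : ∃ k, k = (polar ⇑Q e f)⁻¹ := ⟨_, rfl⟩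
  refine ⟨(-Q z) • e + k • f + z, ?_, ?_, ?_⟩
  · simp only [map_add', OrthChar.map_smul', QuadraticMap.polar_add_left, QuadraticMap.polar_smul_left,
      QuadraticMap.polar_smul_right, hez, hfz, he, hf, smul_eq_mul, hk]
    field_simp
    ring
  · rw [QuadraticMap.polar_add_left, QuadraticMap.polar_add_left, QuadraticMap.polar_smul_left,
      QuadraticMap.polar_smul_left, QuadraticMap.polar_self, he, QuadraticMap.polar_comm (f := ⇑Q) f e,
      QuadraticMap.polar_comm (f := ⇑Q) z e, hez, hk]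
    simp [hef]
  · rw [QuadraticMap.polar_add_left, QuadraticMap.polar_add_left, QuadraticMap.polar_smul_left,
      QuadraticMap.polar_smul_left, QuadraticMap.polar_self, hf, QuadraticMap.polar_comm (f := ⇑Q) z f, hfz]
    simp [hef, hz]

include hQ h5 in
theorem exists_common {e b : ι → F} (he0 : e ≠ 0) (he : Q e = 0) (hb0 : b ≠ 0) (hb : Q b = 0) :
    ∃ g, Q g = 0 ∧ polar ⇑Q g e ≠ 0 ∧ polar ⇑Q g b ≠ 0 := by
  by_cases heb : polar ⇑Q e b = 0
  swap
  · exact exists_third hQ h5 he hb heb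
  by_cases hdep : ∃ t : F, b = t • e
  · obtain ⟨t, rfl⟩ := hdep
    obtain ⟨z, hz⟩ : ∃ z, polar ⇑Q e z ≠ 0 := by
      by_contra hc; push Not at hc; exact he0 (hQ.1 e hc)
    refine ⟨z - (Q z / polar ⇑Q e z) • e, ?_, ?_, ?_⟩
    · rw [Quad.map_sub_smul, he, div_mul_cancel₀ _ hz]; ring
    · simpa [sub_eq_add_neg, QuadraticMap.polar_add_left, QuadraticMap.polar_neg_left,
        QuadraticMap.polar_smul_left, QuadraticMap.polar_self, he, QuadraticMap.polar_comm (f := ⇑Q) z e] using hz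
    · have ht : t ≠ 0 := fun h => hb0 (by rw [h, zero_smul])
      simpa [sub_eq_add_neg, QuadraticMap.polar_add_left, QuadraticMap.polar_neg_left, ht,
        QuadraticMap.polar_smul_left, QuadraticMap.polar_smul_right, QuadraticMap.polar_self, he,
        QuadraticMap.polar_comm (f := ⇑Q) z e] using hz
  push Not at hdep
  have hbe : polar ⇑Q b e = 0 := by rw [QuadraticMap.polar_comm, heb]
  have ee : polar ⇑Q e e = 0 := by rw [QuadraticMap.polar_self, he, smul_zero]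
  have bb : polar ⇑Q b b = 0 := by rw [QuadraticMap.polar_self, hb, smul_zero]
  obtain ⟨z1, hz1, hz1'⟩ := Refl.exists_polar hQ (li_pair' he0 hdep)
  obtain ⟨z2, hz2, hz2'⟩ := Refl.exists_polar hQ (li_pair he0 hdep)
  obtain ⟨g1, hg1⟩ : ∃ g1, g1 = z1 - Q z1 • e := ⟨_, rfl⟩
  obtain ⟨w, hw⟩ : ∃ w, w = z2 - polar ⇑Q z2 g1 • e := ⟨_, rfl⟩
  obtain ⟨g2, hg2⟩ : ∃ g2, g2 = w - Q w • b := ⟨_, rfl⟩
  have a1 : Q g1 = 0 := by rw [hg1, Quad.map_sub_smul, hz1', he]; ring
  have a2 : polar ⇑Q g1 e = 1 := by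
    rw [hg1]; simp [sub_eq_add_neg, QuadraticMap.polar_add_left, QuadraticMap.polar_neg_left,
      QuadraticMap.polar_smul_left, ee, QuadraticMap.polar_comm (f := ⇑Q) z1 e, hz1']
  have a3 : polar ⇑Q g1 b = 0 := by
    rw [hg1]; simp [sub_eq_add_neg, QuadraticMap.polar_add_left, QuadraticMap.polar_neg_left,
      QuadraticMap.polar_smul_left, heb, QuadraticMap.polar_comm (f := ⇑Q) z1 b, hz1]
  have w1 : polar ⇑Q w e = 0 := by
    rw [hw]; simp [sub_eq_add_neg, QuadraticMap.polar_add_left, QuadraticMap.polar_neg_left,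
      QuadraticMap.polar_smul_left, ee, QuadraticMap.polar_comm (f := ⇑Q) z2 e, hz2]
  have w2 : polar ⇑Q w b = 1 := by
    rw [hw]; simp [sub_eq_add_neg, QuadraticMap.polar_add_left, QuadraticMap.polar_neg_left,
      QuadraticMap.polar_smul_left, heb, QuadraticMap.polar_comm (f := ⇑Q) z2 b, hz2']
  have w3 : polar ⇑Q w g1 = 0 := by
    rw [hw]; simp [sub_eq_add_neg, QuadraticMap.polar_add_left, QuadraticMap.polar_neg_left,
      QuadraticMap.polar_smul_left, QuadraticMap.polar_comm (f := ⇑Q) e g1, a2]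
  have b1 : Q g2 = 0 := by
    rw [hg2, Quad.map_sub_smul, QuadraticMap.polar_comm (f := ⇑Q) b w, w2, hb]; ring
  have b2 : polar ⇑Q g2 e = 0 := by
    rw [hg2]; simp [sub_eq_add_neg, QuadraticMap.polar_add_left, QuadraticMap.polar_neg_left,
      QuadraticMap.polar_smul_left, hbe, w1]
  have b3 : polar ⇑Q g2 b = 1 := by
    rw [hg2]; simp [sub_eq_add_neg, QuadraticMap.polar_add_left, QuadraticMap.polar_neg_left,
      QuadraticMap.polar_smul_left, bb, w2]
  have b4 : polar ⇑Q g1 g2 = 0 := by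
    rw [hg2]; simp [sub_eq_add_neg, QuadraticMap.polar_add_right, QuadraticMap.polar_neg_right,
      QuadraticMap.polar_smul_right, a3, QuadraticMap.polar_comm (f := ⇑Q) g1 w, w3]
  refine ⟨g1 + g2, by rw [map_add', a1, b1, b4]; simp, ?_, ?_⟩
  · rw [QuadraticMap.polar_add_left, a2, b2]; simp
  · rw [QuadraticMap.polar_add_left, a3, b3]; simp

include hQ h5 in
theorem E_omega {e a : ι → F} (he : Q e = 0) (ha : polar ⇑Q e a = 0) : E Q e a ∈ Cfsg.Omega F ⇑Q := by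
  rw [omega_eq hQ h5]; exact E_mem hQ h5 he ha

/-- the stabiliser of a point in the derived group -/
def lineStab (Q : QuadraticForm F (ι → F)) (e : ι → F) : Subgroup (Cfsg.Omega F ⇑Q) where
  carrier := {g | ∃ c : F, c ≠ 0 ∧ act Q (g : Cfsg.isometryGroup F ⇑Q) e = c • e}
  one_mem' := ⟨1, one_ne_zero, by rw [OneMemClass.coe_one, act_one, one_smul]⟩
  mul_mem' {g h} := by
    rintro ⟨c, hc, hg⟩ ⟨d, hd, hh⟩
    exact ⟨d * c, mul_ne_zero hd hc, by rw [Subgroup.coe_mul, act_mul, hh, act_smul, hg, smul_smul]⟩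
  inv_mem' {g} := by
    rintro ⟨c, hc, hg⟩
    refine ⟨c⁻¹, inv_ne_zero hc, ?_⟩
    refine act_inj (g : Cfsg.isometryGroup F ⇑Q) ?_
    rw [InvMemClass.coe_inv, ← act_mul, mul_inv_cancel, act_one, act_smul, hg, smul_smul, inv_mul_cancel₀ hc,
      one_smul]

/-- the orbit of a point -/
def Orb (M : Subgroup (Cfsg.Omega F ⇑Q)) (e p : ι → F) : Prop :=
  ∃ m ∈ M, ∃ c : F, c ≠ 0 ∧ act Q (m : Cfsg.isometryGroup F ⇑Q) e = c • p

include hQ h5 in
theorem orbit_all (M : Subgroup (Cfsg.Omega F ⇑Q)) {e : ι → F} (he0 : e ≠ 0) (he : Q e = 0)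
    (hH : lineStab Q e ≤ M) (hm : ∃ m ∈ M, ∀ c : F, act Q (m : Cfsg.isometryGroup F ⇑Q) e ≠ c • e)
    {p : ι → F} (hp0 : p ≠ 0) (hp : Q p = 0) : Orb M e p := by
  have hfix : ∀ {u a : ι → F} (hu : Q u = 0) (ha : polar ⇑Q u a = 0),
      act Q (E Q u a) e = e → (⟨E Q u a, E_omega hQ h5 hu ha⟩ : Cfsg.Omega F ⇑Q) ∈ M :=
    fun hu ha h => hH ⟨1, one_ne_zero, by rw [one_smul]; exact h⟩
  -- a point of the orbit not orthogonal to `e`
  obtain ⟨f, hfQ, hef, hf⟩ : ∃ f, Q f = 0 ∧ polar ⇑Q e f ≠ 0 ∧ Orb M e f := by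
    obtain ⟨m, hm, hme⟩ := hm
    obtain ⟨p, hpm⟩ : ∃ p, p = act Q (m : Cfsg.isometryGroup F ⇑Q) e := ⟨_, rfl⟩
    have hQp : Q p = 0 := by rw [hpm, act_Q, he]
    by_cases hep : polar ⇑Q e p = 0
    swap
    · exact ⟨p, hQp, hep, m, hm, 1, one_ne_zero, by rw [one_smul, hpm]⟩
    have hpe : ∀ t : F, p ≠ t • e := fun t ht => hme t (hpm ▸ ht)
    obtain ⟨z, hz, hz'⟩ := Refl.exists_polar hQ (li_pair he0 hpe)
    obtain ⟨g, hg⟩ : ∃ g, g = z - Q z • p := ⟨_, rfl⟩
    have hgQ : Q g = 0 := by rw [hg, Quad.map_sub_smul, hz', hQp]; ring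
    have hge : polar ⇑Q g e = 0 := by
      rw [hg]; simp [sub_eq_add_neg, QuadraticMap.polar_add_left, QuadraticMap.polar_neg_left,
        QuadraticMap.polar_smul_left, QuadraticMap.polar_comm (f := ⇑Q) p e, hep,
        QuadraticMap.polar_comm (f := ⇑Q) z e, hz]
    have hgp : polar ⇑Q g p = 1 := by
      rw [hg]; simp [sub_eq_add_neg, QuadraticMap.polar_add_left, QuadraticMap.polar_neg_left,
        QuadraticMap.polar_smul_left, QuadraticMap.polar_self, hQp, QuadraticMap.polar_comm (f := ⇑Q) z p, hz']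
    have hd := finrank_perp2 (Q := Q) g e
    obtain ⟨x, ⟨hgx, hex⟩, hx⟩ := exists_value hQ (perp Q g ⊓ perp Q e) (by omega)
    rw [SetLike.mem_coe, mem_perp] at hgx hex
    have hxe : act Q (E Q g x) e = e := by
      rw [E_act hgQ hgx, hge, QuadraticMap.polar_comm (f := ⇑Q) x e, hex]; simp
    obtain ⟨m', hm'⟩ : ∃ m', m' = m⁻¹ * ⟨E Q g x, E_omega hQ h5 hgQ hgx⟩ * m := ⟨_, rfl⟩
    have hm'M : m' ∈ M := by rw [hm']; exact mul_mem (mul_mem (inv_mem hm) (hfix hgQ hgx hxe)) hm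
    obtain ⟨f, hfe⟩ : ∃ f, f = act Q (m' : Cfsg.isometryGroup F ⇑Q) e := ⟨_, rfl⟩
    refine ⟨f, by rw [hfe, act_Q, he], ?_, m', hm'M, 1, one_ne_zero, by rw [one_smul, hfe]⟩
    have hmf : act Q (m : Cfsg.isometryGroup F ⇑Q) f = act Q (E Q g x) p := by
      rw [hfe, hm', Subgroup.coe_mul, Subgroup.coe_mul, InvMemClass.coe_inv, ← act_mul, ← mul_assoc, ← mul_assoc,
        mul_inv_cancel, one_mul, act_mul, ← hpm]
    rw [← act_polar (m : Cfsg.isometryGroup F ⇑Q), hmf, ← hpm, E_act hgQ hgx, hgp]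
    simp only [sub_eq_add_neg, ← neg_smul, QuadraticMap.polar_add_right, QuadraticMap.polar_smul_right,
      QuadraticMap.polar_self, hQp, QuadraticMap.polar_comm (f := ⇑Q) p g, hgp,
      QuadraticMap.polar_comm (f := ⇑Q) p x, smul_eq_mul, mul_one, one_mul, smul_zero]
    intro h
    exact hx (by linear_combination -h)
  -- all points not orthogonal to `e`
  have hall : ∀ p, Q p = 0 → polar ⇑Q e p ≠ 0 → Orb M e p := by
    intro p hpQ hep
    obtain ⟨m, hm, c, hc, hmc⟩ := hf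
    obtain ⟨f1, hf1⟩ : ∃ f1, f1 = (polar ⇑Q e f)⁻¹ • f := ⟨_, rfl⟩
    obtain ⟨p1, hp1⟩ : ∃ p1, p1 = (polar ⇑Q e p)⁻¹ • p := ⟨_, rfl⟩
    obtain ⟨h0, hmove⟩ := E_move (e := e) (f := f1) (p := p1) he
      (by rw [hf1, OrthChar.map_smul', hfQ, mul_zero]) (by rw [hp1, OrthChar.map_smul', hpQ, mul_zero])
      (by rw [hf1, QuadraticMap.polar_smul_right, smul_eq_mul, inv_mul_cancel₀ hef])
      (by rw [hp1, QuadraticMap.polar_smul_right, smul_eq_mul, inv_mul_cancel₀ hep])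
    refine ⟨_, mul_mem (hfix he h0 (E_fix he h0)) hm, c * polar ⇑Q e f * (polar ⇑Q e p)⁻¹,
      mul_ne_zero (mul_ne_zero hc hef) (inv_ne_zero hep), ?_⟩
    rw [Subgroup.coe_mul, act_mul, hmc, show c • f = (c * polar ⇑Q e f) • f1 by
      rw [hf1, smul_smul, mul_assoc, mul_inv_cancel₀ hef, mul_one], act_smul, hmove, hp1, smul_smul]
  obtain ⟨g, hg, hge, hgp⟩ := exists_common hQ h5 he0 he hp0 hp
  obtain ⟨m, hm, c, hc, hmc⟩ := hall g hg (by rwa [QuadraticMap.polar_comm])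
  obtain ⟨k, hk, d, hd, hkd⟩ := hall (act Q ((m⁻¹ : Cfsg.Omega F ⇑Q) : Cfsg.isometryGroup F ⇑Q) p)
    (by rw [act_Q, hp]) (by
      rw [← act_polar (m : Cfsg.isometryGroup F ⇑Q), hmc, InvMemClass.coe_inv, ← act_mul, mul_inv_cancel,
        act_one, QuadraticMap.polar_smul_left, smul_eq_mul]
      exact mul_ne_zero hc hgp)
  exact ⟨m * k, mul_mem hm hk, d, hd, by
    rw [Subgroup.coe_mul, act_mul, hkd, act_smul, InvMemClass.coe_inv, ← act_mul, mul_inv_cancel, act_one]⟩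

include hQ h5 in
theorem exists_move {n : Cfsg.Omega F ⇑Q} (hn : n ∉ Subgroup.center (Cfsg.Omega F ⇑Q)) :
    ∃ e : ι → F, e ≠ 0 ∧ Q e = 0 ∧ ∀ c : F, act Q (n : Cfsg.isometryGroup F ⇑Q) e ≠ c • e := by
  by_contra hcon
  push Not at hcon
  obtain ⟨g, hg⟩ : ∃ g, g = (n : Cfsg.isometryGroup F ⇑Q) := ⟨_, rfl⟩
  rw [← hg] at hcon
  have hne : ∀ {a b : ι → F}, polar ⇑Q a b ≠ 0 → a ≠ 0 := fun h h0 => h (by
    rw [h0, QuadraticMap.polar_zero_left])
  have hpair : ∀ {a b : ι → F} {x y : F}, polar ⇑Q a b ≠ 0 → act Q g a = x • a → act Q g b = y • b →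
      x * y = 1 := by
    intro a b x y hab ha hb
    have h := act_polar g a b
    rw [ha, hb, QuadraticMap.polar_smul_left, QuadraticMap.polar_smul_right, smul_eq_mul, smul_eq_mul,
      ← mul_assoc] at h
    exact (mul_eq_right₀ hab).1 h
  have key : ∀ u v, u ≠ 0 → Q u = 0 → v ≠ 0 → Q v = 0 → ∀ x y : F, act Q g u = x • u → act Q g v = y • v →
      x * y = 1 := by
    intro u v hu0 hu hv0 hv x y hxu hyv
    obtain ⟨f, hf, hfu, hfv⟩ := exists_common hQ h5 hu0 hu hv0 hv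
    obtain ⟨h, hh, hhf, hhu⟩ := exists_third hQ h5 hf hu hfu
    obtain ⟨cf, hcf⟩ := hcon f (hne hfu) hf
    obtain ⟨ch, hch⟩ := hcon h (hne hhf) hh
    have e1 := hpair hfu hcf hxu
    have e2 := hpair hfv hcf hyv
    have e3 := hpair hhf hch hcf
    have e4 := hpair hhu hch hxu
    have e5 : cf = x := mul_left_cancel₀ (left_ne_zero_of_mul_eq_one e3) (e3.trans e4.symm)
    have e6 : y = x := mul_left_cancel₀ (left_ne_zero_of_mul_eq_one e1) (e2.trans e1.symm)
    rw [e6]; rwa [e5] at e1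
  refine hn (Subgroup.mem_center_iff.2 fun y => Subtype.ext ?_)
  have hle : T Q ≤ Subgroup.centralizer {g} := by
    rw [T, Subgroup.closure_le]
    rintro s ⟨u, v, c, hu, hv, huv, hs⟩
    rw [SetLike.mem_coe, Subgroup.mem_centralizer_singleton_iff, siegel_eq hu hv huv c hs]
    have hcv : polar ⇑Q u (c • v) = 0 := by rw [QuadraticMap.polar_smul_right, huv, smul_zero]
    suffices h : g * E Q u (c • v) * g⁻¹ = E Q u (c • v) by
      have h' := mul_inv_eq_iff_eq_mul.1 h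
      exact h'.symm
    rw [E_conj g hu hcv]
    rcases eq_or_ne u 0 with h0 | hu0
    · rw [h0, E_of_eq_zero (by simp [act]), E_of_eq_zero rfl]
    rcases eq_or_ne v 0 with h0 | hv0
    · rw [h0, smul_zero, show act Q g 0 = 0 by simp [act], E_zero (by rw [act_Q, hu]), E_zero hu]
    obtain ⟨x, hx⟩ := hcon u hu0 hu
    obtain ⟨z, hz⟩ := hcon v hv0 hv
    rw [hx, act_smul, hz, E_smul hu (by rw [QuadraticMap.polar_smul_right, QuadraticMap.polar_smul_right, huv,
      smul_zero, smul_zero]), smul_smul, smul_smul]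
    congr 2
    linear_combination c * key u v hu0 hu hv0 hv x z hx hz
  have := Subgroup.mem_centralizer_singleton_iff.1 (hle (show (y : Cfsg.isometryGroup F ⇑Q) ∈ T Q by rw [← omega_eq hQ h5]; exact y.2))
  rw [Subgroup.coe_mul, Subgroup.coe_mul, ← hg]
  exact this

include hQ h5 in
theorem normal_eq_top (N : Subgroup (Cfsg.Omega F ⇑Q)) [N.Normal]
    (hN : ¬ N ≤ Subgroup.center (Cfsg.Omega F ⇑Q)) : N = ⊤ := by
  obtain ⟨n, hn, hn'⟩ := SetLike.not_le_iff_exists.1 hN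
  obtain ⟨e, he0, he, hmove⟩ := exists_move hQ h5 hn'
  have horb : ∀ p, p ≠ 0 → Q p = 0 → Orb N e p := by
    intro p hp0 hp
    obtain ⟨m, hm, c, hc, hmc⟩ := orbit_all hQ h5 (N ⊔ lineStab Q e) he0 he le_sup_right
      ⟨n, Subgroup.mem_sup_left hn, hmove⟩ hp0 hp
    obtain ⟨k, hk, h, ⟨d, hd, hhd⟩, rfl⟩ := Subgroup.mem_sup_of_normal_left.1 hm
    rw [Subgroup.coe_mul, act_mul, hhd, act_smul] at hmc
    refine ⟨k, hk, d⁻¹ * c, mul_ne_zero (inv_ne_zero hd) hc, ?_⟩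
    rw [← smul_smul, ← hmc, smul_smul, inv_mul_cancel₀ hd, one_smul]
  let A : Subgroup (Cfsg.Omega F ⇑Q) :=
    { carrier := {g | ∃ a, polar ⇑Q e a = 0 ∧ (g : Cfsg.isometryGroup F ⇑Q) = E Q e a}
      one_mem' := ⟨0, QuadraticMap.polar_zero_right Q e, by rw [OneMemClass.coe_one, E_zero he]⟩
      mul_mem' := by
        rintro g h ⟨a, ha, hg⟩ ⟨b, hb, hh⟩
        exact ⟨a + b, by rw [QuadraticMap.polar_add_right, ha, hb, add_zero],
          by rw [Subgroup.coe_mul, hg, hh, E_add he ha hb]⟩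
      inv_mem' := by
        rintro g ⟨a, ha, hg⟩
        exact ⟨-a, by rw [QuadraticMap.polar_neg_right, ha, neg_zero],
          by rw [InvMemClass.coe_inv, hg, E_neg he ha]⟩ }
  have hNA : N ⊔ A = ⊤ := by
    refine top_le_iff.1 fun y _ => ?_
    have hL : T Q ≤ (N ⊔ A).map (Cfsg.Omega F ⇑Q).subtype := by
      rw [T, Subgroup.closure_le]
      rintro s ⟨u, v, c, hu, hv, huv, hs⟩
      rw [siegel_eq hu hv huv c hs]
      rcases eq_or_ne u 0 with h0 | hu0
      · rw [E_of_eq_zero h0]; exact one_mem _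
      obtain ⟨k, hk, t, ht, hkt⟩ := horb u hu0 hu
      obtain ⟨g, hg⟩ : ∃ g, g = (k : Cfsg.isometryGroup F ⇑Q) := ⟨_, rfl⟩
      rw [← hg] at hkt
      obtain ⟨a, ha⟩ : ∃ a, a = t⁻¹ • act Q g⁻¹ (c • v) := ⟨_, rfl⟩
      have hga : act Q g a = t⁻¹ • (c • v) := by
        rw [ha, act_smul, ← act_mul, mul_inv_cancel, act_one]
      have hea : polar ⇑Q e a = 0 := by
        rw [← act_polar g, hga, hkt, QuadraticMap.polar_smul_left, QuadraticMap.polar_smul_right,
          QuadraticMap.polar_smul_right, huv]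
        simp
      refine ⟨k * ⟨E Q e a, E_omega hQ h5 he hea⟩ * k⁻¹, mul_mem (mul_mem (Subgroup.mem_sup_left hk)
        (Subgroup.mem_sup_right ⟨a, hea, rfl⟩)) (inv_mem (Subgroup.mem_sup_left hk)), ?_⟩
      change (k : Cfsg.isometryGroup F ⇑Q) * E Q e a * (k : Cfsg.isometryGroup F ⇑Q)⁻¹ = _
      rw [← hg, E_conj g he hea, hkt, hga, E_smul hu (by
        rw [QuadraticMap.polar_smul_right, QuadraticMap.polar_smul_right, huv, smul_zero, smul_zero]),
        smul_smul, mul_inv_cancel₀ ht, one_smul]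
    obtain ⟨z, hz, hzy⟩ := hL (show (y : Cfsg.isometryGroup F ⇑Q) ∈ T Q by rw [← omega_eq hQ h5]; exact y.2)
    rwa [← Subtype.ext hzy]
  have hcomm : ∀ x y : Cfsg.Omega F ⇑Q, ⁅x, y⁆ ∈ N := by
    intro x y
    obtain ⟨k, hk, a, ⟨a', ha', hae⟩, rfl⟩ := Subgroup.mem_sup_of_normal_left.1 (hNA ▸ Subgroup.mem_top x)
    obtain ⟨l, hl, b, ⟨b', hb', hbe⟩, rfl⟩ := Subgroup.mem_sup_of_normal_left.1 (hNA ▸ Subgroup.mem_top y)
    have hab : a * b = b * a := Subtype.ext (by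
      rw [Subgroup.coe_mul, Subgroup.coe_mul, hae, hbe, ← E_add he ha' hb', ← E_add he hb' ha', add_comm])
    refine (QuotientGroup.eq_one_iff _).1 ?_
    change QuotientGroup.mk' N ⁅k * a, l * b⁆ = 1
    rw [map_commutatorElement, map_mul, map_mul, show QuotientGroup.mk' N k = 1 from (QuotientGroup.eq_one_iff k).2 hk,
      show QuotientGroup.mk' N l = 1 from (QuotientGroup.eq_one_iff l).2 hl, one_mul, one_mul,
      commutatorElement_eq_one_iff_mul_comm, ← map_mul, ← map_mul, hab]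
  refine top_le_iff.1 fun y _ => ?_
  have hc : Cfsg.Omega F ⇑Q ≤ N.map (Cfsg.Omega F ⇑Q).subtype := by
    refine le_trans (perfect hQ h5).ge (Subgroup.commutator_le.2 fun x hx z hz => ?_)
    exact ⟨⁅⟨x, hx⟩, ⟨z, hz⟩⁆, hcomm _ _, by simp [commutatorElement_def]⟩
  obtain ⟨z, hz, hzy⟩ := hc y.2
  rwa [← Subtype.ext hzy]

include hQ h5 in
theorem exists_ne_one : ∃ x : Cfsg.Omega F ⇑Q, x ≠ 1 := by
  obtain ⟨e, -, he0, he⟩ := exists_singular (Q := Q) ⊤ (by
    rw [finrank_top, Module.finrank_fintype_fun_eq_card]; omega)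
  obtain ⟨z, hz⟩ : ∃ z, polar ⇑Q e z ≠ 0 := by
    by_contra hc; push Not at hc; exact he0 (hQ.1 e hc)
  have hd := finrank_perp2 (Q := Q) e z
  obtain ⟨a, ⟨hea, hza⟩, ha0⟩ := exists_ne_zero (perp Q e ⊓ perp Q z) (by omega)
  rw [SetLike.mem_coe, mem_perp] at hea hza
  refine ⟨⟨E Q e a, E_omega hQ h5 he hea⟩, fun h => ?_⟩
  have h1 := congrArg (fun g : Cfsg.Omega F ⇑Q => act Q (g : Cfsg.isometryGroup F ⇑Q) z) h
  simp only [OneMemClass.coe_one, act_one] at h1
  rw [E_act he hea, QuadraticMap.polar_comm (f := ⇑Q) a z, hza, zero_smul, sub_zero, add_sub_assoc,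
    add_eq_left, sub_eq_zero] at h1
  -- so `a` is a multiple of `e`
  have h2 := congrArg (fun w => polar ⇑Q w z) h1
  simp only [QuadraticMap.polar_smul_left, QuadraticMap.polar_comm (f := ⇑Q) a z, hza, smul_eq_mul] at h2
  have hQa : Q a = 0 := by
    have : Q a * (polar ⇑Q e z * polar ⇑Q e z) = 0 := by linear_combination -h2
    exact (mul_eq_zero.1 this).resolve_right (mul_ne_zero hz hz)
  rw [hQa, zero_mul, zero_smul, smul_eq_zero] at h1
  exact ha0 (h1.resolve_left hz)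

include hQ h5 in
/-- simplicity -/
theorem simple : IsSimpleGroup (Cfsg.POmega F ⇑Q) := by
  have hnt : Nontrivial (Cfsg.POmega F ⇑Q) := by
    rw [← not_subsingleton_iff_nontrivial]
    intro hs
    have hZ : Subgroup.center (Cfsg.Omega F ⇑Q) = ⊤ := top_le_iff.1 fun x _ =>
      (QuotientGroup.eq_one_iff x).1 (hs.elim _ _)
    obtain ⟨x, hx⟩ := exists_ne_one hQ h5
    have hc : Cfsg.Omega F ⇑Q ≤ (⊥ : Subgroup (Cfsg.isometryGroup F ⇑Q)) := by
      refine le_trans (perfect hQ h5).ge (Subgroup.commutator_le.2 fun a ha b hb => ?_)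
      have := Subgroup.mem_center_iff.1 (hZ ▸ Subgroup.mem_top (⟨a, ha⟩ : Cfsg.Omega F ⇑Q)) ⟨b, hb⟩
      rw [Subgroup.mem_bot, commutatorElement_eq_one_iff_mul_comm]
      exact (congrArg Subtype.val this).symm
    exact hx (Subtype.ext (Subgroup.mem_bot.1 (hc x.2)))
  refine ⟨fun H hH => ?_⟩
  obtain ⟨π, hπ⟩ : ∃ π, π = QuotientGroup.mk' (Subgroup.center (Cfsg.Omega F ⇑Q)) := ⟨_, rfl⟩
  have hsurj : Function.Surjective π := hπ ▸ QuotientGroup.mk'_surjective _
  have hnorm : (H.comap π).Normal := hH.comap π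
  by_cases hc : H.comap π ≤ Subgroup.center (Cfsg.Omega F ⇑Q)
  · refine Or.inl ((Subgroup.eq_bot_iff_forall H).2 fun x hx => ?_)
    obtain ⟨g, rfl⟩ := hsurj x
    rw [hπ]
    exact (QuotientGroup.eq_one_iff g).2 (hc hx)
  · refine Or.inr ?_
    have h := normal_eq_top hQ h5 (H.comap π) hc
    exact Subgroup.comap_injective hsurj (h.trans (Subgroup.comap_top π).symm)

end CfsgLib.Lie.OrthSimple
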