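import Cfsg.Agent.Lie.OrthFamilies
import Cfsg.Agent.Lie.OrthSimple
import Cfsg.Agent.Lie.OrthFull

/-!
`Ω` preserves the two families of maximal totally singular subspaces, and consequences for non-maximality.
-/

set_option autoImplicit false
set_option linter.unusedSectionVars false

namespace CfsgLib.Lie.OrthFamMax

open QuadraticMap
open scoped commutatorElement
open CfsgLib.Lie.Refl (act act_mul act_one act_inv act_inj act_Q act_polar act_ext)
open CfsgLib.Lie.OrthFamilies (MTS oc mem_oc)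

variable {F : Type*} [Field F] [Fintype F] {ι : Type} [Fintype ι] [DecidableEq ι]
  {Q : QuadraticForm F (ι → F)} {m : ℕ}

/-- image of a subspace -/
def img (g : Cfsg.isometryGroup F ⇑Q) (W : Submodule F (ι → F)) : Submodule F (ι → F) :=
  W.map (Matrix.toLin' ((g : GL ι F) : Matrix ι ι F))

theorem mem_img {g : Cfsg.isometryGroup F ⇑Q} {W : Submodule F (ι → F)} {y : ι → F} :
    y ∈ img g W ↔ ∃ x ∈ W, act Q g x = y := Submodule.mem_map

theorem lin_inj (g : Cfsg.isometryGroup F ⇑Q) :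
    Function.Injective (Matrix.toLin' ((g : GL ι F) : Matrix ι ι F)) := fun _ _ h => act_inj g h

theorem img_mts {g : Cfsg.isometryGroup F ⇑Q} {W : Submodule F (ι → F)} (hW : MTS Q m W) :
    MTS Q m (img g W) := by
  refine ⟨?_, fun w hw => ?_⟩
  · rw [img, ← (Submodule.equivMapOfInjective _ (lin_inj g) W).finrank_eq, hW.1]
  · obtain ⟨x, hx, rfl⟩ := mem_img.1 hw
    rw [act_Q, hW.2 x hx]

theorem img_mul (g h : Cfsg.isometryGroup F ⇑Q) (W : Submodule F (ι → F)) :
    img (g * h) W = img g (img h W) := by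
  rw [img, img, img, ← Submodule.map_comp, ← Matrix.toLin'_mul]
  rfl

variable (hQ : (QuadraticMap.polarBilin Q).Nondegenerate) (hm : Fintype.card ι = 2 * m)

include hQ hm in
/-- the family character -/
theorem psi_hom {X : Submodule F (ι → F)} (hX : MTS Q m X) :
    ∃ ψ : Cfsg.isometryGroup F ⇑Q →* ℤˣ,
      ∀ g, ψ g = (-1) ^ (m - Module.finrank F (X ⊓ img g X : Submodule F (ι → F))) := by
  have hV : Module.finrank F (ι → F) = 2 * m := by rw [Module.finrank_fintype_fun_eq_card, hm]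
  refine ⟨MonoidHom.mk' (fun g => (-1 : ℤˣ) ^ (m - Module.finrank F (X ⊓ img g X : Submodule F (ι → F))))
    (fun g h => ?_), fun g => rfl⟩
  have hg := img_mts (g := g) hX
  have hgh := img_mts (g := g * h) hX
  have hb := Submodule.finrank_mono (inf_le_left : img g X ⊓ img (g * h) X ≤ img g X)
  rw [hg.1] at hb
  have hp := OrthFamilies.parity hQ hV _ X (img g X) (img (g * h) X) hX hg hgh (Nat.add_sub_cancel' hb)
  have e : Module.finrank F (img g X ⊓ img (g * h) X : Submodule F (ι → F)) =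
      Module.finrank F (X ⊓ img h X : Submodule F (ι → F)) := by
    rw [img_mul, img, img, ← Submodule.map_inf _ (lin_inj g),
      ← (Submodule.equivMapOfInjective _ (lin_inj g) _).finrank_eq]
    
  rw [e] at hp
  obtain ⟨k, hk⟩ := hp
  rw [← pow_add]
  exact (Units.ext_iff.2 (by
    simp only [Units.val_pow_eq_pow_val, Units.val_neg, Units.val_one]
    exact neg_one_pow_congr (by rw [Nat.even_iff, Nat.even_iff]; omega)))

include hQ hm in
theorem omega_even {X : Submodule F (ι → F)} (hX : MTS Q m X) {g : Cfsg.isometryGroup F ⇑Q}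
    (hg : g ∈ Cfsg.Omega F ⇑Q) :
    Even (m - Module.finrank F (X ⊓ img g X : Submodule F (ι → F))) := by
  obtain ⟨ψ, hψ⟩ := psi_hom hQ hm hX
  have h1 : ψ g = 1 := (Abelianization.commutator_subset_ker ψ) hg
  rw [hψ] at h1
  by_contra hodd
  rw [(Nat.not_even_iff_odd.1 hodd).neg_one_pow] at h1
  exact absurd h1 (by decide)

theorem mem_stab {g : GL ι F} {W : Submodule F (ι → F)} :
    g ∈ Cfsg.Geo.subspaceStabilizer W ↔ ∀ v, v ∈ W ↔ Matrix.mulVec (g : Matrix ι ι F) v ∈ W := Iff.rfl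

theorem stab_of_img {g : Cfsg.isometryGroup F ⇑Q} {W : Submodule F (ι → F)} (h : img g W = W) :
    (g : GL ι F) ∈ Cfsg.Geo.subspaceStabilizer W := mem_stab.2 fun v => by
  refine ⟨fun hv => h ▸ mem_img.2 ⟨v, hv, rfl⟩, fun hv => ?_⟩
  obtain ⟨x, hx, hxv⟩ := mem_img.1 (h.symm ▸ hv : act Q g v ∈ img g W)
  rwa [← act_inj g hxv]

theorem img_of_stab {g : Cfsg.isometryGroup F ⇑Q} {W : Submodule F (ι → F)}
    (h : (g : GL ι F) ∈ Cfsg.Geo.subspaceStabilizer W) : img g W = W :=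
  Submodule.eq_of_le_of_finrank_le (fun y hy => by
    obtain ⟨x, hx, rfl⟩ := mem_img.1 hy
    exact (mem_stab.1 h x).1 hx)
    (by rw [img, ← (Submodule.equivMapOfInjective _ (lin_inj g) W).finrank_eq])

variable (h5 : 5 ≤ Fintype.card ι)

include hQ hm h5 in
/-- some element of `Ω` moves a maximal totally singular subspace -/
theorem exists_moving {X : Submodule F (ι → F)} (hX : MTS Q m X) :
    ∃ g ∈ Cfsg.Omega F ⇑Q, (g : GL ι F) ∉ Cfsg.Geo.subspaceStabilizer X := by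
  have hV : Module.finrank F (ι → F) = 2 * m := by rw [Module.finrank_fintype_fun_eq_card, hm]
  obtain ⟨x0, hx0, hx00⟩ := OrthRoot.exists_ne_zero X (by rw [hX.1]; omega)
  obtain ⟨e, he, heX⟩ : ∃ e, Q e = 0 ∧ e ∉ X := by
    by_contra hc
    push Not at hc
    obtain ⟨z, hz⟩ : ∃ z, polar ⇑Q x0 z ≠ 0 := by
      by_contra h9; push Not at h9; exact hx00 (hQ.1 x0 h9)
    have h1 : Q (z + (-(Q z / polar ⇑Q x0 z)) • x0) = 0 := by
      rw [OrthFamilies.map_add'', QuadraticMap.map_smul, hX.2 x0 hx0, smul_zero, add_zero, polar_smul_right,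
        polar_comm (f := ⇑Q) z x0, smul_eq_mul, neg_mul, div_mul_cancel₀ _ hz, add_neg_cancel]
    have h3 := OrthFamilies.orth_of_singular hX.2 hx0 (hc _ h1)
    rw [polar_add_right, polar_smul_right, OrthFamilies.orth_of_singular hX.2 hx0 hx0, smul_zero, add_zero] at h3
    exact hz h3
  obtain ⟨x, ⟨hxX, hxe⟩, hx1⟩ := OrthRoot.exists_ne_zero (X ⊓ OrthRoot.perp Q e) (by
    have := OrthRoot.finrank_inf_perp (Q := Q) X e
    rw [hX.1] at this
    omega)
  rw [SetLike.mem_coe, OrthRoot.mem_perp] at hxe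
  have he0 : e ≠ 0 := fun h => heX (by rw [h]; exact X.zero_mem)
  have hxne : ∀ t : F, x ≠ t • e := fun t ht => by
    have ht0 : t ≠ 0 := fun h0 => hx1 (by rw [ht, h0, zero_smul])
    have := X.smul_mem t⁻¹ hxX
    rw [ht, smul_smul, inv_mul_cancel₀ ht0, one_smul] at this
    exact heX this
  obtain ⟨a, hea, hxa⟩ := Refl.exists_polar hQ (OrthRoot.li_pair he0 hxne)
  refine ⟨OrthRoot.E Q e a, OrthSimple.E_omega hQ h5 he hea, fun hst => heX ?_⟩
  have h1 := (mem_stab.1 hst x).1 hxX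
  have h3 : act Q (OrthRoot.E Q e a) x ∈ X := h1
  rw [OrthRoot.E_act he hea, hxe, polar_comm (f := ⇑Q) a x, hxa, zero_smul, one_smul, mul_zero, zero_smul,
    sub_zero, zero_sub] at h3
  have h4 := X.sub_mem hxX h3
  rwa [sub_add_cancel_left, neg_neg] at h4

include hQ hm h5 in
theorem not_maximal_submax {X W : Submodule F (ι → F)} (hX : MTS Q m X) (hW : Module.finrank F W + 1 = m)
    (hW0 : ∀ w ∈ W, Q w = 0) :
    ∃ K : Subgroup (GL ι F), Cfsg.Geo.subspaceStabilizer W ⊓ Cfsg.Geo.omegaGL ⇑Q < K ∧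
      K < Cfsg.Geo.omegaGL ⇑Q := by
  have hV : Module.finrank F (ι → F) = 2 * m := by rw [Module.finrank_fintype_fun_eq_card, hm]
  obtain ⟨W₁, W₂, hne, hiff⟩ := OrthFamilies.two_over hQ hV hX hW hW0
  obtain ⟨hW₁, hWW₁⟩ := (hiff W₁).2 (Or.inl rfl)
  obtain ⟨hW₂, hWW₂⟩ := (hiff W₂).2 (Or.inr rfl)
  have hcap : Module.finrank F (W₁ ⊓ W₂ : Submodule F (ι → F)) + 1 = m := by
    have h1 := Submodule.finrank_mono (le_inf hWW₁ hWW₂)
    have hlt : W₁ ⊓ W₂ < W₁ := lt_of_le_of_ne inf_le_left fun h =>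
      hne (Submodule.eq_of_le_of_finrank_le (h ▸ inf_le_right) (by rw [hW₁.1, hW₂.1]))
    have h3 := Submodule.finrank_lt_finrank_of_lt hlt
    rw [hW₁.1] at h3
    omega
  refine ⟨Cfsg.Geo.subspaceStabilizer W₁ ⊓ Cfsg.Geo.omegaGL ⇑Q, lt_of_le_not_ge ?_ ?_, lt_of_le_not_ge inf_le_right ?_⟩
  · rintro _ ⟨hst, g, hg, rfl⟩
    refine ⟨stab_of_img ?_, g, hg, rfl⟩
    rcases (hiff (img g W₁)).1 ⟨img_mts hW₁, (img_of_stab (g := g) hst).ge.trans (Submodule.map_mono hWW₁)⟩ with h | h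
    · exact h
    · exfalso
      have h9 := omega_even hQ hm hW₁ hg
      rw [h, show m - Module.finrank F (W₁ ⊓ W₂ : Submodule F (ι → F)) = 1 by omega] at h9
      exact absurd h9 (by decide)
  · intro hle
    obtain ⟨e, he, heW⟩ : ∃ e ∈ W₁, e ∉ W := SetLike.not_le_iff_exists.1 fun h => by
      have := Submodule.finrank_mono h
      rw [hW₁.1] at this
      omega
    obtain ⟨x, hx, hx0⟩ := OrthRoot.exists_ne_zero W (by omega)
    have he0 : e ≠ 0 := fun h => heW (by rw [h]; exact W.zero_mem)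
    have hxne : ∀ t : F, x ≠ t • e := fun t ht => by
      have ht0 : t ≠ 0 := fun h0 => hx0 (by rw [ht, h0, zero_smul])
      have := W.smul_mem t⁻¹ hx
      rw [ht, smul_smul, inv_mul_cancel₀ ht0, one_smul] at this
      exact heW this
    obtain ⟨a, hea, hxa⟩ := Refl.exists_polar hQ (OrthRoot.li_pair he0 hxne)
    have heQ := hW₁.2 e he
    have hact : ∀ y ∈ W₁, act Q (OrthRoot.E Q e a) y = y - polar ⇑Q a y • e := fun y hy => by
      rw [OrthRoot.E_act heQ hea, OrthFamilies.orth_of_singular hW₁.2 he hy]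
      simp [sub_eq_add_neg]
    have hin : (OrthRoot.E Q e a : GL ι F) ∈ Cfsg.Geo.subspaceStabilizer W₁ := by
      refine stab_of_img (Submodule.eq_of_le_of_finrank_le (fun y hy => ?_) ?_)
      · obtain ⟨z, hz, rfl⟩ := mem_img.1 hy
        rw [hact z hz]; exact W₁.sub_mem hz (W₁.smul_mem _ he)
      · rw [img, ← (Submodule.equivMapOfInjective _ (lin_inj _) W₁).finrank_eq]
    have h9 := ((mem_stab.1 (hle ⟨hin, _, OrthSimple.E_omega hQ h5 heQ hea, rfl⟩).1) x).1 hx
    change act Q (OrthRoot.E Q e a) x ∈ W at h9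
    rw [hact x (hWW₁ hx), polar_comm (f := ⇑Q) a x, hxa, one_smul] at h9
    exact heW (by simpa using W.sub_mem hx h9)
  · intro hle
    obtain ⟨g, hg, hgX⟩ := exists_moving hQ hm h5 hW₁
    exact hgX (hle ⟨g, hg, rfl⟩).1

include hQ hm h5 in
theorem not_maximal_pair {D : Fin 2 → Submodule F (ι → F)} (hD : Cfsg.Geo.IsMDecomposition m D)
    (hts : ∀ i, ∀ w ∈ D i, Q w = 0) (hodd : Odd m) :
    ∃ K : Subgroup (GL ι F), Cfsg.Geo.decompositionStabilizer D ⊓ Cfsg.Geo.omegaGL ⇑Q < K ∧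
      K < Cfsg.Geo.omegaGL ⇑Q := by
  have hV : Module.finrank F (ι → F) = 2 * m := by rw [Module.finrank_fintype_fun_eq_card, hm]
  have hmts : ∀ i, MTS Q m (D i) := fun i => ⟨hD.finrank_eq i, hts i⟩
  have hdis : D 0 ⊓ D 1 = ⊥ := disjoint_iff.1 (hD.indep.pairwiseDisjoint (show (0 : Fin 2) ≠ 1 by decide))
  refine ⟨Cfsg.Geo.subspaceStabilizer (D 0) ⊓ Cfsg.Geo.omegaGL ⇑Q, lt_of_le_not_ge ?_ ?_, lt_of_le_not_ge inf_le_right ?_⟩
  · rintro _ ⟨⟨σ, hσ⟩, g, hg, rfl⟩
    refine ⟨stab_of_img ?_, g, hg, rfl⟩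
    have h0 : img g (D 0) = D (σ 0) := hσ 0
    by_cases hs : σ 0 = 0
    · rw [h0, hs]
    · exfalso
      have h1 : σ 0 = 1 := by omega
      have h9 := omega_even hQ hm (hmts 0) hg
      rw [h0, h1, hdis, finrank_bot, Nat.sub_zero] at h9
      exact (Nat.not_even_iff_odd.2 hodd) h9
  · intro hle
    obtain ⟨e, he, he0⟩ := OrthRoot.exists_ne_zero (D 0) (by rw [hD.finrank_eq]; omega)
    obtain ⟨x, ⟨hx, hxe⟩, hx0⟩ := OrthRoot.exists_ne_zero (D 1 ⊓ OrthRoot.perp Q e) (by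
      have := OrthRoot.finrank_inf_perp (Q := Q) (D 1) e
      rw [hD.finrank_eq] at this
      omega)
    rw [SetLike.mem_coe, OrthRoot.mem_perp] at hxe
    obtain ⟨a, ha, hax⟩ : ∃ a ∈ D 0, polar ⇑Q a x ≠ 0 := by
      by_contra hc
      push Not at hc
      have h9 : x ∈ D 0 := by
        rw [← OrthFamilies.oc_self hQ hV (hmts 0)]
        exact mem_oc.2 hc
      exact hx0 (by simpa [hdis] using (show x ∈ D 0 ⊓ D 1 from ⟨h9, hx⟩))
    have hea := OrthFamilies.orth_of_singular (hts 0) he ha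
    have heQ := hts 0 e he
    have hact : ∀ y, polar ⇑Q e y = 0 → act Q (OrthRoot.E Q e a) y = y - polar ⇑Q a y • e := fun y hy => by
      rw [OrthRoot.E_act heQ hea, hy]
      simp [sub_eq_add_neg]
    have hfix : img (OrthRoot.E Q e a) (D 0) = D 0 := by
      refine Submodule.eq_of_le_of_finrank_le (fun y hy => ?_) ?_
      · obtain ⟨z, hz, rfl⟩ := mem_img.1 hy
        rw [hact z (OrthFamilies.orth_of_singular (hts 0) he hz)]
        exact (D 0).sub_mem hz ((D 0).smul_mem _ he)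
      · rw [img, ← (Submodule.equivMapOfInjective _ (lin_inj _) (D 0)).finrank_eq]
    obtain ⟨σ, hσ⟩ := (hle ⟨stab_of_img hfix, _, OrthSimple.E_omega hQ h5 heQ hea, rfl⟩).1
    have h0 : D (σ 0) = D 0 := (hσ 0).symm.trans hfix
    have hs0 : σ 0 = 0 := by
      by_contra hs
      rw [show σ 0 = 1 by omega] at h0
      rw [h0, inf_idem] at hdis
      exact he0 (by simpa [hdis] using he)
    have hs1 : σ 1 = 1 := by
      by_contra hs
      exact absurd (σ.injective ((show σ 1 = 0 by omega).trans hs0.symm)) (by decide)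
    have h9 : act Q (OrthRoot.E Q e a) x ∈ D 1 := by
      rw [← hs1, ← hσ 1]
      exact Submodule.mem_map.2 ⟨x, hx, rfl⟩
    rw [hact x hxe] at h9
    have he1 : e ∈ D 1 := by
      have := (D 1).smul_mem (polar ⇑Q a x)⁻¹ ((D 1).sub_mem hx h9)
      rwa [sub_sub_cancel, smul_smul, inv_mul_cancel₀ hax, one_smul] at this
    exact he0 (by simpa [hdis] using (show e ∈ D 0 ⊓ D 1 from ⟨he, he1⟩))
  · intro hle
    obtain ⟨g, hg, hgX⟩ := exists_moving hQ hm h5 (hmts 0)
    exact hgX (hle ⟨g, hg, rfl⟩).1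

end CfsgLib.Lie.OrthFamMax
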