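import Cfsg.Agent.Lie.SLn
import Cfsg.Agent.Lie.Orders
import Cfsg.Agent.Lie.OrthOrder2
import Cfsg.Agent.Lie.OrthForms
import Cfsg.Agent.Lie.OrthDickson
import Cfsg.Agent.Lie.KleinQuot
import Mathlib.Algebra.QuadraticAlgebra.Basic
import Mathlib.GroupTheory.SpecificGroups.Alternating

/-!
`PΩ⁻₄(q) ≅ PSL₂(q²)`, through `X ↦ A X Aᴴ` on hermitian two by two matrices.
-/

set_option autoImplicit false
set_option linter.unusedSectionVars false
set_option maxHeartbeats 800000

namespace CfsgLib.Lie.OrthFourMinus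

open Matrix

variable {F : Type*} [Field F] {a b : F}

abbrev E (a b : F) := QuadraticAlgebra F (-b) a

abbrev P4 := (Fin 1 ⊕ Fin 1) ⊕ Fin 2

/-- hermitian coordinates -/
def mat : (P4 → F) →ₗ[F] Matrix (Fin 2) (Fin 2) (E a b) where
  toFun v := !![⟨v (.inl (.inl 0)), 0⟩, ⟨v (.inr 0), v (.inr 1)⟩;
    star ⟨v (.inr 0), v (.inr 1)⟩, ⟨-v (.inl (.inr 0)), 0⟩]
  map_add' u v := by
    ext i j <;> fin_cases i <;> fin_cases j <;> simp <;> ring
  map_smul' c v := by
    ext i j <;> fin_cases i <;> fin_cases j <;> simp <;> ring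

/-- reading the coordinates -/
def rd : Matrix (Fin 2) (Fin 2) (E a b) →ₗ[F] (P4 → F) where
  toFun X := Sum.elim (Sum.elim (fun _ => (X 0 0).re) (fun _ => -(X 1 1).re)) ![(X 0 1).re, (X 0 1).im]
  map_add' X Y := by
    funext p; rcases p with (p | p) | p <;> fin_cases p <;> simp <;> ring
  map_smul' c X := by
    funext p; rcases p with (p | p) | p <;> fin_cases p <;> simp

theorem rd_mat (v : P4 → F) : rd (mat (a := a) (b := b) v) = v := by
  funext p; rcases p with (p | p) | p <;> fin_cases p <;> simp [rd, mat]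

theorem mat_herm (v : P4 → F) : (mat (a := a) (b := b) v)ᴴ = mat v := by
  ext i j <;> fin_cases i <;> fin_cases j <;> simp [mat]

theorem det_mat (v : P4 → F) :
    (mat (a := a) (b := b) v).det = -algebraMap F (E a b) (Cfsg.quadFormMinus 1 F a b v) := by
  ext <;> simp [mat, Matrix.det_fin_two, Cfsg.quadFormMinus, QuadraticAlgebra.algebraMap_eq] <;> ring

variable [hI : Fact (∀ r : F, r ^ 2 ≠ -b + a * r)]

theorem hab {z₁ z₂ : F} (h : z₁ ^ 2 + a * z₁ * z₂ + b * z₂ ^ 2 = 0) : z₁ = 0 ∧ z₂ = 0 := by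
  by_cases h2 : z₂ = 0
  · subst h2
    exact ⟨by simpa using h, rfl⟩
  · refine absurd ?_ (hI.out (-(z₁ / z₂)))
    field_simp
    linear_combination h

include hI in
theorem a_ne_zero [Finite F] (h2 : (2 : F) = 0) : a ≠ 0 := fun ha => by
  haveI : CharP F 2 := (CharP.charP_iff_prime_eq_zero Nat.prime_two).2 (by exact_mod_cast h2)
  cases nonempty_fintype F
  obtain ⟨r, hr⟩ := FiniteField.isSquare_of_char_two (F := F) (ringChar.eq F 2) (-b)
  exact hI.out r (by rw [ha, hr]; ring)

theorem mat_rd [Finite F] {X : Matrix (Fin 2) (Fin 2) (E a b)} (hX : Xᴴ = X) : mat (rd X) = X := by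
  have h00 := congrFun (congrFun hX 0) 0
  have h10 := congrFun (congrFun hX 1) 0
  have h11 := congrFun (congrFun hX 1) 1
  rw [Matrix.conjTranspose_apply] at h00 h10 h11
  have him : ∀ z : E a b, star z = z → z.im = 0 := fun z hz => by
    have h1 := congrArg QuadraticAlgebra.re hz
    have h2 := congrArg QuadraticAlgebra.im hz
    simp only [QuadraticAlgebra.re_star, QuadraticAlgebra.im_star] at h1 h2
    by_cases h : (2 : F) = 0
    · exact (mul_eq_zero.1 (show a * z.im = 0 by linear_combination h1)).resolve_left (a_ne_zero (b := b) h)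
    · exact (mul_eq_zero.1 (show 2 * z.im = 0 by linear_combination -h2)).resolve_left h
  refine Matrix.ext fun i j => ?_
  fin_cases i <;> fin_cases j
  · exact QuadraticAlgebra.ext rfl (him _ h00).symm
  · exact QuadraticAlgebra.ext rfl rfl
  · exact (congrArg star (QuadraticAlgebra.ext rfl rfl)).trans h10
  · exact QuadraticAlgebra.ext (by simp [mat, rd]) (him _ h11).symm

abbrev S2 := Matrix.SpecialLinearGroup (Fin 2) (E a b)

/-- `X ↦ A X Aᴴ` -/
def lin (g : S2 (a := a) (b := b)) : (P4 → F) →ₗ[F] (P4 → F) where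
  toFun v := rd (g.1 * mat v * g.1ᴴ)
  map_add' u v := by rw [map_add, Matrix.mul_add, Matrix.add_mul, map_add]
  map_smul' c v := by rw [map_smul, Matrix.mul_smul, Matrix.smul_mul, map_smul]; rfl

theorem mat_lin [Finite F] (g : S2 (a := a) (b := b)) (v : P4 → F) :
    mat (lin g v) = g.1 * mat v * g.1ᴴ :=
  mat_rd (by rw [Matrix.conjTranspose_mul, Matrix.conjTranspose_mul, Matrix.conjTranspose_conjTranspose, mat_herm,
    Matrix.mul_assoc])

variable [Fintype F]

abbrev Q4 (a b : F) := OrthForms.minusQ 1 a b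

theorem mat_injective : Function.Injective (mat (a := a) (b := b)) := fun u v h => by
  rw [← rd_mat (a := a) (b := b) u, h, rd_mat]

/-- as invertible matrices -/
def toGL4 : S2 (a := a) (b := b) →* GL P4 F :=
  MonoidHom.toHomUnits
    { toFun := fun g => LinearMap.toMatrix' (lin g)
      map_one' := by
        rw [show lin (1 : S2 (a := a) (b := b)) = LinearMap.id from LinearMap.ext fun v => mat_injective (by
          rw [mat_lin, Matrix.SpecialLinearGroup.coe_one, Matrix.conjTranspose_one,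
            Matrix.one_mul, Matrix.mul_one, LinearMap.id_apply])]
        exact LinearMap.toMatrix'_id
      map_mul' := fun g h => by
        rw [show lin (g * h) = lin g ∘ₗ lin h from LinearMap.ext fun v => mat_injective (by
          rw [LinearMap.comp_apply, mat_lin, mat_lin, mat_lin, Matrix.SpecialLinearGroup.coe_mul,
            Matrix.conjTranspose_mul]
          simp only [Matrix.mul_assoc])]
        exact LinearMap.toMatrix'_comp _ _ }

theorem toGL4_mem (g : S2 (a := a) (b := b)) : toGL4 g ∈ Cfsg.isometryGroup F ⇑(Q4 a b) := by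
  intro u _
  show Q4 a b (LinearMap.toMatrix' (lin g) *ᵥ u) = Q4 a b u
  rw [LinearMap.toMatrix'_mulVec, OrthForms.minusQ_apply, OrthForms.minusQ_apply]
  refine QuadraticAlgebra.algebraMap_injective (a := -b) (b := a) (neg_injective ?_)
  rw [← det_mat, ← det_mat, mat_lin, Matrix.det_mul, Matrix.det_mul, Matrix.det_conjTranspose, g.2, star_one,
    one_mul, mul_one]

/-- the map into `O⁻₄(q)` -/
def Φ : S2 (a := a) (b := b) →* Cfsg.isometryGroup F ⇑(Q4 a b) := toGL4.codRestrict _ toGL4_mem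

theorem mem_ker {g : S2 (a := a) (b := b)} :
    g ∈ (Φ (a := a) (b := b)).ker ↔ ∃ c : E a b, c * c = 1 ∧ Matrix.scalar (Fin 2) c = g.1 := by
  constructor
  · intro hg
    have h : lin g = LinearMap.id := LinearMap.toMatrix'.injective (by
      rw [LinearMap.toMatrix'_id]
      exact congrArg (fun x : Cfsg.isometryGroup F ⇑(Q4 a b) => x.1.1) (MonoidHom.mem_ker.1 hg))
    have hX : ∀ X : Matrix (Fin 2) (Fin 2) (E a b), Xᴴ = X → g.1 * X * g.1ᴴ = X := fun X hX => by
      have h1 := mat_lin g (rd X)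
      rw [h, LinearMap.id_apply, mat_rd hX] at h1
      exact h1.symm
    have h1 : g.1ᴴ * g.1 = 1 := mul_eq_one_comm.1 (by simpa using hX 1 Matrix.conjTranspose_one)
    have hc : ∀ X : Matrix (Fin 2) (Fin 2) (E a b), Xᴴ = X → X * g.1 = g.1 * X := fun X hX' => by
      conv_lhs => rw [← hX X hX']
      rw [Matrix.mul_assoc, h1, Matrix.mul_one]
    have e1 := hc !![1, 0; 0, 0] (by ext i j <;> fin_cases i <;> fin_cases j <;> simp)
    have e2 := hc !![0, 1; 1, 0] (by ext i j <;> fin_cases i <;> fin_cases j <;> simp)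
    have a01 : g.1 0 1 = 0 := by simpa [Matrix.mul_apply, Fin.sum_univ_two] using congrFun (congrFun e1 0) 1
    have a10 : g.1 1 0 = 0 := by simpa [Matrix.mul_apply, Fin.sum_univ_two] using (congrFun (congrFun e1 1) 0).symm
    have a11 : g.1 1 1 = g.1 0 0 := by simpa [Matrix.mul_apply, Fin.sum_univ_two] using congrFun (congrFun e2 0) 1
    have hd := g.2
    rw [Matrix.det_fin_two, a01, a11, zero_mul, sub_zero] at hd
    refine ⟨g.1 0 0, hd, Matrix.ext fun i j => ?_⟩
    fin_cases i <;> fin_cases j <;> simp [a01, a10, a11]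
  · rintro ⟨c, hc, h1⟩
    have hs : star c = c := by
      rcases mul_self_eq_one_iff.1 hc with rfl | rfl
      · exact star_one _
      · rw [star_neg, star_one]
    refine MonoidHom.mem_ker.2 (Subtype.ext (Units.ext ?_))
    show LinearMap.toMatrix' (lin g) = 1
    rw [show lin g = LinearMap.id from LinearMap.ext fun v => mat_injective (by
      rw [mat_lin, ← h1, LinearMap.id_apply]
      simp [← Matrix.smul_one_eq_diagonal, Matrix.conjTranspose_smul, hs, smul_smul, hc])]
    exact LinearMap.toMatrix'_id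

theorem card_ker : Nat.card (Φ (a := a) (b := b)).ker = Nat.card {c : E a b // c * c = 1} := by
  have hd : ∀ c : {c : E a b // c * c = 1}, (Matrix.scalar (Fin 2) c.1).det = 1 := fun c => by
    rw [Matrix.scalar_apply, Matrix.det_diagonal, Fin.prod_univ_two]; exact c.2
  refine (Nat.card_congr (Equiv.ofBijective (fun c : {c : E a b // c * c = 1} =>
    (⟨(⟨_, hd c⟩ : S2), mem_ker.2 ⟨c.1, c.2, rfl⟩⟩ : (Φ (a := a) (b := b)).ker)) ⟨?_, ?_⟩)).symm
  · intro x y h
    have h1 := congrArg (fun z : (Φ (a := a) (b := b)).ker => z.1.1 0 0) h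
    exact Subtype.ext (by simpa using h1)
  · rintro ⟨g, hg⟩
    obtain ⟨c, hc, h1⟩ := mem_ker.1 hg
    exact ⟨⟨c, hc⟩, Subtype.ext (Subtype.ext h1)⟩

theorem two_E : ((2 : E a b) = 0) ↔ ((2 : F) = 0) := by
  rw [← map_ofNat (algebraMap F (E a b)) 2, map_eq_zero_iff _ QuadraticAlgebra.algebraMap_injective]

theorem exists_sq_ne : ∃ x : E a b, x ≠ 0 ∧ x ^ 2 ≠ 1 := by
  by_cases hω : ((⟨0, 1⟩ : E a b)) ^ 2 = 1
  · refine ⟨⟨1, 1⟩, fun h => by simpa using congrArg QuadraticAlgebra.re h, fun h => ?_⟩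
    have h1 := congrArg QuadraticAlgebra.im h
    have h2 := congrArg QuadraticAlgebra.im hω
    have h3 := congrArg QuadraticAlgebra.re hω
    simp [pow_two] at h1 h2 h3
    by_cases h : (2 : F) = 0
    · exact a_ne_zero (b := b) h h2
    · exact h (by linear_combination h1 - h2)
  · exact ⟨⟨0, 1⟩, fun h => by simpa using congrArg QuadraticAlgebra.im h, hω⟩

theorem range_le : (Φ (a := a) (b := b)).range ≤ Cfsg.Omega F ⇑(Q4 a b) := by
  classical
  rw [MonoidHom.range_eq_map, ← SLn.commutator_eq_top (ι := Fin 2) (F := E a b) (Or.inr exists_sq_ne),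
    commutator_def, Subgroup.map_commutator]
  exact Subgroup.commutator_mono le_top le_top

theorem nondeg : (QuadraticMap.polarBilin (Q4 a b)).Nondegenerate :=
  OrthForms.minus_nondeg (fun _ _ h => hab h) 1

/-- over two elements the orthogonal group acts on the five singular vectors and contains an odd element -/
theorem omega_ne_top_two (hF : Fintype.card F = 2) : Cfsg.Omega F ⇑(Q4 a b) ≠ ⊤ := by
  classical
  intro htop
  have h01 : ∀ x : F, x = 0 ∨ x = 1 := fun x => by
    have hu : (Finset.univ : Finset F) = {0, 1} := (Finset.eq_of_subset_of_card_le (Finset.subset_univ _) (by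
      rw [Finset.card_univ, hF, Finset.card_pair zero_ne_one])).symm
    have := hu ▸ Finset.mem_univ x
    simpa using this
  let S := {v : P4 → F // v ≠ 0 ∧ Q4 a b v = 0}
  let act : Cfsg.isometryGroup F ⇑(Q4 a b) → Equiv.Perm S := fun g =>
    { toFun := fun v => ⟨g.1.1 *ᵥ v.1, fun h => v.2.1 (by
          have h' := congrArg ((g⁻¹).1.1 *ᵥ ·) h
          simpa [Matrix.mulVec_mulVec] using h'), (g.2 v.1 0).trans v.2.2⟩
      invFun := fun v => ⟨(g⁻¹).1.1 *ᵥ v.1, fun h => v.2.1 (by
          have h' := congrArg (g.1.1 *ᵥ ·) h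
          simpa [Matrix.mulVec_mulVec] using h'), ((g⁻¹).2 v.1 0).trans v.2.2⟩
      left_inv := fun v => Subtype.ext (by simp [Matrix.mulVec_mulVec])
      right_inv := fun v => Subtype.ext (by simp [Matrix.mulVec_mulVec]) }
  let A : Cfsg.isometryGroup F ⇑(Q4 a b) →* Equiv.Perm S :=
    { toFun := act
      map_one' := Equiv.ext fun v => Subtype.ext (Matrix.one_mulVec _)
      map_mul' := fun g h => Equiv.ext fun v => Subtype.ext (Matrix.mulVec_mulVec v.1 g.1.1 h.1.1).symm }
  let χ := Equiv.Perm.sign.comp A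
  have hχ : ∀ g, χ g = 1 := fun g => MonoidHom.mem_ker.1
    (Abelianization.commutator_subset_ker χ (htop ▸ Subgroup.mem_top g : g ∈ Cfsg.Omega F ⇑(Q4 a b)))
  let σ : Equiv.Perm P4 := Equiv.swap (.inl (.inl 0)) (.inl (.inr 0))
  have hσq : ∀ v : P4 → F, Cfsg.quadFormMinus 1 F a b (v ∘ σ) = Cfsg.quadFormMinus 1 F a b v := fun v => by
    simp [Cfsg.quadFormMinus, σ, Equiv.swap_apply_def, mul_comm]
  let M : GL P4 F := ⟨(σ.toPEquiv.toMatrix), (σ.symm.toPEquiv.toMatrix),
    by rw [← PEquiv.toMatrix_trans, ← Equiv.toPEquiv_trans, Equiv.self_trans_symm, Equiv.toPEquiv_refl, PEquiv.toMatrix_refl],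
    by rw [← PEquiv.toMatrix_trans, ← Equiv.toPEquiv_trans, Equiv.symm_trans_self, Equiv.toPEquiv_refl, PEquiv.toMatrix_refl]⟩
  have hM : ∀ v : P4 → F, M.1 *ᵥ v = v ∘ σ := fun v => PEquiv.toMatrix_toPEquiv_mulVec σ v
  let g : Cfsg.isometryGroup F ⇑(Q4 a b) := ⟨M, fun u _ => by
    show Q4 a b (M.1 *ᵥ u) = Q4 a b u
    rw [hM, OrthForms.minusQ_apply, OrthForms.minusQ_apply, hσq]⟩
  let e : P4 → F := Pi.single (.inl (.inl 0)) 1
  let f : P4 → F := Pi.single (.inl (.inr 0)) 1
  have he : e ≠ 0 ∧ Q4 a b e = 0 := ⟨by simp [e], by simp [e, Cfsg.quadFormMinus, OrthForms.minusQ_apply]⟩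
  have hf : f ≠ 0 ∧ Q4 a b f = 0 := ⟨by simp [f], by simp [f, Cfsg.quadFormMinus, OrthForms.minusQ_apply]⟩
  have hne : (⟨e, he⟩ : S) ≠ ⟨f, hf⟩ := fun h => by
    simpa [e, f] using congrFun (congrArg Subtype.val h) (.inl (.inl 0))
  have hA : A g = Equiv.swap (⟨e, he⟩ : S) ⟨f, hf⟩ := by
    refine Equiv.ext fun v => Subtype.ext ?_
    show M.1 *ᵥ v.1 = _
    rw [hM]
    rcases eq_or_ne v ⟨e, he⟩ with rfl | hve
    · rw [Equiv.swap_apply_left]
      funext p; rcases p with (p | p) | p <;> fin_cases p <;> simp [e, f, σ, Equiv.swap_apply_def]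
    rcases eq_or_ne v ⟨f, hf⟩ with rfl | hvf
    · rw [Equiv.swap_apply_right]
      funext p; rcases p with (p | p) | p <;> fin_cases p <;> simp [e, f, σ, Equiv.swap_apply_def]
    rw [Equiv.swap_apply_of_ne_of_ne hve hvf]
    have hz := v.2.2
    rw [OrthForms.minusQ_apply] at hz
    simp [Cfsg.quadFormMinus] at hz
    by_cases hαβ : v.1 (.inl (.inl 0)) = v.1 (.inl (.inr 0))
    · funext p; rcases p with (p | p) | p <;> fin_cases p <;> simp [σ, Equiv.swap_apply_def, hαβ]
    · exfalso
      have hp : v.1 (.inl (.inl 0)) * v.1 (.inl (.inr 0)) = 0 := by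
        rcases h01 (v.1 (.inl (.inl 0))) with h | h <;> rcases h01 (v.1 (.inl (.inr 0))) with h' | h' <;>
          rw [h, h'] at hαβ ⊢ <;> simp at hαβ ⊢
      rw [hp, zero_add] at hz
      obtain ⟨z0, z1⟩ := hab hz
      rcases h01 (v.1 (.inl (.inl 0))) with h | h <;> rcases h01 (v.1 (.inl (.inr 0))) with h' | h'
      · exact hαβ (h.trans h'.symm)
      · exact hvf (Subtype.ext (funext fun p => by
          rcases p with (p | p) | p <;> fin_cases p <;> simp [f, h, h', z0, z1]))
      · exact hve (Subtype.ext (funext fun p => by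
          rcases p with (p | p) | p <;> fin_cases p <;> simp [e, h, h', z0, z1]))
      · exact hαβ (h.trans h'.symm)
  have := hχ g
  rw [show χ g = Equiv.Perm.sign (A g) from rfl, hA, Equiv.Perm.sign_swap hne] at this
  exact absurd this (by decide)

theorem range_eq : (Φ (a := a) (b := b)).range = Cfsg.Omega F ⇑(Q4 a b) := by
  classical
  obtain ⟨q, hF⟩ : ∃ q, Fintype.card F = q := ⟨_, rfl⟩
  haveI : Fintype (E a b) := Fintype.ofEquiv _ (QuadraticAlgebra.equivProd (-b) a).symm
  have hE : Fintype.card (E a b) = q ^ 2 := by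
    rw [Fintype.card_congr (QuadraticAlgebra.equivProd (-b) a), Fintype.card_prod, hF, pow_two]
  have hq : 1 < q := hF ▸ Fintype.one_lt_card
  have h1 := Subgroup.card_mul_index (Cfsg.Omega F ⇑(Q4 a b))
  have h2 : Nat.card (Φ (a := a) (b := b)).ker * Nat.card (Φ (a := a) (b := b)).range =
      Nat.card (S2 (a := a) (b := b)) := by
    rw [← Subgroup.index_ker, Subgroup.card_mul_index]
  have hc : Nat.card (Cfsg.isometryGroup F ⇑(Q4 a b)) = 2 * Nat.card (S2 (a := a) (b := b)) := by
    rw [show ⇑(Q4 a b) = Cfsg.quadFormMinus 1 F a b from funext fun v => OrthForms.minusQ_apply 1 v,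
      OrthOrder.card_minus (fun _ _ h => hab h) hF 1, Orders.card_SL_two hE]
    simp only [Finset.prod_range_one]
    rw [show (q ^ 2) ^ 2 - 1 = (q ^ 2 + 1) * (q ^ 2 - 1) from Nat.sq_sub_sq (q ^ 2) 1 ▸ (by simp)]
    norm_num
    ring
  refine Subgroup.eq_of_le_of_card_ge range_le ?_
  have hR : 0 < Nat.card (Φ (a := a) (b := b)).range := Nat.card_pos
  rw [hc, ← h2, card_ker] at h1
  by_cases h2' : (2 : F) = 0
  · have hidx : 2 ≤ (Cfsg.Omega F ⇑(Q4 a b)).index := by
      by_cases hq2 : q = 2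
      · have := omega_ne_top_two (a := a) (b := b) (hF.trans hq2)
        have h0 : (Cfsg.Omega F ⇑(Q4 a b)).index ≠ 0 := Subgroup.index_ne_zero_of_finite
        have h1' : (Cfsg.Omega F ⇑(Q4 a b)).index ≠ 1 := fun h => this (Subgroup.index_eq_one.1 h)
        omega
      · haveI : CharP F 2 := (CharP.charP_iff_prime_eq_zero Nat.prime_two).2 (by exact_mod_cast h2')
        rw [OrthDickson.omega_index nondeg (Or.inl (hF ▸ hq2))]
    have e : Nat.card {c : E a b // c * c = 1} = 1 := by
      rw [Nat.card_eq_one_iff_unique]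
      refine ⟨⟨fun x y => Subtype.ext ?_⟩, ⟨⟨1, one_mul 1⟩⟩⟩
      have ha : ∀ c : E a b, c * c = 1 → c = 1 := fun c hc' => by
        rcases mul_self_eq_one_iff.1 hc' with h | h
        · exact h
        · rw [h]; linear_combination -(two_E.2 h2' : (2 : E a b) = 0)
      rw [ha x.1 x.2, ha y.1 y.2]
    rw [e] at h1
    nlinarith
  · have e : Nat.card {c : E a b // c * c = 1} = 2 := by
      rw [show {c : E a b // c * c = 1} = ↥({c : E a b | c * c = 1}) from rfl, Nat.card_coe_set_eq,
        show {c : E a b | c * c = 1} = {1, -1} from Set.ext fun c => mul_self_eq_one_iff, Set.ncard_pair]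
      exact fun h => h2' (two_E.1 (by linear_combination h))
    rw [e, OrthChar.omega_index h2' nondeg (by simp)] at h1
    omega

theorem perfect : commutator (S2 (a := a) (b := b)) = ⊤ :=
  SLn.commutator_eq_top (Or.inr exists_sq_ne)

theorem quot_simple : IsSimpleGroup (S2 (a := a) (b := b) ⧸ Subgroup.center (S2 (a := a) (b := b))) :=
  SLn.isSimpleGroup_PSL (Or.inr exists_sq_ne)

theorem ker_ne_top : (Φ (a := a) (b := b)).ker ≠ ⊤ := fun h => by
  let T : S2 (a := a) (b := b) := ⟨Matrix.transvection 0 1 1, Matrix.det_transvection_of_ne _ _ (by decide) 1⟩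
  obtain ⟨c, -, hc⟩ := mem_ker.1 (h ▸ Subgroup.mem_top T : T ∈ (Φ (a := a) (b := b)).ker)
  have := congrFun (congrFun hc 0) 1
  simp [T, Matrix.transvection] at this

/-- `PΩ⁻₄(q) ≅ PSL₂(q²)` -/
theorem pomega_iso :
    Nonempty (Cfsg.POmega F ⇑(Q4 a b) ≃* Matrix.ProjectiveSpecialLinearGroup (Fin 2) (E a b)) := by
  classical
  haveI := quot_simple (a := a) (b := b)
  obtain ⟨e⟩ := KleinQuot.quot_iso (G := S2 (a := a) (b := b)) (perfect (a := a) (b := b))
    (Φ (a := a) (b := b)) (Cfsg.Omega F ⇑(Q4 a b)) range_eq ker_ne_top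
  exact ⟨e⟩

end CfsgLib.Lie.OrthFourMinus
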