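import Cfsg.Agent.Lie.SLn
import Cfsg.Agent.Lie.Orders
import Cfsg.Agent.Lie.OrthOrder2
import Cfsg.Agent.Lie.OrthForms
import Cfsg.Agent.Lie.OrthDickson
import Mathlib.GroupTheory.SpecificGroups.Cyclic

/-!
`PΩ⁺₄(q) ≅ PSL₂(q) × PSL₂(q)` for `q ≥ 3`, through `X ↦ A X Bᵀ` on two by two matrices.
-/

set_option autoImplicit false
set_option linter.unusedSectionVars false

namespace CfsgLib.Lie.OrthFourPlus

open Matrix
open scoped commutatorElement

variable {F : Type*} [Field F]

abbrev P4 := Fin 2 ⊕ Fin 2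
abbrev M2 (F : Type*) := Matrix (Fin 2) (Fin 2) F
abbrev S2 (F : Type*) [Field F] := Matrix.SpecialLinearGroup (Fin 2) F
abbrev Q4 (F : Type*) [Field F] := OrthOrder.plusQ 2 F

/-- a vector as a two by two matrix -/
def mat : (P4 → F) ≃ₗ[F] M2 F where
  toFun v := !![v (.inl 0), v (.inl 1); -v (.inr 1), v (.inr 0)]
  invFun X := Sum.elim ![X 0 0, X 0 1] ![X 1 1, -X 1 0]
  left_inv v := by funext p; rcases p with p | p <;> fin_cases p <;> simp
  right_inv X := by ext i j; fin_cases i <;> fin_cases j <;> simp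
  map_add' u v := by ext i j; fin_cases i <;> fin_cases j <;> simp; ring
  map_smul' c v := by ext i j; fin_cases i <;> fin_cases j <;> simp

theorem det_mat (v : P4 → F) : (mat v).det = Cfsg.quadFormPlus 2 F v := by
  simp [mat, Matrix.det_fin_two, Cfsg.quadFormPlus, Fin.sum_univ_two]

/-- `X ↦ A X Bᵀ` -/
def lin (g : S2 F × S2 F) : (P4 → F) →ₗ[F] (P4 → F) where
  toFun v := mat.symm (g.1.1 * mat v * g.2.1ᵀ)
  map_add' u v := by rw [map_add, Matrix.mul_add, Matrix.add_mul, map_add]
  map_smul' c v := by rw [map_smul, Matrix.mul_smul, Matrix.smul_mul, map_smul]; rfl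

theorem mat_lin (g : S2 F × S2 F) (v : P4 → F) : mat (lin g v) = g.1.1 * mat v * g.2.1ᵀ :=
  mat.apply_symm_apply _

/-- as invertible matrices -/
def toGL4 : S2 F × S2 F →* GL P4 F :=
  MonoidHom.toHomUnits
    { toFun := fun g => LinearMap.toMatrix' (lin g)
      map_one' := by
        rw [show lin (1 : S2 F × S2 F) = LinearMap.id from LinearMap.ext fun v => mat.injective (by
          rw [mat_lin, Prod.fst_one, Prod.snd_one, Matrix.SpecialLinearGroup.coe_one, Matrix.transpose_one,
            Matrix.one_mul, Matrix.mul_one, LinearMap.id_apply])]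
        exact LinearMap.toMatrix'_id
      map_mul' := fun g h => by
        rw [show lin (g * h) = lin g ∘ₗ lin h from LinearMap.ext fun v => mat.injective (by
          rw [LinearMap.comp_apply, mat_lin, mat_lin, mat_lin, Prod.fst_mul, Prod.snd_mul,
            Matrix.SpecialLinearGroup.coe_mul, Matrix.SpecialLinearGroup.coe_mul, Matrix.transpose_mul]
          simp only [Matrix.mul_assoc])]
        exact LinearMap.toMatrix'_comp _ _ }

theorem toGL4_mem (g : S2 F × S2 F) : toGL4 g ∈ Cfsg.isometryGroup F ⇑(Q4 F) := by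
  intro u _
  show Q4 F (LinearMap.toMatrix' (lin g) *ᵥ u) = Q4 F u
  rw [LinearMap.toMatrix'_mulVec, OrthOrder.plusQ_apply, OrthOrder.plusQ_apply, ← det_mat, ← det_mat, mat_lin,
    Matrix.det_mul, Matrix.det_mul, Matrix.det_transpose, g.1.2, g.2.2, one_mul, mul_one]

/-- the map into `O⁺₄(q)` -/
def Φ : S2 F × S2 F →* Cfsg.isometryGroup F ⇑(Q4 F) := toGL4.codRestrict _ toGL4_mem

theorem mem_ker {g : S2 F × S2 F} : g ∈ (Φ (F := F)).ker ↔
    ∃ c : F, c * c = 1 ∧ Matrix.scalar (Fin 2) c = g.1.1 ∧ Matrix.scalar (Fin 2) c = g.2.1 := by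
  constructor
  · intro hg
    have h : lin g = LinearMap.id := LinearMap.toMatrix'.injective (by
      rw [LinearMap.toMatrix'_id]
      exact congrArg (fun x : Cfsg.isometryGroup F ⇑(Q4 F) => x.1.1) (MonoidHom.mem_ker.1 hg))
    have hX : ∀ X : M2 F, g.1.1 * X * g.2.1ᵀ = X := fun X => by
      obtain ⟨v, rfl⟩ := mat.surjective X
      rw [← mat_lin, h, LinearMap.id_apply]
    have h1 : g.2.1ᵀ * g.1.1 = 1 := mul_eq_one_comm.1 (by simpa using hX 1)
    have hcomm : g.1 ∈ Subgroup.center (S2 F) := Subgroup.mem_center_iff.2 fun y => Subtype.ext (by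
      show y.1 * g.1.1 = g.1.1 * y.1
      conv_lhs => rw [← hX y.1]
      rw [Matrix.mul_assoc, h1, Matrix.mul_one])
    obtain ⟨c, hc, hcg⟩ := Matrix.SpecialLinearGroup.mem_center_iff.1 hcomm
    rw [Fintype.card_fin, pow_two] at hc
    refine ⟨c, hc, hcg, ?_⟩
    rw [← hcg] at h1
    have h2 : c • g.2.1ᵀ = 1 := by rw [← h1]; simp [← Matrix.smul_one_eq_diagonal]
    have h3 : g.2.1ᵀ = c • (1 : M2 F) := by rw [← h2, smul_smul, hc, one_smul]
    have h4 := congrArg Matrix.transpose h3
    rw [Matrix.transpose_transpose, Matrix.transpose_smul, Matrix.transpose_one] at h4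
    rw [h4]; simp [← Matrix.smul_one_eq_diagonal]
  · rintro ⟨c, hc, h1, h2⟩
    refine MonoidHom.mem_ker.2 (Subtype.ext (Units.ext ?_))
    show LinearMap.toMatrix' (lin g) = 1
    rw [show lin g = LinearMap.id from LinearMap.ext fun v => mat.injective (by
      rw [mat_lin, ← h1, ← h2, LinearMap.id_apply]
      simp [← Matrix.smul_one_eq_diagonal, smul_smul, hc])]
    exact LinearMap.toMatrix'_id

theorem card_ker : Nat.card (Φ (F := F)).ker = Nat.card {c : F // c * c = 1} := by
  have hd : ∀ c : {c : F // c * c = 1}, (Matrix.scalar (Fin 2) c.1).det = 1 := fun c => by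
    rw [Matrix.scalar_apply, Matrix.det_diagonal, Fin.prod_univ_two]; exact c.2
  refine (Nat.card_congr (Equiv.ofBijective (fun c : {c : F // c * c = 1} =>
    (⟨((⟨_, hd c⟩ : S2 F), (⟨_, hd c⟩ : S2 F)), mem_ker.2 ⟨c.1, c.2, rfl, rfl⟩⟩ : (Φ (F := F)).ker)) ⟨?_, ?_⟩)).symm
  · intro a b h
    have h1 := congrArg (fun x : (Φ (F := F)).ker => x.1.1.1 0 0) h
    exact Subtype.ext (by simpa using h1)
  · rintro ⟨⟨x, y⟩, hg⟩
    obtain ⟨c, hc, h1, h2⟩ := mem_ker.1 hg
    exact ⟨⟨c, hc⟩, Subtype.ext (Prod.ext (Subtype.ext h1) (Subtype.ext h2))⟩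

variable [Fintype F]

theorem index_eq (h3 : 3 ≤ Fintype.card F) :
    (Cfsg.Omega F ⇑(Q4 F)).index = 2 * Nat.card (Φ (F := F)).ker := by
  classical
  have hQ : (QuadraticMap.polarBilin (Q4 F)).Nondegenerate := OrthForms.plus_nondeg 2
  rw [card_ker]
  by_cases h2 : (2 : F) = 0
  · have e : Nat.card {c : F // c * c = 1} = 1 := by
      rw [Nat.card_eq_one_iff_unique]
      refine ⟨⟨fun a b => Subtype.ext ?_⟩, ⟨⟨1, one_mul 1⟩⟩⟩
      have ha : ∀ c : F, c * c = 1 → c = 1 := fun c hc => by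
        rcases mul_self_eq_one_iff.1 hc with h | h
        · exact h
        · rw [h]; linear_combination -h2
      rw [ha a.1 a.2, ha b.1 b.2]
    rw [e, mul_one]
    haveI : CharP F 2 := (CharP.charP_iff_prime_eq_zero Nat.prime_two).2 (by exact_mod_cast h2)
    exact OrthDickson.omega_index hQ (Or.inl (by omega))
  · have e : Nat.card {c : F // c * c = 1} = 2 := by
      rw [show {c : F // c * c = 1} = ↥({c : F | c * c = 1}) from rfl, Nat.card_coe_set_eq,
        show {c : F | c * c = 1} = {1, -1} from Set.ext fun c => mul_self_eq_one_iff, Set.ncard_pair]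
      exact fun h => h2 (by linear_combination h)
    rw [e, OrthChar.omega_index h2 hQ (by simp)]

theorem transv_mem (h3 : 3 ≤ Fintype.card F) (f : S2 F →* Cfsg.isometryGroup F ⇑(Q4 F)) (g : S2 F) :
    f g ∈ Cfsg.Omega F ⇑(Q4 F) := by
  classical
  suffices (Cfsg.Omega F ⇑(Q4 F)).comap f = ⊤ from Subgroup.mem_comap.1 (this ▸ Subgroup.mem_top g)
  by_cases h2 : (2 : F) = 0
  · obtain ⟨a, ha⟩ : ∃ a : F, a ∉ ({0, 1} : Finset F) := by
      by_contra hh
      push Not at hh
      have := Finset.card_le_card (fun x _ => hh x : (Finset.univ : Finset F) ⊆ {0, 1})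
      have := Finset.card_le_two (a := (0 : F)) (b := 1)
      rw [Finset.card_univ] at *
      omega
    simp only [Finset.mem_insert, Finset.mem_singleton, not_or] at ha
    rw [eq_top_iff, ← SLn.commutator_eq_top (ι := Fin 2) (F := F) (Or.inr ⟨a, ha.1, fun h => ha.2 (by
      rcases sq_eq_one_iff.1 h with h | h
      · exact h
      · rw [h]; linear_combination -h2)⟩), ← Subgroup.map_le_iff_le_comap, commutator_def, Subgroup.map_commutator]
    exact Subgroup.commutator_mono le_top le_top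
  · refine SLn.eq_top_of_transvection_mem _ fun i j hij c => ?_
    obtain ⟨d, hd⟩ : ∃ d : F, 4 * d = c := ⟨c / 4, mul_div_cancel₀ c (by
      rw [show (4 : F) = 2 * 2 by norm_num]; exact mul_ne_zero h2 h2)⟩
    have hadd : ∀ a b : F, Matrix.SpecialLinearGroup.transvection hij a * Matrix.SpecialLinearGroup.transvection hij b =
        Matrix.SpecialLinearGroup.transvection hij (a + b) := fun a b => Subtype.ext (by
      simp only [Matrix.SpecialLinearGroup.coe_mul, SLn.tv_coe hij]
      exact Matrix.transvection_mul_transvection_same (h := hij) (c := a) (d := b))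
    have h4 : Matrix.SpecialLinearGroup.transvection hij d ^ 4 = Matrix.SpecialLinearGroup.transvection hij c := by
      rw [pow_succ, pow_succ, pow_succ, pow_one, hadd, hadd, hadd, ← hd]
      congr 1
      ring
    have hidx : (Cfsg.Omega F ⇑(Q4 F)).index = 4 :=
      OrthChar.omega_index h2 (OrthForms.plus_nondeg 2) (by simp)
    rw [Subgroup.mem_comap, ← h4, map_pow, ← hidx]
    exact Subgroup.pow_index_mem _ _

theorem range_eq (h3 : 3 ≤ Fintype.card F) : (Φ (F := F)).range = Cfsg.Omega F ⇑(Q4 F) := by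
  classical
  have hle : (Φ (F := F)).range ≤ Cfsg.Omega F ⇑(Q4 F) := by
    rintro _ ⟨⟨x, y⟩, rfl⟩
    rw [show Φ (x, y) = Φ.comp (MonoidHom.inl _ _) x * Φ.comp (MonoidHom.inr _ _) y by
      rw [MonoidHom.comp_apply, MonoidHom.comp_apply, ← map_mul]; simp]
    exact mul_mem (transv_mem h3 _ x) (transv_mem h3 _ y)
  refine Subgroup.eq_of_le_of_card_ge hle (le_of_eq ?_)
  obtain ⟨q, hF⟩ : ∃ q, Fintype.card F = q := ⟨_, rfl⟩
  have h1 := Subgroup.card_mul_index (Cfsg.Omega F ⇑(Q4 F))
  have h2 : Nat.card (Φ (F := F)).ker * Nat.card (Φ (F := F)).range = Nat.card (S2 F × S2 F) := by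
    rw [← Subgroup.index_ker, Subgroup.card_mul_index]
  have hc : Nat.card (Cfsg.isometryGroup F ⇑(Q4 F)) = 2 * Nat.card (S2 F × S2 F) := by
    rw [show ⇑(Q4 F) = Cfsg.quadFormPlus 2 F from funext fun v => OrthOrder.plusQ_apply 2 v,
      OrthOrder.card_plus hF 2 (by omega), Nat.card_prod, Orders.card_SL_two hF]
    simp [Finset.prod_range_succ]
    ring
  rw [index_eq h3, hc, ← h2] at h1
  refine Nat.eq_of_mul_eq_mul_right (show 0 < 2 * Nat.card (Φ (F := F)).ker by
    have : 0 < Nat.card (Φ (F := F)).ker := Nat.card_pos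
    omega) ?_
  rw [h1]
  ring

/-- `PΩ⁺₄(q) ≅ PSL₂(q) × PSL₂(q)` -/
theorem pomega_iso (h3 : 3 ≤ Fintype.card F) : Nonempty (Cfsg.POmega F ⇑(Q4 F) ≃*
    Matrix.ProjectiveSpecialLinearGroup (Fin 2) F × Matrix.ProjectiveSpecialLinearGroup (Fin 2) F) := by
  classical
  let K := Cfsg.Omega F ⇑(Q4 F)
  let φ' : S2 F × S2 F →* K := Φ.codRestrict _ fun g => (range_eq h3).le ⟨g, rfl⟩
  have hφ' : Function.Surjective φ' := fun x => by
    obtain ⟨g, hg⟩ : x.1 ∈ (Φ (F := F)).range := by rw [range_eq h3]; exact x.2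
    exact ⟨g, Subtype.ext hg⟩
  let ψ := (QuotientGroup.mk' (Subgroup.center K)).comp φ'
  have hψ : Function.Surjective ψ := (QuotientGroup.mk'_surjective _).comp hφ'
  let π := (QuotientGroup.mk' (Subgroup.center (S2 F))).prodMap (QuotientGroup.mk' (Subgroup.center (S2 F)))
  have hπ : Function.Surjective π :=
    Prod.map_surjective.2 ⟨QuotientGroup.mk'_surjective _, QuotientGroup.mk'_surjective _⟩
  have hker : ψ.ker = π.ker := by
    ext g
    rw [MonoidHom.mem_ker, MonoidHom.mem_ker, MonoidHom.comp_apply, QuotientGroup.mk'_apply,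
      QuotientGroup.eq_one_iff, Subgroup.mem_center_iff, Prod.ext_iff]
    show _ ↔ QuotientGroup.mk' _ g.1 = 1 ∧ QuotientGroup.mk' _ g.2 = 1
    rw [QuotientGroup.mk'_apply, QuotientGroup.mk'_apply, QuotientGroup.eq_one_iff, QuotientGroup.eq_one_iff]
    constructor
    · intro h
      have key : ∀ a : S2 F × S2 F, ⁅g, a⁆ ∈ (Φ (F := F)).ker := fun a => MonoidHom.mem_ker.2 (by
        have : ⁅φ' g, φ' a⁆ = 1 := commutatorElement_eq_one_iff_mul_comm.2 (h (φ' a)).symm
        rw [← map_commutatorElement] at this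
        exact congrArg Subtype.val this)
      constructor
      · refine Subgroup.mem_center_iff.2 fun a => (commutatorElement_eq_one_iff_mul_comm.1 ?_).symm
        obtain ⟨c, -, h1, h2⟩ := mem_ker.1 (key (a, 1))
        have e2 : ⁅g, (a, (1 : S2 F))⁆.2 = 1 := commutatorElement_one_right g.2
        rw [e2] at h2
        exact Subtype.ext (show ⁅g, (a, (1 : S2 F))⁆.1.1 = 1 by
          rw [← h1, h2, Matrix.SpecialLinearGroup.coe_one])
      · refine Subgroup.mem_center_iff.2 fun a => (commutatorElement_eq_one_iff_mul_comm.1 ?_).symm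
        obtain ⟨c, -, h1, h2⟩ := mem_ker.1 (key (1, a))
        have e2 : ⁅g, ((1 : S2 F), a)⁆.1 = 1 := commutatorElement_one_right g.1
        rw [e2] at h1
        exact Subtype.ext (show ⁅g, ((1 : S2 F), a)⁆.2.1 = 1 by
          rw [← h2, h1, Matrix.SpecialLinearGroup.coe_one])
    · rintro ⟨h1, h2⟩ y
      obtain ⟨x, rfl⟩ := hφ' y
      rw [← map_mul, ← map_mul]
      congr 1
      exact Prod.ext (Subgroup.mem_center_iff.1 h1 x.1) (Subgroup.mem_center_iff.1 h2 x.2)
  exact ⟨((QuotientGroup.quotientKerEquivOfSurjective ψ hψ).symm.trans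
    (QuotientGroup.quotientMulEquivOfEq hker)).trans (QuotientGroup.quotientKerEquivOfSurjective π hπ)⟩

end CfsgLib.Lie.OrthFourPlus
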