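import Cfsg.Agent.Lie.OrthRoot
import Cfsg.Agent.Lie.OrthFamMax
import Cfsg.Agent.Lie.OrthFull
import Cfsg.Prelude.Def_GeometricClasses

/-!
Orthogonal decompositions in small characteristic whose stabiliser in Ω is contained in a larger proper subgroup:
the stabiliser of a configuration of non-singular vectors lying in the members.
-/

set_option autoImplicit false
set_option linter.unusedSectionVars false
set_option linter.unusedSimpArgs false
set_option linter.unusedVariables false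

namespace CfsgLib.Lie.OrthFrame

open QuadraticMap Cfsg
open CfsgLib.Lie.Refl (act act_mul act_inj act_Q)
open CfsgLib.Lie.OrthRoot (omega_eq R_congr E E_act E_mem act_add act_sub act_smul)
open CfsgLib.Lie.OrthChar (R R_act map_add' polar_self')

variable {F : Type*} [Field F] [Fintype F] {ι : Type} [Fintype ι] [DecidableEq ι]
  {Q : QuadraticForm F (ι → F)}

local notation "V" => ι → F

section Generic

variable {t k : ℕ} {D : Fin t → Submodule F (ι → F)}

theorem same_member (hD : Cfsg.Geo.IsOrthogonalMDecomposition ⇑Q k D) {z w : V} {i l : Fin t} (hz : z ∈ D i)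
    (hw : w ∈ D l) (h : polar ⇑Q w z ≠ 0) : l = i := by
  by_contra hne
  exact h (hD.decomp.orthogonal l i hne _ hw _ hz)

/-- pairing non-trivially with two different members excludes membership -/
theorem not_mem_members (hD : Cfsg.Geo.IsOrthogonalMDecomposition ⇑Q k D) {g w w' : V} {l l' : Fin t} (hll : l ≠ l')
    (hw : w ∈ D l) (hw' : w' ∈ D l') (h : polar ⇑Q w g ≠ 0) (h' : polar ⇑Q w' g ≠ 0) : ∀ j, g ∉ D j :=
  fun _ hg => hll ((same_member hD hg hw h).trans (same_member hD hg hw' h').symm)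

theorem member_unique (hD : Cfsg.Geo.IsOrthogonalMDecomposition ⇑Q k D) {a : V} (ha : a ≠ 0) {i j : Fin t}
    (hi : a ∈ D i) (hj : a ∈ D j) : i = j := by
  obtain ⟨x, hx, hxa⟩ := (hD.decomp.nondegenerate i a hi ha).1
  exact same_member hD hj hx hxa

theorem not_stab_pair (hD : Cfsg.Geo.IsOrthogonalMDecomposition ⇑Q k D) (g : Cfsg.isometryGroup F ⇑Q) {a y : V}
    {i j l : Fin t} (ha : a ∈ D i) (hy : y ∈ D i) (ha0 : a ≠ 0) (hy0 : y ≠ 0) (hga : act Q g a ∈ D j)
    (hgy : act Q g y ∈ D l) (hjl : j ≠ l) :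
    (g : Matrix.GeneralLinearGroup ι F) ∉ Cfsg.Geo.decompositionStabilizer D := by
  rintro ⟨σ, hσ⟩
  have m0 : act Q g a ∈ D (σ i) := hσ i ▸ Submodule.mem_map_of_mem ha
  have m1 : act Q g y ∈ D (σ i) := hσ i ▸ Submodule.mem_map_of_mem hy
  have h0 : ∀ x, act Q g x = 0 → x = 0 := fun x h => act_inj g (h.trans (Matrix.mulVec_zero _).symm)
  exact hjl ((member_unique hD (fun h => ha0 (h0 _ h)) hga m0).trans
    (member_unique hD (fun h => hy0 (h0 _ h)) hgy m1).symm)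

theorem not_stab_out (g : Cfsg.isometryGroup F ⇑Q) {y : V} {i : Fin t} (hy : y ∈ D i)
    (hgy : ∀ j, act Q g y ∉ D j) :
    (g : Matrix.GeneralLinearGroup ι F) ∉ Cfsg.Geo.decompositionStabilizer D :=
  fun ⟨σ, hσ⟩ => hgy (σ i) (hσ i ▸ Submodule.mem_map_of_mem hy)

/-- the configuration and two witnesses give an intermediate subgroup -/
theorem core (S : Set V)
    (hS : ∀ (g : Cfsg.isometryGroup F ⇑Q) (σ : Equiv.Perm (Fin t)), (∀ i, ∀ x ∈ D i, act Q g x ∈ D (σ i)) →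
      ∀ v ∈ S, act Q g v ∈ S)
    (g₁ : Cfsg.isometryGroup F ⇑Q) (h₁ : g₁ ∈ Cfsg.Omega F ⇑Q) (h₁S : ∀ v ∈ S, act Q g₁ v ∈ S)
    (h₁D : (g₁ : Matrix.GeneralLinearGroup ι F) ∉ Cfsg.Geo.decompositionStabilizer D)
    (g₂ : Cfsg.isometryGroup F ⇑Q) (h₂ : g₂ ∈ Cfsg.Omega F ⇑Q) {v₂ : V} (hv₂ : v₂ ∈ S) (h₂S : act Q g₂ v₂ ∉ S) :
    ∃ K : Subgroup (Matrix.GeneralLinearGroup ι F),
      Cfsg.Geo.decompositionStabilizer D ⊓ Cfsg.Geo.omegaGL ⇑Q < K ∧ K < Cfsg.Geo.omegaGL ⇑Q := by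
  let K := Cfsg.stabilizing (Cfsg.glToMat ι F) S ⊓ Cfsg.Geo.omegaGL ⇑Q
  have hmemS : ∀ g : Cfsg.isometryGroup F ⇑Q,
      (g : Matrix.GeneralLinearGroup ι F) ∈ Cfsg.stabilizing (Cfsg.glToMat ι F) S ↔
        ∀ v, v ∈ S ↔ act Q g v ∈ S := fun g => Iff.rfl
  have hbij : ∀ g : Cfsg.isometryGroup F ⇑Q, (∀ v ∈ S, act Q g v ∈ S) → ∀ v, v ∈ S ↔ act Q g v ∈ S := by
    intro g hg v
    refine ⟨hg v, fun h => ?_⟩
    obtain ⟨u, hu, huv⟩ :=
      (((Set.toFinite S).injOn_iff_bijOn_of_mapsTo (fun v hv => hg v hv)).1 (act_inj g).injOn).surjOn h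
    rwa [← act_inj g huv]
  have hle : Cfsg.Geo.decompositionStabilizer D ⊓ Cfsg.Geo.omegaGL ⇑Q ≤ K := by
    rintro g ⟨⟨σ, hσ⟩, g', hg', rfl⟩
    exact ⟨(hmemS g').2 (hbij g' (hS g' σ fun i x hx => hσ i ▸ Submodule.mem_map_of_mem hx)), g', hg', rfl⟩
  refine ⟨K, lt_of_le_not_ge hle fun h => h₁D ?_, lt_of_le_not_ge inf_le_right fun h => h₂S ?_⟩
  · exact (h (show (g₁ : Matrix.GeneralLinearGroup ι F) ∈ K from
      ⟨(hmemS g₁).2 (hbij g₁ h₁S), g₁, h₁, rfl⟩)).1
  · exact ((hmemS g₂).1 (h (show (g₂ : Matrix.GeneralLinearGroup ι F) ∈ Cfsg.Geo.omegaGL ⇑Q from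
      ⟨g₂, h₂, rfl⟩)).1 v₂).1 hv₂

theorem card_le (hD : Cfsg.Geo.IsOrthogonalMDecomposition ⇑Q k D) : Fintype.card ι ≤ t * k := by
  have key : ∀ s : Finset (Fin t), Module.finrank F ↥(s.sup D) ≤ s.card * k := by
    intro s
    induction s using Finset.induction_on with
    | empty =>
      have h0 : (∅ : Finset (Fin t)).sup D = ⊥ := Finset.sup_empty
      rw [h0, finrank_bot]
      omega
    | @insert i s hi ih =>
      rw [Finset.sup_insert, Finset.card_insert_of_notMem hi]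
      refine (Submodule.finrank_add_le_finrank_add_finrank _ _).trans ?_
      rw [hD.decomp.decomp.finrank_eq, Nat.succ_mul]
      omega
  have := key Finset.univ
  rwa [show Finset.univ.sup D = ⊤ by rw [← hD.decomp.decomp.iSup_eq_top, Finset.sup_univ_eq_iSup], finrank_top,
    Module.finrank_fintype_fun_eq_card, Finset.card_univ, Fintype.card_fin] at this

theorem R_prod_mem (hQ : (QuadraticMap.polarBilin Q).Nondegenerate) (h5 : 5 ≤ Fintype.card ι) {v w : V}
    (hv : Q v ≠ 0) (hw : Q w = Q v) : R Q w * R Q v ∈ Cfsg.Omega F ⇑Q := by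
  rw [omega_eq hQ h5]; exact R_congr hQ h5 hv hw

theorem R_fix {v x : V} (hv : Q v ≠ 0) (h : polar ⇑Q v x = 0) : act Q (R Q v) x = x := by
  rw [R_act hv, h, mul_zero, zero_smul, sub_zero]

/-- transport of a vector configuration to all members -/
theorem transport (hD : Cfsg.Geo.IsOrthogonalMDecomposition ⇑Q k D) (i₀ : Fin t) :
    ∃ φ : ∀ i, D i₀ ≃ₗ[F] D i, (∀ i (w : D i₀), Q ((φ i w : D i) : V) = Q (w : V)) ∧
      ∀ i (w w' : D i₀), polar ⇑Q ((φ i w : D i) : V) ((φ i w' : D i) : V) = polar ⇑Q (w : V) (w' : V) := by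
  have hiso : ∀ i, ∃ φ : D i₀ ≃ₗ[F] D i, ∀ w : D i₀, Q ((φ w : D i) : V) = Q (w : V) := fun i => hD.isometric i₀ i
  choose φ hφ using hiso
  refine ⟨φ, hφ, fun i w w' => ?_⟩
  rw [QuadraticMap.polar, QuadraticMap.polar, ← Submodule.coe_add, ← map_add, hφ, hφ, hφ, Submodule.coe_add]

/-- odd characteristic: a vector of norm c in a member that separates the other vectors of norm c -/
theorem frame_case (hQ : (QuadraticMap.polarBilin Q).Nondegenerate) (h5 : 5 ≤ Fintype.card ι) (h2 : (2 : F) ≠ 0)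
    (hD : Cfsg.Geo.IsOrthogonalMDecomposition ⇑Q k D) (ht : 4 ≤ t) (hk : 2 ≤ k) (i₀ : Fin t) {c : F} (hc : c ≠ 0)
    {e₀ : V} (he₀ : e₀ ∈ D i₀) (hQe₀ : Q e₀ = c)
    (hloc : ∀ v ∈ D i₀, Q v = c → v = e₀ ∨ v = -e₀ ∨ polar ⇑Q e₀ v = 0) :
    ∃ K : Subgroup (Matrix.GeneralLinearGroup ι F),
      Cfsg.Geo.decompositionStabilizer D ⊓ Cfsg.Geo.omegaGL ⇑Q < K ∧ K < Cfsg.Geo.omegaGL ⇑Q := by
  obtain ⟨φ, hφ, hφp⟩ := transport hD i₀
  let e : Fin t → V := fun i => ((φ i ⟨e₀, he₀⟩ : D i) : V)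
  have heD : ∀ i, e i ∈ D i := fun i => (φ i _).2
  have heQ : ∀ i, Q (e i) = c := fun i => (hφ i _).trans hQe₀
  have heo : ∀ i j, i ≠ j → polar ⇑Q (e i) (e j) = 0 := fun i j h =>
    hD.decomp.orthogonal i j h _ (heD i) _ (heD j)
  have hee : ∀ i, polar ⇑Q (e i) (e i) = 2 * c := fun i => by rw [polar_self', heQ]
  have hlocal : ∀ i, ∀ v ∈ D i, Q v = c → v = e i ∨ v = -e i ∨ polar ⇑Q (e i) v = 0 := by
    intro i v hv hQv
    obtain ⟨w, hw⟩ := (φ i).surjective ⟨v, hv⟩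
    have hvw : v = ((φ i w : D i) : V) := by rw [hw]
    have hQw : Q (w : V) = c := by rw [← hφ i w, ← hvw]; exact hQv
    rcases hloc _ w.2 hQw with h | h | h
    · left; rw [hvw, show w = ⟨e₀, he₀⟩ from Subtype.ext h]
    · right; left
      rw [hvw, show w = -⟨e₀, he₀⟩ from Subtype.ext h, map_neg]; rfl
    · right; right
      show polar ⇑Q ((φ i ⟨e₀, he₀⟩ : D i) : V) v = 0
      rw [hvw, hφp]; exact h
  obtain ⟨S, hSdef⟩ : ∃ S : Set V, S = {v | ∃ i, v ∈ D i ∧ Q v = c} := ⟨_, rfl⟩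
  have hmem : ∀ v, v ∈ S ↔ ∃ i, v ∈ D i ∧ Q v = c := fun v => by rw [hSdef]; exact Iff.rfl
  let i0 : Fin t := ⟨0, by omega⟩
  let i1 : Fin t := ⟨1, by omega⟩
  let i2 : Fin t := ⟨2, by omega⟩
  let i3 : Fin t := ⟨3, by omega⟩
  have d01 : i0 ≠ i1 := by simp [i0, i1]
  have d02 : i0 ≠ i2 := by simp [i0, i2]
  have d03 : i0 ≠ i3 := by simp [i0, i3]
  have d12 : i1 ≠ i2 := by simp [i1, i2]
  have d13 : i1 ≠ i3 := by simp [i1, i3]
  have d23 : i2 ≠ i3 := by simp [i2, i3]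
  have hQd : ∀ i j, i ≠ j → Q (e i - e j) = 2 * c := fun i j h => by
    rw [sub_eq_add_neg, map_add', QuadraticMap.map_neg, polar_neg_right, heo i j h, heQ, heQ]; ring
  have h2c : 2 * c ≠ 0 := mul_ne_zero h2 hc
  -- the reflection at e i - e j permutes the configuration
  have hswap : ∀ i j, i ≠ j → act Q (R Q (e i - e j)) (e i) = e j ∧ act Q (R Q (e i - e j)) (e j) = e i ∧
      ∀ x, polar ⇑Q (e i) x = 0 → polar ⇑Q (e j) x = 0 → act Q (R Q (e i - e j)) x = x := by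
    intro i j h
    have hd : Q (e i - e j) ≠ 0 := hQd i j h ▸ h2c
    refine ⟨?_, ?_, fun x hx hy => R_fix hd ?_⟩
    · rw [R_act hd, hQd i j h, sub_eq_add_neg (e i) (e j), polar_add_left, polar_neg_left, hee, heo j i (Ne.symm h),
        neg_zero, add_zero, inv_mul_cancel₀ h2c]
      module
    · rw [R_act hd, hQd i j h, sub_eq_add_neg (e i) (e j), polar_add_left, polar_neg_left, hee, heo i j h,
        zero_add, mul_neg, inv_mul_cancel₀ h2c]
      module
    · rw [sub_eq_add_neg, polar_add_left, polar_neg_left, hx, hy, neg_zero, add_zero]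
  have hpres : ∀ i j, i ≠ j → ∀ v ∈ S, act Q (R Q (e i - e j)) v ∈ S := by
    intro i j h v hv
    obtain ⟨l, hl, hQv⟩ := (hmem v).1 hv
    obtain ⟨s1, s2, s3⟩ := hswap i j h
    have hout : ∀ m, m ≠ l → polar ⇑Q (e m) v = 0 := fun m hm => hD.decomp.orthogonal m l hm _ (heD m) _ hl
    have hneg : ∀ x : V, act Q (R Q (e i - e j)) (-x) = -act Q (R Q (e i - e j)) x := fun x => Matrix.mulVec_neg _ _
    refine (hmem _).2 ?_
    by_cases hli : l = i
    · subst hli
      rcases hlocal l v hl hQv with rfl | rfl | h0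
      · exact ⟨j, s1.symm ▸ heD j, by rw [s1, heQ]⟩
      · exact ⟨j, by rw [hneg, s1]; exact neg_mem (heD j), by rw [hneg, s1, QuadraticMap.map_neg, heQ]⟩
      · exact ⟨l, by rw [s3 v h0 (hout j (Ne.symm h))]; exact hl, by rw [act_Q, hQv]⟩
    · by_cases hlj : l = j
      · subst hlj
        rcases hlocal l v hl hQv with rfl | rfl | h0
        · exact ⟨i, s2.symm ▸ heD i, by rw [s2, heQ]⟩
        · exact ⟨i, by rw [hneg, s2]; exact neg_mem (heD i), by rw [hneg, s2, QuadraticMap.map_neg, heQ]⟩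
        · exact ⟨l, by rw [s3 v (hout i h) h0]; exact hl, by rw [act_Q, hQv]⟩
      · exact ⟨l, by rw [s3 v (hout i (Ne.symm hli)) (hout j (Ne.symm hlj))]; exact hl, by rw [act_Q, hQv]⟩
  obtain ⟨y, hy, hy0⟩ := OrthRoot.exists_ne_zero (D i0 ⊓ OrthRoot.perp Q (e i0)) (by
    have := OrthRoot.finrank_inf_perp (Q := Q) (D i0) (e i0)
    rw [hD.decomp.decomp.finrank_eq] at this; omega)
  rw [Submodule.mem_inf, OrthRoot.mem_perp] at hy
  have he0 : ∀ i, e i ≠ 0 := fun i h => hc (by rw [← heQ i, h, map_zero])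
  have hQ01 := hQd i0 i1 d01
  have hQ23 := hQd i2 i3 d23
  refine core S ?_ (R Q (e i2 - e i3) * R Q (e i0 - e i1))
    (R_prod_mem hQ h5 (hQ01 ▸ h2c) (hQ23.trans hQ01.symm)) ?_ ?_
    (R Q ((2 : F) • e i0) * R Q (e i0 + e i1 + e i2 + e i3)) ?_ (v₂ := e i1) ((hmem _).2 ⟨i1, heD i1, heQ i1⟩) ?_
  · intro g σ hσ v hv
    obtain ⟨i, hi, hQv⟩ := (hmem v).1 hv
    exact (hmem _).2 ⟨σ i, hσ i v hi, by rw [act_Q, hQv]⟩
  · intro v hv
    rw [act_mul]
    exact hpres _ _ d23 _ (hpres _ _ d01 v hv)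
  · refine not_stab_pair hD _ (heD i0) hy.1 (he0 _) hy0 (j := i1) (l := i0) ?_ ?_ (Ne.symm d01)
    · rw [act_mul, (hswap i0 i1 d01).1, (hswap i2 i3 d23).2.2 _ (heo _ _ (Ne.symm d12)) (heo _ _ (Ne.symm d13))]
      exact heD i1
    · have hout : ∀ m, m ≠ i0 → polar ⇑Q (e m) y = 0 := fun m hm => hD.decomp.orthogonal m i0 hm _ (heD m) _ hy.1
      rw [act_mul, (hswap i0 i1 d01).2.2 y hy.2 (hout i1 (Ne.symm d01)),
        (hswap i2 i3 d23).2.2 y (hout i2 (Ne.symm d02)) (hout i3 (Ne.symm d03))]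
      exact hy.1
  · have hQv : Q (e i0 + e i1 + e i2 + e i3) = 4 * c := by
      rw [map_add', map_add', map_add', polar_add_left, polar_add_left, polar_add_left, heQ, heQ, heQ, heQ,
        heo _ _ d01, heo _ _ d02, heo _ _ d03, heo _ _ d12, heo _ _ d13, heo _ _ d23]
      ring
    refine R_prod_mem hQ h5 ?_ ?_
    · rw [hQv, show (4 : F) = 2 * 2 by norm_num]; exact mul_ne_zero (mul_ne_zero h2 h2) hc
    · rw [hQv, OrthChar.map_smul', heQ]; ring
  · intro h
    obtain ⟨j, hj, -⟩ := (hmem _).1 h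
    have h4c : 2 * 2 * c ≠ 0 := mul_ne_zero (mul_ne_zero h2 h2) hc
    obtain ⟨v, hv⟩ : ∃ v, v = e i0 + e i1 + e i2 + e i3 := ⟨_, rfl⟩
    have hQv : Q v = 2 * 2 * c := by
      rw [hv, map_add', map_add', map_add', polar_add_left, polar_add_left, polar_add_left, heQ, heQ, heQ, heQ,
        heo _ _ d01, heo _ _ d02, heo _ _ d03, heo _ _ d12, heo _ _ d13, heo _ _ d23]
      ring
    have hQw : Q ((2 : F) • e i0) ≠ 0 := by rw [OrthChar.map_smul', heQ]; exact h4c
    have hpair : ∀ m, m ≠ i0 → m ≠ i1 → (m = i2 ∨ m = i3) →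
        polar ⇑Q (e m) (act Q (R Q ((2 : F) • e i0) * R Q v) (e i1)) ≠ 0 := by
      intro m m0 m1 hm
      have hp : polar ⇑Q v (e i1) = 2 * c := by
        rw [hv, polar_add_left, polar_add_left, polar_add_left, hee, heo _ _ d01, heo _ _ (Ne.symm d12),
          heo _ _ (Ne.symm d13)]
        ring
      have hmv : polar ⇑Q (e m) v = 2 * c := by
        rw [hv, polar_add_right, polar_add_right, polar_add_right, heo _ _ m0, heo _ _ m1]
        rcases hm with rfl | rfl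
        · rw [hee, heo _ _ d23]; ring
        · rw [hee, heo _ _ (Ne.symm d23)]; ring
      rw [act_mul, R_act (v := v) (by rw [hQv]; exact h4c), hQv, hp, R_act hQw]
      simp only [sub_eq_add_neg, polar_add_right, polar_neg_right, polar_smul_right, smul_eq_mul, heo _ _ m0,
        heo _ _ m1, hmv]
      simp [hc, h2]
    rw [← hv] at hj
    exact not_mem_members hD d23 (heD i2) (heD i3) (hpair i2 (Ne.symm d02) (Ne.symm d12) (Or.inl rfl))
      (hpair i3 (Ne.symm d03) (Ne.symm d13) (Or.inr rfl)) j hj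

theorem neg_eq_self' (h2 : (2 : F) = 0) (z : V) : -z = z := by
  funext i
  show -z i = z i
  linear_combination -(z i) * h2

/-- two or four field elements: planes with few vectors of norm one -/
theorem plane_case (hQ : (QuadraticMap.polarBilin Q).Nondegenerate) (h5 : 5 ≤ Fintype.card ι) (h2 : (2 : F) = 0)
    (hD : Cfsg.Geo.IsOrthogonalMDecomposition ⇑Q k D) (ht : 4 ≤ t) (i₀ : Fin t) {w₀ s₀ : V} (hw₀ : w₀ ∈ D i₀)
    (hs₀ : s₀ ∈ D i₀) (hQw₀ : Q w₀ = 1) (hQs₀ : Q s₀ = 0) (hws : polar ⇑Q w₀ s₀ ≠ 0)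
    (hloc : ∀ v ∈ D i₀, ∀ v' ∈ D i₀, Q v = 1 → Q v' = 1 → v = v' ∨ polar ⇑Q v v' = 1) :
    ∃ K : Subgroup (Matrix.GeneralLinearGroup ι F),
      Cfsg.Geo.decompositionStabilizer D ⊓ Cfsg.Geo.omegaGL ⇑Q < K ∧ K < Cfsg.Geo.omegaGL ⇑Q := by
  obtain ⟨φ, hφ, hφp⟩ := transport hD i₀
  let w : Fin t → V := fun i => ((φ i ⟨w₀, hw₀⟩ : D i) : V)
  let s : Fin t → V := fun i => ((φ i ⟨s₀, hs₀⟩ : D i) : V)
  have hwD : ∀ i, w i ∈ D i := fun i => (φ i _).2
  have hsD : ∀ i, s i ∈ D i := fun i => (φ i _).2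
  have hQw : ∀ i, Q (w i) = 1 := fun i => (hφ i _).trans hQw₀
  have hQs : ∀ i, Q (s i) = 0 := fun i => (hφ i _).trans hQs₀
  have hws' : ∀ i, polar ⇑Q (w i) (s i) ≠ 0 := fun i => by
    show polar ⇑Q ((φ i ⟨w₀, hw₀⟩ : D i) : V) ((φ i ⟨s₀, hs₀⟩ : D i) : V) ≠ 0
    rw [hφp]; exact hws
  have horth : ∀ {i j : Fin t}, i ≠ j → ∀ {x y : V}, x ∈ D i → y ∈ D j → polar ⇑Q x y = 0 := fun h x y hx hy =>
    hD.decomp.orthogonal _ _ h _ hx _ hy
  -- the admissible components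
  have hsum : ∀ i, ∀ a ∈ D i, ∀ b ∈ D i, (a = 0 ∨ Q a = 1) → (b = 0 ∨ Q b = 1) →
      ((a + b = 0 ∨ Q (a + b) = 1) ∧ (polar ⇑Q a b = 0 ∨ polar ⇑Q a b = 1)) := by
    intro i a ha b hb ha' hb'
    rcases ha' with rfl | ha'
    · exact ⟨by rwa [zero_add], Or.inl (polar_zero_left Q b)⟩
    rcases hb' with rfl | hb'
    · exact ⟨by rw [add_zero]; exact Or.inr ha', Or.inl (polar_zero_right Q a)⟩
    obtain ⟨u, hu⟩ := (φ i).surjective ⟨a, ha⟩
    obtain ⟨u', hu'⟩ := (φ i).surjective ⟨b, hb⟩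
    have hau : a = ((φ i u : D i) : V) := by rw [hu]
    have hbu : b = ((φ i u' : D i) : V) := by rw [hu']
    rcases hloc _ u.2 _ u'.2 (by rw [← hφ i u, ← hau]; exact ha') (by rw [← hφ i u', ← hbu]; exact hb') with h | h
    · have hab : a = b := by rw [hau, hbu, show u = u' from Subtype.ext h]
      subst hab
      refine ⟨Or.inl (funext fun j => ?_), Or.inl ?_⟩
      · show a j + a j = 0
        linear_combination (a j) * h2
      · rw [polar_self', h2, zero_mul]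
    · have hab : polar ⇑Q a b = 1 := by rw [hau, hbu, hφp]; exact h
      refine ⟨Or.inr ?_, Or.inr hab⟩
      rw [map_add', ha', hb', hab]
      linear_combination h2
  obtain ⟨T, hTdef⟩ : ∃ T : Set V, T = {x | ∃ a : Fin t → V, (∀ i, a i ∈ D i ∧ (a i = 0 ∨ Q (a i) = 1)) ∧
      x = ∑ i, a i} := ⟨_, rfl⟩
  have hmem : ∀ x, x ∈ T ↔ ∃ a : Fin t → V, (∀ i, a i ∈ D i ∧ (a i = 0 ∨ Q (a i) = 1)) ∧ x = ∑ i, a i :=
    fun x => by rw [hTdef]; exact Iff.rfl
  have hadd : ∀ x ∈ T, ∀ y ∈ T, x + y ∈ T := by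
    intro x hx y hy
    obtain ⟨a, ha, rfl⟩ := (hmem x).1 hx
    obtain ⟨b, hb, rfl⟩ := (hmem y).1 hy
    exact (hmem _).2 ⟨a + b, fun i => ⟨add_mem (ha i).1 (hb i).1,
      (hsum i _ (ha i).1 _ (hb i).1 (ha i).2 (hb i).2).1⟩, by simp [Finset.sum_add_distrib]⟩
  have hsingle : ∀ i, ∀ x ∈ D i, Q x = 1 → x ∈ T := by
    intro i x hx hQx
    refine (hmem _).2 ⟨Pi.single i x, fun j => ?_, (Fintype.sum_pi_single' i x).symm⟩
    by_cases h : j = i
    · subst h; simp [hx, hQx]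
    · simp [h]
  have hpair : ∀ (a : Fin t → V), (∀ i, a i ∈ D i) → ∀ j, ∀ y ∈ D j,
      polar ⇑Q y (∑ i, a i) = polar ⇑Q y (a j) := by
    intro a ha j y hy
    rw [← QuadraticMap.polarBilin_apply_apply, map_sum, Finset.sum_eq_single j]
    · rfl
    · intro i _ hi
      exact horth (Ne.symm hi) hy (ha i)
    · simp
  have hval : ∀ x ∈ T, ∀ y ∈ T, polar ⇑Q x y = 0 ∨ polar ⇑Q x y = 1 := by
    intro x hx y hy
    obtain ⟨a, ha, rfl⟩ := (hmem x).1 hx
    obtain ⟨b, hb, rfl⟩ := (hmem y).1 hy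
    rw [← QuadraticMap.polarBilin_apply_apply, map_sum]
    refine Finset.sum_induction _ (fun z => z = 0 ∨ z = 1) ?_ (Or.inl rfl) fun i _ => ?_
    · rintro p q (rfl | rfl) (rfl | rfl)
      · simp
      · simp
      · simp
      · left; linear_combination h2
    · rw [QuadraticMap.polarBilin_apply_apply, polar_comm (⇑Q), hpair a (fun i => (ha i).1) i (b i) (hb i).1]
      exact (hsum i _ (hb i).1 _ (ha i).1 (hb i).2 (ha i).2).2
  have hRT : ∀ u ∈ T, Q u = 1 → ∀ x ∈ T, act Q (R Q u) x ∈ T := by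
    intro u hu hQu x hx
    rw [R_act (by rw [hQu]; exact one_ne_zero), hQu, inv_one, one_mul]
    rcases hval u hu x hx with h | h <;> rw [h]
    · rwa [zero_smul, sub_zero]
    · rw [one_smul, sub_eq_add_neg, neg_eq_self' h2]; exact hadd x hx u hu
  let i0 : Fin t := ⟨0, by omega⟩
  let i1 : Fin t := ⟨1, by omega⟩
  let i2 : Fin t := ⟨2, by omega⟩
  let i3 : Fin t := ⟨3, by omega⟩
  have d01 : i0 ≠ i1 := by simp [i0, i1]
  have d02 : i0 ≠ i2 := by simp [i0, i2]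
  have d03 : i0 ≠ i3 := by simp [i0, i3]
  have d12 : i1 ≠ i2 := by simp [i1, i2]
  have d13 : i1 ≠ i3 := by simp [i1, i3]
  have d23 : i2 ≠ i3 := by simp [i2, i3]
  obtain ⟨u, hu⟩ : ∃ u, u = w i0 + w i1 + w i2 := ⟨_, rfl⟩
  have hQu : Q u = 1 := by
    rw [hu, map_add', map_add', hQw, hQw, hQw, polar_add_left, horth d01 (hwD _) (hwD _),
      horth d02 (hwD _) (hwD _), horth d12 (hwD _) (hwD _)]
    linear_combination h2
  have hwT : ∀ i, w i ∈ T := fun i => hsingle i _ (hwD i) (hQw i)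
  have huT : u ∈ T := hu ▸ hadd _ (hadd _ (hwT _) _ (hwT _)) _ (hwT _)
  have hR3 : ∀ x : V, polar ⇑Q (w i3) x = 0 → act Q (R Q (w i3)) x = x := fun x hx =>
    R_fix (by rw [hQw]; exact one_ne_zero) hx
  obtain ⟨y, hy, hy'⟩ := (hD.decomp.nondegenerate i0 (w i0) (hwD i0)
    (fun h => one_ne_zero ((hQw i0).symm.trans (by rw [h, map_zero])))).2
  refine core T ?_ (R Q (w i3) * R Q u) (R_prod_mem hQ h5 (by rw [hQu]; exact one_ne_zero) (by rw [hQw, hQu]))
    ?_ ?_ (R Q (w i3) * R Q (w i0 + s i1)) ?_ (v₂ := w i1) (hwT i1) ?_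
  · intro g σ hσ x hx
    obtain ⟨a, ha, rfl⟩ := (hmem x).1 hx
    refine (hmem _).2 ⟨fun j => act Q g (a (σ.symm j)), fun j => ⟨?_, ?_⟩, ?_⟩
    · simpa using hσ (σ.symm j) _ (ha (σ.symm j)).1
    · rcases (ha (σ.symm j)).2 with h | h
      · left; show act Q g _ = 0; rw [h]; exact Matrix.mulVec_zero _
      · right; show Q (act Q g _) = 1; rw [act_Q, h]
    · rw [Equiv.sum_comp σ.symm (fun j => act Q g (a j))]
      exact Matrix.mulVec_sum ..
  · intro x hx
    rw [act_mul]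
    exact hRT _ (hwT i3) (hQw i3) _ (hRT u huT hQu x hx)
  · have hin : ∀ i z, i ≠ i0 → z ∈ D i → polar ⇑Q z y = 0 := fun i z hi hz => horth hi hz hy
    have hb : polar ⇑Q u y = polar ⇑Q (w i0) y := by
      rw [hu, polar_add_left, polar_add_left, hin i1 _ (Ne.symm d01) (hwD _), hin i2 _ (Ne.symm d02) (hwD _)]
      simp
    have himg : act Q (R Q (w i3) * R Q u) y = y - polar ⇑Q (w i0) y • u := by
      rw [act_mul, R_act (v := u) (by rw [hQu]; exact one_ne_zero), hQu, hb, inv_one, one_mul, hR3]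
      rw [sub_eq_add_neg, polar_add_right, polar_neg_right, polar_smul_right, hu, polar_add_right, polar_add_right,
        hin i3 _ (Ne.symm d03) (hwD _), horth (Ne.symm d03) (hwD _) (hwD _), horth (Ne.symm d13) (hwD _) (hwD _),
        horth (Ne.symm d23) (hwD _) (hwD _)]
      simp
    refine not_stab_out _ hy (not_mem_members hD d12 (hsD i1) (hsD i2) ?_ ?_)
    · rw [himg, sub_eq_add_neg, polar_add_right, polar_neg_right, polar_smul_right, hu, polar_add_right,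
        polar_add_right, hin i1 _ (Ne.symm d01) (hsD _), horth (Ne.symm d01) (hsD _) (hwD _),
        horth d12 (hsD _) (hwD _), polar_comm (⇑Q) (s i1) (w i1)]
      simp [hy', hws' i1]
    · rw [himg, sub_eq_add_neg, polar_add_right, polar_neg_right, polar_smul_right, hu, polar_add_right,
        polar_add_right, hin i2 _ (Ne.symm d02) (hsD _), horth (Ne.symm d02) (hsD _) (hwD _),
        horth (Ne.symm d12) (hsD _) (hwD _), polar_comm (⇑Q) (s i2) (w i2)]
      simp [hy', hws' i2]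
  · have hQv : Q (w i0 + s i1) = 1 := by rw [map_add', hQw, hQs, horth d01 (hwD _) (hsD _)]; simp
    exact R_prod_mem hQ h5 (by rw [hQv]; exact one_ne_zero) (by rw [hQw, hQv])
  · intro h
    have hQv : Q (w i0 + s i1) = 1 := by rw [map_add', hQw, hQs, horth d01 (hwD _) (hsD _)]; simp
    obtain ⟨β, hβ⟩ : ∃ β, β = polar ⇑Q (w i1) (s i1) := ⟨_, rfl⟩
    have hb : polar ⇑Q (w i0 + s i1) (w i1) = β := by
      rw [polar_add_left, horth d01 (hwD _) (hwD _), zero_add, polar_comm, hβ]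
    have himg : act Q (R Q (w i3) * R Q (w i0 + s i1)) (w i1) = -(β • w i0) + (w i1 - β • s i1) := by
      rw [act_mul, R_act (v := w i0 + s i1) (by rw [hQv]; exact one_ne_zero), hQv, hb, inv_one, one_mul, hR3]
      · module
      · rw [sub_eq_add_neg, polar_add_right, polar_neg_right, polar_smul_right, polar_add_right,
          horth (Ne.symm d13) (hwD _) (hwD _), horth (Ne.symm d03) (hwD _) (hwD _),
          horth (Ne.symm d13) (hwD _) (hsD _)]
        simp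
    obtain ⟨a, ha, hsumeq⟩ := (hmem _).1 h
    have hcomp : ∀ j, ∀ z ∈ D j, (∀ y ∈ D j, polar ⇑Q y (∑ i, a i) = polar ⇑Q y z) → a j = z := by
      intro j z hz hzy
      by_contra hne
      obtain ⟨y, hy, hyz⟩ := (hD.decomp.nondegenerate j (a j - z) (sub_mem (ha j).1 hz) (sub_ne_zero.2 hne)).1
      refine hyz ?_
      rw [sub_eq_add_neg, polar_add_right, polar_neg_right, ← hpair a (fun i => (ha i).1) j y hy, hzy y hy,
        add_neg_cancel]
    have a0 : a i0 = -(β • w i0) := hcomp i0 _ (neg_mem (Submodule.smul_mem _ _ (hwD i0))) fun y hy => by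
      rw [← hsumeq, himg, polar_add_right,
        horth d01 hy (sub_mem (hwD i1) (Submodule.smul_mem _ _ (hsD i1))), add_zero]
    have a1 : a i1 = w i1 - β • s i1 :=
      hcomp i1 _ (sub_mem (hwD i1) (Submodule.smul_mem _ _ (hsD i1))) fun y hy => by
        rw [← hsumeq, himg, polar_add_right, horth (Ne.symm d01) hy (neg_mem (Submodule.smul_mem _ _ (hwD i0))),
          zero_add]
    have hβ0 : β ≠ 0 := hβ ▸ hws' i1
    have hw0 : ∀ i, w i ≠ 0 := fun i h => one_ne_zero ((hQw i).symm.trans (by rw [h, map_zero]))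
    have hβ1 : β = 1 := by
      rcases (ha i0).2 with h' | h' <;> rw [a0] at h'
      · exact absurd (neg_eq_zero.1 h') (smul_ne_zero hβ0 (hw0 _))
      · rw [QuadraticMap.map_neg, OrthChar.map_smul', hQw, mul_one] at h'
        have h'' : (β - 1) * (β - 1) = 0 := by linear_combination h' - (β - 1) * h2
        exact sub_eq_zero.1 (mul_self_eq_zero.1 h'')
    rcases (ha i1).2 with h' | h' <;> rw [a1, hβ1, one_smul] at h'
    · have : Q (w i1) = Q (s i1) := by rw [sub_eq_zero.1 h']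
      rw [hQw, hQs] at this
      exact one_ne_zero this
    · rw [sub_eq_add_neg, map_add', QuadraticMap.map_neg, hQw, hQs, polar_neg_right, ← hβ, hβ1] at h'
      exact one_ne_zero (show (1 : F) = 0 by linear_combination -h')

/-- two field elements: members with two distinguished orthogonal anisotropic planes -/
theorem minus_pair_case (hQ : (QuadraticMap.polarBilin Q).Nondegenerate) (h5 : 5 ≤ Fintype.card ι) (h2 : (2 : F) = 0)
    (hD : Cfsg.Geo.IsOrthogonalMDecomposition ⇑Q k D) (ht : 4 ≤ t) (hk : 3 ≤ k) (i₀ : Fin t) {a₀ b₀ : V}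
    (ha₀ : a₀ ∈ D i₀) (hb₀ : b₀ ∈ D i₀) (hQa₀ : Q a₀ = 1) (hQb₀ : Q b₀ = 1) (hab₀ : polar ⇑Q a₀ b₀ = 1)
    (hloc : ∀ v ∈ D i₀, Q v = 1 → v = a₀ ∨ v = b₀ ∨ v = a₀ + b₀ ∨ (polar ⇑Q a₀ v = 0 ∧ polar ⇑Q b₀ v = 0)) :
    ∃ K : Subgroup (Matrix.GeneralLinearGroup ι F),
      Cfsg.Geo.decompositionStabilizer D ⊓ Cfsg.Geo.omegaGL ⇑Q < K ∧ K < Cfsg.Geo.omegaGL ⇑Q := by
  obtain ⟨φ, hφ, hφp⟩ := transport hD i₀
  let a : Fin t → V := fun i => ((φ i ⟨a₀, ha₀⟩ : D i) : V)
  let b : Fin t → V := fun i => ((φ i ⟨b₀, hb₀⟩ : D i) : V)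
  have haD : ∀ i, a i ∈ D i := fun i => (φ i _).2
  have hbD : ∀ i, b i ∈ D i := fun i => (φ i _).2
  have hQa : ∀ i, Q (a i) = 1 := fun i => (hφ i _).trans hQa₀
  have hQb : ∀ i, Q (b i) = 1 := fun i => (hφ i _).trans hQb₀
  have hab : ∀ i, polar ⇑Q (a i) (b i) = 1 := fun i => by
    show polar ⇑Q ((φ i ⟨a₀, ha₀⟩ : D i) : V) ((φ i ⟨b₀, hb₀⟩ : D i) : V) = 1
    rw [hφp]; exact hab₀
  have hlocal : ∀ i, ∀ v ∈ D i, Q v = 1 →
      v = a i ∨ v = b i ∨ v = a i + b i ∨ (polar ⇑Q (a i) v = 0 ∧ polar ⇑Q (b i) v = 0) := by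
    intro i v hv hQv
    obtain ⟨z, hz⟩ := (φ i).surjective ⟨v, hv⟩
    have hvz : v = ((φ i z : D i) : V) := by rw [hz]
    rcases hloc _ z.2 (by rw [← hφ i z, ← hvz]; exact hQv) with h | h | h | ⟨h, h'⟩
    · left; rw [hvz, show z = ⟨a₀, ha₀⟩ from Subtype.ext h]
    · right; left; rw [hvz, show z = ⟨b₀, hb₀⟩ from Subtype.ext h]
    · right; right; left
      rw [hvz, show z = ⟨a₀, ha₀⟩ + ⟨b₀, hb₀⟩ from Subtype.ext h, map_add]; rfl
    · right; right; right
      refine ⟨?_, ?_⟩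
      · show polar ⇑Q ((φ i ⟨a₀, ha₀⟩ : D i) : V) v = 0
        rw [hvz, hφp]; exact h
      · show polar ⇑Q ((φ i ⟨b₀, hb₀⟩ : D i) : V) v = 0
        rw [hvz, hφp]; exact h'
  have horth : ∀ {i j : Fin t}, i ≠ j → ∀ {x y : V}, x ∈ D i → y ∈ D j → polar ⇑Q x y = 0 := fun h x y hx hy =>
    hD.decomp.orthogonal _ _ h _ hx _ hy
  have hneg : ∀ z : V, -z = z := neg_eq_self' h2
  have hself : ∀ z : V, polar ⇑Q z z = 0 := fun z => by rw [polar_self', h2, zero_mul]
  obtain ⟨S, hSdef⟩ : ∃ S : Set V, S = {v | ∃ i, v ∈ D i ∧ Q v = 1} := ⟨_, rfl⟩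
  have hmem : ∀ v, v ∈ S ↔ ∃ i, v ∈ D i ∧ Q v = 1 := fun v => by rw [hSdef]; exact Iff.rfl
  let i0 : Fin t := ⟨0, by omega⟩
  let i1 : Fin t := ⟨1, by omega⟩
  let i2 : Fin t := ⟨2, by omega⟩
  let i3 : Fin t := ⟨3, by omega⟩
  have d01 : i0 ≠ i1 := by simp [i0, i1]
  have d02 : i0 ≠ i2 := by simp [i0, i2]
  have d03 : i0 ≠ i3 := by simp [i0, i3]
  have d12 : i1 ≠ i2 := by simp [i1, i2]
  have d13 : i1 ≠ i3 := by simp [i1, i3]
  have d23 : i2 ≠ i3 := by simp [i2, i3]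
  obtain ⟨u, hu⟩ : ∃ u, u = a i0 + a i1 := ⟨_, rfl⟩
  obtain ⟨v, hv⟩ : ∃ v, v = b i0 + b i1 := ⟨_, rfl⟩
  obtain ⟨v', hv'⟩ : ∃ v', v' = b i2 + b i3 := ⟨_, rfl⟩
  have hQu : Q u = 0 := by
    rw [hu, map_add', hQa, hQa, horth d01 (haD _) (haD _)]; linear_combination h2
  have hQv : Q v = 0 := by
    rw [hv, map_add', hQb, hQb, horth d01 (hbD _) (hbD _)]; linear_combination h2
  have hQv' : Q v' = 0 := by
    rw [hv', map_add', hQb, hQb, horth d23 (hbD _) (hbD _)]; linear_combination h2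
  have huv : polar ⇑Q u v = 0 := by
    rw [hu, hv, polar_add_left, polar_add_right, polar_add_right, hab, hab, horth d01 (haD _) (hbD _),
      horth (Ne.symm d01) (haD _) (hbD _)]
    linear_combination h2
  have huv' : polar ⇑Q u v' = 0 := by
    rw [hu, hv', polar_add_left, polar_add_right, polar_add_right, horth d02 (haD _) (hbD _),
      horth d03 (haD _) (hbD _), horth d12 (haD _) (hbD _), horth d13 (haD _) (hbD _)]
    simp
  obtain ⟨g, hg⟩ : ∃ g, g = E Q u v := ⟨_, rfl⟩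
  have hact : ∀ x, act Q g x = x + polar ⇑Q u x • v - polar ⇑Q v x • u := by
    intro x
    rw [hg, E_act hQu huv, hQv]
    module
  -- the transvection exchanges the planes of the first two members
  have ha01 : act Q g (a i0) = a i1 ∧ act Q g (b i0) = b i1 ∧ act Q g (a i1) = a i0 ∧ act Q g (b i1) = b i0 := by
    have e1 : polar ⇑Q u (a i0) = 0 := by
      rw [hu, polar_add_left, hself, horth (Ne.symm d01) (haD _) (haD _), add_zero]
    have e2 : polar ⇑Q v (a i0) = 1 := by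
      rw [hv, polar_add_left, polar_comm, hab, horth (Ne.symm d01) (hbD _) (haD _), add_zero]
    have e3 : polar ⇑Q u (b i0) = 1 := by
      rw [hu, polar_add_left, hab, horth (Ne.symm d01) (haD _) (hbD _), add_zero]
    have e4 : polar ⇑Q v (b i0) = 0 := by
      rw [hv, polar_add_left, hself, horth (Ne.symm d01) (hbD _) (hbD _), add_zero]
    have e5 : polar ⇑Q u (a i1) = 0 := by
      rw [hu, polar_add_left, hself, horth d01 (haD _) (haD _), add_zero]
    have e6 : polar ⇑Q v (a i1) = 1 := by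
      rw [hv, polar_add_left, polar_comm (⇑Q) (b i1), hab, horth d01 (hbD _) (haD _), zero_add]
    have e7 : polar ⇑Q u (b i1) = 1 := by
      rw [hu, polar_add_left, hab, horth d01 (haD _) (hbD _), zero_add]
    have e8 : polar ⇑Q v (b i1) = 0 := by
      rw [hv, polar_add_left, hself, horth d01 (hbD _) (hbD _), add_zero]
    refine ⟨?_, ?_, ?_, ?_⟩
    · rw [hact, e1, e2, hu]
      conv_rhs => rw [← hneg (a i1)]
      module
    · rw [hact, e3, e4, hv]
      nth_rw 1 [← hneg (b i0)]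
      module
    · rw [hact, e5, e6, hu]
      conv_rhs => rw [← hneg (a i0)]
      module
    · rw [hact, e7, e8, hv]
      nth_rw 1 [← hneg (b i1)]
      module
  have hfix : ∀ x, polar ⇑Q u x = 0 → polar ⇑Q v x = 0 → act Q g x = x := fun x h h' => by
    rw [hact, h, h']; simp
  have hpres : ∀ x ∈ S, act Q g x ∈ S := by
    intro x hx
    obtain ⟨l, hl, hQx⟩ := (hmem x).1 hx
    refine (hmem _).2 ?_
    have hQgx : Q (act Q g x) = 1 := by rw [act_Q, hQx]
    by_cases h0 : l = i0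
    · subst h0
      rcases hlocal _ x hl hQx with rfl | rfl | rfl | ⟨ha, hb⟩
      · exact ⟨i1, ha01.1.symm ▸ haD i1, hQgx⟩
      · exact ⟨i1, ha01.2.1.symm ▸ hbD i1, hQgx⟩
      · refine ⟨i1, ?_, hQgx⟩
        rw [act_add, ha01.1, ha01.2.1]; exact add_mem (haD _) (hbD _)
      · refine ⟨i0, ?_, hQgx⟩
        rw [hfix x (by rw [hu, polar_add_left, ha, horth (Ne.symm d01) (haD _) hl, add_zero])
          (by rw [hv, polar_add_left, hb, horth (Ne.symm d01) (hbD _) hl, add_zero])]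
        exact hl
    · by_cases h1 : l = i1
      · subst h1
        rcases hlocal _ x hl hQx with rfl | rfl | rfl | ⟨ha, hb⟩
        · exact ⟨i0, ha01.2.2.1.symm ▸ haD i0, hQgx⟩
        · exact ⟨i0, ha01.2.2.2.symm ▸ hbD i0, hQgx⟩
        · refine ⟨i0, ?_, hQgx⟩
          rw [act_add, ha01.2.2.1, ha01.2.2.2]; exact add_mem (haD _) (hbD _)
        · refine ⟨i1, ?_, hQgx⟩
          rw [hfix x (by rw [hu, polar_add_left, ha, horth d01 (haD _) hl, add_zero])
            (by rw [hv, polar_add_left, hb, horth d01 (hbD _) hl, add_zero])]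
          exact hl
      · refine ⟨l, ?_, hQgx⟩
        rw [hfix x (by rw [hu, polar_add_left, horth (Ne.symm h0) (haD _) hl, horth (Ne.symm h1) (haD _) hl, add_zero])
          (by rw [hv, polar_add_left, horth (Ne.symm h0) (hbD _) hl, horth (Ne.symm h1) (hbD _) hl, add_zero])]
        exact hl
  obtain ⟨y, hy, hy0⟩ := OrthRoot.exists_ne_zero (D i0 ⊓ OrthRoot.perp Q (a i0) ⊓ OrthRoot.perp Q (b i0)) (by
    have h1 := OrthRoot.finrank_inf_perp (Q := Q) (D i0) (a i0)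
    have h2 := OrthRoot.finrank_inf_perp (Q := Q) (D i0 ⊓ OrthRoot.perp Q (a i0)) (b i0)
    rw [hD.decomp.decomp.finrank_eq] at h1; omega)
  rw [Submodule.mem_inf, Submodule.mem_inf, OrthRoot.mem_perp, OrthRoot.mem_perp] at hy
  obtain ⟨⟨hy, hya⟩, hyb⟩ := hy
  refine core S ?_ g (hg ▸ by rw [omega_eq hQ h5]; exact E_mem hQ h5 hQu huv) hpres ?_
    (E Q u v') (by rw [omega_eq hQ h5]; exact E_mem hQ h5 hQu huv') (v₂ := b i0)
    ((hmem _).2 ⟨i0, hbD i0, hQb i0⟩) ?_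
  · intro g σ hσ v hv
    obtain ⟨i, hi, hQv⟩ := (hmem v).1 hv
    exact (hmem _).2 ⟨σ i, hσ i v hi, by rw [act_Q, hQv]⟩
  · refine not_stab_pair hD _ (haD i0) hy (fun h => one_ne_zero ((hQa i0).symm.trans (by rw [h, map_zero]))) hy0
      (j := i1) (l := i0) (ha01.1.symm ▸ haD i1) ?_ (Ne.symm d01)
    rw [hfix y (by rw [hu, polar_add_left, hya, horth (Ne.symm d01) (haD _) hy, add_zero])
      (by rw [hv, polar_add_left, hyb, horth (Ne.symm d01) (hbD _) hy, add_zero])]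
    exact hy
  · intro h
    obtain ⟨j, hj, -⟩ := (hmem _).1 h
    have e1 : polar ⇑Q u (b i0) = 1 := by
      rw [hu, polar_add_left, hab, horth (Ne.symm d01) (haD _) (hbD _), add_zero]
    have e2 : polar ⇑Q v' (b i0) = 0 := by
      rw [hv', polar_add_left, horth (Ne.symm d02) (hbD _) (hbD _), horth (Ne.symm d03) (hbD _) (hbD _), add_zero]
    rw [E_act hQu huv', hQv', e1, e2, one_smul, zero_smul, sub_zero, zero_mul, zero_smul, sub_zero, hv'] at hj
    refine not_mem_members hD d02 (haD i0) (haD i2) ?_ ?_ j hj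
    · rw [polar_add_right, polar_add_right, hab, horth d02 (haD _) (hbD _), horth d03 (haD _) (hbD _)]
      simp
    · rw [polar_add_right, polar_add_right, hab, horth (Ne.symm d02) (haD _) (hbD _), horth d23 (haD _) (hbD _)]
      simp

end Generic

/-! ### The members -/

theorem two_or (hq : Odd (Fintype.card F)) : (2 : F) ≠ 0 := fun h => by
  have := OrthRoot.char_two_of h
  obtain ⟨n, -, hn⟩ := FiniteField.card F 2
  rw [hn] at hq
  exact (Nat.not_even_iff_odd.2 hq) (Nat.even_pow.2 ⟨even_two, n.ne_zero⟩)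

theorem cast_card (n : ℕ) (hq : Fintype.card F = n) : (n : F) = 0 := by
  have h := FiniteField.cast_card_eq_zero F
  rwa [hq] at h

theorem cases_three (hq : Fintype.card F = 3) (x : F) : x = 0 ∨ x = 1 ∨ x = -1 := by
  by_cases h : x = 0
  · exact Or.inl h
  · have := FiniteField.pow_card_sub_one_eq_one x h
    rw [hq] at this
    rcases sq_eq_one_iff.1 this with h' | h'
    · exact Or.inr (Or.inl h')
    · exact Or.inr (Or.inr h')

theorem partner {W : Submodule F V} (hW : Cfsg.Geo.IsNondegenerateOn (polar ⇑Q) W) {l : V} (hl : l ∈ W)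
    (hl0 : l ≠ 0) (hQl : Q l = 0) : ∃ m ∈ W, Q m = 0 ∧ polar ⇑Q l m = 1 := by
  obtain ⟨x, hx, hlx⟩ := (hW l hl hl0).2
  obtain ⟨x', hx'⟩ : ∃ x', x' = (polar ⇑Q l x)⁻¹ • x := ⟨_, rfl⟩
  have h1 : polar ⇑Q l x' = 1 := by rw [hx', polar_smul_right, smul_eq_mul, inv_mul_cancel₀ hlx]
  have hll : polar ⇑Q l l = 0 := by rw [polar_self', hQl, mul_zero]
  refine ⟨x' + (-Q x') • l, add_mem (hx' ▸ W.smul_mem _ hx) (W.smul_mem _ hl), ?_, ?_⟩
  · rw [map_add', OrthChar.map_smul', hQl, polar_smul_right, smul_eq_mul, polar_comm, h1]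
    ring
  · rw [polar_add_right, polar_smul_right, hll, h1, smul_zero, add_zero]

/-- coordinates in a member of plus type of dimension two -/
theorem plus_plane {W : Submodule F V} (hW : Cfsg.Geo.IsNondegenerateOn (polar ⇑Q) W)
    (hdim : Module.finrank F W = 2) (hp : Cfsg.Geo.IsPlusTypeOn ⇑Q W) :
    ∃ s r : V, s ∈ W ∧ r ∈ W ∧ Q s = 0 ∧ Q r = 0 ∧ polar ⇑Q s r = 1 ∧ ∀ v ∈ W, ∃ α β : F, v = α • s + β • r := by
  obtain ⟨U, hU, hts, hd⟩ := hp
  obtain ⟨s, hs, hs0⟩ := OrthRoot.exists_ne_zero U (by omega)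
  obtain ⟨r, hr, hQr, hsr⟩ := partner hW (hU hs) hs0 (hts s hs)
  refine ⟨s, r, hU hs, hr, hts s hs, hQr, hsr, fun v hv => ?_⟩
  have hli : LinearIndependent F ![s, r] := OrthRoot.li_pair hs0 fun c h => by
    rw [h, polar_smul_right, polar_self', hts s hs, mul_zero, smul_zero] at hsr
    exact zero_ne_one hsr
  have hsp : Submodule.span F (Set.range ![s, r]) = W := Submodule.eq_of_le_of_finrank_le
    (Submodule.span_le.2 (by rintro - ⟨i, rfl⟩; fin_cases i; exacts [hU hs, hr]))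
    (by rw [finrank_span_eq_card hli, hdim, Fintype.card_fin])
  rw [← hsp, Submodule.mem_span_range_iff_exists_fun] at hv
  obtain ⟨a, rfl⟩ := hv
  exact ⟨a 0, a 1, by simp [Fin.sum_univ_two]⟩

theorem exists_anisotropic {W : Submodule F V} (hW : Cfsg.Geo.IsNondegenerateOn (polar ⇑Q) W)
    (h1 : 1 ≤ Module.finrank F W) : ∃ v ∈ W, Q v ≠ 0 := by
  by_contra hc
  push Not at hc
  obtain ⟨v, hv, hv0⟩ := OrthRoot.exists_ne_zero W h1
  obtain ⟨x, hx, hxv⟩ := (hW v hv hv0).1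
  refine hxv ?_
  rw [QuadraticMap.polar, hc _ (add_mem hx hv), hc x hx, hc v hv]
  ring

theorem orth_basis (h2 : (2 : F) ≠ 0) : ∀ (k : ℕ) (W : Submodule F V), Module.finrank F W = k →
    Cfsg.Geo.IsNondegenerateOn (polar ⇑Q) W →
    ∃ b : Fin k → V, (∀ i, b i ∈ W ∧ Q (b i) ≠ 0) ∧ (∀ i j, i ≠ j → polar ⇑Q (b i) (b j) = 0) ∧
      ∀ v ∈ W, ∃ a : Fin k → F, v = ∑ i, a i • b i := by
  intro k
  induction k with
  | zero =>
    intro W hk _
    refine ⟨Fin.elim0, fun i => i.elim0, fun i => i.elim0, fun v hv => ⟨Fin.elim0, ?_⟩⟩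
    rw [Submodule.finrank_eq_zero.1 hk, Submodule.mem_bot] at hv
    simp [hv]
  | succ k ih =>
    intro W hk hW
    obtain ⟨v, hv, hQv⟩ := exists_anisotropic hW (by omega)
    obtain ⟨W', hW'⟩ : ∃ W', W' = W ⊓ OrthRoot.perp Q v := ⟨_, rfl⟩
    have hvv : polar ⇑Q v v ≠ 0 := by rw [polar_self']; exact mul_ne_zero h2 hQv
    have hmem : ∀ x, x ∈ W' ↔ x ∈ W ∧ polar ⇑Q v x = 0 := fun x => by
      rw [hW', Submodule.mem_inf, OrthRoot.mem_perp]
    have hproj : ∀ x ∈ W, x - (polar ⇑Q v x / polar ⇑Q v v) • v ∈ W' := fun x hx => by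
      rw [hmem]
      refine ⟨sub_mem hx (W.smul_mem _ hv), ?_⟩
      rw [sub_eq_add_neg, polar_add_right, polar_neg_right, polar_smul_right,
        smul_eq_mul, div_mul_cancel₀ _ hvv, add_neg_cancel]
    have hrank : Module.finrank F W' = k := by
      have h1 : W' ⊔ Submodule.span F {v} = W := by
        refine le_antisymm (sup_le (fun x hx => ((hmem x).1 hx).1) ((Submodule.span_singleton_le_iff_mem _ _).2 hv))
          fun x hx => ?_
        rw [show x = (x - (polar ⇑Q v x / polar ⇑Q v v) • v) + (polar ⇑Q v x / polar ⇑Q v v) • v by abel]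
        exact add_mem (Submodule.mem_sup_left (hproj x hx))
          (Submodule.mem_sup_right (Submodule.smul_mem _ _ (Submodule.mem_span_singleton_self v)))
      have hd : W' ⊓ Submodule.span F {v} = ⊥ := by
        rw [eq_bot_iff]
        rintro x ⟨hx, hx'⟩
        obtain ⟨c, rfl⟩ := Submodule.mem_span_singleton.1 hx'
        have := ((hmem _).1 hx).2
        rw [polar_smul_right, smul_eq_mul] at this
        rw [(mul_eq_zero.1 this).resolve_right hvv, zero_smul]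
        exact Submodule.zero_mem _
      have h3 := Submodule.finrank_sup_add_finrank_inf_eq W' (Submodule.span F {v})
      rw [h1, hd, finrank_bot, hk, finrank_span_singleton (fun h => hQv (by rw [h, map_zero]))] at h3
      omega
    have hW'nd : Cfsg.Geo.IsNondegenerateOn (polar ⇑Q) W' := by
      have key : ∀ y ∈ W', y ≠ 0 → ∃ x ∈ W', polar ⇑Q y x ≠ 0 := by
        intro y hy hy0
        obtain ⟨hyW, hyv⟩ := (hmem y).1 hy
        obtain ⟨x, hx, hxy⟩ := (hW y hyW hy0).2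
        refine ⟨_, hproj x hx, ?_⟩
        rw [sub_eq_add_neg, polar_add_right, polar_neg_right, polar_smul_right, polar_comm (⇑Q) y v, hyv, smul_zero,
          neg_zero, add_zero]
        exact hxy
      intro y hy hy0
      obtain ⟨x, hx, hxy⟩ := key y hy hy0
      exact ⟨⟨x, hx, by rwa [polar_comm]⟩, ⟨x, hx, hxy⟩⟩
    obtain ⟨b, hb, hbo, hbs⟩ := ih W' hrank hW'nd
    refine ⟨Fin.cons v b, fun i => ?_, fun i j hij => ?_, fun x hx => ?_⟩
    · refine Fin.cases ?_ (fun i => ?_) i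
      · simpa using ⟨hv, hQv⟩
      · simpa using ⟨((hmem _).1 (hb i).1).1, (hb i).2⟩
    · revert hij
      refine Fin.cases ?_ (fun i => ?_) i <;> refine Fin.cases ?_ (fun j => ?_) j
      · exact fun h => absurd rfl h
      · intro _; simpa using ((hmem _).1 (hb j).1).2
      · intro _; simpa [polar_comm (⇑Q) (b i) v] using ((hmem _).1 (hb i).1).2
      · intro hij; simpa using hbo i j (fun e => hij (by rw [e]))
    · obtain ⟨a, ha⟩ := hbs _ (hproj x hx)
      refine ⟨Fin.cons (polar ⇑Q v x / polar ⇑Q v v) a, ?_⟩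
      rw [Fin.sum_univ_succ]
      simp only [Fin.cons_zero, Fin.cons_succ, ← ha]
      abel

theorem three_frame (hq : Fintype.card F = 3) {k : ℕ} (hk : k = 2 ∨ k = 3) {W : Submodule F V}
    (hW : Cfsg.Geo.IsNondegenerateOn (polar ⇑Q) W) (hdim : Module.finrank F W = k) :
    ∃ (c : F) (e₀ : V), c ≠ 0 ∧ e₀ ∈ W ∧ Q e₀ = c ∧
      ∀ v ∈ W, Q v = c → v = e₀ ∨ v = -e₀ ∨ polar ⇑Q e₀ v = 0 := by
  have h2 : (2 : F) ≠ 0 := two_or (by rw [hq]; decide)
  have h3 : (3 : F) = 0 := by exact_mod_cast cast_card 3 hq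
  have hcases : ∀ x y : F, x ≠ 0 → y ≠ 0 → x = y ∨ x = -y := fun x y hx hy => by
    rcases cases_three hq x with h | rfl | rfl
    · exact absurd h hx
    all_goals rcases cases_three hq y with h | rfl | rfl <;> first | exact absurd h hy | simp
  have hsq : ∀ x : F, x ≠ 0 → x * x = 1 := fun x hx => by
    rcases cases_three hq x with h | rfl | rfl
    · exact absurd h hx
    all_goals ring
  obtain ⟨b, hb, hbo, hbs⟩ := orth_basis h2 k W hdim hW
  -- conclusion once the coefficient at the distinguished vector is nonzero only for the trivial vectors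
  have fin : ∀ i0, (∀ a : Fin k → F, Q (∑ i, a i • b i) = Q (b i0) → a i0 ≠ 0 → ∀ j, j ≠ i0 → a j = 0) →
      ∃ (c : F) (e₀ : V), c ≠ 0 ∧ e₀ ∈ W ∧ Q e₀ = c ∧
        ∀ v ∈ W, Q v = c → v = e₀ ∨ v = -e₀ ∨ polar ⇑Q e₀ v = 0 := by
    intro i0 h
    refine ⟨Q (b i0), b i0, (hb i0).2, (hb i0).1, rfl, fun v hv hQv => ?_⟩
    obtain ⟨a, rfl⟩ := hbs v hv
    by_cases ha : a i0 = 0
    · right; right
      rw [← QuadraticMap.polarBilin_apply_apply, map_sum]
      refine Finset.sum_eq_zero fun j _ => ?_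
      rw [map_smul, QuadraticMap.polarBilin_apply_apply]
      by_cases hj : j = i0
      · subst hj; rw [ha, zero_smul]
      · rw [hbo i0 j (Ne.symm hj), smul_zero]
    · rw [Finset.sum_eq_single i0 (fun j _ hj => by rw [h a hQv ha j hj, zero_smul]) (by simp)]
      rcases cases_three hq (a i0) with h' | h' | h'
      · exact absurd h' ha
      · left; rw [h', one_smul]
      · right; left; rw [h', neg_one_smul]
  rcases hk with rfl | rfl
  · refine fin 0 fun a hQa ha j hj => ?_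
    rw [Fin.sum_univ_two, map_add', OrthChar.map_smul', OrthChar.map_smul', polar_smul_left, polar_smul_right,
      hbo 0 1 (by decide), hsq _ ha] at hQa
    have : a 1 * a 1 * Q (b 1) = 0 := by simpa using hQa
    have h1 : a 1 = 0 := by simpa [(hb 1).2] using this
    fin_cases j
    · exact absurd rfl hj
    · exact h1
  · have hQs : ∀ a : Fin 3 → F, Q (∑ i, a i • b i) =
        a 0 * a 0 * Q (b 0) + a 1 * a 1 * Q (b 1) + a 2 * a 2 * Q (b 2) := fun a => by
      rw [Fin.sum_univ_three, map_add', map_add', OrthChar.map_smul', OrthChar.map_smul', OrthChar.map_smul',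
        polar_add_left, polar_smul_left, polar_smul_left, polar_smul_left, polar_smul_right, polar_smul_right,
        polar_smul_right, hbo 0 1 (by decide), hbo 0 2 (by decide), hbo 1 2 (by decide)]
      simp
    obtain ⟨i0, i1, i2, h01, h02, h12, heq⟩ : ∃ i0 i1 i2 : Fin 3, i0 ≠ i1 ∧ i0 ≠ i2 ∧ i1 ≠ i2 ∧
        Q (b i1) = Q (b i2) := by
      rcases hcases _ _ (hb 0).2 (hb 1).2 with h | h
      · exact ⟨2, 0, 1, by decide, by decide, by decide, h⟩
      · rcases hcases _ _ (hb 0).2 (hb 2).2 with h' | h'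
        · exact ⟨1, 0, 2, by decide, by decide, by decide, h'⟩
        · exact ⟨0, 1, 2, by decide, by decide, by decide, neg_injective (h.symm.trans h')⟩
    refine fin i0 fun a hQa ha j hj => ?_
    have hex : a i0 * a i0 * Q (b i0) + a i1 * a i1 * Q (b i1) + a i2 * a i2 * Q (b i2) = Q (b i0) := by
      refine Eq.trans ?_ hQa
      rw [hQs a]
      fin_cases i0 <;> fin_cases i1 <;> fin_cases i2 <;> first
        | exact absurd rfl h01 | exact absurd rfl h02 | exact absurd rfl h12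
        | (simp only [Fin.isValue, Fin.zero_eta, Fin.mk_one, Fin.reduceFinMk]; done)
        | (simp only [Fin.isValue, Fin.zero_eta, Fin.mk_one, Fin.reduceFinMk]; ring)
    rw [hsq _ ha, heq] at hex
    have hsum : a i1 * a i1 + a i2 * a i2 = 0 := by
      have : (a i1 * a i1 + a i2 * a i2) * Q (b i2) = 0 := by linear_combination hex
      exact (mul_eq_zero.1 this).resolve_right (hb i2).2
    have hz : a i1 = 0 ∧ a i2 = 0 := by
      by_cases h1 : a i1 = 0
      · exact ⟨h1, by simpa [h1] using hsum⟩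
      · exfalso
        rw [hsq _ h1] at hsum
        by_cases h4 : a i2 = 0
        · simp [h4] at hsum
        · rw [hsq _ h4] at hsum; exact h2 (by linear_combination hsum)
    have : j = i1 ∨ j = i2 := by
      revert hj h01 h02 h12
      clear * -
      revert i0 i1 i2 j
      decide
    rcases this with rfl | rfl
    exacts [hz.1, hz.2]

theorem not_maximal_three (hQ : (QuadraticMap.polarBilin Q).Nondegenerate) (h13 : 13 ≤ Fintype.card ι)
    (hq : Fintype.card F = 3) {t k : ℕ} (hk : k = 2 ∨ k = 3) (D : Fin t → Submodule F V)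
    (hD : Cfsg.Geo.IsOrthogonalMDecomposition ⇑Q k D) :
    ∃ K : Subgroup (Matrix.GeneralLinearGroup ι F),
      Cfsg.Geo.decompositionStabilizer D ⊓ Cfsg.Geo.omegaGL ⇑Q < K ∧ K < Cfsg.Geo.omegaGL ⇑Q := by
  have ht : 4 ≤ t := by
    have := card_le hD
    rcases hk with rfl | rfl <;> omega
  obtain ⟨c, e₀, hc, he, hQe, hloc⟩ := three_frame hq hk (hD.decomp.nondegenerate ⟨0, by omega⟩)
    (hD.decomp.decomp.finrank_eq _)
  exact frame_case hQ (by omega) (two_or (by rw [hq]; decide)) hD ht (by omega) _ hc he hQe hloc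

theorem not_maximal_plane (hQ : (QuadraticMap.polarBilin Q).Nondegenerate) (h13 : 13 ≤ Fintype.card ι)
    (hq : Fintype.card F = 2 ∨ Fintype.card F = 4 ∨ Fintype.card F = 5) {t : ℕ} (D : Fin t → Submodule F V)
    (hD : Cfsg.Geo.IsOrthogonalMDecomposition ⇑Q 2 D) (hp : ∀ i, Cfsg.Geo.IsPlusTypeOn ⇑Q (D i)) :
    ∃ K : Subgroup (Matrix.GeneralLinearGroup ι F),
      Cfsg.Geo.decompositionStabilizer D ⊓ Cfsg.Geo.omegaGL ⇑Q < K ∧ K < Cfsg.Geo.omegaGL ⇑Q := by
  have ht : 4 ≤ t := by have := card_le hD; omega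
  let i₀ : Fin t := ⟨0, by omega⟩
  obtain ⟨s, r, hs, hr, hQs, hQr, hsr, hco⟩ := plus_plane (hD.decomp.nondegenerate i₀)
    (hD.decomp.decomp.finrank_eq i₀) (hp i₀)
  have hss : polar ⇑Q s s = 0 := by rw [polar_self', hQs, mul_zero]
  have hrr : polar ⇑Q r r = 0 := by rw [polar_self', hQr, mul_zero]
  have hQab : ∀ α β : F, Q (α • s + β • r) = α * β := fun α β => by
    rw [map_add', OrthChar.map_smul', OrthChar.map_smul', hQs, hQr, polar_smul_left, polar_smul_right, hsr]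
    simp
  have hBab : ∀ α β γ δ : F, polar ⇑Q (α • s + β • r) (γ • s + δ • r) = α * δ + β * γ := fun α β γ δ => by
    simp only [polar_add_left, polar_add_right, polar_smul_left, polar_smul_right, hss, hrr, hsr,
      polar_comm (⇑Q) r s, smul_eq_mul]
    ring
  have hw : s + r = (1 : F) • s + (1 : F) • r := by rw [one_smul, one_smul]
  have hpow : ∀ x : F, x ≠ 0 → x ^ (Fintype.card F - 1) = 1 := FiniteField.pow_card_sub_one_eq_one
  rcases hq with hq | hq | hq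
  · refine plane_case hQ (by omega) (by exact_mod_cast cast_card 2 hq) hD ht i₀ (add_mem hs hr) hs
      (by rw [hw, hQab, one_mul]) hQs (by rw [polar_add_left, hss, polar_comm, hsr]; simp) ?_
    intro v hv v' hv' h1 h1'
    obtain ⟨α, β, rfl⟩ := hco v hv
    obtain ⟨γ, δ, rfl⟩ := hco v' hv'
    rw [hQab] at h1 h1'
    have e : ∀ x y : F, x * y = 1 → x = 1 ∧ y = 1 := fun x y h => by
      have := hpow x (left_ne_zero_of_mul_eq_one h)
      rw [hq, pow_one] at this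
      exact ⟨this, by rwa [this, one_mul] at h⟩
    obtain ⟨rfl, rfl⟩ := e _ _ h1
    obtain ⟨rfl, rfl⟩ := e _ _ h1'
    exact Or.inl rfl
  · have h4 : (4 : F) = 0 := by exact_mod_cast cast_card 4 hq
    have h2 : (2 : F) = 0 := mul_self_eq_zero.1 (show (2 : F) * 2 = 0 by linear_combination h4)
    refine plane_case hQ (by omega) h2 hD ht i₀ (add_mem hs hr) hs
      (by rw [hw, hQab, one_mul]) hQs (by rw [polar_add_left, hss, polar_comm, hsr]; simp) ?_
    intro v hv v' hv' h1 h1'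
    obtain ⟨α, β, rfl⟩ := hco v hv
    obtain ⟨γ, δ, rfl⟩ := hco v' hv'
    rw [hQab] at h1 h1'
    obtain ⟨x, hx⟩ : ∃ x, x = α * δ := ⟨_, rfl⟩
    have hxy : x * (β * γ) = 1 := by rw [hx]; linear_combination h1 * (γ * δ) + h1'
    have hx3 : x ^ 3 = 1 := by
      have := hpow x (left_ne_zero_of_mul_eq_one hxy); rwa [hq] at this
    by_cases hx1 : x = 1
    · left
      have hxd : α * δ = 1 := hx.symm.trans hx1
      have hαγ : α = γ := by linear_combination γ * hxd - α * h1'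
      have hβδ : β = δ := by
        rw [← hαγ] at h1'
        exact mul_left_cancel₀ (left_ne_zero_of_mul_eq_one h1) (h1.trans h1'.symm)
      rw [hαγ, hβδ]
    · right
      rw [hBab, ← hx]
      have hq2 : x ^ 2 + x + 1 = 0 :=
        (mul_eq_zero.1 (show (x - 1) * (x ^ 2 + x + 1) = 0 by linear_combination hx3)).resolve_left
          (sub_ne_zero.2 hx1)
      have hinv : β * γ = x ^ 2 := by linear_combination (x ^ 2) * hxy - (β * γ) * hx3
      rw [hinv]
      linear_combination hq2 - h2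
  · have h2 : (2 : F) ≠ 0 := two_or (by rw [hq]; decide)
    refine frame_case hQ (by omega) h2 hD ht le_rfl i₀ one_ne_zero (add_mem hs hr) (by rw [hw, hQab, one_mul]) ?_
    intro v hv h1
    obtain ⟨α, β, rfl⟩ := hco v hv
    rw [hQab] at h1
    have h4 : α ^ 4 = 1 := by have := hpow α (left_ne_zero_of_mul_eq_one h1); rwa [hq] at this
    rcases mul_eq_zero.1 (show (α ^ 2 - 1) * (α ^ 2 + 1) = 0 by linear_combination h4) with h | h
    · rcases sq_eq_one_iff.1 (sub_eq_zero.1 h) with rfl | rfl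
      · left; rw [one_mul] at h1; rw [h1, hw]
      · right; left
        have : β = -1 := by linear_combination -h1
        rw [this]; module
    · right; right
      rw [hw, hBab]
      linear_combination β * h - α * h1

theorem not_maximal_four (hQ : (QuadraticMap.polarBilin Q).Nondegenerate) (h13 : 13 ≤ Fintype.card ι)
    (hq : Fintype.card F = 2) {t : ℕ} (D : Fin t → Submodule F V)
    (hD : Cfsg.Geo.IsOrthogonalMDecomposition ⇑Q 4 D) (hp : ∀ i, Cfsg.Geo.IsPlusTypeOn ⇑Q (D i)) :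
    ∃ K : Subgroup (Matrix.GeneralLinearGroup ι F),
      Cfsg.Geo.decompositionStabilizer D ⊓ Cfsg.Geo.omegaGL ⇑Q < K ∧ K < Cfsg.Geo.omegaGL ⇑Q := by
  have ht : 4 ≤ t := by have := card_le hD; omega
  have h2 : (2 : F) = 0 := by exact_mod_cast cast_card 2 hq
  let i₀ : Fin t := ⟨0, by omega⟩
  have hW := hD.decomp.nondegenerate i₀
  have hdim := hD.decomp.decomp.finrank_eq i₀
  obtain ⟨U, hU, hts, hd⟩ := hp i₀
  obtain ⟨l₁, hl₁, hl₁0⟩ := OrthRoot.exists_ne_zero U (by omega)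
  obtain ⟨m₁, hm₁, hQm₁, hlm₁⟩ := partner hW (hU hl₁) hl₁0 (hts l₁ hl₁)
  obtain ⟨u, hu, hu0⟩ := OrthRoot.exists_notMem_span U (by omega) l₁
  have hBU : ∀ x ∈ U, ∀ y ∈ U, polar ⇑Q x y = 0 := fun x hx y hy => by
    rw [QuadraticMap.polar, hts _ (add_mem hx hy), hts x hx, hts y hy]; simp
  have hll₁ := hBU l₁ hl₁ l₁ hl₁
  obtain ⟨l₂, hl₂⟩ : ∃ l₂, l₂ = u + (-polar ⇑Q m₁ u) • l₁ := ⟨_, rfl⟩
  have hl₂U : l₂ ∈ U := hl₂ ▸ add_mem hu (U.smul_mem _ hl₁)
  have hl₂0 : l₂ ≠ 0 := fun h => hu0 (polar ⇑Q m₁ u) (by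
    rwa [hl₂, neg_smul, add_neg_eq_zero] at h)
  have hm₁l₂ : polar ⇑Q m₁ l₂ = 0 := by
    rw [hl₂, polar_add_right, polar_smul_right, polar_comm (⇑Q) m₁ l₁, hlm₁]; simp
  obtain ⟨x, hx, hQx, hlx⟩ := partner hW (hU hl₂U) hl₂0 (hts _ hl₂U)
  obtain ⟨y, hy⟩ : ∃ y, y = x + (-polar ⇑Q m₁ x) • l₁ + (-polar ⇑Q l₁ x) • m₁ := ⟨_, rfl⟩
  have hyW : y ∈ D i₀ := hy ▸ add_mem (add_mem hx ((D i₀).smul_mem _ (hU hl₁))) ((D i₀).smul_mem _ hm₁)
  have hmm₁ : polar ⇑Q m₁ m₁ = 0 := by rw [polar_self', hQm₁, mul_zero]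
  have hl₂y : polar ⇑Q l₂ y = 1 := by
    rw [hy, polar_add_right, polar_add_right, polar_smul_right, polar_smul_right, hlx, hBU _ hl₂U _ hl₁,
      polar_comm (⇑Q) l₂ m₁, hm₁l₂]
    simp
  have hl₁y : polar ⇑Q l₁ y = 0 := by
    rw [hy, polar_add_right, polar_add_right, polar_smul_right, polar_smul_right, hll₁, hlm₁]; simp
  have hm₁y : polar ⇑Q m₁ y = 0 := by
    rw [hy, polar_add_right, polar_add_right, polar_smul_right, polar_smul_right, hmm₁,
      polar_comm (⇑Q) m₁ l₁, hlm₁]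
    simp
  obtain ⟨m₂, hm₂⟩ : ∃ m₂, m₂ = y + (-Q y) • l₂ := ⟨_, rfl⟩
  have hm₂W : m₂ ∈ D i₀ := hm₂ ▸ add_mem hyW ((D i₀).smul_mem _ (hU hl₂U))
  have hl₂₂ := hBU l₂ hl₂U l₂ hl₂U
  have hQm₂ : Q m₂ = 0 := by
    rw [hm₂, map_add', OrthChar.map_smul', hts _ hl₂U, polar_smul_right, smul_eq_mul, polar_comm, hl₂y]; ring
  have b1 : polar ⇑Q l₁ m₂ = 0 := by
    rw [hm₂, polar_add_right, polar_smul_right, hl₁y, hBU _ hl₁ _ hl₂U]; simp
  have b2 : polar ⇑Q m₁ m₂ = 0 := by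
    rw [hm₂, polar_add_right, polar_smul_right, hm₁y, hm₁l₂]; simp
  have b3 : polar ⇑Q l₂ m₂ = 1 := by
    rw [hm₂, polar_add_right, polar_smul_right, hl₂y, hl₂₂]; simp
  have b4 : polar ⇑Q m₂ m₂ = 0 := by rw [polar_self', hQm₂, mul_zero]
  have hpolar : ∀ (α β γ δ : F) (z : V), polar ⇑Q z (α • l₁ + β • m₁ + γ • l₂ + δ • m₂) =
      α * polar ⇑Q z l₁ + β * polar ⇑Q z m₁ + γ * polar ⇑Q z l₂ + δ * polar ⇑Q z m₂ := fun α β γ δ z => by
    simp only [polar_add_right, polar_smul_right, smul_eq_mul]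
  have hco : ∀ v ∈ D i₀, ∃ α β γ δ : F, v = α • l₁ + β • m₁ + γ • l₂ + δ • m₂ := by
    have hli : LinearIndependent F ![l₁, m₁, l₂, m₂] := by
      rw [Fintype.linearIndependent_iff]
      intro a ha
      have ha' : a 0 • l₁ + a 1 • m₁ + a 2 • l₂ + a 3 • m₂ = 0 := by simpa [Fin.sum_univ_four] using ha
      have e : ∀ z, a 0 * polar ⇑Q z l₁ + a 1 * polar ⇑Q z m₁ + a 2 * polar ⇑Q z l₂ + a 3 * polar ⇑Q z m₂ = 0 :=
        fun z => by rw [← hpolar, ha', polar_zero_right]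
      intro i
      fin_cases i
      · simpa [polar_comm (⇑Q) m₁ l₁, hlm₁, hmm₁, hm₁l₂, b2] using e m₁
      · simpa [hll₁, hlm₁, hBU _ hl₁ _ hl₂U, b1] using e l₁
      · simpa [polar_comm (⇑Q) m₂ l₁, polar_comm (⇑Q) m₂ m₁, polar_comm (⇑Q) m₂ l₂, b1, b2, b3, b4] using e m₂
      · simpa [hBU _ hl₂U _ hl₁, polar_comm (⇑Q) l₂ m₁, hm₁l₂, hl₂₂, b3] using e l₂
    have hsp : Submodule.span F (Set.range ![l₁, m₁, l₂, m₂]) = D i₀ := Submodule.eq_of_le_of_finrank_le
      (Submodule.span_le.2 (by rintro - ⟨i, rfl⟩; fin_cases i; exacts [hU hl₁, hm₁, hU hl₂U, hm₂W]))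
      (by rw [finrank_span_eq_card hli, hdim, Fintype.card_fin])
    intro v hv
    rw [← hsp, Submodule.mem_span_range_iff_exists_fun] at hv
    obtain ⟨a, rfl⟩ := hv
    exact ⟨a 0, a 1, a 2, a 3, by simp [Fin.sum_univ_four]⟩
  have hQc : ∀ α β γ δ : F, Q (α • l₁ + β • m₁ + γ • l₂ + δ • m₂) = α * β + γ * δ := fun α β γ δ => by
    simp only [map_add', OrthChar.map_smul', polar_add_left, polar_smul_left, polar_smul_right, smul_eq_mul,
      hts _ hl₁, hts _ hl₂U, hQm₁, hQm₂, hlm₁, hm₁l₂, hBU _ hl₁ _ hl₂U, b1, b2, b3]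
    ring
  have hBa : ∀ α β γ δ : F, polar ⇑Q (l₁ + m₁) (α • l₁ + β • m₁ + γ • l₂ + δ • m₂) = α + β :=
    fun α β γ δ => by
    rw [hpolar]
    simp only [polar_add_left, hll₁, hlm₁, hmm₁, polar_comm (⇑Q) m₁ l₁, hBU _ hl₁ _ hl₂U, hm₁l₂, b1, b2]
    ring
  have hBb : ∀ α β γ δ : F, polar ⇑Q (l₁ + l₂ + m₂) (α • l₁ + β • m₁ + γ • l₂ + δ • m₂) = β + γ + δ :=
    fun α β γ δ => by
    rw [hpolar]
    simp only [polar_add_left, hll₁, hlm₁, hBU _ hl₂U _ hl₁, hBU _ hl₁ _ hl₂U, polar_comm (⇑Q) l₂ m₁,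
      hm₁l₂, hl₂₂, polar_comm (⇑Q) m₂ l₁, polar_comm (⇑Q) m₂ m₁, polar_comm (⇑Q) m₂ l₂, b1, b2, b3, b4]
    ring
  have ea : l₁ + m₁ = (1 : F) • l₁ + (1 : F) • m₁ + (0 : F) • l₂ + (0 : F) • m₂ := by module
  have eb : l₁ + l₂ + m₂ = (1 : F) • l₁ + (0 : F) • m₁ + (1 : F) • l₂ + (1 : F) • m₂ := by module
  refine minus_pair_case hQ (by omega) h2 hD ht (by omega) i₀ (add_mem (hU hl₁) hm₁)
    (add_mem (add_mem (hU hl₁) (hU hl₂U)) hm₂W) (by rw [ea, hQc]; ring) (by rw [eb, hQc]; ring) ?_ ?_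
  · rw [eb, hBa]; simp
  intro v hv hQv
  obtain ⟨α, β, γ, δ, rfl⟩ := hco v hv
  rw [hQc] at hQv
  have e2 : ∀ x : F, x = 0 ∨ x = 1 := fun x => by
    by_cases h : x = 0
    · exact Or.inl h
    · exact Or.inr (by simpa [hq] using FiniteField.pow_card_sub_one_eq_one x h)
  have h11 : (1 : F) + 1 = 0 := by linear_combination h2
  rw [hBa, hBb]
  rcases e2 α with rfl | rfl <;> rcases e2 β with rfl | rfl <;> rcases e2 γ with rfl | rfl <;>
    rcases e2 δ with rfl | rfl <;> simp [h11] at hQv ⊢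
  all_goals
    right; right
    funext i
    simp only [Pi.add_apply]
    linear_combination -(l₁ i) * h2

end CfsgLib.Lie.OrthFrame
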