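import Cfsg.Agent.Lie.OrthFull

/-!
Maximality of the stabiliser of a non-degenerate subspace in the derived orthogonal group.
-/

set_option autoImplicit false
set_option linter.unusedSimpArgs false
set_option linter.unusedSectionVars false

namespace CfsgLib.Lie.OrthFullND

open Matrix QuadraticMap
open CfsgLib.Lie.Refl (act act_mul act_one act_inv act_inj act_Q act_polar act_ext)
open CfsgLib.Lie.OrthChar (R R_act map_add' polar_self')
open scoped commutatorElement
open CfsgLib.Lie.OrthRoot CfsgLib.Lie.OrthSimple CfsgLib.Lie.OrthFull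

variable {F : Type*} [Field F] [Fintype F] {ι : Type} [Fintype ι] [DecidableEq ι]
  {Q : QuadraticForm F (ι → F)}

/-- a non-degenerate subspace and its complement -/
structure Split (Q : QuadraticForm F (ι → F)) (X Y : Submodule F (ι → F)) : Prop where
  orth : ∀ x ∈ X, ∀ y ∈ Y, polar ⇑Q x y = 0
  memX : ∀ x, (∀ y ∈ Y, polar ⇑Q x y = 0) → x ∈ X
  memY : ∀ x, (∀ y ∈ X, polar ⇑Q x y = 0) → x ∈ Y
  dec : ∀ v, ∃ a ∈ X, ∃ b ∈ Y, v = a + b
  disj : ∀ x ∈ X, x ∈ Y → x = 0
  dim : Module.finrank F X + Module.finrank F Y = Fintype.card ι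

namespace Split

variable {X Y : Submodule F (ι → F)}

theorem swap (S : Split Q X Y) : Split Q Y X where
  orth x hx y hy := by rw [QuadraticMap.polar_comm]; exact S.orth y hy x hx
  memX := S.memY
  memY := S.memX
  dec v := by
    obtain ⟨a, ha, b, hb, h⟩ := S.dec v
    exact ⟨b, hb, a, ha, by rw [h, add_comm]⟩
  disj x hx hy := S.disj x hy hx
  dim := by rw [add_comm]; exact S.dim

theorem comp_orth (S : Split Q X Y) {a b x : ι → F} (hb : b ∈ Y) (hx : x ∈ X) :
    polar ⇑Q x (a + b) = polar ⇑Q x a := by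
  rw [QuadraticMap.polar_add_right, S.orth x hx b hb, add_zero]

theorem stab_swap (S : Split Q X Y) {g : Cfsg.isometryGroup F ⇑Q} (h : Stab X g) : Stab Y g := by
  refine stab_of_fwd fun y hy => S.memY _ fun x hx => ?_
  obtain ⟨z, rfl⟩ : ∃ z, act Q g z = x := ⟨act Q g⁻¹ x, act_inv' g x⟩
  rw [act_polar, QuadraticMap.polar_comm]
  exact S.orth z ((h z).2 hx) y hy

theorem stab_E_of_mem (S : Split Q X Y) {e a : ι → F} (heX : e ∈ X) (haX : a ∈ X) (he : Q e = 0)
    (ha : polar ⇑Q e a = 0) : Stab X (E Q e a) := stab_E he ha fun _ _ => Or.inr (Or.inl ⟨haX, heX⟩)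

theorem stab_E_of_mem' (S : Split Q X Y) {e a : ι → F} (heY : e ∈ Y) (haY : a ∈ Y) (he : Q e = 0)
    (ha : polar ⇑Q e a = 0) : Stab X (E Q e a) :=
  stab_E he ha fun x hx => Or.inl ⟨by rw [QuadraticMap.polar_comm]; exact S.orth x hx e heY,
    by rw [QuadraticMap.polar_comm]; exact S.orth x hx a haY⟩

end Split

variable {X Y : Submodule F (ι → F)}
variable (hQ : (QuadraticMap.polarBilin Q).Nondegenerate) (h5 : 5 ≤ Fintype.card ι)

include hQ in
/-- a vector of `X` orthogonal to a given one and pairing to one with another -/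
theorem rep (S : Split Q X Y) {a p : ι → F} (hp : p ∈ X) (hpa : ∀ t : F, p ≠ t • a) (ha : a ∈ X) :
    ∃ z ∈ X, polar ⇑Q a z = 0 ∧ polar ⇑Q p z = 1 := by
  have hp' : p ∉ Y ⊔ (F ∙ a) := by
    intro h
    obtain ⟨y, hy, z, hz, hyz⟩ := Submodule.mem_sup.1 h
    obtain ⟨t, rfl⟩ := Submodule.mem_span_singleton.1 hz
    have hyX : y ∈ X := by
      rw [show y = p - t • a by rw [← hyz, add_sub_cancel_right]]
      exact sub_mem hp (X.smul_mem t ha)
    exact hpa t (by rw [← hyz, S.disj y hyX hy, zero_add])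
  obtain ⟨z, hz, hpz⟩ := exists_rep_in hQ _ hp'
  exact ⟨z, S.memX z fun y hy => by rw [QuadraticMap.polar_comm]; exact hz y (Submodule.mem_sup_left hy),
    hz a (Submodule.mem_sup_right (Submodule.mem_span_singleton_self a)), hpz⟩

include hQ in
/-- a hyperbolic pair in `X` orthogonal to a vector -/
theorem hyp_in (S : Split Q X Y) (h7 : 7 ≤ Module.finrank F X) {a : ι → F} (ha : a ∈ X) :
    ∃ e f, e ∈ X ⊓ perp Q a ∧ f ∈ X ⊓ perp Q a ∧ Q e = 0 ∧ Q f = 0 ∧ polar ⇑Q e f = 1 := by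
  obtain ⟨z0, hz0⟩ : ∃ z0, a ≠ 0 → polar ⇑Q a z0 ≠ 0 := by
    by_cases h : a = 0
    · exact ⟨0, fun h' => absurd h h'⟩
    obtain ⟨z, hz⟩ : ∃ z, polar ⇑Q a z ≠ 0 := by
      by_contra hc; push Not at hc; exact h (hQ.1 a hc)
    exact ⟨z, fun _ => hz⟩
  have d1 := finrank_inf_perp (Q := Q) X a
  have d2 := finrank_inf_perp (Q := Q) (X ⊓ perp Q a) z0
  obtain ⟨e, ⟨⟨heX, hea⟩, hez⟩, he0, he⟩ := exists_singular (Q := Q) (X ⊓ perp Q a ⊓ perp Q z0) (by omega)
  rw [SetLike.mem_coe, mem_perp] at hea hez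
  have hind : ∀ t : F, e ≠ t • a := by
    intro t ht
    by_cases h : a = 0
    · exact he0 (by rw [ht, h, smul_zero])
    rw [ht, QuadraticMap.polar_smul_right, QuadraticMap.polar_comm (f := ⇑Q) z0 a, smul_eq_mul] at hez
    exact he0 (by rw [ht, (mul_eq_zero.1 hez).resolve_right (hz0 h), zero_smul])
  obtain ⟨z, hzX, haz, hezz⟩ := rep hQ S heX hind ha
  refine ⟨e, z - Q z • e, ⟨heX, mem_perp.2 hea⟩, ⟨sub_mem hzX (X.smul_mem _ heX), mem_perp.2 ?_⟩, he, ?_, ?_⟩
  · rw [sub_eq_add_neg, QuadraticMap.polar_add_right, QuadraticMap.polar_neg_right,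
      QuadraticMap.polar_smul_right, haz, hea]
    simp
  · rw [Quad.map_sub_smul, hezz, he]; ring
  · rw [sub_eq_add_neg, QuadraticMap.polar_add_right, QuadraticMap.polar_neg_right,
      QuadraticMap.polar_smul_right, hezz, QuadraticMap.polar_self, he]
    simp

include hQ in
theorem span_in (S : Split Q X Y) (h7 : 7 ≤ Module.finrank F X) {x : ι → F} (hx : x ∈ X) :
    x ∈ Submodule.span F {e : ι → F | e ∈ X ∧ Q e = 0} := by
  by_contra hna
  obtain ⟨φ, hφx, hφ⟩ := Submodule.exists_dual_map_eq_bot_of_notMem hna inferInstance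
  obtain ⟨e, f, he', hf', he, hf, hef⟩ := hyp_in hQ S h7 X.zero_mem
  obtain ⟨y, hy, hyQ, hy0⟩ := singular_sep X he'.1 hf'.1 he hf hef φ ⟨x, hx, hφx⟩
  have : φ y ∈ (Submodule.span F {e : ι → F | e ∈ X ∧ Q e = 0}).map φ :=
    Submodule.mem_map_of_mem (Submodule.subset_span ⟨hy, hyQ⟩)
  rw [hφ, Submodule.mem_bot] at this
  exact hy0 this

include hQ in
/-- the image of `X` is not inside `T`, seen on singular vectors -/
theorem propagate (S : Split Q X Y) (h7 : 7 ≤ Module.finrank F X) (m : Cfsg.isometryGroup F ⇑Q)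
    (T : Submodule F (ι → F))
    (h : ∀ e ∈ X, e ≠ 0 → Q e = 0 → act Q m e ∈ T → ∀ y ∈ X, polar ⇑Q e y = 0 → act Q m y ∈ T)
    {e : ι → F} (heX : e ∈ X) (he0 : e ≠ 0) (he : Q e = 0) (heT : act Q m e ∈ T) :
    ∀ x ∈ X, act Q m x ∈ T := by
  have hsing : ∀ e' ∈ X, Q e' = 0 → act Q m e' ∈ T := by
    intro e' he'X he'
    have d1 := finrank_inf_perp (Q := Q) X e
    have d2 := finrank_inf_perp (Q := Q) (X ⊓ perp Q e) e'
    obtain ⟨e'', ⟨⟨hX'', h1⟩, h2⟩, h0'', hQ''⟩ := exists_singular (Q := Q) (X ⊓ perp Q e ⊓ perp Q e') (by omega)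
    rw [SetLike.mem_coe, mem_perp] at h1 h2
    exact h e'' hX'' h0'' hQ'' (h e heX he0 he heT e'' hX'' h1) e' he'X (by rw [QuadraticMap.polar_comm]; exact h2)
  intro x hx
  have hle : Submodule.span F {e : ι → F | e ∈ X ∧ Q e = 0} ≤
      T.comap (Matrix.toLin' ((m : GL ι F) : Matrix ι ι F)) := by
    refine Submodule.span_le.2 fun y hy => ?_
    rw [SetLike.mem_coe, Submodule.mem_comap, Matrix.toLin'_apply]
    exact hsing y hy.1 hy.2
  have h1 := hle (span_in hQ S h7 hx)
  rwa [Submodule.mem_comap, Matrix.toLin'_apply] at h1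

variable (M : Subgroup (Cfsg.isometryGroup F ⇑Q))

include hQ h5 in
/-- a mixed root element -/
theorem mixed (S : Split Q X Y) (h7 : 7 ≤ Module.finrank F X)
    (hM : ∀ g ∈ Cfsg.Omega F ⇑Q, Stab X g → g ∈ M) {m : Cfsg.isometryGroup F ⇑Q} (hm : m ∈ M)
    (hmX : ¬ Stab X m) (hswap : ∀ g : Cfsg.isometryGroup F ⇑Q, ¬ ∀ x ∈ X, act Q g x ∈ Y) :
    ∃ e b, e ∈ X ∧ e ≠ 0 ∧ Q e = 0 ∧ b ∈ Y ∧ b ≠ 0 ∧ E Q e b ∈ M := by
  by_contra hG
  push Not at hG
  have inX : ∀ {u a : ι → F} (hu : Q u = 0) (ha : polar ⇑Q u a = 0), u ∈ X → a ∈ X → E Q u a ∈ M :=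
    fun hu ha huX haX => hM _ (E_omega hQ h5 hu ha) (S.stab_E_of_mem huX haX hu ha)
  have hmy : ∀ e ∈ X, Q e = 0 → ∀ y ∈ X, polar ⇑Q e y = 0 → E Q (act Q m e) (act Q m y) ∈ M := by
    intro e heX he y hyX hey
    rw [← E_conj m he hey]
    exact mul_mem (mul_mem hm (inX he hey heX hyX)) (inv_mem hm)
  -- splitting off the part in `X`
  have cut : ∀ {u a b : ι → F}, u ∈ X → Q u = 0 → u ≠ 0 → a ∈ X → b ∈ Y → polar ⇑Q u (a + b) = 0 →
      E Q u (a + b) ∈ M → b = 0 := by
    intro u a b huX hu hu0 ha hb hperp hE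
    by_contra hb0
    have hua : polar ⇑Q u a = 0 := by rwa [S.comp_orth hb huX] at hperp
    have hub := S.orth u huX b hb
    rw [E_add hu hua hub] at hE
    exact hG u b huX hu0 hu hb hb0 ((mul_mem_cancel_left (inX hu hua huX ha)).1 hE)
  -- no singular vector of `X` goes into `X`
  have hnoX : ∀ e ∈ X, e ≠ 0 → Q e = 0 → act Q m e ∉ X := by
    intro e heX he0 he hme
    refine hmX (stab_of_fwd (propagate hQ S h7 m X (fun e heX he0 he hme y hyX hey => ?_) heX he0 he hme))
    obtain ⟨a, ha, b, hb, hab⟩ := S.dec (act Q m y)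
    have hE := hmy e heX he y hyX hey
    rw [hab] at hE
    rw [hab, cut hme (by rw [act_Q, he]) (fun h => he0 (act_inj m (h.trans (by simp [act])))) ha hb
      (by rw [← hab, act_polar, hey]) hE, add_zero]
    exact ha
  -- the general step
  have step : ∀ e ∈ X, e ≠ 0 → Q e = 0 → ∀ a ∈ X, ∀ b ∈ Y, act Q m e = a + b → ∀ y ∈ X, polar ⇑Q e y = 0 →
      ∃ t : F, act Q m y - t • a ∈ Y := by
    intro e heX he0 he a ha b hb hab y hyX hey
    obtain ⟨a', ha', b', hb', hab'⟩ := S.dec (act Q m y)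
    by_cases hdep : ∃ t : F, a' = t • a
    · obtain ⟨t, rfl⟩ := hdep
      exact ⟨t, by rw [hab', add_sub_cancel_left]; exact hb'⟩
    exfalso
    push Not at hdep
    have hb0 : b ≠ 0 := fun h => hnoX e heX he0 he (by rw [hab, h, add_zero]; exact ha)
    obtain ⟨e1, f1, he1, hf1, he1Q, hf1Q, hef⟩ := hyp_in hQ S h7 ha
    obtain ⟨z, hzX, haz, hza⟩ := rep hQ S ha' hdep ha
    obtain ⟨g, ⟨hgX, hga⟩, hgQ, hgφ⟩ := singular_sep (X ⊓ perp Q a) he1 hf1 he1Q hf1Q hef
      (QuadraticMap.polarBilin Q a') ⟨z, ⟨hzX, mem_perp.2 haz⟩, by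
        rw [QuadraticMap.polarBilin_apply_apply, hza]; exact one_ne_zero⟩
    rw [SetLike.mem_coe, mem_perp] at hga
    rw [QuadraticMap.polarBilin_apply_apply] at hgφ
    have hg0 : g ≠ 0 := fun h => hgφ (by rw [h, QuadraticMap.polar_zero_right])
    obtain ⟨w, hw⟩ : ∃ w, polar ⇑Q g w ≠ 0 := by
      by_contra hc; push Not at hc; exact hg0 (hQ.1 g hc)
    have d1 := finrank_inf_perp (Q := Q) X a
    have d2 := finrank_inf_perp (Q := Q) (X ⊓ perp Q a) g
    have d3 := finrank_inf_perp (Q := Q) (X ⊓ perp Q a ⊓ perp Q g) w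
    obtain ⟨s, ⟨⟨⟨hsX, hsa⟩, hgs⟩, hsw⟩, hs0, hsQ⟩ :=
      exists_singular (Q := Q) (X ⊓ perp Q a ⊓ perp Q g ⊓ perp Q w) (by omega)
    rw [SetLike.mem_coe, mem_perp] at hsa hgs hsw
    have hk : E Q g s ∈ M := inX hgQ hgs hgX hsX
    obtain ⟨g', hg'⟩ : ∃ g', g' = polar ⇑Q g a' • s - polar ⇑Q s a' • g := ⟨_, rfl⟩
    have hg'0 : g' ≠ 0 := by
      intro h0
      rw [hg'] at h0
      have h1 := congrArg (fun v => polar ⇑Q w v) h0
      simp only [sub_eq_add_neg, ← neg_smul, QuadraticMap.polar_add_right, QuadraticMap.polar_smul_right, hsw,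
        QuadraticMap.polar_zero_right, smul_eq_mul, mul_zero, zero_add, neg_mul, neg_eq_zero, mul_eq_zero] at h1
      rw [h1.resolve_right (fun h => hw (by rw [QuadraticMap.polar_comm]; exact h)), zero_smul, sub_zero,
        smul_eq_zero] at h0
      rcases h0 with h0 | h0
      · exact hgφ (by rw [QuadraticMap.polar_comm]; exact h0)
      · exact hs0 h0
    have hg'X : g' ∈ X := hg' ▸ sub_mem (X.smul_mem _ hsX) (X.smul_mem _ hgX)
    have hg'Q : Q g' = 0 := by
      rw [hg', Quad.map_sub_smul, OrthChar.map_smul', hsQ, hgQ, QuadraticMap.polar_smul_right, hgs]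
      simp
    have hgab : polar ⇑Q g (a + b) = 0 := by
      rw [S.comp_orth hb hgX, QuadraticMap.polar_comm]; exact hga
    have hsab : polar ⇑Q s (a + b) = 0 := by
      rw [S.comp_orth hb hsX, QuadraticMap.polar_comm]; exact hsa
    have hfix : act Q (E Q g s) (a + b) = a + b := by
      rw [E_act hgQ hgs, hgab, hsab]; simp
    have hmov : act Q (E Q g s) (act Q m y) = act Q m y + g' := by
      rw [E_act hgQ hgs, hab', S.comp_orth hb' hgX, S.comp_orth hb' hsX, hsQ, hg']
      simp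
    have hab0 : Q (a + b) = 0 := by rw [← hab, act_Q, he]
    have hperp : polar ⇑Q (a + b) (act Q m y) = 0 := by rw [← hab, act_polar, hey]
    have hperp' : polar ⇑Q (a + b) g' = 0 := by
      have h1 := act_polar (E Q g s) (a + b) (act Q m y)
      rw [hfix, hmov, hperp, QuadraticMap.polar_add_right, hperp, zero_add] at h1
      exact h1
    have hE := hmy e heX he y hyX hey
    rw [hab] at hE
    have hE' : E Q (a + b) (act Q m y + g') ∈ M := by
      rw [← hmov]
      conv => arg 2; arg 2; rw [← hfix]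
      rw [← E_conj _ hab0 hperp]
      exact mul_mem (mul_mem hk hE) (inv_mem hk)
    rw [E_add hab0 hperp hperp'] at hE'
    have h2 := (mul_mem_cancel_left hE).1 hE'
    -- long root elements are antisymmetric
    have hanti : E Q (a + b) g' = E Q g' (-(a + b)) := by
      refine act_ext fun x => ?_
      rw [E_act hab0 hperp', E_act hg'Q (by rw [QuadraticMap.polar_neg_right, QuadraticMap.polar_comm, hperp',
        neg_zero]), QuadraticMap.map_neg, hg'Q, hab0, QuadraticMap.polar_neg_left]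
      match_scalars <;> ring
    rw [hanti, neg_add] at h2
    exact hb0 (neg_eq_zero.1 (cut hg'X hg'Q hg'0 (neg_mem ha) (neg_mem hb) (by
      rw [← neg_add, QuadraticMap.polar_neg_right, QuadraticMap.polar_comm, hperp', neg_zero]) h2))
  -- some singular vector of `X` goes into `Y`
  obtain ⟨e, f, he, -, heQ, hfQ, hef⟩ := hyp_in hQ S h7 X.zero_mem
  have he0 : e ≠ 0 := fun h => by rw [h, QuadraticMap.polar_zero_left] at hef; exact zero_ne_one hef
  obtain ⟨a, ha, b, hb, hab⟩ := S.dec (act Q m e)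
  obtain ⟨L, hL⟩ : ∃ L : Submodule F (ι → F), L = (X ⊓ perp Q e) ⊓
      Y.comap (Matrix.toLin' ((m : GL ι F) : Matrix ι ι F)) := ⟨_, rfl⟩
  have hL3 : 3 ≤ Module.finrank F L := by
    have d1 := finrank_inf_perp (Q := Q) X e
    have key : Module.finrank F (X ⊓ perp Q e : Submodule F (ι → F)) ≤ Module.finrank F L + 1 := by
      rcases eq_or_ne a 0 with ha0 | ha0
      · have hle : X ⊓ perp Q e ≤ L := by
          intro y hy
          obtain ⟨t, ht⟩ := step e he.1 he0 heQ a ha b hb hab y hy.1 (mem_perp.1 hy.2)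
          rw [hL]
          refine ⟨hy, ?_⟩
          rw [SetLike.mem_coe, Submodule.mem_comap, Matrix.toLin'_apply]
          rwa [ha0, smul_zero, sub_zero] at ht
        have := Submodule.finrank_mono hle
        omega
      obtain ⟨φ, hφa, hφ⟩ := Submodule.exists_dual_map_eq_bot_of_notMem (R := F) (p := Y) (x := a)
        (fun h => ha0 (S.disj a ha h)) inferInstance
      let K : (X ⊓ perp Q e : Submodule F (ι → F)) →ₗ[F] F :=
        φ ∘ₗ Matrix.toLin' ((m : GL ι F) : Matrix ι ι F) ∘ₗ (X ⊓ perp Q e : Submodule F (ι → F)).subtype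
      have h1 := LinearMap.finrank_range_add_finrank_ker K
      have h2 : Module.finrank F (LinearMap.range K) ≤ 1 := by
        have := Submodule.finrank_le (LinearMap.range K)
        rwa [Module.finrank_self] at this
      have h3 : (LinearMap.ker K).map (X ⊓ perp Q e : Submodule F (ι → F)).subtype ≤ L := by
        rintro _ ⟨⟨y, hy⟩, hyK, rfl⟩
        rw [SetLike.mem_coe, LinearMap.mem_ker] at hyK
        obtain ⟨t, ht⟩ := step e he.1 he0 heQ a ha b hb hab y hy.1 (mem_perp.1 hy.2)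
        have h4 : φ (act Q m y - t • a) ∈ Y.map φ := Submodule.mem_map_of_mem ht
        rw [hφ, Submodule.mem_bot, map_sub, map_smul, show φ (act Q m y) = 0 from hyK, zero_sub, neg_eq_zero,
          smul_eq_zero, or_iff_left hφa] at h4
        rw [h4, zero_smul, sub_zero] at ht
        rw [hL]
        refine ⟨hy, ?_⟩
        rw [SetLike.mem_coe, Submodule.mem_comap, Matrix.toLin'_apply]
        exact ht
      have h4 := Submodule.finrank_mono h3
      rw [Submodule.finrank_map_subtype_eq] at h4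
      omega
    omega
  obtain ⟨y, hyL, hy0, hyQ⟩ := exists_singular (Q := Q) L hL3
  rw [hL] at hyL
  obtain ⟨⟨hyX, -⟩, hyY⟩ := hyL
  rw [SetLike.mem_coe, Submodule.mem_comap, Matrix.toLin'_apply] at hyY
  refine hswap m (propagate hQ S h7 m Y (fun e heX he0 he hme x hxX hex => ?_) hyX hy0 hyQ hyY)
  obtain ⟨t, ht⟩ := step e heX he0 he 0 X.zero_mem _ hme (zero_add _).symm x hxX hex
  rwa [smul_zero, sub_zero] at ht

include hQ h5 in
/-- from one mixed root element to all -/
theorem pt_of_mixed (S : Split Q X Y) (h7 : 7 ≤ Module.finrank F X)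
    (hM : ∀ g ∈ Cfsg.Omega F ⇑Q, Stab X g → g ∈ M)
    (hex : ¬ (Fintype.card F ≤ 3 ∧ Module.finrank F Y = 2 ∧ ∃ y ∈ Y, y ≠ 0 ∧ Q y = 0))
    {e b : ι → F} (heX : e ∈ X) (he0 : e ≠ 0) (he : Q e = 0) (hb : b ∈ Y) (hb0 : b ≠ 0) (hE : E Q e b ∈ M) :
    Pt M e := by
  have hY : ∀ {y : ι → F}, y ∈ Y → polar ⇑Q e y = 0 := fun hy => S.orth e heX _ hy
  obtain ⟨T', hT'⟩ : ∃ T' : AddSubgroup (ι → F), ∀ y, y ∈ T' ↔ y ∈ Y ∧ E Q e y ∈ M := by
    refine ⟨{ carrier := {y | y ∈ Y ∧ E Q e y ∈ M}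
              zero_mem' := ⟨Y.zero_mem, by rw [E_zero he]; exact one_mem _⟩
              add_mem' := fun ha hb => ⟨Y.add_mem ha.1 hb.1, by
                rw [E_add he (hY ha.1) (hY hb.1)]; exact mul_mem ha.2 hb.2⟩
              neg_mem' := fun ha => ⟨Y.neg_mem ha.1, by rw [E_neg he (hY ha.1)]; exact inv_mem ha.2⟩ },
      fun y => Iff.rfl⟩
  -- invariance
  have hinv : ∀ k ∈ Cfsg.Omega F ⇑Q, Stab X k → act Q k e = e → ∀ y ∈ T', act Q k y ∈ T' := by
    intro k hk hks hke y hy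
    rw [hT'] at hy ⊢
    refine ⟨(S.stab_swap hks y).1 hy.1, ?_⟩
    have h1 : k * E Q e y * k⁻¹ ∈ M := mul_mem (mul_mem (hM k hk hks) hy.2) (inv_mem (hM k hk hks))
    rwa [E_conj k he (hY hy.1), hke] at h1
  obtain ⟨e1, f1, he1, hf1, he1Q, hf1Q, hef⟩ := hyp_in hQ S h7 heX
  have he1e := mem_perp.1 he1.2
  have hf1e := mem_perp.1 hf1.2
  -- a partner of `e`
  obtain ⟨z, hzX, -, hez⟩ := rep hQ S heX (a := 0) (fun t h => he0 (by rw [h, smul_zero])) X.zero_mem
  obtain ⟨f, hf⟩ : ∃ f, f = z - Q z • e := ⟨_, rfl⟩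
  have hfX : f ∈ X := hf ▸ sub_mem hzX (X.smul_mem _ heX)
  have hfQ : Q f = 0 := by rw [hf, Quad.map_sub_smul, hez, he]; ring
  have hef' : polar ⇑Q e f = 1 := by
    rw [hf, sub_eq_add_neg, QuadraticMap.polar_add_right, QuadraticMap.polar_neg_right,
      QuadraticMap.polar_smul_right, QuadraticMap.polar_self, he, hez]
    simp
  have hfe : polar ⇑Q f e = 1 := by rw [QuadraticMap.polar_comm, hef']
  have hQu : ∀ c : F, Q (e + c • f) = c := fun c => by
    rw [map_add', OrthChar.map_smul', he, hfQ, QuadraticMap.polar_smul_right, hef']; simp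
  have hRstab : ∀ u ∈ X, Q u ≠ 0 → Stab X (R Q u) := fun u hu huQ => stab_of_fwd fun x hx => by
    rw [R_act huQ]; exact sub_mem hx (X.smul_mem _ hu)
  have hRstab' : ∀ v ∈ Y, Q v ≠ 0 → Stab X (R Q v) := fun v hv hvQ => stab_of_fwd fun x hx => by
    rw [R_act hvQ, QuadraticMap.polar_comm, S.orth x hx v hv, mul_zero, zero_smul, sub_zero]; exact hx
  have hmulstab : ∀ {g h : Cfsg.isometryGroup F ⇑Q}, Stab X g → Stab X h → Stab X (g * h) :=
    fun hg hh x => by rw [act_mul]; exact (hh x).trans (hg _)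
  -- squares
  have hsq : ∀ c : F, ∀ y ∈ T', (c * c) • y ∈ T' := by
    intro c y hy
    rcases eq_or_ne c 0 with rfl | hc
    · rw [mul_zero, zero_smul]; exact zero_mem _
    have h1 : Q (e + (1 : F) • f) ≠ 0 := by rw [hQu]; exact one_ne_zero
    have h2 : Q (e + c • f) ≠ 0 := by rw [hQu]; exact hc
    have hu : ∀ c : F, e + c • f ∈ X := fun c => add_mem heX (X.smul_mem c hfX)
    obtain ⟨k, hk⟩ : ∃ k, k = R Q (e + (1 : F) • f) * R Q (e + c • f) := ⟨_, rfl⟩
    have hke : act Q k e = c • e := by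
      rw [hk, act_mul, R_act h2, hQu, R_act h1, hQu]
      simp only [sub_eq_add_neg, ← neg_smul, QuadraticMap.polar_add_left, QuadraticMap.polar_add_right,
        QuadraticMap.polar_smul_left, QuadraticMap.polar_smul_right, QuadraticMap.polar_self, he, hfQ, hfe,
        hef', smul_eq_mul]
      match_scalars <;> (field_simp <;> ring)
    have hkO : k * k ∈ Cfsg.Omega F ⇑Q := by
      rw [hk, show R Q (e + (1 : F) • f) * R Q (e + c • f) * (R Q (e + (1 : F) • f) * R Q (e + c • f)) =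
        ⁅R Q (e + (1 : F) • f), R Q (e + c • f)⁆ by
          rw [commutatorElement_def, OrthChar.R_inv h1, OrthChar.R_inv h2]; group]
      exact Subgroup.commutator_mem_commutator (Subgroup.mem_top _) (Subgroup.mem_top _)
    have hks : Stab X (k * k) := by
      have := hmulstab (hRstab _ (hu 1) h1) (hRstab _ (hu c) h2)
      rw [← hk] at this
      exact hmulstab this this
    rw [hT'] at hy ⊢
    refine ⟨Y.smul_mem _ hy.1, ?_⟩
    have hky : act Q (k * k) y = y := by
      have h3 : act Q k y = y := by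
        rw [hk, act_mul, R_act h2, S.orth _ (hu c) y hy.1, mul_zero, zero_smul, sub_zero, R_act h1,
          S.orth _ (hu 1) y hy.1, mul_zero, zero_smul, sub_zero]
      rw [act_mul, h3, h3]
    have h3 : k * k * E Q e y * (k * k)⁻¹ ∈ M :=
      mul_mem (mul_mem (hM _ hkO hks) hy.2) (inv_mem (hM _ hkO hks))
    rwa [E_conj _ he (hY hy.1), hky, act_mul, hke, act_smul, hke, smul_smul, E_smul he (hY hy.1)] at h3
  have hscal : ∀ c : F, ∀ y ∈ T', c • y ∈ T' := by
    intro c y hy
    by_cases h2 : (2 : F) = 0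
    · have := char_two_of h2
      obtain ⟨r, hr⟩ := Quad.char_two_sq (F := F) c
      rw [← hr]; exact hsq r y hy
    · rw [show c = (c + 1) / 2 * ((c + 1) / 2) - (c - 1) / 2 * ((c - 1) / 2) by field_simp; ring, sub_smul]
      exact sub_mem (hsq _ y hy) (hsq _ y hy)
  -- reflections
  have hrefl : ∀ v ∈ Y, Q v ≠ 0 → ∀ y ∈ T', v ∈ T' ∨ polar ⇑Q v y = 0 := by
    intro v hv hvQ y hy
    by_cases h0 : polar ⇑Q v y = 0
    · exact Or.inr h0
    left
    obtain ⟨u, hu⟩ : ∃ u, u = e1 + Q v • f1 := ⟨_, rfl⟩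
    have huX : u ∈ X := hu ▸ add_mem he1.1 (X.smul_mem _ hf1.1)
    have huQ : Q u = Q v := by
      rw [hu, map_add', OrthChar.map_smul', he1Q, hf1Q, QuadraticMap.polar_smul_right, hef]; simp
    have hue : polar ⇑Q u e = 0 := by
      rw [hu, QuadraticMap.polar_comm, QuadraticMap.polar_add_right, QuadraticMap.polar_smul_right, he1e, hf1e]
      simp
    have hkO : R Q u * R Q v ∈ Cfsg.Omega F ⇑Q := by
      rw [omega_eq hQ h5]; exact R_congr hQ h5 hvQ huQ
    have hyY := ((hT' y).1 hy).1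
    have h1 := hinv _ hkO (hmulstab (hRstab u huX (huQ.symm ▸ hvQ)) (hRstab' v hv hvQ))
      (by rw [act_mul, R_act hvQ, QuadraticMap.polar_comm, S.orth e heX v hv, mul_zero, zero_smul, sub_zero,
        R_act (huQ.symm ▸ hvQ), hue, mul_zero, zero_smul, sub_zero]) y hy
    rw [act_mul, R_act hvQ, R_act (huQ.symm ▸ hvQ), S.orth u huX _ (sub_mem hyY (Y.smul_mem _ hv)), mul_zero,
      zero_smul, sub_zero] at h1
    have h2 := hscal ((Q v)⁻¹ * polar ⇑Q v y)⁻¹ _ (sub_mem hy h1)
    rwa [sub_sub_cancel, smul_smul, inv_mul_cancel₀ (mul_ne_zero (inv_ne_zero hvQ) h0), one_smul] at h2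
  have hbT : b ∈ T' := (hT' b).2 ⟨hb, hE⟩
  -- everything
  suffices hall : ∀ y ∈ Y, y ∈ T' by
    refine ⟨he, fun a ha => ?_⟩
    obtain ⟨a1, ha1, a2, ha2, rfl⟩ := S.dec a
    have h1 : polar ⇑Q e a1 = 0 := by rwa [S.comp_orth ha2 heX] at ha
    rw [E_add he h1 (hY ha2)]
    exact mul_mem (hM _ (E_omega hQ h5 he h1) (S.stab_E_of_mem heX ha1 he h1)) ((hT' _).1 (hall a2 ha2)).2
  by_contra hne
  push Not at hne
  obtain ⟨Sm, hSm⟩ : ∃ Sm : Submodule F (ι → F), ∀ y, y ∈ Sm ↔ y ∈ T' :=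
    ⟨{ T' with smul_mem' := fun c y hy => hscal c y hy }, fun y => Iff.rfl⟩
  obtain ⟨y0, hy0, hy0T⟩ := hne
  have hpol : ∀ y ∈ Y, y ≠ 0 → ∃ x ∈ Y, polar ⇑Q y x ≠ 0 := by
    intro y hy h0
    by_contra hc
    push Not at hc
    refine h0 (hQ.1 y fun x => ?_)
    obtain ⟨a1, ha1, a2, ha2, rfl⟩ := S.dec x
    rw [QuadraticMap.polarBilin_apply_apply, QuadraticMap.polar_add_right, QuadraticMap.polar_comm,
      S.orth a1 ha1 y hy, hc a2 ha2, add_zero]
  -- the anisotropic vectors span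
  obtain ⟨N, hN⟩ : ∃ N : Submodule F (ι → F), N = Submodule.span F {v | v ∈ Y ∧ Q v ≠ 0} := ⟨_, rfl⟩
  have hNY : ∀ v ∈ Y, v ∈ N := by
    by_contra hc
    push Not at hc
    obtain ⟨v, hv, hvN⟩ := hc
    have hvQ : Q v = 0 := by
      by_contra h; exact hvN (hN ▸ Submodule.subset_span ⟨hv, h⟩)
    have hstep : ∀ h ∈ N, h ∈ Y → ∀ c : F, c ≠ 0 → c * polar ⇑Q v h + c * c * Q h = 0 := by
      intro h hh hhY c hc
      have h1 : Q (v + c • h) = 0 := by
        by_contra hne
        refine hvN ?_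
        rw [show v = v + c • h - c • h by abel]
        exact sub_mem (hN ▸ Submodule.subset_span ⟨add_mem hv (Y.smul_mem c hhY), hne⟩) (N.smul_mem c hh)
      rw [map_add', OrthChar.map_smul', hvQ, QuadraticMap.polar_smul_right, smul_eq_mul] at h1
      linear_combination h1
    have hlin : ∀ h ∈ N, h ∈ Y → Q h = -polar ⇑Q v h := fun h hh hhY => by
      linear_combination hstep h hh hhY 1 one_ne_zero
    obtain ⟨x, hxY, hvx⟩ := hpol v hv fun h0 => hvN (by rw [h0]; exact N.zero_mem)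
    have haniso : ∃ h ∈ N, h ∈ Y ∧ Q h ≠ 0 := by
      by_cases hxQ : Q x = 0
      · have h1 : Q (v + x) ≠ 0 := by rw [map_add', hvQ, hxQ]; simpa using hvx
        exact ⟨v + x, hN ▸ Submodule.subset_span ⟨add_mem hv hxY, h1⟩, add_mem hv hxY, h1⟩
      · exact ⟨x, hN ▸ Submodule.subset_span ⟨hxY, hxQ⟩, hxY, hxQ⟩
    obtain ⟨h, hhN, hhY, hhQ⟩ := haniso
    have htwo : ∀ c : F, c ≠ 0 → c = 1 := by
      intro c hc
      have h1 := hstep h hhN hhY c hc
      rw [hlin h hhN hhY] at h1 hhQ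
      have h2 : c * polar ⇑Q v h * (1 - c) = 0 := by linear_combination h1
      simp only [mul_eq_zero, hc, false_or, neg_ne_zero] at h2 hhQ
      rcases h2 with h2 | h2
      · exact absurd h2 (by simpa using hhQ)
      · linear_combination -h2
    have hcard : Fintype.card F ≤ 3 := by
      classical
      have : (Finset.univ : Finset F) ⊆ {0, 1} := fun c _ => by
        by_cases hc : c = 0 <;> simp [hc, htwo _]
      have := Finset.card_le_card this
      rw [Finset.card_univ] at this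
      exact this.trans (Finset.card_le_two.trans (by norm_num))
    have hNle : N ≤ Y := hN ▸ Submodule.span_le.2 fun y hy => hy.1
    -- a hyperplane on which the form is linear
    have hiso : ∀ a ∈ N, ∀ c ∈ N, polar ⇑Q a c = 0 := fun a ha c hc => by
      rw [QuadraticMap.polar, hlin _ (add_mem ha hc) (hNle (add_mem ha hc)), hlin a ha (hNle ha),
        hlin c hc (hNle hc), QuadraticMap.polar_add_right]
      ring
    have hdimN : Y ≤ N ⊔ (F ∙ v) := by
      intro y hy
      by_cases hyQ : Q y = 0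
      · by_cases hyv : Q (v + y) = 0
        · by_cases hyh : Q (h + y) = 0
          · -- then `y` is orthogonal to `v` and `y + h + v` is not singular
            have p1 : polar ⇑Q v y = 0 := by
              rw [map_add', hvQ, hyQ] at hyv; linear_combination hyv
            have p2 : polar ⇑Q h y = -Q h := by
              rw [map_add', hyQ] at hyh; linear_combination hyh
            have p3 : polar ⇑Q v h = -Q h := by
              rw [hlin h hhN hhY]; ring
            have hne : Q (h + y + v) ≠ 0 := by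
              rw [map_add', map_add', hyQ, hvQ, QuadraticMap.polar_add_left, p2,
                QuadraticMap.polar_comm (f := ⇑Q) h v, p3, QuadraticMap.polar_comm (f := ⇑Q) y v, p1]
              intro h0
              exact hhQ (by linear_combination -h0)
            rw [show y = (h + y + v - h) + (-1 : F) • v by module]
            exact add_mem (Submodule.mem_sup_left (sub_mem (hN ▸ Submodule.subset_span
              ⟨add_mem (add_mem hhY hy) hv, hne⟩) hhN))
              (Submodule.mem_sup_right (Submodule.smul_mem _ _ (Submodule.mem_span_singleton_self v)))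
          · rw [show y = h + y - h by abel]
            exact Submodule.mem_sup_left (sub_mem (hN ▸ Submodule.subset_span ⟨add_mem hhY hy, hyh⟩) hhN)
        · rw [show y = (v + y) + (-1 : F) • v by module]
          exact add_mem (Submodule.mem_sup_left (hN ▸ Submodule.subset_span ⟨add_mem hv hy, hyv⟩))
            (Submodule.mem_sup_right (Submodule.smul_mem _ _ (Submodule.mem_span_singleton_self v)))
      · exact Submodule.mem_sup_left (hN ▸ Submodule.subset_span ⟨hy, hyQ⟩)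
    refine hex ⟨hcard, ?_, v, hv, fun h0 => hvN (by rw [h0]; exact N.zero_mem), hvQ⟩
    -- `N` is totally isotropic of codimension one
    have h1 := Submodule.finrank_mono hdimN
    have h2 := Submodule.finrank_sup_add_finrank_inf_eq N (F ∙ v)
    have h3 : Module.finrank F (F ∙ v) ≤ 1 := by
      simpa using finrank_span_le_card (R := F) ({v} : Set (ι → F))
    have h4 : Module.finrank F N ≤ 1 := by
      by_contra hc
      obtain ⟨w, hw, hwh⟩ := exists_notMem_span N (by omega) h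
      obtain ⟨w', hw'⟩ : ∃ w', w' = w - (polar ⇑Q v w / polar ⇑Q v h) • h := ⟨_, rfl⟩
      have hvh : polar ⇑Q v h ≠ 0 := fun h0 => hhQ (by rw [hlin h hhN hhY, h0, neg_zero])
      have hw'N : w' ∈ N := hw' ▸ sub_mem hw (N.smul_mem _ hhN)
      have hvw' : polar ⇑Q v w' = 0 := by
        rw [hw', sub_eq_add_neg, ← neg_smul, QuadraticMap.polar_add_right, QuadraticMap.polar_smul_right,
          smul_eq_mul, neg_mul, div_mul_cancel₀ _ hvh, add_neg_cancel]
      obtain ⟨x', hx', hne'⟩ := hpol w' (hNle hw'N) (fun h0 => hwh _ (sub_eq_zero.1 (hw' ▸ h0)))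
      obtain ⟨n1, hn1, n2, hn2, rfl⟩ := Submodule.mem_sup.1 (hdimN hx')
      obtain ⟨t, rfl⟩ := Submodule.mem_span_singleton.1 hn2
      rw [QuadraticMap.polar_add_right, hiso w' hw'N n1 hn1, QuadraticMap.polar_smul_right,
        QuadraticMap.polar_comm (f := ⇑Q) w' v, hvw', smul_zero, add_zero] at hne'
      exact hne' rfl
    have h5' : 2 ≤ Module.finrank F Y := by
      by_contra hc
      obtain ⟨w, hw, hwv⟩ : ∃ w ∈ Y, ∀ t : F, w ≠ t • v := ⟨h, hhY, fun t ht => hhQ (by
        rw [ht, OrthChar.map_smul', hvQ, mul_zero])⟩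
      have hsub : Submodule.span F (Set.range ![v, w]) ≤ Y := by
        refine Submodule.span_le.2 ?_
        rintro _ ⟨i, rfl⟩
        fin_cases i
        · exact hv
        · exact hw
      have h6 := Submodule.finrank_mono hsub
      rw [finrank_span_eq_card (li_pair (fun h0 => hvN (by rw [h0]; exact N.zero_mem)) hwv), Fintype.card_fin] at h6
      omega
    omega
  -- two orthogonal parts
  have hdich : ∀ v ∈ Y, Q v ≠ 0 → v ∈ Sm ∨ ∀ s ∈ Sm, polar ⇑Q v s = 0 := by
    intro v hv hvQ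
    by_cases h : v ∈ Sm
    · exact Or.inl h
    · exact Or.inr fun s hs => (hrefl v hv hvQ s ((hSm s).1 hs)).resolve_left fun h' => h ((hSm v).2 h')
  have hSmY : Sm ≤ Y := fun s hs => ((hT' s).1 ((hSm s).1 hs)).1
  obtain ⟨Sp, hSp⟩ : ∃ Sp : Submodule F (ι → F), Sp = perpW Q Sm ⊓ Y := ⟨_, rfl⟩
  have hdec : ∀ y ∈ Y, ∃ s ∈ Sm, ∃ t ∈ Sp, y = s + t := by
    intro y hy
    have h1 : N ≤ Sm ⊔ Sp := by
      rw [hN]
      refine Submodule.span_le.2 fun v hv => ?_
      rcases hdich v hv.1 hv.2 with h | h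
      · exact Submodule.mem_sup_left h
      · refine Submodule.mem_sup_right ?_
        rw [hSp]
        exact ⟨fun s hs => by rw [QuadraticMap.polar_comm]; exact h s hs, hv.1⟩
    obtain ⟨s, hs, t, ht, hst⟩ := Submodule.mem_sup.1 (h1 (hNY y hy))
    exact ⟨s, hs, t, ht, hst.symm⟩
  have horth : ∀ s ∈ Sm, ∀ t ∈ Sp, polar ⇑Q s t = 0 := fun s hs t ht => by
    rw [hSp] at ht; exact ht.1 s hs
  have hSpY : Sp ≤ Y := hSp ▸ inf_le_right
  have hdisj : ∀ s ∈ Sm, s ∈ Sp → s = 0 := by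
    intro s hs hs'
    by_contra h0
    obtain ⟨x, hx, hsx⟩ := hpol s (hSmY hs) h0
    obtain ⟨s1, hs1, t1, ht1, rfl⟩ := hdec x hx
    exact hsx (by rw [QuadraticMap.polar_add_right, horth s hs t1 ht1,
      QuadraticMap.polar_comm, horth s1 hs1 s hs', add_zero])
  have hval : ∀ s ∈ Sm, s ≠ 0 → ∀ t ∈ Sp, t ≠ 0 → Q s + Q t = 0 := by
    intro s hs hs0 t ht ht0
    by_contra hne
    have hQst : Q (s + t) ≠ 0 := by rw [map_add', horth s hs t ht, add_zero]; exact hne
    rcases hdich _ (add_mem (hSmY hs) (hSpY ht)) hQst with h | h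
    · exact ht0 (hdisj t (by simpa using sub_mem h hs) ht)
    · have hmem : s + t ∈ Sp := by
        rw [hSp]
        exact ⟨fun x hx => by rw [QuadraticMap.polar_comm]; exact h x hx, add_mem (hSmY hs) (hSpY ht)⟩
      exact hs0 (hdisj s hs (by simpa using sub_mem hmem ht))
  obtain ⟨s0, hs0, hs00⟩ : ∃ s ∈ Sm, s ≠ 0 := ⟨b, (hSm b).2 hbT, hb0⟩
  obtain ⟨t0, ht0, ht00⟩ : ∃ t ∈ Sp, t ≠ 0 := by
    by_contra hc
    push Not at hc
    obtain ⟨s, hs, t, ht, hst⟩ := hdec y0 hy0
    exact hy0T ((hSm y0).1 (by rw [hst, hc t ht, add_zero]; exact hs))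
  obtain ⟨c, hc⟩ : ∃ c, c = Q s0 := ⟨_, rfl⟩
  have hcs : ∀ s ∈ Sm, s ≠ 0 → Q s = c := fun s hs h => by
    linear_combination hval s hs h t0 ht0 ht00 - hval s0 hs0 hs00 t0 ht0 ht00 - hc
  have hct : ∀ t ∈ Sp, t ≠ 0 → Q t = -c := fun t ht h => by
    linear_combination hval s0 hs0 hs00 t ht h + hc
  have hc0 : c ≠ 0 := by
    intro h0
    obtain ⟨x, hx, hsx⟩ := hpol s0 (hSmY hs0) hs00
    obtain ⟨s1, hs1, t1, ht1, rfl⟩ := hdec x hx
    refine hsx ?_
    have hz : ∀ s ∈ Sm, Q s = 0 := fun s hs => by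
      by_cases h : s = 0
      · rw [h, map_zero]
      · rw [hcs s hs h, h0]
    rw [QuadraticMap.polar_add_right, horth s0 hs0 t1 ht1, add_zero, QuadraticMap.polar,
      hz _ (add_mem hs0 hs1), hz _ hs0, hz _ hs1]
    simp
  have hsq1 : ∀ x : F, x ≠ 0 → x * x = 1 := by
    intro x hx
    have h1 := hcs _ (Sm.smul_mem x hs0) (smul_ne_zero hx hs00)
    rw [OrthChar.map_smul', hcs s0 hs0 hs00] at h1
    exact mul_right_cancel₀ hc0 (by linear_combination h1)
  have hcard : Fintype.card F ≤ 3 := by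
    classical
    have : (Finset.univ : Finset F) ⊆ {0, 1, -1} := fun x _ => by
      by_cases hx : x = 0
      · simp [hx]
      · have h1 : (x - 1) * (x + 1) = 0 := by linear_combination hsq1 x hx
        rcases mul_eq_zero.1 h1 with h | h
        · simp [sub_eq_zero.1 h]
        · simp [eq_neg_of_add_eq_zero_left h]
    have := Finset.card_le_card this
    rw [Finset.card_univ] at this
    exact this.trans Finset.card_le_three
  have hplane : ∀ (W' : Submodule F (ι → F)) (d : F), d ≠ 0 → (∀ s ∈ W', s ≠ 0 → Q s = d) →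
      ∀ s ∈ W', ∀ s' ∈ W', s ≠ 0 → (∀ t : F, s' ≠ t • s) → polar ⇑Q s s' = -d := by
    intro W' d hd hW' s hs s' hs' h0 hind
    have h1 : s' ≠ 0 := fun h => hind 0 (by rw [h, zero_smul])
    have h2 : s + s' ≠ 0 := fun h => hind (-1) (by rw [neg_one_smul, eq_neg_of_add_eq_zero_right h])
    have h3 := hW' _ (add_mem hs hs') h2
    rw [map_add', hW' s hs h0, hW' s' hs' h1] at h3
    linear_combination h3
  by_cases hbig : (∃ s ∈ Sm, ∀ x : F, s ≠ x • s0) ∨ ∃ t ∈ Sp, ∀ x : F, t ≠ x • t0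
  · -- a long root element inside `Y`
    have h20 : (2 : F) = 0 := by
      rcases hbig with ⟨s, hs, hind⟩ | ⟨t, ht, hind⟩
      · have p1 := hplane Sm c hc0 hcs s0 hs0 s hs hs00 hind
        have p2 := hplane Sm c hc0 hcs s0 hs0 (-s) (neg_mem hs) hs00 (fun x h => hind (-x) (by
          rw [neg_smul, ← h, neg_neg]))
        rw [QuadraticMap.polar_neg_right, p1] at p2
        exact (mul_eq_zero.1 (show (2 : F) * c = 0 by linear_combination p2)).resolve_right hc0
      · have p1 := hplane Sp (-c) (neg_ne_zero.2 hc0) hct t0 ht0 t ht ht00 hind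
        have p2 := hplane Sp (-c) (neg_ne_zero.2 hc0) hct t0 ht0 (-t) (neg_mem ht) ht00 (fun x h => hind (-x) (by
          rw [neg_smul, ← h, neg_neg]))
        rw [QuadraticMap.polar_neg_right, p1] at p2
        exact (mul_eq_zero.1 (show (2 : F) * c = 0 by linear_combination -p2)).resolve_right hc0
    have hnd : ∀ s ∈ Sm, s ≠ 0 → ∃ s' ∈ Sm, polar ⇑Q s s' ≠ 0 ∧ ∀ x : F, s' ≠ x • s := by
      intro s hs h0
      obtain ⟨x, hx, hsx⟩ := hpol s (hSmY hs) h0
      obtain ⟨s1, hs1, t1, ht1, rfl⟩ := hdec x hx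
      rw [QuadraticMap.polar_add_right, horth s hs t1 ht1, add_zero] at hsx
      refine ⟨s1, hs1, hsx, fun x h => hsx ?_⟩
      rw [h, QuadraticMap.polar_smul_right, polar_self', h20, zero_mul, smul_zero]
    obtain ⟨s1, hs1, hs01, hind1⟩ := hnd s0 hs0 hs00
    obtain ⟨t1, ht1, ht01, hind2⟩ : ∃ t1 ∈ Sp, polar ⇑Q t0 t1 ≠ 0 ∧ ∀ x : F, t1 ≠ x • t0 := by
      obtain ⟨x, hx, htx⟩ := hpol t0 (hSpY ht0) ht00
      obtain ⟨s2, hs2, t2, ht2, rfl⟩ := hdec x hx
      rw [QuadraticMap.polar_add_right, QuadraticMap.polar_comm, horth s2 hs2 t0 ht0, zero_add] at htx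
      refine ⟨t2, ht2, htx, fun x h => htx ?_⟩
      rw [h, QuadraticMap.polar_smul_right, polar_self', h20, zero_mul, smul_zero]
    have hs10 : s1 ≠ 0 := fun h => hind1 0 (by rw [h, zero_smul])
    have ht10 : t1 ≠ 0 := fun h => hind2 0 (by rw [h, zero_smul])
    have pS := hplane Sm c hc0 hcs s0 hs0 s1 hs1 hs00 hind1
    have pT := hplane Sp (-c) (neg_ne_zero.2 hc0) hct t0 ht0 t1 ht1 ht00 hind2
    obtain ⟨g, hg⟩ : ∃ g, g = s0 + t0 := ⟨_, rfl⟩
    obtain ⟨g', hg'⟩ : ∃ g', g' = s1 + t1 := ⟨_, rfl⟩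
    have hgY : g ∈ Y := hg ▸ add_mem (hSmY hs0) (hSpY ht0)
    have hg'Y : g' ∈ Y := hg' ▸ add_mem (hSmY hs1) (hSpY ht1)
    have hgQ : Q g = 0 := by rw [hg, map_add', horth s0 hs0 t0 ht0, hcs s0 hs0 hs00, hct t0 ht0 ht00]; ring
    have hg'Q : Q g' = 0 := by rw [hg', map_add', horth s1 hs1 t1 ht1, hcs s1 hs1 hs10, hct t1 ht1 ht10]; ring
    have hgg' : polar ⇑Q g g' = 0 := by
      rw [hg, hg', QuadraticMap.polar_add_left, QuadraticMap.polar_add_right, QuadraticMap.polar_add_right,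
        horth s0 hs0 t1 ht1, QuadraticMap.polar_comm (f := ⇑Q) t0 s1, horth s1 hs1 t0 ht0, pS, pT]
      ring
    have h1 := hinv _ (E_omega hQ h5 hgQ hgg') (S.stab_E_of_mem' hgY hg'Y hgQ hgg')
      (by rw [E_act hgQ hgg', QuadraticMap.polar_comm, hY hgY, QuadraticMap.polar_comm, hY hg'Y]; simp)
      s0 ((hSm s0).1 hs0)
    rw [E_act hgQ hgg', hg'Q] at h1
    have e1 : polar ⇑Q g s0 = 0 := by
      rw [hg, QuadraticMap.polar_add_left, polar_self', h20, QuadraticMap.polar_comm (f := ⇑Q) t0 s0,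
        horth s0 hs0 t0 ht0]
      simp
    have e2 : polar ⇑Q g' s0 = -c := by
      rw [hg', QuadraticMap.polar_add_left, QuadraticMap.polar_comm (f := ⇑Q) t1 s0, horth s0 hs0 t1 ht1,
        QuadraticMap.polar_comm, pS, add_zero]
    rw [e1, e2] at h1
    have h2 : c • g ∈ Sm := by
      have h3 := sub_mem ((hSm _).2 h1) hs0
      simpa [sub_eq_add_neg] using h3
    have h3 : g ∈ Sm := by simpa [smul_smul, inv_mul_cancel₀ hc0] using Sm.smul_mem c⁻¹ h2
    exact ht00 (hdisj t0 (by simpa [hg] using sub_mem h3 hs0) ht0)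
  · push Not at hbig
    refine hex ⟨hcard, ?_, s0 + t0, add_mem (hSmY hs0) (hSpY ht0), ?_, ?_⟩
    · have hsub : Y ≤ Submodule.span F (Set.range ![s0, t0]) := by
        intro y hy
        obtain ⟨s, hs, t, ht, rfl⟩ := hdec y hy
        obtain ⟨x, rfl⟩ := hbig.1 s hs
        obtain ⟨x', rfl⟩ := hbig.2 t ht
        exact add_mem (Submodule.smul_mem _ _ (Submodule.subset_span ⟨0, rfl⟩))
          (Submodule.smul_mem _ _ (Submodule.subset_span ⟨1, rfl⟩))
      have hsub' : Submodule.span F (Set.range ![s0, t0]) ≤ Y := by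
        refine Submodule.span_le.2 ?_
        rintro _ ⟨i, rfl⟩
        fin_cases i
        · exact hSmY hs0
        · exact hSpY ht0
      rw [le_antisymm hsub hsub', finrank_span_eq_card (li_pair hs00 fun x h => ht00
        (hdisj t0 (by rw [h]; exact Sm.smul_mem x hs0) ht0)), Fintype.card_fin]
    · exact fun h => hs00 (hdisj s0 hs0 (by rw [eq_neg_of_add_eq_zero_left h]; exact neg_mem ht0))
    · rw [map_add', horth s0 hs0 t0 ht0, hcs s0 hs0 hs00, hct t0 ht0 ht00]; ring

include hQ h5 in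
/-- the stabiliser of a non-degenerate subspace -/
theorem nd_full (S : Split Q X Y) (h7 : 7 ≤ Module.finrank F X)
    (hswap : ∀ g : Cfsg.isometryGroup F ⇑Q, ¬ ∀ x ∈ X, act Q g x ∈ Y)
    (hex : ¬ (Fintype.card F ≤ 3 ∧ Module.finrank F Y = 2 ∧ ∃ y ∈ Y, y ≠ 0 ∧ Q y = 0))
    (hM : ∀ g ∈ Cfsg.Omega F ⇑Q, Stab X g → g ∈ M) {m : Cfsg.isometryGroup F ⇑Q} (hm : m ∈ M)
    (hmX : ¬ Stab X m) : Cfsg.Omega F ⇑Q ≤ M := by
  obtain ⟨e, b, heX, he0, he, hb, hb0, hE⟩ := mixed hQ h5 M S h7 hM hm hmX hswap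
  have hP := pt_of_mixed hQ h5 M S h7 hM hex heX he0 he hb hb0 hE
  obtain ⟨z, hzX, -, hez⟩ := rep hQ S heX (a := 0) (fun t h => he0 (by rw [h, smul_zero])) X.zero_mem
  obtain ⟨f, hf⟩ : ∃ f, f = z - Q z • e := ⟨_, rfl⟩
  have hfX : f ∈ X := hf ▸ sub_mem hzX (X.smul_mem _ heX)
  have hfQ : Q f = 0 := by rw [hf, Quad.map_sub_smul, hez, he]; ring
  have hfe : polar ⇑Q f e = 1 := by
    rw [hf, sub_eq_add_neg, QuadraticMap.polar_add_left, QuadraticMap.polar_neg_left,
      QuadraticMap.polar_smul_left, QuadraticMap.polar_self, he, QuadraticMap.polar_comm, hez]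
    simp
  obtain ⟨e1, f1, he1, hf1, he1Q, hf1Q, hef⟩ := hyp_in hQ S h7 hfX
  obtain ⟨x, hx⟩ : ∃ x, x = e1 + f1 := ⟨_, rfl⟩
  have hxX : x ∈ X := hx ▸ add_mem he1.1 hf1.1
  have hfx : polar ⇑Q f x = 0 := by
    rw [hx, QuadraticMap.polar_add_right, mem_perp.1 he1.2, mem_perp.1 hf1.2, add_zero]
  have hxQ : Q x = 1 := by rw [hx, map_add', he1Q, hf1Q, hef]; simp
  refine full hQ h5 M hP (hP.move (hM _ (E_omega hQ h5 hfQ hfx) (S.stab_E_of_mem hfX hxX hfQ hfx))) ?_
  rw [E_act hfQ hfx, hfe, hxQ, QuadraticMap.polar_comm (f := ⇑Q) x e]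
  simp only [sub_eq_add_neg, ← neg_smul, QuadraticMap.polar_add_right, QuadraticMap.polar_smul_right,
    QuadraticMap.polar_self, he, QuadraticMap.polar_comm (f := ⇑Q) e f, hfe, smul_eq_mul, smul_zero, mul_one,
    one_mul, zero_add]
  intro h
  exact one_ne_zero (show (1 : F) = 0 by linear_combination -h)

/-- an isometric copy in the complement gives a totally singular subspace -/
theorem copy_ts (m : Cfsg.isometryGroup F ⇑Q) : ∀ (d : ℕ) (P : Submodule F (ι → F)), Even d →
    Module.finrank F P = d → (∀ x ∈ P, x ≠ 0 → ∃ y ∈ P, polar ⇑Q x y ≠ 0) →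
    (∀ x ∈ P, ∀ y ∈ P, polar ⇑Q x (act Q m y) = 0) →
    ∃ U : Submodule F (ι → F), U ≤ P ⊔ P.map (Matrix.toLin' ((m : GL ι F) : Matrix ι ι F)) ∧
      (∀ u ∈ U, Q u = 0) ∧ Module.finrank F U = d := by
  intro d
  induction d using Nat.strong_induction_on with
  | _ d ih =>
    intro P hd hP hnd hmP
    obtain ⟨L, hL⟩ : ∃ L, L = Matrix.toLin' ((m : GL ι F) : Matrix ι ι F) := ⟨_, rfl⟩
    rw [← hL]
    have hLx : ∀ x, L x = act Q m x := fun x => by rw [hL, Matrix.toLin'_apply]; rfl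
    have hcross : ∀ x ∈ P, ∀ y ∈ P, polar ⇑Q x (L y) = 0 := fun x hx y hy => by rw [hLx]; exact hmP x hx y hy
    by_cases h2 : (2 : F) = 0
    · refine ⟨P.map ((LinearMap.id : (ι → F) →ₗ[F] (ι → F)) + L), ?_, ?_, ?_⟩
      · rintro _ ⟨x, hx, rfl⟩
        exact add_mem (Submodule.mem_sup_left hx) (Submodule.mem_sup_right (Submodule.mem_map_of_mem hx))
      · rintro _ ⟨x, hx, rfl⟩
        rw [LinearMap.add_apply, LinearMap.id_apply, map_add', hcross x hx x hx, hLx, act_Q, add_zero, ← two_mul,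
          h2, zero_mul]
      · have hinj : Set.InjOn ((LinearMap.id : (ι → F) →ₗ[F] (ι → F)) + L) (P : Set (ι → F)) := by
          intro x hx y hy h
          by_contra hne
          obtain ⟨z, hz, hxz⟩ := hnd (x - y) (sub_mem hx hy) (sub_ne_zero.2 hne)
          refine hxz ?_
          have h0 : x - y + L (x - y) = 0 := by
            rw [map_sub]
            simp only [LinearMap.add_apply, LinearMap.id_apply] at h
            linear_combination (norm := module) h
          have h1 := congrArg (fun v => polar ⇑Q v z) h0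
          simp only [QuadraticMap.polar_add_left, QuadraticMap.polar_comm (f := ⇑Q) (L (x - y)) z,
            hcross z hz _ (sub_mem hx hy), add_zero, QuadraticMap.polar_zero_left] at h1
          exact h1
        rw [← hP]
        obtain ⟨G, hG⟩ : ∃ G, G = (LinearMap.id : (ι → F) →ₗ[F] (ι → F)) + L := ⟨_, rfl⟩
        rw [← hG] at hinj ⊢
        refine (LinearEquiv.ofBijective ((G.domRestrict P).codRestrict (P.map G)
          fun x => Submodule.mem_map_of_mem (f := G) x.2) ⟨fun x y h => ?_, ?_⟩).finrank_eq.symm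
        · exact Subtype.ext (hinj x.2 y.2 (congrArg Subtype.val h))
        · rintro ⟨_, x, hx, rfl⟩; exact ⟨⟨x, hx⟩, rfl⟩
    -- odd characteristic
    rcases Nat.eq_zero_or_pos d with rfl | hpos
    · exact ⟨⊥, bot_le, fun u hu => by rw [(Submodule.mem_bot F).1 hu, map_zero], finrank_bot F _⟩
    obtain ⟨k, hk⟩ := hd
    obtain ⟨a, ha, haQ⟩ : ∃ a ∈ P, Q a ≠ 0 := by
      by_contra hc
      push Not at hc
      obtain ⟨x, hx, hx0⟩ := exists_ne_zero P (by omega)
      obtain ⟨y, hy, hxy⟩ := hnd x hx hx0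
      exact hxy (by rw [QuadraticMap.polar, hc _ (add_mem hx hy), hc x hx, hc y hy]; simp)
    have haa : polar ⇑Q a a ≠ 0 := by rw [polar_self']; exact mul_ne_zero h2 haQ
    have hproj : ∀ y ∈ P, ∀ c : F, c = polar ⇑Q a y / polar ⇑Q a a →
        y - c • a ∈ P ⊓ perp Q a := fun y hy c hc => ⟨sub_mem hy (P.smul_mem c ha), mem_perp.2 (by
      rw [sub_eq_add_neg, ← neg_smul, QuadraticMap.polar_add_right, QuadraticMap.polar_smul_right, smul_eq_mul,
        neg_mul, hc, div_mul_cancel₀ _ haa, add_neg_cancel])⟩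
    have dP' := finrank_inf_perp (Q := Q) P a
    obtain ⟨b, ⟨hb, hab⟩, hbQ⟩ : ∃ b ∈ P ⊓ perp Q a, Q b ≠ 0 := by
      by_contra hc
      push Not at hc
      obtain ⟨z, hz, hz0⟩ := exists_ne_zero (P ⊓ perp Q a) (by omega)
      obtain ⟨y, hy, hzy⟩ := hnd z hz.1 hz0
      refine hzy ?_
      obtain ⟨c, hc'⟩ : ∃ c, c = polar ⇑Q a y / polar ⇑Q a a := ⟨_, rfl⟩
      have hy' := hproj y hy c hc'
      rw [show y = (y - c • a) + c • a by abel, QuadraticMap.polar_add_right, QuadraticMap.polar_smul_right,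
        QuadraticMap.polar_comm (f := ⇑Q) z a, mem_perp.1 hz.2, QuadraticMap.polar,
        hc _ (add_mem hz hy'), hc z hz, hc _ hy']
      simp
    rw [SetLike.mem_coe, mem_perp] at hab
    have hbb : polar ⇑Q b b ≠ 0 := by rw [polar_self']; exact mul_ne_zero h2 hbQ
    obtain ⟨P', hP'⟩ : ∃ P' : Submodule F (ι → F), P' = P ⊓ perp Q a ⊓ perp Q b := ⟨_, rfl⟩
    have hP'P : P' ≤ P := hP' ▸ inf_le_left.trans inf_le_left
    have hdecP : ∀ y ∈ P, ∃ s t : F, ∃ z ∈ P', y = s • a + t • b + z := by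
      intro y hy
      refine ⟨polar ⇑Q a y / polar ⇑Q a a, polar ⇑Q b y / polar ⇑Q b b, _, ?_, (add_sub_cancel _ y).symm⟩
      rw [hP']
      refine ⟨⟨sub_mem hy (add_mem (P.smul_mem _ ha) (P.smul_mem _ hb)), mem_perp.2 ?_⟩, mem_perp.2 ?_⟩ <;>
      · simp only [sub_eq_add_neg, QuadraticMap.polar_add_right, QuadraticMap.polar_neg_right,
          QuadraticMap.polar_smul_right, QuadraticMap.polar_comm (f := ⇑Q) b a, hab, smul_eq_mul, mul_zero,
          zero_add, add_zero]
        field_simp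
        ring
    have hperp' : ∀ z ∈ P', polar ⇑Q a z = 0 ∧ polar ⇑Q b z = 0 := fun z hz => by
      rw [hP'] at hz; exact ⟨mem_perp.1 hz.1.2, mem_perp.1 hz.2⟩
    have hdim : Module.finrank F P' + 2 = d := by
      have h3 : P' + (Submodule.span F (Set.range ![a, b])) = P := by
        rw [Submodule.add_eq_sup]
        refine le_antisymm (sup_le hP'P (Submodule.span_le.2 ?_)) fun y hy => ?_
        · rintro _ ⟨i, rfl⟩
          fin_cases i
          · exact ha
          · exact hb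
        · obtain ⟨s, t, z, hz, rfl⟩ := hdecP y hy
          exact add_mem (Submodule.mem_sup_right (add_mem (Submodule.smul_mem _ _ (Submodule.subset_span ⟨0, rfl⟩))
            (Submodule.smul_mem _ _ (Submodule.subset_span ⟨1, rfl⟩)))) (Submodule.mem_sup_left hz)
      rw [Submodule.add_eq_sup] at h3
      have h4 := Submodule.finrank_sup_add_finrank_inf_eq P' (Submodule.span F (Set.range ![a, b]))
      have h5' : P' ⊓ Submodule.span F (Set.range ![a, b]) = ⊥ := by
        refine (Submodule.eq_bot_iff _).2 fun z hz => ?_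
        obtain ⟨co, hco⟩ := (Submodule.mem_span_range_iff_exists_fun F).1 hz.2
        simp only [Fin.sum_univ_two, Matrix.cons_val_zero, Matrix.cons_val_one] at hco
        obtain ⟨z1, z2⟩ := hperp' z hz.1
        rw [← hco] at z1 z2 ⊢
        rw [QuadraticMap.polar_add_right, QuadraticMap.polar_smul_right, QuadraticMap.polar_smul_right, hab,
          smul_zero, add_zero, smul_eq_mul, mul_eq_zero, or_iff_left haa] at z1
        rw [QuadraticMap.polar_add_right, QuadraticMap.polar_smul_right, QuadraticMap.polar_smul_right,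
          QuadraticMap.polar_comm (f := ⇑Q) b a, hab, smul_zero, zero_add, smul_eq_mul, mul_eq_zero,
          or_iff_left hbb] at z2
        rw [z1, z2, zero_smul, zero_smul, add_zero]
      have h6 : Module.finrank F (Submodule.span F (Set.range ![a, b])) = 2 := by
        rw [finrank_span_eq_card (li_pair (fun h => haQ (by rw [h, map_zero])) fun t ht => hbQ (by
          rw [ht, QuadraticMap.polar_smul_right, smul_eq_mul, mul_eq_zero, or_iff_left haa] at hab
          rw [ht, hab, zero_smul, map_zero])), Fintype.card_fin]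
      rw [h3, h5', finrank_bot, hP, h6] at h4
      omega
    obtain ⟨U', hU'P, hU'Q, hU'd⟩ := ih (Module.finrank F P') (by omega) P' ⟨k - 1, by omega⟩ rfl
      (fun x hx h0 => by
        obtain ⟨y, hy, hxy⟩ := hnd x (hP'P hx) h0
        obtain ⟨s, t, z, hz, rfl⟩ := hdecP y hy
        refine ⟨z, hz, fun h => hxy ?_⟩
        rw [QuadraticMap.polar_add_right, QuadraticMap.polar_add_right, QuadraticMap.polar_smul_right,
          QuadraticMap.polar_smul_right, QuadraticMap.polar_comm (f := ⇑Q) x a, (hperp' x hx).1,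
          QuadraticMap.polar_comm (f := ⇑Q) x b, (hperp' x hx).2, h]
        simp)
      (fun x hx y hy => hmP x (hP'P hx) y (hP'P hy))
    rw [← hL] at hU'P
    obtain ⟨p, r, hpr⟩ := OrthChar.exists_binary h2 one_ne_zero (div_ne_zero hbQ haQ) (-1)
    have hpr' : Q a + (p * p * Q a + r * r * Q b) = 0 := by
      field_simp at hpr
      linear_combination hpr
    obtain ⟨v, hv⟩ : ∃ v, v = a + p • L a + r • L b := ⟨_, rfl⟩
    obtain ⟨w, hw⟩ : ∃ w, w = b + (Q b / Q a * r) • L a + (-p) • L b := ⟨_, rfl⟩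
    have hLL : ∀ x y, polar ⇑Q (L x) (L y) = polar ⇑Q x y := fun x y => by rw [hLx, hLx, act_polar]
    have hLQ : ∀ x, Q (L x) = Q x := fun x => by rw [hLx, act_Q]
    have hvQ : Q v = 0 := by
      rw [hv, map_add', map_add', OrthChar.map_smul', OrthChar.map_smul', hLQ, hLQ,
        QuadraticMap.polar_add_left, QuadraticMap.polar_smul_right, QuadraticMap.polar_smul_right,
        QuadraticMap.polar_smul_left, QuadraticMap.polar_smul_right, hcross a ha a ha, hcross a ha b hb, hLL, hab]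
      simp only [smul_zero, add_zero, mul_zero]
      linear_combination hpr'
    have hwQ : Q w = 0 := by
      rw [hw, map_add', map_add', OrthChar.map_smul', OrthChar.map_smul', hLQ, hLQ,
        QuadraticMap.polar_add_left, QuadraticMap.polar_smul_right, QuadraticMap.polar_smul_right,
        QuadraticMap.polar_smul_left, QuadraticMap.polar_smul_right, hcross b hb a ha, hcross b hb b hb, hLL, hab]
      simp only [smul_zero, add_zero, mul_zero]
      field_simp
      linear_combination Q b * hpr'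
    have hvw : polar ⇑Q v w = 0 := by
      rw [hv, hw]
      simp only [QuadraticMap.polar_add_left, QuadraticMap.polar_add_right, QuadraticMap.polar_smul_left,
        QuadraticMap.polar_smul_right, hLL, QuadraticMap.polar_comm (f := ⇑Q) (L a) b,
        QuadraticMap.polar_comm (f := ⇑Q) (L b) b, hcross a ha a ha, hcross a ha b hb, hcross b hb a ha,
        hcross b hb b hb, hab, QuadraticMap.polar_comm (f := ⇑Q) b a, polar_self', smul_eq_mul]
      field_simp
      ring
    have hzero : ∀ u ∈ U', polar ⇑Q v u = 0 ∧ polar ⇑Q w u = 0 := by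
      intro u hu
      obtain ⟨z1, hz1, z2, hz2, rfl⟩ := Submodule.mem_sup.1 (hU'P hu)
      obtain ⟨z3, hz3, rfl⟩ := hz2
      have q1 := hperp' z1 hz1
      have q3 := hperp' z3 hz3
      rw [hv, hw]
      simp only [QuadraticMap.polar_add_left, QuadraticMap.polar_add_right, QuadraticMap.polar_smul_left,
        hLL, hcross a ha z3 (hP'P hz3), hcross b hb z3 (hP'P hz3), QuadraticMap.polar_comm (f := ⇑Q) (L a) z1,
        QuadraticMap.polar_comm (f := ⇑Q) (L b) z1, hcross z1 (hP'P hz1) a ha, hcross z1 (hP'P hz1) b hb,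
        q1.1, q1.2, q3.1, q3.2]
      simp
    refine ⟨U' ⊔ Submodule.span F (Set.range ![v, w]), ?_, ?_, ?_⟩
    · refine sup_le (hU'P.trans (sup_le_sup hP'P (Submodule.map_mono hP'P))) (Submodule.span_le.2 ?_)
      have hLm : ∀ {x}, x ∈ P → ∀ c : F, c • L x ∈ P ⊔ P.map L := fun hx c =>
        Submodule.mem_sup_right (Submodule.smul_mem _ c (Submodule.mem_map_of_mem hx))
      rintro _ ⟨i, rfl⟩
      fin_cases i
      · simp only [Fin.zero_eta, Matrix.cons_val_zero, SetLike.mem_coe, hv]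
        exact add_mem (add_mem (Submodule.mem_sup_left ha) (hLm ha _)) (hLm hb _)
      · simp only [Fin.mk_one, Matrix.cons_val_one, Matrix.cons_val_zero, SetLike.mem_coe, hw]
        exact add_mem (add_mem (Submodule.mem_sup_left hb) (hLm ha _)) (hLm hb _)
    · intro u hu
      obtain ⟨u', hu', x, hx, rfl⟩ := Submodule.mem_sup.1 hu
      obtain ⟨co, rfl⟩ := (Submodule.mem_span_range_iff_exists_fun F).1 hx
      simp only [Fin.sum_univ_two, Matrix.cons_val_zero, Matrix.cons_val_one]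
      rw [map_add', map_add', OrthChar.map_smul', OrthChar.map_smul', hU'Q u' hu', hvQ, hwQ,
        QuadraticMap.polar_add_right, QuadraticMap.polar_smul_left, QuadraticMap.polar_smul_right,
        QuadraticMap.polar_smul_right, QuadraticMap.polar_smul_right, hvw,
        QuadraticMap.polar_comm (f := ⇑Q) u' v, (hzero u' hu').1, QuadraticMap.polar_comm (f := ⇑Q) u' w,
        (hzero u' hu').2]
      simp
    · have h4 := Submodule.finrank_sup_add_finrank_inf_eq U' (Submodule.span F (Set.range ![v, w]))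
      have hva : polar ⇑Q a v = polar ⇑Q a a := by
        rw [hv, QuadraticMap.polar_add_right, QuadraticMap.polar_add_right, QuadraticMap.polar_smul_right,
          QuadraticMap.polar_smul_right, hcross a ha a ha, hcross a ha b hb]
        simp
      have hvb : polar ⇑Q b v = 0 := by
        rw [hv, QuadraticMap.polar_add_right, QuadraticMap.polar_add_right, QuadraticMap.polar_smul_right,
          QuadraticMap.polar_smul_right, hcross b hb a ha, hcross b hb b hb, QuadraticMap.polar_comm, hab]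
        simp
      have hwa : polar ⇑Q a w = 0 := by
        rw [hw, QuadraticMap.polar_add_right, QuadraticMap.polar_add_right, QuadraticMap.polar_smul_right,
          QuadraticMap.polar_smul_right, hcross a ha a ha, hcross a ha b hb, hab]
        simp
      have hwb : polar ⇑Q b w = polar ⇑Q b b := by
        rw [hw, QuadraticMap.polar_add_right, QuadraticMap.polar_add_right, QuadraticMap.polar_smul_right,
          QuadraticMap.polar_smul_right, hcross b hb a ha, hcross b hb b hb]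
        simp
      have hUab : ∀ u ∈ U', polar ⇑Q a u = 0 ∧ polar ⇑Q b u = 0 := by
        intro u hu
        obtain ⟨z1, hz1, z2, hz2, rfl⟩ := Submodule.mem_sup.1 (hU'P hu)
        obtain ⟨z3, hz3, rfl⟩ := hz2
        rw [QuadraticMap.polar_add_right, QuadraticMap.polar_add_right, (hperp' z1 hz1).1, (hperp' z1 hz1).2,
          hcross a ha z3 (hP'P hz3), hcross b hb z3 (hP'P hz3)]
        simp
      have h5' : U' ⊓ Submodule.span F (Set.range ![v, w]) = ⊥ := by
        refine (Submodule.eq_bot_iff _).2 fun z hz => ?_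
        obtain ⟨co, hco⟩ := (Submodule.mem_span_range_iff_exists_fun F).1 hz.2
        simp only [Fin.sum_univ_two, Matrix.cons_val_zero, Matrix.cons_val_one] at hco
        obtain ⟨z1, z2⟩ := hUab z hz.1
        rw [← hco] at z1 z2 ⊢
        rw [QuadraticMap.polar_add_right, QuadraticMap.polar_smul_right, QuadraticMap.polar_smul_right, hva, hwa,
          smul_zero, add_zero, smul_eq_mul, mul_eq_zero, or_iff_left haa] at z1
        rw [QuadraticMap.polar_add_right, QuadraticMap.polar_smul_right, QuadraticMap.polar_smul_right, hvb, hwb,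
          smul_zero, zero_add, smul_eq_mul, mul_eq_zero, or_iff_left hbb] at z2
        rw [z1, z2, zero_smul, zero_smul, add_zero]
      have h6 : Module.finrank F (Submodule.span F (Set.range ![v, w])) = 2 := by
        rw [finrank_span_eq_card (li_pair (fun h => haa (by rw [← hva, h, QuadraticMap.polar_zero_right]))
          fun t ht => hbb (by rw [← hwb, ht, QuadraticMap.polar_smul_right, hvb, smul_zero])), Fintype.card_fin]
      rw [h5', finrank_bot, hU'd, h6] at h4
      omega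

include hQ h5 in
theorem nd_maximal' (W : Submodule F (ι → F)) (hn : 13 ≤ Fintype.card ι)
    (hW0 : W ≠ ⊥) (hW1 : W ≠ ⊤) (hW : Cfsg.Geo.IsNondegenerateOn (polar ⇑Q) W)
    (hsw : 2 * Module.finrank F W ≠ Fintype.card ι ∨
      ∀ g : Cfsg.isometryGroup F ⇑Q, ¬ ∀ x ∈ W, act Q g x ∈ perpW Q W)
    (hex : ∀ U : Submodule F (ι → F), (U = W ∨ U = perpW Q W) →
      ¬ (Fintype.card F ≤ 3 ∧ Module.finrank F U = 2 ∧ ∃ y ∈ U, y ≠ 0 ∧ Q y = 0)) :
    Cfsg.Geo.IsMaximalIn (Cfsg.Geo.omegaGL ⇑Q) (Cfsg.Geo.subspaceStabilizer W ⊓ Cfsg.Geo.omegaGL ⇑Q) := by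
  obtain ⟨U, hU⟩ : ∃ U, U = perpW Q W := ⟨_, rfl⟩
  have hdim : Module.finrank F U + Module.finrank F W = Fintype.card ι := hU ▸ finrank_perpW hQ W
  have hdisj : W ⊓ U = ⊥ := by
    refine (Submodule.eq_bot_iff _).2 fun x hx => ?_
    by_contra h0
    obtain ⟨⟨y, hy, hxy⟩, -⟩ := hW x hx.1 h0
    exact hxy ((hU ▸ hx.2 : x ∈ perpW Q W) y hy)
  have hsup : W ⊔ U = ⊤ := by
    refine Submodule.eq_top_of_finrank_eq ?_
    have h := Submodule.finrank_sup_add_finrank_inf_eq W U
    rw [hdisj, finrank_bot] at h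
    rw [Module.finrank_fintype_fun_eq_card]
    omega
  have S : Split Q W U := by
    refine ⟨fun x hx y hy => (hU ▸ hy : y ∈ perpW Q W) x hx, fun x hx => ?_, fun x hx => ?_, fun v => ?_,
      fun x hx hx' => (Submodule.eq_bot_iff _).1 hdisj x ⟨hx, hx'⟩, by omega⟩
    · have hle : W ≤ perpW Q U := fun w hw u hu => by
        rw [QuadraticMap.polar_comm]; exact (hU ▸ hu : u ∈ perpW Q W) w hw
      have h := finrank_perpW hQ U
      rw [Submodule.eq_of_le_of_finrank_le hle (by omega)]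
      exact fun u hu => by rw [QuadraticMap.polar_comm]; exact hx u hu
    · rw [hU]; exact fun w hw => by rw [QuadraticMap.polar_comm]; exact hx w hw
    · obtain ⟨a, ha, b, hb, h⟩ := Submodule.mem_sup.1 (hsup ▸ Submodule.mem_top : v ∈ W ⊔ U)
      exact ⟨a, ha, b, hb, h.symm⟩
  have hnd : ∀ x ∈ W, x ≠ 0 → ∃ y ∈ W, polar ⇑Q x y ≠ 0 := fun x hx h0 => by
    obtain ⟨-, y, hy, h⟩ := hW x hx h0
    exact ⟨y, hy, h⟩
  have hnd' : ∀ x ∈ U, x ≠ 0 → ∃ y ∈ U, polar ⇑Q x y ≠ 0 := by
    intro x hx h0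
    by_contra hc
    push Not at hc
    refine h0 (hQ.1 x fun z => ?_)
    obtain ⟨a, ha, b, hb, rfl⟩ := S.dec z
    rw [QuadraticMap.polarBilin_apply_apply, QuadraticMap.polar_add_right, QuadraticMap.polar_comm,
      S.orth a ha x hx, hc b hb, add_zero]
  have key : ∀ X Y : Submodule F (ι → F), Split Q X Y → Module.finrank F Y ≤ Module.finrank F X →
      (∀ x ∈ X, x ≠ 0 → ∃ y ∈ X, polar ⇑Q x y ≠ 0) →
      (2 * Module.finrank F X ≠ Fintype.card ι ∨ ∀ g : Cfsg.isometryGroup F ⇑Q, ¬ ∀ x ∈ X, act Q g x ∈ Y) →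
      ¬ (Fintype.card F ≤ 3 ∧ Module.finrank F Y = 2 ∧ ∃ y ∈ Y, y ≠ 0 ∧ Q y = 0) →
      ∀ M : Subgroup (Cfsg.isometryGroup F ⇑Q), (∀ g ∈ Cfsg.Omega F ⇑Q, Stab X g → g ∈ M) →
        ∀ m ∈ M, ¬ Stab X m → Cfsg.Omega F ⇑Q ≤ M := by
    intro X Y SX hle hndX hsw hexY M hM m hm hmX
    have hd := SX.dim
    refine nd_full hQ h5 M SX (by omega) (fun g hg => ?_) hexY hM hm hmX
    obtain ⟨L, hL⟩ : ∃ L, L = Matrix.toLin' ((g : GL ι F) : Matrix ι ι F) := ⟨_, rfl⟩
    have hLx : ∀ x, L x = act Q g x := fun x => by rw [hL, Matrix.toLin'_apply]; rfl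
    have hinj : Function.Injective L := fun x y h => act_inj g (by rw [← hLx, ← hLx, h])
    have hleY : X.map L ≤ Y := by rintro _ ⟨x, hx, rfl⟩; rw [hLx]; exact hg x hx
    have h1 := Submodule.finrank_mono hleY
    rw [← (Submodule.equivMapOfInjective L hinj X).finrank_eq] at h1
    rcases hsw with hsw | hsw
    · omega
    exact hsw g hg
  refine maximal_of_full W ?_ ?_
  · -- some element moves `W`
    by_cases hle : Module.finrank F U ≤ Module.finrank F W
    · obtain ⟨e, f, he, hf, heQ, hfQ, hef⟩ := hyp_in hQ S (by omega) W.zero_mem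
      obtain ⟨b, hb, hb0⟩ := exists_ne_zero U (by
        by_contra h
        exact hW1 (Submodule.eq_top_of_finrank_eq (by rw [Module.finrank_fintype_fun_eq_card]; omega)))
      have heb : polar ⇑Q e b = 0 := S.orth e he.1 b hb
      refine ⟨E Q e b, E_omega hQ h5 heQ heb, fun hst => ?_⟩
      have h1 := (hst f).1 hf.1
      rw [E_act heQ heb, hef, QuadraticMap.polar_comm, S.orth f hf.1 b hb, zero_smul, sub_zero, one_smul] at h1
      have h2 := add_mem (sub_mem h1 hf.1) (W.smul_mem (Q b * 1) he.1)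
      refine hb0 (S.disj b ?_ hb)
      rwa [show f + b - (Q b * 1) • e - f + (Q b * 1) • e = b by abel] at h2
    · obtain ⟨e, f, he, hf, heQ, hfQ, hef⟩ := hyp_in hQ S.swap (by omega) U.zero_mem
      obtain ⟨b, hb, hb0⟩ := Submodule.exists_mem_ne_zero_of_ne_bot hW0
      have heb : polar ⇑Q e b = 0 := S.swap.orth e he.1 b hb
      refine ⟨E Q e b, E_omega hQ h5 heQ heb, fun hst => ?_⟩
      have h1 := (S.stab_swap hst f).1 hf.1
      rw [E_act heQ heb, hef, QuadraticMap.polar_comm, S.swap.orth f hf.1 b hb, zero_smul, sub_zero, one_smul] at h1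
      have h2 := add_mem (sub_mem h1 hf.1) (U.smul_mem (Q b * 1) he.1)
      refine hb0 (S.disj b hb ?_)
      rwa [show f + b - (Q b * 1) • e - f + (Q b * 1) • e = b by abel] at h2
  · intro M hM m hm hmW
    by_cases hle : Module.finrank F U ≤ Module.finrank F W
    · exact key W U S hle hnd (hU ▸ hsw) (hex U (Or.inr hU)) M hM m hm hmW
    · exact key U W S.swap (by omega) hnd' (Or.inl (by omega)) (hex W (Or.inl rfl)) M
        (fun g hg hgU => hM g hg (S.swap.stab_swap hgU)) m hm (fun h => hmW (S.swap.stab_swap h))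

include hQ h5 in
theorem nd_maximal (W : Submodule F (ι → F)) (hn : 13 ≤ Fintype.card ι)
    (hW0 : W ≠ ⊥) (hW1 : W ≠ ⊤) (hW : Cfsg.Geo.IsNondegenerateOn (polar ⇑Q) W)
    (hsw : 2 * Module.finrank F W ≠ Fintype.card ι ∨ (Even (Module.finrank F W) ∧
      ∀ U : Submodule F (ι → F), (∀ u ∈ U, Q u = 0) → 2 * Module.finrank F U ≠ Fintype.card ι))
    (hex : ∀ U : Submodule F (ι → F), (U = W ∨ U = perpW Q W) →
      ¬ (Fintype.card F ≤ 3 ∧ Module.finrank F U = 2 ∧ ∃ y ∈ U, y ≠ 0 ∧ Q y = 0)) :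
    Cfsg.Geo.IsMaximalIn (Cfsg.Geo.omegaGL ⇑Q) (Cfsg.Geo.subspaceStabilizer W ⊓ Cfsg.Geo.omegaGL ⇑Q) := by
  by_cases hhalf : 2 * Module.finrank F W = Fintype.card ι
  swap
  · exact nd_maximal' hQ h5 W hn hW0 hW1 hW (Or.inl hhalf) hex
  refine nd_maximal' hQ h5 W hn hW0 hW1 hW (hsw.imp id fun ⟨hev, hsw⟩ g hg => ?_) hex
  have hndW : ∀ x ∈ W, x ≠ 0 → ∃ y ∈ W, polar ⇑Q x y ≠ 0 := fun x hx h0 => by
    obtain ⟨-, y, hy, h⟩ := hW x hx h0
    exact ⟨y, hy, h⟩
  obtain ⟨T', -, hTQ, hTd⟩ := copy_ts g _ W hev rfl hndW (fun x hx y hy => hg y hy x hx)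
  exact hsw T' hTQ (by omega)

/-- a plane with a singular point is of plus type -/
theorem plane_plus {U : Submodule F (ι → F)} (hU : Module.finrank F U = 2) (h : ∃ y ∈ U, y ≠ 0 ∧ Q y = 0) :
    Cfsg.Geo.IsPlusTypeOn ⇑Q U := by
  obtain ⟨y, hy, hy0, hyQ⟩ := h
  refine ⟨Submodule.span F {y}, (Submodule.span_singleton_le_iff_mem y U).2 hy, fun w hw => ?_,
    by rw [finrank_span_singleton hy0, hU]⟩
  obtain ⟨c, rfl⟩ := Submodule.mem_span_singleton.1 hw
  rw [OrthChar.map_smul', hyQ, mul_zero]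

include hQ in
theorem perp_nd (W : Submodule F (ι → F)) (hW : Cfsg.Geo.IsNondegenerateOn (polar ⇑Q) W) :
    Cfsg.Geo.IsNondegenerateOn (polar ⇑Q) (perpW Q W) := by
  intro x hx h0
  suffices h : ∃ y ∈ perpW Q W, polar ⇑Q x y ≠ 0 by
    obtain ⟨y, hy, hxy⟩ := h
    exact ⟨⟨y, hy, by rwa [QuadraticMap.polar_comm]⟩, y, hy, hxy⟩
  by_contra hc
  push Not at hc
  have hdisj : W ⊓ perpW Q W = ⊥ := by
    refine (Submodule.eq_bot_iff _).2 fun z hz => ?_
    by_contra h0
    obtain ⟨⟨y, hy, hzy⟩, -⟩ := hW z hz.1 h0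
    exact hzy (hz.2 y hy)
  have hsup : W ⊔ perpW Q W = ⊤ := by
    refine Submodule.eq_top_of_finrank_eq ?_
    have h := Submodule.finrank_sup_add_finrank_inf_eq W (perpW Q W)
    have := finrank_perpW hQ W
    rw [hdisj, finrank_bot] at h
    rw [Module.finrank_fintype_fun_eq_card]
    omega
  refine h0 (hQ.1 x fun z => ?_)
  obtain ⟨a, ha, b, hb, rfl⟩ := Submodule.mem_sup.1 (hsup ▸ Submodule.mem_top : z ∈ W ⊔ perpW Q W)
  rw [QuadraticMap.polarBilin_apply_apply, QuadraticMap.polar_add_right, QuadraticMap.polar_comm, hx a ha,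
    hc b hb, add_zero]

end CfsgLib.Lie.OrthFullND
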