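import Mathlib
import Cfsg.Prelude.Def_ClassicalGeometry

/-!
Quadratic forms on column vectors: reflections, Siegel elements; helper lemmas.
-/

set_option autoImplicit false
set_option linter.unusedSimpArgs false

namespace CfsgLib.Lie.Quad

open Matrix

variable {F : Type*} [Field F]

theorem polarVec_dot {ι : Type} [Fintype ι] [DecidableEq ι] (Q : QuadraticForm F (ι → F))
    (v x : ι → F) : Cfsg.polarVec ⇑Q v ⬝ᵥ x = QuadraticMap.polar ⇑Q v x := by
  have h := QuadraticMap.polarBilin_apply_apply Q v x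
  rw [← h]
  conv_rhs => rw [pi_eq_sum_univ' x]
  simp [dotProduct, Cfsg.polarVec, map_sum, map_smul, mul_comm]

theorem reflection_mulVec {ι : Type} [Fintype ι] [DecidableEq ι] (Q : QuadraticForm F (ι → F))
    (v x : ι → F) : Cfsg.reflectionMatrix ⇑Q v *ᵥ x =
      x - ((Q v)⁻¹ * QuadraticMap.polar ⇑Q v x) • v := by
  rw [Cfsg.reflectionMatrix, Matrix.sub_mulVec, Matrix.one_mulVec, Matrix.smul_mulVec,
    Matrix.vecMulVec_mulVec, op_smul_eq_smul, polarVec_dot, smul_smul]

theorem map_sub_smul {ι : Type} [Fintype ι] [DecidableEq ι] (Q : QuadraticForm F (ι → F))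
    (v x : ι → F) (a : F) : Q (x - a • v) = Q x - a * QuadraticMap.polar ⇑Q v x + a * a * Q v := by
  rw [sub_eq_add_neg, ← neg_smul, QuadraticMap.map_add (f := ⇑Q), QuadraticMap.map_smul,
    QuadraticMap.polar_smul_right, QuadraticMap.polar_comm (f := ⇑Q) x v, smul_eq_mul, smul_eq_mul]
  ring

theorem reflection_isometry {ι : Type} [Fintype ι] [DecidableEq ι] (Q : QuadraticForm F (ι → F))
    {v : ι → F} (hv : Q v ≠ 0) (x : ι → F) : Q (Cfsg.reflectionMatrix ⇑Q v *ᵥ x) = Q x := by
  rw [reflection_mulVec, map_sub_smul]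
  field_simp
  ring

theorem reflection_det {ι : Type} [Fintype ι] [DecidableEq ι] (Q : QuadraticForm F (ι → F))
    {v : ι → F} (hv : Q v ≠ 0) : (Cfsg.reflectionMatrix ⇑Q v).det = -1 := by
  rw [Cfsg.reflectionMatrix, ← Matrix.smul_vecMulVec, sub_eq_add_neg, ← Matrix.neg_vecMulVec,
    Matrix.vecMulVec_eq Unit, Matrix.det_one_add_replicateCol_mul_replicateRow]
  simp only [dotProduct_neg, dotProduct_smul, smul_eq_mul, polarVec_dot, QuadraticMap.polar_self]
  field_simp
  ring

theorem siegel_mulVec {ι : Type} [Fintype ι] [DecidableEq ι] (Q : QuadraticForm F (ι → F))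
    (u v x : ι → F) (c : F) : Cfsg.siegelMatrix ⇑Q u v c *ᵥ x =
      x + (c * QuadraticMap.polar ⇑Q u x) • v - (c * QuadraticMap.polar ⇑Q v x) • u := by
  simp only [Cfsg.siegelMatrix, Matrix.add_mulVec, Matrix.one_mulVec, Matrix.smul_mulVec,
    Matrix.sub_mulVec, Matrix.vecMulVec_mulVec, op_smul_eq_smul, polarVec_dot, smul_sub, smul_smul]
  abel

theorem siegel_isometry {ι : Type} [Fintype ι] [DecidableEq ι] (Q : QuadraticForm F (ι → F))
    {u v : ι → F} (hu : Q u = 0) (hv : Q v = 0) (huv : QuadraticMap.polar ⇑Q u v = 0) (c : F)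
    (x : ι → F) : Q (Cfsg.siegelMatrix ⇑Q u v c *ᵥ x) = Q x := by
  rw [siegel_mulVec, map_sub_smul, QuadraticMap.map_add (f := ⇑Q), QuadraticMap.map_smul,
    QuadraticMap.polar_smul_right, QuadraticMap.polar_add_right, QuadraticMap.polar_smul_right,
    QuadraticMap.polar_comm (f := ⇑Q) x v, hu, hv, huv, smul_eq_mul, smul_eq_mul, smul_eq_mul]
  ring

/-- det of an isometry squares to 1. -/
theorem det_sq {n : ℕ} (Q : QuadraticForm F (Fin n → F))
    (hQ : (QuadraticMap.polarBilin Q).Nondegenerate) (M : Matrix (Fin n) (Fin n) F)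
    (hM : ∀ x, Q (M *ᵥ x) = Q x) : M.det * M.det = 1 := by
  set B := LinearMap.BilinForm.toMatrix' (QuadraticMap.polarBilin Q) with hB
  have hd : B.det ≠ 0 := (LinearMap.BilinForm.nondegenerate_toMatrix'_iff.2 hQ).det_ne_zero
  have hcomp : LinearMap.BilinForm.comp (QuadraticMap.polarBilin Q) (Matrix.toLin' M) (Matrix.toLin' M) =
      QuadraticMap.polarBilin Q :=
    LinearMap.ext fun x => LinearMap.ext fun y => by
      simp [QuadraticMap.polar, ← Matrix.mulVec_add, hM]
  have h := congrArg LinearMap.BilinForm.toMatrix' hcomp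
  rw [LinearMap.BilinForm.toMatrix'_comp, LinearMap.toMatrix'_toLin', ← hB] at h
  have h2 := congrArg Matrix.det h
  rw [Matrix.det_mul, Matrix.det_mul, Matrix.det_transpose] at h2
  exact mul_left_cancel₀ hd (by linear_combination h2)

/-- Partner: for a nondegenerate bilinear form every functional is represented. -/
theorem exists_rep {V : Type*} [AddCommGroup V] [Module F V] [FiniteDimensional F V]
    (B : LinearMap.BilinForm F V) (hB : B.Nondegenerate) (φ : V →ₗ[F] F) :
    ∃ y, ∀ z, B z y = φ z := by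
  have hinj : Function.Injective (LinearMap.flip B) := by
    rw [← LinearMap.ker_eq_bot, Submodule.eq_bot_iff]
    intro y hy
    exact hB.2 y fun z => LinearMap.congr_fun (LinearMap.mem_ker.1 hy) z
  have hsurj := (LinearMap.injective_iff_surjective_of_finrank_eq_finrank
    (f := LinearMap.flip B) (Subspace.dual_finrank_eq).symm).1 hinj
  obtain ⟨y, hy⟩ := hsurj φ
  exact ⟨y, fun z => LinearMap.congr_fun hy z⟩

theorem char_two_sq [Finite F] [CharP F 2] (a : F) : ∃ r, r * r = a := by
  have : ringChar F = 2 := ringChar.eq F 2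
  obtain ⟨r, hr⟩ := FiniteField.isSquare_of_char_two this a
  exact ⟨r, hr.symm⟩

end CfsgLib.Lie.Quad
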