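import Cfsg.Agent.Lie.FormMaxSL
import Cfsg.Agent.Lie.Quad

/-!
The similarities of a symmetric bilinear form in odd characteristic form a maximal subgroup of the special
linear group.
-/

set_option autoImplicit false
set_option linter.unusedSimpArgs false
set_option linter.unusedSectionVars false

namespace CfsgLib.Lie.OrthMaxSL

open Matrix
open CfsgLib.Lie.FormMaxSL (tv tv_mulVec gl_ext inv_mulVec_mulVec mulVec_inv_mulVec tv_mul tv_zero tv_inv
  tv_smul conj_tv tv_mem_SL SL_le_of_tv_mem)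

variable {F : Type*} [Field F] [Finite F] {ι : Type} [Fintype ι] [DecidableEq ι]
  (B : LinearMap.BilinForm F (ι → F))

/-- orthogonal space of a set -/
def orth (s : Set (ι → F)) : Submodule F (ι → F) where
  carrier := {x | ∀ y ∈ s, B x y = 0}
  zero_mem' := fun y _ => by simp
  add_mem' := fun {a b} ha hb y hy => by simp [ha y hy, hb y hy]
  smul_mem' := fun c a ha y hy => by simp [ha y hy]

theorem mem_orth {s : Set (ι → F)} {x : ι → F} : x ∈ orth B s ↔ ∀ y ∈ s, B x y = 0 := Iff.rfl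

theorem card_le_finrank_ker {m : ℕ} (L : (ι → F) →ₗ[F] (Fin m → F)) :
    Fintype.card ι ≤ Module.finrank F (LinearMap.ker L) + m := by
  have h := LinearMap.finrank_range_add_finrank_ker L
  have h2 := Submodule.finrank_le (LinearMap.range L)
  rw [Module.finrank_fintype_fun_eq_card] at h
  rw [Module.finrank_fin_fun] at h2
  omega

theorem dim_orth {m : ℕ} (v : Fin m → (ι → F)) :
    Fintype.card ι ≤ Module.finrank F (orth B (Set.range v)) + m := by
  have e : LinearMap.ker (LinearMap.pi fun i => B.flip (v i)) = orth B (Set.range v) := by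
    ext x
    rw [mem_orth, LinearMap.mem_ker, funext_iff, Set.forall_mem_range]
    simp
  rw [← e]
  exact card_le_finrank_ker _

theorem dim_orth_two (a b : ι → F) : Fintype.card ι ≤ Module.finrank F (orth B {a, b}) + 2 := by
  have h := dim_orth B ![a, b]
  rwa [show Set.range ![a, b] = {a, b} by
    ext x; simp [Fin.exists_fin_two, eq_comm]; try tauto] at h

theorem dim_orth_three (a b c : ι → F) : Fintype.card ι ≤ Module.finrank F (orth B {a, b, c}) + 3 := by
  have h := dim_orth B ![a, b, c]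
  rwa [show Set.range ![a, b, c] = {a, b, c} by
    ext x; simp [Fin.exists_fin_succ, eq_comm]; try tauto] at h

variable (h2 : (2 : F) ≠ 0) (hS : ∀ x y, B x y = B y x) (hN : ∀ x, (∀ y, B x y = 0) → x = 0)

include h2 hS in
/-- three dimensions contain a singular vector -/
theorem exists_singular (K : Submodule F (ι → F)) (hK : 3 ≤ Module.finrank F K) :
    ∃ r ∈ K, r ≠ 0 ∧ B r r = 0 := by
  have := Fintype.ofFinite F
  by_contra hcon
  push Not at hcon
  obtain ⟨a, ha, ha0⟩ := Submodule.exists_mem_ne_zero_of_ne_bot (p := K) fun hb => by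
    rw [hb, finrank_bot] at hK; omega
  have horth : ∀ v : Fin 2 → (ι → F), ∃ p ∈ K, p ≠ 0 ∧ ∀ i, B p (v i) = 0 := by
    intro v
    let L : K →ₗ[F] (Fin 2 → F) := (LinearMap.pi fun i => B.flip (v i)) ∘ₗ K.subtype
    have h := LinearMap.finrank_range_add_finrank_ker L
    have h' := Submodule.finrank_le (LinearMap.range L)
    rw [Module.finrank_fin_fun] at h'
    obtain ⟨p, hp, hp0⟩ := Submodule.exists_mem_ne_zero_of_ne_bot (p := LinearMap.ker L) fun hb => by
      rw [hb, finrank_bot] at h; omega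
    exact ⟨p, p.2, fun h9 => hp0 (Subtype.ext h9), fun i => congrFun (LinearMap.mem_ker.1 hp) i⟩
  obtain ⟨b, hb, hb0, hba⟩ := horth ![a, a]
  obtain ⟨c, hc, hc0, hcab⟩ := horth ![a, b]
  have hA := hcon a ha ha0
  have hB := hcon b hb hb0
  have hba' : B b a = 0 := hba 0
  have hca : B c a = 0 := hcab 0
  have hcb : B c b = 0 := hcab 1
  have hab : B a b = 0 := by rw [hS, hba']
  have hac : B a c = 0 := by rw [hS, hca]
  have hbc : B b c = 0 := by rw [hS, hcb]
  have hodd : Fintype.card F % 2 = 1 := by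
    refine FiniteField.odd_card_of_char_ne_two fun h9 => h2 ?_
    have := ringChar.charP F
    rw [h9] at this
    exact CharP.cast_eq_zero F 2
  obtain ⟨x, y, hxy⟩ := FiniteField.exists_root_sum_quadratic
    (f := Polynomial.C (B a a) * Polynomial.X ^ 2 + Polynomial.C (B c c))
    (g := Polynomial.C (B b b) * Polynomial.X ^ 2)
    (by
      have hd : (Polynomial.C (B c c)).degree < (Polynomial.C (B a a) * Polynomial.X ^ 2).degree := by
        rw [Polynomial.degree_C_mul_X_pow 2 hA]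
        exact lt_of_le_of_lt Polynomial.degree_C_le (by norm_num)
      rw [Polynomial.degree_add_eq_left_of_degree_lt hd, Polynomial.degree_C_mul_X_pow 2 hA]
      rfl)
    (Polynomial.degree_C_mul_X_pow 2 hB) hodd
  simp only [Polynomial.eval_add, Polynomial.eval_mul, Polynomial.eval_C, Polynomial.eval_pow,
    Polynomial.eval_X] at hxy
  refine hcon (x • a + y • b + c) (K.add_mem (K.add_mem (K.smul_mem _ ha) (K.smul_mem _ hb)) hc) ?_ ?_
  · intro h9
    have h8 := congrArg (fun z => B z c) h9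
    simp [hac, hbc] at h8
    exact hcon c hc hc0 h8
  · simp [map_add, LinearMap.add_apply, hab, hac, hba', hbc, hca, hcb]
    linear_combination hxy

include hS hN in
theorem dim_orth_le (S : Submodule F (ι → F)) :
    Module.finrank F S + Module.finrank F (orth B (S : Set (ι → F))) ≤ Fintype.card ι := by
  have hnd : B.Nondegenerate := ⟨hN, fun y hy => hN y fun x => by rw [hS]; exact hy x⟩
  have hle : orth B (S : Set (ι → F)) ≤ B.orthogonal S := fun x hx => by
    rw [LinearMap.BilinForm.mem_orthogonal_iff]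
    intro y hy
    show B y x = 0
    rw [hS]; exact hx y hy
  have h := Submodule.finrank_mono hle
  have h9 := LinearMap.BilinForm.finrank_add_finrank_orthogonal' (B := B) S
  have hk : S ⊓ LinearMap.ker B = ⊥ := (Submodule.eq_bot_iff _).2 fun x hx =>
    hN x fun y => by rw [LinearMap.mem_ker.1 hx.2]; rfl
  rw [hk, finrank_bot, Module.finrank_fintype_fun_eq_card] at h9
  have := Submodule.finrank_le S
  rw [Module.finrank_fintype_fun_eq_card] at this
  omega

include h2 hS hN in
theorem exists_singular_pair (S : Submodule F (ι → F))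
    (hd : Fintype.card ι + 3 ≤ 2 * Module.finrank F S) :
    ∃ r ∈ S, r ≠ 0 ∧ B r r = 0 ∧ ∃ y ∈ S, B r y ≠ 0 := by
  obtain ⟨S', hS', hd'⟩ : ∃ S' : Submodule F (ι → F), S' ⊓ (S ⊓ orth B (S : Set (ι → F))) = ⊥ ∧
      S' ≤ S ∧ 3 ≤ Module.finrank F S' := by
    obtain ⟨C, hC⟩ := Submodule.exists_isCompl (orth B (S : Set (ι → F)))
    refine ⟨S ⊓ C, (Submodule.eq_bot_iff _).2 fun x hx =>
      (Submodule.disjoint_def.1 hC.disjoint) x hx.2.2 hx.1.2, inf_le_left, ?_⟩
    have h1 := Submodule.finrank_sup_add_finrank_inf_eq S C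
    have h3 := Submodule.finrank_le (S ⊔ C)
    have h4 := Submodule.finrank_add_eq_of_isCompl hC
    rw [Module.finrank_fintype_fun_eq_card] at h3 h4
    have := dim_orth_le B hS hN S
    omega
  obtain ⟨r, hr, hr0, hrr⟩ := exists_singular B h2 hS S' hd'.2
  refine ⟨r, hd'.1 hr, hr0, hrr, ?_⟩
  by_contra hcon
  push Not at hcon
  exact hr0 ((Submodule.eq_bot_iff _).1 hS' r ⟨hr, hd'.1 hr, hcon⟩)

include h2 hS hN in
theorem exists_singular_avoid (S : Submodule F (ι → F))
    (hd : Fintype.card ι + 3 ≤ 2 * Module.finrank F S) (ψ : (ι → F) →ₗ[F] F) (hψ : ∃ x ∈ S, ψ x ≠ 0) :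
    ∃ r ∈ S, B r r = 0 ∧ ψ r ≠ 0 := by
  obtain ⟨r, hr, -, hrr, y, hy, hry⟩ := exists_singular_pair B h2 hS hN S hd
  obtain ⟨x, hx, hψx⟩ := hψ
  by_cases hψr : ψ r = 0
  swap
  · exact ⟨r, hr, hrr, hψr⟩
  have key : ∀ z ∈ S, B r z ≠ 0 → ψ z ≠ 0 → ∃ r ∈ S, B r r = 0 ∧ ψ r ≠ 0 := by
    intro z hz h1 h3
    refine ⟨z + (-(B z z) / (2 * B r z)) • r, S.add_mem hz (S.smul_mem _ hr), ?_, by simp [hψr, h3]⟩
    simp [map_add, LinearMap.add_apply, hrr, hS z r]
    field_simp
    ring
  by_cases hrx : B r x = 0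
  swap
  · exact key x hx hrx hψx
  by_cases hψy : ψ y = 0
  swap
  · exact key y hy hry hψy
  exact key (x + y) (S.add_mem hx hy) (by simp [hrx, hry]) (by simp [hψy, hψx])

include h2 hS hN in
theorem exists_aniso (S : Submodule F (ι → F)) (hd : Fintype.card ι + 3 ≤ 2 * Module.finrank F S) :
    ∃ e ∈ S, B e e ≠ 0 := by
  obtain ⟨r, hr, -, hrr, y, hy, hry⟩ := exists_singular_pair B h2 hS hN S hd
  by_cases hyy : B y y = 0
  · refine ⟨r + y, S.add_mem hr hy, ?_⟩
    simp [map_add, LinearMap.add_apply, hrr, hyy, hS y r]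
    rw [← two_mul]
    exact mul_ne_zero h2 hry
  · exact ⟨y, hy, hyy⟩

theorem exists_outside (S T : Submodule F (ι → F)) (h : Module.finrank F T < Module.finrank F S) :
    ∃ ψ : (ι → F) →ₗ[F] F, (∀ x ∈ T, ψ x = 0) ∧ ∃ x ∈ S, ψ x ≠ 0 := by
  obtain ⟨x, hx, hxT⟩ : ∃ x ∈ S, x ∉ T := by
    by_contra hcon
    push Not at hcon
    exact absurd (Submodule.finrank_mono hcon) (Nat.not_le.2 h)
  obtain ⟨φ, hφ, hφ0⟩ := Submodule.exists_dual_map_eq_bot_of_notMem hxT inferInstance
  refine ⟨φ, fun z hz => ?_, x, hx, hφ⟩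
  have : φ z ∈ T.map φ := Submodule.mem_map_of_mem hz
  rwa [hφ0, Submodule.mem_bot] at this

theorem finrank_triple (a b c : ι → F) : Module.finrank F (Submodule.span F ({a, b, c} : Set (ι → F))) ≤ 3 := by
  classical
  have h := finrank_span_finset_le_card ({a, b, c} : Finset (ι → F)) (R := F)
  have h3 : ({a, b, c} : Finset (ι → F)).card ≤ 3 := Finset.card_le_three
  have e : ((({a, b, c} : Finset (ι → F))) : Set (ι → F)) = {a, b, c} := by simp
  rw [e] at h
  exact le_trans h h3

/-- long root element -/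
noncomputable def rt (u v : ι → F) (t : F) : GL ι F := tv u ((-t) • B.flip v) * tv v (t • B.flip u)

include hS in
theorem rt_mulVec {u v : ι → F} (hv : B v v = 0) (huv : B u v = 0) (t : F) (x : ι → F) :
    (rt B u v t : Matrix ι ι F) *ᵥ x = x + (t * B x u) • v - (t * B x v) • u := by
  rw [rt, Units.val_mul, ← Matrix.mulVec_mulVec, tv_mulVec (by simp [hS v u, huv]),
    tv_mulVec (by simp [huv, hS v u])]
  simp [hv]
  module

include hS in
theorem rt_isometry {u v : ι → F} (hu : B u u = 0) (hv : B v v = 0) (huv : B u v = 0) (t : F) (x y : ι → F) :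
    B ((rt B u v t : Matrix ι ι F) *ᵥ x) ((rt B u v t : Matrix ι ι F) *ᵥ y) = B x y := by
  rw [rt_mulVec B hS hv huv, rt_mulVec B hS hv huv]
  simp [hu, hv, huv, hS v u, hS u y, hS v y, map_add, map_sub, LinearMap.add_apply, LinearMap.sub_apply]
  ring

include h2 in
theorem exists_refl {a : ι → F} (ha : B a a ≠ 0) :
    ∃ r : GL ι F, (r : Matrix ι ι F).det = -1 ∧
      ∀ x, (r : Matrix ι ι F) *ᵥ x = x - (2 * B x a / B a a) • a := by
  obtain ⟨φ, hφ⟩ : ∃ φ : (ι → F) →ₗ[F] F, φ = (-2 / B a a) • B.flip a := ⟨_, rfl⟩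
  have hφa : φ a = -2 := by rw [hφ]; simp; field_simp
  have hmv : ∀ x, LinearMap.toMatrix' (LinearMap.id + φ.smulRight a) *ᵥ x = x - (2 * B x a / B a a) • a := by
    intro x
    rw [LinearMap.toMatrix'_mulVec, hφ, sub_eq_add_neg, ← neg_smul]
    simp
    rw [← neg_smul]
    congr 1
    field_simp
  have hdet : (LinearMap.toMatrix' (LinearMap.id + φ.smulRight a)).det = -1 := by
    have e : LinearMap.toMatrix' (LinearMap.id + φ.smulRight a) =
        1 + Matrix.replicateCol Unit a * Matrix.replicateRow Unit (fun j => φ (Pi.single j 1)) := by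
      rw [← Matrix.vecMulVec_eq Unit]
      refine Matrix.toLin'.injective (LinearMap.ext fun x => ?_)
      rw [Matrix.toLin'_apply, Matrix.toLin'_apply, LinearMap.toMatrix'_mulVec, Matrix.add_mulVec,
        Matrix.one_mulVec, Matrix.vecMulVec_mulVec, op_smul_eq_smul, LinearMap.add_apply, LinearMap.id_apply,
        LinearMap.smulRight_apply]
      congr 2
      conv_lhs => rw [pi_eq_sum_univ' x]
      simp [dotProduct, map_sum, map_smul, mul_comm]
    rw [e, Matrix.det_one_add_replicateCol_mul_replicateRow]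
    have : (fun j => φ (Pi.single j 1)) ⬝ᵥ a = φ a := by
      conv_rhs => rw [pi_eq_sum_univ' a]
      simp [dotProduct, map_sum, map_smul, mul_comm]
    rw [this, hφa]; ring
  exact ⟨Matrix.GeneralLinearGroup.mk'' _ (by rw [hdet]; exact isUnit_one.neg), hdet, hmv⟩

include h2 hS in
theorem refl_isometry {a : ι → F} (ha : B a a ≠ 0) {r : GL ι F}
    (hr : ∀ x, (r : Matrix ι ι F) *ᵥ x = x - (2 * B x a / B a a) • a) (x y : ι → F) :
    B ((r : Matrix ι ι F) *ᵥ x) ((r : Matrix ι ι F) *ᵥ y) = B x y := by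
  rw [hr, hr]
  simp [map_sub, LinearMap.sub_apply, hS a y]
  field_simp
  ring

variable (H : Subgroup (GL ι F))
  (hH : ∀ g : GL ι F, g ∈ H ↔ (∃ c : F, c ≠ 0 ∧ ∀ u v, B ((g : Matrix ι ι F) *ᵥ u)
    ((g : Matrix ι ι F) *ᵥ v) = c * B u v) ∧ g ∈ Cfsg.Geo.specialLinear ι F)

include h2 hS hH in
/-- a product of two reflections with orthogonal axes -/
theorem exists_two_refl {a d : ι → F} (ha : B a a ≠ 0) (hd : B d d ≠ 0) :
    ∃ h ∈ H, (∀ x y, B ((h : Matrix ι ι F) *ᵥ x) ((h : Matrix ι ι F) *ᵥ y) = B x y) ∧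
      ∀ x, B x d = 0 → (h : Matrix ι ι F) *ᵥ x = x - (2 * B x a / B a a) • a := by
  obtain ⟨r, hr, hrx⟩ := exists_refl B h2 ha
  obtain ⟨s, hs, hsx⟩ := exists_refl B h2 hd
  have hiso : ∀ x y, B (((r * s : GL ι F) : Matrix ι ι F) *ᵥ x) (((r * s : GL ι F) : Matrix ι ι F) *ᵥ y) = B x y :=
    fun x y => by
      rw [Units.val_mul, ← Matrix.mulVec_mulVec, ← Matrix.mulVec_mulVec, refl_isometry B h2 hS ha hrx,
        refl_isometry B h2 hS hd hsx]
  refine ⟨r * s, (hH _).2 ⟨⟨1, one_ne_zero, fun u v => by rw [hiso, one_mul]⟩, Units.ext ?_⟩, hiso, fun x hx => ?_⟩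
  · show ((r * s : GL ι F) : Matrix ι ι F).det = 1
    rw [Units.val_mul, Matrix.det_mul, hr, hs]; ring
  · rw [Units.val_mul, ← Matrix.mulVec_mulVec, hsx, hx, mul_zero, zero_div, zero_smul, sub_zero, hrx]

/-- the whole root subgroup lies in `M` -/
def Pair (M : Subgroup (GL ι F)) (w z : ι → F) : Prop :=
  B w z = 0 ∧ ∀ t : F, tv w (t • B.flip z) ∈ M

include h2 hS hN hH in
/-- the first root subgroup -/
theorem exists_pair (hdim : 13 ≤ Fintype.card ι) {M : Subgroup (GL ι F)} (hHM : H ≤ M) {g : GL ι F} (hg : g ∈ M)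
    (hgS : g ∈ Cfsg.Geo.specialLinear ι F) (hgH : g ∉ H) :
    ∃ w b, w ≠ 0 ∧ b ≠ 0 ∧ B b b = 0 ∧ Pair B M w b := by
  let G := Matrix.toLin' ((g⁻¹ : GL ι F) : Matrix ι ι F)
  obtain ⟨B', hB'⟩ : ∃ B' : LinearMap.BilinForm F (ι → F), B' = B.compl₁₂ G G := ⟨_, rfl⟩
  have hB'a : ∀ x y, B' x y = B (((g⁻¹ : GL ι F) : Matrix ι ι F) *ᵥ x) (((g⁻¹ : GL ι F) : Matrix ι ι F) *ᵥ y) :=
    fun x y => by simp [hB', G, Matrix.toLin'_apply]
  have hS' : ∀ x y, B' x y = B' y x := fun x y => by rw [hB'a, hB'a, hS]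
  have hN' : ∀ x, (∀ y, B' x y = 0) → x = 0 := fun x hx => by
    have h1 := hN _ fun y => by
      have := hx ((g : Matrix ι ι F) *ᵥ y)
      rwa [hB'a, inv_mulVec_mulVec] at this
    rw [← mulVec_inv_mulVec g x, h1, Matrix.mulVec_zero]
  have hnd : B.Nondegenerate := ⟨hN, fun y hy => hN y fun x => by rw [hS]; exact hy x⟩
  -- the first vector
  obtain ⟨a', ha', ha'e⟩ : ∃ a', B' a' a' = 0 ∧ ∀ l : F, ∃ x, B' x a' ≠ l * B x a' := by
    by_contra hcon
    push Not at hcon
    have hspan : ∀ ψ : (ι → F) →ₗ[F] F, (∀ a, B' a a = 0 → ψ a = 0) → ψ = 0 := by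
      intro ψ hψ
      by_contra h0
      obtain ⟨x, hx⟩ : ∃ x, ψ x ≠ 0 := by
        by_contra h
        push Not at h
        exact h0 (LinearMap.ext h)
      obtain ⟨r, -, hr, hψr⟩ := exists_singular_avoid B' h2 hS' hN' ⊤
        (by rw [finrank_top, Module.finrank_fintype_fun_eq_card]; omega) ψ ⟨x, trivial, hx⟩
      exact hψr (hψ r hr)
    obtain ⟨r, -, hr0, hrr⟩ := exists_singular B' h2 hS' ⊤
      (by rw [finrank_top, Module.finrank_fintype_fun_eq_card]; omega)
    obtain ⟨l, hl⟩ := hcon r hrr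
    have hone : ∀ a, B' a a = 0 → ∀ x, B' x a = l * B x a := by
      intro a ha
      obtain ⟨m, hm⟩ := hcon a ha
      by_cases h0 : B' a r = 0
      · have hs : B' (a + r) (a + r) = 0 := by simp [ha, hrr, h0, hS' r a]
        obtain ⟨k, hk⟩ := hcon _ hs
        by_cases hdep : ∃ c : F, a = c • r
        · obtain ⟨c, rfl⟩ := hdep
          intro x
          simp [hl x]
          ring
        push Not at hdep
        have hrep : (m - k) • a = (k - l) • r := by
          refine sub_eq_zero.1 (hN _ fun y => ?_)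
          have h1 := hk y
          simp only [map_add, hm y, hl y] at h1
          simp only [map_sub, map_smul, LinearMap.sub_apply, LinearMap.smul_apply, smul_eq_mul, hS _ y]
          linear_combination h1
        have hmk : m = k := by
          by_contra hne
          refine hdep ((m - k)⁻¹ * (k - l)) ?_
          rw [← smul_smul, ← hrep, smul_smul, inv_mul_cancel₀ (sub_ne_zero.2 hne), one_smul]
        have hkl : k = l := by
          rw [hmk, sub_self, zero_smul, eq_comm, smul_eq_zero] at hrep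
          exact sub_eq_zero.1 (hrep.resolve_right hr0)
        intro x; rw [hm, hmk, hkl]
      · have h1 := hm r
        have h3 := hl a
        rw [hS' r a, hS r a] at h1
        have hml : m = l := by
          have h4 : (m - l) * B a r = 0 := by linear_combination h3 - h1
          refine sub_eq_zero.1 ((mul_eq_zero.1 h4).resolve_right fun h9 => h0 ?_)
          rw [h1, h9, mul_zero]
        intro x; rw [hm, hml]
    have hall : ∀ x y, B' x y = l * B x y := by
      intro x y
      have := hspan (B' x - l • B x) fun a ha => by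
        simp [hone a ha x]
      have h9 := LinearMap.congr_fun this y
      simpa [sub_eq_zero] using h9
    refine hgH ((hH g).2 ⟨⟨l⁻¹, ?_, fun u v => ?_⟩, hgS⟩)
    · intro h0
      rw [inv_eq_zero] at h0
      exact hr0 (hN' r fun y => by rw [hall, h0, zero_mul])
    · have hl0 : l ≠ 0 := fun h0 => hr0 (hN' r fun y => by rw [hall, h0, zero_mul])
      have h1 := hall ((g : Matrix ι ι F) *ᵥ u) ((g : Matrix ι ι F) *ᵥ v)
      rw [hB'a, inv_mulVec_mulVec, inv_mulVec_mulVec] at h1
      rw [h1, ← mul_assoc, inv_mul_cancel₀ hl0, one_mul]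
  obtain ⟨z, hz⟩ := Quad.exists_rep B hnd (B'.flip a')
  have hz' : ∀ x, B x z = B' x a' := fun x => by rw [hz]; rfl
  have hza : ∀ l : F, z ≠ l • a' := fun l h => by
    obtain ⟨x, hx⟩ := ha'e l
    exact hx (by rw [← hz', h]; simp)
  -- the second vector
  obtain ⟨ψ, hψ, x₁, hx₁, hψx₁⟩ := exists_outside (orth B' {a', a'}) (Submodule.span F {a', a', z}) (by
    have h1 := dim_orth_two B' a' a'
    have h3 := finrank_triple a' a' z
    omega)
  obtain ⟨b', hb', hb'b', hψb'⟩ := exists_singular_avoid B' h2 hS' hN' (orth B' {a', a'}) (by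
    have h1 := dim_orth_two B' a' a'
    omega) ψ ⟨x₁, hx₁, hψx₁⟩
  have hb'a : B' b' a' = 0 := hb' a' (by simp)
  have hza' : ∀ l m : F, z ≠ l • a' + m • b' := by
    intro l m h
    by_cases hm : m = 0
    · exact hza l (by rw [h, hm, zero_smul, add_zero])
    · refine hψb' ?_
      have h1 : ψ z = l * ψ a' + m * ψ b' := by rw [h]; simp
      rw [hψ z (Submodule.subset_span (by simp)), hψ a' (Submodule.subset_span (by simp)), mul_zero,
        zero_add, eq_comm, mul_eq_zero] at h1
      exact h1.resolve_left hm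
  -- the third
  have hK : Fintype.card ι ≤ Module.finrank F (orth B {a', b'} ⊓ orth B' {a', b'} : Submodule F (ι → F)) + 4 := by
    have h1 := dim_orth_two B a' b'
    have h3 := dim_orth_two B' a' b'
    have h4 := Submodule.finrank_sup_add_finrank_inf_eq (orth B {a', b'}) (orth B' {a', b'})
    have h5 := Submodule.finrank_le (orth B {a', b'} ⊔ orth B' {a', b'})
    rw [Module.finrank_fintype_fun_eq_card] at h5
    omega
  obtain ⟨χ, hχ, x₂, hx₂, hχx₂⟩ := exists_outside (orth B {a', b'} ⊓ orth B' {a', b'})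
    (Submodule.span F {a', b', z}) (by have := finrank_triple a' b' z; omega)
  obtain ⟨b, ⟨hbB, hbB'⟩, hbb, hχb⟩ := exists_singular_avoid B h2 hS hN
    (orth B {a', b'} ⊓ orth B' {a', b'}) (by omega) χ ⟨x₂, hx₂, hχx₂⟩
  have hb0 : b ≠ 0 := fun h => hχb (by rw [h, map_zero])
  have hzspan : z ∉ Submodule.span F ({a', b', b} : Set (ι → F)) := by
    intro h
    obtain ⟨l, y, hy, hly⟩ := Submodule.mem_span_insert.1 h
    obtain ⟨m, k, hmk⟩ := Submodule.mem_span_pair.1 hy
    by_cases hk : k = 0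
    · exact hza' l m (by rw [hly, ← hmk, hk, zero_smul, add_zero])
    · refine hχb ?_
      have h1 : χ z = l * χ a' + (m * χ b' + k * χ b) := by rw [hly, ← hmk]; simp
      rw [hχ z (Submodule.subset_span (by simp)), hχ a' (Submodule.subset_span (by simp)),
        hχ b' (Submodule.subset_span (by simp)), mul_zero, mul_zero, zero_add, zero_add, eq_comm,
        mul_eq_zero] at h1
      exact h1.resolve_left hk
  -- the fourth
  obtain ⟨x₃, hx₃, hx₃z⟩ : ∃ x ∈ orth B {a', b', b}, B x z ≠ 0 := by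
    obtain ⟨φ, hφ, hφ0⟩ := Submodule.exists_dual_map_eq_bot_of_notMem hzspan inferInstance
    obtain ⟨y, hy⟩ := Quad.exists_rep B hnd φ
    refine ⟨y, fun v hv => ?_, by rw [hS, hy]; exact hφ⟩
    rw [hS, hy]
    have : φ v ∈ (Submodule.span F ({a', b', b} : Set (ι → F))).map φ :=
      Submodule.mem_map_of_mem (Submodule.subset_span hv)
    rwa [hφ0, Submodule.mem_bot] at this
  obtain ⟨a, haB, haa, haz⟩ := exists_singular_avoid B h2 hS hN (orth B {a', b', b}) (by
    have := dim_orth_three B a' b' b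
    omega) (B.flip z) ⟨x₃, hx₃, by simpa using hx₃z⟩
  have haz' : B' a a' ≠ 0 := by rw [← hz']; simpa using haz
  have haa' : B a a' = 0 := haB a' (by simp)
  have hab' : B a b' = 0 := haB b' (by simp)
  have hab : B a b = 0 := haB b (by simp)
  have hba' : B b a' = 0 := hbB a' (by simp)
  have hbb' : B b b' = 0 := hbB b' (by simp)
  have hba'' : B' b a' = 0 := hbB' a' (by simp)
  have hbb'' : B' b b' = 0 := hbB' b' (by simp)
  refine ⟨B' a a' • b' - B' a b' • a', b, ?_, hb0, hbb, ?_, ?_⟩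
  · intro h
    refine hψb' ((mul_eq_zero.1 ?_).resolve_left haz')
    have := congrArg ψ h
    simpa [hψ a' (Submodule.subset_span (by simp))] using this
  · simp [hS b' b, hbb', hS a' b, hba']
  · intro t
    -- the conjugate root element
    have hE : ∀ s, rt B' a' b' s ∈ M := by
      intro s
      obtain ⟨u, hu⟩ : ∃ u, u = ((g⁻¹ : GL ι F) : Matrix ι ι F) *ᵥ a' := ⟨_, rfl⟩
      obtain ⟨v, hv⟩ : ∃ v, v = ((g⁻¹ : GL ι F) : Matrix ι ι F) *ᵥ b' := ⟨_, rfl⟩
      have huu : B u u = 0 := by rw [hu, ← hB'a, ha']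
      have hvv : B v v = 0 := by rw [hv, ← hB'a, hb'b']
      have huv : B u v = 0 := by rw [hu, hv, ← hB'a, hS', hb'a]
      have h1 : rt B u v s ∈ H := (hH _).2 ⟨⟨1, one_ne_zero, fun x y => by
        rw [rt_isometry B hS huu hvv huv, one_mul]⟩, mul_mem (tv_mem_SL _ _) (tv_mem_SL _ _)⟩
      have h3 := M.mul_mem (M.mul_mem hg (hHM h1)) (M.inv_mem hg)
      have e : g * rt B u v s * g⁻¹ = rt B' a' b' s := by
        refine gl_ext fun x => ?_
        rw [rt_mulVec B' hS' hb'b' (by rw [hS', hb'a]), Units.val_mul, Units.val_mul, ← Matrix.mulVec_mulVec,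
          ← Matrix.mulVec_mulVec, rt_mulVec B hS hvv huv, Matrix.mulVec_sub, Matrix.mulVec_add,
          Matrix.mulVec_smul, Matrix.mulVec_smul, mulVec_inv_mulVec, hu, hv, mulVec_inv_mulVec,
          mulVec_inv_mulVec, ← hB'a, ← hB'a]
      rwa [e] at h3
    have hEB : ∀ s, rt B a b s ∈ M := fun s => hHM ((hH _).2 ⟨⟨1, one_ne_zero, fun x y => by
      rw [rt_isometry B hS haa hbb hab, one_mul]⟩, mul_mem (tv_mem_SL _ _) (tv_mem_SL _ _)⟩)
    have h1 : rt B' a' b' 1 * rt B a b (-t) * rt B' a' b' (-1) * rt B a b t ∈ M :=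
      M.mul_mem (M.mul_mem (M.mul_mem (hE 1) (hEB _)) (hE _)) (hEB _)
    convert h1 using 1
    refine gl_ext fun x => ?_
    rw [tv_mulVec (by simp [hS b' b, hbb', hS a' b, hba']), Units.val_mul, Units.val_mul, Units.val_mul,
      ← Matrix.mulVec_mulVec, ← Matrix.mulVec_mulVec, ← Matrix.mulVec_mulVec,
      rt_mulVec B hS hbb hab, rt_mulVec B' hS' hb'b' (by rw [hS', hb'a]), rt_mulVec B hS hbb hab,
      rt_mulVec B' hS' hb'b' (by rw [hS', hb'a])]
    simp [haa, hbb, hab, hS b a, haa', hab', hba', hbb', hba'', hbb'', ha', hb'b', hb'a, hS' a' b',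
      hS b' b, hS a' b, hS b' a, hS a' a]
    module

include h2 hS hN hH in
theorem maximal (hdim : 13 ≤ Fintype.card ι) :
    Cfsg.Geo.IsMaximalIn (Cfsg.Geo.specialLinear ι F) H := by
  have hnd : B.Nondegenerate := ⟨hN, fun y hy => hN y fun x => by rw [hS]; exact hy x⟩
  have haniso : ∀ s t : ι → F, ∃ e ∈ orth B {s, t}, B e e ≠ 0 := fun s t =>
    exists_aniso B h2 hS hN _ (by have := dim_orth_two B s t; omega)
  obtain ⟨a₀, -, ha₀⟩ := haniso 0 0
  refine ⟨lt_of_le_of_ne (fun g hg => ((hH g).1 hg).2) fun heq => ?_, fun M hHM hMS => ?_⟩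
  · obtain ⟨d, hd, hdd⟩ := haniso a₀ a₀
    have hda : B d a₀ = 0 := hd a₀ (by simp)
    have h0 : (B.flip a₀) d = 0 := by simpa using hda
    obtain ⟨⟨c, -, hc⟩, -⟩ := (hH _).1 (heq ▸ tv_mem_SL d (B.flip a₀) : tv d (B.flip a₀) ∈ H)
    have h1 := hc d d
    have h3 := hc a₀ d
    rw [tv_mulVec h0] at h1
    rw [tv_mulVec h0, tv_mulVec h0] at h3
    simp [hda, hS a₀ d] at h1 h3
    rcases h3 with h3 | h3
    · exact ha₀ h3
    · exact hdd h3
  by_cases hMH : M ≤ H
  · exact Or.inl (le_antisymm hMH hHM)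
  right
  obtain ⟨g, hgM, hgH⟩ := SetLike.not_le_iff_exists.1 hMH
  -- transport
  have hmap : ∀ {h : GL ι F} {w z : ι → F}, h ∈ M →
      (∀ x y, B ((h : Matrix ι ι F) *ᵥ x) ((h : Matrix ι ι F) *ᵥ y) = B x y) → Pair B M w z →
      Pair B M ((h : Matrix ι ι F) *ᵥ w) ((h : Matrix ι ι F) *ᵥ z) := by
    intro h w z hh hiso hP
    refine ⟨by rw [hiso, hP.1], fun t => ?_⟩
    have h1 := M.mul_mem (M.mul_mem hh (hP.2 t)) (M.inv_mem hh)
    rw [conj_tv h (by simp [hP.1])] at h1
    convert h1 using 2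
    refine LinearMap.ext fun x => ?_
    simp [Matrix.toLin'_apply]
    left
    conv_lhs => rw [← mulVec_inv_mulVec h x, hiso]
    rw [Matrix.coe_units_inv]
  -- a root subgroup with independent vectors
  obtain ⟨w, z, hw0, hPwz, hzw⟩ : ∃ w z, w ≠ 0 ∧ Pair B M w z ∧ z ∉ Submodule.span F {w} := by
    by_contra hcon
    push Not at hcon
    obtain ⟨w, b, hw0, hb0, hbb, hP⟩ := exists_pair B h2 hS hN H hH hdim hHM hgM (hMS hgM) hgH
    obtain ⟨c, hc⟩ := Submodule.mem_span_singleton.1 (hcon w b hw0 hP)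
    have hc0 : c ≠ 0 := fun h => hb0 (by rw [← hc, h, zero_smul])
    have hww : B w w = 0 := by
      rw [← hc] at hbb
      simpa [hc0] using hbb
    have hPw : Pair B M w w := ⟨hww, fun t => by
      convert hP.2 (t / c) using 2
      refine LinearMap.ext fun x => ?_
      simp [← hc]
      field_simp⟩
    obtain ⟨e, hee, hwe⟩ : ∃ e, B e e ≠ 0 ∧ B w e ≠ 0 := by
      obtain ⟨y, hy⟩ : ∃ y, B w y ≠ 0 := by
        by_contra h
        push Not at h
        exact hw0 (hN w h)
      by_cases hyy : B y y = 0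
      · refine ⟨w + y, ?_, by simpa [hww] using hy⟩
        simp [hww, hyy, hS y w]
        rw [← two_mul]
        exact mul_ne_zero h2 hy
      · exact ⟨y, hyy, hy⟩
    obtain ⟨d, hd, hdd⟩ := haniso w e
    obtain ⟨h, hhH, hiso, hhx⟩ := exists_two_refl B h2 hS H hH hee hdd
    obtain ⟨v, hv⟩ : ∃ v, v = (h : Matrix ι ι F) *ᵥ w := ⟨_, rfl⟩
    have hPv : Pair B M v v := hv ▸ hmap (hHM hhH) hiso hPw
    have hve := hhx w (by rw [hS]; exact hd w (by simp))
    rw [← hv] at hve
    have hwv : B w v ≠ 0 := by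
      rw [hve]
      simp [hww, hee, hwe, h2]
    -- conjugate
    obtain ⟨β, hβ⟩ : ∃ β, β = B w v := ⟨_, rfl⟩
    have h0 : ((1 : F) • B.flip v) v = 0 := by simp [hPv.1]
    have hP2 : Pair B M (w + β • v) (w - β • v) := by
      refine ⟨?_, fun t => ?_⟩
      · simp [hww, hPv.1, hS v w, ← hβ]
      have h1 := M.mul_mem (M.mul_mem (hPv.2 1) (hPw.2 t)) (M.inv_mem (hPv.2 1))
      rw [conj_tv _ (by simp [hww]), tv_inv h0] at h1
      convert h1 using 2
      · rw [tv_mulVec h0]; simp [hβ]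
      · refine LinearMap.ext fun x => ?_
        have h5 : (-((1 : F) • B.flip v)) v = 0 := by simp [hPv.1]
        rw [LinearMap.comp_apply, Matrix.toLin'_apply, tv_mulVec h5]
        simp [hS v w, ← hβ]
        left
        ring
    have hne : w + β • v ≠ 0 := fun h9 => hwv (by
      have := congrArg (fun y => B y w) h9
      simpa [hww, hS v w, ← hβ] using this)
    obtain ⟨k, hk⟩ := Submodule.mem_span_singleton.1 (hcon _ _ hne hP2)
    have h6 := congrArg (fun y => B y v) hk
    have h7 := congrArg (fun y => B y w) hk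
    simp [hww, hPv.1, hS v w, ← hβ] at h6 h7
    have hk1 : k = 1 := by
      have h6' : (k - 1) * β = 0 := by linear_combination h6
      exact sub_eq_zero.1 ((mul_eq_zero.1 h6').resolve_right (hβ ▸ hwv))
    rw [hk1, one_mul] at h7
    have h8 : (2 : F) * (β * β) = 0 := by linear_combination h7
    exact hwv (hβ ▸ by simpa [h2] using h8)
  -- all functionals at `w`
  have hfull : ∀ x, B x w = 0 → Pair B M w x := by
    let Φ : Submodule F (ι → F) :=
      { carrier := {x | Pair B M w x}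
        zero_mem' := ⟨by simp, fun t => by rw [map_zero, smul_zero, tv_zero]; exact M.one_mem⟩
        add_mem' := fun {x y} hx hy => ⟨by simp [hx.1, hy.1], fun t => by
          rw [map_add, smul_add, ← tv_mul (by simp [hx.1]) (by simp [hy.1])]
          exact M.mul_mem (hx.2 t) (hy.2 t)⟩
        smul_mem' := fun c x hx => ⟨by simp [hx.1], fun t => by
          rw [map_smul, smul_smul]; exact hx.2 _⟩ }
    have hzΦ : z ∈ Φ := hPwz
    have hkey : ∀ a, B a w = 0 → B a z ≠ 0 → B a a ≠ 0 → a ∈ Φ := by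
      intro a haw haz haa
      obtain ⟨d, hd, hdd⟩ := haniso w z
      obtain ⟨h, hhH, hiso, hhx⟩ := exists_two_refl B h2 hS H hH haa hdd
      have h1 : (h : Matrix ι ι F) *ᵥ z ∈ Φ := by
        have := hmap (hHM hhH) hiso hPwz
        rwa [hhx w (by rw [hS]; exact hd w (by simp)), hS w a, haw, mul_zero, zero_div, zero_smul,
          sub_zero] at this
      rw [hhx z (by rw [hS]; exact hd z (by simp)), Submodule.sub_mem_iff_right _ hzΦ,
        Submodule.smul_mem_iff _ (div_ne_zero (mul_ne_zero h2 (by rwa [hS])) haa)] at h1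
      exact h1
    have hkey2 : ∀ x, B x w = 0 → B x z ≠ 0 → x ∈ Φ := by
      intro x hxw hxz
      by_cases hxx : B x x = 0
      swap
      · exact hkey x hxw hxz hxx
      obtain ⟨r, hr, hrr⟩ := exists_aniso B h2 hS hN (orth B {w, z, x}) (by
        have := dim_orth_three B w z x; omega)
      have hrw : B r w = 0 := hr w (by simp)
      have hrz : B r z = 0 := hr z (by simp)
      have hrx : B r x = 0 := hr x (by simp)
      have h1 := hkey (x + r) (by simp [hxw, hrw]) (by simpa [hrz] using hxz)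
        (by simpa [hxx, hrx, hS x r] using hrr)
      have h3 := hkey (x - r) (by simp [hxw, hrw]) (by simpa [hrz] using hxz)
        (by simpa [hxx, hrx, hS x r] using hrr)
      have h4 := Φ.smul_mem (2 : F)⁻¹ (Φ.add_mem h1 h3)
      rwa [show x + r + (x - r) = (2 : F) • x by module, smul_smul, inv_mul_cancel₀ h2, one_smul] at h4
    obtain ⟨y₀, hy₀w, hy₀z⟩ : ∃ y, B y w = 0 ∧ B y z ≠ 0 := by
      obtain ⟨φ, hφ, hφ0⟩ := Submodule.exists_dual_map_eq_bot_of_notMem hzw inferInstance
      obtain ⟨y, hy⟩ := Quad.exists_rep B hnd φ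
      refine ⟨y, ?_, by rw [hS, hy]; exact hφ⟩
      rw [hS, hy]
      have : φ w ∈ (Submodule.span F {w}).map φ :=
        Submodule.mem_map_of_mem (Submodule.mem_span_singleton_self w)
      rwa [hφ0, Submodule.mem_bot] at this
    intro x hxw
    by_cases hxz : B x z = 0
    · have h1 := hkey2 (x + y₀) (by simp [hxw, hy₀w]) (by simpa [hxz] using hy₀z)
      have h3 := hkey2 y₀ hy₀w hy₀z
      show x ∈ Φ
      have := Φ.sub_mem h1 h3
      rwa [add_sub_cancel_right] at this
    · exact hkey2 x hxw hxz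
  -- the centres
  let C : Set (ι → F) := {v | ∀ φ : (ι → F) →ₗ[F] F, φ v = 0 → tv v φ ∈ M}
  have hwC : w ∈ C := fun φ hφ => by
    obtain ⟨x, hx⟩ := Quad.exists_rep B hnd φ
    convert (hfull x (by rw [hS, hx, hφ])).2 1 using 2
    exact LinearMap.ext fun y => by simp [hx]
  have hCmap : ∀ {h : GL ι F} {v : ι → F}, h ∈ M → v ∈ C → (h : Matrix ι ι F) *ᵥ v ∈ C := by
    intro h v hh hv φ hφ
    have h0 : (φ ∘ₗ Matrix.toLin' (h : Matrix ι ι F)) v = 0 := by simpa using hφ
    have h1 := M.mul_mem (M.mul_mem hh (hv _ h0)) (M.inv_mem hh)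
    rw [conj_tv h h0] at h1
    convert h1 using 2
    refine LinearMap.ext fun x => ?_
    simp [Matrix.mulVec_mulVec, ← Units.val_mul]
  have hCsmul : ∀ (c : F) {v : ι → F}, v ∈ C → c • v ∈ C := by
    intro c v hv φ hφ
    by_cases hc : c = 0
    · rw [hc, zero_smul, FormMaxSL.tv_zero_vec]; exact M.one_mem
    have h0 : φ v = 0 := by simpa [hc] using hφ
    rw [tv_smul h0]
    exact hv _ (by simp [h0])
  have hCadd : ∀ {u v : ι → F}, u ∈ C → v ∈ C → u + v ∈ C := by
    intro u v hu hv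
    by_cases huv : u ∈ Submodule.span F {v}
    · obtain ⟨c, rfl⟩ := Submodule.mem_span_singleton.1 huv
      rw [show c • v + v = (c + 1) • v by module]
      exact hCsmul _ hv
    obtain ⟨φ, hφ, hφ0⟩ := Submodule.exists_dual_map_eq_bot_of_notMem huv inferInstance
    have hv0 : φ v = 0 := by
      have : φ v ∈ (Submodule.span F {v}).map φ :=
        Submodule.mem_map_of_mem (Submodule.mem_span_singleton_self v)
      rwa [hφ0, Submodule.mem_bot] at this
    have h1 : ((φ u)⁻¹ • φ) v = 0 := by simp [hv0]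
    have := hCmap (hv _ h1) hu
    rwa [tv_mulVec h1, LinearMap.smul_apply, smul_eq_mul, inv_mul_cancel₀ hφ, one_smul] at this
  let CS : Submodule F (ι → F) :=
    { carrier := C
      zero_mem' := by have := hCsmul 0 hwC; rwa [zero_smul] at this
      add_mem' := hCadd
      smul_mem' := fun c v hv => hCsmul c hv }
  have hCa : ∀ a, B a w ≠ 0 → B a a ≠ 0 → a ∈ CS := by
    intro a haw haa
    obtain ⟨d, hd, hdd⟩ := haniso w w
    obtain ⟨h, hhH, -, hhx⟩ := exists_two_refl B h2 hS H hH haa hdd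
    have h1 : (h : Matrix ι ι F) *ᵥ w ∈ CS := hCmap (hHM hhH) hwC
    rw [hhx w (by rw [hS]; exact hd w (by simp)), Submodule.sub_mem_iff_right _ (show w ∈ CS from hwC),
      Submodule.smul_mem_iff _ (div_ne_zero (mul_ne_zero h2 (by rwa [hS])) haa)] at h1
    exact h1
  have hCb : ∀ x, B x w ≠ 0 → x ∈ CS := by
    intro x hxw
    by_cases hxx : B x x = 0
    swap
    · exact hCa x hxw hxx
    obtain ⟨r, hr, hrr⟩ := haniso w x
    have hrw : B r w = 0 := hr w (by simp)
    have hrx : B r x = 0 := hr x (by simp)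
    have h1 := hCa (x + r) (by simpa [hrw] using hxw) (by simpa [hxx, hrx, hS x r] using hrr)
    have h3 := hCa (x - r) (by simpa [hrw] using hxw) (by simpa [hxx, hrx, hS x r] using hrr)
    have h4 := CS.smul_mem (2 : F)⁻¹ (CS.add_mem h1 h3)
    rwa [show x + r + (x - r) = (2 : F) • x by module, smul_smul, inv_mul_cancel₀ h2, one_smul] at h4
  refine le_antisymm hMS (SL_le_of_tv_mem M fun v φ hφ => ?_)
  have hv : v ∈ CS := by
    obtain ⟨y, hy⟩ : ∃ y, B y w ≠ 0 := by
      by_contra h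
      push Not at h
      exact hw0 (hN w fun y => by rw [hS]; exact h y)
    by_cases hvw : B v w = 0
    · have h1 := CS.sub_mem (hCb (v + y) (by simpa [hvw] using hy)) (hCb y hy)
      rwa [add_sub_cancel_right] at h1
    · exact hCb v hvw
  exact hv φ hφ

end CfsgLib.Lie.OrthMaxSL
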