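import Cfsg.Prelude.Def_GeometricClasses
import Cfsg.Agent.Lie.Sp
import Cfsg.Agent.Lie.Witt
import Cfsg.Agent.Lie.Quad

/-!
In characteristic two the orthogonal group of a quadratic form with polar form the symplectic
form is maximal in the symplectic group.
-/

set_option autoImplicit false
set_option linter.unusedSimpArgs false

namespace CfsgLib.Lie.OrthMaxSp

open Matrix

variable {m : ℕ} {F : Type*} [Field F]

/-- the symplectic transvection as an element of `GL` -/
noncomputable def tvGL (w : Sp.V m F) (c : F) : GL (Fin m ⊕ Fin m) F :=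
  (IsUnit.of_mul_eq_one _ (congrArg Subtype.val (mul_inv_cancel (Sp.tv w c))) :
    IsUnit ((Sp.tv w c : Sp.G m F) : Matrix (Fin m ⊕ Fin m) (Fin m ⊕ Fin m) F)).unit

theorem tvGL_mulVec (w : Sp.V m F) (c : F) (x : Sp.V m F) :
    ((tvGL w c : GL (Fin m ⊕ Fin m) F) : Matrix (Fin m ⊕ Fin m) (Fin m ⊕ Fin m) F) *ᵥ x = x + (c * Sp.bf m F x w) • w :=
  Sp.act_tv w c x

theorem gl_ext {g h : GL (Fin m ⊕ Fin m) F}
    (H : ∀ x : Sp.V m F, (g : Matrix (Fin m ⊕ Fin m) (Fin m ⊕ Fin m) F) *ᵥ x = (h : Matrix (Fin m ⊕ Fin m) (Fin m ⊕ Fin m) F) *ᵥ x) : g = h :=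
  Units.ext (Matrix.toLin'.injective (LinearMap.ext fun x => by simpa [Matrix.toLin'_apply] using H x))

theorem mem_spGL {g : GL (Fin m ⊕ Fin m) F} :
    g ∈ Cfsg.spGL m F ↔ ∀ u v : Sp.V m F,
      Sp.bf m F ((g : Matrix (Fin m ⊕ Fin m) (Fin m ⊕ Fin m) F) *ᵥ u) ((g : Matrix (Fin m ⊕ Fin m) (Fin m ⊕ Fin m) F) *ᵥ v) = Sp.bf m F u v := by
  simp only [Sp.bf_eq]
  rfl

theorem tvGL_mem (w : Sp.V m F) (c : F) : tvGL w c ∈ Cfsg.spGL m F :=
  mem_spGL.2 fun u v => Sp.bf_act (Sp.tv w c) u v

theorem tvGL_mul (w : Sp.V m F) (c d : F) : tvGL w c * tvGL w d = tvGL w (c + d) := by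
  apply gl_ext
  intro x
  have h := congrArg (fun g => Sp.act g x) (Sp.tv_add w c d)
  simp only [Sp.act_mul, Sp.act_tv] at h
  rw [Units.val_mul, ← Matrix.mulVec_mulVec, tvGL_mulVec, tvGL_mulVec, tvGL_mulVec]
  exact h

theorem tvGL_zero (w : Sp.V m F) : tvGL w 0 = 1 := by
  apply gl_ext; intro x; simp [tvGL_mulVec]

theorem tvGL_zero_vec (c : F) : tvGL (0 : Sp.V m F) c = 1 := by
  apply gl_ext; intro x; simp [tvGL_mulVec]

theorem tvGL_smul (w : Sp.V m F) (a c : F) : tvGL (a • w) c = tvGL w (a * a * c) := by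
  apply gl_ext
  intro x
  simp only [tvGL_mulVec, map_smul, smul_smul, smul_eq_mul]
  congr 2
  ring

theorem conj_tvGL {g : GL (Fin m ⊕ Fin m) F} (hg : g ∈ Cfsg.spGL m F) (w : Sp.V m F) (c : F) :
    g * tvGL w c * g⁻¹ = tvGL ((g : Matrix (Fin m ⊕ Fin m) (Fin m ⊕ Fin m) F) *ᵥ w) c := by
  apply gl_ext
  intro x
  obtain ⟨y, rfl⟩ : ∃ y, (g : Matrix (Fin m ⊕ Fin m) (Fin m ⊕ Fin m) F) *ᵥ y = x :=
    ⟨((g⁻¹ : GL (Fin m ⊕ Fin m) F) : Matrix (Fin m ⊕ Fin m) (Fin m ⊕ Fin m) F) *ᵥ x, by
      rw [Matrix.mulVec_mulVec, ← Units.val_mul, mul_inv_cancel, Units.val_one, Matrix.one_mulVec]⟩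
  have hinv : ((g⁻¹ : GL (Fin m ⊕ Fin m) F) : Matrix (Fin m ⊕ Fin m) (Fin m ⊕ Fin m) F) *ᵥ ((g : Matrix (Fin m ⊕ Fin m) (Fin m ⊕ Fin m) F) *ᵥ y) = y := by
    rw [Matrix.mulVec_mulVec, ← Units.val_mul, inv_mul_cancel, Units.val_one, Matrix.one_mulVec]
  rw [Units.val_mul, Units.val_mul, ← Matrix.mulVec_mulVec, ← Matrix.mulVec_mulVec, hinv,
    tvGL_mulVec, tvGL_mulVec, mem_spGL.1 hg, Matrix.mulVec_add, Matrix.mulVec_smul]

/-- A subgroup of `Sp` containing all transvections is all of `Sp`. -/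
theorem spGL_le_of_tvGL_mem (M : Subgroup (GL (Fin m ⊕ Fin m) F))
    (h : ∀ w c, tvGL (m := m) (F := F) w c ∈ M) : Cfsg.spGL m F ≤ M := by
  have hu : ∀ g : Sp.G m F, IsUnit (g : Matrix (Fin m ⊕ Fin m) (Fin m ⊕ Fin m) F) := fun g =>
    IsUnit.of_mul_eq_one _ (congrArg Subtype.val (mul_inv_cancel g))
  let ψ : Sp.G m F →* GL (Fin m ⊕ Fin m) F :=
    { toFun := fun g => (hu g).unit
      map_one' := Units.ext rfl
      map_mul' := fun a b => Units.ext rfl }
  have htop : M.comap ψ = ⊤ := Sp.eq_top_of_tv_mem _ fun w c => h w c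
  intro g hg
  have hg' : (g : Matrix (Fin m ⊕ Fin m) (Fin m ⊕ Fin m) F) ∈ Matrix.symplecticGroup (Fin m) F :=
    Sp.mem_iff_bf.2 (mem_spGL.1 hg)
  have hmem : (⟨_, hg'⟩ : Sp.G m F) ∈ M.comap ψ := htop ▸ Subgroup.mem_top _
  have e : ψ ⟨_, hg'⟩ = g := Units.ext rfl
  rw [Subgroup.mem_comap, e] at hmem
  exact hmem

section

variable [Finite F] [CharP F 2]

theorem maximal (hm : 2 ≤ m) (Q : QuadraticForm F (Sp.V m F))
    (hpol : ∀ u v, QuadraticMap.polar Q u v = Sp.bf m F u v)
    (H : Subgroup (GL (Fin m ⊕ Fin m) F))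
    (hH : ∀ g : GL (Fin m ⊕ Fin m) F, g ∈ H ↔ ∀ x, Q ((g : Matrix (Fin m ⊕ Fin m) (Fin m ⊕ Fin m) F) *ᵥ x) = Q x) :
    H < Cfsg.spGL m F ∧ ∀ M, H ≤ M → M ≤ Cfsg.spGL m F → M = H ∨ M = Cfsg.spGL m F := by
  have h2 : (2 : F) = 0 := CharTwo.two_eq_zero
  have hQadd : ∀ u v, Q (u + v) = Q u + Q v + Sp.bf m F u v := fun u v => by
    rw [QuadraticMap.map_add (f := ⇑Q), hpol]
  have hQsmul : ∀ (a : F) v, Q (a • v) = a * a * Q v := fun a v => by
    rw [QuadraticMap.map_smul, smul_eq_mul]
  have hle : H ≤ Cfsg.spGL m F := by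
    intro g hg
    refine mem_spGL.2 fun u v => ?_
    rw [← hpol, ← hpol, QuadraticMap.polar, QuadraticMap.polar, ← Matrix.mulVec_add,
      (hH g).1 hg, (hH g).1 hg, (hH g).1 hg]
  have hnd : (QuadraticMap.polarBilin Q).Nondegenerate := by
    have e : ∀ u v, QuadraticMap.polarBilin Q u v = Sp.bf m F u v := hpol
    constructor
    · intro u hu
      by_contra h0
      obtain ⟨v, hv⟩ := Sp.exists_bf_eq_one h0
      have := hu v
      rw [e, hv] at this
      exact one_ne_zero this
    · intro u hu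
      by_contra h0
      obtain ⟨v, hv⟩ := Sp.exists_bf_eq_one h0
      have := hu v
      rw [e, Sp.bf_swap, hv] at this
      exact one_ne_zero (neg_eq_zero.1 this)
  -- transvections of the orthogonal group
  have hrefl : ∀ w, Q w ≠ 0 → tvGL w (Q w)⁻¹ ∈ H := by
    intro w hw
    refine (hH _).2 fun x => ?_
    rw [tvGL_mulVec, hQadd, hQsmul, map_smul, smul_eq_mul]
    field_simp
    linear_combination (Sp.bf m F x w) ^ 2 * h2
  -- a hyperbolic plane realises any pair of values of Q with any product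
  obtain ⟨e, he0, f, hf⟩ : ∃ e : Sp.V m F, e ≠ 0 ∧ ∃ f, Sp.bf m F e f = 1 := by
    have h0 : (Sp.e (F := F) (⟨0, by omega⟩ : Fin m)) ≠ 0 := by
      intro h
      have := congrFun h (.inl ⟨0, by omega⟩)
      simp [Sp.e] at this
    exact ⟨_, h0, Sp.exists_bf_eq_one h0⟩
  -- the two-dimensional complement gives vectors with any value
  have hlevel : ∀ α : F, ∃ v : Sp.V m F, v ≠ 0 ∧ Q v = α := by
    intro α
    -- choose `y` orthogonal to `e` with nonzero value or adjust along the pair
    by_cases hQe : Q e = 0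
    · refine ⟨(α - Q f) • e + f, ?_, ?_⟩
      · intro h
        have := congrArg (Sp.bf m F e) h
        rw [map_add, map_smul, Sp.bf_self, hf, map_zero] at this
        simp at this
      · rw [hQadd, hQsmul, map_smul, LinearMap.smul_apply, hf, hQe, smul_eq_mul]; ring
    · by_cases hα : α = 0
      · -- an isotropic vector exists in dimension at least three
        obtain ⟨z, hz0, hze, hzf⟩ : ∃ z : Sp.V m F, z ≠ 0 ∧ Sp.bf m F e z = 0 ∧ Sp.bf m F f z = 0 := by
          let L : Sp.V m F →ₗ[F] F × F := (Sp.bf m F e).prod (Sp.bf m F f)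
          have hk : LinearMap.ker L ≠ ⊥ := by
            intro h
            have := L.finrank_range_add_finrank_ker
            rw [h, finrank_bot, Module.finrank_fintype_fun_eq_card, Fintype.card_sum,
              Fintype.card_fin] at this
            have h1 := Submodule.finrank_le (LinearMap.range L)
            rw [Module.finrank_prod, Module.finrank_self] at h1
            omega
          obtain ⟨z, hz, hz0⟩ := Submodule.exists_mem_ne_zero_of_ne_bot hk
          rw [LinearMap.mem_ker] at hz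
          exact ⟨z, hz0, congrArg Prod.fst hz, congrArg Prod.snd hz⟩
        obtain ⟨r, hr⟩ := Quad.char_two_sq (Q z / Q e)
        refine ⟨r • e + z, ?_, ?_⟩
        · intro h
          have := congrArg (Sp.bf m F f) h
          rw [map_add, map_smul, hzf, Sp.bf_swap, hf, map_zero] at this
          simp only [smul_eq_mul, mul_neg, mul_one, add_zero, neg_eq_zero] at this
          rw [this, zero_smul, zero_add] at h
          exact hz0 h
        · rw [hQadd, hQsmul, map_smul, LinearMap.smul_apply, hze, hr, hα, smul_eq_mul]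
          field_simp
          linear_combination Q z * h2
      · obtain ⟨r, hr⟩ := Quad.char_two_sq (α / Q e)
        refine ⟨r • e, ?_, ?_⟩
        · intro h
          rcases smul_eq_zero.1 h with h' | h'
          · apply hα
            have : α / Q e = 0 := by rw [← hr, h', mul_zero]
            simpa [hQe] using this
          · exact he0 h'
        · rw [hQsmul, hr]; field_simp
  refine ⟨lt_of_le_of_ne hle ?_, ?_⟩
  · -- a transvection at an isotropic vector is not orthogonal
    intro h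
    obtain ⟨v, hv0, hv⟩ := hlevel 0
    obtain ⟨x, hx⟩ := Sp.exists_bf_eq_one hv0
    have := (hH _).1 (h ▸ tvGL_mem v 1 : tvGL v 1 ∈ H) x
    rw [tvGL_mulVec, hQadd, hQsmul, hv, map_smul, Sp.bf_swap, hx] at this
    simp at this
  intro M hHM hMS
  by_cases hMH : M ≤ H
  · exact Or.inl (le_antisymm hMH hHM)
  right
  refine le_antisymm hMS (spGL_le_of_tvGL_mem M ?_)
  obtain ⟨g, hgM, hgH⟩ := SetLike.not_le_iff_exists.1 hMH
  -- the set of levels
  let A : Set F := {α | ∀ v : Sp.V m F, v ≠ 0 → Q v = α → tvGL v 1 ∈ M}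
  -- one vector suffices for a level
  have hA : ∀ v : Sp.V m F, v ≠ 0 → tvGL v 1 ∈ M → Q v ∈ A := by
    intro v hv hvM v' hv' hvv'
    let φ : Submodule.span F {v} →ₗ[F] Sp.V m F :=
      (LinearMap.toSpanSingleton F (Sp.V m F) v') ∘ₗ
        (LinearEquiv.toSpanNonzeroSingleton F (Sp.V m F) v hv).symm.toLinearMap
    have hφ : ∀ c : F, φ ⟨c • v, Submodule.smul_mem _ c (Submodule.mem_span_singleton_self v)⟩ = c • v' := by
      intro c
      have e1 : (LinearEquiv.toSpanNonzeroSingleton F (Sp.V m F) v hv).symm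
          ⟨c • v, Submodule.smul_mem _ c (Submodule.mem_span_singleton_self v)⟩ = c := by
        rw [LinearEquiv.symm_apply_eq]; ext; rfl
      simp [φ, e1]
    have hinj : Function.Injective φ := by
      intro a b hab
      obtain ⟨a, ha⟩ := a
      obtain ⟨b, hb⟩ := b
      obtain ⟨ca, rfl⟩ := Submodule.mem_span_singleton.1 ha
      obtain ⟨cb, rfl⟩ := Submodule.mem_span_singleton.1 hb
      rw [hφ, hφ] at hab
      simp [smul_left_injective F hv' hab]
    obtain ⟨t, ht, htX⟩ := Witt.witt_quadratic Q hnd _ φ hinj (by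
      rintro ⟨a, ha⟩
      obtain ⟨ca, rfl⟩ := Submodule.mem_span_singleton.1 ha
      rw [hφ, hQsmul, hQsmul, hvv'])
    have hunit : IsUnit (LinearMap.toMatrix' t.toLinearMap) :=
      IsUnit.of_mul_eq_one (LinearMap.toMatrix' t.symm.toLinearMap) (by
        rw [← LinearMap.toMatrix'_comp]; simp)
    have htv : ∀ x, (hunit.unit : Matrix (Fin m ⊕ Fin m) (Fin m ⊕ Fin m) F) *ᵥ x = t x := fun x => by
      rw [IsUnit.unit_spec, ← Matrix.toLin'_apply, Matrix.toLin'_toMatrix']; rfl
    have htH : hunit.unit ∈ H := (hH _).2 fun x => by rw [htv, ht]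
    have hconj := M.mul_mem (M.mul_mem (hHM htH) hvM) (M.inv_mem (hHM htH))
    rw [conj_tvGL (hle htH), htv] at hconj
    have e2 : t v = v' := by
      have := htX ⟨v, Submodule.mem_span_singleton_self v⟩
      rw [this]
      have e3 := hφ 1
      simp only [one_smul] at e3
      exact e3
    rwa [e2] at hconj
  have h1A : (1 : F) ∈ A := by
    intro v hv hv1
    have := hHM (hrefl v (by rw [hv1]; exact one_ne_zero))
    rwa [hv1, inv_one] at this
  -- another level
  obtain ⟨β, hβ1, hβ⟩ : ∃ β, β ≠ 1 ∧ β ∈ A := by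
    -- a vector whose value changes
    obtain ⟨v, hv, hgv⟩ : ∃ v : Sp.V m F, Q v ≠ 0 ∧ Q ((g : Matrix (Fin m ⊕ Fin m) (Fin m ⊕ Fin m) F) *ᵥ v) ≠ Q v := by
      by_contra hcon
      push Not at hcon
      apply hgH
      refine (hH g).2 fun x => ?_
      by_contra hne
      have hsp := mem_spGL.1 (hMS hgM)
      have hx : Q x = 0 := by
        by_contra hx
        exact hne (hcon x hx)
      -- then `Q` vanishes on the orthogonal space of `x`
      have hperp : ∀ z, Sp.bf m F x z = 0 → Q z = 0 := by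
        intro z hz
        by_contra hz0
        have hxz : Q (x + z) ≠ 0 := by rwa [hQadd, hx, hz, zero_add, add_zero]
        have h3 := hcon _ hxz
        rw [Matrix.mulVec_add, hQadd, hQadd, hsp, hx, hz, hcon z hz0] at h3
        apply hne
        rw [hx]
        linear_combination h3
      have hx0 : x ≠ 0 := by
        rintro rfl
        apply hne
        simp
      obtain ⟨y, hy⟩ := Sp.exists_bf_eq_one hx0
      obtain ⟨z, hz0, hzx⟩ : ∃ z : Sp.V m F, z ≠ 0 ∧ Sp.bf m F x z = 0 ∧ Sp.bf m F y z = 0 := by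
        let L : Sp.V m F →ₗ[F] F × F := (Sp.bf m F x).prod (Sp.bf m F y)
        have hk : LinearMap.ker L ≠ ⊥ := by
          intro h
          have := L.finrank_range_add_finrank_ker
          rw [h, finrank_bot, Module.finrank_fintype_fun_eq_card, Fintype.card_sum,
            Fintype.card_fin] at this
          have h1 := Submodule.finrank_le (LinearMap.range L)
          rw [Module.finrank_prod, Module.finrank_self] at h1
          omega
        obtain ⟨z, hz, hz0⟩ := Submodule.exists_mem_ne_zero_of_ne_bot hk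
        rw [LinearMap.mem_ker] at hz
        exact ⟨z, hz0, congrArg Prod.fst hz, congrArg Prod.snd hz⟩
      obtain ⟨u, hu⟩ := Sp.exists_bf_eq_one hz0
      let u' := u - (Sp.bf m F x u) • y
      have hu'x : Sp.bf m F x u' = 0 := by
        simp only [u', map_sub, map_smul, hy, smul_eq_mul]; ring
      have hu'z : Sp.bf m F z u' = 1 := by
        simp only [u', map_sub, map_smul, smul_eq_mul, hu, Sp.bf_swap y z, hzx.2]
        ring
      have h5 := hQadd z u'
      rw [hperp _ (by rw [map_add, hzx.1, hu'x, add_zero]), hperp z hzx.1, hperp u' hu'x,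
        hu'z] at h5
      simp at h5
    obtain ⟨r, hr⟩ := Quad.char_two_sq (Q v)⁻¹
    have h := M.mul_mem (M.mul_mem hgM (hHM (hrefl v hv))) (M.inv_mem hgM)
    rw [conj_tvGL (hMS hgM), ← hr] at h
    have h' : tvGL (r • ((g : Matrix (Fin m ⊕ Fin m) (Fin m ⊕ Fin m) F) *ᵥ v)) 1 ∈ M := by rwa [tvGL_smul, mul_one]
    have hr0 : r ≠ 0 := by
      rintro rfl
      exact hv (by simpa using hr.symm)
    have hgv0 : (g : Matrix (Fin m ⊕ Fin m) (Fin m ⊕ Fin m) F) *ᵥ v ≠ 0 := by
      intro h0
      have e := congrArg (fun z => ((g⁻¹ : GL (Fin m ⊕ Fin m) F) : Matrix (Fin m ⊕ Fin m) (Fin m ⊕ Fin m) F) *ᵥ z) h0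
      simp only [Matrix.mulVec_mulVec, ← Units.val_mul, inv_mul_cancel, Units.val_one,
        Matrix.one_mulVec, Matrix.mulVec_zero] at e
      exact hv (by rw [e]; exact map_zero Q)
    refine ⟨_, ?_, hA _ (smul_ne_zero hr0 hgv0) h'⟩
    rw [hQsmul, hr]
    intro h1
    exact hgv (by field_simp at h1; exact h1)
  -- all levels
  have hall : ∀ γ, γ ∈ A := by
    intro γ
    obtain ⟨w', hw'0, hw'⟩ := hlevel β
    obtain ⟨u, hu⟩ := Sp.exists_bf_eq_one hw'0
    -- a vector `w` of value one with prescribed product with `w'`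
    obtain ⟨s, hs⟩ := Quad.char_two_sq ((γ + 1) / (1 + β))
    have h1β : (1 + β : F) ≠ 0 := fun h => hβ1 (by linear_combination h - h2)
    obtain ⟨z, hzw', hzu, hzQ⟩ : ∃ z, Sp.bf m F w' z = 0 ∧ Sp.bf m F u z = 0 ∧ Q z ≠ 0 := by
      let L : Sp.V m F →ₗ[F] F × F := (Sp.bf m F w').prod (Sp.bf m F u)
      have hL : ∀ z, z ∈ LinearMap.ker L ↔ Sp.bf m F w' z = 0 ∧ Sp.bf m F u z = 0 := by
        intro z; simp [L, Prod.ext_iff]
      by_contra hcon
      push Not at hcon
      have hk : LinearMap.ker L ≠ ⊥ := by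
        intro h
        have := L.finrank_range_add_finrank_ker
        rw [h, finrank_bot, Module.finrank_fintype_fun_eq_card, Fintype.card_sum,
          Fintype.card_fin] at this
        have h1 := Submodule.finrank_le (LinearMap.range L)
        rw [Module.finrank_prod, Module.finrank_self] at h1
        omega
      obtain ⟨z, hz, hz0⟩ := Submodule.exists_mem_ne_zero_of_ne_bot hk
      obtain ⟨y, hy⟩ := Sp.exists_bf_eq_one hz0
      let y' := y - (Sp.bf m F w' y) • u + (Sp.bf m F u y) • w'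
      have hy' : y' ∈ LinearMap.ker L := by
        rw [hL]
        constructor
        · simp only [y', map_add, map_sub, map_smul, hu, Sp.bf_self, smul_eq_mul]; ring
        · simp only [y', map_add, map_sub, map_smul, Sp.bf_self, Sp.bf_swap w' u, hu, smul_eq_mul]
          ring
      have hzy : Sp.bf m F z y' = 1 := by
        simp only [y', map_add, map_sub, map_smul, hy, Sp.bf_swap w' z, Sp.bf_swap u z,
          ((hL z).1 hz).1, ((hL z).1 hz).2, smul_eq_mul]
        ring
      have hzero : ∀ w ∈ LinearMap.ker L, Q w = 0 := fun w hw =>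
        hcon w ((hL w).1 hw).1 ((hL w).1 hw).2
      have := hQadd z y'
      rw [hzero _ (Submodule.add_mem _ hz hy'), hzero _ hz, hzero _ hy', hzy] at this
      simp at this
    obtain ⟨r, hr⟩ := Quad.char_two_sq ((1 - Q (s • u)) / Q z)
    have hwQ : Q (s • u + r • z) = 1 := by
      have e0 : Sp.bf m F (s • u) (r • z) = 0 := by simp [hzu]
      rw [hQadd, hQsmul r, e0, hr]
      field_simp
      ring
    have hwf : Sp.bf m F w' (s • u + r • z) = s := by
      rw [map_add, map_smul, map_smul, hu, hzw', smul_eq_mul, smul_eq_mul]; ring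
    have hwne : s • u + r • z ≠ 0 := by
      intro h
      rw [h] at hwQ
      simp at hwQ
    have hT := h1A _ hwne hwQ
    have hT' := hβ w' hw'0 hw'
    have hT'' := M.mul_mem (M.mul_mem hT' hT) (M.inv_mem hT')
    rw [conj_tvGL (tvGL_mem _ _), tvGL_mulVec, one_mul, Sp.bf_swap w' _, hwf] at hT''
    have hne : s • u + r • z + (-s) • w' ≠ 0 := by
      intro h
      have h9 := congrArg (Sp.bf m F w') h
      rw [map_add, hwf, map_smul, Sp.bf_self, map_zero] at h9
      have hs0 : s = 0 := by simpa using h9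
      apply hwne
      simpa [hs0] using h
    have hval : Q (s • u + r • z + (-s) • w') = γ := by
      rw [hQadd, hQsmul (-s), hwQ, hw', map_smul, Sp.bf_swap w' _, hwf, smul_eq_mul]
      have : s * s * (1 + β) = γ + 1 := by rw [hs]; field_simp
      linear_combination this + h2
    rw [← hval]
    exact hA _ hne hT''
  intro w c
  obtain ⟨r, hr⟩ := Quad.char_two_sq c
  by_cases h0 : r • w = 0
  · have : tvGL w c = 1 := by
      rw [← hr, ← mul_one (r * r), ← tvGL_smul, h0, tvGL_zero_vec]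
    rw [this]; exact M.one_mem
  · have := hall _ (r • w) h0 rfl
    rwa [tvGL_smul, mul_one, hr] at this

end

end CfsgLib.Lie.OrthMaxSp
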