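import Cfsg.Agent.Lie.QuadCount
import Cfsg.Agent.Lie.Witt

/-!
Orders of the orthogonal groups: counting hyperbolic pairs.
-/

set_option autoImplicit false
set_option linter.unusedSimpArgs false
set_option linter.unusedSectionVars false

namespace CfsgLib.Lie.OrthOrder

open Matrix

variable {F : Type*} [Field F]

/-- Linear isometries. -/
abbrev Iso {V : Type*} [AddCommGroup V] [Module F V] (Q : QuadraticForm F V) : Type _ :=
  {g : V ≃ₗ[F] V // ∀ v, Q (g v) = Q v}

theorem polar_eq {V : Type*} [AddCommGroup V] [Module F V] (Q : QuadraticForm F V) (x y : V) :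
    QuadraticMap.polar ⇑Q x y = Q (x + y) - Q x - Q y := rfl

theorem card_isometryGroup {ι : Type} [Fintype ι] [DecidableEq ι] {V : Type*} [AddCommGroup V]
    [Module F V] (Q : QuadraticForm F V) (f : (ι → F) → F) (e : (ι → F) ≃ₗ[F] V)
    (h : ∀ v, f v = Q (e v)) : Nat.card (Cfsg.isometryGroup F f) = Nat.card (Iso Q) := by
  let T := (Matrix.GeneralLinearGroup.toLin (n := ι) (R := F)).trans
    (LinearMap.GeneralLinearGroup.generalLinearEquiv F (ι → F))
  have hT : ∀ (g : GL ι F) v, T g v = (g : Matrix ι ι F) *ᵥ v := fun g v => rfl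
  refine Nat.card_congr ((T.toEquiv.trans
    { toFun := fun g => (e.symm.trans g).trans e
      invFun := fun g => (e.trans g).trans e.symm
      left_inv := fun g => by ext v; simp
      right_inv := fun g => by ext v; simp }).subtypeEquiv (fun g => ?_))
  constructor
  · intro hg v
    have := hg (e.symm v) 0
    change f ((g : Matrix ι ι F) *ᵥ e.symm v) = f (e.symm v) at this
    rw [h, h, e.apply_symm_apply] at this
    exact this
  · intro hg u v
    change f ((g : Matrix ι ι F) *ᵥ u) = f u
    rw [h, h, ← hT]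
    simpa using hg (e u)

theorem card_iso_congr {V W : Type*} [AddCommGroup V] [Module F V] [AddCommGroup W] [Module F W]
    (Q : QuadraticForm F V) (R : QuadraticForm F W) (e : V ≃ₗ[F] W) (h : ∀ v, R (e v) = Q v) :
    Nat.card (Iso Q) = Nat.card (Iso R) :=
  Nat.card_congr
    { toFun := fun g => ⟨(e.symm.trans g.1).trans e, fun w => by
        simp only [LinearEquiv.trans_apply]
        rw [h, g.2, ← h, e.apply_symm_apply]⟩
      invFun := fun g => ⟨(e.trans g.1).trans e.symm, fun v => by
        simp only [LinearEquiv.trans_apply]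
        rw [← h, e.apply_symm_apply, g.2, h]⟩
      left_inv := fun g => Subtype.ext (LinearEquiv.ext fun v => by simp)
      right_inv := fun g => Subtype.ext (LinearEquiv.ext fun v => by simp) }

section Step

variable {V V0 : Type*} [AddCommGroup V] [Module F V] [FiniteDimensional F V]
  [AddCommGroup V0] [Module F V0] [FiniteDimensional F V0]

theorem card_iso_step [Finite F] (Q0 : QuadraticForm F V0) (Q : QuadraticForm F V)
    (φ : (V0 × F × F) ≃ₗ[F] V) (hφ : ∀ z, Q (φ z) = Q0 z.1 + z.2.1 * z.2.2)
    (hQ : (QuadraticMap.polarBilin Q).Nondegenerate) :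
    Nat.card (Iso Q) = (Nat.card {v : V // Q v = 0} - 1) * Nat.card V0 * Nat.card (Iso Q0) := by
  classical
  have : Finite V := Module.finite_of_finite F
  have : Finite V0 := Module.finite_of_finite F
  have : Fintype V := Fintype.ofFinite V
  set P := fun x y : V => QuadraticMap.polar ⇑Q x y with hP
  have hpol : ∀ z z', P (φ z) (φ z') =
      QuadraticMap.polar ⇑Q0 z.1 z'.1 + (z.2.1 * z'.2.2 + z'.2.1 * z.2.2) := by
    intro z z'
    simp only [hP, polar_eq]
    rw [← map_add, hφ, hφ, hφ]
    simp only [Prod.fst_add, Prod.snd_add]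
    ring
  set e := φ (0, 1, 0) with he
  set f := φ (0, 0, 1) with hf
  have hQe : Q e = 0 := by simp [he, hφ]
  have hQf : Q f = 0 := by simp [hf, hφ]
  have hef : P e f = 1 := by
    rw [he, hf, hpol]
    simp [QuadraticMap.polar]
  -- one vector
  have h1 : ∀ x : {v : V // Q v = 0 ∧ v ≠ 0}, ∃ g : Iso Q, g.1 e = x.1 := by
    intro x
    have he0 : e ≠ 0 := fun h => by simp [hP, h] at hef
    let X := F ∙ e
    let co : X ≃ₗ[F] F := (LinearEquiv.toSpanNonzeroSingleton F V e he0).symm
    have hco : ∀ a : X, (a : V) = co a • e := fun a => by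
      conv_lhs => rw [← co.symm_apply_apply a]
      rfl
    obtain ⟨g, hg, hg'⟩ := Witt.witt_quadratic Q hQ X
      ((LinearMap.toSpanSingleton F _ x.1).comp co.toLinearMap)
      (fun a b h => co.injective (smul_left_injective F x.2.2 h)) (fun a => by
        change Q (co a • x.1) = _
        rw [hco a, QuadraticMap.map_smul, QuadraticMap.map_smul, x.2.1, hQe])
    refine ⟨⟨g, hg⟩, (hg' ⟨e, Submodule.mem_span_singleton_self e⟩).trans ?_⟩
    change co _ • x.1 = x.1
    rw [show co ⟨e, Submodule.mem_span_singleton_self e⟩ = 1 from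
      smul_left_injective F he0 (((hco _).symm.trans (one_smul F e).symm)), one_smul]
  -- pairs
  let Pr := Σ x : {v : V // Q v = 0 ∧ v ≠ 0}, {y : V // Q y = 0 ∧ P x.1 y = 1}
  have h2 : ∀ p : Pr, ∃ g : Iso Q, g.1 e = p.1.1 ∧ g.1 f = p.2.1 := by
    intro p
    let L : V → V → (F × F →ₗ[F] V) := fun a b =>
      (LinearMap.toSpanSingleton F V a).coprod (LinearMap.toSpanSingleton F V b)
    have hLQ : ∀ a b z, Q a = 0 → Q b = 0 → P a b = 1 → Q (L a b z) = z.1 * z.2 := by
      intro a b z ha hb hab
      change Q (z.1 • a + z.2 • b) = _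
      rw [QuadraticMap.map_add (f := ⇑Q), QuadraticMap.map_smul, QuadraticMap.map_smul,
        QuadraticMap.polar_smul_left, QuadraticMap.polar_smul_right, ha, hb]
      simp only [hP] at hab
      simp [hab]
    have hLinj : ∀ a b, Q a = 0 → Q b = 0 → P a b = 1 → Function.Injective (L a b) := by
      intro a b ha hb hab
      simp only [hP] at hab
      rw [injective_iff_map_eq_zero]
      intro z hz
      have hz' : z.1 • a + z.2 • b = 0 := hz
      have hza : P a (z.1 • a + z.2 • b) = z.2 := by
        simp only [hP]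
        rw [QuadraticMap.polar_add_right, QuadraticMap.polar_smul_right, QuadraticMap.polar_smul_right,
          QuadraticMap.polar_self, ha, hab]
        simp
      have hzb : P b (z.1 • a + z.2 • b) = z.1 := by
        simp only [hP]
        rw [QuadraticMap.polar_add_right, QuadraticMap.polar_smul_right, QuadraticMap.polar_smul_right,
          QuadraticMap.polar_self, hb, QuadraticMap.polar_comm (f := ⇑Q) b a, hab]
        simp
      rw [hz'] at hza hzb
      simp only [hP, QuadraticMap.polar_zero_right] at hza hzb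
      exact Prod.ext hzb.symm hza.symm
    let I := LinearEquiv.ofInjective (L e f) (hLinj e f hQe hQf hef)
    obtain ⟨g, hg, hg'⟩ := Witt.witt_quadratic Q hQ _ ((L p.1.1 p.2.1).comp I.symm.toLinearMap)
      ((hLinj _ _ p.1.2.1 p.2.2.1 p.2.2.2).comp I.symm.injective) (fun a => by
        change Q (L p.1.1 p.2.1 (I.symm a)) = _
        rw [hLQ _ _ _ p.1.2.1 p.2.2.1 p.2.2.2, ← hLQ e f (I.symm a) hQe hQf hef]
        exact congrArg Q (congrArg Subtype.val (I.apply_symm_apply a)))
    refine ⟨⟨g, hg⟩, ?_, ?_⟩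
    · have h := hg' (I (1, 0))
      simp only [LinearMap.comp_apply, LinearEquiv.coe_coe, I.symm_apply_apply] at h
      have hI : ((I (1, 0) : _) : V) = L e f (1, 0) := rfl
      rw [hI] at h
      simpa [L] using h
    · have h := hg' (I (0, 1))
      simp only [LinearMap.comp_apply, LinearEquiv.coe_coe, I.symm_apply_apply] at h
      have hI : ((I (0, 1) : _) : V) = L e f (0, 1) := rfl
      rw [hI] at h
      simpa [L] using h
  -- stabiliser
  let S := {g : Iso Q // g.1 e = e ∧ g.1 f = f}
  have hgP : ∀ (g : Iso Q) x y, P (g.1 x) (g.1 y) = P x y := fun g x y => by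
    simp only [hP, polar_eq]; rw [← map_add, g.2, g.2, g.2]
  have hS : Nat.card S = Nat.card (Iso Q0) := by
    let up : Iso Q0 → S := fun h => ⟨⟨(φ.symm.trans (h.1.prodCongr (LinearEquiv.refl F (F × F)))).trans φ,
      fun v => by
        simp only [LinearEquiv.trans_apply]
        rw [hφ]
        conv_rhs => rw [← φ.apply_symm_apply v, hφ]
        simp [h.2]⟩, by simp [he], by simp [hf]⟩
    refine (Nat.card_eq_of_bijective up ⟨fun a b h => ?_, fun g => ?_⟩).symm
    · refine Subtype.ext (LinearEquiv.ext fun w => ?_)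
      have := congrArg (fun s : S => φ.symm (s.1.1 (φ (w, 0, 0)))) h
      simpa [up] using congrArg Prod.fst this
    · have hw : ∀ w, g.1.1 (φ (w, 0, 0)) = φ ((φ.symm (g.1.1 (φ (w, 0, 0)))).1, 0, 0) := by
        intro w
        set z := φ.symm (g.1.1 (φ (w, 0, 0))) with hz
        have hz' : φ z = g.1.1 (φ (w, 0, 0)) := φ.apply_symm_apply _
        have a1 := hgP g.1 e (φ (w, 0, 0))
        have a2 := hgP g.1 f (φ (w, 0, 0))
        rw [g.2.1, ← hz', he, hpol, hpol] at a1
        rw [g.2.2, ← hz', hf, hpol, hpol] at a2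
        simp [QuadraticMap.polar] at a1 a2
        rw [← hz']
        exact congrArg φ (Prod.ext rfl (Prod.ext a2 a1))
      let g0 : V0 →ₗ[F] V0 := (LinearMap.fst F V0 (F × F)).comp
        (φ.symm.toLinearMap.comp (g.1.1.toLinearMap.comp (φ.toLinearMap.comp (LinearMap.inl F V0 (F × F)))))
      have hg0 : ∀ w, g.1.1 (φ (w, 0, 0)) = φ (g0 w, 0, 0) := hw
      have hinj : Function.Injective g0 := fun a b h => by
        have hab : g.1.1 (φ (a, 0, 0)) = g.1.1 (φ (b, 0, 0)) := by rw [hg0, hg0, h]
        exact congrArg Prod.fst (φ.injective (g.1.1.injective hab))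
      refine ⟨⟨LinearEquiv.ofInjectiveEndo g0 hinj, fun w => ?_⟩, Subtype.ext (Subtype.ext (LinearEquiv.ext fun v => ?_))⟩
      · have := g.1.2 (φ (w, 0, 0))
        rw [hg0, hφ, hφ] at this
        simpa using this
      · obtain ⟨⟨w, x, y⟩, rfl⟩ := φ.surjective v
        have hdec : φ (w, x, y) = φ (w, 0, 0) + x • e + y • f := by
          rw [he, hf, ← map_smul, ← map_smul, ← map_add, ← map_add]; simp
        conv_rhs => rw [hdec, map_add, map_add, map_smul, map_smul, g.2.1, g.2.2, hg0]
        simp [up, he, hf, ← map_smul, ← map_add]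
  -- orbit
  choose t2 ht2 using h2
  have hcard : Nat.card (Iso Q) = Nat.card Pr * Nat.card S := by
    rw [← Nat.card_prod]
    let proj : Iso Q → Pr := fun g => ⟨⟨g.1 e, (g.2 e).trans hQe, fun h => by
        have := hgP g e f; rw [h, hef] at this; simp [hP] at this⟩,
      ⟨g.1 f, (g.2 f).trans hQf, (hgP g e f).trans hef⟩⟩
    refine Nat.card_congr
      { toFun := fun g => (proj g, ⟨⟨g.1.trans (t2 (proj g)).1.symm, fun v => by
          rw [LinearEquiv.trans_apply]
          conv_lhs => rw [← (t2 (proj g)).2, LinearEquiv.apply_symm_apply, g.2]⟩, by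
          change (t2 (proj g)).1.symm (g.1 e) = e
          rw [LinearEquiv.symm_apply_eq]; exact (ht2 (proj g)).1.symm, by
          change (t2 (proj g)).1.symm (g.1 f) = f
          rw [LinearEquiv.symm_apply_eq]; exact (ht2 (proj g)).2.symm⟩)
        invFun := fun y => ⟨y.2.1.1.trans (t2 y.1).1, fun v => by
          rw [LinearEquiv.trans_apply, (t2 y.1).2, y.2.1.2]⟩
        left_inv := fun g => Subtype.ext (LinearEquiv.ext fun v => by simp)
        right_inv := fun y => ?_ }
    obtain ⟨p, s⟩ := y
    have hp : proj ⟨s.1.1.trans (t2 p).1, fun v => by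
        rw [LinearEquiv.trans_apply, (t2 p).2, s.1.2]⟩ = p := by
      refine Sigma.subtype_ext (Subtype.ext ?_) ?_
      · change (t2 p).1 (s.1.1 e) = p.1.1
        rw [s.2.1, (ht2 p).1]
      · change (t2 p).1 (s.1.1 f) = p.2.1
        rw [s.2.2, (ht2 p).2]
    refine Prod.ext hp (Subtype.ext (Subtype.ext (LinearEquiv.ext fun v => ?_)))
    change (t2 (proj _)).1.symm ((t2 p).1 (s.1.1 v)) = s.1.1 v
    rw [hp, LinearEquiv.symm_apply_apply]
  -- count pairs
  choose t1 ht1 using h1
  have hPr : Nat.card Pr = (Nat.card {v : V // Q v = 0} - 1) * Nat.card V0 := by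
    have hfib : ∀ x : {v : V // Q v = 0 ∧ v ≠ 0},
        Nat.card {y : V // Q y = 0 ∧ P x.1 y = 1} = Nat.card V0 := by
      intro x
      rw [← Nat.card_congr ((t1 x).1.toEquiv.subtypeEquiv
        (p := fun y => Q y = 0 ∧ P e y = 1) (q := fun y => Q y = 0 ∧ P x.1 y = 1) (fun y => by
          show _ ↔ Q ((t1 x).1 y) = 0 ∧ P x.1 ((t1 x).1 y) = 1
          rw [(t1 x).2, ← ht1 x, hgP]))]
      refine Nat.card_congr
        { toFun := fun y => (φ.symm y.1).1
          invFun := fun w => ⟨φ (w, -Q0 w, 1), by simp [hφ], by rw [he, hpol]; simp [QuadraticMap.polar]⟩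
          left_inv := fun y => Subtype.ext ?_
          right_inv := fun w => by simp }
      obtain ⟨⟨w, a, b⟩, hy⟩ := φ.surjective y.1
      have a1 := y.2.1
      have a2 := y.2.2
      rw [← hy, hφ] at a1
      rw [← hy, he, hpol] at a2
      simp [QuadraticMap.polar] at a2
      simp [a2] at a1
      simp [← hy, a2, eq_neg_of_add_eq_zero_right a1]
    rw [Nat.card_sigma, Finset.sum_congr rfl (fun x _ => hfib x), Finset.sum_const, smul_eq_mul,
      Finset.card_univ, ← Nat.card_eq_fintype_card]
    congr 1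
    rw [Nat.card_eq_fintype_card, Nat.card_eq_fintype_card, Fintype.card_subtype, Fintype.card_subtype,
      ← Finset.card_erase_of_mem (a := (0 : V)) (by simp)]
    congr 1
    ext v
    simp [and_comm]
  rw [hcard, hPr, hS]

end Step

section Hyp

variable {W : Type*} [AddCommGroup W] [Module F W]

/-- The hyperbolic form. -/
def plusQ (m : ℕ) (F : Type*) [Field F] : QuadraticForm F (Fin m ⊕ Fin m → F) :=
  ∑ i : Fin m, QuadraticMap.linMulLin (LinearMap.proj (Sum.inl i)) (LinearMap.proj (Sum.inr i))

theorem plusQ_apply (m : ℕ) (v : Fin m ⊕ Fin m → F) : plusQ m F v = Cfsg.quadFormPlus m F v := by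
  simp [plusQ, Cfsg.quadFormPlus, _root_.sum_apply]

/-- Hyperbolic extension of a form. -/
def hyp (m : ℕ) (R : QuadraticForm F W) : QuadraticForm F ((Fin m ⊕ Fin m → F) × W) :=
  (plusQ m F).prod R

theorem hyp_apply (m : ℕ) (R : QuadraticForm F W) (z : (Fin m ⊕ Fin m → F) × W) :
    hyp m R z = Cfsg.quadFormPlus m F z.1 + R z.2 := by
  simp [hyp, plusQ_apply]

theorem polar_plus (m : ℕ) (v w : Fin m ⊕ Fin m → F) : QuadraticMap.polar ⇑(plusQ m F) v w =
    ∑ i : Fin m, (v (.inl i) * w (.inr i) + w (.inl i) * v (.inr i)) := by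
  simp only [polar_eq, plusQ_apply, Cfsg.quadFormPlus, ← Finset.sum_sub_distrib, Pi.add_apply]
  exact Finset.sum_congr rfl fun i _ => by ring

theorem hyp_nondeg [FiniteDimensional F W] (m : ℕ) (R : QuadraticForm F W)
    (hR : (QuadraticMap.polarBilin R).Nondegenerate) :
    (QuadraticMap.polarBilin (hyp m R)).Nondegenerate := by
  have hL : ∀ z : (Fin m ⊕ Fin m → F) × W, (∀ z', QuadraticMap.polar ⇑(hyp m R) z z' = 0) → z = 0 := by
    intro z hz
    have hs : ∀ z' : (Fin m ⊕ Fin m → F) × W, QuadraticMap.polar ⇑(plusQ m F) z.1 z'.1 + QuadraticMap.polar ⇑R z.2 z'.2 = 0 := by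
      intro z'
      rw [← hz z']
      simp only [polar_eq, hyp, QuadraticMap.prod_apply, Prod.fst_add, Prod.snd_add]
      ring
    refine Prod.ext (funext fun i => ?_) (hR.1 _ fun w => by simpa [QuadraticMap.polar] using hs (0, w))
    rcases i with i | i
    · have := hs (Pi.single (.inr i) 1, 0)
      rw [polar_plus] at this
      simpa [Pi.single_apply, QuadraticMap.polar] using this
    · have := hs (Pi.single (.inl i) 1, 0)
      rw [polar_plus] at this
      simpa [Pi.single_apply, QuadraticMap.polar] using this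
  exact ⟨hL, fun z hz => hL z fun z' => (QuadraticMap.polar_comm (f := ⇑(hyp m R)) z z').trans (hz z')⟩

theorem card_hyp_succ [Fintype F] [FiniteDimensional F W] (R : QuadraticForm F W)
    (hR : (QuadraticMap.polarBilin R).Nondegenerate) (m : ℕ) :
    Nat.card (Iso (hyp (m + 1) R)) =
      (Nat.card {z : (Fin (m + 1) ⊕ Fin (m + 1) → F) × W //
          Cfsg.quadFormPlus (m + 1) F z.1 + R z.2 = 0} - 1) *
        (Fintype.card F ^ (2 * m) * Nat.card W) * Nat.card (Iso (hyp m R)) := by
  classical
  let E := QuadCount.plusEquiv F m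
  let φ : (((Fin m ⊕ Fin m → F) × W) × F × F) ≃ₗ[F] (Fin (m + 1) ⊕ Fin (m + 1) → F) × W :=
    { toFun := fun z => (E.symm (z.2, z.1.1), z.1.2)
      invFun := fun z => (((E z.1).2, z.2), (E z.1).1)
      left_inv := fun z => by simp
      right_inv := fun z => by simp
      map_add' := fun a b => by
        refine Prod.ext (funext fun i => ?_) rfl
        rcases i with i | i <;> refine Fin.cases ?_ (fun j => ?_) i <;>
          simp [E, QuadCount.plusEquiv]
      map_smul' := fun c a => by
        refine Prod.ext (funext fun i => ?_) rfl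
        rcases i with i | i <;> refine Fin.cases ?_ (fun j => ?_) i <;>
          simp [E, QuadCount.plusEquiv] }
  rw [card_iso_step (hyp m R) (hyp (m + 1) R) φ (fun z => ?_) (hyp_nondeg _ R hR)]
  · rw [Nat.card_prod, Nat.card_fun, Nat.card_eq_fintype_card (α := F)]
    congr 1
    congr 1
    · congr 1
      exact Nat.card_congr (Equiv.subtypeEquivRight fun z => by rw [hyp_apply])
    · simp [two_mul]
  · rw [hyp_apply, hyp_apply]
    change Cfsg.quadFormPlus (m + 1) F (Sum.elim (Fin.cons z.2.1 (z.1.1 ∘ Sum.inl))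
      (Fin.cons z.2.2 (z.1.1 ∘ Sum.inr))) + R z.1.2 = _
    rw [QuadCount.plus_succ]
    ring

theorem card_hyp_zero (R : QuadraticForm F W) : Nat.card (Iso (hyp 0 R)) = Nat.card (Iso R) :=
  card_iso_congr _ _
    { toFun := Prod.snd
      invFun := fun w => (0, w)
      left_inv := fun z => Prod.ext (Subsingleton.elim _ _) rfl
      right_inv := fun w => rfl
      map_add' := fun a b => rfl
      map_smul' := fun a b => rfl } (fun v => by simp [hyp_apply, Cfsg.quadFormPlus])

end Hyp

end CfsgLib.Lie.OrthOrder
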