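import Cfsg.Agent.Lie.OrthSimple
import Cfsg.Agent.Lie.OrthForms
import Cfsg.Agent.Lie.OrthDickson

/-!
The centre of `Ω` and the order of `PΩ`; index two subgroups of the special orthogonal group.
-/

set_option autoImplicit false
set_option linter.unusedSectionVars false

namespace CfsgLib.Lie.OrthPOrder

open QuadraticMap
open scoped commutatorElement
open CfsgLib.Lie.Refl (act act_mul act_one act_inv act_inj act_Q act_polar act_ext)
open CfsgLib.Lie.OrthChar (R R_val R_act R_mul_self R_conj R_inv R_det map_smul' map_add' polar_self')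
open CfsgLib.Lie.OrthRoot (perp mem_perp)

variable {F : Type*} [Field F] [Fintype F] {ι : Type} [Fintype ι] [DecidableEq ι]
  {Q : QuadraticForm F (ι → F)}

theorem act_smul_vec (g : Cfsg.isometryGroup F ⇑Q) (c : F) (x : ι → F) :
    act Q g (c • x) = c • act Q g x := Matrix.mulVec_smul _ _ _

theorem act_add_vec (g : Cfsg.isometryGroup F ⇑Q) (x y : ι → F) :
    act Q g (x + y) = act Q g x + act Q g y := Matrix.mulVec_add _ _ _

variable (hQ : (QuadraticMap.polarBilin Q).Nondegenerate) (h5 : 5 ≤ Fintype.card ι)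

include hQ h5 in
theorem center_eigen {n : Cfsg.Omega F ⇑Q} (hn : n ∈ Subgroup.center (Cfsg.Omega F ⇑Q))
    {e : ι → F} (he0 : e ≠ 0) (he : Q e = 0) :
    ∃ c : F, act Q (n : Cfsg.isometryGroup F ⇑Q) e = c • e := by
  obtain ⟨p, hp⟩ : ∃ p, p = act Q (n : Cfsg.isometryGroup F ⇑Q) e := ⟨_, rfl⟩
  by_contra hc
  push Not at hc
  rw [← hp] at hc
  have hQp : Q p = 0 := by rw [hp, act_Q, he]
  have hfix : ∀ a, polar ⇑Q e a = 0 → act Q (OrthRoot.E Q e a) p = p := by
    intro a ha
    have h1 := congrArg (fun g : Cfsg.Omega F ⇑Q => act Q (g : Cfsg.isometryGroup F ⇑Q) e)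
      (Subgroup.mem_center_iff.1 hn ⟨_, OrthSimple.E_omega hQ h5 he ha⟩)
    simpa [act_mul, OrthSimple.E_fix he ha, ← hp] using h1
  have hli : LinearIndependent F ![p, e] := OrthRoot.li_pair' he0 hc
  have hep : polar ⇑Q e p = 0 := by
    by_contra hep
    have hd := OrthRoot.finrank_perp2 (Q := Q) e p
    obtain ⟨a, ⟨hea, hpa⟩, ha⟩ := OrthRoot.exists_notMem_span (perp Q e ⊓ perp Q p) (by omega) e
    rw [SetLike.mem_coe, mem_perp] at hea hpa
    have h := hfix a hea
    rw [OrthRoot.E_act he hea, polar_comm (f := ⇑Q) a p, hpa, zero_smul, sub_zero] at h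
    refine ha (Q a) ?_
    have h9 : polar ⇑Q e p • a = (Q a * polar ⇑Q e p) • e := by
      linear_combination (norm := module) h
    have := congrArg ((polar ⇑Q e p)⁻¹ • ·) h9
    simp only [smul_smul, inv_mul_cancel₀ hep, one_smul] at this
    refine this.trans ?_
    congr 1
    field_simp
  obtain ⟨z, hz, hz'⟩ := Refl.exists_polar hQ (OrthRoot.li_pair he0 hc)
  have h := hfix z hz
  rw [OrthRoot.E_act he hz, hep, polar_comm (f := ⇑Q) z p, hz'] at h
  refine he0 ?_
  linear_combination (norm := module) -h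

include hQ h5 in
theorem center_scalar {n : Cfsg.Omega F ⇑Q} (hn : n ∈ Subgroup.center (Cfsg.Omega F ⇑Q)) :
    ∃ c : F, c * c = 1 ∧ ∀ x, act Q (n : Cfsg.isometryGroup F ⇑Q) x = c • x := by
  obtain ⟨g, hg⟩ : ∃ g, g = (n : Cfsg.isometryGroup F ⇑Q) := ⟨_, rfl⟩
  rw [← hg]
  have eig : ∀ e, e ≠ 0 → Q e = 0 → ∃ c : F, act Q g e = c • e := fun e he0 he => by
    rw [hg]; exact center_eigen hQ h5 hn he0 he
  have pair : ∀ {a b : ι → F} {x y : F}, polar ⇑Q a b ≠ 0 → act Q g a = x • a → act Q g b = y • b →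
      x * y = 1 := by
    intro a b x y hab ha hb
    have h := act_polar g a b
    rw [ha, hb, polar_smul_left, polar_smul_right, smul_eq_mul, smul_eq_mul, ← mul_assoc] at h
    exact (mul_eq_right₀ hab).1 h
  have hne : ∀ {a b : ι → F}, polar ⇑Q a b ≠ 0 → a ≠ 0 := fun h h0 => h (by rw [h0, polar_zero_left])
  have key : ∀ u v, u ≠ 0 → Q u = 0 → v ≠ 0 → Q v = 0 → ∀ x y : F, act Q g u = x • u →
      act Q g v = y • v → x * y = 1 := by
    intro u v hu0 hu hv0 hv x y hxu hyv
    obtain ⟨f, hf, hfu, hfv⟩ := OrthSimple.exists_common hQ h5 hu0 hu hv0 hv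
    obtain ⟨k, hk, hkf, hku⟩ := OrthSimple.exists_third hQ h5 hf hu hfu
    obtain ⟨cf, hcf⟩ := eig f (hne hfu) hf
    obtain ⟨ck, hck⟩ := eig k (hne hkf) hk
    have e1 := pair hfu hcf hxu
    have e2 := pair hfv hcf hyv
    have e3 := pair hkf hck hcf
    have e4 := pair hku hck hxu
    have e5 : cf = x := mul_left_cancel₀ (left_ne_zero_of_mul_eq_one e3) (e3.trans e4.symm)
    have e6 : y = x := mul_left_cancel₀ (left_ne_zero_of_mul_eq_one e1) (e2.trans e1.symm)
    rw [e6]; rwa [e5] at e1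
  obtain ⟨e, -, he0, he⟩ := OrthRoot.exists_singular (Q := Q) ⊤ (by
    rw [finrank_top, Module.finrank_fintype_fun_eq_card]; omega)
  obtain ⟨c, hc⟩ := eig e he0 he
  have hc2 : c * c = 1 := key e e he0 he he0 he c c hc hc
  have hsing : ∀ u, Q u = 0 → act Q g u = c • u := fun u hu => by
    by_cases hu0 : u = 0
    · subst hu0; simp [act]
    obtain ⟨y, hy⟩ := eig u hu0 hu
    have h1 := key e u he0 he hu0 hu c y hc hy
    rw [hy, show y = c from mul_left_cancel₀ (left_ne_zero_of_mul_eq_one hc2) (h1.trans hc2.symm)]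
  refine ⟨c, hc2, fun v => ?_⟩
  by_cases hv : ∃ u, Q u = 0 ∧ polar ⇑Q u v ≠ 0
  · obtain ⟨u, hu, huv⟩ := hv
    have h1 : Q (v - (Q v / polar ⇑Q u v) • u) = 0 := by
      rw [Quad.map_sub_smul, hu]
      field_simp
      ring
    calc act Q g v = act Q g ((v - (Q v / polar ⇑Q u v) • u) + (Q v / polar ⇑Q u v) • u) := by
          rw [sub_add_cancel]
      _ = c • v := by rw [act_add_vec, act_smul_vec, hsing u hu, hsing _ h1]; module
  · push Not at hv
    have hv0 : v = 0 := hQ.1 v fun w => by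
      show polar ⇑Q v w = 0
      rw [polar_comm]
      obtain ⟨z, hz⟩ : ∃ z, polar ⇑Q e z ≠ 0 := by
        by_contra hcon; push Not at hcon; exact he0 (hQ.1 e hcon)
      by_cases hew : polar ⇑Q e w = 0
      · have h1 : Q (w + z - (Q (w + z) / polar ⇑Q e z) • e) = 0 := by
          rw [Quad.map_sub_smul, he, polar_add_right, hew]
          field_simp
          ring
        have h3 : Q (z - (Q z / polar ⇑Q e z) • e) = 0 := by
          rw [Quad.map_sub_smul, he]
          field_simp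
          ring
        have a1 := hv _ h1
        have a3 := hv _ h3
        simp only [sub_eq_add_neg, ← neg_smul, polar_add_left, polar_smul_left, hv e he, smul_zero,
          add_zero] at a1 a3
        linear_combination a1 - a3
      · have h1 : Q (w - (Q w / polar ⇑Q e w) • e) = 0 := by
          rw [Quad.map_sub_smul, he]
          field_simp
          ring
        have a1 := hv _ h1
        simp only [sub_eq_add_neg, ← neg_smul, polar_add_left, polar_smul_left, hv e he, smul_zero,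
          add_zero] at a1
        exact a1
    subst hv0
    simp [act]

include hQ h5 in
theorem card_center :
    Nat.card (Subgroup.center (Cfsg.Omega F ⇑Q)) =
      Nat.card (({1, OrthForms.negI Q} : Set (Cfsg.isometryGroup F ⇑Q)) ∩ (Cfsg.Omega F ⇑Q : Set _) : Set _) := by
  classical
  have hneg : ∀ x, act Q (OrthForms.negI Q) x = -x := fun x => by
    show Matrix.mulVec (-1 : Matrix ι ι F) x = -x
    rw [Matrix.neg_mulVec, Matrix.one_mulVec]
  refine Nat.card_congr (Equiv.ofBijective (fun n => ⟨(n.1 : Cfsg.isometryGroup F ⇑Q), ?_, n.1.2⟩) ⟨fun a b h => ?_, ?_⟩)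
  · obtain ⟨c, hc, h⟩ := center_scalar hQ h5 n.2
    rcases mul_self_eq_one_iff.1 hc with rfl | rfl
    · exact Or.inl (act_ext fun x => by rw [h, one_smul, act_one])
    · exact Or.inr (act_ext fun x => by rw [h, neg_one_smul, hneg])
  · exact Subtype.ext (Subtype.ext (congrArg Subtype.val h :))
  · rintro ⟨g, hg, hgΩ⟩
    refine ⟨⟨⟨g, hgΩ⟩, Subgroup.mem_center_iff.2 fun y => Subtype.ext (act_ext fun x => ?_)⟩, rfl⟩
    simp only [Subgroup.coe_mul, act_mul]
    rcases hg with rfl | rfl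
    · rw [act_one, act_one]
    · rw [hneg, hneg, ← neg_one_smul F x, act_smul_vec, neg_one_smul]

/-- The order of `PΩ`. -/
theorem card_pomega : Nat.card (Cfsg.POmega F ⇑Q) * Nat.card (Subgroup.center (Cfsg.Omega F ⇑Q)) *
    (Cfsg.Omega F ⇑Q).index = Nat.card (Cfsg.isometryGroup F ⇑Q) := by
  rw [← Subgroup.card_eq_card_quotient_mul_card_subgroup, Subgroup.card_mul_index]

include hQ h5 in
theorem card_center_one (h : OrthForms.negI Q ∉ Cfsg.Omega F ⇑Q ∨ (2 : F) = 0) :
    Nat.card (Subgroup.center (Cfsg.Omega F ⇑Q)) = 1 := by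
  rw [card_center hQ h5]
  have e : ({1, OrthForms.negI Q} : Set (Cfsg.isometryGroup F ⇑Q)) ∩ (Cfsg.Omega F ⇑Q : Set _) = {1} := by
    ext g
    simp only [Set.mem_inter_iff, Set.mem_insert_iff, Set.mem_singleton_iff, SetLike.mem_coe]
    refine ⟨fun ⟨hg, hgΩ⟩ => hg.elim id fun hg => ?_, fun hg => ⟨Or.inl hg, hg ▸ one_mem _⟩⟩
    rcases h with h | h
    · exact absurd (hg ▸ hgΩ) h
    · rw [hg]
      refine act_ext fun x => ?_
      show Matrix.mulVec (-1 : Matrix ι ι F) x = act Q 1 x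
      rw [Matrix.neg_mulVec, Matrix.one_mulVec, act_one]
      funext i
      show - x i = x i
      linear_combination (-(x i)) * h
  rw [e]; simp

include hQ h5 in
theorem card_center_two (h : OrthForms.negI Q ∈ Cfsg.Omega F ⇑Q) (h2 : (2 : F) ≠ 0) :
    Nat.card (Subgroup.center (Cfsg.Omega F ⇑Q)) = 2 := by
  rw [card_center hQ h5]
  have e : ({1, OrthForms.negI Q} : Set (Cfsg.isometryGroup F ⇑Q)) ∩ (Cfsg.Omega F ⇑Q : Set _) =
      {1, OrthForms.negI Q} := Set.inter_eq_left.2 (by
    rintro g (rfl | rfl)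
    · exact one_mem _
    · exact h)
  rw [e, Nat.card_coe_set_eq, Set.ncard_pair]
  intro h1
  have h2' : (1 : Matrix ι ι F) = -1 := congrArg (fun g : Cfsg.isometryGroup F ⇑Q => ((g : GL ι F) : Matrix ι ι F)) h1
  obtain ⟨i⟩ : Nonempty ι := Fintype.card_pos_iff.1 (by omega)
  have := congrFun (congrFun h2' i) i
  simp only [Matrix.one_apply_eq, Matrix.neg_apply] at this
  exact h2 (by linear_combination this)

/-! ### index two subgroups of `SO` -/

omit h5 in
include hQ in
theorem unique_index_two (hn : 2 ≤ Fintype.card ι) (h : Fintype.card F ≠ 2 ∨ Fintype.card ι ≠ 4) :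
    ∃! H : Subgroup ↥(Cfsg.specialIsometryGroup F ⇑Q), H.index = 2 := by
  classical
  haveI : Nonempty ι := Fintype.card_pos_iff.1 (by omega)
  obtain ⟨S, hS⟩ : ∃ S, S = Cfsg.specialIsometryGroup F ⇑Q := ⟨_, rfl⟩
  have hmem : ∀ g, g ∈ S ↔ ((g : GL ι F) : Matrix ι ι F).det = 1 := fun g => by
    rw [hS, Cfsg.specialIsometryGroup, MonoidHom.mem_ker, Units.ext_iff]
    rfl
  rw [← hS]
  have hdet : ∀ g : Cfsg.isometryGroup F ⇑Q,
      ((g : GL ι F) : Matrix ι ι F).det = 1 ∨ ((g : GL ι F) : Matrix ι ι F).det = -1 := fun g => by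
    have hg : g ∈ Refl.W Q := by rw [Refl.W_eq_top hQ h]; trivial
    refine Subgroup.closure_induction (G := Cfsg.isometryGroup F ⇑Q)
      (p := fun x _ => ((x : GL ι F) : Matrix ι ι F).det = 1 ∨
        ((x : GL ι F) : Matrix ι ι F).det = -1) ?_ ?_ ?_ ?_ hg
    · rintro r ⟨v, hv, hr⟩
      rw [hr, Quad.reflection_det Q hv]
      exact Or.inr rfl
    · simp
    · intro a b _ _ ha hb
      rw [OrthChar.det_mul]
      rcases ha with ha | ha <;> rcases hb with hb | hb <;> simp [ha, hb]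
    · intro a _ ha
      have := OrthChar.det_mul a⁻¹ a
      rw [inv_mul_cancel] at this
      have h1 : ((1 : Cfsg.isometryGroup F ⇑Q) : Matrix.GeneralLinearGroup ι F).val.det = (1 : F) :=
        Matrix.det_one
      rw [h1] at this
      rcases ha with ha | ha <;> rw [ha] at this
      · left; rw [mul_one] at this; exact this.symm
      · right; linear_combination this
  have hΩS : Cfsg.Omega F ⇑Q ≤ S := fun g hg => (hmem g).2 (OrthChar.det_omega hg)
  have hrel : (Cfsg.Omega F ⇑Q).relIndex S = 2 := by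
    have hmul := Subgroup.relIndex_mul_index hΩS
    by_cases h2 : (2 : F) = 0
    · haveI : CharP F 2 := by
        refine (CharP.charP_iff_prime_eq_zero Nat.prime_two).2 ?_
        exact_mod_cast h2
      have htop : S = ⊤ := top_le_iff.1 fun g _ => (hmem g).2 ((hdet g).elim id fun hg => by
        rw [hg]; linear_combination -h2)
      rw [OrthDickson.omega_index hQ h, htop, Subgroup.index_top, mul_one] at hmul
      rw [htop]; exact hmul
    · obtain ⟨v, v', hv, -, -, -⟩ := OrthChar.exists_pair h2 hQ hn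
      have hne : (-1 : F) ≠ 1 := fun h9 => h2 (by linear_combination -h9)
      have hi : S.index = 2 := by
        rw [Subgroup.index_eq_two_iff]
        refine ⟨R Q v, fun b => ?_⟩
        rw [hmem, hmem, OrthChar.det_mul, R_det hv]
        rcases hdet b with hb | hb <;> rw [hb]
        · exact Or.inr ⟨rfl, by simpa using hne⟩
        · exact Or.inl ⟨by ring, hne⟩
      rw [OrthChar.omega_index h2 hQ hn, hi] at hmul
      omega
  refine ⟨(Cfsg.Omega F ⇑Q).subgroupOf S, hrel, fun H hH => ?_⟩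
  obtain ⟨K, hK⟩ : ∃ K, K = Subgroup.normalClosure
      {x : Cfsg.isometryGroup F ⇑Q | ∃ u w, Q u ≠ 0 ∧ Q w ≠ 0 ∧ x = (R Q u * R Q w) ^ 2} := ⟨_, rfl⟩
  have hKH : K ≤ H.map S.subtype := by
    rw [hK, Subgroup.normalClosure, Subgroup.closure_le]
    intro x hx
    obtain ⟨s, ⟨u, w, hu, hw, rfl⟩, hc⟩ := Group.mem_conjugatesOfSet_iff.1 hx
    obtain ⟨g, rfl⟩ := isConj_iff.1 hc
    have hmemS : g * (R Q u * R Q w) * g⁻¹ ∈ S := by
      have h9 := OrthChar.det_mul g g⁻¹
      rw [mul_inv_cancel] at h9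
      rw [hmem, OrthChar.det_mul, OrthChar.det_mul, OrthChar.det_mul, R_det hu, R_det hw,
        neg_mul_neg, one_mul, mul_one, ← h9]
      simp
    refine ⟨⟨_, hmemS⟩ ^ 2, ?_, ?_⟩
    · rw [pow_two]; exact Subgroup.mul_self_mem_of_index_two hH _
    · rw [map_pow]
      exact conj_pow
  haveI : K.Normal := hK ▸ Subgroup.normalClosure_normal
  have hcomm : ∀ a b : Cfsg.isometryGroup F ⇑Q, QuotientGroup.mk' K a * QuotientGroup.mk' K b =
      QuotientGroup.mk' K b * QuotientGroup.mk' K a := by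
    have base : ∀ u w, Q u ≠ 0 → Q w ≠ 0 → QuotientGroup.mk' K (R Q u) * QuotientGroup.mk' K (R Q w) =
        QuotientGroup.mk' K (R Q w) * QuotientGroup.mk' K (R Q u) := fun u w hu hw => by
      have h1 : QuotientGroup.mk' K ((R Q u * R Q w) ^ 2) = 1 :=
        (QuotientGroup.eq_one_iff _).2 (hK ▸ Subgroup.subset_normalClosure ⟨u, w, hu, hw, rfl⟩)
      rw [map_pow, map_mul, pow_two, mul_eq_one_iff_eq_inv, mul_inv_rev, ← map_inv, ← map_inv, R_inv hu,
        R_inv hw] at h1
      exact h1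
    have top : Subgroup.closure (QuotientGroup.mk' K '' {g : Cfsg.isometryGroup F ⇑Q | ∃ v : ι → F, Q v ≠ 0 ∧
        ((g : GL ι F) : Matrix ι ι F) = Cfsg.reflectionMatrix ⇑Q v}) = ⊤ := by
      rw [← MonoidHom.map_closure]
      show (Refl.W Q).map _ = ⊤
      rw [Refl.W_eq_top hQ h, Subgroup.map_top_of_surjective _ (QuotientGroup.mk'_surjective K)]
    intro a b
    have hc := Subgroup.isMulCommutative_closure (k := QuotientGroup.mk' K '' {g : Cfsg.isometryGroup F ⇑Q |
      ∃ v : ι → F, Q v ≠ 0 ∧ ((g : GL ι F) : Matrix ι ι F) = Cfsg.reflectionMatrix ⇑Q v}) (by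
      rintro _ ⟨s, ⟨u, hu, hs⟩, rfl⟩ _ ⟨t, ⟨w, hw, ht⟩, rfl⟩
      obtain rfl : s = R Q u := Subtype.ext (Units.ext (by rw [hs, R_val hu]))
      obtain rfl : t = R Q w := Subtype.ext (Units.ext (by rw [ht, R_val hw]))
      exact base u w hu hw)
    exact congrArg Subtype.val (hc.is_comm.comm ⟨_, top ▸ Subgroup.mem_top (QuotientGroup.mk' K a)⟩
      ⟨_, top ▸ Subgroup.mem_top (QuotientGroup.mk' K b)⟩)
  have hΩK : Cfsg.Omega F ⇑Q ≤ K := by
    rw [Cfsg.Omega, commutator_def, Subgroup.commutator_le]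
    intro a _ b _
    refine (QuotientGroup.eq_one_iff _).1 ?_
    show QuotientGroup.mk' K ⁅a, b⁆ = 1
    rw [map_commutatorElement, commutatorElement_eq_one_iff_mul_comm]
    exact hcomm a b
  have hle : (Cfsg.Omega F ⇑Q).subgroupOf S ≤ H := fun x hx => by
    obtain ⟨y, hy, hxy⟩ := hKH (hΩK hx)
    rwa [← Subtype.ext hxy]
  have h1 := Subgroup.relIndex_mul_index hle
  rw [show ((Cfsg.Omega F ⇑Q).subgroupOf S).index = 2 from hrel, hH] at h1
  exact le_antisymm (Subgroup.relIndex_eq_one.1 (show ((Cfsg.Omega F ⇑Q).subgroupOf S).relIndex H = 1 by omega)) hle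

end CfsgLib.Lie.OrthPOrder
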