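import Cfsg.Agent.Lie.OrthFullND

/-!
Pairs of complementary totally singular subspaces: the stabiliser is maximal in the derived orthogonal group.
-/

set_option autoImplicit false
set_option linter.unusedSimpArgs false
set_option linter.unusedSectionVars false

namespace CfsgLib.Lie.OrthPair

open Matrix QuadraticMap
open CfsgLib.Lie.Refl (act act_mul act_one act_inv act_inj act_Q act_polar act_ext)
open CfsgLib.Lie.OrthChar (R R_act map_add' polar_self')
open CfsgLib.Lie.OrthRoot CfsgLib.Lie.OrthSimple CfsgLib.Lie.OrthFull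

variable {F : Type*} [Field F] [Fintype F] {ι : Type} [Fintype ι] [DecidableEq ι]
  {Q : QuadraticForm F (ι → F)}

/-- a pair of complementary totally singular subspaces -/
structure SPair (Q : QuadraticForm F (ι → F)) (U W : Submodule F (ι → F)) : Prop where
  hU : ∀ x ∈ U, Q x = 0
  hW : ∀ x ∈ W, Q x = 0
  compl : IsCompl U W
  five : 5 ≤ Module.finrank F W
  five' : 5 ≤ Module.finrank F U

variable {U W : Submodule F (ι → F)}

theorem ts_polar {X : Submodule F (ι → F)} (hX : ∀ x ∈ X, Q x = 0) {x y : ι → F} (hx : x ∈ X)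
    (hy : y ∈ X) : polar ⇑Q x y = 0 := by
  rw [QuadraticMap.polar, hX _ (add_mem hx hy), hX _ hx, hX _ hy]
  simp

namespace SPair

theorem symm (P : SPair Q U W) : SPair Q W U := ⟨P.hW, P.hU, P.compl.symm, P.five', P.five⟩

theorem dec (P : SPair Q U W) (x : ι → F) : ∃ a ∈ U, ∃ b ∈ W, a + b = x :=
  Submodule.mem_sup.1 (P.compl.sup_eq_top ▸ Submodule.mem_top : x ∈ U ⊔ W)

theorem inj (P : SPair Q U W) {x : ι → F} (h1 : x ∈ U) (h2 : x ∈ W) : x = 0 :=
  Submodule.disjoint_def.1 P.compl.disjoint x h1 h2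

variable (hQ : (QuadraticMap.polarBilin Q).Nondegenerate)

include hQ in
theorem mem_of_orth (P : SPair Q U W) {z : ι → F} (h : ∀ u ∈ U, polar ⇑Q u z = 0) : z ∈ U := by
  obtain ⟨a, ha, b, hb, rfl⟩ := P.dec z
  suffices hb0 : b = 0 by rw [hb0, add_zero]; exact ha
  refine hQ.1 b fun t => ?_
  obtain ⟨c, hc, d, hd, rfl⟩ := P.dec t
  have := h c hc
  rw [QuadraticMap.polar_add_right, ts_polar P.hU hc ha, zero_add] at this
  rw [QuadraticMap.polarBilin_apply_apply, QuadraticMap.polar_add_right, QuadraticMap.polar_comm, this,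
    ts_polar P.hW hb hd, add_zero]

include hQ in
theorem repU (P : SPair Q U W) {b d : ι → F} (hb : b ∈ W) (hd : d ∈ W) (hdb : ∀ t : F, d ≠ t • b) :
    ∃ u ∈ U, polar ⇑Q b u = 0 ∧ polar ⇑Q d u = 1 := by
  have hd' : d ∉ U ⊔ (F ∙ b) := by
    intro h
    obtain ⟨y, hy, z, hz, hyz⟩ := Submodule.mem_sup.1 h
    obtain ⟨t, rfl⟩ := Submodule.mem_span_singleton.1 hz
    have hyW : y ∈ W := by
      rw [show y = d - t • b by rw [← hyz, add_sub_cancel_right]]
      exact sub_mem hd (W.smul_mem t hb)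
    exact hdb t (by rw [← hyz, P.inj hy hyW, zero_add])
  obtain ⟨z, hz, hdz⟩ := exists_rep_in hQ _ hd'
  exact ⟨z, P.mem_of_orth hQ fun u hu => hz u (Submodule.mem_sup_left hu),
    hz b (Submodule.mem_sup_right (Submodule.mem_span_singleton_self b)), hdz⟩

theorem stab_U (P : SPair Q U W) {u w : ι → F} (hu : u ∈ U) (hw : w ∈ W) (h : polar ⇑Q u w = 0) :
    Stab U (E Q u w) := by
  refine stab_of_fwd fun x hx => ?_
  rw [E_act (P.hU u hu) h, ts_polar P.hU hu hx, mul_zero, zero_smul, zero_smul, sub_zero, zero_sub]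
  exact add_mem hx (neg_mem (U.smul_mem _ hu))

theorem stab_W (P : SPair Q U W) {u w : ι → F} (hu : u ∈ U) (hw : w ∈ W) (h : polar ⇑Q u w = 0) :
    Stab W (E Q u w) := by
  refine stab_of_fwd fun x hx => ?_
  rw [E_act (P.hU u hu) h, P.hW w hw, zero_mul, zero_smul, sub_zero, ts_polar P.hW hw hx, zero_smul, sub_zero]
  exact add_mem hx (W.smul_mem _ hw)

end SPair

theorem anti {a g : ι → F} (ha : Q a = 0) (hg : Q g = 0) (h : polar ⇑Q a g = 0) :
    E Q a g = E Q g (-a) := by
  refine act_ext fun x => ?_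
  rw [E_act ha h, E_act hg (by rw [QuadraticMap.polar_neg_right, QuadraticMap.polar_comm, h, neg_zero]),
    QuadraticMap.map_neg, hg, ha, QuadraticMap.polar_neg_left]
  match_scalars <;> ring

theorem finrank_pair (a b : ι → F) : Module.finrank F (Submodule.span F ({a, b} : Set (ι → F))) ≤ 2 := by
  have h := finrank_range_le_card (R := F) ![a, b]
  have e : Set.range ![a, b] = ({a, b} : Set (ι → F)) := by
    ext x; constructor
    · rintro ⟨i, rfl⟩; fin_cases i <;> simp
    · rintro (rfl | rfl)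
      exacts [⟨0, rfl⟩, ⟨1, rfl⟩]
  rw [Set.finrank, e, Fintype.card_fin] at h
  exact h

variable (M : Subgroup (Cfsg.isometryGroup F ⇑Q))

/-- the Levi root elements lie in `M` -/
def Levi (U W : Submodule F (ι → F)) : Prop := ∀ u ∈ U, ∀ w ∈ W, polar ⇑Q u w = 0 → E Q u w ∈ M

/-- a root element inside `X` -/
def HasRoot (X : Submodule F (ι → F)) : Prop :=
  ∃ a ∈ X, a ≠ 0 ∧ ∃ c ∈ X, (∀ t : F, c ≠ t • a) ∧ E Q a c ∈ M

variable {M}

theorem Levi.symm (P : SPair Q U W) (hL : Levi M U W) : Levi M W U := by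
  intro w hw u hu h
  rw [anti (P.hW w hw) (P.hU u hu) h]
  exact hL u hu _ (neg_mem hw) (by rw [QuadraticMap.polar_neg_right, QuadraticMap.polar_comm, h, neg_zero])

variable (hQ : (QuadraticMap.polarBilin Q).Nondegenerate)

include hQ in
/-- a root element with independent components gives one inside `W` -/
theorem root_gen (P : SPair Q U W) (hL : Levi M U W) {a b c d : ι → F} (ha : a ∈ U) (hb : b ∈ W) (hc : c ∈ U)
    (hd : d ∈ W) (hb0 : b ≠ 0) (hdb : ∀ t : F, d ≠ t • b) (hx : Q (a + b) = 0)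
    (hxy : polar ⇑Q (a + b) (c + d) = 0) (hE : E Q (a + b) (c + d) ∈ M) : HasRoot M W := by
  obtain ⟨u, hu, hbu, hdu⟩ := P.repU hQ hb hd hdb
  have d1 := finrank_inf_perp (Q := Q) W u
  have d2 := finrank_inf_perp (Q := Q) (W ⊓ perp Q u) a
  have d3 := finrank_inf_perp (Q := Q) (W ⊓ perp Q u ⊓ perp Q a) c
  obtain ⟨w, ⟨⟨⟨hw, huw⟩, haw⟩, hcw⟩, hwb⟩ :=
    exists_notMem_span (W ⊓ perp Q u ⊓ perp Q a ⊓ perp Q c) (by have := P.five; omega) b
  rw [SetLike.mem_coe, mem_perp] at huw haw hcw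
  have huQ := P.hU u hu
  have hab : polar ⇑Q a b = 0 := by
    have := hx
    rwa [map_add', P.hU a ha, P.hW b hb, zero_add, zero_add] at this
  have hub : polar ⇑Q u (a + b) = 0 := by
    rw [QuadraticMap.polar_add_right, ts_polar P.hU hu ha, QuadraticMap.polar_comm, hbu, add_zero]
  have hwab : polar ⇑Q w (a + b) = 0 := by
    rw [QuadraticMap.polar_add_right, ts_polar P.hW hw hb, QuadraticMap.polar_comm, haw, add_zero]
  have hucd : polar ⇑Q u (c + d) = 1 := by
    rw [QuadraticMap.polar_add_right, ts_polar P.hU hu hc, QuadraticMap.polar_comm, hdu, zero_add]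
  have hwcd : polar ⇑Q w (c + d) = 0 := by
    rw [QuadraticMap.polar_add_right, ts_polar P.hW hw hd, QuadraticMap.polar_comm, hcw, add_zero]
  have hh := hL u hu w hw huw
  have hfix : act Q (E Q u w) (a + b) = a + b := by
    rw [E_act huQ huw, hub, hwab]; simp
  have hmov : act Q (E Q u w) (c + d) = c + d + w := by
    rw [E_act huQ huw, hucd, hwcd, P.hW w hw]; simp
  have hE' : E Q (a + b) (c + d + w) ∈ M := by
    rw [← hmov]
    conv => arg 2; arg 2; rw [← hfix]
    rw [← E_conj _ hx hxy]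
    exact mul_mem (mul_mem hh hE) (inv_mem hh)
  have hperpw : polar ⇑Q (a + b) w = 0 := by rw [QuadraticMap.polar_comm]; exact hwab
  rw [E_add hx hxy hperpw] at hE'
  have h2 := (mul_mem_cancel_left hE).1 hE'
  rw [anti hx (P.hW w hw) hperpw, neg_add] at h2
  have hwa : polar ⇑Q w (-a) = 0 := by rw [QuadraticMap.polar_neg_right, QuadraticMap.polar_comm, haw, neg_zero]
  have hwb' : polar ⇑Q w (-b) = 0 := ts_polar P.hW hw (neg_mem hb)
  rw [E_add (P.hW w hw) hwa hwb'] at h2
  have h3 := (mul_mem_cancel_left (Levi.symm P hL w hw _ (neg_mem ha) hwa)).1 h2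
  refine ⟨w, hw, fun h => hwb 0 (by rw [h, zero_smul]), -b, neg_mem hb, fun t ht => ?_, h3⟩
  rcases eq_or_ne t 0 with rfl | ht0
  · rw [zero_smul, neg_eq_zero] at ht; exact hb0 ht
  · refine hwb (-t⁻¹) ?_
    rw [neg_smul, ← smul_neg, ht, smul_smul, inv_mul_cancel₀ ht0, one_smul]

include hQ in
/-- a root element not of Levi shape gives a root element inside one of the spaces -/
theorem line_levi (P : SPair Q U W) (hL : Levi M U W) (hnU : ¬ HasRoot M U) (hnW : ¬ HasRoot M W)
    {a b c d : ι → F} (ha : a ∈ U) (hb : b ∈ W) (hc : c ∈ U) (hd : d ∈ W) (hx : Q (a + b) = 0)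
    (hxy : polar ⇑Q (a + b) (c + d) = 0) (hind : ∀ t : F, c + d ≠ t • (a + b))
    (hE : E Q (a + b) (c + d) ∈ M) : (∃ t : F, c = t • a) ∨ a = 0 := by
  by_contra hcon
  push Not at hcon
  obtain ⟨hca, ha0⟩ := hcon
  refine hnU (root_gen hQ P.symm (Levi.symm P hL) hb ha hd hc ha0 hca (by rwa [add_comm]) ?_ ?_)
  · rwa [add_comm b a, add_comm d c]
  · rwa [add_comm b a, add_comm d c]

include hQ in
theorem same_line (P : SPair Q U W) (hL : Levi M U W) (hnU : ¬ HasRoot M U) (hnW : ¬ HasRoot M W)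
    {x y : ι → F} (hx : Q x = 0) (hxy : polar ⇑Q x y = 0) (hind : ∀ t : F, y ≠ t • x) (hE : E Q x y ∈ M)
    {a b : ι → F} (ha : a ∈ U) (hb : b ∈ W) (hab : a + b = x) (ha0 : a ≠ 0) (hb0 : b ≠ 0) :
    ∃ s t : F, y = s • a + t • b := by
  obtain ⟨c, hc, d, hd, rfl⟩ := P.dec y
  subst hab
  obtain ⟨s, rfl⟩ := (line_levi hQ P hL hnU hnW ha hb hc hd hx hxy hind hE).resolve_right ha0
  obtain ⟨t, rfl⟩ := (line_levi hQ P.symm (Levi.symm P hL) hnW hnU hb ha hd hc (by rwa [add_comm])
    (by rwa [add_comm b a, add_comm d (s • a)]) (fun t h => hind t (by rw [add_comm, h, add_comm b a]))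
    (by rwa [add_comm b a, add_comm d (s • a)])).resolve_right hb0
  exact ⟨s, t, rfl⟩

include hQ in
/-- an element of `M` moving the pair gives a root element inside one of the spaces -/
theorem exists_root (P : SPair Q U W) (hL : Levi M U W) {g : Cfsg.isometryGroup F ⇑Q} (hg : g ∈ M)
    (hgm : ∃ u ∈ U, act Q g u ∉ U ∧ act Q g u ∉ W) : HasRoot M U ∨ HasRoot M W := by
  by_contra hno
  push Not at hno
  obtain ⟨hnU, hnW⟩ := hno
  obtain ⟨u, hu, hgU, hgW⟩ := hgm
  obtain ⟨a, ha, b, hb, hab⟩ := P.dec (act Q g u)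
  have ha0 : a ≠ 0 := fun h => hgW (by rw [← hab, h, zero_add]; exact hb)
  have hb0 : b ≠ 0 := fun h => hgU (by rw [← hab, h, add_zero]; exact ha)
  have hu0 : u ≠ 0 := fun h => hgU (by rw [h, show act Q g 0 = 0 by simp [act]]; exact zero_mem _)
  have key : ∀ w ∈ W ⊓ perp Q u, act Q g w ∈ Submodule.span F ({a, b} : Set (ι → F)) := by
    intro w hw
    by_cases hw0 : w = 0
    · rw [hw0, show act Q g 0 = 0 by simp [act]]; exact zero_mem _
    have huw := mem_perp.1 hw.2
    have hE : E Q (act Q g u) (act Q g w) ∈ M := by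
      rw [← E_conj g (P.hU u hu) huw]
      exact mul_mem (mul_mem hg (hL u hu w hw.1 huw)) (inv_mem hg)
    obtain ⟨s, t, hst⟩ := same_line hQ P hL hnU hnW (by rw [act_Q, P.hU u hu]) (by rw [act_polar, huw])
      (fun t ht => hw0 (P.inj (by
        rw [act_inj g (ht.trans (act_smul g t u).symm)]; exact U.smul_mem t hu) hw.1)) hE ha hb hab ha0 hb0
    rw [hst]
    exact Submodule.mem_span_pair.2 ⟨s, t, rfl⟩
  have d1 := finrank_inf_perp (Q := Q) W u
  obtain ⟨L, hL'⟩ : ∃ L, L = Matrix.toLin' ((g : GL ι F) : Matrix ι ι F) := ⟨_, rfl⟩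
  have hLx : ∀ x, L x = act Q g x := fun x => by rw [hL', Matrix.toLin'_apply]; rfl
  have hinj : Function.Injective L := fun x y h => act_inj g (by rw [← hLx, ← hLx, h])
  have hle : (W ⊓ perp Q u).map L ≤ Submodule.span F ({a, b} : Set (ι → F)) := by
    rintro _ ⟨w, hw, rfl⟩; rw [hLx]; exact key w hw
  have h1 := Submodule.finrank_mono hle
  rw [← (Submodule.equivMapOfInjective L hinj _).finrank_eq] at h1
  have h2 : Module.finrank F (Submodule.span F ({a, b} : Set (ι → F))) ≤ 2 := by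
    exact finrank_pair _ _
  have := P.five
  omega

include hQ in
/-- from one root element inside `U` to all points of `U` -/
theorem pt_of_root (P : SPair Q U W) (hL : Levi M U W) (h : HasRoot M U) : ∀ u ∈ U, Pt M u := by
  obtain ⟨a, ha, ha0, c, hc, hca, hE⟩ := h
  have hUU : ∀ {x y : ι → F}, x ∈ U → y ∈ U → polar ⇑Q x y = 0 := fun hx hy => ts_polar P.hU hx hy
  -- moving with the Levi part
  have hmv : ∀ u ∈ U, ∀ w ∈ W, polar ⇑Q u w = 0 → ∀ x ∈ U, act Q (E Q u w) x = x - polar ⇑Q w x • u := by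
    intro u hu w hw huw x hx
    rw [E_act (P.hU u hu) huw, hUU hu hx]
    simp [sub_eq_add_neg]
  -- everything from one first entry
  have hall : ∀ y ∈ U, E Q a y ∈ M := by
    have gen : ∀ y ∈ U, (∀ t s : F, c ≠ t • a + s • y) → E Q a y ∈ M := by
      intro y hy hind
      have hc' : c ∉ W ⊔ Submodule.span F ({a, y} : Set (ι → F)) := by
        intro h
        obtain ⟨z, hz, p, hp, hzp⟩ := Submodule.mem_sup.1 h
        obtain ⟨t, s, rfl⟩ := Submodule.mem_span_pair.1 hp
        have hzU : z ∈ U := by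
          rw [show z = c - (t • a + s • y) by rw [← hzp, add_sub_cancel_right]]
          exact sub_mem hc (add_mem (U.smul_mem t ha) (U.smul_mem s hy))
        exact hind t s (by rw [← hzp, P.inj hzU hz, zero_add])
      obtain ⟨w, hw, hcw⟩ := exists_rep_in hQ _ hc'
      have hwW : w ∈ W := P.symm.mem_of_orth hQ fun z hz => hw z (Submodule.mem_sup_left hz)
      have hwa : polar ⇑Q w a = 0 := by
        rw [QuadraticMap.polar_comm]; exact hw a (Submodule.mem_sup_right (Submodule.subset_span (by simp)))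
      have hyw : polar ⇑Q y w = 0 := hw y (Submodule.mem_sup_right (Submodule.subset_span (by simp)))
      have hh := hL y hy w hwW hyw
      have hfix : act Q (E Q y w) a = a := by rw [hmv y hy w hwW hyw a ha, hwa, zero_smul, sub_zero]
      have hmov : act Q (E Q y w) c = c + -y := by
        rw [hmv y hy w hwW hyw c hc, QuadraticMap.polar_comm, hcw, one_smul, sub_eq_add_neg]
      have hE' : E Q a (c + -y) ∈ M := by
        rw [← hmov]
        conv => arg 2; arg 2; rw [← hfix]
        rw [← E_conj _ (P.hU a ha) (hUU ha hc)]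
        exact mul_mem (mul_mem hh hE) (inv_mem hh)
      rw [E_add (P.hU a ha) (hUU ha hc) (hUU ha (neg_mem hy)), E_neg (P.hU a ha) (hUU ha hy)] at hE'
      exact inv_mem_iff.1 ((mul_mem_cancel_left hE).1 hE')
    intro y hy
    by_cases hind : ∀ t s : F, c ≠ t • a + s • y
    · exact gen y hy hind
    push Not at hind
    obtain ⟨t, s, hts⟩ := hind
    have hs : s ≠ 0 := fun h => hca t (by rw [hts, h, zero_smul, add_zero])
    obtain ⟨z, hz, hz'⟩ : ∃ z ∈ U, z ∉ Submodule.span F ({a, c} : Set (ι → F)) := by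
      by_contra hc'
      push Not at hc'
      have h1 := Submodule.finrank_mono (show U ≤ _ from hc')
      have h2 : Module.finrank F (Submodule.span F ({a, c} : Set (ι → F))) ≤ 2 := by
        exact finrank_pair _ _
      have := P.five'
      omega
    have hysp : y ∈ Submodule.span F ({a, c} : Set (ι → F)) := Submodule.mem_span_pair.2
      ⟨-(s⁻¹ * t), s⁻¹, by rw [hts, smul_add, smul_smul, smul_smul, inv_mul_cancel₀ hs, one_smul, neg_smul,
        neg_add_cancel_left]⟩
    have hnot : ∀ z', z' ∉ Submodule.span F ({a, c} : Set (ι → F)) → ∀ t s : F, c ≠ t • a + s • z' := by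
      intro z' hz' t s h
      rcases eq_or_ne s 0 with rfl | hs'
      · exact hca t (by rw [h, zero_smul, add_zero])
      · exact hz' (Submodule.mem_span_pair.2 ⟨-(s⁻¹ * t), s⁻¹, by
          rw [h, smul_add, smul_smul, smul_smul, inv_mul_cancel₀ hs', one_smul, neg_smul, neg_add_cancel_left]⟩)
    have h1 := gen z hz (hnot z hz')
    have h2 := gen (y - z) (sub_mem hy hz) (hnot _ fun h => hz' (by simpa using sub_mem hysp h))
    rw [show y = z + (y - z) by abel, E_add (P.hU a ha) (hUU ha hz) (hUU ha (sub_mem hy hz))]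
    exact mul_mem h1 h2
  -- moving the first entry
  have hfirst : ∀ a' ∈ U, (∀ t : F, a' ≠ t • a) → ∀ y ∈ U, E Q a' y ∈ M := by
    intro a' ha' hind y hy
    obtain ⟨w, hw, hwd, hwa⟩ := P.symm.repU hQ (b := a - a') (d := a) (sub_mem ha ha') ha fun t h => by
      rcases eq_or_ne t 0 with rfl | ht
      · exact ha0 (by rw [h, zero_smul])
      · refine hind ((t - 1) * t⁻¹) ?_
        rw [mul_comm, ← smul_smul, sub_smul, one_smul, eq_inv_smul_iff₀ ht]
        conv_rhs => arg 2; rw [h]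
        rw [← smul_sub, sub_sub_cancel]
    have huw : polar ⇑Q (a - a') w = 0 := hwd
    have hh := hL _ (sub_mem ha ha') w hw huw
    have hmov : act Q (E Q (a - a') w) a = a' := by
      rw [hmv _ (sub_mem ha ha') w hw huw a ha, QuadraticMap.polar_comm, hwa, one_smul, sub_sub_cancel]
    obtain ⟨y', hy'⟩ : ∃ y', act Q (E Q (a - a') w) y' = y := ⟨_, act_inv' _ y⟩
    have hy'U : y' ∈ U := (P.stab_U (sub_mem ha ha') hw huw y').2 (hy' ▸ hy)
    rw [← hmov, ← hy', ← E_conj _ (P.hU a ha) (hUU ha hy'U)]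
    exact mul_mem (mul_mem hh (hall y' hy'U)) (inv_mem hh)
  intro u hu
  refine ⟨P.hU u hu, fun z hz => ?_⟩
  obtain ⟨p, hp, q, hq, rfl⟩ := P.dec z
  have huq : polar ⇑Q u q = 0 := by
    rwa [QuadraticMap.polar_add_right, hUU hu hp, zero_add] at hz
  rw [E_add (P.hU u hu) (hUU hu hp) huq]
  refine mul_mem ?_ (hL u hu q hq huq)
  by_cases hind : ∀ t : F, u ≠ t • a
  · exact hfirst u hu hind p hp
  · push Not at hind
    obtain ⟨t, rfl⟩ := hind
    rcases eq_or_ne t 0 with rfl | ht
    · rw [E_of_eq_zero (zero_smul F a)]; exact one_mem _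
    rw [E_smul (P.hU a ha) (hUU ha hp)]
    exact hall _ (U.smul_mem _ hp)

variable (h5 : 5 ≤ Fintype.card ι)

include hQ h5 in
theorem pair_full (P : SPair Q U W) (hL : Levi M U W) (hs : ∃ s ∈ M, ∀ u ∈ U, act Q s u ∈ W)
    (hs' : ∃ s ∈ M, ∀ w ∈ W, act Q s w ∈ U) {g : Cfsg.isometryGroup F ⇑Q} (hg : g ∈ M)
    (hgm : ∃ u ∈ U, act Q g u ∉ U ∧ act Q g u ∉ W) : Cfsg.Omega F ⇑Q ≤ M := by
  have key : ∀ {U W : Submodule F (ι → F)}, SPair Q U W → Levi M U W → (∃ s ∈ M, ∀ u ∈ U, act Q s u ∈ W) →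
      HasRoot M U → Cfsg.Omega F ⇑Q ≤ M := by
    intro U W P hL ⟨s, hs, hsU⟩ hr
    have hpt := pt_of_root hQ P hL hr
    obtain ⟨u, hu, hu0⟩ := exists_ne_zero U (by have := P.five'; omega)
    obtain ⟨u', hu', hne⟩ : ∃ u' ∈ U, polar ⇑Q u' (act Q s u) ≠ 0 := by
      by_contra hc
      push Not at hc
      have h0 := P.inj (P.mem_of_orth hQ hc) (hsU u hu)
      exact hu0 (act_inj s (h0.trans (by simp [act])))
    exact full hQ h5 M (hpt u' hu') ((hpt u hu).move hs) hne
  rcases exists_root hQ P hL hg hgm with h | h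
  · exact key P hL hs h
  · exact key P.symm (Levi.symm P hL) hs' h

include hQ h5 in
/-- an interchanging element of the derived group -/
theorem exists_swap (hU : ∀ x ∈ U, Q x = 0) (hW : ∀ x ∈ W, Q x = 0) (hc : IsCompl U W) {k : ℕ} (hk : Even k)
    (hdU : Module.finrank F U = k) (hdW : Module.finrank F W = k) :
    ∃ s ∈ Cfsg.Omega F ⇑Q, (∀ u ∈ U, act Q s u ∈ W) ∧ ∀ w ∈ W, act Q s w ∈ U := by
  let e := Module.finBasisOfFinrankEq F U hdU
  let Ψ : W →ₗ[F] Fin k → F := LinearMap.pi fun i => (QuadraticMap.polarBilin Q (e i : ι → F)) ∘ₗ W.subtype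
  have hinj : Function.Injective Ψ := by
    rw [← LinearMap.ker_eq_bot, Submodule.eq_bot_iff]
    intro w hw
    refine Subtype.ext (hQ.1 _ fun z => ?_)
    obtain ⟨a, ha, b, hb, rfl⟩ := Submodule.mem_sup.1 (hc.sup_eq_top ▸ Submodule.mem_top : z ∈ U ⊔ W)
    rw [QuadraticMap.polarBilin_apply_apply, QuadraticMap.polar_add_right, ts_polar hW w.2 hb, add_zero,
      QuadraticMap.polar_comm]
    have h0 : ((QuadraticMap.polarBilin Q).flip (w : ι → F)) ∘ₗ U.subtype = 0 := e.ext fun i => by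
      exact congrFun (LinearMap.mem_ker.1 hw) i
    exact LinearMap.congr_fun h0 ⟨a, ha⟩
  have hsurj : Function.Surjective Ψ :=
    (LinearMap.injective_iff_surjective_of_finrank_eq_finrank (by
      rw [hdW, Module.finrank_fintype_fun_eq_card, Fintype.card_fin])).1 hinj
  choose f hf using fun i : Fin k => hsurj (Pi.single i 1)
  have hef : ∀ i j, polar ⇑Q (e i : ι → F) (f j : ι → F) = if i = j then 1 else 0 := by
    intro i j
    have := congrFun (hf j) i
    rw [Pi.single_apply] at this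
    exact this
  obtain ⟨v, hv⟩ : ∃ v : Fin k → ι → F, ∀ i, v i = (e i : ι → F) - (f i : ι → F) := ⟨_, fun i => rfl⟩
  have hvQ : ∀ i, Q (v i) = -1 := fun i => by
    rw [hv, sub_eq_add_neg, map_add', QuadraticMap.map_neg, hU _ (e i).2, hW _ (f i).2,
      QuadraticMap.polar_neg_right, hef, if_pos rfl]
    ring
  have hv0 : ∀ i, Q (v i) ≠ 0 := fun i => by rw [hvQ]; exact neg_ne_zero.2 one_ne_zero
  have hRe : ∀ i j, act Q (R Q (v i)) (e j : ι → F) = if i = j then (f j : ι → F) else (e j : ι → F) := by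
    intro i j
    rw [R_act (hv0 i), hvQ, hv, sub_eq_add_neg (e i : ι → F), QuadraticMap.polar_add_left,
      QuadraticMap.polar_neg_left, ts_polar hU (e i).2 (e j).2, QuadraticMap.polar_comm (f := ⇑Q) (f i : ι → F),
      hef, ← sub_eq_add_neg (e i : ι → F)]
    by_cases h : i = j
    · subst h; simp
    · rw [if_neg (Ne.symm h), if_neg h]; simp
  have hRf : ∀ i j, act Q (R Q (v i)) (f j : ι → F) = if i = j then (e j : ι → F) else (f j : ι → F) := by
    intro i j
    rw [R_act (hv0 i), hvQ, hv, sub_eq_add_neg (e i : ι → F), QuadraticMap.polar_add_left,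
      QuadraticMap.polar_neg_left, ts_polar hW (f i).2 (f j).2, hef, ← sub_eq_add_neg (e i : ι → F)]
    by_cases h : i = j
    · subst h; simp
    · rw [if_neg h, if_neg h]; simp
  have hind : ∀ r, 2 * r ≤ k → ∃ s ∈ Cfsg.Omega F ⇑Q,
      (∀ j : Fin k, act Q s (e j : ι → F) = if j.1 < 2 * r then (f j : ι → F) else (e j : ι → F)) ∧
      ∀ j : Fin k, act Q s (f j : ι → F) = if j.1 < 2 * r then (e j : ι → F) else (f j : ι → F) := by
    intro r
    induction r with
    | zero => exact fun _ => ⟨1, one_mem _, fun j => by simp [act_one], fun j => by simp [act_one]⟩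
    | succ r ih =>
      intro hr
      obtain ⟨s, hs, hse, hsf⟩ := ih (by omega)
      obtain ⟨i, hi⟩ : ∃ i : Fin k, i.1 = 2 * r := ⟨⟨2 * r, by omega⟩, rfl⟩
      obtain ⟨i', hi'⟩ : ∃ i' : Fin k, i'.1 = 2 * r + 1 := ⟨⟨2 * r + 1, by omega⟩, rfl⟩
      refine ⟨R Q (v i) * R Q (v i') * s, mul_mem ?_ hs, fun j => ?_, fun j => ?_⟩
      · rw [omega_eq hQ h5]; exact R_congr hQ h5 (hv0 i') (by rw [hvQ, hvQ])
      all_goals
        rw [act_mul, act_mul]
        first | rw [hse j] | rw [hsf j]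
        by_cases hlt : j.1 < 2 * r
        · simp [hRe, hRf, hlt, show j.1 < 2 * (r + 1) by omega, show i ≠ j from fun h => by rw [← h, hi] at hlt; omega,
            show i' ≠ j from fun h => by rw [← h, hi'] at hlt; omega]
        · rw [if_neg hlt]
          by_cases hji : j = i
          · subst hji
            simp [hRe, hRf, show j.1 < 2 * (r + 1) by omega, show i' ≠ j from fun h => by rw [← h, hi'] at hi; omega]
          · by_cases hji' : j = i'
            · subst hji'
              simp [hRe, hRf, show j.1 < 2 * (r + 1) by omega, show i ≠ j from fun h => hji h.symm]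
            · have : ¬ j.1 < 2 * (r + 1) := fun h => by
                rcases Nat.lt_or_ge j.1 (2 * r + 1) with h' | h'
                · exact hji (Fin.ext (by omega))
                · exact hji' (Fin.ext (by omega))
              simp [hRe, hRf, this, Ne.symm hji, Ne.symm hji']
  obtain ⟨m, hm⟩ := hk
  obtain ⟨s, hs, hse, hsf⟩ := hind m (by omega)
  have hlt : ∀ j : Fin k, j.1 < 2 * m := fun j => by have := j.2; omega
  obtain ⟨L, hL⟩ : ∃ L, L = Matrix.toLin' ((s : GL ι F) : Matrix ι ι F) := ⟨_, rfl⟩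
  have hLx : ∀ x, L x = act Q s x := fun x => by rw [hL, Matrix.toLin'_apply]; rfl
  have hspanU : ∀ u ∈ U, L u ∈ W := by
    intro u hu
    have hle : Submodule.span F (Set.range fun j => (e j : ι → F)) ≤ W.comap L := Submodule.span_le.2 (by
      rintro _ ⟨j, rfl⟩
      rw [SetLike.mem_coe, Submodule.mem_comap, hLx, hse, if_pos (hlt j)]
      exact (f j).2)
    refine hle ?_
    have h1 : (⟨u, hu⟩ : U) ∈ Submodule.span F (Set.range e) := by rw [e.span_eq]; trivial
    have := Submodule.mem_map_of_mem (f := U.subtype) h1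
    rwa [Submodule.map_span, ← Set.range_comp] at this
  have hspanW : ∀ w ∈ W, L w ∈ U := by
    intro w hw
    have hfspan : Submodule.span F (Set.range f) = ⊤ := by
      apply Submodule.map_injective_of_injective hinj
      rw [Submodule.map_span, ← Set.range_comp, Submodule.map_top, LinearMap.range_eq_top.2 hsurj,
        show Ψ ∘ f = fun i => Pi.single i 1 from funext hf]
      exact (Pi.basisFun F (Fin k)).span_eq ▸ by congr 1; ext1; simp
    have hle : Submodule.span F (Set.range fun j => (f j : ι → F)) ≤ U.comap L := Submodule.span_le.2 (by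
      rintro _ ⟨j, rfl⟩
      rw [SetLike.mem_coe, Submodule.mem_comap, hLx, hsf, if_pos (hlt j)]
      exact (e j).2)
    refine hle ?_
    have h1 : (⟨w, hw⟩ : W) ∈ Submodule.span F (Set.range f) := by rw [hfspan]; trivial
    have := Submodule.mem_map_of_mem (f := W.subtype) h1
    rwa [Submodule.map_span, ← Set.range_comp] at this
  exact ⟨s, hs, fun u hu => hLx u ▸ hspanU u hu, fun w hw => hLx w ▸ hspanW w hw⟩

end CfsgLib.Lie.OrthPair
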