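import Cfsg.Agent.Lie.OrthRoot
import Cfsg.Agent.Lie.OrthFamMax
import Cfsg.Agent.Lie.OrthFull
import Cfsg.Prelude.Def_GeometricClasses

/-!
For at most three field elements the stabiliser of a hyperbolic plane in Ω is not maximal.
-/

set_option autoImplicit false
set_option linter.unusedSectionVars false

namespace CfsgLib.Lie.OrthPlaneStab

open QuadraticMap
open CfsgLib.Lie.Refl (act act_inj act_Q)
open CfsgLib.Lie.OrthRoot (E E_act E_mem omega_eq exists_singular finrank_inf_perp perp mem_perp)
open CfsgLib.Lie.OrthChar (map_add')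

variable {F : Type*} [Field F] [Fintype F] {ι : Type} [Fintype ι] [DecidableEq ι]
  {Q : QuadraticForm F (ι → F)}

theorem not_maximal (hQ : (QuadraticMap.polarBilin Q).Nondegenerate) (h7 : 7 ≤ Fintype.card ι)
    (hq : Fintype.card F ≤ 3) (W : Submodule F (ι → F)) (hdim : Module.finrank F W = 2)
    (hW : Cfsg.Geo.IsNondegenerateOn (QuadraticMap.polar ⇑Q) W) (hplus : Cfsg.Geo.IsPlusTypeOn ⇑Q W) :
    ∃ K : Subgroup (Matrix.GeneralLinearGroup ι F),
      Cfsg.Geo.subspaceStabilizer W ⊓ Cfsg.Geo.omegaGL ⇑Q < K ∧ K < Cfsg.Geo.omegaGL ⇑Q := by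
  classical
  obtain ⟨U, hUW, hUs, hU2⟩ := hplus
  have hU1 : Module.finrank F U = 1 := by omega
  obtain ⟨e, heU, he0⟩ := OrthRoot.exists_ne_zero U (by omega)
  have heW := hUW heU
  have he : Q e = 0 := hUs e heU
  obtain ⟨x, hxW, hx⟩ := (hW e heW he0).2
  obtain ⟨f, hfdef⟩ : ∃ f, f = (polar ⇑Q e x)⁻¹ • x - (Q x * ((polar ⇑Q e x)⁻¹ * (polar ⇑Q e x)⁻¹)) • e := ⟨_, rfl⟩
  have hfW : f ∈ W := hfdef ▸ sub_mem (W.smul_mem _ hxW) (W.smul_mem _ heW)
  have hef : polar ⇑Q e f = 1 := by
    rw [hfdef, sub_eq_add_neg, ← neg_smul, polar_add_right, polar_smul_right, polar_smul_right,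
      OrthChar.polar_self', he, smul_eq_mul, smul_eq_mul, inv_mul_cancel₀ hx]
    ring
  have hf : Q f = 0 := by
    rw [hfdef, sub_eq_add_neg, ← neg_smul, map_add', OrthChar.map_smul', OrthChar.map_smul', he, polar_smul_left,
      polar_smul_right, polar_comm (⇑Q) x e, smul_eq_mul, smul_eq_mul]
    field_simp
    ring
  have hfe : polar ⇑Q f e = 1 := by rw [polar_comm, hef]
  have hspan : ∀ y ∈ W, ∃ a b : F, y = a • e + b • f := by
    have hli : LinearIndependent F ![e, f] := by
      rw [LinearIndependent.pair_iff]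
      intro a b h
      have h1 : polar ⇑Q e (a • e + b • f) = 0 := by rw [h, polar_zero_right]
      have h3 : polar ⇑Q f (a • e + b • f) = 0 := by rw [h, polar_zero_right]
      rw [polar_add_right, polar_smul_right, polar_smul_right, OrthChar.polar_self', he, hef, smul_eq_mul,
        smul_eq_mul] at h1
      rw [polar_add_right, polar_smul_right, polar_smul_right, OrthChar.polar_self', hf, hfe, smul_eq_mul,
        smul_eq_mul] at h3
      constructor
      · linear_combination h3
      · linear_combination h1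
    have hsp : Submodule.span F (Set.range ![e, f]) = W := by
      refine Submodule.eq_of_le_of_finrank_le (Submodule.span_le.2 ?_) (by rw [finrank_span_eq_card hli, hdim]; simp)
      rintro - ⟨i, rfl⟩
      fin_cases i
      · exact heW
      · exact hfW
    intro y hy
    rw [← hsp, Submodule.mem_span_range_iff_exists_fun] at hy
    obtain ⟨c, rfl⟩ := hy
    exact ⟨c 0, c 1, by simp [Fin.sum_univ_two]⟩
  obtain ⟨u, hudef⟩ : ∃ u, u = e + f := ⟨_, rfl⟩
  have huW : u ∈ W := hudef ▸ add_mem heW hfW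
  have hQu : Q u = 1 := by rw [hudef, map_add', he, hf, hef]; ring
  have hval : ∀ a b : F, Q (a • e + b • f) = a * b := fun a b => by
    rw [map_add', OrthChar.map_smul', OrthChar.map_smul', he, hf, polar_smul_left, polar_smul_right, hef,
      smul_eq_mul, smul_eq_mul]
    ring
  have huniq : ∀ a b : F, a * b = 1 → a = b := by
    intro a b hab
    have ha : a ≠ 0 := fun h => by rw [h, zero_mul] at hab; exact zero_ne_one hab
    have hq1 : 1 < Fintype.card F := Fintype.one_lt_card
    have hpow : a ^ (Fintype.card F - 1) = 1 := FiniteField.pow_card_sub_one_eq_one a ha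
    have ha2 : a * a = 1 := by
      rcases (show Fintype.card F = 2 ∨ Fintype.card F = 3 by omega) with h | h <;> rw [h] at hpow <;> simp at hpow
      · rw [hpow, mul_one]
      · rcases hpow with h' | h' <;> rw [h'] <;> ring
    calc a = a * (a * b) := by rw [hab, mul_one]
      _ = b := by rw [← mul_assoc, ha2, one_mul]
  obtain ⟨s, ⟨hs1, hs2⟩, hs0, hs⟩ : ∃ s ∈ perp Q e ⊓ perp Q f, s ≠ 0 ∧ Q s = 0 := by
    refine exists_singular _ ?_
    have h1 := OrthRoot.finrank_perp (Q := Q) e
    have h3 := finrank_inf_perp (Q := Q) (perp Q e) f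
    omega
  rw [SetLike.mem_coe, mem_perp] at hs1 hs2
  have hse : polar ⇑Q s e = 0 := by rw [polar_comm, hs1]
  have hsf : polar ⇑Q s f = 0 := by rw [polar_comm, hs2]
  have hsW : s ∉ W := fun h => by
    obtain ⟨a, b, rfl⟩ := hspan s h
    rw [polar_add_right, polar_smul_right, polar_smul_right, OrthChar.polar_self', he, hef, smul_eq_mul,
      smul_eq_mul] at hs1
    rw [polar_add_right, polar_smul_right, polar_smul_right, OrthChar.polar_self', hf, hfe, smul_eq_mul,
      smul_eq_mul] at hs2
    refine hs0 ?_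
    rw [show a = 0 by linear_combination hs2, show b = 0 by linear_combination hs1, zero_smul, zero_smul, zero_add]
  have hmem : ∀ a, polar ⇑Q s a = 0 → ((E Q s a : Cfsg.isometryGroup F ⇑Q) : GL ι F) ∈ Cfsg.Geo.omegaGL ⇑Q := fun a ha => by
    refine ⟨E Q s a, ?_, rfl⟩
    rw [omega_eq hQ (by omega)]
    exact E_mem hQ (by omega) hs ha
  let L := Submodule.span F ({u} : Set (ι → F))
  have hle : Cfsg.Geo.subspaceStabilizer W ⊓ Cfsg.Geo.omegaGL ⇑Q ≤
      Cfsg.Geo.subspaceStabilizer L ⊓ Cfsg.Geo.omegaGL ⇑Q := by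
    rintro g ⟨hg, g', hg', rfl⟩
    refine ⟨OrthFamMax.stab_of_img (Submodule.eq_of_le_of_finrank_le ?_ ?_), g', hg', rfl⟩
    · intro y hy
      obtain ⟨z, hz, rfl⟩ := OrthFamMax.mem_img.1 hy
      obtain ⟨c, rfl⟩ := Submodule.mem_span_singleton.1 hz
      rw [OrthRoot.act_smul]
      refine Submodule.smul_mem _ c ?_
      obtain ⟨a, b, hab⟩ := hspan _ ((OrthFamMax.mem_stab.1 hg u).1 huW)
      have hab' : act Q g' u = a • e + b • f := hab
      have h1 : a * b = 1 := by rw [← hval, ← hab', act_Q, hQu]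
      have := huniq a b h1
      subst this
      rw [hab', ← smul_add, ← hudef]
      exact Submodule.smul_mem _ _ (Submodule.mem_span_singleton_self u)
    · exact le_of_eq (Submodule.equivMapOfInjective _ (OrthFamMax.lin_inj g') L).finrank_eq
  refine ⟨Cfsg.Geo.subspaceStabilizer L ⊓ Cfsg.Geo.omegaGL ⇑Q, lt_of_le_not_ge hle ?_,
    lt_of_le_not_ge inf_le_right ?_⟩
  · intro h
    have hsa : polar ⇑Q s (e - f) = 0 := by
      rw [sub_eq_add_neg, polar_add_right, polar_neg_right, hse, hsf, neg_zero, add_zero]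
    have hau : polar ⇑Q (e - f) u = 0 := by
      rw [hudef, sub_eq_add_neg, polar_add_left, polar_neg_left, polar_add_right, polar_add_right,
        OrthChar.polar_self', OrthChar.polar_self', he, hf, hef, hfe]
      ring
    have hgu : act Q (E Q s (e - f)) u = u := by
      rw [E_act hs hsa, hau, show polar ⇑Q s u = 0 by rw [hudef, polar_add_right, hse, hsf, add_zero]]
      simp
    have hfix : ((E Q s (e - f) : Cfsg.isometryGroup F ⇑Q) : GL ι F) ∈ Cfsg.Geo.subspaceStabilizer L := by
      refine OrthFamMax.stab_of_img (Submodule.eq_of_le_of_finrank_le ?_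
        (le_of_eq (Submodule.equivMapOfInjective _ (OrthFamMax.lin_inj _) L).finrank_eq))
      intro y hy
      obtain ⟨z, hz, rfl⟩ := OrthFamMax.mem_img.1 hy
      obtain ⟨c, rfl⟩ := Submodule.mem_span_singleton.1 hz
      rw [OrthRoot.act_smul, hgu]; exact hz
    have h1 : act Q (E Q s (e - f)) e ∈ W := (OrthFamMax.mem_stab.1 (h ⟨hfix, hmem _ hsa⟩).1 e).1 heW
    rw [E_act hs hsa, hse] at h1
    have hp : polar ⇑Q (e - f) e = -1 := by
      rw [sub_eq_add_neg, polar_add_left, polar_neg_left, OrthChar.polar_self', he, hfe]; ring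
    rw [hp] at h1
    refine hsW ?_
    have h3 := sub_mem h1 heW
    convert h3 using 1
    simp
  · intro h
    have h1 : act Q (E Q s e) u ∈ L :=
      (OrthFamMax.mem_stab.1 (h (hmem _ hse)).1 u).1 (Submodule.mem_span_singleton_self u)
    have hsu : polar ⇑Q s u = 0 := by rw [hudef, polar_add_right, hse, hsf, add_zero]
    have heu : polar ⇑Q e u = 1 := by rw [hudef, polar_add_right, OrthChar.polar_self', he, hef]; ring
    rw [E_act hs hse, hsu, heu] at h1
    have hLW : L ≤ W := (Submodule.span_singleton_le_iff_mem _ _).2 huW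
    have h3 := sub_mem huW (hLW h1)
    refine hsW ?_
    convert h3 using 1
    simp

end CfsgLib.Lie.OrthPlaneStab
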