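import Cfsg.Agent.Lie.UnitaryConj
import Cfsg.Agent.Lie.Witt
import Cfsg.Prelude.Def_Classical

/-!
Conjugacy of semisimple elements of odd order of an orthogonal group is controlled by the general linear group.
-/

set_option autoImplicit false
set_option linter.unusedSectionVars false
set_option linter.unusedSimpArgs false
set_option linter.style.haveILetI false

namespace CfsgLib.Lie.OrthSemiConj

open Matrix

variable {F : Type*} [Field F] [Fintype F] {n : ℕ}

set_option maxHeartbeats 1000000 in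
theorem isConj_iff' {p : ℕ} [Fact p.Prime] [CharP F p] (Q : QuadraticForm F (Fin n → F))
    (hQ : (QuadraticMap.polarBilin Q).Nondegenerate) (A B : ↥(Cfsg.isometryGroup F ⇑Q)) (hodd : Odd (orderOf A))
    (hA : (orderOf A).Coprime p) :
    IsConj A B ↔ IsConj ((A : GL (Fin n) F) : Matrix (Fin n) (Fin n) F) ((B : GL (Fin n) F) : Matrix (Fin n) (Fin n) F) := by
  classical
  refine ⟨fun h => MonoidHom.map_isConj ((Units.coeHom _).comp (Cfsg.isometryGroup F ⇑Q).subtype) h, fun hc => ?_⟩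
  rcases Nat.eq_zero_or_pos n with rfl | hn
  · rw [show A = B from Subtype.ext (Units.ext (Subsingleton.elim _ _))]
  haveI : Nonempty (Fin n) := ⟨⟨0, hn⟩⟩
  obtain ⟨x, hx⟩ := hc
  obtain ⟨g, hg⟩ : ∃ g : Matrix (Fin n) (Fin n) F, g = (A : GL (Fin n) F) := ⟨_, rfl⟩
  obtain ⟨h', hh'⟩ : ∃ h' : Matrix (Fin n) (Fin n) F, h' = (B : GL (Fin n) F) := ⟨_, rfl⟩
  have hxg : (x : Matrix (Fin n) (Fin n) F) * g = h' * x := by rw [hg, hh']; exact hx
  have hQg : ∀ v, Q (g *ᵥ v) = Q v := fun v => hg ▸ A.2 v v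
  have hQh : ∀ v, Q (h' *ᵥ v) = Q v := fun v => hh' ▸ B.2 v v
  obtain ⟨M, hM⟩ : ∃ M, M = LinearMap.toMatrix₂' F (QuadraticMap.polarBilin Q) := ⟨_, rfl⟩
  have hpol : ∀ u v, QuadraticMap.polarBilin Q u v = u ⬝ᵥ (M *ᵥ v) := fun u v => by
    rw [hM, ← Matrix.toLinearMap₂'_apply', Matrix.toLinearMap₂'_toMatrix']
  have hMu : IsUnit M := by
    rw [← Matrix.mulVec_injective_iff_isUnit]
    intro a b hab
    refine sub_eq_zero.1 (hQ.2 (a - b) fun u => ?_)
    rw [hpol, Matrix.mulVec_sub]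
    change u ⬝ᵥ (M *ᵥ a - M *ᵥ b) = 0
    rw [show M *ᵥ a = M *ᵥ b from hab, sub_self, dotProduct_zero]
  obtain ⟨u, hu⟩ := hMu
  obtain ⟨Mi, hMi⟩ : ∃ Mi : Matrix (Fin n) (Fin n) F, Mi = ((u⁻¹ : (Matrix (Fin n) (Fin n) F)ˣ) : Matrix (Fin n) (Fin n) F) := ⟨_, rfl⟩
  have hMMi : M * Mi = 1 := by rw [← hu, hMi]; exact u.mul_inv
  have hMiM : Mi * M = 1 := mul_eq_one_comm.1 hMMi
  have hent : ∀ X : Matrix (Fin n) (Fin n) F, ∀ a b, (X *ᵥ a) ⬝ᵥ (M *ᵥ (X *ᵥ b)) = a ⬝ᵥ ((Xᵀ * M * X) *ᵥ b) := fun X a b => by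
    rw [← Matrix.mulVec_mulVec, ← Matrix.mulVec_mulVec, Matrix.dotProduct_mulVec a, Matrix.vecMul_transpose]
  have hext : ∀ X Y : Matrix (Fin n) (Fin n) F, (∀ a b, a ⬝ᵥ (X *ᵥ b) = a ⬝ᵥ (Y *ᵥ b)) → X = Y := fun X Y h =>
    Matrix.ext fun i j => by
      have := h (Pi.single i 1) (Pi.single j 1)
      rw [single_dotProduct, single_dotProduct, one_mul, one_mul, Matrix.mulVec_single_one, Matrix.mulVec_single_one] at this
      exact this
  have hMT : Mᵀ = M := hext _ _ fun a b => by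
    rw [Matrix.dotProduct_mulVec, Matrix.vecMul_transpose, dotProduct_comm, ← hpol, ← hpol]
    exact QuadraticMap.polar_comm _ _ _
  have hMiT : Miᵀ = Mi := by
    have h1 := congrArg Matrix.transpose hMMi
    rw [Matrix.transpose_mul, hMT, Matrix.transpose_one] at h1
    exact left_inv_eq_right_inv h1 hMMi
  obtain ⟨τ, hτ⟩ : ∃ τ : Matrix (Fin n) (Fin n) F → Matrix (Fin n) (Fin n) F, ∀ X, τ X = Mi * Xᵀ * M := ⟨_, fun _ => rfl⟩
  have hMτ : ∀ X, M * τ X = Xᵀ * M := fun X => by rw [hτ, ← mul_assoc, ← mul_assoc, hMMi, one_mul]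
  have hτmul : ∀ X Y, τ (X * Y) = τ Y * τ X := fun X Y => by
    rw [hτ, hτ, hτ, Matrix.transpose_mul]
    simp only [mul_assoc]
    rw [← mul_assoc M, hMMi, one_mul]
  have hττ : ∀ X, τ (τ X) = X := fun X => by
    rw [hτ, hτ, Matrix.transpose_mul, Matrix.transpose_mul, Matrix.transpose_transpose, hMT, hMiT]
    simp only [mul_assoc]
    rw [hMiM, mul_one, ← mul_assoc, hMiM, one_mul]
  have hτadd : ∀ X Y, τ (X + Y) = τ X + τ Y := fun X Y => by rw [hτ, hτ, hτ, Matrix.transpose_add, mul_add, add_mul]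
  have hτone : τ 1 = 1 := by rw [hτ, Matrix.transpose_one, mul_one, hMiM]
  have hτalg : ∀ c : F, τ (algebraMap F _ c) = algebraMap F _ c := fun c => by
    rw [hτ, Algebra.algebraMap_eq_smul_one, Matrix.transpose_smul, Matrix.transpose_one, Matrix.mul_smul, mul_one,
      Matrix.smul_mul, hMiM]
  have hiso : ∀ X : Matrix (Fin n) (Fin n) F, (∀ v, Q (X *ᵥ v) = Q v) → τ X * X = 1 := fun X hX => by
    have h1 : Xᵀ * M * X = M := hext _ _ fun a b => by
      rw [← hent, ← hpol, ← hpol]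
      simp only [QuadraticMap.polarBilin_apply_apply, QuadraticMap.polar, ← Matrix.mulVec_add, hX]
    rw [hτ, mul_assoc Mi, mul_assoc Mi, h1, hMiM]
  have hgS := hiso g hQg
  have hhS := hiso h' hQh
  have hgS' : g * τ g = 1 := mul_eq_one_comm.1 hgS
  obtain ⟨N, hN⟩ : ∃ N, N = orderOf A := ⟨_, rfl⟩
  have hN0 : 0 < N := hN ▸ orderOf_pos A
  have hgN : g ^ N = 1 := by
    rw [hg, hN, ← Units.val_pow_eq_pow_val, ← SubmonoidClass.coe_pow, pow_orderOf_eq_one, OneMemClass.coe_one,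
      Units.val_one]
  have hτg : τ g = g ^ (N - 1) := by
    calc τ g = τ g * g ^ N := by rw [hgN, mul_one]
      _ = g ^ (N - 1) := by rw [← Nat.sub_add_cancel hN0, pow_succ', ← mul_assoc, hgS, one_mul, Nat.add_sub_cancel]
  obtain ⟨a, ha⟩ : ∃ a, a = τ (x : Matrix (Fin n) (Fin n) F) * x := ⟨_, rfl⟩
  have hag : Commute a g := by
    have h2 : τ g * τ (x : Matrix (Fin n) (Fin n) F) = τ (x : Matrix (Fin n) (Fin n) F) * τ h' := by
      rw [← hτmul, hxg, hτmul]
    calc a * g = 1 * (τ (x : Matrix (Fin n) (Fin n) F) * (x * g)) := by rw [one_mul, ha, mul_assoc]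
      _ = g * (τ g * τ (x : Matrix (Fin n) (Fin n) F)) * (h' * x) := by
        rw [← hgS', hxg]; simp only [mul_assoc]
      _ = g * (τ (x : Matrix (Fin n) (Fin n) F) * (τ h' * h') * x) := by
        rw [h2]; simp only [mul_assoc]
      _ = g * a := by rw [hhS, mul_one, ha]
  have haS : τ a = a := by rw [ha, hτmul, hττ]
  let R := Algebra.adjoin F ({g, a} : Set (Matrix (Fin n) (Fin n) F))
  haveI hRc : IsMulCommutative R := Algebra.isMulCommutative_adjoin F (by
    rintro u (rfl | rfl) v (rfl | rfl)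
    · rfl
    · exact hag.eq.symm
    · exact hag.eq
    · rfl)
  letI : CommRing R := { (inferInstance : Ring R) with mul_comm := hRc.is_comm.comm }
  haveI : Finite R := Subtype.finite
  have hgR : g ∈ R := Algebra.subset_adjoin (Or.inl rfl)
  have haR : a ∈ R := Algebra.subset_adjoin (Or.inr rfl)
  have hR : ∀ X ∈ R, τ X ∈ R := by
    intro X hX
    induction hX using Algebra.adjoin_induction with
    | mem X hX =>
      rcases hX with rfl | rfl
      · rw [hτg]; exact R.pow_mem hgR _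
      · rw [haS]; exact haR
    | algebraMap c => rw [hτalg]; exact R.algebraMap_mem c
    | add X Y _ _ h1 h2 => rw [hτadd]; exact R.add_mem h1 h2
    | mul X Y _ _ h1 h2 => rw [hτmul]; exact R.mul_mem h2 h1
  let σ : R →+* R :=
    { toFun := fun X => ⟨τ X.1, hR X.1 X.2⟩
      map_one' := Subtype.ext hτone
      map_mul' := fun X Y => Subtype.ext (by
        show τ (X.1 * Y.1) = τ X.1 * τ Y.1
        rw [hτmul]
        exact congrArg Subtype.val (mul_comm (⟨_, hR Y.1 Y.2⟩ : R) ⟨_, hR X.1 X.2⟩))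
      map_zero' := Subtype.ext (by show τ 0 = 0; rw [hτ, Matrix.transpose_zero, mul_zero, zero_mul])
      map_add' := fun X Y => Subtype.ext (hτadd X.1 Y.1) }
  have hσσ : ∀ X, σ (σ X) = X := fun X => Subtype.ext (hττ X.1)
  obtain ⟨G, hG⟩ : ∃ G : R, G = ⟨g, hgR⟩ := ⟨_, rfl⟩
  obtain ⟨A', hA'⟩ : ∃ A' : R, A' = ⟨a, haR⟩ := ⟨_, rfl⟩
  have hσG : σ G * G = 1 := Subtype.ext (by rw [hG]; exact hgS)
  obtain ⟨k, hk, hid⟩ := UnitaryConj.exists_idem ((G - σ G) * (G - σ G))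
  obtain ⟨e, he⟩ : ∃ e, e = ((G - σ G) * (G - σ G)) ^ k := ⟨_, rfl⟩
  rw [← he] at hid
  have hσe : σ e = e := by rw [he, map_pow, map_mul, map_sub, hσσ]; ring_nf
  haveI : CharP R p := charP_of_injective_algebraMap (R := F) (A := R) (fun s t hst =>
    (algebraMap F (Matrix (Fin n) (Fin n) F)).injective (congrArg Subtype.val hst)) p
  have hGN : G ^ N = 1 := Subtype.ext (by rw [hG]; exact hgN)
  have hone : ∀ (H : R), H ^ N = 1 → ∀ j, ((1 - e) * H + e) ^ j = 1 → N.Coprime j → (1 - e) * H = 1 - e := by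
    intro H hH j hj hco
    have hu : ∀ i, ((1 - e) * H + e) ^ i = (1 - e) * H ^ i + e := fun i => by
      induction i with
      | zero => rw [pow_zero, pow_zero]; ring
      | succ i ih => rw [pow_succ, ih, pow_succ]; linear_combination (H ^ i * H - H ^ i - H + 1) * hid
    have hu2 : ((1 - e) * H + e) ^ N = 1 := by rw [hu, hH]; ring
    have := pow_gcd_eq_one.2 ⟨hu2, hj⟩
    rw [Nat.Coprime.gcd_eq_one hco, pow_one] at this
    linear_combination this
  have hne1 : (1 - e) * (G * G) = 1 - e := by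
    refine hone _ (by rw [mul_pow, hGN, one_mul]) (p ^ (2 * k)) ?_ (Nat.Coprime.pow_right _ (hN ▸ hA))
    have hnil : ((1 - e) * (G * G) + e - 1) ^ (2 * k) = 0 := by
      have h1 : (1 - e) * (G * G) + e - 1 = (1 - e) * ((G - σ G) * G) := by linear_combination (1 - e) * hσG
      rw [h1, mul_pow, mul_pow, show (G - σ G) ^ (2 * k) = e by rw [he, pow_mul, sq],
        show (1 - e) ^ (2 * k) = 1 - e from IsIdempotentElem.pow_eq (IsIdempotentElem.one_sub hid) (by omega)]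
      linear_combination (-G ^ (2 * k)) * hid
    have h2 := pow_eq_zero_of_le (Nat.lt_pow_self (n := 2 * k) (Fact.out : p.Prime).one_lt).le hnil
    rwa [sub_pow_char_pow, one_pow, sub_eq_zero] at h2
  have hfix : (1 - e) * G = 1 - e := by
    refine hone G hGN 2 ?_ (Nat.coprime_two_right.2 (hN ▸ hodd))
    linear_combination hne1 + (G * G - 2 * G + 1) * hid
  let I : Ideal R := Ideal.span {1 - e}
  have hI : I ≤ RingHom.ker ((Ideal.Quotient.mk I).comp σ) := by
    rw [Ideal.span_le, Set.singleton_subset_iff, SetLike.mem_coe, RingHom.mem_ker, RingHom.comp_apply, map_sub,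
      map_one, hσe, Ideal.Quotient.eq_zero_iff_mem]
    exact Ideal.subset_span rfl
  let σ' : R ⧸ I →+* R ⧸ I := Ideal.Quotient.lift I ((Ideal.Quotient.mk I).comp σ) hI
  haveI : Finite (R ⧸ I) := Finite.of_surjective _ Ideal.Quotient.mk_surjective
  have hσ' : ∀ X, σ' (Ideal.Quotient.mk I X) = Ideal.Quotient.mk I (σ X) := fun X => rfl
  have he1 : Ideal.Quotient.mk I e = 1 := by
    rw [← map_one (Ideal.Quotient.mk I), Ideal.Quotient.eq, show e - 1 = -(1 - e) by ring]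
    exact I.neg_mem (Ideal.subset_span rfl)
  have hω : IsUnit (Ideal.Quotient.mk I G - σ' (Ideal.Quotient.mk I G)) := by
    rw [hσ', ← map_sub]
    refine IsUnit.of_pow_eq_one (n := 2 * k) ?_ (by omega)
    rw [← map_pow, pow_mul, sq, ← he, he1]
  obtain ⟨A'i, hA'i⟩ : ∃ A'i : R, A' * A'i = 1 := by
    refine Finite.surjective_of_injective (f := fun r : R => A' * r) (fun s t hst => Subtype.ext ?_) 1
    have hu : IsUnit a := by
      rw [ha]
      refine IsUnit.mul ?_ x.isUnit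
      exact IsUnit.of_mul_eq_one (τ ((x⁻¹ : GL (Fin n) F) : Matrix (Fin n) (Fin n) F)) (by
        rw [← hτmul, ← Units.val_mul, inv_mul_cancel, Units.val_one, hτone])
    have hst' := congrArg Subtype.val hst
    rw [hA'] at hst'
    exact hu.mul_left_cancel hst'
  obtain ⟨r, hr⟩ : ∃ r : R, e * (σ r * r) = e * A' := by
    obtain ⟨y, hy⟩ := UnitaryConj.norm_surj σ' (fun X => by
        obtain ⟨X, rfl⟩ := Ideal.Quotient.mk_surjective X
        rw [hσ', hσ', hσσ]) _ hω ((IsUnit.of_mul_eq_one A'i hA'i).map (Ideal.Quotient.mk I)).unit (by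
        rw [IsUnit.unit_spec, hσ']
        congr 1
        exact Subtype.ext (by rw [hA']; exact haS))
    obtain ⟨r, hr⟩ := Ideal.Quotient.mk_surjective (y : R ⧸ I)
    rw [← hr, hσ', ← map_mul, IsUnit.unit_spec, Ideal.Quotient.eq, Ideal.mem_span_singleton'] at hy
    obtain ⟨c, hc⟩ := hy
    exact ⟨r, by linear_combination -e * hc - c * hid⟩
  obtain ⟨Yi, hYi⟩ : ∃ Yi : R, Yi = e * (σ r * A'i) + (1 - e) := ⟨_, rfl⟩
  have hY : (e * r + (1 - e)) * Yi = 1 := by
    rw [hYi]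
    linear_combination A'i * hr + e * hA'i + (σ r * r * A'i - r - σ r * A'i + 1) * hid
  obtain ⟨x', hx'⟩ : ∃ x' : Matrix (Fin n) (Fin n) F, x' = (x : Matrix (Fin n) (Fin n) F) * (Yi : Matrix (Fin n) (Fin n) F) := ⟨_, rfl⟩
  have hco : ∀ u v : R, (u : Matrix (Fin n) (Fin n) F) * v = v * u := fun u v => congrArg Subtype.val (mul_comm u v)
  have hx'g : x' * g = h' * x' := by
    rw [hx', mul_assoc, hco Yi ⟨g, hgR⟩, ← mul_assoc, hxg, mul_assoc]
  have hnorm : τ x' * x' * (e : Matrix (Fin n) (Fin n) F) = e := by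
    have key : σ Yi * A' * Yi * e = e := by
      rw [hYi, map_add, map_mul, map_mul, map_sub, map_one, hσσ, hσe]
      have hσi : σ A'i = A'i := by
        have h1 := congrArg σ hA'i
        rw [map_mul, map_one, show σ A' = A' from Subtype.ext (by rw [hA']; exact haS)] at h1
        linear_combination A'i * h1 - σ A'i * hA'i
      rw [hσi]
      linear_combination (A' * A'i * A'i) * hr + e * (1 + A' * A'i) * hA'i +
        (r * σ r * A'i * A'i * A' * (e + 1) + A' * (1 - e) * (e * (σ r * A'i) + e * (r * A'i) + (1 - e)) * 0) * hid +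
        (A' * A'i * (r + σ r) * (1 - e) + A' * (e - 1) - A' * A'i * (r + σ r)) * hid
    have := congrArg Subtype.val key
    simp only [MulMemClass.coe_mul, hA'] at this
    rw [hx', hτmul, mul_assoc (τ _), ← mul_assoc (τ (x : Matrix (Fin n) (Fin n) F)), ← ha, ← mul_assoc (τ _)]
    exact this
  have heg : (e : Matrix (Fin n) (Fin n) F) * g = g * (e : Matrix (Fin n) (Fin n) F) := hco e ⟨g, hgR⟩
  have hee : (e : Matrix (Fin n) (Fin n) F) * e = e := congrArg Subtype.val hid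
  -- the map on the moving part is an isometry
  let X := LinearMap.range (e : Matrix (Fin n) (Fin n) F).mulVecLin
  have hXfix : ∀ v : X, (e : Matrix (Fin n) (Fin n) F) *ᵥ (v : Fin n → F) = v := by
    rintro ⟨v, w, rfl⟩
    show (e : Matrix (Fin n) (Fin n) F) *ᵥ ((e : Matrix (Fin n) (Fin n) F) *ᵥ w) = (e : Matrix (Fin n) (Fin n) F) *ᵥ w
    rw [Matrix.mulVec_mulVec, hee]
  have hpolX : ∀ v w : X, QuadraticMap.polarBilin Q (x' *ᵥ (v : Fin n → F)) (x' *ᵥ (w : Fin n → F)) =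
      QuadraticMap.polarBilin Q (v : Fin n → F) (w : Fin n → F) := fun v w => by
    rw [hpol, hpol, hent, ← hMτ, mul_assoc M, ← Matrix.mulVec_mulVec, ← hXfix w, Matrix.mulVec_mulVec (w : Fin n → F), hnorm]
  have hQX : ∀ v : X, Q (x' *ᵥ (v : Fin n → F)) = Q (v : Fin n → F) := by
    obtain ⟨l, hl⟩ : ∃ l : X → F, ∀ v : X, l v = Q (x' *ᵥ (v : Fin n → F)) - Q (v : Fin n → F) := ⟨_, fun _ => rfl⟩
    have hadd : ∀ v w : X, l (v + w) = l v + l w := fun v w => by
      have h1 := hpolX v w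
      simp only [QuadraticMap.polarBilin_apply_apply, QuadraticMap.polar] at h1
      rw [hl, hl, hl, Submodule.coe_add, Matrix.mulVec_add]
      linear_combination h1
    have hinv : ∀ v w : X, (w : Fin n → F) = g *ᵥ (v : Fin n → F) → l w = l v := fun v w hw => by
      rw [hl, hl, hw, hQg, Matrix.mulVec_mulVec, hx'g, ← Matrix.mulVec_mulVec, hQh]
    intro v
    rw [← sub_eq_zero, ← hl]
    obtain ⟨z, hz⟩ : ∃ z : R, (G - σ G) * z = e ∧ e * z = z := by
      refine ⟨e * (G - σ G) ^ (2 * k - 1), ?_, by linear_combination (G - σ G) ^ (2 * k - 1) * hid⟩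
      have h2 : (G - σ G) * (G - σ G) ^ (2 * k - 1) = e := by
        rw [← pow_succ', show 2 * k - 1 + 1 = 2 * k by omega, he, pow_mul, sq]
      linear_combination e * h2 + hid
    have hmem : ∀ (Z : R) (w : Fin n → F), e * Z = Z → (Z : Matrix (Fin n) (Fin n) F) *ᵥ w ∈ X := fun Z w hZ =>
      ⟨(Z : Matrix (Fin n) (Fin n) F) *ᵥ w, by rw [Matrix.mulVecLin_apply, Matrix.mulVec_mulVec, ← MulMemClass.coe_mul, hZ]⟩
    obtain ⟨p1, hp1⟩ : ∃ p1 : X, (p1 : Fin n → F) = (z : Matrix (Fin n) (Fin n) F) *ᵥ (v : Fin n → F) :=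
      ⟨⟨_, hmem z _ hz.2⟩, rfl⟩
    obtain ⟨p2, hp2⟩ : ∃ p2 : X, (p2 : Fin n → F) = ((G * z : R) : Matrix (Fin n) (Fin n) F) *ᵥ (v : Fin n → F) :=
      ⟨⟨_, hmem _ _ (by linear_combination G * hz.2)⟩, rfl⟩
    obtain ⟨p3, hp3⟩ : ∃ p3 : X, (p3 : Fin n → F) = ((σ G * z : R) : Matrix (Fin n) (Fin n) F) *ᵥ (v : Fin n → F) :=
      ⟨⟨_, hmem _ _ (by linear_combination σ G * hz.2)⟩, rfl⟩
    have e1 : l p2 = l p1 := hinv _ _ (by rw [hp2, hp1, Matrix.mulVec_mulVec, MulMemClass.coe_mul, hG])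
    have e2 : l p1 = l p3 := hinv _ _ (by
      rw [hp3, hp1, Matrix.mulVec_mulVec,
        show g * ((σ G * z : R) : Matrix (Fin n) (Fin n) F) = ((G * (σ G * z) : R) : Matrix (Fin n) (Fin n) F) by
          rw [hG]; rfl,
        show G * (σ G * z) = z by linear_combination z * hσG])
    have e3 : p2 = v + p3 := Subtype.ext (by
      rw [Submodule.coe_add, hp2, hp3]
      rw [congrArg Subtype.val (show G * z = e + σ G * z by linear_combination hz.1), AddMemClass.coe_add,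
        Matrix.add_mulVec, hXfix])
    rw [e3, hadd, ← e2] at e1
    linear_combination e1
  obtain ⟨Φ, hΦ, hΦX⟩ := Witt.witt_quadratic Q hQ X (x'.mulVecLin.comp X.subtype) (fun v w hvw => by
      refine Subtype.ext ?_
      have h1 := congrArg (fun z => τ x' *ᵥ z) (show x' *ᵥ (v : Fin n → F) = x' *ᵥ (w : Fin n → F) from hvw)
      simp only [Matrix.mulVec_mulVec] at h1
      rwa [← hXfix v, ← hXfix w, Matrix.mulVec_mulVec, Matrix.mulVec_mulVec, hnorm, hXfix, hXfix] at h1) hQX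
  obtain ⟨P, hP⟩ : ∃ P : Matrix (Fin n) (Fin n) F, P = LinearMap.toMatrix' Φ.toLinearMap := ⟨_, rfl⟩
  have hPv : ∀ v, P *ᵥ v = Φ v := fun v => by rw [hP, LinearMap.toMatrix'_mulVec]; rfl
  have hPiso : ∀ v, Q (P *ᵥ v) = Q v := fun v => by rw [hPv, hΦ]
  have hPS := hiso P hPiso
  have hcomm : ∀ v, P *ᵥ (g *ᵥ v) = h' *ᵥ (P *ᵥ v) := by
    have hΦe : ∀ w, P *ᵥ ((e : Matrix (Fin n) (Fin n) F) *ᵥ w) = x' *ᵥ ((e : Matrix (Fin n) (Fin n) F) *ᵥ w) := fun w => by
      rw [hPv]; exact hΦX ⟨_, w, rfl⟩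
    intro v
    have hsplit : v = (e : Matrix (Fin n) (Fin n) F) *ᵥ v + ((1 - e : R) : Matrix (Fin n) (Fin n) F) *ᵥ v := by
      rw [← Matrix.add_mulVec, AddSubgroupClass.coe_sub, OneMemClass.coe_one, add_sub_cancel, Matrix.one_mulVec]
    obtain ⟨w, hw⟩ : ∃ w, w = ((1 - e : R) : Matrix (Fin n) (Fin n) F) *ᵥ v := ⟨_, rfl⟩
    have hgw : g *ᵥ w = w := by
      rw [hw, Matrix.mulVec_mulVec]
      congr 1
      have := congrArg Subtype.val (show G * (1 - e) = 1 - e by rw [mul_comm]; exact hfix)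
      rw [hG] at this
      exact this
    have hw0 : h' *ᵥ (P *ᵥ w) = P *ᵥ w := by
      refine sub_eq_zero.1 (hQ.1 _ fun z => ?_)
      -- split z through x'
      obtain ⟨z0, hz0⟩ : ∃ z0, x' *ᵥ z0 = z := ⟨((e * r + (1 - e) : R) : Matrix (Fin n) (Fin n) F) *ᵥ
        (((x⁻¹ : GL (Fin n) F) : Matrix (Fin n) (Fin n) F) *ᵥ z), by
          rw [Matrix.mulVec_mulVec, Matrix.mulVec_mulVec, hx', mul_assoc (x : Matrix (Fin n) (Fin n) F), ← MulMemClass.coe_mul,
            mul_comm Yi, hY, OneMemClass.coe_one, mul_one, Units.mul_inv, Matrix.one_mulVec]⟩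
      rw [← hz0, map_sub, LinearMap.sub_apply]
      have split0 : z0 = (e : Matrix (Fin n) (Fin n) F) *ᵥ z0 + ((1 - e : R) : Matrix (Fin n) (Fin n) F) *ᵥ z0 := by
        rw [← Matrix.add_mulVec, AddSubgroupClass.coe_sub, OneMemClass.coe_one, add_sub_cancel, Matrix.one_mulVec]
      have hperp : ∀ y, QuadraticMap.polarBilin Q (P *ᵥ w) (x' *ᵥ ((e : Matrix (Fin n) (Fin n) F) *ᵥ y)) = 0 := fun y => by
        rw [← hΦe, hpol, hent, ← hMτ, mul_assoc M, hPS, mul_one, hw,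
          ← Matrix.vecMul_transpose, ← Matrix.dotProduct_mulVec, Matrix.mulVec_mulVec, Matrix.mulVec_mulVec, ← hMτ, mul_assoc,
          show τ ((1 - e : R) : Matrix (Fin n) (Fin n) F) * (e : Matrix (Fin n) (Fin n) F) = 0 by
            show ((σ (1 - e) : R) : Matrix (Fin n) (Fin n) F) * (e : Matrix (Fin n) (Fin n) F) = 0
            rw [← MulMemClass.coe_mul, map_sub, map_one, hσe,
              show (1 - e) * e = 0 by linear_combination -hid, ZeroMemClass.coe_zero],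
          mul_zero, Matrix.zero_mulVec, dotProduct_zero]
      have hpres : ∀ a b, QuadraticMap.polarBilin Q (h' *ᵥ a) (h' *ᵥ b) = QuadraticMap.polarBilin Q a b := fun a b => by
        simp only [QuadraticMap.polarBilin_apply_apply, QuadraticMap.polar, ← Matrix.mulVec_add, hQh]
      have hA1 : ∀ y, QuadraticMap.polarBilin Q (h' *ᵥ (P *ᵥ w)) (x' *ᵥ ((e : Matrix (Fin n) (Fin n) F) *ᵥ y)) = 0 := fun y => by
        have h2 : h' *ᵥ (x' *ᵥ ((e : Matrix (Fin n) (Fin n) F) *ᵥ (τ g *ᵥ y))) = x' *ᵥ ((e : Matrix (Fin n) (Fin n) F) *ᵥ y) := by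
          simp only [Matrix.mulVec_mulVec, ← mul_assoc]
          rw [← hx'g, mul_assoc x' g, ← heg, ← mul_assoc, mul_assoc _ g, hgS', mul_one]
        rw [← h2, hpres]
        exact hperp _
      have hA2 : h' *ᵥ (x' *ᵥ (((1 - e : R) : Matrix (Fin n) (Fin n) F) *ᵥ z0)) = x' *ᵥ (((1 - e : R) : Matrix (Fin n) (Fin n) F) *ᵥ z0) := by
        rw [Matrix.mulVec_mulVec, Matrix.mulVec_mulVec, Matrix.mulVec_mulVec, ← hx'g, mul_assoc x' g]
        congr 2
        have := congrArg Subtype.val (show G * (1 - e) = 1 - e by rw [mul_comm]; exact hfix)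
        rw [hG] at this
        exact this
      rw [split0, Matrix.mulVec_add, map_add, map_add, hperp, hA1]
      conv_lhs => arg 1; rw [← hA2, hpres]
      ring
    conv_lhs => rw [hsplit, ← hw, Matrix.mulVec_add, hgw, Matrix.mulVec_add]
    conv_rhs => rw [hsplit, ← hw, Matrix.mulVec_add, Matrix.mulVec_add, hw0]
    congr 1
    rw [Matrix.mulVec_mulVec v g, ← heg, ← Matrix.mulVec_mulVec v (e : Matrix (Fin n) (Fin n) F), hΦe, hΦe,
      Matrix.mulVec_mulVec _ h', ← hx'g, ← Matrix.mulVec_mulVec _ x' g, Matrix.mulVec_mulVec v g, ← heg,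
      ← Matrix.mulVec_mulVec v (e : Matrix (Fin n) (Fin n) F)]
  let PU : GL (Fin n) F := ⟨P, τ P, mul_eq_one_comm.1 hPS, hPS⟩
  refine isConj_iff.2 ⟨⟨PU, fun u v => hPiso u⟩, ?_⟩
  rw [mul_inv_eq_iff_eq_mul]
  refine Subtype.ext (Units.ext (Matrix.ext_of_mulVec_single fun i => ?_))
  show (P * ((A : GL (Fin n) F) : Matrix (Fin n) (Fin n) F)) *ᵥ _ = (((B : GL (Fin n) F) : Matrix (Fin n) (Fin n) F) * P) *ᵥ _
  rw [← hg, ← hh', ← Matrix.mulVec_mulVec, ← Matrix.mulVec_mulVec, hcomm]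

end CfsgLib.Lie.OrthSemiConj
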