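import Cfsg.Agent.Lie.SubfieldMax2

/-!
Maximality of the subfield subgroup of the special linear group for an arbitrary base change.
-/

set_option autoImplicit false
set_option linter.unusedSimpArgs false
set_option linter.unusedSectionVars false

namespace CfsgLib.Lie.SubfieldMax

open Matrix

variable {F : Type*} [Field F] {n : ℕ} (F₀ : Subfield F)

theorem mem_sup_iff (g : GL (Fin n) F) :
    g ∈ (Matrix.GeneralLinearGroup.map (F₀.subtype : F₀ →+* F)).range ⊔ Cfsg.Geo.scalars (Fin n) F ↔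
      RS F₀ g := by
  haveI : (Cfsg.Geo.scalars (Fin n) F).Normal := by
    refine ⟨fun a ha h => ?_⟩
    obtain ⟨c, hc⟩ := (Cfsg.Geo.mem_scalars_iff _).1 ha
    refine (Cfsg.Geo.mem_scalars_iff _).2 ⟨c, ?_⟩
    rw [Units.val_mul, Units.val_mul, hc, Matrix.mul_smul, mul_one, Matrix.smul_mul,
      ← Units.val_mul, mul_inv_cancel, Units.val_one]
  constructor
  · intro hg
    rw [Subgroup.mem_sup_of_normal_right] at hg
    obtain ⟨_, ⟨h, rfl⟩, a, ha, rfl⟩ := hg
    obtain ⟨c, hc⟩ := (Cfsg.Geo.mem_scalars_iff _).1 ha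
    refine ⟨(c : F)⁻¹, inv_ne_zero c.ne_zero, fun i j => ?_⟩
    rw [Units.val_mul, hc, Matrix.mul_smul, mul_one, smul_smul, inv_mul_cancel₀ c.ne_zero, one_smul]
    exact ((h : Matrix (Fin n) (Fin n) F₀) i j).2
  · rintro ⟨c, hc0, hc⟩
    let X0 : Matrix (Fin n) (Fin n) F₀ := fun i j => ⟨(c • (g : Matrix (Fin n) (Fin n) F)) i j, hc i j⟩
    have hX : (F₀.subtype).mapMatrix X0 = c • (g : Matrix (Fin n) (Fin n) F) := rfl
    have hdet : IsUnit X0.det := by
      rw [isUnit_iff_ne_zero]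
      intro h
      have h1 := RingHom.map_det (F₀.subtype) X0
      rw [hX, h, map_zero, Matrix.det_smul] at h1
      have hg : (g : Matrix (Fin n) (Fin n) F).det ≠ 0 := (g.isUnit.map Matrix.detMonoidHom).ne_zero
      exact mul_ne_zero (pow_ne_zero _ hc0) hg h1.symm
    have hX0 : IsUnit X0 := (Matrix.isUnit_iff_isUnit_det X0).2 hdet
    let s : GL (Fin n) F := Units.map (Matrix.scalar (Fin n) : F →+* Matrix (Fin n) (Fin n) F).toMonoidHom
      (Units.mk0 c hc0)⁻¹
    have e : g = Matrix.GeneralLinearGroup.map (F₀.subtype : F₀ →+* F) hX0.unit * s := by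
      refine Units.ext ?_
      rw [Units.val_mul]
      show (g : Matrix (Fin n) (Fin n) F) = (F₀.subtype).mapMatrix (hX0.unit : Matrix (Fin n) (Fin n) F₀) *
        Matrix.scalar (Fin n) ((Units.mk0 c hc0)⁻¹ : Fˣ).val
      rw [IsUnit.unit_spec, hX, Units.val_inv_eq_inv_val, Units.val_mk0]
      ext i j
      simp [Matrix.mul_diagonal]
      field_simp
    rw [e]
    exact Subgroup.mul_mem _ (Subgroup.mem_sup_left ⟨_, rfl⟩) (Subgroup.mem_sup_right ⟨_, rfl⟩)

theorem maximal [Finite F] (hn : 13 ≤ n) {r : ℕ} (hr : r.Prime)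
    (hcard : Nat.card F = Nat.card F₀ ^ r) (P : GL (Fin n) F) :
    Cfsg.Geo.IsMaximalIn (Cfsg.Geo.specialLinear (Fin n) F)
      (Cfsg.Geo.subfieldSubgroup F₀ P ⊓ Cfsg.Geo.specialLinear (Fin n) F) := by
  have hconjSL : ∀ (h g : GL (Fin n) F), g ∈ Cfsg.Geo.specialLinear (Fin n) F →
      h * g * h⁻¹ ∈ Cfsg.Geo.specialLinear (Fin n) F := fun h g hg => by
    rw [Cfsg.Geo.specialLinear, MonoidHom.mem_ker] at hg ⊢
    rw [map_mul, map_mul, hg, mul_one, map_inv, mul_inv_cancel]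
  have hmem : ∀ g, P * g * P⁻¹ ∈ Cfsg.Geo.subfieldSubgroup F₀ P ⊓ Cfsg.Geo.specialLinear (Fin n) F ↔
      RS F₀ g ∧ g ∈ Cfsg.Geo.specialLinear (Fin n) F := by
    intro g
    constructor
    · rintro ⟨⟨g', hg', he⟩, hS⟩
      simp only [MulEquiv.toMonoidHom_eq_coe, MonoidHom.coe_coe, MulAut.conj_apply,
        mul_left_inj, mul_right_inj] at he
      subst he
      refine ⟨(mem_sup_iff F₀ g').1 hg', ?_⟩
      have := hconjSL P⁻¹ _ hS
      rwa [show P⁻¹ * (P * g' * P⁻¹) * P⁻¹⁻¹ = g' by group] at this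
    · rintro ⟨hg, hS⟩
      exact ⟨⟨g, (mem_sup_iff F₀ g).2 hg, rfl⟩, hconjSL P g hS⟩
  refine ⟨lt_of_le_of_ne inf_le_right ?_, ?_⟩
  · intro heq
    -- an elementary transvection with an irrational entry
    obtain ⟨a, ha⟩ : ∃ a : F, a ∉ F₀ := by
      by_contra h
      push Not at h
      have h2 := hr.two_le
      have hq0 : 2 ≤ Nat.card F₀ := Finite.one_lt_card
      have : Nat.card F₀ = Nat.card F :=
        Nat.card_congr (Equiv.subtypeUnivEquiv h)
      rw [← this] at hcard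
      have h3 := Nat.pow_right_injective hq0 ((pow_one _).trans hcard)
      omega
    let i0 : Fin n := ⟨0, by omega⟩
    let i1 : Fin n := ⟨1, by omega⟩
    have h0 : (a • (LinearMap.proj i1 : (Fin n → F) →ₗ[F] F)) (Pi.single i0 1) = 0 := by simp [i0, i1]
    obtain ⟨⟨c, hc0, hc⟩, -⟩ := (hmem _).1
      (heq.ge (hconjSL P _ (FormMaxSL.tv_mem_SL (Pi.single i0 1) (a • LinearMap.proj i1))))
    have e : ∀ i j, ((FormMaxSL.tv (Pi.single i0 1) (a • (LinearMap.proj i1 : (Fin n → F) →ₗ[F] F)) :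
        GL (Fin n) F) : Matrix (Fin n) (Fin n) F) i j =
        (Pi.single j (1 : F) : Fin n → F) i + (a * (Pi.single j (1 : F) : Fin n → F) i1) * (Pi.single i0 (1 : F) : Fin n → F) i := by
      intro i j
      have := congrFun (FormMaxSL.tv_mulVec h0 (Pi.single j 1)) i
      rw [Matrix.mulVec_single_one] at this
      simpa using this
    have h1 := hc i1 i1
    have h2 := hc i0 i1
    rw [Matrix.smul_apply, e, smul_eq_mul] at h1 h2
    simp [i0, i1] at h1 h2
    apply ha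
    have := F₀.mul_mem (F₀.inv_mem h1) h2
    rwa [← mul_assoc, inv_mul_cancel₀ hc0, one_mul] at this
  intro M hHM hMS
  by_cases hMH : M ≤ Cfsg.Geo.subfieldSubgroup F₀ P ⊓ Cfsg.Geo.specialLinear (Fin n) F
  · exact Or.inl (le_antisymm hMH hHM)
  right
  refine le_antisymm hMS ?_
  obtain ⟨g, hgM, hgH⟩ := SetLike.not_le_iff_exists.1 hMH
  let g' := P⁻¹ * g * P
  have hg' : P * g' * P⁻¹ = g := by simp only [g']; group
  have hgR : ¬ RS F₀ g' := by
    intro h
    apply hgH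
    rw [← hg']
    refine (hmem g').2 ⟨h, ?_⟩
    have := hconjSL P⁻¹ g (hMS hgM)
    rwa [inv_inv] at this
  have h := sl_le_of_not_rs (F₀ := F₀) hn hr hcard (M.comap (MulAut.conj P).toMonoidHom)
    (fun x hx hxR => hHM ((hmem x).2 ⟨hxR, hx⟩))
    (g := g') (show P * g' * P⁻¹ ∈ M by rw [hg']; exact hgM) hgR
  intro x hx
  have h1 := h (hconjSL P⁻¹ x hx)
  rw [Subgroup.mem_comap] at h1
  simpa [mul_assoc] using h1

end CfsgLib.Lie.SubfieldMax
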