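import Cfsg.Agent.Lie.SUGen
import Cfsg.Agent.Lie.SubfieldMax3

/-!
The symplectic subfield subgroups of the special unitary group are maximal.
-/

set_option autoImplicit false
set_option linter.unusedSimpArgs false
set_option linter.unusedSectionVars false

namespace CfsgLib.Lie.SubfieldSU

open Matrix
open CfsgLib.Lie.Herm (form_add_left form_add_right form_smul_left form_smul_right form_comm form_single mem_GU)
open CfsgLib.Lie.SUGen (tu tu_mulVec tu_mem_T tu_smul conj_tu Tz form_sub_left form_sub_right)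
open CfsgLib.Lie.SubfieldMax (RV RM RS)

variable {F : Type*} [Field F] [Fintype F] {q n : ℕ} {F₀ : Subfield F}

/-- inclusion of rational vectors -/
def incn (v : Fin n → F₀) : Fin n → F := fun i => (v i : F)

theorem rv_incn (v : Fin n → F₀) : RV F₀ (incn v) := fun i => (v i).2

theorem exists_incn {x : Fin n → F} (hx : RV F₀ x) : ∃ v : Fin n → F₀, incn v = x :=
  ⟨fun i => ⟨x i, hx i⟩, rfl⟩

theorem incn_add (u v : Fin n → F₀) : incn (u + v) = incn u + incn v := rfl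

theorem incn_sub (u v : Fin n → F₀) : incn (u - v) = incn u - incn v := rfl

theorem incn_smul (a : F₀) (v : Fin n → F₀) : incn (a • v) = (a : F) • incn v := rfl

theorem card_sub (hF : Fintype.card F = q ^ 2) (hcard : Fintype.card F = Nat.card F₀ ^ 2) :
    Nat.card F₀ = q := Nat.pow_left_injective two_ne_zero (hcard.symm.trans hF)

theorem mem_iff_fixed (hF : Fintype.card F = q ^ 2) (hq : Nat.card F₀ = q) (a : F) :
    a ∈ F₀ ↔ a ^ q = a := by
  classical
  have hfix : ∀ a ∈ F₀, a ^ q = a := by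
    intro a ha
    haveI : Fintype F₀ := Fintype.ofFinite F₀
    have h := FiniteField.pow_card (⟨a, ha⟩ : F₀)
    rw [← Nat.card_eq_fintype_card, hq] at h
    exact congrArg Subtype.val h
  refine ⟨hfix a, fun ha => ?_⟩
  have hq2 := Herm.two_le hF
  have hd : (Polynomial.X ^ q - Polynomial.X : Polynomial F) ≠ 0 :=
    FiniteField.X_pow_card_sub_X_ne_zero F (by omega)
  have hs : {x : F | x ^ q = x} ⊆ ↑((Polynomial.X ^ q - Polynomial.X : Polynomial F).roots.toFinset) := by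
    intro x hx
    simp only [Finset.mem_coe, Multiset.mem_toFinset, Polynomial.mem_roots hd]
    simp [show x ^ q = x from hx]
  have hle := Set.ncard_le_ncard hs
  rw [Set.ncard_coe_finset] at hle
  have h2 := (Multiset.toFinset_card_le _).trans (Polynomial.card_roots' (Polynomial.X ^ q - Polynomial.X : Polynomial F))
  rw [FiniteField.X_pow_card_sub_X_natDegree_eq F (by omega)] at h2
  have heq : (F₀ : Set F) = {x : F | x ^ q = x} := Set.eq_of_subset_of_ncard_le hfix (by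
    rw [← Nat.card_coe_set_eq (F₀ : Set F)]
    exact (hle.trans h2).trans hq.ge) (Set.toFinite _)
  have : a ∈ (F₀ : Set F) := by rw [heq]; exact ha
  exact this

variable (hF : Fintype.card F = q ^ 2) (hq : Nat.card F₀ = q) {ζ : F} (hζ0 : ζ ≠ 0) (hζ : ζ + ζ ^ q = 0)
  (P : GL (Fin n) F) (hP : Cfsg.Geo.IsFormRationalStructure (Cfsg.hermForm n F q) F₀ ζ P)
  (halt : ∀ u : Fin n → F, (∀ i, u i ∈ F₀) → Cfsg.hermForm n F q ((P : Matrix (Fin n) (Fin n) F) *ᵥ u)
    ((P : Matrix (Fin n) (Fin n) F) *ᵥ u) = 0)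

/-- the vector of the rational structure -/
def rr (u : Fin n → F₀) : Fin n → F := (P : Matrix (Fin n) (Fin n) F) *ᵥ incn u

/-- the alternating form -/
def AA (u v : Fin n → F₀) : F₀ :=
  ⟨ζ * Cfsg.hermForm n F q (rr P u) (rr P v), hP _ _ (rv_incn u) (rv_incn v)⟩

theorem rr_add (u v : Fin n → F₀) : rr P (u + v) = rr P u + rr P v := by
  simp only [rr, incn_add, Matrix.mulVec_add]

theorem rr_sub (u v : Fin n → F₀) : rr P (u - v) = rr P u - rr P v := by
  simp only [rr, incn_sub, Matrix.mulVec_sub]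

theorem rr_smul (a : F₀) (v : Fin n → F₀) : rr P (a • v) = (a : F) • rr P v := by
  simp only [rr, incn_smul, Matrix.mulVec_smul]

theorem rr_zero : rr (F₀ := F₀) P 0 = 0 := by
  have h := rr_sub P (0 : Fin n → F₀) 0
  rwa [sub_zero, sub_self] at h

theorem rr_injective : Function.Injective (rr (F₀ := F₀) P) := by
  intro u v h
  have h1 := congrArg (fun w => ((P⁻¹ : GL (Fin n) F) : Matrix (Fin n) (Fin n) F) *ᵥ w) h
  simp only [rr, FormMaxSL.inv_mulVec_mulVec] at h1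
  exact funext fun i => Subtype.ext (congrFun h1 i)

include hF hq hζ0 hζ hP halt

theorem AA_val (u v : Fin n → F₀) : Cfsg.hermForm n F q (rr P u) (rr P v) = ζ⁻¹ * (AA P hP u v : F) := by
  simp only [AA]; rw [← mul_assoc, inv_mul_cancel₀ hζ0, one_mul]

theorem AA_self (u : Fin n → F₀) : AA P hP u u = 0 :=
  Subtype.ext (by simp only [AA, rr]; rw [halt _ (rv_incn u), mul_zero]; rfl)

theorem AA_add_left (u v w : Fin n → F₀) : AA P hP (u + v) w = AA P hP u w + AA P hP v w :=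
  Subtype.ext (by simp only [AA, rr_add, form_add_left, mul_add]; rfl)

theorem AA_add_right (u v w : Fin n → F₀) : AA P hP u (v + w) = AA P hP u v + AA P hP u w :=
  Subtype.ext (by simp only [AA, rr_add, form_add_right hF, mul_add]; rfl)

theorem AA_smul_left (a : F₀) (u v : Fin n → F₀) : AA P hP (a • u) v = a * AA P hP u v :=
  Subtype.ext (by simp only [AA, rr_smul, form_smul_left, MulMemClass.coe_mul]; ring)

theorem AA_smul_right (a : F₀) (u v : Fin n → F₀) : AA P hP u (a • v) = a * AA P hP u v :=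
  Subtype.ext (by
    simp only [AA, rr_smul, form_smul_right, MulMemClass.coe_mul, (mem_iff_fixed hF hq _).1 a.2]; ring)

theorem AA_swap (u v : Fin n → F₀) : AA P hP v u = - AA P hP u v := by
  have h := AA_self hF hq hζ0 hζ P hP halt (u + v)
  rw [AA_add_left hF hq hζ0 hζ P hP halt, AA_add_right hF hq hζ0 hζ P hP halt, AA_add_right hF hq hζ0 hζ P hP halt,
    AA_self hF hq hζ0 hζ P hP halt, AA_self hF hq hζ0 hζ P hP halt] at h
  linear_combination h

theorem AA_sub_left (u v w : Fin n → F₀) : AA P hP (u - v) w = AA P hP u w - AA P hP v w := by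
  rw [eq_sub_iff_add_eq, ← AA_add_left hF hq hζ0 hζ P hP halt, sub_add_cancel]

theorem AA_sub_right (u v w : Fin n → F₀) : AA P hP u (v - w) = AA P hP u v - AA P hP u w := by
  rw [eq_sub_iff_add_eq, ← AA_add_right hF hq hζ0 hζ P hP halt, sub_add_cancel]

theorem AA_nondeg {u : Fin n → F₀} (hu : u ≠ 0) : ∃ v, AA P hP u v = 1 := by
  suffices h : ∃ v, AA P hP u v ≠ 0 by
    obtain ⟨v, hv⟩ := h
    exact ⟨(AA P hP u v)⁻¹ • v, by rw [AA_smul_right hF hq hζ0 hζ P hP halt, inv_mul_cancel₀ hv]⟩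
  by_contra h
  push Not at h
  apply hu
  have h1 : ∀ x : Fin n → F, Cfsg.hermForm n F q (rr P u) ((P : Matrix (Fin n) (Fin n) F) *ᵥ x) = 0 := by
    intro x
    rw [pi_eq_sum_univ' x, Matrix.mulVec_sum]
    simp only [Matrix.mulVec_smul]
    induction (Finset.univ : Finset (Fin n)) using Finset.induction with
    | empty => simp [Cfsg.hermForm, zero_pow (show q ≠ 0 by have := Herm.two_le hF; omega)]
    | @insert i s his ih =>
      have e : incn (Pi.single i (1 : F₀)) = Pi.single i (1 : F) := by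
        funext j
        by_cases hj : j = i
        · subst hj; simp [incn]
        · simp [incn, hj]
      rw [Finset.sum_insert his, form_add_right hF, form_smul_right, ih, add_zero]
      have h2 := h (Pi.single i 1)
      have h3 := AA_val hF hq hζ0 hζ P hP halt u (Pi.single i 1)
      rw [h2, ZeroMemClass.coe_zero, mul_zero] at h3
      simp only [rr, e] at h3 ⊢
      rw [h3, mul_zero]
  have h2 : rr P u = 0 := by
    funext i
    have h3 := h1 (((P⁻¹ : GL (Fin n) F) : Matrix (Fin n) (Fin n) F) *ᵥ Pi.single i 1)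
    rw [FormMaxSL.mulVec_inv_mulVec, form_single hF] at h3
    exact h3
  exact rr_injective P (h2.trans (rr_zero P).symm)

theorem tz_zeta (s : F₀) : Tz q (ζ * (s : F)) := by
  unfold SUGen.Tz
  rw [mul_pow, (mem_iff_fixed hF hq _).1 s.2]
  linear_combination (s : F) * hζ

theorem rr_iso (u : Fin n → F₀) : Cfsg.hermForm n F q (rr P u) (rr P u) = 0 := halt _ (rv_incn u)

theorem tu_rr_mulVec (u x : Fin n → F₀) (s : F₀) :
    ((tu q (rr P u) (ζ * (s : F)) : GL (Fin n) F) : Matrix (Fin n) (Fin n) F) *ᵥ rr P x =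
      rr P (x + (s * AA P hP x u) • u) := by
  rw [tu_mulVec (rr_iso hF hq hζ0 hζ P hP halt u), rr_add, rr_smul]
  congr 2
  simp only [AA, MulMemClass.coe_mul]
  ring

theorem tu_rr_rational (u : Fin n → F₀) (s : F₀) :
    RM F₀ ((P⁻¹ * tu q (rr P u) (ζ * (s : F)) * P : GL (Fin n) F) : Matrix (Fin n) (Fin n) F) := by
  intro i j
  have e : incn (Pi.single j (1 : F₀)) = Pi.single j (1 : F) := by
    funext k
    by_cases hk : k = j
    · subst hk; simp [incn]
    · simp [incn, hk]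
  have h : ((P⁻¹ * tu q (rr P u) (ζ * (s : F)) * P : GL (Fin n) F) : Matrix (Fin n) (Fin n) F) *ᵥ Pi.single j 1 =
      incn (Pi.single j 1 + (s * AA P hP (Pi.single j 1) u) • u) := by
    rw [← e, Units.val_mul, Units.val_mul, ← Matrix.mulVec_mulVec, ← Matrix.mulVec_mulVec]
    show _ *ᵥ (_ *ᵥ rr P (Pi.single j 1)) = _
    rw [tu_rr_mulVec hF hq hζ0 hζ P hP halt, rr, FormMaxSL.inv_mulVec_mulVec]
  have h1 := congrFun h i
  rw [Matrix.mulVec_single_one] at h1
  simp only [Matrix.col_apply] at h1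
  rw [h1]
  exact ((Pi.single j 1 + (s * AA P hP (Pi.single j 1) u) • u : Fin n → F₀) i).2

theorem tu_rr_mem (u : Fin n → F₀) (s : F₀) : tu q (rr P u) (ζ * (s : F)) ∈
    Cfsg.Geo.subfieldSubgroup F₀ P ⊓ (Cfsg.GU n F q ⊓ Cfsg.Geo.specialLinear (Fin n) F) := by
  refine ⟨⟨P⁻¹ * tu q (rr P u) (ζ * (s : F)) * P, (SubfieldMax.mem_sup_iff F₀ _).2
    ⟨1, one_ne_zero, by rw [one_smul]; exact tu_rr_rational hF hq hζ0 hζ P hP halt u s⟩, ?_⟩,
    SUGen.T_le hF (tu_mem_T (rr_iso hF hq hζ0 hζ P hP halt u) (tz_zeta hF hq hζ0 hζ P hP halt s))⟩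
  simp only [MulEquiv.toMonoidHom_eq_coe, MonoidHom.coe_coe, MulAut.conj_apply]
  group

/-- decomposition of a vector along the quadratic extension -/
theorem exists_decomp {θ : F} (hθ : θ ∉ F₀) (x : Fin n → F) :
    ∃ a b : Fin n → F₀, x = (P : Matrix (Fin n) (Fin n) F) *ᵥ (incn a + θ • incn b) := by
  have hne : θ - θ ^ q ≠ 0 := sub_ne_zero.2 fun h => hθ ((mem_iff_fixed hF hq θ).2 h.symm)
  set y := ((P⁻¹ : GL (Fin n) F) : Matrix (Fin n) (Fin n) F) *ᵥ x with hy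
  have hb : ∀ i, (y i - y i ^ q) / (θ - θ ^ q) ∈ F₀ := fun i => by
    rw [mem_iff_fixed hF hq, div_pow, ← Herm.conj_apply hF (y i - y i ^ q), ← Herm.conj_apply hF (θ - θ ^ q),
      map_sub, map_sub, Herm.conj_apply, Herm.conj_apply, Herm.conj_apply, Herm.conj_apply,
      Herm.pow_pow_q hF, Herm.pow_pow_q hF, ← neg_sub (y i), ← neg_sub θ, neg_div_neg_eq]
  have ha : ∀ i, y i - θ * ((y i - y i ^ q) / (θ - θ ^ q)) ∈ F₀ := fun i => by
    rw [mem_iff_fixed hF hq, ← Herm.conj_apply hF (y i - θ * _), map_sub, map_mul, Herm.conj_apply,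
      Herm.conj_apply, Herm.conj_apply, (mem_iff_fixed hF hq _).1 (hb i)]
    field_simp
    ring
  refine ⟨fun i => ⟨_, ha i⟩, fun i => ⟨_, hb i⟩, ?_⟩
  have e : incn (F₀ := F₀) (fun i => ⟨_, ha i⟩) + θ • incn (F₀ := F₀) (fun i => ⟨_, hb i⟩) = y := by
    funext i; simp [incn]
  rw [e, hy, FormMaxSL.mulVec_inv_mulVec]

theorem iso_iff {θ : F} (hθ : θ ∉ F₀) (a b : Fin n → F₀) :
    Cfsg.hermForm n F q (rr P a + θ • rr P b) (rr P a + θ • rr P b) = 0 ↔ AA P hP a b = 0 := by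
  have hne : θ ^ q - θ ≠ 0 := sub_ne_zero.2 fun h => hθ ((mem_iff_fixed hF hq θ).2 h)
  have e : Cfsg.hermForm n F q (rr P a + θ • rr P b) (rr P a + θ • rr P b) =
      ζ⁻¹ * (θ ^ q - θ) * (AA P hP a b : F) := by
    rw [form_add_left, form_add_right hF, form_add_right hF, form_smul_left, form_smul_left,
      form_smul_right, form_smul_right, rr_iso hF hq hζ0 hζ P hP halt, rr_iso hF hq hζ0 hζ P hP halt,
      AA_val hF hq hζ0 hζ P hP halt a b, AA_val hF hq hζ0 hζ P hP halt b a,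
      AA_swap hF hq hζ0 hζ P hP halt a b, NegMemClass.coe_neg]
    ring
  rw [e, mul_eq_zero, or_iff_right (mul_ne_zero (inv_ne_zero hζ0) hne), ← ZeroMemClass.coe_zero F₀,
    Subtype.coe_inj]

theorem line_of_dep {θ : F} (a b : Fin n → F₀) (h : a ≠ 0 → ∃ c : F₀, b = c • a) :
    ∃ (μ : F) (u : Fin n → F₀), rr P a + θ • rr P b = μ • rr P u := by
  by_cases ha : a = 0
  · refine ⟨θ, b, ?_⟩
    rw [ha, rr_zero, zero_add]
  · obtain ⟨c, rfl⟩ := h ha
    exact ⟨1 + θ * c, a, by rw [rr_smul, add_smul, one_smul, smul_smul]⟩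

section

variable (M : Subgroup (GL (Fin n) F))
  (hM : Cfsg.Geo.subfieldSubgroup F₀ P ⊓ (Cfsg.GU n F q ⊓ Cfsg.Geo.specialLinear (Fin n) F) ≤ M)
include hM

theorem moveA (u v : Fin n → F₀) (h : AA P hP u v ≠ 0) :
    ∃ k ∈ M, k ∈ Cfsg.GU n F q ∧ (k : Matrix (Fin n) (Fin n) F) *ᵥ rr P u = rr P v ∧
      (∀ z, AA P hP z u = 0 → AA P hP z v = 0 → (k : Matrix (Fin n) (Fin n) F) *ᵥ rr P z = rr P z) ∧
      ∀ x : Fin n → F₀, ∃ y : Fin n → F₀, (k : Matrix (Fin n) (Fin n) F) *ᵥ rr P x = rr P y := by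
  have hH := tu_rr_mem hF hq hζ0 hζ P hP halt (v - u) (AA P hP u v)⁻¹
  refine ⟨_, hM hH, hH.2.1, ?_, fun z h1 h2 => ?_, fun x => ⟨_, tu_rr_mulVec hF hq hζ0 hζ P hP halt _ x _⟩⟩
  · rw [tu_rr_mulVec hF hq hζ0 hζ P hP halt, AA_sub_right hF hq hζ0 hζ P hP halt,
      AA_self hF hq hζ0 hζ P hP halt, sub_zero, inv_mul_cancel₀ h, one_smul, add_sub_cancel]
  · rw [tu_rr_mulVec hF hq hζ0 hζ P hP halt, AA_sub_right hF hq hζ0 hζ P hP halt, h1, h2, sub_zero,
      mul_zero, zero_smul, add_zero]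

/-- transitivity on orthogonal independent pairs -/
theorem pair_move {a b a' b' : Fin n → F₀} (ha : a ≠ 0) (hb : ∀ c : F₀, b ≠ c • a) (hab : AA P hP a b = 0)
    (ha' : a' ≠ 0) (hb' : ∀ c : F₀, b' ≠ c • a') (hab' : AA P hP a' b' = 0) :
    ∃ k ∈ M, (k : Matrix (Fin n) (Fin n) F) *ᵥ rr P a = rr P a' ∧ (k : Matrix (Fin n) (Fin n) F) *ᵥ rr P b = rr P b' := by
  have hsw := AA_swap hF hq hζ0 hζ P hP halt
  have addl := AA_add_left hF hq hζ0 hζ P hP halt
  have addr := AA_add_right hF hq hζ0 hζ P hP halt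
  have hswap : ∀ u v, AA P hP u v ≠ 0 → AA P hP v u ≠ 0 := fun u v h => by
    rw [hsw u v]; exact neg_ne_zero.2 h
  have choose3 : ∀ (a a' : Fin n → F₀) (S : (Fin n → F₀) → Prop), (∀ x y, S x → S y → S (x + y)) →
      (∃ c, S c ∧ AA P hP a c ≠ 0) → (∃ c, S c ∧ AA P hP c a' ≠ 0) →
      ∃ c, S c ∧ AA P hP a c ≠ 0 ∧ AA P hP c a' ≠ 0 := by
    rintro a a' S hS ⟨c₁, h1, h1'⟩ ⟨c₂, h2, h2'⟩
    by_cases e1 : AA P hP c₁ a' = 0
    · by_cases e2 : AA P hP a c₂ = 0
      · exact ⟨c₁ + c₂, hS _ _ h1 h2, by rw [addr, e2, add_zero]; exact h1',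
          by rw [addl, e1, zero_add]; exact h2'⟩
      · exact ⟨c₂, h2, e2, h2'⟩
    · exact ⟨c₁, h1, h1', e1⟩
  obtain ⟨c, -, hc1, hc2⟩ := choose3 a a' (fun _ => True) (fun _ _ _ _ => trivial)
    (by obtain ⟨v, hv⟩ := AA_nondeg hF hq hζ0 hζ P hP halt ha; exact ⟨v, trivial, by rw [hv]; exact one_ne_zero⟩)
    (by obtain ⟨v, hv⟩ := AA_nondeg hF hq hζ0 hζ P hP halt ha'
        exact ⟨v, trivial, hswap _ _ (by rw [hv]; exact one_ne_zero)⟩)
  obtain ⟨k1, hk1, hk1U, hk1a, -, hk1r⟩ := moveA hF hq hζ0 hζ P hP halt M hM a c hc1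
  obtain ⟨k2, hk2, hk2U, hk2a, -, hk2r⟩ := moveA hF hq hζ0 hζ P hP halt M hM c a' hc2
  obtain ⟨k, hk⟩ : ∃ k, k = k2 * k1 := ⟨_, rfl⟩
  have hkM : k ∈ M := hk ▸ mul_mem hk2 hk1
  have hka : (k : Matrix (Fin n) (Fin n) F) *ᵥ rr P a = rr P a' := by
    rw [hk, Units.val_mul, ← Matrix.mulVec_mulVec, hk1a, hk2a]
  obtain ⟨y, hy⟩ := hk1r b
  obtain ⟨b₁, hb₁⟩ := hk2r y
  have hkb : (k : Matrix (Fin n) (Fin n) F) *ᵥ rr P b = rr P b₁ := by
    rw [hk, Units.val_mul, ← Matrix.mulVec_mulVec, hy, hb₁]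
  have hb1n : ∀ d : F₀, b₁ ≠ d • a' := by
    intro d h
    rw [h, rr_smul, ← hka, ← Matrix.mulVec_smul, ← rr_smul] at hkb
    have := congrArg (fun w => ((k⁻¹ : GL (Fin n) F) : Matrix (Fin n) (Fin n) F) *ᵥ w) hkb
    simp only [FormMaxSL.inv_mulVec_mulVec] at this
    exact hb d (rr_injective P this)
  have hab1 : AA P hP a' b₁ = 0 := by
    refine Subtype.ext ?_
    have h1 := congrArg Subtype.val hab
    simp only [AA] at h1 ⊢
    rw [← hka, ← hkb, mem_GU.1 (hk ▸ mul_mem hk2U hk1U)]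
    exact h1
  -- move the second vector
  have hperp : ∀ b₂, (∀ d : F₀, b₂ ≠ d • a') → AA P hP a' b₂ = 0 →
      ∃ c, AA P hP a' c = 0 ∧ AA P hP b₂ c ≠ 0 := by
    intro b₂ hn h0
    by_contra h
    push Not at h
    obtain ⟨x1, hx1⟩ := AA_nondeg hF hq hζ0 hζ P hP halt ha'
    apply hn (AA P hP b₂ x1)
    by_contra hne
    obtain ⟨z, hz⟩ := AA_nondeg hF hq hζ0 hζ P hP halt (sub_ne_zero.2 hne)
    have h1 := h (z - AA P hP a' z • x1) (by
      rw [AA_sub_right hF hq hζ0 hζ P hP halt, AA_smul_right hF hq hζ0 hζ P hP halt, hx1, mul_one, sub_self])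
    rw [AA_sub_right hF hq hζ0 hζ P hP halt, AA_smul_right hF hq hζ0 hζ P hP halt] at h1
    rw [AA_sub_left hF hq hζ0 hζ P hP halt, AA_smul_left hF hq hζ0 hζ P hP halt] at hz
    exact one_ne_zero (by linear_combination h1 - hz)
  obtain ⟨d, hd0, hd1, hd2⟩ := choose3 b₁ b' (fun x => AA P hP a' x = 0)
    (fun x y hx hy => by show AA P hP a' (x + y) = 0; rw [addr, hx, hy, add_zero])
    (hperp b₁ hb1n hab1)
    (by obtain ⟨v, hv0, hv⟩ := hperp b' hb' hab'; exact ⟨v, hv0, hswap _ _ hv⟩)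
  obtain ⟨l1, hl1, -, hl1b, hl1z, -⟩ := moveA hF hq hζ0 hζ P hP halt M hM b₁ d hd1
  obtain ⟨l2, hl2, -, hl2b, hl2z, -⟩ := moveA hF hq hζ0 hζ P hP halt M hM d b' hd2
  refine ⟨l2 * l1 * k, mul_mem (mul_mem hl2 hl1) hkM, ?_, ?_⟩
  · rw [Units.val_mul, Units.val_mul, ← Matrix.mulVec_mulVec, ← Matrix.mulVec_mulVec, hka,
      hl1z a' hab1 hd0, hl2z a' hd0 hab']
  · rw [Units.val_mul, Units.val_mul, ← Matrix.mulVec_mulVec, ← Matrix.mulVec_mulVec, hkb, hl1b, hl2b]

end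

theorem maximal (hn : 13 ≤ n) :
    Cfsg.Geo.IsMaximalIn (Cfsg.GU n F q ⊓ Cfsg.Geo.specialLinear (Fin n) F)
      (Cfsg.Geo.subfieldSubgroup F₀ P ⊓ (Cfsg.GU n F q ⊓ Cfsg.Geo.specialLinear (Fin n) F)) := by
  obtain ⟨θ, hθ⟩ : ∃ θ : F, θ ∉ F₀ := by
    by_contra h
    push Not at h
    exact Herm.conj_ne_id hF (RingHom.ext fun a => (mem_iff_fixed hF hq a).1 (h a))
  have h0 : rr (F₀ := F₀) P 0 = 0 := rr_zero P
  have h0q : q ≠ 0 := by have := Herm.two_le hF; omega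
  -- trace-zero scalars
  have htz : ∀ c : F, Tz q c → ∃ s : F₀, c = ζ * (s : F) := by
    intro c hc
    refine ⟨⟨c / ζ, ?_⟩, by rw [mul_div_cancel₀ _ hζ0]⟩
    rw [mem_iff_fixed hF hq, div_pow, eq_neg_of_add_eq_zero_left hc,
      show ζ ^ q = -ζ by linear_combination hζ, neg_div_neg_eq]
  refine ⟨lt_of_le_of_ne inf_le_right ?_, ?_⟩
  · intro heq
    -- an isotropic vector outside the rational lines
    obtain ⟨a, b, ha, hb, hab⟩ : ∃ a b : Fin n → F₀, a ≠ 0 ∧ (∀ c : F₀, b ≠ c • a) ∧ AA P hP a b = 0 := by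
      obtain ⟨a, ha⟩ : ∃ a : Fin n → F₀, a ≠ 0 := ⟨Pi.single ⟨0, by omega⟩ 1, by simp⟩
      obtain ⟨x1, hx1⟩ := AA_nondeg hF hq hζ0 hζ P hP halt ha
      by_contra h
      push Not at h
      have hspan : ∀ z : Fin n → F₀, z ∈ Submodule.span F₀ {a, x1} := by
        intro z
        by_cases hz : ∃ c : F₀, z - AA P hP a z • x1 = c • a
        · obtain ⟨c, hc⟩ := hz
          rw [sub_eq_iff_eq_add] at hc
          rw [hc]
          exact add_mem (Submodule.smul_mem _ _ (Submodule.subset_span (by simp)))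
            (Submodule.smul_mem _ _ (Submodule.subset_span (by simp)))
        · push Not at hz
          exact absurd (by rw [AA_sub_right hF hq hζ0 hζ P hP halt, AA_smul_right hF hq hζ0 hζ P hP halt, hx1,
            mul_one, sub_self]) (h a _ ha hz)
      have h1 := Submodule.finrank_mono (show (⊤ : Submodule F₀ (Fin n → F₀)) ≤ Submodule.span F₀ {a, x1} from fun z _ => hspan z)
      rw [finrank_top, Module.finrank_fintype_fun_eq_card, Fintype.card_fin] at h1
      have := FormMaxSL.finrank_pair_le a x1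
      omega
    obtain ⟨w, hw⟩ : ∃ w, w = rr P a + θ • rr P b := ⟨_, rfl⟩
    have hww : Cfsg.hermForm n F q w w = 0 := hw ▸ (iso_iff hF hq hζ0 hζ P hP halt hθ a b).2 hab
    have hmem := heq.ge (SUGen.T_le hF (tu_mem_T hww (tz_zeta hF hq hζ0 hζ P hP halt 1)))
    obtain ⟨g', hg', he⟩ := hmem.1
    simp only [MulEquiv.toMonoidHom_eq_coe, MonoidHom.coe_coe, MulAut.conj_apply] at he
    obtain ⟨c0, hc0, hc0R⟩ := (SubfieldMax.mem_sup_iff F₀ _).1 hg'
    -- the image of a rational vector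
    have himg : ∀ z : Fin n → F₀, ∃ y : Fin n → F₀, c0 • ((tu q w (ζ * ((1 : F₀) : F)) : GL (Fin n) F).1 *ᵥ rr P z) = rr P y := by
      intro z
      obtain ⟨y, hy⟩ := exists_incn (SubfieldMax.rm_mulVec hc0R (rv_incn z))
      refine ⟨y, ?_⟩
      rw [← he, Units.val_mul, Units.val_mul, ← Matrix.mulVec_mulVec, ← Matrix.mulVec_mulVec, rr,
        FormMaxSL.inv_mulVec_mulVec, ← Matrix.mulVec_smul, ← Matrix.smul_mulVec, ← hy]
      rfl
    -- a fixed rational vector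
    obtain ⟨x1, hx1⟩ := AA_nondeg hF hq hζ0 hζ P hP halt ha
    have hwz : ∀ z : Fin n → F₀, Cfsg.hermForm n F q (rr P z) w = ζ⁻¹ * ((AA P hP z a : F) + θ ^ q * (AA P hP z b : F)) := by
      intro z
      rw [hw, form_add_right hF, form_smul_right, AA_val hF hq hζ0 hζ P hP halt, AA_val hF hq hζ0 hζ P hP halt]
      ring
    have hfix : (tu q w (ζ * ((1 : F₀) : F)) : GL (Fin n) F).1 *ᵥ rr P a = rr P a := by
      rw [tu_mulVec hww, hwz, AA_self hF hq hζ0 hζ P hP halt, hab]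
      simp
    obtain ⟨y, hy⟩ := himg a
    rw [hfix] at hy
    have hc0F : c0 ∈ F₀ := by
      obtain ⟨i, hi⟩ := Function.ne_iff.1 ha
      have h1 := congrFun (congrArg (fun v => ((P⁻¹ : GL (Fin n) F) : Matrix (Fin n) (Fin n) F) *ᵥ v) hy) i
      simp only [rr, Matrix.mulVec_smul, FormMaxSL.inv_mulVec_mulVec, Pi.smul_apply, smul_eq_mul, incn] at h1
      have hne : ((a i : F₀) : F) ≠ 0 := fun h => hi (Subtype.ext h)
      have h2 := F₀.mul_mem (y i).2 (F₀.inv_mem (a i).2)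
      rwa [← h1, mul_assoc, mul_inv_cancel₀ hne, mul_one] at h2
    obtain ⟨y2, hy2⟩ := himg x1
    obtain ⟨s, hsd⟩ : ∃ s, s = c0 * (ζ * ((1 : F₀) : F) * Cfsg.hermForm n F q (rr P x1) w) := ⟨_, rfl⟩
    have hs : s ≠ 0 := by
      rw [hsd, hwz, AA_swap hF hq hζ0 hζ P hP halt a x1, hx1]
      refine mul_ne_zero hc0 (mul_ne_zero (by simpa using hζ0) (mul_ne_zero (inv_ne_zero hζ0) fun h => ?_))
      have h1 : (((-1 : F₀)) : F) = -1 := rfl
      rw [h1] at h
      by_cases hb2 : (AA P hP x1 b : F) = 0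
      · rw [hb2, mul_zero, add_zero] at h; exact one_ne_zero (neg_eq_zero.1 h)
      · apply hθ
        rw [mem_iff_fixed hF hq]
        have h2 : θ ^ q = (AA P hP x1 b : F)⁻¹ := by field_simp; linear_combination h
        have h3 : θ ^ q ∈ F₀ := h2 ▸ F₀.inv_mem (AA P hP x1 b).2
        have h4 := (mem_iff_fixed hF hq _).1 h3
        rw [Herm.pow_pow_q hF] at h4
        exact h4.symm
    -- `s • w` is rational
    rw [tu_mulVec hww, smul_add, smul_smul, ← hsd, ← eq_sub_iff_add_eq'] at hy2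
    have h5 : s • w = rr P (y2 - (⟨c0, hc0F⟩ : F₀) • x1) := by rw [hy2, rr_sub, rr_smul]
    have h6 := congrArg (fun v => ((P⁻¹ : GL (Fin n) F) : Matrix (Fin n) (Fin n) F) *ᵥ v) h5
    simp only [hw, rr, ← Matrix.mulVec_smul, ← Matrix.mulVec_add, FormMaxSL.inv_mulVec_mulVec] at h6
    obtain ⟨r, hr⟩ : ∃ r, r = y2 - (⟨c0, hc0F⟩ : F₀) • x1 := ⟨_, rfl⟩
    rw [← hr] at h6
    -- coordinates
    obtain ⟨j, hj⟩ := Function.ne_iff.1 ha
    have hcoord : ∀ i, b j * a i = a j * b i := by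
      intro i
      have h7 : (r j : F) * ((a i : F) + θ * (b i : F)) = (r i : F) * ((a j : F) + θ * (b j : F)) := by
        have e1 := congrFun h6 i
        have e2 := congrFun h6 j
        simp only [incn, Pi.smul_apply, Pi.add_apply, smul_eq_mul] at e1 e2
        rw [← e1, ← e2]; ring
      have hrj : (r j : F) ≠ 0 := by
        intro h8
        have e2 := congrFun h6 j
        simp only [incn, Pi.smul_apply, Pi.add_apply, smul_eq_mul, h8, mul_eq_zero, or_iff_right hs] at e2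
        by_cases hbj : (b j : F) = 0
        · rw [hbj, mul_zero, add_zero] at e2; exact hj (Subtype.ext e2)
        · apply hθ
          have : θ = -(a j : F) * (b j : F)⁻¹ := by field_simp; linear_combination e2
          rw [this]
          exact F₀.mul_mem (F₀.neg_mem (a j).2) (F₀.inv_mem (b j).2)
      have h8 : (r j : F) * (a i : F) - (r i : F) * (a j : F) = 0 ∧ (r j : F) * (b i : F) - (r i : F) * (b j : F) = 0 := by
        by_cases hB : (r j : F) * (b i : F) - (r i : F) * (b j : F) = 0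
        · exact ⟨by linear_combination h7 - θ * hB, hB⟩
        · exfalso; apply hθ
          have : θ = -((r j : F) * (a i : F) - (r i : F) * (a j : F)) * ((r j : F) * (b i : F) - (r i : F) * (b j : F))⁻¹ := by
            rw [eq_mul_inv_iff_mul_eq₀ hB]; linear_combination h7
          rw [this]
          exact F₀.mul_mem (F₀.neg_mem (F₀.sub_mem (F₀.mul_mem (r j).2 (a i).2) (F₀.mul_mem (r i).2 (a j).2)))
            (F₀.inv_mem (F₀.sub_mem (F₀.mul_mem (r j).2 (b i).2) (F₀.mul_mem (r i).2 (b j).2)))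
      refine Subtype.ext (mul_left_cancel₀ hrj ?_)
      rw [MulMemClass.coe_mul, MulMemClass.coe_mul]
      linear_combination (b j : F) * h8.1 - (a j : F) * h8.2
    refine hb (b j / a j) (funext fun i => ?_)
    rw [Pi.smul_apply, smul_eq_mul, div_mul_eq_mul_div, eq_div_iff hj]
    rw [hcoord i]; ring
  intro M hHM hMS
  by_cases hMH : M ≤ Cfsg.Geo.subfieldSubgroup F₀ P ⊓ (Cfsg.GU n F q ⊓ Cfsg.Geo.specialLinear (Fin n) F)
  · exact Or.inl (le_antisymm hMH hHM)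
  right
  refine le_antisymm hMS ?_
  obtain ⟨g, hgM, hgH⟩ := SetLike.not_le_iff_exists.1 hMH
  have hgR : ¬ RS F₀ (P⁻¹ * g * P) := by
    intro h
    refine hgH ⟨⟨P⁻¹ * g * P, (SubfieldMax.mem_sup_iff F₀ _).2 h, ?_⟩, hMS hgM⟩
    simp only [MulEquiv.toMonoidHom_eq_coe, MonoidHom.coe_coe, MulAut.conj_apply]
    group
  obtain ⟨x, hx⟩ : ∃ x : Fin n → F₀, ∀ (μ : F) (u : Fin n → F₀),
      (g : Matrix (Fin n) (Fin n) F) *ᵥ rr P x ≠ μ • rr P u := by
    by_contra h
    push Not at h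
    refine hgR (SubfieldMax.rs_of_lines _ fun x hx => ?_)
    obtain ⟨x, rfl⟩ := exists_incn hx
    obtain ⟨μ, u, hu⟩ := h x
    have e : ((P⁻¹ * g * P : GL (Fin n) F) : Matrix (Fin n) (Fin n) F) *ᵥ incn x = μ • incn u := by
      rw [Units.val_mul, Units.val_mul, ← Matrix.mulVec_mulVec, ← Matrix.mulVec_mulVec]
      show _ *ᵥ (_ *ᵥ rr P x) = _
      rw [hu, rr, Matrix.mulVec_smul, FormMaxSL.inv_mulVec_mulVec]
    by_cases hμ : μ = 0
    · exact ⟨1, one_ne_zero, by rw [e, hμ, zero_smul, smul_zero]; exact fun i => F₀.zero_mem⟩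
    · exact ⟨μ⁻¹, inv_ne_zero hμ, by rw [e, smul_smul, inv_mul_cancel₀ hμ, one_smul]; exact rv_incn u⟩
  have hgU := (hMS hgM).1
  have hbase : ∀ (u : Fin n → F₀) (c : F), Tz q c → tu q (rr P u) c ∈ M := by
    intro u c hc
    obtain ⟨s, rfl⟩ := htz c hc
    exact hHM (tu_rr_mem hF hq hζ0 hζ P hP halt u s)
  have hline : ∀ (μ : F) (u : Fin n → F₀) (c : F), Tz q c → tu q (μ • rr P u) c ∈ M := by
    intro μ u c hc
    rw [tu_smul hF (rr_iso hF hq hζ0 hζ P hP halt u)]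
    refine hbase u _ ?_
    unfold SUGen.Tz at hc ⊢
    rw [mul_pow, mul_pow, Herm.pow_pow_q hF]
    linear_combination μ * μ ^ q * hc
  obtain ⟨w, hw⟩ : ∃ w, w = (g : Matrix (Fin n) (Fin n) F) *ᵥ rr P x := ⟨_, rfl⟩
  have hww : Cfsg.hermForm n F q w w = 0 := by rw [hw, mem_GU.1 hgU, rr_iso hF hq hζ0 hζ P hP halt]
  have hwfull : ∀ c, Tz q c → tu q w c ∈ M := by
    intro c hc
    rw [hw, ← conj_tu hgU (rr_iso hF hq hζ0 hζ P hP halt x)]
    exact mul_mem (mul_mem hgM (hbase x c hc)) (inv_mem hgM)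
  obtain ⟨a, b, hab⟩ := exists_decomp hF hq hζ0 hζ P hP halt hθ w
  rw [Matrix.mulVec_add, Matrix.mulVec_smul] at hab
  change w = rr P a + θ • rr P b at hab
  have hA : AA P hP a b = 0 := (iso_iff hF hq hζ0 hζ P hP halt hθ a b).1 (hab ▸ hww)
  have ha : a ≠ 0 := by
    rintro rfl
    rw [h0, zero_add] at hab
    exact hx θ b (hw ▸ hab)
  have hbn : ∀ c : F₀, b ≠ c • a := by
    intro c hc
    obtain ⟨μ, u, hu⟩ := line_of_dep hF hq hζ0 hζ P hP halt (θ := θ) a b (fun _ => ⟨c, hc⟩)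
    exact hx μ u (by rw [← hw, hab, hu])
  intro t ht
  have hle : SUGen.T n F q ≤ M := by
    rw [SUGen.T, Subgroup.closure_le]
    rintro _ ⟨v, c, hv, hc, rfl⟩
    obtain ⟨a', b', hab'⟩ := exists_decomp hF hq hζ0 hζ P hP halt hθ v
    rw [Matrix.mulVec_add, Matrix.mulVec_smul] at hab'
    change v = rr P a' + θ • rr P b' at hab'
    have hA' : AA P hP a' b' = 0 := (iso_iff hF hq hζ0 hζ P hP halt hθ a' b').1 (hab' ▸ hv)
    by_cases hdep : a' ≠ 0 → ∃ d : F₀, b' = d • a'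
    · obtain ⟨μ, u, hu⟩ := line_of_dep hF hq hζ0 hζ P hP halt (θ := θ) a' b' hdep
      rw [hab', hu]; exact hline μ u c hc
    push Not at hdep
    obtain ⟨k, hk, hka, hkb⟩ := pair_move hF hq hζ0 hζ P hP halt M hHM ha hbn hA hdep.1 hdep.2 hA'
    have hkw : (k : Matrix (Fin n) (Fin n) F) *ᵥ w = v := by
      rw [hab, hab', Matrix.mulVec_add, Matrix.mulVec_smul, hka, hkb]
    rw [← hkw, ← conj_tu (hMS hk).1 hww]
    exact mul_mem (mul_mem hk (hwfull c hc)) (inv_mem hk)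
  exact hle (SUGen.su_le_T hF (by omega) (fun h => by omega) ht)

end CfsgLib.Lie.SubfieldSU
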