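import Cfsg.Agent.Lie.SUFull
import Cfsg.Agent.Lie.SubfieldSU
import Cfsg.Agent.Lie.OrthMaxSL

/-!
Orthogonal subfield subgroups of the special unitary group: elementary tools.
-/

set_option autoImplicit false
set_option linter.unusedSimpArgs false
set_option linter.unusedSectionVars false

namespace CfsgLib.Lie.OrthSubfieldSU

open Matrix
open CfsgLib.Lie.Herm (form_add_left form_add_right form_smul_left form_smul_right form_comm form_single mem_GU)
open CfsgLib.Lie.SUGen (tu tu_mulVec tu_mem_T tu_smul tu_mul tu_zero tu_inv conj_tu Tz form_sub_left form_sub_right)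
open CfsgLib.Lie.SUFull (Full form_eq_zero_symm form_zero_left)
open CfsgLib.Lie.SubfieldSU (incn rr rr_add rr_sub rr_smul rr_zero rr_injective rv_incn exists_incn mem_iff_fixed)
open CfsgLib.Lie.OrthMaxSL (orth mem_orth dim_orth_two dim_orth_three exists_singular_avoid exists_singular_pair
  exists_aniso exists_outside)

variable {F : Type*} [Field F] [Fintype F] {q n : ℕ} {F₀ : Subfield F}

/-- standing hypotheses -/
structure Ctx (n q : ℕ) (F₀ : Subfield F) (P : GL (Fin n) F) (θ : F) (d : F₀) : Prop where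
  hF : Fintype.card F = q ^ 2
  hq : Nat.card F₀ = q
  h2 : (2 : F) ≠ 0
  hn : 13 ≤ n
  hP : Cfsg.Geo.IsFormRationalStructure (Cfsg.hermForm n F q) F₀ 1 P
  hθ : θ ^ q + θ = 0
  hθ0 : θ ≠ 0
  hd : θ * θ = (d : F)

variable {P : GL (Fin n) F} {θ : F} {d : F₀}

namespace Ctx

theorem real (C : Ctx n q F₀ P θ d) (a : F₀) : (a : F) ^ q = a := (mem_iff_fixed C.hF C.hq _).1 a.2

theorem theta_notMem (C : Ctx n q F₀ P θ d) : θ ∉ F₀ := fun h => by
  have h1 := C.real ⟨θ, h⟩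
  refine C.hθ0 ((mul_eq_zero.1 ?_).resolve_left C.h2)
  have h9 := C.hθ
  rw [h1] at h9
  linear_combination h9

theorem h2₀ (C : Ctx n q F₀ P θ d) : (2 : F₀) ≠ 0 := fun h => C.h2 (by
  have h1 := congrArg F₀.subtype h
  rwa [map_ofNat, map_zero] at h1)

theorem d_ne (C : Ctx n q F₀ P θ d) : d ≠ 0 := fun h => C.hθ0 (mul_self_eq_zero.1 (by rw [C.hd, h]; rfl))

theorem pair_unique (C : Ctx n q F₀ P θ d) {a b : F₀} (h : (a : F) + θ * (b : F) = 0) : a = 0 ∧ b = 0 := by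
  by_cases hb : b = 0
  · subst hb; simp at h; exact ⟨h, rfl⟩
  exfalso
  apply C.theta_notMem
  have hb' : (b : F) ≠ 0 := fun h9 => hb (Subtype.ext h9)
  have e : θ = -(a : F) * (b : F)⁻¹ := by field_simp; linear_combination h
  rw [e]
  exact F₀.mul_mem (F₀.neg_mem a.2) (F₀.inv_mem b.2)

theorem tz_real (C : Ctx n q F₀ P θ d) {c : F} (hc : Tz q c) : ∃ t : F₀, c = θ * (t : F) := by
  refine ⟨⟨c / θ, ?_⟩, by rw [mul_div_cancel₀ _ C.hθ0]⟩
  rw [mem_iff_fixed C.hF C.hq, div_pow, eq_neg_of_add_eq_zero_left hc, eq_neg_of_add_eq_zero_left C.hθ,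
    neg_div_neg_eq]

theorem tz_mk (C : Ctx n q F₀ P θ d) (t : F₀) : Tz q (θ * (t : F)) := by
  show (θ * (t : F)) ^ q + θ * (t : F) = 0
  rw [mul_pow, C.real]
  linear_combination (t : F) * C.hθ

theorem val_mem (C : Ctx n q F₀ P θ d) (u v : Fin n → F₀) : Cfsg.hermForm n F q (rr P u) (rr P v) ∈ F₀ := by
  have h := C.hP _ _ (rv_incn u) (rv_incn v)
  rwa [one_mul] at h

/-- the symmetric form -/
def B (C : Ctx n q F₀ P θ d) : LinearMap.BilinForm F₀ (Fin n → F₀) :=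
  LinearMap.mk₂ F₀ (fun u v => (⟨Cfsg.hermForm n F q (rr P u) (rr P v), C.val_mem u v⟩ : F₀))
    (fun a b v => Subtype.ext (by simp [rr_add, form_add_left]))
    (fun c a v => Subtype.ext (by simp [rr_smul, form_smul_left]))
    (fun a u v => Subtype.ext (by simp [rr_add, form_add_right C.hF]))
    (fun c a v => Subtype.ext (by simp [rr_smul, form_smul_right, C.real]))

theorem form_rr (C : Ctx n q F₀ P θ d) (u v : Fin n → F₀) :
    Cfsg.hermForm n F q (rr P u) (rr P v) = (C.B u v : F) := rfl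

theorem B_symm (C : Ctx n q F₀ P θ d) (u v : Fin n → F₀) : C.B u v = C.B v u :=
  Subtype.ext (by rw [← C.form_rr, ← C.form_rr, ← form_comm C.hF (rr P v) (rr P u), C.form_rr, C.real])

/-- coordinates -/
noncomputable def re (C : Ctx n q F₀ P θ d) (v : Fin n → F) : Fin n → F₀ := fun i =>
  ⟨((((P⁻¹ : GL (Fin n) F) : Matrix (Fin n) (Fin n) F) *ᵥ v) i +
    (((P⁻¹ : GL (Fin n) F) : Matrix (Fin n) (Fin n) F) *ᵥ v) i ^ q) / 2, by
    rw [mem_iff_fixed C.hF C.hq, div_pow, Herm.add_pow_q C.hF, Herm.pow_pow_q C.hF]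
    have e : (2 : F) ^ q = 2 := by rw [← Herm.conj_apply C.hF, map_ofNat]
    rw [e, add_comm]⟩

/-- coordinates -/
noncomputable def im (C : Ctx n q F₀ P θ d) (v : Fin n → F) : Fin n → F₀ := fun i =>
  ⟨((((P⁻¹ : GL (Fin n) F) : Matrix (Fin n) (Fin n) F) *ᵥ v) i -
    (((P⁻¹ : GL (Fin n) F) : Matrix (Fin n) (Fin n) F) *ᵥ v) i ^ q) / (2 * θ), by
    rw [mem_iff_fixed C.hF C.hq, div_pow, mul_pow, eq_neg_of_add_eq_zero_left C.hθ,
      ← Herm.conj_apply C.hF (_ - _), map_sub, Herm.conj_apply, Herm.conj_apply, Herm.pow_pow_q C.hF]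
    have e : (2 : F) ^ q = 2 := by rw [← Herm.conj_apply C.hF, map_ofNat]
    rw [e, mul_neg, div_neg, ← neg_div, neg_sub]⟩

theorem decomp (C : Ctx n q F₀ P θ d) (v : Fin n → F) : v = rr P (C.re v) + θ • rr P (C.im v) := by
  have h2 := C.h2
  have h3 := C.hθ0
  conv_lhs => rw [← FormMaxSL.mulVec_inv_mulVec P v]
  rw [rr, rr, ← Matrix.mulVec_smul, ← Matrix.mulVec_add]
  congr 1
  funext i
  simp only [re, im, incn, Pi.add_apply, Pi.smul_apply, smul_eq_mul]
  field_simp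
  ring

theorem unique (C : Ctx n q F₀ P θ d) {a b a' b' : Fin n → F₀}
    (h : rr P a + θ • rr P b = rr P a' + θ • rr P b') : a = a' ∧ b = b' := by
  have key : ∀ i, a i - a' i = 0 ∧ b i - b' i = 0 := by
    intro i
    refine C.pair_unique ?_
    have h1 := congrFun (congrArg (fun w => ((P⁻¹ : GL (Fin n) F) : Matrix (Fin n) (Fin n) F) *ᵥ w) h) i
    simp only [rr, ← Matrix.mulVec_smul, ← Matrix.mulVec_add, FormMaxSL.inv_mulVec_mulVec, Pi.add_apply,
      Pi.smul_apply, smul_eq_mul, incn] at h1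
    push_cast
    linear_combination h1
  exact ⟨funext fun i => sub_eq_zero.1 (key i).1, funext fun i => sub_eq_zero.1 (key i).2⟩

theorem B_nondeg (C : Ctx n q F₀ P θ d) (u : Fin n → F₀) (h : ∀ v, C.B u v = 0) : u = 0 := by
  refine rr_injective P ?_
  rw [rr_zero]
  refine SUFull.eq_zero_of_orth C.hF fun x => ?_
  rw [C.decomp x, form_add_left, form_smul_left, C.form_rr, C.form_rr, C.B_symm _ u, C.B_symm _ u, h, h]
  simp

theorem B_nd (C : Ctx n q F₀ P θ d) : C.B.Nondegenerate :=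
  ⟨C.B_nondeg, fun y hy => C.B_nondeg y fun x => by rw [C.B_symm]; exact hy x⟩

theorem rr_ne (C : Ctx n q F₀ P θ d) {u : Fin n → F₀} (hu : u ≠ 0) : rr P u ≠ 0 := fun h =>
  hu (rr_injective P (h.trans (rr_zero P).symm))

/-- elements of SU preserving the rational structure lie in the subgroup -/
theorem mem_H (C : Ctx n q F₀ P θ d) {g : GL (Fin n) F}
    (hg : g ∈ Cfsg.GU n F q ⊓ Cfsg.Geo.specialLinear (Fin n) F)
    (h : ∀ x : Fin n → F₀, ∃ y : Fin n → F₀, (g : Matrix (Fin n) (Fin n) F) *ᵥ rr P x = rr P y) :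
    g ∈ Cfsg.Geo.subfieldSubgroup F₀ P ⊓ (Cfsg.GU n F q ⊓ Cfsg.Geo.specialLinear (Fin n) F) := by
  refine ⟨⟨P⁻¹ * g * P, (SubfieldMax.mem_sup_iff F₀ _).2 ⟨1, one_ne_zero, fun i j => ?_⟩, ?_⟩, hg⟩
  · rw [one_smul]
    have e : incn (Pi.single j (1 : F₀)) = Pi.single j (1 : F) := by
      funext k
      by_cases hk : k = j
      · subst hk; simp [incn]
      · simp [incn, hk]
    obtain ⟨y, hy⟩ := h (Pi.single j 1)
    have h1 : ((P⁻¹ * g * P : GL (Fin n) F) : Matrix (Fin n) (Fin n) F) *ᵥ Pi.single j 1 = incn y := by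
      rw [← e, Units.val_mul, Units.val_mul, ← Matrix.mulVec_mulVec, ← Matrix.mulVec_mulVec]
      show _ *ᵥ (_ *ᵥ rr P (Pi.single j 1)) = _
      rw [hy, rr, FormMaxSL.inv_mulVec_mulVec]
    have h2 := congrFun h1 i
    rw [Matrix.mulVec_single_one] at h2
    simp only [Matrix.col_apply] at h2
    rw [h2]
    exact (y i).2
  · simp only [MulEquiv.toMonoidHom_eq_coe, MonoidHom.coe_coe, MulAut.conj_apply]
    group

theorem of_mem_H (C : Ctx n q F₀ P θ d) {g : GL (Fin n) F} (hg : g ∈ Cfsg.Geo.subfieldSubgroup F₀ P) :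
    ∃ c : F, c ≠ 0 ∧ ∀ x : Fin n → F₀, ∃ y : Fin n → F₀,
      c • ((g : Matrix (Fin n) (Fin n) F) *ᵥ rr P x) = rr P y := by
  obtain ⟨g', hg', rfl⟩ := hg
  obtain ⟨c, hc, hR⟩ := (SubfieldMax.mem_sup_iff F₀ _).1 hg'
  refine ⟨c, hc, fun x => ?_⟩
  obtain ⟨y, hy⟩ := exists_incn (SubfieldMax.rm_mulVec hR (rv_incn x))
  refine ⟨y, ?_⟩
  simp only [MulEquiv.toMonoidHom_eq_coe, MonoidHom.coe_coe, MulAut.conj_apply, Units.val_mul,
    ← Matrix.mulVec_mulVec, rr, FormMaxSL.inv_mulVec_mulVec]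
  rw [← Matrix.mulVec_smul, ← Matrix.smul_mulVec, ← hy]

/-- rational Eichler elements -/
theorem exists_eichler (C : Ctx n q F₀ P θ d) {a b : Fin n → F₀} (ha : C.B a a = 0) (hab : C.B b a = 0) :
    ∃ e ∈ Cfsg.Geo.subfieldSubgroup F₀ P ⊓ (Cfsg.GU n F q ⊓ Cfsg.Geo.specialLinear (Fin n) F), ∀ v,
      (e : Matrix (Fin n) (Fin n) F) *ᵥ v = v + Cfsg.hermForm n F q v (rr P a) • rr P b -
        (Cfsg.hermForm n F q v (rr P b) + (C.B b b : F) / 2 * Cfsg.hermForm n F q v (rr P a)) • rr P a := by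
  have hF := C.hF
  have hfaa : Cfsg.hermForm n F q (rr P a) (rr P a) = 0 := by rw [C.form_rr, ha]; rfl
  have hfba : Cfsg.hermForm n F q (rr P b) (rr P a) = 0 := by rw [C.form_rr, hab]; rfl
  have hfab := form_eq_zero_symm hF hfba
  have hfbb : Cfsg.hermForm n F q (rr P b) (rr P b) = (C.B b b : F) := C.form_rr b b
  obtain ⟨ψ, hψ⟩ : ∃ ψ, ψ = -Herm.hb n hF (rr P b) + ((C.B b b : F) - (C.B b b : F) / 2) • Herm.hb n hF (rr P a) :=
    ⟨_, rfl⟩
  have hψv : ∀ v, ψ v = -Cfsg.hermForm n F q v (rr P b) +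
      ((C.B b b : F) - (C.B b b : F) / 2) * Cfsg.hermForm n F q v (rr P a) := fun v => by
    simp [hψ, Herm.hb_apply]
  have hb0 : Herm.hb n hF (rr P a) (rr P b) = 0 := hfba
  have ha0 : ψ (rr P a) = 0 := by rw [hψv, hfab, hfaa]; ring
  obtain ⟨e, he⟩ : ∃ e, e = FormMaxSL.tv (rr P a) ψ * FormMaxSL.tv (rr P b) (Herm.hb n hF (rr P a)) := ⟨_, rfl⟩
  have hmv : ∀ v, (e : Matrix (Fin n) (Fin n) F) *ᵥ v = v + Cfsg.hermForm n F q v (rr P a) • rr P b -
      (Cfsg.hermForm n F q v (rr P b) + (C.B b b : F) / 2 * Cfsg.hermForm n F q v (rr P a)) • rr P a := by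
    intro v
    rw [he, Units.val_mul, ← Matrix.mulVec_mulVec, FormMaxSL.tv_mulVec hb0, FormMaxSL.tv_mulVec ha0, hψv,
      Herm.hb_apply, form_add_left, form_add_left, form_smul_left, form_smul_left, hfba, hfbb]
    module
  have h2q : (2 : F) ^ q = 2 := by rw [← Herm.conj_apply hF, map_ofNat]
  refine ⟨e, C.mem_H ⟨mem_GU.2 fun u v => ?_, he ▸ mul_mem (FormMaxSL.tv_mem_SL _ _) (FormMaxSL.tv_mem_SL _ _)⟩
    (fun x => ⟨x + C.B x a • b - (C.B x b + C.B b b / 2 * C.B x a) • a, ?_⟩), hmv⟩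
  · rw [hmv, hmv]
    simp only [form_sub_left, form_sub_right hF, form_add_left, form_add_right hF, form_smul_left, form_smul_right,
      hfaa, hfba, hfab, hfbb]
    simp only [Herm.add_pow_q hF, mul_pow, div_pow, C.real, h2q, form_comm hF v]
    have h2 := C.h2
    field_simp
    ring
  · rw [hmv, C.form_rr, C.form_rr, rr_sub, rr_add, rr_smul, rr_smul]
    push_cast
    rfl

/-- rational products of two reflections -/
theorem exists_two_refl (C : Ctx n q F₀ P θ d) {e k : Fin n → F₀} (he : C.B e e ≠ 0) (hk : C.B k k ≠ 0) :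
    ∃ h ∈ Cfsg.Geo.subfieldSubgroup F₀ P ⊓ (Cfsg.GU n F q ⊓ Cfsg.Geo.specialLinear (Fin n) F),
      ∀ v, Cfsg.hermForm n F q v (rr P k) = 0 → (h : Matrix (Fin n) (Fin n) F) *ᵥ v =
        v - (2 * Cfsg.hermForm n F q v (rr P e) / (C.B e e : F)) • rr P e := by
  have hF := C.hF
  have hr : ∀ e : Fin n → F₀, C.B e e ≠ 0 → ∃ r : GL (Fin n) F, r ∈ Cfsg.GU n F q ∧
      (r : Matrix (Fin n) (Fin n) F).det = -1 ∧ ∀ v, (r : Matrix (Fin n) (Fin n) F) *ᵥ v =
        v - (2 * Cfsg.hermForm n F q v (rr P e) / (C.B e e : F)) • rr P e := by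
    intro e he
    have he' : (C.B e e : F) ≠ 0 := fun h => he (Subtype.ext h)
    obtain ⟨a, ha⟩ : ∃ a : F, a = -2 / (C.B e e : F) := ⟨_, rfl⟩
    have hdet : (1 + a • Matrix.vecMulVec (rr P e) (fun j => rr P e j ^ q)).det = -1 := by
      rw [SUGen.det_upd, C.form_rr, ha, div_mul_cancel₀ _ he']; ring
    refine ⟨Matrix.GeneralLinearGroup.mk'' _ (by rw [hdet]; exact isUnit_one.neg), ?_, hdet, fun v => ?_⟩
    · rw [mem_GU]
      intro x y
      show Cfsg.hermForm n F q ((1 + a • Matrix.vecMulVec (rr P e) (fun j => rr P e j ^ q)) *ᵥ x)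
        ((1 + a • Matrix.vecMulVec (rr P e) (fun j => rr P e j ^ q)) *ᵥ y) = _
      rw [SUGen.upd_mulVec, SUGen.upd_mulVec, form_add_left, form_add_right hF, form_add_right hF,
        form_smul_left, form_smul_left, form_smul_right, form_smul_right, mul_pow, form_comm hF y (rr P e),
        C.form_rr]
      have h1 : a + a ^ q + a * a ^ q * (C.B e e : F) = 0 := by
        rw [ha, div_pow, C.real, ← Herm.conj_apply hF (-2 : F), map_neg, map_ofNat]
        field_simp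
        ring
      linear_combination (Cfsg.hermForm n F q x (rr P e) * Cfsg.hermForm n F q (rr P e) y) * h1
    · show (1 + a • Matrix.vecMulVec (rr P e) (fun j => rr P e j ^ q)) *ᵥ v = _
      rw [SUGen.upd_mulVec, sub_eq_add_neg, ← neg_smul, ha]
      congr 2
      ring
  obtain ⟨r, hr1, hr2, hrv⟩ := hr e he
  obtain ⟨s, hs1, hs2, hsv⟩ := hr k hk
  refine ⟨r * s, C.mem_H ⟨mul_mem hr1 hs1, Units.ext ?_⟩ (fun x => ?_), fun v hv => ?_⟩
  · show ((r * s : GL (Fin n) F) : Matrix (Fin n) (Fin n) F).det = 1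
    rw [Units.val_mul, Matrix.det_mul, hr2, hs2]; ring
  · obtain ⟨y, hy⟩ : ∃ y : Fin n → F₀, y = x - (2 * C.B x k / C.B k k) • k := ⟨_, rfl⟩
    refine ⟨y - (2 * C.B y e / C.B e e) • e, ?_⟩
    rw [Units.val_mul, ← Matrix.mulVec_mulVec, hsv, C.form_rr]
    have e1 : rr P x - (2 * (C.B x k : F) / (C.B k k : F)) • rr P k = rr P y := by
      rw [hy, rr_sub, rr_smul]; push_cast; rfl
    rw [e1, hrv, C.form_rr, rr_sub, rr_smul]
    push_cast
    rfl
  · rw [Units.val_mul, ← Matrix.mulVec_mulVec, hsv, hv, mul_zero, zero_div, zero_smul, sub_zero, hrv]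

end Ctx

end CfsgLib.Lie.OrthSubfieldSU
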