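import Cfsg.Agent.Lie.OrthSubfieldSU

/-!
The orthogonal subfield subgroup of the special unitary group is maximal.
-/

set_option autoImplicit false
set_option linter.unusedSimpArgs false
set_option linter.unusedSectionVars false

namespace CfsgLib.Lie.OrthSubfieldSU

open Matrix
open CfsgLib.Lie.Herm (form_add_left form_add_right form_smul_left form_smul_right form_comm form_single mem_GU)
open CfsgLib.Lie.SUGen (tu tu_mulVec tu_mem_T tu_smul tu_mul tu_zero tu_inv conj_tu Tz form_sub_left form_sub_right)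
open CfsgLib.Lie.SUFull (Full form_eq_zero_symm form_zero_left)
open CfsgLib.Lie.SubfieldSU (incn rr rr_add rr_sub rr_smul rr_zero rr_injective rv_incn exists_incn mem_iff_fixed)
open CfsgLib.Lie.OrthMaxSL (orth mem_orth dim_orth dim_orth_two dim_orth_three exists_singular_avoid exists_singular_pair
  exists_aniso exists_outside)

/-- two maps which are pointwise dependent -/
theorem dep_maps {K U V : Type*} [Field K] [AddCommGroup U] [Module K U] [AddCommGroup V] [Module K V]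
    (A C : U →ₗ[K] V) (h : ∀ y, ∃ s t : K, (s ≠ 0 ∨ t ≠ 0) ∧ s • A y + t • C y = 0) :
    (∃ s t : K, (s ≠ 0 ∨ t ≠ 0) ∧ ∀ y, s • A y + t • C y = 0) ∨
      ∃ z, ∀ y, A y ∈ K ∙ z ∧ C y ∈ K ∙ z := by
  by_cases hA : ∀ y, A y = 0
  · exact Or.inl ⟨1, 0, Or.inl one_ne_zero, fun y => by simp [hA]⟩
  push Not at hA
  obtain ⟨y₀, hy₀⟩ := hA
  obtain ⟨s₀, t₀, h₀, he⟩ := h y₀
  have ht₀ : t₀ ≠ 0 := fun ht => by
    rcases h₀ with h₁ | h₁
    · simp [ht, h₁] at he; exact hy₀ he
    · exact h₁ ht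
  obtain ⟨D, hD⟩ : ∃ D : U →ₗ[K] V, D = s₀ • A + t₀ • C := ⟨_, rfl⟩
  by_cases hD0 : ∀ y, D y = 0
  · exact Or.inl ⟨s₀, t₀, h₀, fun y => by have := hD0 y; simpa [hD] using this⟩
  push Not at hD0
  obtain ⟨y₁, hy₁⟩ := hD0
  have hA_in : ∀ y, D y ≠ 0 → A y ∈ K ∙ D y := by
    intro y hy
    obtain ⟨s, t, hst, he⟩ := h y
    have e : (s - t * s₀ / t₀) • A y + (t / t₀) • D y = 0 := by
      rw [hD]; simp [smul_add, smul_smul]
      rw [← he]
      match_scalars <;> field_simp <;> ring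
    by_cases hs : s - t * s₀ / t₀ = 0
    · rw [hs, zero_smul, zero_add, smul_eq_zero, or_iff_left hy, div_eq_zero_iff, or_iff_left ht₀] at e
      subst e
      simp at hs
      simp [hs] at hst
    · rw [← Submodule.smul_mem_iff _ hs, eq_neg_of_add_eq_zero_left e]
      exact neg_mem (Submodule.smul_mem _ _ (Submodule.mem_span_singleton_self _))
  have hDy₀ : D y₀ = 0 := by simp [hD, he]
  have key : ∀ y, D y ≠ 0 → D y ∈ K ∙ A y₀ ∧ A y ∈ K ∙ A y₀ := by
    intro y hy
    have h1 := hA_in (y + y₀) (by rwa [map_add, hDy₀, add_zero])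
    rw [map_add, map_add, hDy₀, add_zero] at h1
    have h2 := Submodule.sub_mem _ h1 (hA_in y hy)
    rw [add_sub_cancel_left] at h2
    obtain ⟨c, hc⟩ := Submodule.mem_span_singleton.1 h2
    have hc0 : c ≠ 0 := fun h9 => hy₀ (by rw [← hc, h9, zero_smul])
    have hDm : D y ∈ K ∙ A y₀ := by
      rw [← Submodule.smul_mem_iff _ hc0, hc]; exact Submodule.mem_span_singleton_self _
    exact ⟨hDm, (Submodule.span_singleton_le_iff_mem _ _).2 hDm (hA_in y hy)⟩
  refine Or.inr ⟨A y₀, fun y => ?_⟩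
  have hAy : A y ∈ K ∙ A y₀ ∧ D y ∈ K ∙ A y₀ := by
    by_cases hy : D y = 0
    · have h1 := (key (y + y₁) (by rwa [map_add, hy, zero_add])).2
      rw [map_add] at h1
      exact ⟨by simpa using Submodule.sub_mem _ h1 (key y₁ hy₁).2, hy ▸ Submodule.zero_mem _⟩
    · exact ⟨(key y hy).2, (key y hy).1⟩
  refine ⟨hAy.1, ?_⟩
  rw [← Submodule.smul_mem_iff _ ht₀]
  have := Submodule.sub_mem _ hAy.2 (Submodule.smul_mem _ s₀ hAy.1)
  simpa [hD] using this

theorem ker_large {K V : Type*} [Field K] [AddCommGroup V] [Module K V] [FiniteDimensional K V]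
    (D : V →ₗ[K] V) (U T : Submodule K V) (h : ∀ y ∈ U, D y ∈ T) :
    Module.finrank K U ≤ Module.finrank K (LinearMap.ker D) + Module.finrank K T := by
  have h1 := LinearMap.finrank_range_add_finrank_ker (D ∘ₗ U.subtype)
  have h2 : LinearMap.range (D ∘ₗ U.subtype) ≤ T := by
    rintro _ ⟨y, rfl⟩; exact h y y.2
  have h3 : (LinearMap.ker (D ∘ₗ U.subtype)).map U.subtype ≤ LinearMap.ker D := by
    rintro _ ⟨y, hy, rfl⟩; exact hy
  have h4 := Submodule.finrank_mono h2
  have h5 := Submodule.finrank_mono h3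
  rw [← (Submodule.equivMapOfInjective _ U.subtype_injective _).finrank_eq] at h5
  omega

theorem finrank_one {K V : Type*} [Field K] [AddCommGroup V] [Module K V] (a : V) :
    Module.finrank K (K ∙ a) ≤ 1 := by
  classical
  have h := finrank_span_finset_le_card ({a} : Finset V) (R := K)
  rw [Finset.coe_singleton, Finset.card_singleton] at h
  exact h

theorem finrank_two {K V : Type*} [Field K] [AddCommGroup V] [Module K V] (a b : V) :
    Module.finrank K (Submodule.span K ({a, b} : Set V)) ≤ 2 := by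
  classical
  have h := finrank_span_finset_le_card ({a, b} : Finset V) (R := K)
  rw [Finset.coe_pair] at h
  exact h.trans Finset.card_le_two

variable {F : Type*} [Field F] [Fintype F] {q n : ℕ} {F₀ : Subfield F} {P : GL (Fin n) F} {θ : F} {d : F₀}

namespace Ctx

theorem card_eq (C : Ctx n q F₀ P θ d) : Fintype.card (Fin n) = n ∧ 13 ≤ n := ⟨Fintype.card_fin n, C.hn⟩

theorem exists_vals (C : Ctx n q F₀ P θ d) {r : ℕ} (v : Fin r → (Fin n → F₀)) (hv : LinearIndependent F₀ v)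
    (c : Fin r → F₀) : ∃ y, ∀ i, C.B (v i) y = c i := by
  obtain ⟨ψ, hψ⟩ := LinearMap.exists_extend ((Module.Basis.span hv).constr F₀ c)
  obtain ⟨y, hy⟩ := Quad.exists_rep C.B C.B_nd ψ
  refine ⟨y, fun i => ?_⟩
  have h1 := LinearMap.congr_fun hψ (Module.Basis.span hv i)
  rw [Module.Basis.constr_basis, LinearMap.comp_apply] at h1
  rw [hy, ← h1]
  congr 1
  exact (congrArg Subtype.val (Module.Basis.span_apply hv i)).symm

/-- a singular vector with prescribed values -/
theorem exists_singular_vals (C : Ctx n q F₀ P θ d) {p q' : Fin n → F₀}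
    (hpq : LinearIndependent F₀ ![p, q']) (x y : F₀) :
    ∃ a, C.B a a = 0 ∧ C.B p a = x ∧ C.B q' a = y := by
  obtain ⟨a₀, ha₀⟩ := C.exists_vals _ hpq ![x, y]
  have hp0 : C.B p a₀ = x := ha₀ 0
  have hq0 : C.B q' a₀ = y := ha₀ 1
  obtain ⟨r, hr, -, hrr, s, hs, hrs⟩ := exists_singular_pair C.B C.h2₀ C.B_symm C.B_nondeg (orth C.B {p, q'}) (by
    have := dim_orth_two C.B p q'; have := C.card_eq; omega)
  have hrp : C.B p r = 0 := by rw [C.B_symm]; exact hr p (by simp)
  have hrq : C.B q' r = 0 := by rw [C.B_symm]; exact hr q' (by simp)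
  obtain ⟨a₁, hp1, hq1, har⟩ : ∃ a₁, C.B p a₁ = x ∧ C.B q' a₁ = y ∧ C.B a₁ r ≠ 0 := by
    by_cases h : C.B a₀ r = 0
    · refine ⟨a₀ + s, ?_, ?_, ?_⟩
      · rw [map_add, hp0, show C.B p s = 0 by rw [C.B_symm]; exact hs p (by simp), add_zero]
      · rw [map_add, hq0, show C.B q' s = 0 by rw [C.B_symm]; exact hs q' (by simp), add_zero]
      · rw [map_add, LinearMap.add_apply, h, zero_add, C.B_symm]; exact hrs
    · exact ⟨a₀, hp0, hq0, h⟩
  refine ⟨a₁ + (-(C.B a₁ a₁) / (2 * C.B a₁ r)) • r, ?_, by simp [hp1, hrp], by simp [hq1, hrq]⟩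
  have h2 := C.h2₀
  simp [map_add, LinearMap.add_apply, hrr, C.B_symm r a₁]
  field_simp
  ring

/-- the form in coordinates -/
theorem form_pair (C : Ctx n q F₀ P θ d) (p q' r s : Fin n → F₀) :
    Cfsg.hermForm n F q (rr P p + θ • rr P q') (rr P r + θ • rr P s) =
      ((C.B p r - d * C.B q' s : F₀) : F) + θ * ((C.B q' r - C.B p s : F₀) : F) := by
  rw [form_add_left, form_add_right C.hF, form_add_right C.hF, form_smul_left, form_smul_left,
    form_smul_right, form_smul_right, C.form_rr, C.form_rr, C.form_rr, C.form_rr,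
    eq_neg_of_add_eq_zero_left C.hθ]
  push_cast
  linear_combination (-(C.B q' s : F)) * C.hd

variable {M : Subgroup (GL (Fin n) F)}

theorem full_move_back (C : Ctx n q F₀ P θ d) (hMS : M ≤ Cfsg.GU n F q ⊓ Cfsg.Geo.specialLinear (Fin n) F)
    {v w : Fin n → F} (hw : w ∈ Full q M) {c : F} (hc : Tz q c)
    (h : v + (c * Cfsg.hermForm n F q v w) • w ∈ Full q M) : v ∈ Full q M := by
  have h1 := SUFull.full_map (M.inv_mem (hw.2 c hc)) (hMS (M.inv_mem (hw.2 c hc))).1 h
  rwa [← tu_mulVec hw.1, FormMaxSL.inv_mulVec_mulVec] at h1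

/-- one rational full vector gives all -/
theorem full_lines (C : Ctx n q F₀ P θ d) (hHM : Cfsg.Geo.subfieldSubgroup F₀ P ⊓
      (Cfsg.GU n F q ⊓ Cfsg.Geo.specialLinear (Fin n) F) ≤ M)
    {p q' a : Fin n → F₀} (hw : rr P p + θ • rr P q' ∈ Full q M) (ha : C.B a a = 0)
    (hpa : C.B p a = 0) (hqa : C.B q' a = 0) {b : Fin n → F₀} (hba : C.B b a = 0)
    (hl : C.B p b ≠ 0 ∨ C.B q' b ≠ 0) : rr P a ∈ Full q M := by
  have hF := C.hF
  obtain ⟨w, hwe⟩ : ∃ w, w = rr P p + θ • rr P q' := ⟨_, rfl⟩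
  rw [← hwe] at hw
  have hwa : Cfsg.hermForm n F q w (rr P a) = 0 := by
    rw [hwe, form_add_left, form_smul_left, C.form_rr, C.form_rr, hpa, hqa]; simp
  have haa : Cfsg.hermForm n F q (rr P a) (rr P a) = 0 := by rw [C.form_rr, ha]; rfl
  obtain ⟨l, hle⟩ : ∃ l, l = Cfsg.hermForm n F q w (rr P b) := ⟨_, rfl⟩
  have hl0 : l ≠ 0 := fun h => by
    rw [hle, hwe, form_add_left, form_smul_left, C.form_rr, C.form_rr] at h
    have := C.pair_unique h
    tauto
  obtain ⟨e, heH, hev⟩ := C.exists_eichler ha hba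
  obtain ⟨e', heH', hev'⟩ := C.exists_eichler ha (b := -b) (by simp [hba])
  have h1 := SUFull.full_map (hHM heH) heH.2.1 hw
  have h2 := SUFull.full_map (hHM heH') heH'.2.1 hw
  rw [hev, hwa, zero_smul, add_zero, mul_zero, add_zero, ← hle] at h1
  rw [hev', hwa, zero_smul, add_zero, mul_zero, add_zero,
    show Cfsg.hermForm n F q w (rr P (-b)) = -l by
      rw [show (-b : Fin n → F₀) = (-1 : F₀) • b by simp, rr_smul, form_smul_right, C.real, hle]; simp] at h2
  refine ⟨haa, fun c hc => ?_⟩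
  obtain ⟨c', hc'⟩ : ∃ c', c' = c / (2 * (l * l ^ q)) := ⟨_, rfl⟩
  have hne : (2 : F) * (l * l ^ q) ≠ 0 := mul_ne_zero C.h2 (mul_ne_zero hl0 (pow_ne_zero _ hl0))
  have hc'z : Tz q c' := by
    show c' ^ q + c' = 0
    have h2q : (2 : F) ^ q = 2 := by rw [← Herm.conj_apply hF, map_ofNat]
    rw [hc', div_pow, mul_pow, mul_pow, Herm.pow_pow_q hF, h2q, mul_comm (l ^ q) l, ← add_div,
      show c ^ q + c = 0 from hc, zero_div]
  have hkey : tu q (w - l • rr P a) c' * tu q (w - (-l) • rr P a) c' * (tu q w c' * tu q w c')⁻¹ =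
      tu q (rr P a) c := by
    rw [mul_inv_eq_iff_eq_mul]
    have haw := form_eq_zero_symm hF hwa
    refine FormMaxSL.gl_ext fun x => ?_
    simp only [Units.val_mul, ← Matrix.mulVec_mulVec, tu_mulVec h1.1, tu_mulVec h2.1, tu_mulVec hw.1,
      tu_mulVec haa, form_add_left, form_sub_left, form_sub_right hF, form_smul_left, form_smul_right,
      hw.1, hwa, haw, haa]
    have hnl : (-l) ^ q = -(l ^ q) := by rw [← Herm.conj_apply hF, map_neg, Herm.conj_apply]
    have hcc : c = c' * (2 * (l * l ^ q)) := by rw [hc', div_mul_cancel₀ _ hne]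
    rw [hnl, hcc]
    module
  rw [← hkey]
  exact M.mul_mem (M.mul_mem (h1.2 _ hc'z) (h2.2 _ hc'z))
    (M.inv_mem (M.mul_mem (hw.2 _ hc'z) (hw.2 _ hc'z)))

/-- a transvection in a larger subgroup -/
theorem exists_full (C : Ctx n q F₀ P θ d) (hHM : Cfsg.Geo.subfieldSubgroup F₀ P ⊓
      (Cfsg.GU n F q ⊓ Cfsg.Geo.specialLinear (Fin n) F) ≤ M)
    (hMS : M ≤ Cfsg.GU n F q ⊓ Cfsg.Geo.specialLinear (Fin n) F) {g : GL (Fin n) F} (hg : g ∈ M)
    (hgH : g ∉ Cfsg.Geo.subfieldSubgroup F₀ P) : ∃ w ∈ Full q M, w ≠ 0 := by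
  by_contra hcon
  push Not at hcon
  have hF := C.hF
  have hgU := (hMS hg).1
  have hcard := C.card_eq
  obtain ⟨G, hG⟩ : ∃ G : (Fin n → F) → (Fin n → F), G = fun x => (g : Matrix (Fin n) (Fin n) F) *ᵥ x := ⟨_, rfl⟩
  let A : (Fin n → F₀) →ₗ[F₀] (Fin n → F₀) :=
    { toFun := fun x => C.re (G (rr P x))
      map_add' := fun x y => (C.unique (a := C.re (G (rr P (x + y)))) (b := C.im (G (rr P (x + y))))
        (a' := C.re (G (rr P x)) + C.re (G (rr P y))) (b' := C.im (G (rr P x)) + C.im (G (rr P y))) (by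
          rw [← C.decomp, rr_add P (C.re _) (C.re _), rr_add P (C.im _) (C.im _), smul_add, add_add_add_comm,
            ← C.decomp, ← C.decomp]
          simp [hG, rr_add, Matrix.mulVec_add])).1
      map_smul' := fun c x => (C.unique (a := C.re (G (rr P (c • x)))) (b := C.im (G (rr P (c • x))))
        (a' := c • C.re (G (rr P x))) (b' := c • C.im (G (rr P x))) (by
          rw [← C.decomp, rr_smul P c (C.re _), rr_smul P c (C.im _), smul_comm θ, ← smul_add, ← C.decomp]
          simp [hG, rr_smul, Matrix.mulVec_smul])).1 }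
  let Cm : (Fin n → F₀) →ₗ[F₀] (Fin n → F₀) :=
    { toFun := fun x => C.im (G (rr P x))
      map_add' := fun x y => (C.unique (a := C.re (G (rr P (x + y)))) (b := C.im (G (rr P (x + y))))
        (a' := C.re (G (rr P x)) + C.re (G (rr P y))) (b' := C.im (G (rr P x)) + C.im (G (rr P y))) (by
          rw [← C.decomp, rr_add P (C.re _) (C.re _), rr_add P (C.im _) (C.im _), smul_add, add_add_add_comm,
            ← C.decomp, ← C.decomp]
          simp [hG, rr_add, Matrix.mulVec_add])).2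
      map_smul' := fun c x => (C.unique (a := C.re (G (rr P (c • x)))) (b := C.im (G (rr P (c • x))))
        (a' := c • C.re (G (rr P x))) (b' := c • C.im (G (rr P x))) (by
          rw [← C.decomp, rr_smul P c (C.re _), rr_smul P c (C.im _), smul_comm θ, ← smul_add, ← C.decomp]
          simp [hG, rr_smul, Matrix.mulVec_smul])).2 }
  have hdec : ∀ x, (g : Matrix (Fin n) (Fin n) F) *ᵥ rr P x = rr P (A x) + θ • rr P (Cm x) := fun x => by
    conv_lhs => rw [C.decomp ((g : Matrix (Fin n) (Fin n) F) *ᵥ rr P x)]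
    simp [A, Cm, hG]
  have hinj : ∀ x, A x = 0 → Cm x = 0 → x = 0 := fun x h1 h2 => by
    refine rr_injective P ?_
    rw [rr_zero, ← FormMaxSL.inv_mulVec_mulVec g (rr P x), hdec, h1, h2, rr_zero, smul_zero, add_zero,
      Matrix.mulVec_zero]
  -- pointwise dependence
  have hdep : ∀ a, a ≠ 0 → C.B a a = 0 → ∀ y ∈ orth C.B {a}, ∃ s t : F₀, (s ≠ 0 ∨ t ≠ 0) ∧
      s • A y + t • Cm y ∈ Submodule.span F₀ {A a, Cm a} := by
    intro a ha0 haa y hy
    by_contra hind
    push Not at hind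
    have hya : C.B y a = 0 := hy a (by simp)
    obtain ⟨K, hK⟩ : ∃ K, K = orth C.B {A a, Cm a} := ⟨_, rfl⟩
    -- functionals
    have hψ : ∀ s t : F₀, (s ≠ 0 ∨ t ≠ 0) → ∃ e ∈ K, s * C.B (A y) e + t * C.B (Cm y) e ≠ 0 := by
      intro s t hst
      obtain ⟨φ, hφ, hφ0⟩ := Submodule.exists_dual_map_eq_bot_of_notMem (hind s t hst) inferInstance
      obtain ⟨e, he⟩ := Quad.exists_rep C.B C.B_nd φ
      refine ⟨e, hK ▸ fun v hv => ?_, ?_⟩
      · rw [C.B_symm, he]
        have : φ v ∈ (Submodule.span F₀ ({A a, Cm a} : Set (Fin n → F₀))).map φ :=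
          Submodule.mem_map_of_mem (Submodule.subset_span hv)
        rwa [hφ0, Submodule.mem_bot] at this
      · have h9 := hφ
        rw [← he, map_add, map_smul, map_smul, LinearMap.add_apply, LinearMap.smul_apply,
          LinearMap.smul_apply] at h9
        exact h9
    have hKdim : n ≤ Module.finrank F₀ K + 2 := by
      have := dim_orth_two C.B (A a) (Cm a); rw [hK]; omega
    -- making vectors anisotropic
    have haniso : ∀ (x e : Fin n → F₀) (χ : (Fin n → F₀) →ₗ[F₀] F₀), x ∈ K → χ x ≠ 0 →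
        ∃ x' ∈ K, C.B x' x' ≠ 0 ∧ χ x' ≠ 0 ∧ C.B e x' = C.B e x := by
      intro x e χ hx hχ
      by_cases hxx : C.B x x = 0
      swap
      · exact ⟨x, hx, hxx, hχ, rfl⟩
      obtain ⟨r, hr, hrr⟩ := exists_aniso C.B C.h2₀ C.B_symm C.B_nondeg (K ⊓ orth C.B {x, e}) (by
        have := dim_orth_two C.B x e
        have h4 := Submodule.finrank_sup_add_finrank_inf_eq K (orth C.B {x, e})
        have h5 := Submodule.finrank_le (K ⊔ orth C.B {x, e})
        rw [Module.finrank_fin_fun] at h5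
        omega)
      have hrx : C.B r x = 0 := hr.2 x (by simp)
      have hre : C.B e r = 0 := by rw [C.B_symm]; exact hr.2 e (by simp)
      by_cases hp : χ (x + r) = 0
      · refine ⟨x - r, K.sub_mem hx hr.1, ?_, ?_, by simp [hre]⟩
        · simpa [hxx, hrx, C.B_symm x r] using hrr
        · intro h
          have h9 : χ (x + r) + χ (x - r) = 0 := by rw [hp, h, add_zero]
          rw [← map_add, show x + r + (x - r) = (2 : F₀) • x by module, map_smul, smul_eq_mul] at h9
          exact hχ ((mul_eq_zero.1 h9).resolve_left C.h2₀)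
      · exact ⟨x + r, K.add_mem hx hr.1, by simpa [hxx, hrx, C.B_symm x r] using hrr, hp, by simp [hre]⟩
    obtain ⟨x₁, hx₁, hx₁'⟩ := hψ 1 0 (Or.inl one_ne_zero)
    obtain ⟨e₁, he₁, he₁1, he₁p, -⟩ := haniso x₁ 0 (C.B (A y)) hx₁ (by simpa using hx₁')
    obtain ⟨χ, hχ⟩ : ∃ χ, χ = C.B (A y) e₁ • C.B (Cm y) - C.B (Cm y) e₁ • C.B (A y) := ⟨_, rfl⟩
    have hχe : χ e₁ = 0 := by simp [hχ]; ring
    obtain ⟨x₂, hx₂, hx₂'⟩ := hψ (-(C.B (Cm y) e₁)) (C.B (A y) e₁) (Or.inr he₁p)
    have hχx₂ : χ x₂ ≠ 0 := by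
      intro h9; apply hx₂'; simp [hχ] at h9; linear_combination h9
    obtain ⟨x₃, hx₃, hχx₃, hB₃⟩ : ∃ x ∈ K, χ x ≠ 0 ∧ C.B e₁ x ≠ 0 := by
      by_cases hb : C.B e₁ x₂ = 0
      · exact ⟨x₂ + e₁, K.add_mem hx₂ he₁, by rwa [map_add, hχe, add_zero],
          by rw [map_add, hb, zero_add]; exact he₁1⟩
      · exact ⟨x₂, hx₂, hχx₂, hb⟩
    obtain ⟨e₂, he₂, he₂1, hχe₂, hB₂⟩ := haniso x₃ e₁ χ hx₃ hχx₃
    -- the group elements
    have hrefl : ∀ e ∈ K, C.B e e ≠ 0 → ∃ h ∈ M, h ∈ Cfsg.GU n F q ∧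
        (h : Matrix (Fin n) (Fin n) F) *ᵥ ((g : Matrix (Fin n) (Fin n) F) *ᵥ rr P a) =
          (g : Matrix (Fin n) (Fin n) F) *ᵥ rr P a ∧
        (h : Matrix (Fin n) (Fin n) F) *ᵥ ((g : Matrix (Fin n) (Fin n) F) *ᵥ rr P y) =
          (g : Matrix (Fin n) (Fin n) F) *ᵥ rr P y -
            (2 * Cfsg.hermForm n F q ((g : Matrix (Fin n) (Fin n) F) *ᵥ rr P y) (rr P e) / (C.B e e : F)) • rr P e := by
      intro e he hee
      obtain ⟨k, hk, hkk⟩ := exists_aniso C.B C.h2₀ C.B_symm C.B_nondeg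
        (orth C.B {A a, Cm a} ⊓ orth C.B {A y, Cm y}) (by
          have := dim_orth_two C.B (A a) (Cm a)
          have := dim_orth_two C.B (A y) (Cm y)
          have h4 := Submodule.finrank_sup_add_finrank_inf_eq (orth C.B {A a, Cm a}) (orth C.B {A y, Cm y})
          have h5 := Submodule.finrank_le (orth C.B {A a, Cm a} ⊔ orth C.B {A y, Cm y})
          rw [Module.finrank_fin_fun] at h5
          omega)
      obtain ⟨h, hhH, hhv⟩ := C.exists_two_refl hee hkk
      have hperp : ∀ (z e : Fin n → F₀), C.B e (A z) = 0 → C.B e (Cm z) = 0 →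
          Cfsg.hermForm n F q ((g : Matrix (Fin n) (Fin n) F) *ᵥ rr P z) (rr P e) = 0 := by
        intro z e h1 h2
        rw [hdec, form_add_left, form_smul_left, C.form_rr, C.form_rr, C.B_symm _ e, C.B_symm _ e, h1, h2]
        simp
      rw [hK] at he
      refine ⟨h, hHM hhH, hhH.2.1, ?_, ?_⟩
      · rw [hhv _ (hperp a k (hk.1 _ (by simp)) (hk.1 _ (by simp))),
          hperp a e (he _ (by simp)) (he _ (by simp)), mul_zero, zero_div, zero_smul, sub_zero]
      · rw [hhv _ (hperp y k (hk.2 _ (by simp)) (hk.2 _ (by simp)))]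
    obtain ⟨h₁, hh₁, hh₁U, hh₁w, hh₁y⟩ := hrefl e₁ he₁ he₁1
    obtain ⟨h₂, hh₂, hh₂U, hh₂w, hh₂y⟩ := hrefl e₂ he₂ he₂1
    obtain ⟨w, hw⟩ : ∃ w, w = (g : Matrix (Fin n) (Fin n) F) *ᵥ rr P a := ⟨_, rfl⟩
    obtain ⟨z, hz⟩ : ∃ z, z = (g : Matrix (Fin n) (Fin n) F) *ᵥ rr P y := ⟨_, rfl⟩
    rw [← hw] at hh₁w hh₂w
    rw [← hz] at hh₁y hh₂y
    have hww : Cfsg.hermForm n F q w w = 0 := by rw [hw, mem_GU.1 hgU, C.form_rr, haa]; rfl
    have hzw : Cfsg.hermForm n F q z w = 0 := by rw [hw, hz, mem_GU.1 hgU, C.form_rr, hya]; rfl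
    -- Eichler elements with axis w
    have hroot : ∀ (h : GL (Fin n) F), h ∈ M → h ∈ Cfsg.GU n F q → (h : Matrix (Fin n) (Fin n) F) *ᵥ w = w →
        ∀ k : F₀, ∃ E ∈ M, ∀ v, (E : Matrix (Fin n) (Fin n) F) *ᵥ v =
          v + Cfsg.hermForm n F q v w • ((k : F) • ((h : Matrix (Fin n) (Fin n) F) *ᵥ z)) -
            (Cfsg.hermForm n F q v ((k : F) • ((h : Matrix (Fin n) (Fin n) F) *ᵥ z)) +
              ((k * k * C.B y y : F₀) : F) / 2 * Cfsg.hermForm n F q v w) • w := by
      intro h hh hhU hhw k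
      obtain ⟨e, heH, hev⟩ := C.exists_eichler haa (b := k • y) (by simp [hya])
      refine ⟨h * g * e * (h * g)⁻¹, M.mul_mem (M.mul_mem (M.mul_mem hh hg) (hHM heH))
        (M.inv_mem (M.mul_mem hh hg)), fun v => ?_⟩
      obtain ⟨v', rfl⟩ : ∃ v', ((h * g : GL (Fin n) F) : Matrix (Fin n) (Fin n) F) *ᵥ v' = v :=
        ⟨_, FormMaxSL.mulVec_inv_mulVec _ v⟩
      rw [Units.val_mul, ← Matrix.mulVec_mulVec, FormMaxSL.inv_mulVec_mulVec, Units.val_mul,
        ← Matrix.mulVec_mulVec, hev, rr_smul]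
      have e1 : w = ((h * g : GL (Fin n) F) : Matrix (Fin n) (Fin n) F) *ᵥ rr P a := by
        rw [Units.val_mul, ← Matrix.mulVec_mulVec, ← hw, hhw]
      have e2 : (h : Matrix (Fin n) (Fin n) F) *ᵥ z = ((h * g : GL (Fin n) F) : Matrix (Fin n) (Fin n) F) *ᵥ rr P y := by
        rw [Units.val_mul, ← Matrix.mulVec_mulVec, ← hz]
      rw [e2, e1]
      simp only [Matrix.mulVec_sub, Matrix.mulVec_add, Matrix.mulVec_smul, form_smul_right,
        mem_GU.1 (mul_mem hhU hgU)]
      congr 4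
      simp [mul_assoc]
    -- the transvections
    obtain ⟨c₀, hc₀⟩ : ∃ c₀, c₀ = Cfsg.hermForm n F q ((h₁ : Matrix (Fin n) (Fin n) F) *ᵥ z)
        ((h₂ : Matrix (Fin n) (Fin n) F) *ᵥ z) - Cfsg.hermForm n F q ((h₂ : Matrix (Fin n) (Fin n) F) *ᵥ z)
        ((h₁ : Matrix (Fin n) (Fin n) F) *ᵥ z) := ⟨_, rfl⟩
    have hsq : ∀ k : F₀, tu q w ((k : F) ^ 2 * c₀) ∈ M := by
      intro k
      obtain ⟨E1, hE1, hE1v⟩ := hroot h₁ hh₁ hh₁U hh₁w k
      obtain ⟨E2, hE2, hE2v⟩ := hroot h₂ hh₂ hh₂U hh₂w k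
      have hy1 : Cfsg.hermForm n F q ((h₁ : Matrix (Fin n) (Fin n) F) *ᵥ z) w = 0 := by
        conv_lhs => arg 5; rw [← hh₁w]
        rw [mem_GU.1 hh₁U, hzw]
      have hy2 : Cfsg.hermForm n F q ((h₂ : Matrix (Fin n) (Fin n) F) *ᵥ z) w = 0 := by
        conv_lhs => arg 5; rw [← hh₂w]
        rw [mem_GU.1 hh₂U, hzw]
      have e : E1 * E2 = tu q w ((k : F) ^ 2 * c₀) * (E2 * E1) := by
        refine FormMaxSL.gl_ext fun v => ?_
        simp only [Units.val_mul, ← Matrix.mulVec_mulVec, hE1v, hE2v, tu_mulVec hww, form_add_left,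
          form_sub_left, form_smul_left, form_smul_right, hww, hy1, hy2, form_eq_zero_symm hF hy1,
          form_eq_zero_symm hF hy2, C.real, hc₀]
        module
      have h1 := M.mul_mem (M.mul_mem hE1 hE2) (M.inv_mem (M.mul_mem hE2 hE1))
      rwa [e, mul_inv_cancel_right] at h1
    -- computing the constant
    obtain ⟨f₁, hf₁⟩ : ∃ f, f = Cfsg.hermForm n F q z (rr P e₁) := ⟨_, rfl⟩
    obtain ⟨f₂, hf₂⟩ : ∃ f, f = Cfsg.hermForm n F q z (rr P e₂) := ⟨_, rfl⟩
    rw [← hf₁] at hh₁y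
    rw [← hf₂] at hh₂y
    have hc0 : c₀ ≠ 0 := by
      intro hzero
      have hB12 : (C.B e₁ e₂ : F) ≠ 0 := fun h9 => hB₃ (hB₂ ▸ Subtype.ext h9)
      have h1' : (C.B e₁ e₁ : F) ≠ 0 := fun h9 => he₁1 (Subtype.ext h9)
      have h2' : (C.B e₂ e₂ : F) ≠ 0 := fun h9 => he₂1 (Subtype.ext h9)
      have h2q : (2 : F) ^ q = 2 := by rw [← Herm.conj_apply hF, map_ofNat]
      have he : c₀ = 4 * (C.B e₁ e₂ : F) / ((C.B e₁ e₁ : F) * (C.B e₂ e₂ : F)) * (f₁ * f₂ ^ q - f₂ * f₁ ^ q) := by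
        rw [hc₀, hh₁y, hh₂y]
        simp only [form_sub_left, form_sub_right hF, form_smul_left, form_smul_right, C.form_rr,
          C.B_symm e₂ e₁, mul_pow, div_pow, h2q, C.real]
        rw [← form_comm hF z (rr P e₁), ← form_comm hF z (rr P e₂), ← hf₁, ← hf₂]
        field_simp
        ring
      have h4 : (4 : F) ≠ 0 := by rw [show (4 : F) = 2 * 2 by norm_num]; exact mul_ne_zero C.h2 C.h2
      rw [he, mul_eq_zero, or_iff_right (div_ne_zero (mul_ne_zero h4 hB12) (mul_ne_zero h1' h2'))] at hzero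
      have e1 : f₁ = (C.B (A y) e₁ : F) + θ * (C.B (Cm y) e₁ : F) := by
        rw [hf₁, hz, hdec, form_add_left, form_smul_left, C.form_rr, C.form_rr]
      have e2 : f₂ = (C.B (A y) e₂ : F) + θ * (C.B (Cm y) e₂ : F) := by
        rw [hf₂, hz, hdec, form_add_left, form_smul_left, C.form_rr, C.form_rr]
      rw [e1, e2, Herm.add_pow_q hF, Herm.add_pow_q hF, mul_pow, mul_pow, C.real, C.real, C.real, C.real,
        eq_neg_of_add_eq_zero_left C.hθ] at hzero
      refine hχe₂ (Subtype.ext ?_)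
      have h6 : (2 : F) * θ * ((χ e₂ : F₀) : F) = 0 := by
        rw [hχ]
        simp only [LinearMap.sub_apply, LinearMap.smul_apply, smul_eq_mul]
        push_cast
        linear_combination -hzero
      exact (mul_eq_zero.1 h6).resolve_left (mul_ne_zero C.h2 C.hθ0)
    have hwne : w ≠ 0 := fun h9 => C.rr_ne ha0 (by
      rw [← FormMaxSL.inv_mulVec_mulVec g (rr P a), ← hw, h9, Matrix.mulVec_zero])
    refine hwne (hcon w ⟨hww, fun c hc => ?_⟩)
    have hc₀z : Tz q c₀ := by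
      show c₀ ^ q + c₀ = 0
      rw [hc₀, ← Herm.conj_apply hF (_ - _), map_sub, Herm.conj_apply, Herm.conj_apply, form_comm hF, form_comm hF]
      ring
    obtain ⟨t, ht⟩ := C.tz_real hc
    obtain ⟨t₀, ht₀⟩ := C.tz_real hc₀z
    have ht₀' : (t₀ : F) ≠ 0 := fun h9 => hc0 (by rw [ht₀, h9, mul_zero])
    obtain ⟨x, hx⟩ : ∃ x : F₀, x = t / t₀ := ⟨_, rfl⟩
    have e : c = (((x + 1) / 2 : F₀) : F) ^ 2 * c₀ - (((x - 1) / 2 : F₀) : F) ^ 2 * c₀ := by
      have := C.h2
      have h2c : ((2 : F₀) : F) = 2 := map_ofNat F₀.subtype 2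
      rw [ht, ht₀, hx]
      push_cast
      rw [h2c]
      field_simp
      ring
    rw [e, sub_eq_add_neg, ← tu_mul hww, ← tu_inv hww]
    exact M.mul_mem (hsq _) (M.inv_mem (hsq _))
  -- small rank combinations
  have hcomb : ∀ a, a ≠ 0 → C.B a a = 0 → ∃ s t : F₀, (s ≠ 0 ∨ t ≠ 0) ∧
      ∀ y ∈ orth C.B {a}, s • A y + t • Cm y ∈ Submodule.span F₀ {A a, Cm a} := by
    intro a ha0 haa
    obtain ⟨S, hS⟩ : ∃ S, S = Submodule.span F₀ ({A a, Cm a} : Set (Fin n → F₀)) := ⟨_, rfl⟩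
    rcases dep_maps (S.mkQ ∘ₗ A ∘ₗ (orth C.B {a}).subtype) (S.mkQ ∘ₗ Cm ∘ₗ (orth C.B {a}).subtype) (by
      intro y
      obtain ⟨s, t, hst, hm⟩ := hdep a ha0 haa y y.2
      refine ⟨s, t, hst, ?_⟩
      simp only [LinearMap.comp_apply, Submodule.subtype_apply]
      rw [← map_smul S.mkQ, ← map_smul S.mkQ, ← map_add S.mkQ, Submodule.mkQ_apply,
        Submodule.Quotient.mk_eq_zero, hS]
      exact hm) with ⟨s, t, hst, h⟩ | ⟨zq, hzq⟩
    · refine ⟨s, t, hst, fun y hy => ?_⟩
      have h1 := h ⟨y, hy⟩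
      simp only [LinearMap.comp_apply, Submodule.subtype_apply] at h1
      rw [← map_smul S.mkQ, ← map_smul S.mkQ, ← map_add S.mkQ, Submodule.mkQ_apply,
        Submodule.Quotient.mk_eq_zero, hS] at h1
      exact h1
    · exfalso
      obtain ⟨z, rfl⟩ := S.mkQ_surjective zq
      have hin : ∀ D : (Fin n → F₀) →ₗ[F₀] (Fin n → F₀),
          (∀ y : orth C.B {a}, S.mkQ (D (y : Fin n → F₀)) ∈ F₀ ∙ S.mkQ z) → ∀ y ∈ orth C.B {a}, D y ∈ S ⊔ F₀ ∙ z := by
        intro D hD y hy
        obtain ⟨c, hc⟩ := Submodule.mem_span_singleton.1 (hD ⟨y, hy⟩)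
        have h1 : D y - c • z ∈ S := by
          rw [← Submodule.Quotient.mk_eq_zero, ← Submodule.mkQ_apply, map_sub, map_smul, hc, sub_self]
        have := Submodule.add_mem_sup h1 (Submodule.smul_mem _ c (Submodule.mem_span_singleton_self z))
        rwa [sub_add_cancel] at this
      have hT : Module.finrank F₀ (S ⊔ F₀ ∙ z : Submodule F₀ (Fin n → F₀)) ≤ 3 := by
        have h1 := Submodule.finrank_sup_add_finrank_inf_eq S (F₀ ∙ z)
        have h2 := finrank_two (K := F₀) (A a) (Cm a)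
        have h3 := finrank_one (K := F₀) z
        rw [← hS] at h2
        omega
      have hA' := ker_large A _ _ (hin A fun y => (hzq y).1)
      have hC' := ker_large Cm _ _ (hin Cm fun y => (hzq y).2)
      have ho : n ≤ Module.finrank F₀ (orth C.B {a}) + 1 := by
        have := dim_orth C.B ![a]
        rw [show Set.range ![a] = {a} by simp] at this
        omega
      have h4 := Submodule.finrank_sup_add_finrank_inf_eq (LinearMap.ker A) (LinearMap.ker Cm)
      have h5 := Submodule.finrank_le (LinearMap.ker A ⊔ LinearMap.ker Cm)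
      rw [Module.finrank_fin_fun] at h5
      obtain ⟨x, hx, hx0⟩ := Submodule.exists_mem_ne_zero_of_ne_bot
        (p := LinearMap.ker A ⊓ LinearMap.ker Cm) fun hb => by rw [hb, finrank_bot] at h4; omega
      exact hx0 (hinj x hx.1 hx.2)
  obtain ⟨a₀, -, ha₀0, ha₀a, -⟩ := exists_singular_pair C.B C.h2₀ C.B_symm C.B_nondeg ⊤
    (by rw [finrank_top, Module.finrank_fin_fun]; omega)
  obtain ⟨α, β, hαβ, hD⟩ := hcomb a₀ ha₀0 ha₀a
  obtain ⟨D, hDe⟩ : ∃ D : (Fin n → F₀) →ₗ[F₀] (Fin n → F₀), D = α • A + β • Cm := ⟨_, rfl⟩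
  have hkerD : ∀ a, a ≠ 0 → C.B a a = 0 → ∀ (D' : (Fin n → F₀) →ₗ[F₀] (Fin n → F₀)) (s t : F₀),
      D' = s • A + t • Cm → (∀ y ∈ orth C.B {a}, s • A y + t • Cm y ∈ Submodule.span F₀ {A a, Cm a}) →
      n ≤ Module.finrank F₀ (LinearMap.ker D') + 3 := by
    intro a ha0 haa D' s t hD' h
    have h1 := ker_large D' (orth C.B {a}) (Submodule.span F₀ {A a, Cm a}) fun y hy => by
      simpa [hD'] using h y hy
    have h2 := finrank_two (K := F₀) (A a) (Cm a)
    have := dim_orth C.B ![a]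
    rw [show Set.range ![a] = {a} by simp] at this
    omega
  have hker := hkerD a₀ ha₀0 ha₀a D α β hDe hD
  -- the combination works for all singular vectors
  have hall : ∀ a, a ≠ 0 → C.B a a = 0 → ∀ y ∈ orth C.B {a}, D y ∈ Submodule.span F₀ {A a, Cm a} := by
    intro a ha0 haa y hy
    obtain ⟨s, t, hst, h⟩ := hcomb a ha0 haa
    by_cases hdet : α * t - β * s = 0
    · obtain ⟨k, hk⟩ : ∃ k : F₀, α = k * s ∧ β = k * t := by
        by_cases hs : s = 0
        · have ht : t ≠ 0 := hst.resolve_left (fun h => h hs)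
          refine ⟨β / t, ?_, by field_simp⟩
          rw [hs, mul_zero]
          rw [hs, mul_zero, sub_zero, mul_eq_zero] at hdet
          exact hdet.resolve_right ht
        · refine ⟨α / s, by field_simp, ?_⟩
          field_simp
          linear_combination -hdet
      have := Submodule.smul_mem _ k (h y hy)
      rw [smul_add, smul_smul, smul_smul, ← hk.1, ← hk.2] at this
      simpa [hDe] using this
    · exfalso
      have hker' := hkerD a ha0 haa (s • A + t • Cm) s t rfl h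
      have h4 := Submodule.finrank_sup_add_finrank_inf_eq (LinearMap.ker D) (LinearMap.ker (s • A + t • Cm))
      have h5 := Submodule.finrank_le (LinearMap.ker D ⊔ LinearMap.ker (s • A + t • Cm))
      rw [Module.finrank_fin_fun] at h5
      obtain ⟨x, hx, hx0⟩ := Submodule.exists_mem_ne_zero_of_ne_bot
        (p := LinearMap.ker D ⊓ LinearMap.ker (s • A + t • Cm)) fun hb => by rw [hb, finrank_bot] at h4; omega
      have e1 : α • A x + β • Cm x = 0 := by simpa [hDe] using hx.1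
      have e2 : s • A x + t • Cm x = 0 := by simpa using hx.2
      refine hx0 (hinj x ?_ ?_)
      · have e3 : (α * t - β * s) • A x = t • (α • A x + β • Cm x) - β • (s • A x + t • Cm x) := by module
        rw [e1, e2, smul_zero, smul_zero, sub_zero, smul_eq_zero] at e3
        exact e3.resolve_left hdet
      · have e3 : (α * t - β * s) • Cm x = α • (s • A x + t • Cm x) - s • (α • A x + β • Cm x) := by module
        rw [e1, e2, smul_zero, smul_zero, sub_zero, smul_eq_zero] at e3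
        exact e3.resolve_left hdet
  -- the rescaled map
  obtain ⟨μ, hμ⟩ : ∃ μ : F, μ = (β : F) + θ * (α : F) := ⟨_, rfl⟩
  have hμ0 : μ ≠ 0 := fun h => by
    have := C.pair_unique (a := β) (b := α) (hμ ▸ h)
    tauto
  obtain ⟨A', hA'e⟩ : ∃ A' : (Fin n → F₀) →ₗ[F₀] (Fin n → F₀), A' = β • A + (d * α) • Cm := ⟨_, rfl⟩
  have hgμ : ∀ x, μ • ((g : Matrix (Fin n) (Fin n) F) *ᵥ rr P x) = rr P (A' x) + θ • rr P (D x) := fun x => by
    rw [hdec, hμ, hA'e, hDe]
    simp only [LinearMap.add_apply, LinearMap.smul_apply, rr_add, rr_smul, MulMemClass.coe_mul, ← C.hd]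
    module
  have hA'inj : ∀ x, D x = 0 → A' x = 0 → x = 0 := fun x h1 h2 => by
    have h3 := hgμ x
    rw [h1, h2, rr_zero, smul_zero, add_zero, smul_eq_zero, or_iff_right hμ0] at h3
    exact rr_injective P (by rw [rr_zero, ← FormMaxSL.inv_mulVec_mulVec g (rr P x), h3, Matrix.mulVec_zero])
  have hline : ∀ a, a ≠ 0 → C.B a a = 0 → D a = 0 → ∀ y ∈ orth C.B {a}, D y ∈ F₀ ∙ A' a := by
    intro a ha0 haa hDa y hy
    have hle : Submodule.span F₀ ({A a, Cm a} : Set (Fin n → F₀)) ≤ F₀ ∙ A' a := by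
      have hdet : β * β - d * α * α ≠ 0 := by
        intro h
        have h1 : (β : F) * β - θ * θ * α * α = 0 := by
          rw [C.hd]; exact_mod_cast congrArg Subtype.val h
        have h2 : μ * ((β : F) - θ * (α : F)) = 0 := by rw [hμ]; linear_combination h1
        have h3 := C.pair_unique (a := β) (b := -α) (by push_cast; linear_combination (mul_eq_zero.1 h2).resolve_left hμ0)
        simp at h3
        tauto
      have e1 : α • A a + β • Cm a = 0 := by simpa [hDe] using hDa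
      rw [Submodule.span_le, Set.insert_subset_iff, Set.singleton_subset_iff]
      constructor <;> rw [SetLike.mem_coe, ← Submodule.smul_mem_iff _ hdet]
      · have : (β * β - d * α * α) • A a = β • A' a - (d * α) • (α • A a + β • Cm a) := by
          rw [hA'e]; simp only [LinearMap.add_apply, LinearMap.smul_apply]; module
        rw [this, e1, smul_zero, sub_zero]
        exact Submodule.smul_mem _ _ (Submodule.mem_span_singleton_self _)
      · have : (β * β - d * α * α) • Cm a = β • (α • A a + β • Cm a) - α • A' a := by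
          rw [hA'e]; simp only [LinearMap.add_apply, LinearMap.smul_apply]; module
        rw [this, e1, smul_zero, zero_sub]
        exact neg_mem (Submodule.smul_mem _ _ (Submodule.mem_span_singleton_self _))
    exact hle (hall a ha0 haa y hy)
  -- three singular vectors in the kernel
  obtain ⟨a, ha, ha0, haa, -⟩ := exists_singular_pair C.B C.h2₀ C.B_symm C.B_nondeg (LinearMap.ker D) (by omega)
  obtain ⟨ψ, hψ, hψx⟩ := exists_outside (LinearMap.ker D) (F₀ ∙ a) (by have := finrank_one (K := F₀) a; omega)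
  obtain ⟨a', ha', ha'a', hψa'⟩ := exists_singular_avoid C.B C.h2₀ C.B_symm C.B_nondeg (LinearMap.ker D)
    (by omega) ψ hψx
  have ha'0 : a' ≠ 0 := fun h => hψa' (by rw [h, map_zero])
  have ha'n : a' ∉ F₀ ∙ a := fun h => hψa' (hψ _ h)
  obtain ⟨ψ', hψ', hψx'⟩ := exists_outside (LinearMap.ker D) (Submodule.span F₀ {a, a'}) (by
    have := finrank_two (K := F₀) a a'; omega)
  obtain ⟨a'', ha'', ha''a'', hψa''⟩ := exists_singular_avoid C.B C.h2₀ C.B_symm C.B_nondeg (LinearMap.ker D)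
    (by omega) ψ' hψx'
  have hind : LinearIndependent F₀ ![a, a', a''] := by
    rw [Fintype.linearIndependent_iff]
    intro c hc
    simp [Fin.sum_univ_three] at hc
    have h2 : c 2 = 0 := by
      have := congrArg ψ' hc
      simp [hψ' a (Submodule.subset_span (by simp)), hψ' a' (Submodule.subset_span (by simp))] at this
      exact this.resolve_right hψa''
    rw [h2, zero_smul, add_zero] at hc
    have h1 : c 1 = 0 := by
      by_contra h1
      apply ha'n
      rw [← Submodule.smul_mem_iff _ h1, eq_neg_of_add_eq_zero_right hc]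
      exact neg_mem (Submodule.smul_mem _ _ (Submodule.mem_span_singleton_self a))
    rw [h1, zero_smul, add_zero, smul_eq_zero, or_iff_left ha0] at hc
    intro i
    fin_cases i
    · exact hc
    · exact h1
    · exact h2
  have hsep : ∀ u v, u ∈ LinearMap.ker D → v ∈ LinearMap.ker D → C.B u u = 0 → C.B v v = 0 →
      LinearIndependent F₀ ![u, v] → ∀ y, C.B y u = 0 → C.B y v = 0 → D y = 0 := by
    intro u v hu hv huu hvv huv y hyu hyv
    have hu0 : u ≠ 0 := by simpa using huv.ne_zero 0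
    have hv0 : v ≠ 0 := by simpa using huv.ne_zero 1
    have h1 := hline u hu0 huu hu y (fun x hx => by rw [Set.mem_singleton_iff.1 hx]; exact hyu)
    have h2 := hline v hv0 hvv hv y (fun x hx => by rw [Set.mem_singleton_iff.1 hx]; exact hyv)
    obtain ⟨c, hc⟩ := Submodule.mem_span_singleton.1 h1
    obtain ⟨c', hc'⟩ := Submodule.mem_span_singleton.1 h2
    have h3 : c • u + (-c') • v = 0 := hA'inj _ (by
      rw [map_add, map_smul, map_smul, LinearMap.mem_ker.1 hu, LinearMap.mem_ker.1 hv]; simp) (by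
      rw [map_add, map_smul, map_smul, neg_smul, hc, hc', add_neg_cancel])
    rw [← hc, (LinearIndependent.pair_iff.1 huv c (-c') h3).1, zero_smul]
  have hperp : ∀ i j k : Fin 3, i ≠ j → i ≠ k → j ≠ k → ∀ y, C.B y (![a, a', a''] i) = 0 → D y = 0 := by
    intro i j k hij hik hjk y hy
    have hmem : ∀ l : Fin 3, ![a, a', a''] l ∈ LinearMap.ker D ∧ C.B (![a, a', a''] l) (![a, a', a''] l) = 0 := by
      intro l; fin_cases l
      · exact ⟨ha, haa⟩
      · exact ⟨ha', ha'a'⟩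
      · exact ⟨ha'', ha''a''⟩
    have hpair : ∀ l m : Fin 3, l ≠ m → LinearIndependent F₀ ![![a, a', a''] l, ![a, a', a''] m] := by
      intro l m hlm
      convert hind.comp ![l, m] (by intro x z; fin_cases x <;> fin_cases z <;> simp [hlm, hlm.symm]) using 1
      funext x; fin_cases x <;> rfl
    obtain ⟨z, hz⟩ := C.exists_vals ![a, a', a''] hind (fun l => if l = k then 1 else 0)
    have hzi : C.B z (![a, a', a''] i) = 0 := by rw [C.B_symm, hz]; simp [hik]
    have hzj : C.B z (![a, a', a''] j) = 0 := by rw [C.B_symm, hz]; simp [hjk]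
    have hzk : C.B z (![a, a', a''] k) = 1 := by rw [C.B_symm, hz]; simp
    have h1 := hsep _ _ (hmem i).1 (hmem j).1 (hmem i).2 (hmem j).2 (hpair i j hij) z hzi hzj
    have h2 := hsep _ _ (hmem i).1 (hmem k).1 (hmem i).2 (hmem k).2 (hpair i k hik)
      (y - C.B y (![a, a', a''] k) • z) (by simp [hy, hzi]) (by simp [hzk])
    rw [map_sub, map_smul, h1, smul_zero, sub_zero] at h2
    exact h2
  have hD0 : ∀ x, D x = 0 := by
    intro x
    obtain ⟨z, hz⟩ := C.exists_vals ![a, a', a''] hind (fun l => if l = 0 then 1 else 0)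
    have h1 := hperp 1 0 2 (by decide) (by decide) (by decide) z (by rw [C.B_symm, hz]; simp)
    have h2 := hperp 0 1 2 (by decide) (by decide) (by decide) (x - C.B x a • z) (by
      have h9 : C.B z a = 1 := by rw [C.B_symm]; exact hz 0
      simp [h9])
    rw [map_sub, map_smul, h1, smul_zero, sub_zero] at h2
    exact h2
  refine hgH ⟨P⁻¹ * g * P, (SubfieldMax.mem_sup_iff F₀ _).2 (SubfieldMax.rs_of_lines _ fun x hx => ?_), ?_⟩
  · obtain ⟨x, rfl⟩ := exists_incn hx
    refine ⟨μ, hμ0, ?_⟩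
    have e : ((P⁻¹ * g * P : GL (Fin n) F) : Matrix (Fin n) (Fin n) F) *ᵥ incn x = μ⁻¹ • incn (A' x) := by
      rw [Units.val_mul, Units.val_mul, ← Matrix.mulVec_mulVec, ← Matrix.mulVec_mulVec]
      show _ *ᵥ (_ *ᵥ rr P x) = _
      have h9 := congrArg (fun v => μ⁻¹ • v) (hgμ x)
      simp only [smul_smul, inv_mul_cancel₀ hμ0, one_smul, hD0, rr_zero, smul_zero, add_zero] at h9
      rw [h9, rr, Matrix.mulVec_smul, FormMaxSL.inv_mulVec_mulVec]
    rw [e, smul_smul, mul_inv_cancel₀ hμ0, one_smul]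
    exact rv_incn _
  · simp only [MulEquiv.toMonoidHom_eq_coe, MonoidHom.coe_coe, MulAut.conj_apply]
    group

/-- one rational line gives all isotropic vectors -/
theorem full_all (C : Ctx n q F₀ P θ d) (hMS : M ≤ Cfsg.GU n F q ⊓ Cfsg.Geo.specialLinear (Fin n) F)
    (hlines : ∀ a, C.B a a = 0 → rr P a ∈ Full q M) (v : Fin n → F) (hv : Cfsg.hermForm n F q v v = 0) :
    v ∈ Full q M := by
  have hF := C.hF
  have hh : (2 : F₀) ≠ 0 := C.h2₀
  have hd0 := C.d_ne
  have hd' : ∀ {p q' : Fin n → F₀}, ¬ LinearIndependent F₀ ![p, q'] →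
      Cfsg.hermForm n F q (rr P p + θ • rr P q') (rr P p + θ • rr P q') = 0 → rr P p + θ • rr P q' ∈ Full q M := by
    intro p q' hdep hiso
    have key : ∀ (μ : F) (u : Fin n → F₀), rr P p + θ • rr P q' = μ • rr P u → rr P p + θ • rr P q' ∈ Full q M := by
      intro μ u he
      by_cases hμ : μ = 0
      · rw [he, hμ, zero_smul]; exact SUFull.full_zero
      rw [he] at hiso ⊢
      rw [form_smul_left, form_smul_right, C.form_rr, mul_eq_zero, or_iff_right hμ, mul_eq_zero,
        or_iff_right (pow_ne_zero _ hμ)] at hiso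
      exact SUFull.full_smul hF (hlines u (Subtype.ext hiso)) μ
    by_cases hp : p = 0
    · exact key θ q' (by rw [hp, rr_zero, zero_add])
    · rw [linearIndependent_fin2] at hdep
      simp only [Matrix.cons_val_one, Matrix.cons_val_zero, not_and, not_forall, not_not] at hdep
      by_cases hq' : q' = 0
      · exact key 1 p (by rw [hq', rr_zero, smul_zero, add_zero, one_smul])
      obtain ⟨c, hc⟩ := hdep hq'
      exact key ((c : F) + θ) q' (by rw [← hc, rr_smul, add_smul])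
  -- totally singular planes
  have hplane : ∀ {p q' : Fin n → F₀}, LinearIndependent F₀ ![p, q'] → C.B p p = 0 → C.B q' q' = 0 →
      C.B p q' = 0 → rr P p + θ • rr P q' ∈ Full q M := by
    intro p q' hpq hpp hqq hpq0
    obtain ⟨z₀, hz₀⟩ := C.exists_vals _ hpq ![1, 0]
    have hzp : C.B p z₀ = 1 := hz₀ 0
    have hzq : C.B q' z₀ = 0 := hz₀ 1
    obtain ⟨z, hz⟩ : ∃ z, z = z₀ - (C.B z₀ z₀ / 2) • p := ⟨_, rfl⟩
    have hzz : C.B z z = 0 := by
      simp [hz, hpp, C.B_symm z₀ p, hzp]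
      field_simp
      ring
    have hpz : C.B p z = 1 := by simp [hz, hpp, hzp]
    have hqz : C.B q' z = 0 := by simp [hz, hzq, C.B_symm q' p, hpq0]
    obtain ⟨x, hx⟩ : ∃ x, x = (2 : F₀)⁻¹ • q' + z := ⟨_, rfl⟩
    obtain ⟨y, hy⟩ : ∃ y, y = (2 : F₀)⁻¹ • q' - z := ⟨_, rfl⟩
    have hxx : C.B x x = 0 := by simp [hx, hqq, hzz, hqz, C.B_symm z q']
    have hyy : C.B y y = 0 := by simp [hy, hqq, hzz, hqz, C.B_symm z q']
    have hpx : C.B p x = 1 := by simp [hx, hpq0, hpz]
    have hpy : C.B p y = -1 := by simp [hy, hpq0, hpz]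
    have hxy : C.B x y = 0 := by simp [hx, hy, hqq, hzz, hqz, C.B_symm z q']
    have hqe : q' = x + y := by
      rw [hx, hy, show (2 : F₀)⁻¹ • q' + z + ((2 : F₀)⁻¹ • q' - z) = ((2 : F₀) * 2⁻¹) • q' by module,
        mul_inv_cancel₀ hh, one_smul]
    have h1 := SUFull.full_move hF (hlines p hpp) (hlines x hxx) (show Tz q θ from C.hθ)
    rw [C.form_rr, hpx, OneMemClass.coe_one, mul_one] at h1
    have h2 := SUFull.full_move hF h1 (hlines y hyy) (show Tz q (-θ) from SUGen.tz_neg hF C.hθ)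
    rw [form_add_left, form_smul_left, C.form_rr, C.form_rr, hpy, hxy] at h2
    rw [hqe, rr_add]
    convert h2 using 1
    push_cast
    module
  -- moving along a rational line
  have hstep : ∀ {p q' a : Fin n → F₀}, C.B a a = 0 → ∀ t : F₀,
      rr P (p + (t * d * C.B q' a) • a) + θ • rr P (q' + (t * C.B p a) • a) ∈ Full q M →
      rr P p + θ • rr P q' ∈ Full q M := by
    intro p q' a ha t h
    refine C.full_move_back hMS (hlines a ha) (C.tz_mk t) ?_
    rw [form_add_left, form_smul_left, C.form_rr, C.form_rr]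
    convert h using 1
    rw [rr_add, rr_add, rr_smul, rr_smul]
    push_cast
    rw [← C.hd]
    module
  have hiso : ∀ {p q' : Fin n → F₀}, rr P p + θ • rr P q' ∈ Full q M ∨
      C.B p p = d * C.B q' q' → C.B p p = d * C.B q' q' := by
    intro p q' h
    rcases h with h | h
    · have h1 := h.1
      rw [C.form_pair] at h1
      have := (C.pair_unique h1).1
      linear_combination this
    · exact h
  have hiso' : ∀ {p q' : Fin n → F₀}, C.B p p = d * C.B q' q' →
      Cfsg.hermForm n F q (rr P p + θ • rr P q') (rr P p + θ • rr P q') = 0 := by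
    intro p q' h
    rw [C.form_pair, C.B_symm q' p, h, sub_self, sub_self]
    simp
  have hcase2 : ∀ {p q' : Fin n → F₀}, C.B p p = 0 → C.B q' q' = 0 → rr P p + θ • rr P q' ∈ Full q M := by
    intro p q' hpp hqq
    by_cases hind : LinearIndependent F₀ ![p, q']
    swap
    · exact hd' hind (hiso' (by rw [hpp, hqq, mul_zero]))
    obtain ⟨a, haa, hpa, hqa⟩ := C.exists_singular_vals hind 1 0
    refine hstep haa (-C.B p q') ?_
    rw [hqa, hpa, mul_zero, zero_smul, add_zero, mul_one]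
    have e1 : C.B p (q' + (-C.B p q') • a) = 0 := by simp [hpa]
    have e2 : C.B (q' + (-C.B p q') • a) (q' + (-C.B p q') • a) = 0 := by
      simp [hqq, haa, hqa, C.B_symm a q']
    by_cases hind' : LinearIndependent F₀ ![p, q' + (-C.B p q') • a]
    · exact hplane hind' hpp e2 e1
    · exact hd' hind' (hiso' (by rw [hpp, e2, mul_zero]))
  rw [C.decomp v] at hv ⊢
  obtain ⟨p, hp⟩ : ∃ p, p = C.re v := ⟨_, rfl⟩
  obtain ⟨q', hq⟩ : ∃ q', q' = C.im v := ⟨_, rfl⟩
  rw [← hp, ← hq] at hv ⊢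
  have hrel : C.B p p = d * C.B q' q' := by
    rw [C.form_pair] at hv
    linear_combination (C.pair_unique hv).1
  by_cases hind : LinearIndependent F₀ ![p, q']
  swap
  · exact hd' hind hv
  obtain ⟨a, haa, hpa, hqa⟩ := C.exists_singular_vals hind 1 1
  obtain ⟨t, ht⟩ : ∃ t, t = -(C.B p p) / (2 * d) := ⟨_, rfl⟩
  refine hstep haa t (hcase2 ?_ ?_)
  · simp [haa, C.B_symm a p, hpa, hqa, ht]
    field_simp
    ring
  · have e : C.B q' q' = C.B p p / d := by rw [hrel]; field_simp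
    simp [haa, C.B_symm a q', hpa, hqa, ht, e]
    field_simp
    ring

theorem maximal (C : Ctx n q F₀ P θ d) :
    Cfsg.Geo.IsMaximalIn (Cfsg.GU n F q ⊓ Cfsg.Geo.specialLinear (Fin n) F)
      (Cfsg.Geo.subfieldSubgroup F₀ P ⊓ (Cfsg.GU n F q ⊓ Cfsg.Geo.specialLinear (Fin n) F)) := by
  have hF := C.hF
  have hcard := C.card_eq
  obtain ⟨a₀, -, ha₀0, ha₀a, -⟩ := exists_singular_pair C.B C.h2₀ C.B_symm C.B_nondeg ⊤
    (by rw [finrank_top, Module.finrank_fin_fun]; omega)
  refine ⟨lt_of_le_of_ne inf_le_right fun heq => ?_, fun M hHM hMS => ?_⟩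
  · have haa : Cfsg.hermForm n F q (rr P a₀) (rr P a₀) = 0 := by rw [C.form_rr, ha₀a]; rfl
    have h := (heq.ge (SUGen.T_le hF (tu_mem_T haa C.hθ))).1
    obtain ⟨c, hc, hcx⟩ := C.of_mem_H h
    obtain ⟨x, hx⟩ : ∃ x, C.B x a₀ = 1 := by
      obtain ⟨y, hy⟩ : ∃ y, C.B a₀ y ≠ 0 := by
        by_contra h9
        push Not at h9
        exact ha₀0 (C.B_nondeg a₀ h9)
      exact ⟨(C.B a₀ y)⁻¹ • y, by rw [C.B_symm, map_smul, smul_eq_mul, inv_mul_cancel₀ hy]⟩
    obtain ⟨y₀, hy₀⟩ := hcx a₀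
    obtain ⟨y₁, hy₁⟩ := hcx x
    rw [tu_mulVec haa, C.form_rr, ha₀a, ZeroMemClass.coe_zero, mul_zero, zero_smul, add_zero] at hy₀
    rw [tu_mulVec haa, C.form_rr, hx, OneMemClass.coe_one, mul_one, smul_add, smul_smul] at hy₁
    have h0 : C.im (c • rr P a₀) = 0 ∧ C.re (c • rr P a₀) = y₀ := by
      have h9 := C.unique (a := C.re (c • rr P a₀)) (b := C.im (c • rr P a₀)) (a' := y₀) (b' := 0) (by
        rw [← C.decomp, hy₀, rr_zero, smul_zero, add_zero])
      exact ⟨h9.2, h9.1⟩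
    obtain ⟨u, hu⟩ : ∃ u, u = C.re (c • rr P x) := ⟨_, rfl⟩
    obtain ⟨u', hu'⟩ : ∃ u', u' = C.im (c • rr P x) := ⟨_, rfl⟩
    have h1 := C.unique (a := u) (b := u' + y₀) (a' := y₁) (b' := 0) (by
      rw [rr_add, smul_add, ← add_assoc, hu, hu', ← C.decomp, ← hy₀, rr_zero, smul_zero, add_zero, ← hy₁,
        smul_smul, mul_comm θ c])
    have hy₀0 : y₀ ≠ 0 := fun h9 => by
      rw [h9, rr_zero, smul_eq_zero, or_iff_right hc] at hy₀
      exact C.rr_ne ha₀0 hy₀
    -- scalars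
    obtain ⟨i, hi⟩ := Function.ne_iff.1 ha₀0
    have hcoord : ∀ (z w : Fin n → F₀), c • rr P z = rr P w → ∀ j, c * (z j : F) = (w j : F) := by
      intro z w hzw j
      have := congrFun (congrArg (fun v => ((P⁻¹ : GL (Fin n) F) : Matrix (Fin n) (Fin n) F) *ᵥ v) hzw) j
      simpa [rr, ← Matrix.mulVec_smul, FormMaxSL.inv_mulVec_mulVec, incn] using this
    have hcF : c ∈ F₀ := by
      have h9 := hcoord a₀ y₀ hy₀ i
      have hne : ((a₀ i : F₀) : F) ≠ 0 := fun h => hi (Subtype.ext h)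
      rw [eq_div_iff hne |>.2 h9]
      exact F₀.div_mem (y₀ i).2 (a₀ i).2
    have hu'0 : u' = 0 := by
      have h9 := C.unique (a := u) (b := u') (a' := (⟨c, hcF⟩ : F₀) • x) (b' := 0) (by
        rw [hu, hu', ← C.decomp, rr_smul, rr_zero, smul_zero, add_zero])
      exact h9.2
    rw [hu'0, zero_add] at h1
    exact hy₀0 h1.2
  by_cases hMH : M ≤ Cfsg.Geo.subfieldSubgroup F₀ P ⊓ (Cfsg.GU n F q ⊓ Cfsg.Geo.specialLinear (Fin n) F)
  · exact Or.inl (le_antisymm hMH hHM)
  right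
  obtain ⟨g, hgM, hgH⟩ := SetLike.not_le_iff_exists.1 hMH
  obtain ⟨w, hw, hw0⟩ := C.exists_full hHM hMS hgM (fun h => hgH ⟨h, hMS hgM⟩)
  rw [C.decomp w] at hw hw0
  obtain ⟨p, hp⟩ : ∃ p, p = C.re w := ⟨_, rfl⟩
  obtain ⟨q', hq⟩ : ∃ q', q' = C.im w := ⟨_, rfl⟩
  rw [← hp, ← hq] at hw hw0
  -- one rational line
  obtain ⟨a, ha0, haa, haF⟩ : ∃ a, a ≠ 0 ∧ C.B a a = 0 ∧ rr P a ∈ Full q M := by
    obtain ⟨ψ, hψ, hψx⟩ := exists_outside (orth C.B {p, q'}) (Submodule.span F₀ {p, q'}) (by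
      have := finrank_two (K := F₀) p q'; have := dim_orth_two C.B p q'; omega)
    obtain ⟨a, ha, haa, hψa⟩ := exists_singular_avoid C.B C.h2₀ C.B_symm C.B_nondeg (orth C.B {p, q'}) (by
      have := dim_orth_two C.B p q'; omega) ψ hψx
    have ha0 : a ≠ 0 := fun h => hψa (by rw [h, map_zero])
    have hpa : C.B p a = 0 := by rw [C.B_symm]; exact ha p (by simp)
    have hqa : C.B q' a = 0 := by rw [C.B_symm]; exact ha q' (by simp)
    -- a functional
    have han : a ∉ Submodule.span F₀ ({p, q'} : Set (Fin n → F₀)) := fun h => hψa (hψ _ h)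
    obtain ⟨r, hr, hr0⟩ : ∃ r ∈ Submodule.span F₀ ({p, q'} : Set (Fin n → F₀)), r ∉ F₀ ∙ a := by
      by_contra h
      push Not at h
      have hp0 : p = 0 := by
        obtain ⟨c, hc⟩ := Submodule.mem_span_singleton.1 (h p (Submodule.subset_span (by simp)))
        by_cases hc0 : c = 0
        · rw [← hc, hc0, zero_smul]
        · exfalso; apply han
          rw [← Submodule.smul_mem_iff _ hc0, hc]; exact Submodule.subset_span (by simp)
      have hq0 : q' = 0 := by
        obtain ⟨c, hc⟩ := Submodule.mem_span_singleton.1 (h q' (Submodule.subset_span (by simp)))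
        by_cases hc0 : c = 0
        · rw [← hc, hc0, zero_smul]
        · exfalso; apply han
          rw [← Submodule.smul_mem_iff _ hc0, hc]; exact Submodule.subset_span (by simp)
      exact hw0 (by rw [hp0, hq0, rr_zero, smul_zero, add_zero])
    obtain ⟨φ, hφr, hφ0⟩ := Submodule.exists_dual_map_eq_bot_of_notMem hr0 inferInstance
    obtain ⟨b, hb⟩ := Quad.exists_rep C.B C.B_nd φ
    have hφa : φ a = 0 := by
      have : φ a ∈ (F₀ ∙ a).map φ := Submodule.mem_map_of_mem (Submodule.mem_span_singleton_self a)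
      rwa [hφ0, Submodule.mem_bot] at this
    refine ⟨a, ha0, haa, C.full_lines hHM hw haa hpa hqa (b := b) (by rw [C.B_symm, hb, hφa]) ?_⟩
    by_contra hl
    push Not at hl
    refine hφr ?_
    obtain ⟨s, t, rfl⟩ := Submodule.mem_span_pair.1 hr
    simp [← hb, hl.1, hl.2]
  -- all of them
  have hlink : ∀ {a a' : Fin n → F₀}, a ≠ 0 → C.B a a = 0 → rr P a ∈ Full q M → C.B a' a' = 0 →
      C.B a a' = 0 → rr P a' ∈ Full q M := by
    intro a a' ha0 haa haF ha' haa'
    by_cases hdep : a ∈ F₀ ∙ a'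
    · obtain ⟨c, hc⟩ := Submodule.mem_span_singleton.1 hdep
      have hc0 : c ≠ 0 := fun h => ha0 (by rw [← hc, h, zero_smul])
      have := SUFull.full_smul hF haF ((c⁻¹ : F₀) : F)
      rwa [← rr_smul, ← hc, smul_smul, inv_mul_cancel₀ hc0, one_smul] at this
    obtain ⟨φ, hφr, hφ0⟩ := Submodule.exists_dual_map_eq_bot_of_notMem hdep inferInstance
    obtain ⟨b, hb⟩ := Quad.exists_rep C.B C.B_nd φ
    have hφa : φ a' = 0 := by
      have : φ a' ∈ (F₀ ∙ a').map φ := Submodule.mem_map_of_mem (Submodule.mem_span_singleton_self a')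
      rwa [hφ0, Submodule.mem_bot] at this
    have hw' : rr P a + θ • rr P (0 : Fin n → F₀) ∈ Full q M := by rwa [rr_zero, smul_zero, add_zero]
    exact C.full_lines hHM hw' ha' haa' (by simp) (b := b) (by rw [C.B_symm, hb, hφa])
      (Or.inl (by rwa [hb]))
  have hlines : ∀ x, C.B x x = 0 → rr P x ∈ Full q M := by
    intro x hx
    obtain ⟨m, hm, hm0, hmm, -⟩ := exists_singular_pair C.B C.h2₀ C.B_symm C.B_nondeg (orth C.B {a, x}) (by
      have := dim_orth_two C.B a x; omega)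
    have hma : C.B m a = 0 := hm a (by simp)
    have hmx : C.B m x = 0 := hm x (by simp)
    exact hlink hm0 hmm (hlink ha0 haa haF hmm (by rw [C.B_symm]; exact hma)) hx hmx
  exact le_antisymm hMS (SUFull.le_of_full hF (by omega) (by omega) (C.full_all hMS hlines))

end Ctx

end CfsgLib.Lie.OrthSubfieldSU
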