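import Cfsg.Prelude.Def_ClassicalGeometry

/-!
The stabiliser of an orthogonal summand is the product of the two smaller isometry groups.
-/

set_option autoImplicit false

namespace CfsgLib.Lie.OrthSumStab

open Matrix

variable {F : Type*} [Field F]
variable {ι κ μ : Type} [Fintype ι] [DecidableEq ι] [Fintype κ] [DecidableEq κ] [Fintype μ]
  [DecidableEq μ]

theorem iso {H K L : Type*} [Group H] [Group K] [Group L]
    (tι : H →* Matrix ι ι F) (tκ : K →* Matrix κ κ F) (tμ : L →* Matrix μ μ F)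
    (fι : (ι → F) → (ι → F) → F) (fκ : (κ → F) → (κ → F) → F) (fμ : (μ → F) → (μ → F) → F)
    (hι : Function.Injective tι) (hκ : Function.Injective tκ) (hμ : Function.Injective tμ)
    (rι : ∀ M : Matrix ι ι F, (∃ h, tι h = M) ↔ ∀ u v, fι (M *ᵥ u) (M *ᵥ v) = fι u v)
    (rκ : ∀ M : Matrix κ κ F, (∃ h, tκ h = M) ↔ ∀ u v, fκ (M *ᵥ u) (M *ᵥ v) = fκ u v)
    (rμ : ∀ M : Matrix μ μ F, (∃ h, tμ h = M) ↔ ∀ u v, fμ (M *ᵥ u) (M *ᵥ v) = fμ u v)
    (Φ : ((κ → F) × (μ → F)) ≃ₗ[F] (ι → F)) (W : Set (ι → F))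
    (hW : ∀ v, v ∈ W ↔ (Φ.symm v).2 = 0)
    (hΦ : ∀ x y, fι (Φ x) (Φ y) = fκ x.1 y.1 + fμ x.2 y.2)
    (hκ0 : ∀ v, fκ 0 v = 0) (hκ1 : ∀ v, fκ v 0 = 0) (hμ0 : ∀ v, fμ 0 v = 0) (hμ1 : ∀ v, fμ v 0 = 0)
    (hnd : ∀ a, (∀ z, fκ z a = 0) → a = 0) :
    Nonempty (↥(Cfsg.stabilizing tι W) ≃* K × L) := by
  classical
  let T : K × L → Matrix ι ι F := fun p => LinearMap.toMatrix'
    (Φ.toLinearMap ∘ₗ ((Matrix.toLin' (tκ p.1)).prodMap (Matrix.toLin' (tμ p.2))) ∘ₗ Φ.symm.toLinearMap)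
  have hT : ∀ p v, T p *ᵥ v = Φ (tκ p.1 *ᵥ (Φ.symm v).1, tμ p.2 *ᵥ (Φ.symm v).2) := fun p v => by
    simp [T]
  have hpres : ∀ p, ∀ u v, fι (T p *ᵥ u) (T p *ᵥ v) = fι u v := fun p u v => by
    rw [hT, hT, hΦ, (rκ (tκ p.1)).1 ⟨_, rfl⟩, (rμ (tμ p.2)).1 ⟨_, rfl⟩, ← hΦ,
      LinearEquiv.apply_symm_apply, LinearEquiv.apply_symm_apply]
  choose g hg using fun p => (rι (T p)).2 (hpres p)
  have hmem : ∀ p, g p ∈ Cfsg.stabilizing tι W := fun p v => by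
    show v ∈ W ↔ tι (g p) *ᵥ v ∈ W
    rw [hW, hW, hg, hT, LinearEquiv.symm_apply_apply]
    refine ⟨fun h => by simp [h], fun h => ?_⟩
    have := congrArg (fun x => tμ p.2⁻¹ *ᵥ x) h
    simpa [mulVec_mulVec, ← map_mul] using this
  let f : K × L →* ↥(Cfsg.stabilizing tι W) := MonoidHom.mk' (fun p => ⟨g p, hmem p⟩) (fun p p' => by
    refine Subtype.ext (hι (Matrix.ext_iff_mulVec.mpr fun v => ?_))
    rw [Subgroup.coe_mul, map_mul, hg, hg, hg, ← mulVec_mulVec, hT, hT, hT,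
      LinearEquiv.symm_apply_apply]
    simp [mulVec_mulVec])
  refine ⟨(MulEquiv.ofBijective f ⟨?_, ?_⟩).symm⟩
  · intro p p' h
    have h1 : g p = g p' := congrArg Subtype.val h
    have h2 : ∀ v, T p *ᵥ v = T p' *ᵥ v := fun v => by rw [← hg, ← hg, h1]
    refine Prod.ext (hκ (Matrix.ext_iff_mulVec.mpr fun x => ?_))
      (hμ (Matrix.ext_iff_mulVec.mpr fun y => ?_))
    · have h3 := h2 (Φ (x, 0))
      rw [hT, hT, LinearEquiv.symm_apply_apply] at h3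
      exact congrArg Prod.fst (Φ.injective h3)
    · have h3 := h2 (Φ (0, y))
      rw [hT, hT, LinearEquiv.symm_apply_apply] at h3
      exact congrArg Prod.snd (Φ.injective h3)
  · rintro ⟨h, hh⟩
    let A : (κ → F) × (μ → F) →ₗ[F] (κ → F) × (μ → F) :=
      Φ.symm.toLinearMap ∘ₗ Matrix.toLin' (tι h) ∘ₗ Φ.toLinearMap
    have hA : ∀ x, Φ (A x) = tι h *ᵥ Φ x := fun x => by simp [A]
    have hAf : ∀ x y, fκ (A x).1 (A y).1 + fμ (A x).2 (A y).2 = fκ x.1 y.1 + fμ x.2 y.2 := fun x y => by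
      rw [← hΦ, hA, hA, (rι (tι h)).1 ⟨_, rfl⟩, hΦ]
    have hAW : ∀ x, x.2 = 0 ↔ (A x).2 = 0 := fun x => by
      have := hh (Φ x)
      rw [hW, hW, LinearEquiv.symm_apply_apply, ← hA, LinearEquiv.symm_apply_apply] at this
      exact this
    have hAsurj : Function.Surjective A := fun z => by
      refine ⟨Φ.symm (tι h⁻¹ *ᵥ Φ z), Φ.injective ?_⟩
      rw [hA, LinearEquiv.apply_symm_apply, mulVec_mulVec, ← map_mul, mul_inv_cancel, map_one,
        one_mulVec]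
    have hcross : ∀ y, (A (0, y)).1 = 0 := fun y => hnd _ fun z => by
      obtain ⟨x, hx⟩ := hAsurj (z, 0)
      have hx2 : x.2 = 0 := (hAW x).2 (by rw [hx])
      have h3 := hAf x (0, y)
      rw [hx, hx2] at h3
      simpa [hμ0, hκ1] using h3
    obtain ⟨k, hk⟩ := (rκ (LinearMap.toMatrix'
        (LinearMap.fst F _ _ ∘ₗ A ∘ₗ LinearMap.inl F _ _))).2 fun u v => by
      simp only [LinearMap.toMatrix'_mulVec, LinearMap.comp_apply, LinearMap.fst_apply,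
        LinearMap.inl_apply]
      have h3 := hAf (u, 0) (v, 0)
      rw [(hAW (u, 0)).1 rfl, (hAW (v, 0)).1 rfl] at h3
      simpa [hμ0] using h3
    obtain ⟨l, hl⟩ := (rμ (LinearMap.toMatrix'
        (LinearMap.snd F _ _ ∘ₗ A ∘ₗ LinearMap.inr F _ _))).2 fun u v => by
      simp only [LinearMap.toMatrix'_mulVec, LinearMap.comp_apply, LinearMap.snd_apply,
        LinearMap.inr_apply]
      have h3 := hAf (0, u) (0, v)
      rw [hcross, hcross] at h3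
      simpa [hκ0] using h3
    refine ⟨(k, l), Subtype.ext (hι (Matrix.ext_iff_mulVec.mpr fun v => ?_))⟩
    show tι (g (k, l)) *ᵥ v = tι h *ᵥ v
    rw [hg, hT]
    obtain ⟨⟨x, y⟩, rfl⟩ := Φ.surjective v
    rw [← hA, LinearEquiv.symm_apply_apply, hk, hl]
    congr 1
    have e : A (x, y) = A (x, 0) + A (0, y) := by rw [← map_add]; simp
    rw [e]
    refine Prod.ext ?_ ?_
    · rw [Prod.fst_add, hcross, add_zero]; simp
    · rw [Prod.snd_add, (hAW (x, 0)).1 rfl, zero_add]; simp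

end CfsgLib.Lie.OrthSumStab
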