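import Cfsg.Agent.Lie.OrthPair

/-!
A quadratic extension acting by similitudes: the normaliser is maximal in the derived orthogonal group.
-/

set_option autoImplicit false
set_option linter.unusedSimpArgs false
set_option linter.unusedSectionVars false

namespace CfsgLib.Lie.OrthUnit

open Matrix QuadraticMap
open CfsgLib.Lie.Refl (act act_mul act_one act_inv act_inj act_Q act_polar act_ext)
open CfsgLib.Lie.OrthChar (R R_act map_add' map_smul' polar_self')
open CfsgLib.Lie.OrthRoot CfsgLib.Lie.OrthSimple CfsgLib.Lie.OrthFull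
open CfsgLib.Lie.OrthPair (anti finrank_pair)

variable {F : Type*} [Field F] [Fintype F] {ι : Type} [Fintype ι] [DecidableEq ι]
  {Q : QuadraticForm F (ι → F)}

/-! ### Singular vectors orthogonal to a small subspace -/

variable (hQ : (QuadraticMap.polarBilin Q).Nondegenerate)

include hQ in
/-- a hyperbolic pair orthogonal to a small subspace -/
theorem hyp (h14 : 14 ≤ Fintype.card ι) (S : Submodule F (ι → F)) (hS : Module.finrank F S ≤ 5) :
    ∃ e ∈ perpW Q S, ∃ f ∈ perpW Q S, Q e = 0 ∧ Q f = 0 ∧ polar ⇑Q e f = 1 := by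
  obtain ⟨X, hX⟩ : ∃ X, X = perpW Q S := ⟨_, rfl⟩
  rw [← hX]
  have hdX : Module.finrank F X + Module.finrank F S = Fintype.card ι := hX ▸ finrank_perpW hQ S
  have hdR : Module.finrank F (X ⊓ perpW Q X : Submodule F (ι → F)) + Module.finrank F X ≤ Fintype.card ι := by
    have h1 := finrank_perpW hQ X
    have h2 := Submodule.finrank_mono (inf_le_right : X ⊓ perpW Q X ≤ perpW Q X)
    omega
  obtain ⟨C, hC⟩ := Submodule.exists_isCompl (X ⊓ perpW Q X)
  have hsup : X ⊔ C = ⊤ := by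
    refine eq_top_iff.2 ?_
    rw [← hC.sup_eq_top]
    exact sup_le_sup_right inf_le_left C
  have h1 := Submodule.finrank_sup_add_finrank_inf_eq X C
  have h2 := Submodule.finrank_add_eq_of_isCompl hC
  rw [hsup, finrank_top] at h1
  rw [Module.finrank_fintype_fun_eq_card] at h1 h2
  obtain ⟨e, ⟨heX, heC⟩, he0, he⟩ := exists_singular (Q := Q) (X ⊓ C) (by omega)
  obtain ⟨z, hz, hez⟩ : ∃ z ∈ X, polar ⇑Q e z ≠ 0 := by
    by_contra hc
    push Not at hc
    exact he0 (Submodule.disjoint_def.1 hC.disjoint e ⟨heX, fun w hw => by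
      rw [QuadraticMap.polar_comm]; exact hc w hw⟩ heC)
  obtain ⟨z', hz'⟩ : ∃ z', z' = (polar ⇑Q e z)⁻¹ • z := ⟨_, rfl⟩
  have hz'X : z' ∈ X := hz' ▸ X.smul_mem _ hz
  have hez' : polar ⇑Q e z' = 1 := by
    rw [hz', QuadraticMap.polar_smul_right, smul_eq_mul, inv_mul_cancel₀ hez]
  obtain ⟨f, hf⟩ : ∃ f, f = z' - Q z' • e := ⟨_, rfl⟩
  have hfX : f ∈ X := hf ▸ sub_mem hz'X (X.smul_mem _ heX)
  have hfQ : Q f = 0 := by rw [hf, Quad.map_sub_smul, hez', he]; ring
  have hef : polar ⇑Q e f = 1 := by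
    rw [hf, sub_eq_add_neg, QuadraticMap.polar_add_right, QuadraticMap.polar_neg_right,
      QuadraticMap.polar_smul_right, QuadraticMap.polar_self, he, hez']
    simp
  exact ⟨e, heX, f, hfX, he, hfQ, hef⟩

include hQ in
theorem sep (h14 : 14 ≤ Fintype.card ι) (S : Submodule F (ι → F)) (hS : Module.finrank F S ≤ 5) {v : ι → F}
    (hv : v ∉ S) : ∃ q ∈ perpW Q S, Q q = 0 ∧ polar ⇑Q v q ≠ 0 := by
  obtain ⟨e, heX, f, hfX, he, hfQ, hef⟩ := hyp hQ h14 S hS
  obtain ⟨X, hX⟩ : ∃ X, X = perpW Q S := ⟨_, rfl⟩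
  rw [← hX] at heX hfX ⊢
  obtain ⟨z0, hz0, hvz0⟩ := exists_rep_in hQ S hv
  obtain ⟨q, hq, hqQ, hq0⟩ := singular_sep X heX hfX he hfQ hef (QuadraticMap.polarBilin Q v)
    ⟨z0, hX ▸ hz0, by rw [QuadraticMap.polarBilin_apply_apply, hvz0]; exact one_ne_zero⟩
  exact ⟨q, hq, hqQ, by rwa [QuadraticMap.polarBilin_apply_apply] at hq0⟩

/-- the orthogonality of a member of a subspace -/
theorem perp_apply {S : Submodule F (ι → F)} {q s : ι → F} (hq : q ∈ perpW Q S) (hs : s ∈ S) :
    polar ⇑Q s q = 0 := hq s hs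

theorem finrank_sup_le (A B : Submodule F (ι → F)) :
    Module.finrank F (A ⊔ B : Submodule F (ι → F)) ≤ Module.finrank F A + Module.finrank F B := by
  have := Submodule.finrank_sup_add_finrank_inf_eq A B
  omega

theorem finrank_single (a : ι → F) : Module.finrank F (Submodule.span F ({a} : Set (ι → F))) ≤ 1 := by
  simpa using finrank_span_le_card (R := F) ({a} : Set (ι → F))

theorem exists_notMem_of_lt {X S : Submodule F (ι → F)} (h : Module.finrank F S < Module.finrank F X) :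
    ∃ z ∈ X, z ∉ S := by
  by_contra hc
  push Not at hc
  exact absurd (Submodule.finrank_mono (show X ≤ S from hc)) (by omega)

/-! ### The quadratic extension -/

/-- a similitude `J` generating a quadratic extension -/
structure Ctx (Q : QuadraticForm F (ι → F)) (J : (ι → F) →ₗ[F] (ι → F)) (τ δ : F) : Prop where
  sq : ∀ x, J (J x) = τ • J x - δ • x
  adj : ∀ x y, polar ⇑Q (J x) y = τ * polar ⇑Q x y - polar ⇑Q x (J y)
  qJ : ∀ x, Q (J x) = δ * Q x
  self : ∀ x, polar ⇑Q x (J x) = τ * Q x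
  noeig : ∀ (x : ι → F) (c : F), J x = c • x → x = 0
  h14 : 14 ≤ Fintype.card ι

/-- the line over the extension -/
def KL (J : (ι → F) →ₗ[F] (ι → F)) (v : ι → F) : Submodule F (ι → F) := Submodule.span F {v, J v}

variable {J : (ι → F) →ₗ[F] (ι → F)} {τ δ : F}

theorem mem_KL {v x : ι → F} : x ∈ KL J v ↔ ∃ a b : F, a • v + b • J v = x :=
  Submodule.mem_span_pair

theorem self_mem (v : ι → F) : v ∈ KL J v := Submodule.subset_span (by simp)

theorem J_mem (v : ι → F) : J v ∈ KL J v := Submodule.subset_span (by simp)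

theorem finrank_KL (v : ι → F) : Module.finrank F (KL J v) ≤ 2 := finrank_pair _ _

theorem le_perp_KL {v q : ι → F} (h1 : polar ⇑Q v q = 0) (h2 : polar ⇑Q (J v) q = 0) : q ∈ perpW Q (KL J v) := by
  intro w hw
  obtain ⟨a, b, rfl⟩ := mem_KL.1 hw
  rw [QuadraticMap.polar_add_left, QuadraticMap.polar_smul_left, QuadraticMap.polar_smul_left, h1, h2]
  simp

namespace Ctx

variable (C : Ctx Q J τ δ)
include C

theorem adj' (x y : ι → F) : polar ⇑Q x (J y) = τ * polar ⇑Q x y - polar ⇑Q (J x) y := by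
  rw [C.adj]; ring

theorem polar_JJ (x y : ι → F) : polar ⇑Q (J x) (J y) = δ * polar ⇑Q x y := by
  rw [C.adj, C.sq, QuadraticMap.polar_sub_right,
    QuadraticMap.polar_smul_right, QuadraticMap.polar_smul_right, smul_eq_mul, smul_eq_mul]
  ring

theorem J_stab {v x : ι → F} (hx : x ∈ KL J v) : J x ∈ KL J v := by
  obtain ⟨a, b, rfl⟩ := mem_KL.1 hx
  refine mem_KL.2 ⟨-(b * δ), a + b * τ, ?_⟩
  rw [map_add, map_smul, map_smul, C.sq]
  match_scalars <;> ring

theorem line {v x : ι → F} (hx : x ∈ KL J v) (hx0 : x ≠ 0) : v ∈ KL J x := by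
  obtain ⟨a, b, hab⟩ := mem_KL.1 hx
  have e : (a + b * τ) • x + (-b) • J x = (a * a + a * b * τ + b * b * δ) • v := by
    rw [← hab, map_add, map_smul, map_smul, C.sq]
    match_scalars <;> ring
  by_cases hN : a * a + a * b * τ + b * b * δ = 0
  · exfalso
    rw [hN, zero_smul] at e
    by_cases hb : b = 0
    · subst hb
      rw [zero_mul, add_zero, neg_zero, zero_smul, add_zero, smul_eq_zero] at e
      rcases e with e | e
      · exact hx0 (by rw [← hab, e, zero_smul, zero_smul, add_zero])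
      · exact hx0 e
    · refine hx0 (C.noeig x ((a + b * τ) * b⁻¹) ?_)
      have h1 : b • J x = (a + b * τ) • x := by
        rw [neg_smul, ← sub_eq_add_neg, sub_eq_zero] at e
        exact e.symm
      rw [mul_comm, ← smul_smul, ← h1, smul_smul, inv_mul_cancel₀ hb, one_smul]
  · have h2 : (a * a + a * b * τ + b * b * δ) • v ∈ KL J x := e ▸ add_mem
      ((KL J x).smul_mem _ (self_mem x)) ((KL J x).smul_mem _ (J_mem x))
    simpa [smul_smul, inv_mul_cancel₀ hN] using (KL J x).smul_mem (a * a + a * b * τ + b * b * δ)⁻¹ h2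

theorem KL_le {v x : ι → F} (hx : x ∈ KL J v) : KL J x ≤ KL J v := by
  refine Submodule.span_le.2 ?_
  rintro _ (rfl | rfl)
  exacts [hx, C.J_stab hx]

theorem perp_J {v q : ι → F} (h : q ∈ perpW Q (KL J v)) : J q ∈ perpW Q (KL J v) := by
  refine le_perp_KL ?_ ?_
  · rw [C.adj', perp_apply h (self_mem v), perp_apply h (J_mem v)]; ring
  · rw [C.polar_JJ, perp_apply h (self_mem v), mul_zero]

theorem perp_symm {v q : ι → F} (h : q ∈ perpW Q (KL J v)) : v ∈ perpW Q (KL J q) := by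
  refine le_perp_KL ?_ ?_
  · rw [QuadraticMap.polar_comm]; exact perp_apply h (self_mem v)
  · rw [QuadraticMap.polar_comm, C.adj', perp_apply h (self_mem v), perp_apply h (J_mem v)]; ring

theorem singular_KL {v x : ι → F} (hv : Q v = 0) (hx : x ∈ KL J v) : Q x = 0 := by
  obtain ⟨a, b, rfl⟩ := mem_KL.1 hx
  rw [map_add', OrthChar.map_smul', OrthChar.map_smul', C.qJ, hv, QuadraticMap.polar_smul_left, QuadraticMap.polar_smul_right,
    C.self, hv]
  simp

theorem KL_perp {v : ι → F} (hv : Q v = 0) : KL J v ≤ perpW Q (KL J v) := fun x hx w hw => by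
  rw [QuadraticMap.polar, C.singular_KL hv (add_mem hw hx), C.singular_KL hv hw, C.singular_KL hv hx]
  simp

theorem polar_self_root {u : ι → F} (hu : Q u = 0) (c : F) : polar ⇑Q u (c • J u) = 0 := by
  rw [QuadraticMap.polar_smul_right, C.self, hu, mul_zero, smul_zero]

theorem root_act {u : ι → F} (hu : Q u = 0) (c : F) (x : ι → F) :
    act Q (E Q u (c • J u)) x = x + c • (polar ⇑Q u x • J u - polar ⇑Q (J u) x • u) := by
  rw [E_act hu (C.polar_self_root hu c), OrthChar.map_smul', C.qJ, hu, QuadraticMap.polar_smul_left, smul_eq_mul]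
  match_scalars <;> ring

theorem root_comm {u : ι → F} (hu : Q u = 0) (c : F) (x : ι → F) :
    act Q (E Q u (c • J u)) (J x) = J (act Q (E Q u (c • J u)) x) := by
  rw [C.root_act hu, C.root_act hu, C.adj', C.polar_JJ]
  simp only [map_add, map_smul, map_sub, C.sq]
  match_scalars <;> ring

include hQ in
/-- a singular vector orthogonal to a line and outside another subspace -/
theorem exists_out (S : Submodule F (ι → F)) (hS : Module.finrank F S ≤ 5) (T : Submodule F (ι → F))
    (hT : Module.finrank F T ≤ 4) : ∃ q ∈ perpW Q S, Q q = 0 ∧ q ∉ T := by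
  have h1 := finrank_perpW hQ T
  obtain ⟨z, hz, hzS⟩ := exists_notMem_of_lt (X := perpW Q T) (S := S) (by have := C.h14; omega)
  obtain ⟨q, hq, hqQ, hzq⟩ := sep hQ C.h14 S hS hzS
  exact ⟨q, hq, hqQ, fun h => hzq (by rw [QuadraticMap.polar_comm]; exact perp_apply hz h)⟩

end Ctx

/-- moving a vector along a line -/
def mv (Q : QuadraticForm F (ι → F)) (J : (ι → F) →ₗ[F] (ι → F)) (u a : ι → F) : ι → F :=
  polar ⇑Q u a • J u - polar ⇑Q (J u) a • u

theorem mv_mem (u a : ι → F) : mv Q J u a ∈ KL J u :=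
  sub_mem ((KL J u).smul_mem _ (J_mem u)) ((KL J u).smul_mem _ (self_mem u))

theorem mv_ne (C : Ctx Q J τ δ) {u a : ι → F} (hu0 : u ≠ 0) (h : polar ⇑Q u a ≠ 0) : mv Q J u a ≠ 0 := fun h0 =>
  hu0 (C.noeig u ((polar ⇑Q u a)⁻¹ * polar ⇑Q (J u) a) (by
    rw [mv, sub_eq_zero] at h0
    rw [← smul_smul, ← h0, smul_smul, inv_mul_cancel₀ h, one_smul]))

variable (C : Ctx Q J τ δ) (M : Subgroup (Cfsg.isometryGroup F ⇑Q))

/-- the roots of the extension lie in `M` -/
def HasRoots (Q : QuadraticForm F (ι → F)) (J : (ι → F) →ₗ[F] (ι → F))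
    (M : Subgroup (Cfsg.isometryGroup F ⇑Q)) : Prop :=
  ∀ u, Q u = 0 → ∀ c : F, E Q u (c • J u) ∈ M

/-- all roots at `w` orthogonal to its line -/
def All (J : (ι → F) →ₗ[F] (ι → F)) (w : ι → F) : Prop := ∀ b ∈ perpW Q (KL J w), E Q w b ∈ M

include hQ in
theorem ext_singular (h14 : 14 ≤ Fintype.card ι) (D : (ι → F) →ₗ[F] (ι → F)) (hD : ∀ q, Q q = 0 → D q = 0) :
    D = 0 := by
  refine LinearMap.ext fun x => ?_
  by_contra hx
  have hx' : x ∉ LinearMap.ker D := hx
  obtain ⟨φ, hφx, hφ⟩ := Submodule.exists_dual_map_eq_bot_of_notMem hx' inferInstance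
  obtain ⟨v, hv⟩ := Quad.exists_rep _ hQ φ
  have hv0 : v ∉ (⊥ : Submodule F (ι → F)) := by
    intro h
    rw [Submodule.mem_bot] at h
    exact hφx (by rw [← hv x, h]; simp)
  obtain ⟨q, -, hqQ, hvq⟩ := sep hQ h14 ⊥ (by simp) hv0
  refine hvq ?_
  have h1 : φ q ∈ (LinearMap.ker D).map φ := Submodule.mem_map_of_mem (hD q hqQ)
  rw [hφ, Submodule.mem_bot, ← hv q, QuadraticMap.polarBilin_apply_apply, QuadraticMap.polar_comm] at h1
  exact h1

include hQ C in
/-- a linear map respecting all singular lines lies in the extension -/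
theorem line_map (φ : (ι → F) →ₗ[F] (ι → F)) (hline : ∀ v, Q v = 0 → φ v ∈ KL J v) :
    ∃ a b : F, ∀ x, φ x = a • x + b • J x := by
  have hpair : ∀ (v v' : ι → F) (a b : F), Q v = 0 → v ≠ 0 → Q v' = 0 → v' ≠ 0 → v' ∈ perpW Q (KL J v) → v' ∉ KL J v →
      φ v = a • v + b • J v → φ v' = a • v' + b • J v' := by
    intro v v' a b hv hv0 hv' hv'0 hperp hout hφv
    obtain ⟨a', b', hab'⟩ := mem_KL.1 (hline v' hv')
    have hsum : Q (v + v') = 0 := by rw [map_add', hv, hv', perp_apply hperp (self_mem v)]; ring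
    obtain ⟨s, t, hst⟩ := mem_KL.1 (hline (v + v') hsum)
    rw [map_add φ, hφv, ← hab', map_add J] at hst
    obtain ⟨x, hx⟩ : ∃ x, x = (s - a) • v + (t - b) • J v := ⟨_, rfl⟩
    have hx' : x = (a' - s) • v' + (b' - t) • J v' := by
      rw [hx, sub_smul, sub_smul, sub_smul, sub_smul, ← sub_eq_zero]
      rw [← sub_eq_zero] at hst
      rw [← hst]
      simp only [smul_add]
      abel
    have hx1 : x ∈ KL J v := hx ▸ mem_KL.2 ⟨_, _, rfl⟩
    have hx2 : x ∈ KL J v' := hx' ▸ mem_KL.2 ⟨_, _, rfl⟩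
    have hx0 : x = 0 := by
      by_contra h0
      exact hout (C.KL_le hx1 (C.line hx2 h0))
    have key : ∀ {w : ι → F}, w ≠ 0 → ∀ {p q : F}, p • w + q • J w = 0 → p = 0 ∧ q = 0 := by
      intro w hw p q hpq
      by_cases hq : q = 0
      · rw [hq, zero_smul, add_zero, smul_eq_zero] at hpq
        exact ⟨hpq.resolve_right hw, hq⟩
      · refine absurd (C.noeig w (-(q⁻¹ * p)) ?_) hw
        have : q • J w = -(p • w) := eq_neg_of_add_eq_zero_right hpq
        rw [neg_smul, ← smul_smul, ← smul_neg, ← this, smul_smul, inv_mul_cancel₀ hq, one_smul]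
    obtain ⟨h1, h2⟩ := key hv0 (hx.symm.trans hx0)
    obtain ⟨h3, h4⟩ := key hv'0 (hx'.symm.trans hx0)
    rw [← hab', sub_eq_zero.1 h3, sub_eq_zero.1 h1, sub_eq_zero.1 h4, sub_eq_zero.1 h2]
  obtain ⟨v, -, hv, hv0⟩ := C.exists_out hQ ⊥ (by simp) ⊥ (by simp)
  rw [Submodule.mem_bot] at hv0
  obtain ⟨a, b, hab⟩ := mem_KL.1 (hline v hv)
  refine ⟨a, b, fun x => ?_⟩
  suffices hD : φ - (a • LinearMap.id + b • J) = 0 by
    have := LinearMap.congr_fun (sub_eq_zero.1 hD) x
    simpa using this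
  refine ext_singular hQ C.h14 _ fun u hu => ?_
  rw [LinearMap.sub_apply, sub_eq_zero]
  simp only [LinearMap.add_apply, LinearMap.smul_apply, LinearMap.id_apply]
  rcases eq_or_ne u 0 with rfl | hu0
  · simp
  by_cases hu1 : u ∈ perpW Q (KL J v) ∧ u ∉ KL J v
  · exact hpair v u a b hv hv0 hu hu0 hu1.1 hu1.2 hab.symm
  by_cases hu2 : u ∈ KL J v
  · obtain ⟨w, hw, hwQ, hwv⟩ := C.exists_out hQ (KL J v) (le_trans (finrank_KL v) (by norm_num)) (KL J v)
      (le_trans (finrank_KL v) (by norm_num))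
    have hw0 : w ≠ 0 := fun h => hwv (h ▸ zero_mem _)
    have hwa := hpair v w a b hv hv0 hwQ hw0 hw hwv hab.symm
    refine hpair w u a b hwQ hw0 hu hu0 (C.perp_symm fun z hz => perp_apply hw (C.KL_le hu2 hz))
      (fun h => hwv (C.KL_le hu2 (C.line h hu0))) hwa
  · have hnp : u ∉ perpW Q (KL J v) := fun h => hu1 ⟨h, hu2⟩
    have hS : Module.finrank F (KL J v ⊔ KL J u : Submodule F (ι → F)) ≤ 4 :=
      le_trans (finrank_sup_le _ _) (add_le_add (finrank_KL v) (finrank_KL u))
    obtain ⟨w, hw, hwQ, hwv⟩ := C.exists_out hQ (KL J v ⊔ KL J u) (le_trans hS (by norm_num)) (KL J v)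
      (le_trans (finrank_KL v) (by norm_num))
    have hw0 : w ≠ 0 := fun h => hwv (h ▸ zero_mem _)
    have hwv' : w ∈ perpW Q (KL J v) := fun z hz => perp_apply hw (Submodule.mem_sup_left hz)
    have hwu : w ∈ perpW Q (KL J u) := fun z hz => perp_apply hw (Submodule.mem_sup_right hz)
    have hwa := hpair v w a b hv hv0 hwQ hw0 hwv' hwv hab.symm
    refine hpair w u a b hwQ hw0 hu hu0 (C.perp_symm hwu) (fun h => ?_) hwa
    have hwKu : w ∈ KL J u := C.line h hu0
    exact hnp (C.perp_symm fun z hz => perp_apply (C.perp_symm hwv') (C.KL_le (C.line hwKu hw0) hz))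

include hQ C in
/-- an element respecting all singular lines normalises the extension -/
theorem conj_J_mem (g : Cfsg.isometryGroup F ⇑Q) (h : ∀ w, Q w = 0 → act Q g (J w) ∈ KL J (act Q g w)) :
    ∃ a b : F, ∀ x, act Q g (J (act Q g⁻¹ x)) = a • x + b • J x := by
  obtain ⟨φ, hφ⟩ : ∃ φ : (ι → F) →ₗ[F] (ι → F), ∀ x, φ x = act Q g (J (act Q g⁻¹ x)) :=
    ⟨Matrix.toLin' ((g : GL ι F) : Matrix ι ι F) ∘ₗ J ∘ₗ
      Matrix.toLin' (((g⁻¹ : Cfsg.isometryGroup F ⇑Q) : GL ι F) : Matrix ι ι F), fun x => by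
      simp only [LinearMap.comp_apply, Matrix.toLin'_apply]; rfl⟩
  obtain ⟨a, b, hab⟩ := line_map hQ C φ (by
    intro v hv
    have := h (act Q g⁻¹ v) (by rw [act_Q, hv])
    rwa [act_inv', ← hφ] at this)
  exact ⟨a, b, fun x => (hφ x).symm.trans (hab x)⟩

include hQ C in
/-- a root element off the extension lines gives one at a singular point -/
theorem root_gen (hR : HasRoots Q J M) {x y : ι → F} (hx0 : x ≠ 0) (hx : Q x = 0)
    (hxy : polar ⇑Q x y = 0) (hy : y ∉ KL J x) (hE : E Q x y ∈ M) :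
    ∃ w a, w ≠ 0 ∧ Q w = 0 ∧ a ∈ perpW Q (KL J w) ∧ a ∉ KL J w ∧ E Q w a ∈ M := by
  have hdx := finrank_KL (J := J) x
  have hdy := finrank_KL (J := J) y
  obtain ⟨u, hu, huQ, hyu, hux⟩ : ∃ u ∈ perpW Q (KL J x), Q u = 0 ∧ polar ⇑Q y u ≠ 0 ∧ u ∉ KL J x := by
    obtain ⟨q, hq, hqQ, hyq⟩ := sep hQ C.h14 (KL J x) (by omega) hy
    by_cases hqx : q ∈ KL J x
    · have hS := finrank_sup_le (KL J x) (KL J y)
      obtain ⟨e, he, heQ, hex⟩ := C.exists_out hQ (KL J x ⊔ KL J y) (by omega) (KL J x) (by omega)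
      refine ⟨q + e, fun z hz => ?_, ?_, ?_, fun h => hex ?_⟩
      · rw [QuadraticMap.polar_add_right, perp_apply hq hz, perp_apply he (Submodule.mem_sup_left hz), add_zero]
      · rw [map_add', hqQ, heQ, perp_apply he (Submodule.mem_sup_left hqx)]; ring
      · rwa [QuadraticMap.polar_add_right, perp_apply he (Submodule.mem_sup_right (self_mem y)), add_zero]
      · simpa using sub_mem h hqx
    · exact ⟨q, hq, hqQ, hyq, hqx⟩
  have hu0 : u ≠ 0 := fun h => hux (h ▸ zero_mem _)
  obtain ⟨w, hw⟩ : ∃ w, w = mv Q J u y := ⟨_, rfl⟩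
  have hwK : w ∈ KL J u := hw ▸ mv_mem u y
  have hw0 : w ≠ 0 := hw ▸ mv_ne C hu0 (by rwa [QuadraticMap.polar_comm])
  have hwQ := C.singular_KL huQ hwK
  have hxu := C.perp_symm hu
  have hxw : x ∈ perpW Q (KL J w) := fun z hz => perp_apply hxu (C.KL_le hwK hz)
  have hxout : x ∉ KL J w := fun h => hux (C.line (C.KL_le hwK h) hx0)
  have hperp : polar ⇑Q x w = 0 := by
    rw [QuadraticMap.polar_comm]; exact perp_apply hxw (self_mem w)
  have hh := hR u huQ 1
  have hfix : act Q (E Q u ((1 : F) • J u)) x = x := by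
    rw [C.root_act huQ, perp_apply hxu (self_mem u), perp_apply hxu (J_mem u)]; simp
  have hmov : act Q (E Q u ((1 : F) • J u)) y = y + w := by
    rw [C.root_act huQ, hw, mv, one_smul]
  have hE' : E Q x (y + w) ∈ M := by
    rw [← hmov]
    conv => arg 2; arg 2; rw [← hfix]
    rw [← E_conj _ hx hxy]
    exact mul_mem (mul_mem hh hE) (inv_mem hh)
  rw [E_add hx hxy hperp] at hE'
  have h2 := (mul_mem_cancel_left hE).1 hE'
  rw [anti hx hwQ hperp] at h2
  exact ⟨w, -x, hw0, hwQ, neg_mem hxw, fun h => hxout (by simpa using neg_mem h), h2⟩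

include hQ C in
theorem all_of_one (hR : HasRoots Q J M) {w a : ι → F} (hw0 : w ≠ 0) (hw : Q w = 0)
    (ha : a ∈ perpW Q (KL J w)) (haw : a ∉ KL J w) (hE : E Q w a ∈ M) : All M J w := by
  obtain ⟨L, hL⟩ : ∃ L : Submodule F (ι → F), ∀ v, v ∈ L ↔ v ∈ perpW Q (KL J w) ∧ ∀ c : F, E Q w (c • v) ∈ M := by
    refine ⟨{ carrier := {v | v ∈ perpW Q (KL J w) ∧ ∀ c : F, E Q w (c • v) ∈ M}
              zero_mem' := ⟨zero_mem _, fun c => by rw [smul_zero, E_zero hw]; exact one_mem _⟩
              add_mem' := fun {p q} hp hq => ⟨add_mem hp.1 hq.1, fun c => by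
                rw [smul_add, E_add hw (perp_apply ((perpW Q _).smul_mem c hp.1) (self_mem w))
                  (perp_apply ((perpW Q _).smul_mem c hq.1) (self_mem w))]
                exact mul_mem (hp.2 c) (hq.2 c)⟩
              smul_mem' := fun d p hp => ⟨(perpW Q _).smul_mem d hp.1, fun c => by
                rw [smul_smul]; exact hp.2 _⟩ }, fun v => Iff.rfl⟩
  -- moving by the roots fixing `w`
  have hmove : ∀ p ∈ perpW Q (KL J w), E Q w p ∈ M → ∀ u, Q u = 0 → u ∈ perpW Q (KL J w) → mv Q J u p ∈ L := by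
    intro p hp hpE u huQ hu
    have hm : mv Q J u p ∈ perpW Q (KL J w) :=
      sub_mem ((perpW Q _).smul_mem _ (C.perp_J hu)) ((perpW Q _).smul_mem _ hu)
    refine (hL _).2 ⟨hm, fun c => ?_⟩
    have hwu := C.perp_symm hu
    have hfix : act Q (E Q u (c • J u)) w = w := by
      rw [C.root_act huQ, perp_apply hwu (self_mem u), perp_apply hwu (J_mem u)]; simp
    have hmov : act Q (E Q u (c • J u)) p = p + c • mv Q J u p := by rw [C.root_act huQ, mv]
    have hwp := perp_apply hp (self_mem w)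
    have hE' : E Q w (p + c • mv Q J u p) ∈ M := by
      rw [← hmov]
      conv => arg 2; arg 2; rw [← hfix]
      rw [← E_conj _ hw hwp]
      exact mul_mem (mul_mem (hR u huQ c) hpE) (inv_mem (hR u huQ c))
    rw [E_add hw hwp (perp_apply ((perpW Q _).smul_mem c hm) (self_mem w))] at hE'
    exact (mul_mem_cancel_left hpE).1 hE'
  have hwL : KL J w ≤ L := by
    refine Submodule.span_le.2 ?_
    rintro _ (rfl | rfl)
    · exact (hL _).2 ⟨C.KL_perp hw (self_mem _), fun c => by rw [E_self hw]; exact one_mem _⟩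
    · exact (hL _).2 ⟨C.KL_perp hw (J_mem _), fun c => hR w hw c⟩
  have hdw := finrank_KL (J := J) w
  -- one singular vector gives a hyperplane
  have hyper : ∀ v ∈ L, Q v = 0 → v ∉ KL J w → perpW Q (KL J w ⊔ F ∙ v) ≤ L := by
    intro v hvL hv hvw
    have hvp := ((hL v).1 hvL).1
    have hvE : E Q w v ∈ M := by simpa using ((hL v).1 hvL).2 1
    have hS : Module.finrank F (KL J w ⊔ F ∙ v : Submodule F (ι → F)) ≤ 3 := by
      have := finrank_sup_le (KL J w) (F ∙ v)
      have := finrank_single v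
      omega
    -- the first kind
    have h1 : ∀ q ∈ perpW Q (KL J w ⊔ F ∙ v), Q q = 0 → polar ⇑Q (J q) v ≠ 0 → q ∈ L := by
      intro q hq hqQ hne
      have hqw : q ∈ perpW Q (KL J w) := fun z hz => perp_apply hq (Submodule.mem_sup_left hz)
      have hm := hmove v hvp hvE q hqQ hqw
      rw [mv, QuadraticMap.polar_comm (f := ⇑Q) q v,
        perp_apply hq (Submodule.mem_sup_right (Submodule.mem_span_singleton_self v)), zero_smul, zero_sub] at hm
      have := L.smul_mem (polar ⇑Q (J q) v)⁻¹ (neg_mem hm)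
      rwa [neg_neg, smul_smul, inv_mul_cancel₀ hne, one_smul] at this
    -- the second kind
    have h2 : ∀ q ∈ perpW Q (KL J w ⊔ F ∙ v), Q q = 0 → q ∉ KL J w ⊔ KL J v → q ∈ L := by
      intro q hq hqQ hqout
      by_cases hne : polar ⇑Q (J q) v = 0
      swap
      · exact h1 q hq hqQ hne
      have hJv : J v ∉ KL J w ⊔ F ∙ v ⊔ F ∙ q := by
        intro h
        obtain ⟨k, hk, z, hz, hkz⟩ := Submodule.mem_sup.1 h
        obtain ⟨s, rfl⟩ := Submodule.mem_span_singleton.1 hz
        by_cases hs : s = 0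
        · obtain ⟨k', hk', z, hz, hkz'⟩ := Submodule.mem_sup.1 hk
          obtain ⟨b, rfl⟩ := Submodule.mem_span_singleton.1 hz
          have hx : (-b) • v + (1 : F) • J v ∈ KL J w := by
            rw [← hkz, hs, zero_smul, add_zero, ← hkz']
            simpa using hk'
          refine hvw (C.KL_le hx (C.line (mem_KL.2 ⟨_, _, rfl⟩) ?_))
          intro h0
          exact hvw ((C.noeig v b (by rw [one_smul, neg_smul, neg_add_eq_zero] at h0; exact h0.symm)) ▸ zero_mem _)
        · refine hqout ?_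
          have e : q = s⁻¹ • (J v - k) := by rw [← hkz, add_sub_cancel_left, smul_smul, inv_mul_cancel₀ hs, one_smul]
          rw [e]
          refine Submodule.smul_mem _ _ (sub_mem (Submodule.mem_sup_right (J_mem v)) ?_)
          exact sup_le_sup_left ((Submodule.span_singleton_le_iff_mem v _).2 (self_mem v)) _ hk
      obtain ⟨q0, hq0, hq0Q, hq0v⟩ := sep hQ C.h14 (KL J w ⊔ F ∙ v ⊔ F ∙ q) (by
        have := finrank_sup_le (KL J w ⊔ F ∙ v) (F ∙ q)
        have := finrank_single q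
        omega) hJv
      have hq0' : q0 ∈ perpW Q (KL J w ⊔ F ∙ v) := fun z hz => perp_apply hq0 (Submodule.mem_sup_left hz)
      have hJq0 : polar ⇑Q (J q0) v ≠ 0 := by
        rw [C.adj, QuadraticMap.polar_comm (f := ⇑Q) q0 v,
          perp_apply hq0' (Submodule.mem_sup_right (Submodule.mem_span_singleton_self v)), mul_zero, zero_sub,
          neg_ne_zero, QuadraticMap.polar_comm]
        exact hq0v
      have hsum := h1 (q + q0) (add_mem hq hq0') (by
        rw [map_add', hqQ, hq0Q, perp_apply hq0 (Submodule.mem_sup_right (Submodule.mem_span_singleton_self q))]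
        ring) (by rwa [map_add, QuadraticMap.polar_add_left, hne, zero_add])
      simpa using sub_mem hsum (h1 q0 hq0' hq0Q hJq0)
    intro y hy
    by_contra hyL
    obtain ⟨φ, hφy, hφ⟩ := Submodule.exists_dual_map_eq_bot_of_notMem hyL inferInstance
    obtain ⟨z, hz⟩ := Quad.exists_rep _ hQ φ
    have hzS : z ∉ KL J w ⊔ F ∙ v := fun h => hφy (by rw [← hz y, QuadraticMap.polarBilin_apply_apply, QuadraticMap.polar_comm]; exact perp_apply hy h)
    obtain ⟨q, hq, hqQ, hzq⟩ := sep hQ C.h14 _ (by omega) hzS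
    have hzero : ∀ p ∈ L, polar ⇑Q z p = 0 := fun p hp => by
      have h1 : φ p ∈ L.map φ := Submodule.mem_map_of_mem hp
      rw [hφ, Submodule.mem_bot, ← hz p, QuadraticMap.polarBilin_apply_apply, QuadraticMap.polar_comm] at h1
      exact h1
    by_cases hqout : q ∈ KL J w ⊔ KL J v
    swap
    · exact hzq (hzero q (h2 q hq hqQ hqout))
    have hT := finrank_sup_le (KL J w) (KL J v)
    have hdv := finrank_KL (J := J) v
    obtain ⟨e, he, heQ, heout⟩ := C.exists_out hQ (KL J w ⊔ KL J v ⊔ F ∙ z) (by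
      have := finrank_sup_le (KL J w ⊔ KL J v) (F ∙ z)
      have := finrank_single z
      omega) (KL J w ⊔ KL J v) (by omega)
    have hev : e ∈ perpW Q (KL J w ⊔ F ∙ v) := fun p hp => perp_apply he (Submodule.mem_sup_left
      (sup_le_sup_left ((Submodule.span_singleton_le_iff_mem v _).2 (self_mem v)) _ hp))
    have := hzero _ (h2 (q + e) (add_mem hq hev) (by
      rw [map_add', hqQ, heQ, perp_apply he (Submodule.mem_sup_left hqout)]; ring)
      (fun h => heout (by simpa using sub_mem h hqout)))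
    rw [QuadraticMap.polar_add_right, perp_apply he (Submodule.mem_sup_right (Submodule.mem_span_singleton_self z)),
      add_zero] at this
    exact hzq this
  -- a first singular vector
  obtain ⟨u, hu, huQ, hau⟩ := sep hQ C.h14 (KL J w) (by omega) haw
  have huw : u ∉ KL J w := fun h => hau (by rw [QuadraticMap.polar_comm]; exact perp_apply ha h)
  have hu0 : u ≠ 0 := fun h => huw (h ▸ zero_mem _)
  obtain ⟨v, hv⟩ : ∃ v, v = mv Q J u a := ⟨_, rfl⟩
  have hvL : v ∈ L := hv ▸ hmove a ha hE u huQ hu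
  have hvK : v ∈ KL J u := hv ▸ mv_mem u a
  have hvQ := C.singular_KL huQ hvK
  have hv0 : v ≠ 0 := hv ▸ mv_ne C hu0 (by rwa [QuadraticMap.polar_comm])
  have hvw : v ∉ KL J w := fun h => huw (C.KL_le h (C.line hvK hv0))
  have hSv : Module.finrank F (KL J w ⊔ F ∙ v : Submodule F (ι → F)) ≤ 3 := by
    have := finrank_sup_le (KL J w) (F ∙ v)
    have := finrank_single v
    omega
  -- a second one
  obtain ⟨v2, hv2, hv2Q, hv2out⟩ := C.exists_out hQ (KL J w ⊔ F ∙ v) (by omega) (KL J w ⊔ F ∙ v) (by omega)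
  have hv2L := hyper v hvL hvQ hvw hv2
  have hv2w : v2 ∉ KL J w := fun h => hv2out (Submodule.mem_sup_left h)
  intro b hb
  by_contra hbM
  have hbL : b ∉ L := fun h => hbM (by simpa using ((hL b).1 h).2 1)
  obtain ⟨φ, hφb, hφ⟩ := Submodule.exists_dual_map_eq_bot_of_notMem hbL inferInstance
  obtain ⟨z, hz⟩ := Quad.exists_rep _ hQ φ
  have hin : ∀ v0 ∈ L, Q v0 = 0 → v0 ∉ KL J w → z ∈ KL J w ⊔ F ∙ v0 := by
    intro v0 h1 h2 h3
    by_contra hz0
    obtain ⟨p, hp, hzp⟩ := exists_rep_in hQ _ hz0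
    have h4 : φ p ∈ L.map φ := Submodule.mem_map_of_mem (hyper v0 h1 h2 h3 hp)
    rw [hφ, Submodule.mem_bot, ← hz p, QuadraticMap.polarBilin_apply_apply, QuadraticMap.polar_comm] at h4
    exact one_ne_zero (hzp.symm.trans h4)
  obtain ⟨k, hk, p, hp, hkp⟩ := Submodule.mem_sup.1 (hin v hvL hvQ hvw)
  obtain ⟨s, rfl⟩ := Submodule.mem_span_singleton.1 hp
  obtain ⟨k2, hk2, p, hp, hkp2⟩ := Submodule.mem_sup.1 (hin v2 hv2L hv2Q hv2w)
  obtain ⟨s2, rfl⟩ := Submodule.mem_span_singleton.1 hp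
  by_cases hs2 : s2 = 0
  · refine hφb ?_
    rw [← hz b, QuadraticMap.polarBilin_apply_apply, QuadraticMap.polar_comm, ← hkp2, hs2, zero_smul, add_zero]
    exact perp_apply hb hk2
  · refine hv2out ?_
    have e : v2 = s2⁻¹ • (k + s • v - k2) := by
      rw [hkp, ← hkp2, add_sub_cancel_left, smul_smul, inv_mul_cancel₀ hs2, one_smul]
    rw [e]
    exact Submodule.smul_mem _ _ (sub_mem (add_mem (Submodule.mem_sup_left hk)
      (Submodule.mem_sup_right (Submodule.smul_mem _ _ (Submodule.mem_span_singleton_self v))))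
      (Submodule.mem_sup_left hk2))

include hQ C in
theorem all_spread (hR : HasRoots Q J M) {w p : ι → F} (hw0 : w ≠ 0) (hw : Q w = 0) (hA : All M J w)
    (hp : Q p = 0) (hpw : p ∈ perpW Q (KL J w)) (hout : p ∉ KL J w) : All M J p := by
  have hp0 : p ≠ 0 := fun h => hout (h ▸ zero_mem _)
  have hE := hA p hpw
  rw [anti hw hp (perp_apply hpw (self_mem w))] at hE
  exact all_of_one hQ C M hR hp0 hp (neg_mem (C.perp_symm hpw))
    (fun h => hout (C.line (by simpa using neg_mem h) hw0)) hE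

include hQ C in
theorem pt_of_all (hR : HasRoots Q J M) {w : ι → F} (hw0 : w ≠ 0) (hw : Q w = 0) (hA : All M J w) : Pt M w := by
  have hJw : J w ∉ Submodule.span F ({w} : Set (ι → F)) := fun h => by
    obtain ⟨c, hc⟩ := Submodule.mem_span_singleton.1 h
    exact hw0 (C.noeig w c hc.symm)
  obtain ⟨q, hq, hJq⟩ := exists_rep_in hQ _ hJw
  have hwq : polar ⇑Q w q = 0 := hq w (Submodule.mem_span_singleton_self w)
  have hdw := finrank_KL (J := J) w
  have hS := finrank_sup_le (KL J w) (KL J q)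
  have hdq := finrank_KL (J := J) q
  obtain ⟨p, hp, hpQ, hpw⟩ := C.exists_out hQ (KL J w ⊔ KL J q) (by omega) (KL J w) (by omega)
  have hpKw : p ∈ perpW Q (KL J w) := fun z hz => perp_apply hp (Submodule.mem_sup_left hz)
  have hpKq : p ∈ perpW Q (KL J q) := fun z hz => perp_apply hp (Submodule.mem_sup_right hz)
  have hAp := all_spread hQ C M hR hw0 hw hA hpQ hpKw hpw
  obtain ⟨a, ha, hpa⟩ := exists_rep_in hQ (KL J w) hpw
  have hqc : ∀ c : F, E Q w (c • q) ∈ M := by
    intro c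
    have hqp : c • q ∈ perpW Q (KL J p) := (perpW Q _).smul_mem c (C.perp_symm hpKq)
    have hh := hAp _ hqp
    have hpq := perp_apply hqp (self_mem p)
    have hfix : act Q (E Q p (c • q)) w = w := by
      rw [E_act hpQ hpq, QuadraticMap.polar_comm (f := ⇑Q) p w, perp_apply hpKw (self_mem w),
        QuadraticMap.polar_smul_left, QuadraticMap.polar_comm (f := ⇑Q) q w, hwq]
      simp
    have hmov : act Q (E Q p (c • q)) a = a + (-(polar ⇑Q (c • q) a + Q (c • q))) • p + c • q := by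
      rw [E_act hpQ hpq, hpa]
      match_scalars <;> ring
    have hwa := perp_apply ha (self_mem w)
    have hE' : E Q w (a + (-(polar ⇑Q (c • q) a + Q (c • q))) • p + c • q) ∈ M := by
      rw [← hmov]
      conv => arg 2; arg 2; rw [← hfix]
      rw [← E_conj _ hw hwa]
      exact mul_mem (mul_mem hh (hA a ha)) (inv_mem hh)
    have hmem : a + (-(polar ⇑Q (c • q) a + Q (c • q))) • p ∈ perpW Q (KL J w) :=
      add_mem ha ((perpW Q _).smul_mem _ hpKw)
    rw [E_add hw (perp_apply hmem (self_mem w)) (by rw [QuadraticMap.polar_smul_right, hwq, smul_zero])] at hE'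
    exact (mul_mem_cancel_left (hA _ hmem)).1 hE'
  refine ⟨hw, fun b hb => ?_⟩
  obtain ⟨t, ht⟩ : ∃ t, t = polar ⇑Q (J w) b := ⟨_, rfl⟩
  have hmem : b - t • q ∈ perpW Q (KL J w) := by
    refine le_perp_KL ?_ ?_
    · rw [sub_eq_add_neg, QuadraticMap.polar_add_right, QuadraticMap.polar_neg_right,
        QuadraticMap.polar_smul_right, hb, hwq]
      simp
    · rw [sub_eq_add_neg, QuadraticMap.polar_add_right, QuadraticMap.polar_neg_right,
        QuadraticMap.polar_smul_right, hJq, ← ht]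
      simp
  rw [← sub_add_cancel b (t • q), E_add hw (perp_apply hmem (self_mem w))
    (by rw [QuadraticMap.polar_smul_right, hwq, smul_zero])]
  exact mul_mem (hA _ hmem) (hqc t)

include hQ C in
theorem unit_full (hR : HasRoots Q J M) {g : Cfsg.isometryGroup F ⇑Q} (hg : g ∈ M)
    (hgn : ¬ ∃ a b : F, ∀ x, act Q g (J (act Q g⁻¹ x)) = a • x + b • J x) : Cfsg.Omega F ⇑Q ≤ M := by
  have h14 := C.h14
  obtain ⟨w, hw, hgw⟩ : ∃ w, Q w = 0 ∧ act Q g (J w) ∉ KL J (act Q g w) := by
    by_contra hc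
    push Not at hc
    exact hgn (conj_J_mem hQ C g hc)
  have hgw0 : act Q g w ≠ 0 := fun h => hgw (by
    rw [show w = 0 from act_inj g (h.trans (by simp [act])), map_zero, show act Q g 0 = 0 by simp [act]]
    exact zero_mem _)
  have hperp : polar ⇑Q w (J w) = 0 := by rw [C.self, hw, mul_zero]
  have hE : E Q (act Q g w) (act Q g (J w)) ∈ M := by
    rw [← E_conj g hw hperp]
    have := hR w hw 1
    rw [one_smul] at this
    exact mul_mem (mul_mem hg this) (inv_mem hg)
  obtain ⟨v, a, hv0, hv, ha, hav, hva⟩ := root_gen hQ C M hR hgw0 (by rw [act_Q, hw])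
    (by rw [act_polar, hperp]) hgw hE
  have hA := all_of_one hQ C M hR hv0 hv ha hav hva
  have hdv := finrank_KL (J := J) v
  obtain ⟨p, hp, hpQ, hpv⟩ := C.exists_out hQ (KL J v) (by omega) (KL J v) (by omega)
  obtain ⟨p2, hp2, hp2Q, hpp2⟩ := sep hQ h14 (KL J v) (by omega) hpv
  have hp2v : p2 ∉ KL J v := fun h => hpp2 (by rw [QuadraticMap.polar_comm]; exact perp_apply hp h)
  have hP : ∀ {r : ι → F}, Q r = 0 → r ∈ perpW Q (KL J v) → r ∉ KL J v → Pt M r := fun {r} hr hrv hrout =>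
    pt_of_all hQ C M hR (fun h => hrout (h ▸ zero_mem _)) hr (all_spread hQ C M hR hv0 hv hA hr hrv hrout)
  exact full hQ (by omega) M (hP hpQ hp hpv) (hP hp2Q hp2 hp2v) hpp2

include hQ C in
/-- some element of the derived group does not normalise the extension -/
theorem exists_not_norm : ∃ g ∈ Cfsg.Omega F ⇑Q,
    ¬ ∃ a b : F, ∀ x, act Q g (J (act Q g⁻¹ x)) = a • x + b • J x := by
  have h14 := C.h14
  obtain ⟨u, -, hu, hu0⟩ := C.exists_out hQ ⊥ (by simp) ⊥ (by simp)
  rw [Submodule.mem_bot] at hu0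
  have hdu := finrank_KL (J := J) u
  obtain ⟨a, ha, haQ, hau⟩ := C.exists_out hQ (KL J u) (by omega) (KL J u) (by omega)
  have hua := perp_apply ha (self_mem u)
  refine ⟨E Q u a, E_omega hQ (by omega) hu hua, ?_⟩
  rintro ⟨c, d, hcd⟩
  have hconj : ∀ z, act Q (E Q u a) (J z) = c • act Q (E Q u a) z + d • J (act Q (E Q u a) z) := fun z => by
    have := hcd (act Q (E Q u a) z)
    rwa [act_inv] at this
  have hfix : ∀ x, polar ⇑Q u x = 0 → polar ⇑Q a x = 0 → act Q (E Q u a) x = x := fun x h1 h2 => by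
    rw [E_act hu hua, h1, h2]; simp
  have hS := finrank_sup_le (KL J u) (KL J a)
  have hda := finrank_KL (J := J) a
  obtain ⟨x, hx, -, hx0⟩ := C.exists_out hQ (KL J u ⊔ KL J a) (by omega) ⊥ (by simp)
  rw [Submodule.mem_bot] at hx0
  have hxu : x ∈ perpW Q (KL J u) := fun z hz => perp_apply hx (Submodule.mem_sup_left hz)
  have hxa : x ∈ perpW Q (KL J a) := fun z hz => perp_apply hx (Submodule.mem_sup_right hz)
  have h1 := hconj x
  rw [hfix x (perp_apply hxu (self_mem u)) (perp_apply hxa (self_mem a)),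
    hfix (J x) (perp_apply (C.perp_J hxu) (self_mem u)) (perp_apply (C.perp_J hxa) (self_mem a))] at h1
  have hd : d = 1 := by
    by_contra hd
    refine hx0 (C.noeig x ((1 - d)⁻¹ * c) ?_)
    have h2 : (1 - d) • J x = c • x := by
      rw [sub_smul, one_smul, sub_eq_iff_eq_add]
      exact h1
    rw [← smul_smul, ← h2, smul_smul, inv_mul_cancel₀ (sub_ne_zero.2 (Ne.symm hd)), one_smul]
  rw [hd, one_smul, right_eq_add, smul_eq_zero] at h1
  have hc := h1.resolve_right hx0
  have hJu : J u ∉ Submodule.span F ({u, a} : Set (ι → F)) := by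
    intro h
    obtain ⟨s, t, hst⟩ := Submodule.mem_span_pair.1 h
    by_cases ht : t = 0
    · rw [ht, zero_smul, add_zero] at hst
      exact hu0 (C.noeig u s hst.symm)
    · refine hau ?_
      have e : a = t⁻¹ • (J u - s • u) := by
        rw [← hst, add_sub_cancel_left, smul_smul, inv_mul_cancel₀ ht, one_smul]
      rw [e]
      exact Submodule.smul_mem _ _ (sub_mem (J_mem u) (Submodule.smul_mem _ _ (self_mem u)))
  obtain ⟨z, hz, hJz⟩ := exists_rep_in hQ _ hJu
  have h3 := hconj z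
  rw [hc, hd, zero_smul, one_smul, zero_add,
    hfix z (hz u (Submodule.subset_span (by simp))) (hz a (Submodule.subset_span (by simp))),
    E_act hu hua, C.adj', hz u (Submodule.subset_span (by simp)), hJz, haQ, zero_mul, zero_smul, sub_zero,
    add_eq_left, sub_eq_zero] at h3
  refine hau ?_
  have e : a = (-polar ⇑Q a (J z)) • u := by
    rw [neg_smul, ← h3]; simp
  rw [e]
  exact Submodule.smul_mem _ _ (self_mem u)

end CfsgLib.Lie.OrthUnit
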