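import Cfsg.Agent.Fus.PSL2Dihedral
import Cfsg.Agent.Lie.SL2Sylow
import Mathlib.GroupTheory.SpecificGroups.KleinFour

/-!
Subgroups of order four of the two-dimensional special linear groups and their normalisers.
-/

set_option autoImplicit false
set_option linter.unusedSectionVars false

namespace CfsgLib.Lie.PSL2Four

open CfsgLib.Fus.PSL2Two

variable {F : Type*} [Field F] [Fintype F]

local notation "SL2" => Matrix.SpecialLinearGroup (Fin 2) F

theorem circle_one (h1 : Fintype.card F % 4 = 1) :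
    Nat.card {p : F × F // p.1 ^ 2 + p.2 ^ 2 = 1} = Fintype.card F - 1 := by
  classical
  have h2 : (2 : F) ≠ 0 := two_ne_zero' (by omega)
  obtain ⟨i, hi⟩ : IsSquare (-1 : F) := FiniteField.isSquare_neg_one_iff.2 (by omega)
  have hi0 : i ≠ 0 := fun h => by rw [h, mul_zero] at hi; exact neg_ne_zero.2 one_ne_zero hi
  let f : {p : F × F // p.1 ^ 2 + p.2 ^ 2 = 1} ≃ Fˣ :=
    { toFun := fun p => ⟨p.1.1 + i * p.1.2, p.1.1 - i * p.1.2, by linear_combination p.2 + p.1.2 ^ 2 * hi,
        by linear_combination p.2 + p.1.2 ^ 2 * hi⟩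
      invFun := fun u => ⟨(((u : F) + ↑u⁻¹) / 2, ((u : F) - ↑u⁻¹) / (2 * i)), by
        field_simp
        have := u.mul_inv
        linear_combination 4 * i ^ 2 * this - ((u : F) - ↑u⁻¹) ^ 2 * hi⟩
      left_inv := fun p => by
        refine Subtype.ext (Prod.ext ?_ ?_)
        · show ((p.1.1 + i * p.1.2) + (p.1.1 - i * p.1.2)) / 2 = p.1.1
          field_simp; ring
        · show ((p.1.1 + i * p.1.2) - (p.1.1 - i * p.1.2)) / (2 * i) = p.1.2
          field_simp; ring
      right_inv := fun u => Units.ext (by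
        show ((u : F) + ↑u⁻¹) / 2 + i * (((u : F) - ↑u⁻¹) / (2 * i)) = u
        field_simp; ring) }
  rw [Nat.card_congr f, Nat.card_units, Nat.card_eq_fintype_card]

theorem circle_shift (hodd : Fintype.card F % 2 = 1) {d : F} (hd : d ≠ 0) :
    Nat.card {p : F × F // p.1 ^ 2 + p.2 ^ 2 = d} = Nat.card {p : F × F // p.1 ^ 2 + p.2 ^ 2 = 1} := by
  obtain ⟨u, v, h⟩ := exists_two_squares hodd d
  refine Nat.card_congr ⟨fun p => ⟨((u * p.1.1 + v * p.1.2) / d, (u * p.1.2 - v * p.1.1) / d), ?_⟩,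
    fun p => ⟨(u * p.1.1 - v * p.1.2, u * p.1.2 + v * p.1.1), ?_⟩, fun p => ?_, fun p => ?_⟩
  · field_simp; linear_combination (p.1.1 ^ 2 + p.1.2 ^ 2) * h + d * p.2
  · linear_combination (p.1.1 ^ 2 + p.1.2 ^ 2) * h + d * p.2
  · refine Subtype.ext (Prod.ext ?_ ?_) <;> dsimp only <;> field_simp
    · linear_combination p.1.1 * h
    · linear_combination p.1.2 * h
  · refine Subtype.ext (Prod.ext ?_ ?_) <;> dsimp only <;> field_simp
    · linear_combination p.1.1 * h
    · linear_combination p.1.2 * h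

theorem circle_three (h3 : Fintype.card F % 4 = 3) :
    Nat.card {p : F × F // p.1 ^ 2 + p.2 ^ 2 = 1} = Fintype.card F + 1 := by
  classical
  have hns : ¬ IsSquare (-1 : F) := fun h => (FiniteField.isSquare_neg_one_iff.1 h) h3
  have h0 : ∀ p : F × F, p.1 ^ 2 + p.2 ^ 2 = 0 ↔ p = (0, 0) := by
    rintro ⟨x, y⟩
    refine ⟨fun h => ?_, fun h => by cases h; ring⟩
    by_cases hy : y = 0
    · subst hy; simp at h; simp [h]
    · exact absurd ⟨x / y, by field_simp; linear_combination -h⟩ hns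
  have hsum := Finset.card_eq_sum_card_fiberwise (f := fun p : F × F => p.1 ^ 2 + p.2 ^ 2)
    (s := Finset.univ) (t := Finset.univ) (by simp)
  rw [← Finset.sum_erase_add _ _ (Finset.mem_univ (0 : F))] at hsum
  rw [Finset.sum_congr rfl (g := fun _ => Nat.card {p : F × F // p.1 ^ 2 + p.2 ^ 2 = 1}) (fun d hd => by
    rw [← circle_shift (by omega) (Finset.ne_of_mem_erase hd), Nat.card_eq_fintype_card, Fintype.card_subtype]),
    Finset.sum_const, Finset.card_erase_of_mem (Finset.mem_univ _), Finset.card_univ, Finset.card_univ,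
    Fintype.card_prod, smul_eq_mul] at hsum
  rw [show (Finset.univ.filter fun p : F × F => p.1 ^ 2 + p.2 ^ 2 = 0) = {(0, 0)} by ext p; simp [h0],
    Finset.card_singleton] at hsum
  have hq := Fintype.one_lt_card (α := F)
  obtain ⟨c, hc⟩ : ∃ c, Fintype.card F = c + 2 := ⟨_, (Nat.sub_add_cancel hq).symm⟩
  rw [hc] at hsum ⊢
  simp only [show c + 2 - 1 = c + 1 by omega] at hsum
  refine Nat.eq_of_mul_eq_mul_left (show 0 < c + 1 by omega) ?_
  nlinarith [hsum]

theorem four_eq (hodd : Fintype.card F % 2 = 1) {A : Subgroup SL2} (hA : Nat.card A = 4) :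
    ∃ k : SL2, A = Subgroup.zpowers (k * jEl * k⁻¹) := by
  classical
  obtain ⟨g, hg, hg2⟩ : ∃ g ∈ A, g * g ≠ 1 := by
    by_contra hc
    push Not at hc
    have hsub : (A : Set SL2) ⊆ ({1, -1} : Finset SL2) := fun g hg => by
      rcases sq_eq_one_cases hodd (hc g hg) with h | h <;> simp [h]
    have hle : Nat.card A ≤ ({1, -1} : Finset SL2).card := by
      have := Set.ncard_le_ncard hsub
      rw [Set.ncard_coe_finset, ← Nat.card_coe_set_eq] at this
      exact this
    have := hle.trans Finset.card_le_two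
    omega
  have h4 : (g * g) * (g * g) = 1 := by
    have h : (⟨g, hg⟩ : A) ^ Nat.card A = 1 := pow_card_eq_one'
    rw [hA] at h
    have := congrArg Subtype.val h
    simp only [SubmonoidClass.coe_pow, OneMemClass.coe_one] at this
    rw [← pow_two, ← pow_two, ← pow_mul]; exact this
  have hgg : g * g = -1 := (sq_eq_one_cases hodd h4).resolve_left hg2
  obtain ⟨k, hk⟩ := exists_conj_j hodd hgg
  refine ⟨k, hk ▸ ?_⟩
  refine (Subgroup.eq_of_le_of_card_ge ((Subgroup.zpowers_le).2 hg) ?_).symm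
  rw [hA, Nat.card_zpowers, orderOf_eq_prime_pow (p := 2) (n := 1) ?_ ?_] <;> norm_num
  · rw [pow_two, hgg]; exact SL2Sylow.neg_one_ne_one hodd
  · rw [show (4 : ℕ) = 2 * 2 from rfl, pow_mul, pow_two g, hgg, pow_two, neg_mul_neg, one_mul]

theorem normalizer_zpowers_j (hodd : Fintype.card F % 2 = 1) (h : SL2) :
    h ∈ Subgroup.normalizer (Subgroup.zpowers (jEl : SL2) : Set SL2) ↔
      h * jEl = jEl * h ∨ h * jEl = -(jEl * h) := by
  classical
  have hjj : (jEl : SL2) * jEl = -1 := Subtype.ext (by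
    show !![(0 : F), -1; 1, 0] * !![(0 : F), -1; 1, 0] = -1
    ext i j; fin_cases i <;> fin_cases j <;> simp [Matrix.mul_apply, Fin.sum_univ_two])
  have hinv : (jEl : SL2)⁻¹ = -jEl := inv_eq_of_mul_eq_one_right (by rw [mul_neg, hjj, neg_neg])
  have hmem : ∀ x : SL2, x ∈ Subgroup.zpowers (jEl : SL2) → x = 1 ∨ x = -1 ∨ x = jEl ∨ x = -jEl := by
    intro x hx
    obtain ⟨z, rfl⟩ := Subgroup.mem_zpowers_iff.1 hx
    induction z using Int.induction_on with
    | zero => left; simp
    | succ i ih =>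
      rw [zpow_add_one]
      rcases ih (Subgroup.zpow_mem_zpowers _ _) with e | e | e | e <;> rw [e]
      · exact Or.inr (Or.inr (Or.inl (one_mul _)))
      · right; right; right; rw [neg_one_mul]
      · exact Or.inr (Or.inl hjj)
      · left; rw [neg_mul, hjj, neg_neg]
    | pred i ih =>
      rw [zpow_sub_one, hinv]
      rcases ih (Subgroup.zpow_mem_zpowers _ _) with e | e | e | e <;> rw [e]
      · right; right; right; rw [one_mul]
      · right; right; left; rw [neg_mul_neg, one_mul]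
      · left; rw [mul_neg, hjj, neg_neg]
      · right; left; rw [neg_mul_neg, hjj]
  constructor
  · intro hh
    have := hmem _ ((Subgroup.mem_normalizer_iff.1 hh jEl).1 (Subgroup.mem_zpowers _))
    have hne : ∀ x : SL2, x * x = 1 → h * jEl * h⁻¹ ≠ x := fun x hx e => by
      have h1 : (h * jEl * h⁻¹) * (h * jEl * h⁻¹) = 1 := by rw [e]; exact hx
      rw [show h * jEl * h⁻¹ * (h * jEl * h⁻¹) = h * (jEl * jEl) * h⁻¹ by group, hjj, mul_neg_one, neg_mul,
        mul_inv_cancel] at h1
      exact SL2Sylow.neg_one_ne_one hodd h1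
    rcases this with e | e | e | e
    · exact absurd e (hne 1 (one_mul _))
    · exact absurd e (hne _ (by rw [neg_mul_neg, one_mul]))
    · left; rwa [mul_inv_eq_iff_eq_mul] at e
    · right; rwa [mul_inv_eq_iff_eq_mul, neg_mul] at e
  · intro hh
    have hgen : MulAut.conj h jEl ∈ Subgroup.zpowers (jEl : SL2) := by
      rw [MulAut.conj_apply]
      rcases hh with e | e
      · rw [e, mul_inv_cancel_right]; exact Subgroup.mem_zpowers _
      · rw [e, neg_mul, mul_inv_cancel_right, ← hinv]; exact inv_mem (Subgroup.mem_zpowers _)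
    have hmap : (Subgroup.zpowers (jEl : SL2)).map (MulAut.conj h).toMonoidHom = Subgroup.zpowers (jEl : SL2) := by
      refine Subgroup.eq_of_le_of_card_ge ?_ ?_
      · rw [MonoidHom.map_zpowers]
        exact Subgroup.zpowers_le.2 hgen
      · rw [Subgroup.card_map_of_injective (MulEquiv.injective _)]
    rw [Subgroup.mem_normalizer_iff]
    intro x
    constructor
    · intro hx; rw [← hmap]; exact ⟨x, hx, rfl⟩
    · intro hx
      rw [← hmap] at hx
      obtain ⟨y, hy, hyx⟩ := hx
      rwa [← MulEquiv.injective (MulAut.conj h) hyx]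

theorem card_normalizer_j (hodd : Fintype.card F % 2 = 1) :
    Nat.card (Subgroup.normalizer (Subgroup.zpowers (jEl : SL2) : Set SL2)) =
      2 * Nat.card {p : F × F // p.1 ^ 2 + p.2 ^ 2 = 1} := by
  classical
  have h2 := two_ne_zero' hodd
  have hjv : ((jEl : SL2) : Matrix (Fin 2) (Fin 2) F) = !![0, -1; 1, 0] := rfl
  have hent : ∀ h : SL2, h ∈ Subgroup.normalizer (Subgroup.zpowers (jEl : SL2) : Set SL2) ↔
      (h 1 1 = h 0 0 ∧ h 0 1 = -(h 1 0)) ∨ (h 1 1 = -(h 0 0) ∧ h 0 1 = h 1 0) := by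
    intro h
    rw [normalizer_zpowers_j hodd]
    constructor
    · rintro (e | e) <;>
        have e0 := congrArg (fun g : SL2 => g 0 0) e <;> have e1 := congrArg (fun g : SL2 => g 1 0) e
      · left
        simp [hjv, Matrix.SpecialLinearGroup.coe_mul, Matrix.mul_apply, Matrix.vecMul, dotProduct, Fin.sum_univ_two] at e0 e1
        exact ⟨e1, by linear_combination e0⟩
      · right
        simp [hjv, Matrix.SpecialLinearGroup.coe_mul, Matrix.mul_apply, Matrix.vecMul, dotProduct, Fin.sum_univ_two] at e0 e1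
        exact ⟨by linear_combination e1, e0⟩
    · rintro (⟨e1, e2⟩ | ⟨e1, e2⟩)
      · left; ext i j; fin_cases i <;> fin_cases j <;> simp [hjv, Matrix.SpecialLinearGroup.coe_mul, Matrix.mul_apply, Matrix.vecMul, dotProduct, Fin.sum_univ_two, e1, e2]
      · right; ext i j; fin_cases i <;> fin_cases j <;> simp [hjv, Matrix.SpecialLinearGroup.coe_mul, Matrix.mul_apply, Matrix.vecMul, dotProduct, Fin.sum_univ_two, e1, e2]
  have hne : ∀ p : F × F, p.1 ^ 2 + p.2 ^ 2 = 1 → p.1 ^ 2 + p.2 ^ 2 ≠ -1 := fun p h h' =>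
    h2 (by linear_combination h' - h)
  let f : {p : F × F // p.1 ^ 2 + p.2 ^ 2 = 1} ⊕ {p : F × F // p.1 ^ 2 + p.2 ^ 2 = -1} →
      Subgroup.normalizer (Subgroup.zpowers (jEl : SL2) : Set SL2) := fun s => s.elim
    (fun p => ⟨⟨!![p.1.1, -p.1.2; p.1.2, p.1.1], by rw [Matrix.det_fin_two_of]; linear_combination p.2⟩,
      (hent _).2 (Or.inl (by simp))⟩)
    (fun p => ⟨⟨!![p.1.1, p.1.2; p.1.2, -p.1.1], by rw [Matrix.det_fin_two_of]; linear_combination -p.2⟩,
      (hent _).2 (Or.inr (by simp))⟩)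
  have hf : Function.Bijective f := by
    constructor
    · intro s s' e
      have e0 := congrArg (fun g : Subgroup.normalizer (Subgroup.zpowers (jEl : SL2) : Set SL2) => (g : SL2) 0 0) e
      have e1 := congrArg (fun g : Subgroup.normalizer (Subgroup.zpowers (jEl : SL2) : Set SL2) => (g : SL2) 1 0) e
      rcases s with p | p <;> rcases s' with r | r <;> simp [f] at e0 e1
      · exact congrArg Sum.inl (Subtype.ext (Prod.ext e0 e1))
      · exact absurd r.2 (by rw [← e0, ← e1]; exact hne _ p.2)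
      · exact absurd p.2 (by rw [e0, e1]; exact hne _ r.2)
      · exact congrArg Sum.inr (Subtype.ext (Prod.ext e0 e1))
    · rintro ⟨h, hh⟩
      have hd : h 0 0 * h 1 1 - h 0 1 * h 1 0 = 1 := (Matrix.det_fin_two _).symm.trans h.2
      rcases (hent h).1 hh with ⟨e1, e2⟩ | ⟨e1, e2⟩
      · refine ⟨Sum.inl ⟨(h 0 0, h 1 0), by rw [e1, e2] at hd; linear_combination hd⟩, Subtype.ext ?_⟩
        ext i j; fin_cases i <;> fin_cases j <;> simp [f, e1, e2]
      · refine ⟨Sum.inr ⟨(h 0 0, h 1 0), by rw [e1, e2] at hd; linear_combination -hd⟩, Subtype.ext ?_⟩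
        ext i j; fin_cases i <;> fin_cases j <;> simp [f, e1, e2]
  rw [← Nat.card_congr (Equiv.ofBijective f hf), Nat.card_sum, circle_shift hodd (neg_ne_zero.2 one_ne_zero), two_mul]

theorem card_normalizer (hodd : Fintype.card F % 2 = 1) {A : Subgroup SL2} (hA : Nat.card A = 4) :
    Nat.card (Subgroup.normalizer (A : Set SL2)) = 2 * Nat.card {p : F × F // p.1 ^ 2 + p.2 ^ 2 = 1} := by
  obtain ⟨k, rfl⟩ := four_eq hodd hA
  rw [show Subgroup.zpowers (k * jEl * k⁻¹) = (Subgroup.zpowers (jEl : SL2)).map (MulAut.conj k).toMonoidHom from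
    by rw [MonoidHom.map_zpowers]; rfl, Subgroup.coe_map, ← card_normalizer_j hodd]
  rw [show (MulAut.conj k).toMonoidHom '' (Subgroup.zpowers (jEl : SL2) : Set SL2) =
      ↑((Subgroup.zpowers (jEl : SL2)).map (MulAut.conj k).toMonoidHom) from rfl]
  rw [← Subgroup.map_equiv_normalizer_eq]
  exact Subgroup.card_map_of_injective (MulEquiv.injective _)

end CfsgLib.Lie.PSL2Four
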