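import Cfsg.Agent.Lie.SLn
import Cfsg.Prelude.Def_GeometricClasses
import Cfsg.Prelude.Def_ClassicalGeometry

/-!
The stabiliser of a proper non-zero subspace is maximal in the special linear group.
-/

set_option autoImplicit false
set_option linter.unusedSectionVars false

namespace CfsgLib.Lie.ParabolicMax

open Matrix

variable {ι : Type} [Fintype ι] [DecidableEq ι] {F : Type*} [Field F]

/-- a transvection -/
def tv (v a : ι → F) (h : a ⬝ᵥ v = 0) : GL ι F :=
  ⟨1 + vecMulVec v a, 1 - vecMulVec v a, by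
    rw [Matrix.mul_sub, Matrix.add_mul, Matrix.add_mul, Matrix.one_mul, Matrix.one_mul, Matrix.mul_one,
      vecMulVec_mul_vecMulVec, h]
    simp, by
    rw [Matrix.sub_mul, Matrix.mul_add, Matrix.mul_add, Matrix.one_mul, Matrix.one_mul, Matrix.mul_one,
      vecMulVec_mul_vecMulVec, h]
    simp⟩

theorem tv_mulVec (v a : ι → F) (h : a ⬝ᵥ v = 0) (x : ι → F) :
    (tv v a h : Matrix ι ι F) *ᵥ x = x + (a ⬝ᵥ x) • v := by
  show (1 + vecMulVec v a) *ᵥ x = _
  rw [Matrix.add_mulVec, Matrix.one_mulVec, vecMulVec_mulVec]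
  simp

theorem tv_det (v a : ι → F) (h : a ⬝ᵥ v = 0) : tv v a h ∈ Cfsg.Geo.specialLinear ι F := by
  rw [Cfsg.Geo.specialLinear, MonoidHom.mem_ker]
  refine Units.ext ?_
  show (1 + vecMulVec v a).det = 1
  rw [Matrix.vecMulVec_eq Unit, Matrix.det_one_add_mul_comm]
  simp [Matrix.det_unique, Matrix.mul_apply]
  exact h

theorem gl_ext {g h : GL ι F} (e : ∀ x : ι → F, (g : Matrix ι ι F) *ᵥ x = (h : Matrix ι ι F) *ᵥ x) : g = h :=
  Units.ext (Matrix.ext_of_mulVec_single fun i => e _)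

/-- vectors with all transvections of that centre in `M` -/
def Cen (M : Subgroup (GL ι F)) : Set (ι → F) := {w | ∀ a, ∀ h : a ⬝ᵥ w = 0, tv w a h ∈ M}

variable {M : Subgroup (GL ι F)}

theorem cen_map {g : GL ι F} (hg : g ∈ M) {w : ι → F} (hw : w ∈ Cen M) :
    (g : Matrix ι ι F) *ᵥ w ∈ Cen M := by
  intro a ha
  have h' : (a ᵥ* (g : Matrix ι ι F)) ⬝ᵥ w = 0 := by rwa [← Matrix.dotProduct_mulVec]
  have h1 := M.mul_mem (M.mul_mem hg (hw _ h')) (M.inv_mem hg)
  convert h1 using 1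
  refine gl_ext fun x => ?_
  simp only [Units.val_mul, ← Matrix.mulVec_mulVec, tv_mulVec, Matrix.mulVec_add, Matrix.mulVec_smul]
  have e : (g : Matrix ι ι F) *ᵥ (((g⁻¹ : GL ι F) : Matrix ι ι F) *ᵥ x) = x := by
    rw [Matrix.mulVec_mulVec, Units.mul_inv, Matrix.one_mulVec]
  rw [← Matrix.dotProduct_mulVec, e]

theorem cen_smul {w : ι → F} (hw : w ∈ Cen M) {c : F} (hc : c ≠ 0) : c • w ∈ Cen M := by
  intro a ha
  have h' : (c • a) ⬝ᵥ w = 0 := by rwa [smul_dotProduct, ← dotProduct_smul]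
  convert hw _ h' using 1
  refine gl_ext fun x => ?_
  rw [tv_mulVec, tv_mulVec, smul_dotProduct, smul_smul, smul_eq_mul, mul_comm]

/-- an element of `M` moving `W` puts every transvection into `M` -/
theorem all_cen (W : Submodule F (ι → F)) (hW0 : W ≠ ⊥)
    (hM : ∀ g ∈ Cfsg.Geo.specialLinear ι F, (∀ x, x ∈ W ↔ (g : Matrix ι ι F) *ᵥ x ∈ W) → g ∈ M)
    {g : GL ι F} (hg : g ∈ M) {v : ι → F} (hv : v ∈ W) (hgv : (g : Matrix ι ι F) *ᵥ v ∉ W) (w : ι → F) :
    w ∈ Cen M := by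
  have hstab1 : ∀ (u a : ι → F) (h : a ⬝ᵥ u = 0), u ∈ W → tv u a h ∈ M := fun u a h hu => by
    refine hM _ (tv_det u a h) fun x => ?_
    rw [tv_mulVec]
    exact ⟨fun hx => add_mem hx (W.smul_mem _ hu), fun hx => by simpa using sub_mem hx (W.smul_mem (a ⬝ᵥ x) hu)⟩
  have hstab2 : ∀ (u a : ι → F) (h : a ⬝ᵥ u = 0), (∀ x ∈ W, a ⬝ᵥ x = 0) → tv u a h ∈ M := fun u a h ha => by
    refine hM _ (tv_det u a h) fun x => ?_
    rw [tv_mulVec]
    constructor
    · intro hx; rw [ha x hx]; simpa using hx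
    · intro hx
      have h1 := ha _ hx
      rw [dotProduct_add, dotProduct_smul, h, smul_zero, add_zero] at h1
      rw [h1] at hx
      simpa using hx
  by_cases hw : w ∈ W
  · exact fun a h => hstab1 w a h hw
  obtain ⟨z, hz⟩ : ∃ z, z = (g : Matrix ι ι F) *ᵥ v := ⟨_, rfl⟩
  rw [← hz] at hgv
  have hzC : z ∈ Cen M := hz ▸ cen_map hg fun a h => hstab1 v a h hv
  have key : ∀ y ∈ W, z + y ∈ Cen M := by
    intro y hy
    obtain ⟨f, hf, hfW⟩ := Submodule.exists_dual_map_eq_bot_of_notMem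
      (show z ∉ Submodule.span F {y} from fun h => hgv ((Submodule.span_singleton_le_iff_mem y W).2 hy h)) inferInstance
    obtain ⟨a, ha⟩ : ∃ a : ι → F, ∀ x, a ⬝ᵥ x = (f z)⁻¹ * f x := by
      refine ⟨fun i => (f z)⁻¹ * f (Pi.single i 1), fun x => ?_⟩
      conv_rhs => rw [pi_eq_sum_univ' x, map_sum, Finset.mul_sum]
      simp only [dotProduct, map_smul, smul_eq_mul]
      exact Finset.sum_congr rfl fun i _ => by ring
    have hy0 : a ⬝ᵥ y = 0 := by
      have hfy : f y = 0 := by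
        have h := Submodule.mem_map_of_mem (f := f) (Submodule.mem_span_singleton_self y)
        rwa [hfW, Submodule.mem_bot] at h
      rw [ha, hfy, mul_zero]
    have h := cen_map (hstab1 y a hy0 hy) hzC
    rwa [tv_mulVec, ha, inv_mul_cancel₀ hf, one_smul] at h
  by_cases hzw : z ∈ W ⊔ Submodule.span F {w - z}
  · obtain ⟨y, hy, p, hp, hsum⟩ := Submodule.mem_sup.1 hzw
    obtain ⟨c, rfl⟩ := Submodule.mem_span_singleton.1 hp
    have hc : c ≠ 0 := fun hc => hgv (by rw [← hsum, hc, zero_smul, add_zero]; exact hy)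
    have hw' : w = (c⁻¹ * (1 + c)) • z + (-c⁻¹) • y := by
      have : c • w = (1 + c) • z - y := by
        rw [add_smul, one_smul]
        nth_rewrite 1 [← hsum]
        rw [smul_sub]
        abel
      rw [neg_smul, ← sub_eq_add_neg, ← smul_smul, ← smul_sub, ← this, smul_smul, inv_mul_cancel₀ hc, one_smul]
    have h1 : c⁻¹ * (1 + c) ≠ 0 := fun e => hw (by rw [hw', e, zero_smul, zero_add]; exact W.smul_mem _ hy)
    have h2 := cen_smul (key _ (W.smul_mem ((c⁻¹ * (1 + c))⁻¹ * (-c⁻¹)) hy)) h1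
    rwa [smul_add, smul_smul, ← mul_assoc, mul_inv_cancel₀ h1, one_mul, ← hw'] at h2
  · obtain ⟨f, hf, hfW⟩ := Submodule.exists_dual_map_eq_bot_of_notMem hzw inferInstance
    obtain ⟨a, ha⟩ : ∃ a : ι → F, ∀ x, a ⬝ᵥ x = (f z)⁻¹ * f x := by
      refine ⟨fun i => (f z)⁻¹ * f (Pi.single i 1), fun x => ?_⟩
      conv_rhs => rw [pi_eq_sum_univ' x, map_sum, Finset.mul_sum]
      simp only [dotProduct, map_smul, smul_eq_mul]
      exact Finset.sum_congr rfl fun i _ => by ring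
    have hker : ∀ x ∈ W ⊔ Submodule.span F {w - z}, a ⬝ᵥ x = 0 := fun x hx => by
      have h := Submodule.mem_map_of_mem (f := f) hx
      rw [hfW, Submodule.mem_bot] at h
      rw [ha, h, mul_zero]
    have h := cen_map (hstab2 (w - z) a (hker _ (Submodule.mem_sup_right (Submodule.mem_span_singleton_self _)))
      fun x hx => hker x (Submodule.mem_sup_left hx)) hzC
    rwa [tv_mulVec, ha, inv_mul_cancel₀ hf, one_smul, add_sub_cancel] at h

theorem sl_le (W : Submodule F (ι → F)) (hW0 : W ≠ ⊥)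
    (hM : ∀ g ∈ Cfsg.Geo.specialLinear ι F, (∀ x, x ∈ W ↔ (g : Matrix ι ι F) *ᵥ x ∈ W) → g ∈ M)
    {g : GL ι F} (hg : g ∈ M) (hgW : ¬ ∀ x, x ∈ W ↔ (g : Matrix ι ι F) *ᵥ x ∈ W) :
    Cfsg.Geo.specialLinear ι F ≤ M := by
  have hC : ∀ w : ι → F, w ∈ Cen M := by
    by_cases h : ∀ x ∈ W, (g : Matrix ι ι F) *ᵥ x ∈ W
    · push Not at hgW
      obtain ⟨x, hx⟩ := hgW
      rcases hx with ⟨h1, h2⟩ | ⟨h1, h2⟩
      · exact absurd (h x h1) h2
      · refine all_cen W hW0 hM (M.inv_mem hg) h2 ?_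
        rwa [Matrix.mulVec_mulVec, Units.inv_mul, Matrix.one_mulVec]
    · push Not at h
      obtain ⟨v, hv, hgv⟩ := h
      exact all_cen W hW0 hM hg hv hgv
  have htop : M.comap (Matrix.SpecialLinearGroup.toGL : SpecialLinearGroup ι F →* GL ι F) = ⊤ := by
    refine CfsgLib.Lie.SLn.eq_top_of_transvection_mem _ fun i j hij c => ?_
    have h0 : (Pi.single j c : ι → F) ⬝ᵥ Pi.single i (1 : F) = 0 := by simp [Pi.single_apply, hij]
    have h := hC (Pi.single i (1 : F)) (Pi.single j c) h0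
    show Matrix.SpecialLinearGroup.toGL (SpecialLinearGroup.transvection hij c) ∈ M
    convert h using 1
    refine gl_ext fun x => ?_
    rw [tv_mulVec, single_dotProduct]
    exact CfsgLib.Lie.SLn.transv_mulVec i j c x
  intro s hs
  have hdet : (s : Matrix ι ι F).det = 1 := congrArg Units.val (MonoidHom.mem_ker.1 hs)
  obtain ⟨s', hs'⟩ : ∃ s' : SpecialLinearGroup ι F, (s' : Matrix ι ι F) = (s : Matrix ι ι F) := ⟨⟨_, hdet⟩, rfl⟩
  have hmem : s' ∈ M.comap (Matrix.SpecialLinearGroup.toGL : SpecialLinearGroup ι F →* GL ι F) :=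
    htop ▸ Subgroup.mem_top _
  have e : Matrix.SpecialLinearGroup.toGL s' = s := Units.ext hs'
  rw [← e]
  exact hmem

theorem exists_moving (W : Submodule F (ι → F)) (hW0 : W ≠ ⊥) (hW1 : W ≠ ⊤) :
    ∃ g ∈ Cfsg.Geo.specialLinear ι F, ¬ ∀ x, x ∈ W ↔ (g : Matrix ι ι F) *ᵥ x ∈ W := by
  obtain ⟨v, hv, hv0⟩ := Submodule.exists_mem_ne_zero_of_ne_bot hW0
  obtain ⟨u, -, hu⟩ := SetLike.exists_of_lt hW1.lt_top
  obtain ⟨f, hf, hfW⟩ := Submodule.exists_dual_map_eq_bot_of_notMem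
    (show v ∉ Submodule.span F {u} from fun h => by
      obtain ⟨c, hc⟩ := Submodule.mem_span_singleton.1 h
      rcases eq_or_ne c 0 with hc0 | hc0
      · exact hv0 (by rw [← hc, hc0, zero_smul])
      · refine hu ?_
        have h2 := W.smul_mem c⁻¹ hv
        rwa [← hc, smul_smul, inv_mul_cancel₀ hc0, one_smul] at h2) inferInstance
  obtain ⟨a, ha⟩ : ∃ a : ι → F, ∀ x, a ⬝ᵥ x = (f v)⁻¹ * f x := by
    refine ⟨fun i => (f v)⁻¹ * f (Pi.single i 1), fun x => ?_⟩
    conv_rhs => rw [pi_eq_sum_univ' x, map_sum, Finset.mul_sum]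
    simp only [dotProduct, map_smul, smul_eq_mul]
    exact Finset.sum_congr rfl fun i _ => by ring
  have hau : a ⬝ᵥ u = 0 := by
    have h := Submodule.mem_map_of_mem (f := f) (Submodule.mem_span_singleton_self u)
    rw [hfW, Submodule.mem_bot] at h
    rw [ha, h, mul_zero]
  refine ⟨tv u a hau, tv_det u a hau, fun h => hu ?_⟩
  have h2 := (h v).1 hv
  rw [tv_mulVec, ha, inv_mul_cancel₀ hf, one_smul] at h2
  simpa using sub_mem h2 hv

end CfsgLib.Lie.ParabolicMax
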