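import Cfsg.Agent.Lie.SUFull

/-!
Decompositions into two totally isotropic subspaces: the stabilizer is maximal in the special unitary group.
-/

set_option autoImplicit false
set_option linter.unusedSimpArgs false
set_option linter.unusedSectionVars false

namespace CfsgLib.Lie.PolDecompSU

open Matrix
open CfsgLib.Lie.Herm (form_add_left form_add_right form_smul_left form_smul_right form_comm form_single mem_GU)
open CfsgLib.Lie.SUGen (tu tu_mulVec tu_mem_T tu_smul tu_mul tu_zero tu_inv conj_tu Tz form_sub_left form_sub_right)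
open CfsgLib.Lie.SUFull (EE EE_mem EE_mulVec Full form_eq_zero_symm form_zero_left)

variable {F : Type*} [Field F] [Fintype F] {q n k : ℕ}

/-- a polarisation -/
structure Pol (q k : ℕ) (U W : Submodule F (Fin n → F)) : Prop where
  hU : ∀ x ∈ U, ∀ y ∈ U, Cfsg.hermForm n F q x y = 0
  hW : ∀ x ∈ W, ∀ y ∈ W, Cfsg.hermForm n F q x y = 0
  compl : IsCompl U W
  dimU : Module.finrank F U = k
  dimW : Module.finrank F W = k
  hk : 7 ≤ k

variable {U W : Submodule F (Fin n → F)}

theorem Pol.symm (h : Pol q k U W) : Pol q k W U := ⟨h.hW, h.hU, h.compl.symm, h.dimW, h.dimU, h.hk⟩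

theorem Pol.decomp (h : Pol q k U W) (x : Fin n → F) : ∃ a ∈ U, ∃ b ∈ W, a + b = x := by
  have hx : x ∈ U ⊔ W := by rw [h.compl.sup_eq_top]; trivial
  exact Submodule.mem_sup.1 hx

theorem Pol.inj (h : Pol q k U W) {x : Fin n → F} (h1 : x ∈ U) (h2 : x ∈ W) : x = 0 :=
  Submodule.disjoint_def.1 h.compl.disjoint x h1 h2

theorem Pol.zero_of_orth (hF : Fintype.card F = q ^ 2) (h : Pol q k U W) {u : Fin n → F} (hu : u ∈ U)
    (hy : ∀ y ∈ W, Cfsg.hermForm n F q y u = 0) : u = 0 := by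
  refine SUFull.eq_zero_of_orth hF fun x => ?_
  obtain ⟨a, ha, b, hb, rfl⟩ := h.decomp x
  rw [form_add_left, h.hU a ha u hu, hy b hb, add_zero]

/-- representation of a functional on `U` by a vector of `W` -/
theorem Pol.exists_vals (hF : Fintype.card F = q ^ 2) (h : Pol q k U W) {r : ℕ} (a : Fin r → (Fin n → F))
    (ha : ∀ i, a i ∈ U) (hind : LinearIndependent F a) (c : Fin r → F) :
    ∃ y ∈ W, ∀ i, Cfsg.hermForm n F q (a i) y = c i := by
  obtain ⟨ψ, hψ⟩ := LinearMap.exists_extend ((Module.Basis.span hind).constr F c)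
  have hψa : ∀ i, ψ (a i) = c i := by
    intro i
    have h1 := LinearMap.congr_fun hψ (Module.Basis.span hind i)
    rw [Module.Basis.constr_basis, LinearMap.comp_apply] at h1
    rw [← h1]
    congr 1
    exact (congrArg Subtype.val (Module.Basis.span_apply hind i)).symm
  let φ : (Fin n → F) →ₗ[F] F := ψ ∘ₗ U.subtype ∘ₗ Submodule.linearProjOfIsCompl U W h.compl
  obtain ⟨y, hy⟩ := SUFull.exists_rep hF φ
  obtain ⟨yU, hyU, yW, hyW, rfl⟩ := h.decomp y
  have h0 : yU = 0 := h.zero_of_orth hF hyU fun w hw => by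
    have h1 := hy w
    rw [form_add_right hF, h.hW w hw yW hyW, add_zero] at h1
    rw [h1]
    have h2 : Submodule.linearProjOfIsCompl U W h.compl w = 0 :=
      Submodule.linearProjOfIsCompl_apply_right h.compl ⟨w, hw⟩
    simp [φ, h2]
  refine ⟨yW, hyW, fun i => ?_⟩
  have h1 := hy (a i)
  rw [h0, zero_add] at h1
  rw [h1]
  simp only [φ, LinearMap.comp_apply, Submodule.subtype_apply]
  rw [show Submodule.linearProjOfIsCompl U W h.compl (a i) = ⟨a i, ha i⟩ from
    Submodule.linearProjOfIsCompl_apply_left h.compl ⟨a i, ha i⟩]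
  exact hψa i

/-- a vector of `U` orthogonal to a given one, outside a small subspace -/
theorem Pol.exists_outside (hF : Fintype.card F = q ^ 2) (h : Pol q k U W) (w : Fin n → F)
    (S : Submodule F (Fin n → F)) (hS : Module.finrank F S ≤ 4) :
    ∃ z ∈ U, Cfsg.hermForm n F q z w = 0 ∧ z ∉ S := by
  by_contra hcon
  push Not at hcon
  let φ : U →ₗ[F] F := (Herm.hb n hF w).comp U.subtype
  have h1 := LinearMap.finrank_range_add_finrank_ker φ
  have h2 := Submodule.finrank_le (LinearMap.range φ)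
  rw [Module.finrank_self] at h2
  rw [h.dimU] at h1
  have h3 : (LinearMap.ker φ).map U.subtype ≤ S := by
    rintro _ ⟨x, hx, rfl⟩
    exact hcon x x.2 (LinearMap.mem_ker.1 hx)
  have h4 := Submodule.finrank_mono h3
  rw [← (Submodule.equivMapOfInjective _ U.subtype_injective (LinearMap.ker φ)).finrank_eq] at h4
  have := h.hk
  omega

theorem finrank_triple_le (a b c : Fin n → F) :
    Module.finrank F (Submodule.span F ({a, b, c} : Set (Fin n → F))) ≤ 4 := by
  classical
  have h := finrank_span_finset_le_card ({a, b, c} : Finset (Fin n → F)) (R := F)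
  have h2 : ({a, b, c} : Finset (Fin n → F)).card ≤ 3 := Finset.card_le_three
  have e : ((({a, b, c} : Finset (Fin n → F))) : Set (Fin n → F)) = {a, b, c} := by simp
  rw [e] at h
  rw [Set.finrank] at h
  omega

theorem indep_pair {a b : Fin n → F} (ha : a ≠ 0) (hb : b ∉ Submodule.span F {a}) :
    LinearIndependent F ![a, b] := by
  rw [LinearIndependent.pair_iff]
  intro s t h
  by_cases ht : t = 0
  · rw [ht, zero_smul, add_zero] at h
    exact ⟨(smul_eq_zero.1 h).resolve_right ha, ht⟩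
  · exfalso; apply hb
    rw [← Submodule.smul_mem_iff _ ht, eq_neg_of_add_eq_zero_right h]
    exact neg_mem (Submodule.smul_mem _ _ (Submodule.mem_span_singleton_self a))

section

variable (hF : Fintype.card F = q ^ 2) (hp : Pol q k U W) (M : Subgroup (GL (Fin n) F))
  (hM : ∀ g ∈ Cfsg.GU n F q ⊓ Cfsg.Geo.specialLinear (Fin n) F,
    (∀ x ∈ U, (g : Matrix (Fin n) (Fin n) F) *ᵥ x ∈ U) → (∀ x ∈ W, (g : Matrix (Fin n) (Fin n) F) *ᵥ x ∈ W) → g ∈ M)
include hF hp hM

/-- the short root elements of the stabiliser -/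
theorem exists_root {x y : Fin n → F} (hx : x ∈ U) (hy : y ∈ W) (hxy : Cfsg.hermForm n F q x y = 0) (c : F) :
    ∃ e ∈ M, e ∈ Cfsg.GU n F q ∧ (∀ v ∈ U, (e : Matrix (Fin n) (Fin n) F) *ᵥ v ∈ U) ∧ ∀ v, (e : Matrix (Fin n) (Fin n) F) *ᵥ v =
      v + (c * Cfsg.hermForm n F q v y) • x - (c ^ q * Cfsg.hermForm n F q v x) • y := by
  have hxx := hp.hU x hx x hx
  have hyy := hp.hW y hy y hy
  have hT := SUGen.T_le hF (EE_mem hF hxx hyy hxy c)
  have hU' : ∀ v ∈ U, (EE hF hxx hyy hxy c : Matrix (Fin n) (Fin n) F) *ᵥ v ∈ U := fun v hv => by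
    rw [EE_mulVec, hp.hU v hv x hx, mul_zero, zero_smul, sub_zero]
    exact U.add_mem hv (U.smul_mem _ hx)
  refine ⟨_, hM _ hT hU' (fun v hv => ?_), hT.1, hU', EE_mulVec hF hxx hyy hxy c⟩
  rw [EE_mulVec, hp.hW v hv y hy, mul_zero, zero_smul, add_zero]
  exact W.sub_mem hv (W.smul_mem _ hy)

theorem move_U {a b : Fin n → F} (ha : a ∈ U) (hb : b ∈ U) (hab : LinearIndependent F ![a, b]) :
    ∃ e ∈ M, e ∈ Cfsg.GU n F q ∧ (∀ v ∈ U, (e : Matrix (Fin n) (Fin n) F) *ᵥ v ∈ U) ∧
      (e : Matrix (Fin n) (Fin n) F) *ᵥ a = b := by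
  obtain ⟨y, hy, hval⟩ := hp.exists_vals hF ![a, b] (fun i => by fin_cases i <;> assumption) hab ![1, 1]
  have h0 := hval 0
  have h1 := hval 1
  simp only [Matrix.cons_val] at h0 h1
  obtain ⟨e, he, heU, hest, hev⟩ := exists_root hF hp M hM (U.sub_mem hb ha) hy (by rw [form_sub_left, h0, h1, sub_self]) 1
  refine ⟨e, he, heU, hest, ?_⟩
  rw [hev, h0, hp.hU a ha _ (U.sub_mem hb ha)]
  simp

theorem move_one {a b : Fin n → F} (ha : a ∈ U) (ha0 : a ≠ 0) (hb : b ∈ U) (hb0 : b ≠ 0) :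
    ∃ e ∈ M, e ∈ Cfsg.GU n F q ∧ (∀ v ∈ U, (e : Matrix (Fin n) (Fin n) F) *ᵥ v ∈ U) ∧
      (e : Matrix (Fin n) (Fin n) F) *ᵥ a = b := by
  obtain ⟨z, hz, -, hzS⟩ := hp.exists_outside hF 0 _ (finrank_triple_le a b b)
  obtain ⟨e1, h1, h1U, h1st, h1e⟩ := move_U hF hp M hM ha hz (indep_pair ha0 fun h => hzS (Submodule.span_mono (by simp) h))
  have hz0 : z ≠ 0 := fun h => hzS (h ▸ zero_mem _)
  obtain ⟨e2, h2, h2U, h2st, h2e⟩ := move_U hF hp M hM hz hb (indep_pair hz0 fun h => by
    obtain ⟨t, ht⟩ := Submodule.mem_span_singleton.1 h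
    have ht0 : t ≠ 0 := fun h' => hb0 (by rw [← ht, h', zero_smul])
    apply hzS
    rw [← Submodule.smul_mem_iff _ ht0, ht]
    exact Submodule.subset_span (by simp))
  exact ⟨e2 * e1, mul_mem h2 h1, mul_mem h2U h1U, fun v hv => by
    rw [Units.val_mul, ← Matrix.mulVec_mulVec]; exact h2st _ (h1st v hv), by rw [Units.val_mul, ← Matrix.mulVec_mulVec, h1e, h2e]⟩

theorem move_two {a b a' b' : Fin n → F} (ha : a ∈ U) (hb : b ∈ U) (hab : LinearIndependent F ![a, b])
    (ha' : a' ∈ U) (hb' : b' ∈ U) (hab' : LinearIndependent F ![a', b']) :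
    ∃ e ∈ M, e ∈ Cfsg.GU n F q ∧ (e : Matrix (Fin n) (Fin n) F) *ᵥ a = a' ∧ (e : Matrix (Fin n) (Fin n) F) *ᵥ b = b' := by
  have fixmove : ∀ b₁ b₂, b₁ ∈ U → b₂ ∈ U → LinearIndependent F ![a', b₁] →
      b₂ ∉ Submodule.span F {a', b₁} → ∃ e ∈ M, e ∈ Cfsg.GU n F q ∧
      (e : Matrix (Fin n) (Fin n) F) *ᵥ a' = a' ∧ (e : Matrix (Fin n) (Fin n) F) *ᵥ b₁ = b₂ := by
    intro b₁ b₂ h₁ h₂ hi hn
    have h3 : LinearIndependent F ![a', b₁, b₂] := by
      rw [Fintype.linearIndependent_iff]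
      intro g hg
      rw [Fin.sum_univ_three] at hg
      simp only [Matrix.cons_val] at hg
      have g2 : g 2 = 0 := by
        by_contra h
        apply hn
        rw [← Submodule.smul_mem_iff _ h, eq_neg_of_add_eq_zero_right hg]
        exact neg_mem (add_mem (Submodule.smul_mem _ _ (Submodule.subset_span (by simp)))
          (Submodule.smul_mem _ _ (Submodule.subset_span (by simp))))
      rw [g2, zero_smul, add_zero] at hg
      obtain ⟨g0, g1⟩ := LinearIndependent.pair_iff.1 hi _ _ hg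
      intro i; fin_cases i <;> assumption
    obtain ⟨y, hy, hval⟩ := hp.exists_vals hF ![a', b₁, b₂] (fun i => by fin_cases i <;> assumption) h3 ![0, 1, 1]
    have h0 := hval 0
    have h1 := hval 1
    have h2 := hval 2
    simp only [Matrix.cons_val] at h0 h1 h2
    obtain ⟨e, he, heU, -, hev⟩ := exists_root hF hp M hM (U.sub_mem h₂ h₁) hy (by rw [form_sub_left, h1, h2, sub_self]) 1
    refine ⟨e, he, heU, ?_, ?_⟩
    · rw [hev, h0, hp.hU a' ha' _ (U.sub_mem h₂ h₁)]; simp
    · rw [hev, h1, hp.hU b₁ h₁ _ (U.sub_mem h₂ h₁)]; simp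
  have ha0 : a ≠ 0 := hab.ne_zero 0
  have ha0' : a' ≠ 0 := hab'.ne_zero 0
  obtain ⟨e, he, heU, hest, hea⟩ := move_one hF hp M hM ha ha0 ha' ha0'
  set b₁ := (e : Matrix (Fin n) (Fin n) F) *ᵥ b with hb₁
  have hb₁U : b₁ ∈ U := hest b hb
  have hi1 : LinearIndependent F ![a', b₁] := by
    rw [LinearIndependent.pair_iff]
    intro s t h
    rw [← hea, hb₁, ← Matrix.mulVec_smul, ← Matrix.mulVec_smul, ← Matrix.mulVec_add] at h
    have h9 := congrArg (fun w => ((e⁻¹ : GL (Fin n) F) : Matrix (Fin n) (Fin n) F) *ᵥ w) h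
    simp only [FormMaxSL.inv_mulVec_mulVec, Matrix.mulVec_zero] at h9
    exact LinearIndependent.pair_iff.1 hab s t h9
  obtain ⟨z, hz, -, hzS⟩ := hp.exists_outside hF 0 _ (finrank_triple_le a' b₁ b')
  obtain ⟨f1, hf1, hf1U, hf1a, hf1b⟩ := fixmove b₁ z hb₁U hz hi1
    (fun h => hzS (Submodule.span_mono (by intro x; simp; tauto) h))
  have hi2 : LinearIndependent F ![a', z] := indep_pair ha0' fun h => hzS (Submodule.span_mono (by simp) h)
  have hn2 : b' ∉ Submodule.span F {a', z} := by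
    intro h
    obtain ⟨s, t, hst⟩ := Submodule.mem_span_pair.1 h
    by_cases ht : t = 0
    · rw [ht, zero_smul, add_zero] at hst
      have h9 := LinearIndependent.pair_iff.1 hab' s (-1) (by rw [hst]; module)
      exact one_ne_zero (neg_eq_zero.1 h9.2)
    · apply hzS
      rw [← Submodule.smul_mem_iff _ ht, show t • z = b' - s • a' by rw [← hst]; abel]
      exact sub_mem (Submodule.subset_span (by simp)) (Submodule.smul_mem _ _ (Submodule.subset_span (by simp)))
  obtain ⟨f2, hf2, hf2U, hf2a, hf2b⟩ := fixmove z b' hz hb' hi2 hn2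
  refine ⟨f2 * f1 * e, mul_mem (mul_mem hf2 hf1) he, mul_mem (mul_mem hf2U hf1U) heU, ?_, ?_⟩
  · rw [Units.val_mul, Units.val_mul, ← Matrix.mulVec_mulVec, ← Matrix.mulVec_mulVec, hea, hf1a, hf2a]
  · rw [Units.val_mul, Units.val_mul, ← Matrix.mulVec_mulVec, ← Matrix.mulVec_mulVec, ← hb₁, hf1b, hf2b]

/-- a pair of transvections spreads to all of `U` -/
theorem full_of_pair {a b : Fin n → F} (ha : a ∈ U) (hb : b ∈ U) (hab : LinearIndependent F ![a, b])
    {d : F} (hd : Tz q d) (hd0 : d ≠ 0) (hmem : tu q a d * tu q b (-d) ∈ M) :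
    ∀ u ∈ U, u ∈ Full q M := by
  have hiso : ∀ u ∈ U, Cfsg.hermForm n F q u u = 0 := fun u hu => hp.hU u hu u hu
  -- all pairs
  have hpair : ∀ x ∈ U, ∀ y ∈ U, LinearIndependent F ![x, y] → tu q x d * tu q y (-d) ∈ M := by
    intro x hx y hy hxy
    obtain ⟨e, he, heU, hea, heb⟩ := move_two hF hp M hM ha hb hab hx hy hxy
    have h1 := mul_mem (mul_mem he hmem) (inv_mem he)
    rw [show e * (tu q a d * tu q b (-d)) * e⁻¹ = (e * tu q a d * e⁻¹) * (e * tu q b (-d) * e⁻¹) by group,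
      conj_tu heU (hiso a ha), conj_tu heU (hiso b hb), hea, heb] at h1
    exact h1
  intro u hu
  by_cases hu0 : u = 0
  · rw [hu0]; exact SUFull.full_zero
  refine ⟨hiso u hu, ?_⟩
  obtain ⟨v, hv, -, hvS⟩ := hp.exists_outside hF 0 _ (finrank_triple_le u u u)
  have huv : LinearIndependent F ![u, v] := indep_pair hu0 fun h => hvS (Submodule.span_mono (by simp) h)
  have hv0 : v ≠ 0 := huv.ne_zero 1
  have hvu : ∀ μ : F, μ ≠ 0 → LinearIndependent F ![v, μ • u] := by
    intro μ hμ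
    refine indep_pair hv0 fun h => ?_
    obtain ⟨s, hs⟩ := Submodule.mem_span_singleton.1 h
    have h9 := LinearIndependent.pair_iff.1 huv (-μ) s (by rw [hs]; module)
    exact hμ (neg_eq_zero.1 h9.1)
  have hscal : ∀ μ : F, μ ≠ 0 → tu q u (d * (1 - μ * μ ^ q)) ∈ M := by
    intro μ hμ
    have h1 := mul_mem (hpair u hu v hv huv) (hpair v hv (μ • u) (U.smul_mem _ hu) (hvu μ hμ))
    rw [show tu q u d * tu q v (-d) * (tu q v d * tu q (μ • u) (-d)) =
      tu q u d * (tu q v (-d) * tu q v d) * tu q (μ • u) (-d) by group, tu_mul (hiso v hv), neg_add_cancel,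
      tu_zero, mul_one, tu_smul hF (hiso u hu), tu_mul (hiso u hu)] at h1
    convert h1 using 2
    ring
  by_cases hq : q = 2
  · -- the field with four elements
    subst hq
    intro c hc
    have h2 : (2 : F) = 0 := by
      haveI : Fact (Nat.Prime 2) := ⟨Nat.prime_two⟩
      haveI : CharP F 2 := charP_of_card_eq_prime_pow (R := F) (p := 2) (f := 2) (by rw [hF])
      exact CharTwo.two_eq_zero
    have hcube : ∀ x : F, x ≠ 0 → x ^ 3 = 1 := fun x hx => by
      have h := FiniteField.pow_card_sub_one_eq_one x hx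
      rw [hF] at h
      simpa using h
    have htz1 : ∀ x : F, Tz 2 x → x ≠ 0 → x = 1 := by
      intro x hx hx0
      unfold SUGen.Tz at hx
      have : x * (x + 1) = 0 := by linear_combination hx
      linear_combination (mul_eq_zero.1 this).resolve_left hx0 - h2
    have hd1 := htz1 d hd hd0
    subst hd1
    by_cases hc0 : c = 0
    · rw [hc0, tu_zero]; exact one_mem _
    rw [htz1 c hc hc0]
    obtain ⟨ω, hω0, hω1⟩ : ∃ ω : F, ω ≠ 0 ∧ ω ≠ 1 := by
      classical
      by_contra h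
      push Not at h
      have : (Finset.univ : Finset F) ⊆ {0, 1} := fun x _ => by
        by_cases hx : x = 0
        · simp [hx]
        · simp [h x hx]
      have h9 := (Finset.card_le_card this).trans (Finset.card_le_two)
      rw [Finset.card_univ, hF] at h9
      omega
    have hω : ω ^ 2 = ω + 1 := by
      have h9 : (ω - 1) * (ω ^ 2 + ω + 1) = 0 := by linear_combination hcube ω hω0
      linear_combination (mul_eq_zero.1 h9).resolve_left (sub_ne_zero.2 hω1) - (ω + 1) * h2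
    have hn1 : (-(1 : F)) = 1 := by linear_combination -h2
    have hs : ∀ s t : F, s ≠ t → LinearIndependent F ![v + s • u, v + t • u] := by
      intro s t hst
      rw [LinearIndependent.pair_iff]
      intro x y h
      have h9 := LinearIndependent.pair_iff.1 huv (x * s + y * t) (x + y) (by rw [← h]; module)
      have hx : x * (s - t) = 0 := by linear_combination h9.1 - t * h9.2
      have := (mul_eq_zero.1 hx).resolve_right (sub_ne_zero.2 hst)
      exact ⟨this, by linear_combination h9.2 - this⟩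
    have hv1 : LinearIndependent F ![v, v + (1 : F) • u] := by simpa using hs 0 1 zero_ne_one
    have hvU : ∀ s : F, v + s • u ∈ U := fun s => U.add_mem hv (U.smul_mem _ hu)
    have hne : ω ≠ ω ^ 2 := fun h => hω1 (mul_left_cancel₀ hω0 (by rw [mul_one, ← pow_two]; exact h.symm))
    have h1 := mul_mem (hpair _ hv _ (hvU 1) hv1) (hpair _ (hvU ω) _ (hvU (ω ^ 2)) (hs _ _ hne))
    rw [hn1] at h1
    convert h1 using 1
    refine FormMaxSL.gl_ext fun x => ?_
    simp only [Units.val_mul, ← Matrix.mulVec_mulVec, tu_mulVec (hiso _ (hvU 1)), tu_mulVec (hiso _ (hvU ω)),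
      tu_mulVec (hiso _ (hvU (ω ^ 2))), tu_mulVec (hiso u hu), tu_mulVec (hiso v hv), form_add_left,
      form_add_right hF, form_smul_left, form_smul_right, hiso u hu, hiso v hv, hp.hU u hu v hv, hp.hU v hv u hu]
    match_scalars <;> grind
  have hq3 : 3 ≤ q := by have := Herm.two_le hF; omega
  have hfix : ∀ e : F, e ^ q = e → e ≠ 1 → tu q u (d * e) ∈ M := by
    intro e he he1
    obtain ⟨μ, hμ, hμe⟩ := Herm.exists_norm hF (1 - e) (sub_ne_zero.2 (Ne.symm he1))
      (by rw [← Herm.conj_apply hF (1 - e), map_sub, map_one, Herm.conj_apply, he])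
    have := hscal μ hμ
    rwa [hμe, sub_sub_cancel] at this
  intro c hc
  obtain ⟨e, rfl⟩ : ∃ e, c = d * e := ⟨c / d, by rw [mul_div_cancel₀ _ hd0]⟩
  have hnd : d ^ q = -d := eq_neg_of_add_eq_zero_left hd
  have he : e ^ q = e := by
    unfold SUGen.Tz at hc
    rw [mul_pow, hnd] at hc
    refine mul_left_cancel₀ hd0 ?_
    linear_combination -hc
  by_cases he1 : e = 1
  · subst he1
    obtain ⟨⟨f, hf0, hf⟩, hne⟩ : ∃ μ : {c : F // c ≠ 0 ∧ c ^ q = c}, μ.1 ≠ 1 := by
      by_contra h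
      push Not at h
      have : Subsingleton {c : F // c ≠ 0 ∧ c ^ q = c} := ⟨fun a b => Subtype.ext ((h a).trans (h b).symm)⟩
      have := Finite.card_le_one_iff_subsingleton.2 this
      have := Herm.card_fixed_units hF
      omega
    have h1 := mul_mem (hfix f hf hne) (hfix (1 - f)
      (by rw [← Herm.conj_apply hF (1 - f), map_sub, map_one, Herm.conj_apply, hf])
      (fun h => hf0 (by linear_combination -h)))
    rwa [tu_mul (hiso u hu), ← mul_add, add_sub_cancel] at h1
  · exact hfix e he he1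

theorem full_U_of_mem {a : Fin n → F} (ha : a ∈ U) (ha0 : a ≠ 0) {κ : F} (hκ : Tz q κ) (hκ0 : κ ≠ 0)
    (hmem : tu q a κ ∈ M) : ∀ u ∈ U, u ∈ Full q M := by
  obtain ⟨b, hb, -, hbS⟩ := hp.exists_outside hF 0 _ (finrank_triple_le a a a)
  have hab := indep_pair ha0 (fun h => hbS (Submodule.span_mono (by simp) h) : b ∉ Submodule.span F {a})
  refine full_of_pair hF hp M hM ha hb hab hκ hκ0 (mul_mem hmem ?_)
  obtain ⟨e, he, heU, -, hea⟩ := move_one hF hp M hM ha ha0 hb (hab.ne_zero 1)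
  rw [← hea, ← tu_inv (by rw [mem_GU.1 heU, hp.hU a ha a ha]), ← conj_tu heU (hp.hU a ha a ha)]
  exact inv_mem (mul_mem (mul_mem he hmem) (inv_mem he))

/-- a transvection with mixed centre -/
theorem full_U_of_mixed {u' w' : Fin n → F} (hu : u' ∈ U) (hw : w' ∈ W) (hu0 : u' ≠ 0)
    (huw : Cfsg.hermForm n F q u' w' = 0) {κ : F} (hκ : Tz q κ) (hκ0 : κ ≠ 0)
    (hmem : tu q (u' + w') κ ∈ M) : ∀ u ∈ U, u ∈ Full q M := by
  obtain ⟨z, hz, hzw, hzS⟩ := hp.exists_outside hF w' _ (finrank_triple_le u' u' u')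
  have hi := indep_pair hu0 (fun h => hzS (Submodule.span_mono (by simp) h) : z ∉ Submodule.span F {u'})
  obtain ⟨y, hy, hval⟩ := hp.exists_vals hF ![u', z] (fun i => by fin_cases i <;> assumption) hi ![1, 0]
  have hy1 := hval 0
  have hy0 := hval 1
  simp only [Matrix.cons_val] at hy1 hy0
  obtain ⟨h, hh, hhU, -, hhv⟩ := exists_root hF hp M hM hz hy hy0 1
  have hwz := form_eq_zero_symm hF hzw
  have hwu := form_eq_zero_symm hF huw
  have hu2 := hp.hU u' hu u' hu
  have hz2 := hp.hU z hz z hz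
  have huz := hp.hU u' hu z hz
  have hzu := hp.hU z hz u' hu
  have hw2 := hp.hW w' hw w' hw
  have haa : Cfsg.hermForm n F q (u' + w') (u' + w') = 0 := by
    simp only [form_add_left, form_add_right hF, hu2, hw2, huw, hwu, add_zero]
  have hha : (h : Matrix (Fin n) (Fin n) F) *ᵥ (u' + w') = u' + z + w' := by
    rw [hhv, form_add_left, form_add_left, hy1, hp.hW w' hw y hy, huz, hwz]
    simp only [add_zero, mul_zero, zero_smul, one_smul, mul_one, sub_zero]
    abel
  have haz : Cfsg.hermForm n F q (u' + z + w') (u' + z + w') = 0 := by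
    simp only [form_add_left, form_add_right hF, hu2, hw2, hz2, huw, hwu, huz, hzu, hzw, hwz, add_zero]
  have huz2 : Cfsg.hermForm n F q (u' + z) (u' + z) = 0 := hp.hU _ (U.add_mem hu hz) _ (U.add_mem hu hz)
  have h1 := mul_mem (mul_mem (mul_mem hh hmem) (inv_mem hh)) (inv_mem hmem)
  rw [conj_tu hhU haa, hha, tu_inv haa] at h1
  obtain ⟨E, hE, -, -, hEv⟩ := exists_root hF hp M hM hz hw hzw κ
  have hi2 : LinearIndependent F ![u' + z, u'] := by
    rw [LinearIndependent.pair_iff]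
    intro s t h
    have h9 := LinearIndependent.pair_iff.1 hi (s + t) s (by rw [← h]; module)
    exact ⟨h9.2, by linear_combination h9.1 - h9.2⟩
  refine full_of_pair hF hp M hM (U.add_mem hu hz) hu hi2 hκ hκ0 ?_
  convert mul_mem (inv_mem hE) h1 using 1
  rw [eq_inv_mul_iff_mul_eq]
  refine FormMaxSL.gl_ext fun x => ?_
  simp only [Units.val_mul, ← Matrix.mulVec_mulVec, hEv, tu_mulVec haz, tu_mulVec haa, tu_mulVec huz2,
    tu_mulVec hu2, form_add_left, form_add_right hF, form_smul_left, hu2, hw2, hz2, huw, hwu, huz, hzu, hzw, hwz,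
    mul_zero, add_zero, zero_add, eq_neg_of_add_eq_zero_left hκ]
  module

/-- a pair of commuting transvections, one centre in each part -/
theorem full_U_of_diag {u' w' : Fin n → F} (hu : u' ∈ U) (hw : w' ∈ W) (hu0 : u' ≠ 0)
    (huw : Cfsg.hermForm n F q u' w' = 0) {d₁ d₂ : F} (hd : Tz q d₁) (hd0 : d₁ ≠ 0)
    (hmem : tu q u' d₁ * tu q w' d₂ ∈ M) : ∀ u ∈ U, u ∈ Full q M := by
  obtain ⟨z, hz, hzw, hzS⟩ := hp.exists_outside hF w' _ (finrank_triple_le u' u' u')
  have hi := indep_pair hu0 (fun h => hzS (Submodule.span_mono (by simp) h) : z ∉ Submodule.span F {u'})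
  obtain ⟨y, hy, hval⟩ := hp.exists_vals hF ![u', z] (fun i => by fin_cases i <;> assumption) hi ![1, 0]
  have hy1 := hval 0
  have hy0 := hval 1
  simp only [Matrix.cons_val] at hy1 hy0
  obtain ⟨h, hh, hhU, -, hhv⟩ := exists_root hF hp M hM hz hy hy0 1
  have hu2 := hp.hU u' hu u' hu
  have hw2 := hp.hW w' hw w' hw
  have e1 : (h : Matrix (Fin n) (Fin n) F) *ᵥ u' = u' + z := by
    rw [hhv, hy1, hp.hU u' hu z hz]; simp
  have e2 : (h : Matrix (Fin n) (Fin n) F) *ᵥ w' = w' := by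
    rw [hhv, hp.hW w' hw y hy, form_eq_zero_symm hF hzw]; simp
  have hi2 : LinearIndependent F ![u' + z, u'] := by
    rw [LinearIndependent.pair_iff]
    intro s t h
    have h9 := LinearIndependent.pair_iff.1 hi (s + t) s (by rw [← h]; module)
    exact ⟨h9.2, by linear_combination h9.1 - h9.2⟩
  refine full_of_pair hF hp M hM (U.add_mem hu hz) hu hi2 hd hd0 ?_
  have h1 := mul_mem (mul_mem (mul_mem hh hmem) (inv_mem hh)) (inv_mem hmem)
  rw [show h * (tu q u' d₁ * tu q w' d₂) * h⁻¹ = (h * tu q u' d₁ * h⁻¹) * (h * tu q w' d₂ * h⁻¹) by group,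
    conj_tu hhU hu2, conj_tu hhU hw2, e1, e2, _root_.mul_inv_rev, tu_inv hu2, tu_inv hw2] at h1
  rw [show tu q (u' + z) d₁ * tu q w' d₂ * (tu q w' (-d₂) * tu q u' (-d₁)) =
    tu q (u' + z) d₁ * (tu q w' d₂ * tu q w' (-d₂)) * tu q u' (-d₁) by group, tu_mul hw2, add_neg_cancel,
    tu_zero, mul_one] at h1
  exact h1

end

/-- everything from both parts -/
theorem full_all (hF : Fintype.card F = q ^ 2) (hp : Pol q k U W) {M : Subgroup (GL (Fin n) F)}
    (hU : ∀ u ∈ U, u ∈ Full q M) (hW : ∀ w ∈ W, w ∈ Full q M) :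
    ∀ v, Cfsg.hermForm n F q v v = 0 → v ∈ Full q M := by
  have nd : ∀ u ∈ U, ∀ w ∈ W, Cfsg.hermForm n F q u w ≠ 0 → Tz q (Cfsg.hermForm n F q u w) → u + w ∈ Full q M := by
    intro u hu w hw h0 htz
    have h := SUFull.full_move hF (hU u hu) (hW w hw) (SUGen.tz_inv hF htz h0)
    rwa [inv_mul_cancel₀ h0, one_smul] at h
  intro v hv
  obtain ⟨u, hu, w, hw, rfl⟩ := hp.decomp v
  have hwu : Cfsg.hermForm n F q w u = (Cfsg.hermForm n F q u w) ^ q := (form_comm hF u w).symm
  have htz : Tz q (Cfsg.hermForm n F q u w) := by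
    rw [form_add_left, form_add_right hF, form_add_right hF, hp.hU u hu u hu, hp.hW w hw w hw, hwu] at hv
    unfold SUGen.Tz
    linear_combination hv
  by_cases h0 : Cfsg.hermForm n F q u w ≠ 0
  · exact nd u hu w hw h0 htz
  push Not at h0
  by_cases hw0 : w = 0
  · rw [hw0, add_zero]; exact hU u hu
  obtain ⟨u0, hu0, hu0w⟩ : ∃ u0 ∈ U, Cfsg.hermForm n F q w u0 ≠ 0 := by
    by_contra h
    push Not at h
    exact hw0 (hp.symm.zero_of_orth hF hw fun y hy => form_eq_zero_symm hF (h y hy))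
  obtain ⟨c, hc, hc0⟩ := SUGen.exists_tz hF
  have huu0 := hp.hU u0 hu0 u0 hu0
  obtain ⟨t, ht⟩ : ∃ t, t = c * Cfsg.hermForm n F q w u0 := ⟨_, rfl⟩
  have hd : Cfsg.hermForm n F q (u + t • u0) w = c * (Cfsg.hermForm n F q w u0 * Cfsg.hermForm n F q w u0 ^ q) := by
    rw [form_add_left, form_smul_left, h0, form_comm hF, ht]; ring
  have h1 : u + t • u0 + w ∈ Full q M := nd _ (U.add_mem hu (U.smul_mem _ hu0)) w hw
    (by rw [hd]; exact mul_ne_zero hc0 (mul_ne_zero hu0w (pow_ne_zero _ hu0w)))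
    (by rw [hd, mul_comm]; exact SUFull.tz_norm_mul hF hc _)
  have h2 := SUFull.full_map ((hU u0 hu0).2 _ (SUGen.tz_neg hF hc))
    (SUGen.tu_mem_GU hF u0 (SUGen.tz_neg hF hc)) h1
  rw [tu_mulVec huu0, form_add_left, form_add_left, form_smul_left, hp.hU u hu u0 hu0, huu0] at h2
  convert h2 using 1
  rw [ht]
  module

/-- exchanging the parts -/
theorem exists_swap (hF : Fintype.card F = q ^ 2) (hp : Pol q k U W) :
    ∃ s ∈ SUGen.T n F q, (∀ x ∈ U, (s : Matrix (Fin n) (Fin n) F) *ᵥ x ∈ W) ∧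
      (∀ x ∈ W, (s : Matrix (Fin n) (Fin n) F) *ᵥ x ∈ U) := by
  classical
  obtain ⟨bu⟩ : Nonempty (Module.Basis (Fin k) F U) := ⟨Module.finBasisOfFinrankEq F U hp.dimU⟩
  have hind : LinearIndependent F (fun i => (bu i : Fin n → F)) :=
    bu.linearIndependent.map' U.subtype (by simp)
  choose w hw hwv using fun i : Fin k => hp.exists_vals hF (fun j => (bu j : Fin n → F)) (fun j => (bu j).2) hind
    (fun j => if j = i then (1 : F) else 0)
  obtain ⟨δ, hδ, hδ0⟩ := SUGen.exists_tz hF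
  have hu : ∀ i, Cfsg.hermForm n F q (bu i : Fin n → F) (bu i : Fin n → F) = 0 := fun i => hp.hU _ (bu i).2 _ (bu i).2
  have hwi : ∀ i, Cfsg.hermForm n F q (w i) (w i) = 0 := fun i => hp.hW _ (hw i) _ (hw i)
  have hwu : ∀ i j, Cfsg.hermForm n F q (w i) (bu j : Fin n → F) = if j = i then 1 else 0 := fun i j => by
    rw [← form_comm hF _ (w i), hwv i j]
    split
    · rw [one_pow]
    · rw [zero_pow (by have := Herm.two_le hF; omega)]
  let Wd : Fin k → GL (Fin n) F := fun i =>
    tu q (bu i : Fin n → F) δ * tu q (w i) (-δ⁻¹) * tu q (bu i : Fin n → F) δ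
  have hWT : ∀ i, Wd i ∈ SUGen.T n F q := fun i => mul_mem (mul_mem (tu_mem_T (hu i) hδ)
    (tu_mem_T (hwi i) (SUGen.tz_neg hF (SUGen.tz_inv hF hδ hδ0)))) (tu_mem_T (hu i) hδ)
  have hWv : ∀ i x, (Wd i : Matrix (Fin n) (Fin n) F) *ᵥ x =
      x + (-δ⁻¹ * Cfsg.hermForm n F q x (w i) - Cfsg.hermForm n F q x (bu i : Fin n → F)) • w i +
        (δ * Cfsg.hermForm n F q x (bu i : Fin n → F) - Cfsg.hermForm n F q x (w i)) • (bu i : Fin n → F) := by
    intro i x
    simp only [Wd, Units.val_mul, ← Matrix.mulVec_mulVec, tu_mulVec (hu i), tu_mulVec (hwi i), form_add_left,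
      form_smul_left, hu i, hwi i, hwu i i, hwv i i, ↓reduceIte]
    match_scalars <;> field_simp <;> ring
  have hlist : ∀ l : List (Fin k), l.Nodup →
      (∀ j, ((l.map Wd).prod : GL (Fin n) F).1 *ᵥ (bu j : Fin n → F) =
        if j ∈ l then (-δ⁻¹) • w j else (bu j : Fin n → F)) ∧
      (∀ j, ((l.map Wd).prod : GL (Fin n) F).1 *ᵥ w j =
        if j ∈ l then δ • (bu j : Fin n → F) else w j) := by
    intro l
    induction l with
    | nil => intro _; constructor <;> intro j <;> simp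
    | cons i l ih =>
      intro hnd
      rw [List.nodup_cons] at hnd
      obtain ⟨i1, i2⟩ := ih hnd.2
      have a1 : ∀ j, (Wd i : Matrix (Fin n) (Fin n) F) *ᵥ (bu j : Fin n → F) =
          if j = i then (-δ⁻¹) • w j else (bu j : Fin n → F) := by
        intro j
        rw [hWv, hwv i j, hp.hU _ (bu j).2 _ (bu i).2]
        by_cases h : j = i
        · subst h; simp only [↓reduceIte]; module
        · simp only [h, ↓reduceIte]; simp
      have a2 : ∀ j, (Wd i : Matrix (Fin n) (Fin n) F) *ᵥ w j =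
          if j = i then δ • (bu j : Fin n → F) else w j := by
        intro j
        rw [hWv, hwu j i, hp.hW _ (hw j) _ (hw i)]
        by_cases h : j = i
        · subst h; simp only [↓reduceIte]; module
        · simp only [h, Ne.symm h, ↓reduceIte]; simp
      constructor <;> intro j <;>
        rw [List.map_cons, List.prod_cons, Units.val_mul, ← Matrix.mulVec_mulVec]
      · rw [i1 j]
        by_cases hj : j ∈ l
        · have hji : j ≠ i := fun h => hnd.1 (h ▸ hj)
          rw [if_pos hj, Matrix.mulVec_smul, a2, if_neg hji, if_pos (List.mem_cons_of_mem i hj)]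
        · rw [if_neg hj, a1]; simp [hj]
      · rw [i2 j]
        by_cases hj : j ∈ l
        · have hji : j ≠ i := fun h => hnd.1 (h ▸ hj)
          rw [if_pos hj, Matrix.mulVec_smul, a1, if_neg hji, if_pos (List.mem_cons_of_mem i hj)]
        · rw [if_neg hj, a2]; simp [hj]
  obtain ⟨s1, s2⟩ := hlist (List.finRange k) (List.nodup_finRange k)
  refine ⟨((List.finRange k).map Wd).prod, list_prod_mem fun x hx => ?_, fun x hx => ?_, fun x hx => ?_⟩
  · obtain ⟨i, -, rfl⟩ := List.mem_map.1 hx; exact hWT i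
  · have e := congrArg Subtype.val (bu.sum_repr ⟨x, hx⟩)
    simp only [Submodule.coe_sum, Submodule.coe_smul] at e
    rw [← e, Matrix.mulVec_sum]
    refine Submodule.sum_mem _ fun j _ => ?_
    rw [Matrix.mulVec_smul, s1 j, if_pos (List.mem_finRange j)]
    exact W.smul_mem _ (W.smul_mem _ (hw j))
  · have e : x = ∑ j, Cfsg.hermForm n F q x (bu j : Fin n → F) • w j := by
      rw [← sub_eq_zero]
      refine hp.symm.zero_of_orth hF (W.sub_mem hx (Submodule.sum_mem _ fun j _ => W.smul_mem _ (hw j))) fun y hy => ?_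
      have e' := congrArg Subtype.val (bu.sum_repr ⟨y, hy⟩)
      simp only [Submodule.coe_sum, Submodule.coe_smul] at e'
      rw [← form_comm hF _ y, pow_eq_zero_iff (by have := Herm.two_le hF; omega), form_sub_left, sub_eq_zero]
      rw [← e']
      simp only [← Herm.hb_apply hF, map_sum, LinearMap.sum_apply, map_smul, LinearMap.smul_apply, LinearMap.map_smulₛₗ,
        Herm.conj_apply, smul_eq_mul, Finset.mul_sum]
      refine Finset.sum_congr rfl fun i _ => ?_
      rw [Finset.sum_eq_single i]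
      · rw [Herm.hb_apply, Herm.hb_apply, hwu i i, if_pos rfl]; ring
      · intro j _ hj; rw [Herm.hb_apply, Herm.hb_apply, hwu i j, if_neg hj]; ring
      · intro h; exact absurd (Finset.mem_univ i) h
    rw [e, Matrix.mulVec_sum]
    refine Submodule.sum_mem _ fun j _ => ?_
    rw [Matrix.mulVec_smul, s2 j, if_pos (List.mem_finRange j)]
    exact U.smul_mem _ (U.smul_mem _ (bu j).2)

end CfsgLib.Lie.PolDecompSU
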