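import Cfsg.Agent.Lie.PolDecompSU

/-!
Decompositions into two totally isotropic subspaces, second part: maximality.
-/

set_option autoImplicit false
set_option linter.unusedSimpArgs false
set_option linter.unusedSectionVars false

namespace CfsgLib.Lie.PolDecompSU

open Matrix
open CfsgLib.Lie.Herm (form_add_left form_add_right form_smul_left form_smul_right form_comm form_single mem_GU)
open CfsgLib.Lie.SUGen (tu tu_mulVec tu_mem_T tu_smul tu_mul tu_zero tu_inv conj_tu Tz form_sub_left form_sub_right)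
open CfsgLib.Lie.SUFull (Full form_eq_zero_symm form_zero_left)

variable {F : Type*} [Field F] [Fintype F] {q n k : ℕ} {U W : Submodule F (Fin n → F)}

/-- the commutator of two short root elements with a common centre -/
theorem comm_root (hF : Fintype.card F = q ^ 2) {a b d : Fin n → F} (haa : Cfsg.hermForm n F q a a = 0)
    (hab : Cfsg.hermForm n F q a b = 0) (had : Cfsg.hermForm n F q a d = 0) {E₁ E₂ : GL (Fin n) F} (c : F)
    (h₁ : ∀ v, (E₁ : Matrix (Fin n) (Fin n) F) *ᵥ v =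
      v + (c * Cfsg.hermForm n F q v b) • a - (c ^ q * Cfsg.hermForm n F q v a) • b)
    (h₂ : ∀ v, (E₂ : Matrix (Fin n) (Fin n) F) *ᵥ v =
      v + Cfsg.hermForm n F q v d • a - Cfsg.hermForm n F q v a • d) :
    E₁ * E₂ * E₁⁻¹ * E₂⁻¹ =
      tu q a (c ^ q * Cfsg.hermForm n F q b d - c * Cfsg.hermForm n F q b d ^ q) := by
  rw [mul_inv_eq_iff_eq_mul, mul_inv_eq_iff_eq_mul]
  refine FormMaxSL.gl_ext fun v => ?_
  have hba := form_eq_zero_symm hF hab
  have hda := form_eq_zero_symm hF had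
  rw [form_comm hF b d]
  simp only [Units.val_mul, ← Matrix.mulVec_mulVec, tu_mulVec haa, h₁, h₂, form_add_left, form_sub_left,
    form_smul_left, haa, hab, had, hba, hda, mul_zero, add_zero, zero_add, sub_zero]
  module

theorem root_conj {g e : GL (Fin n) F} (hg : g ∈ Cfsg.GU n F q) {x y : Fin n → F} {c : F}
    (he : ∀ v, (e : Matrix (Fin n) (Fin n) F) *ᵥ v =
      v + (c * Cfsg.hermForm n F q v y) • x - (c ^ q * Cfsg.hermForm n F q v x) • y) (v : Fin n → F) :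
    ((g * e * g⁻¹ : GL (Fin n) F) : Matrix (Fin n) (Fin n) F) *ᵥ v =
      v + (c * Cfsg.hermForm n F q v ((g : Matrix (Fin n) (Fin n) F) *ᵥ y)) • ((g : Matrix (Fin n) (Fin n) F) *ᵥ x)
        - (c ^ q * Cfsg.hermForm n F q v ((g : Matrix (Fin n) (Fin n) F) *ᵥ x)) • ((g : Matrix (Fin n) (Fin n) F) *ᵥ y) := by
  obtain ⟨z, rfl⟩ : ∃ z, (g : Matrix (Fin n) (Fin n) F) *ᵥ z = v := ⟨_, FormMaxSL.mulVec_inv_mulVec g v⟩
  rw [Units.val_mul, Units.val_mul, ← Matrix.mulVec_mulVec, ← Matrix.mulVec_mulVec, FormMaxSL.inv_mulVec_mulVec,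
    he, Matrix.mulVec_sub, Matrix.mulVec_add, Matrix.mulVec_smul, Matrix.mulVec_smul, mem_GU.1 hg, mem_GU.1 hg]

theorem exists_mu (hF : Fintype.card F = q ^ 2) {β : F} (hβ : β ≠ 0) :
    ∃ c : F, c ^ q * β - c * β ^ q ≠ 0 := by
  obtain ⟨θ, hθ⟩ := SUFull.exists_not_fixed hF
  refine ⟨(θ / β) ^ q, ?_⟩
  rw [Herm.pow_pow_q hF, div_mul_cancel₀ _ hβ, ← mul_pow, div_mul_cancel₀ _ hβ]
  exact hθ

section

variable (hF : Fintype.card F = q ^ 2) (hp : Pol q k U W) (M : Subgroup (GL (Fin n) F))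
  (hM : ∀ g ∈ Cfsg.GU n F q ⊓ Cfsg.Geo.specialLinear (Fin n) F,
    (∀ x ∈ U, (g : Matrix (Fin n) (Fin n) F) *ᵥ x ∈ U) → (∀ x ∈ W, (g : Matrix (Fin n) (Fin n) F) *ᵥ x ∈ W) → g ∈ M)
include hF hp hM

theorem case_mixed {g : GL (Fin n) F} (hg : g ∈ M) (hgU : g ∈ Cfsg.GU n F q) {u u' w' : Fin n → F} (hu : u ∈ U)
    (hu' : u' ∈ U) (hw' : w' ∈ W) (hu0 : u' ≠ 0) (hw0 : w' ≠ 0) (huw : Cfsg.hermForm n F q u' w' = 0)
    (hgu : (g : Matrix (Fin n) (Fin n) F) *ᵥ u = u' + w') :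
    (∀ x ∈ U, x ∈ Full q M) ∨ ∀ x ∈ W, x ∈ Full q M := by
  have hu2 := hp.hU u' hu' u' hu'
  have hw2 := hp.hW w' hw' w' hw'
  have hwu := form_eq_zero_symm hF huw
  have hune : u ≠ 0 := fun h => by
    rw [h, Matrix.mulVec_zero] at hgu
    exact hu0 (hp.inj hu' ((eq_neg_of_add_eq_zero_left hgu.symm) ▸ W.neg_mem hw'))
  by_cases hs : ∃ w ∈ W, Cfsg.hermForm n F q u w = 0 ∧
      Cfsg.hermForm n F q ((g : Matrix (Fin n) (Fin n) F) *ᵥ w) u' ≠ 0
  · obtain ⟨w, hw, huw1, hβ⟩ := hs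
    obtain ⟨c, hc⟩ := exists_mu hF hβ
    obtain ⟨e, he, -, -, hev⟩ := exists_root hF hp M hM hu hw huw1 c
    obtain ⟨e2, he2, -, -, he2v⟩ := exists_root hF hp M hM hu' hw' huw (-1)
    have hm1 : ((-1 : F)) ^ q = -1 := by rw [← Herm.conj_apply hF, map_neg, map_one]
    have h1 := root_conj hgU hev
    rw [hgu] at h1
    have hab : Cfsg.hermForm n F q (u' + w') ((g : Matrix (Fin n) (Fin n) F) *ᵥ w) = 0 := by
      rw [← hgu, mem_GU.1 hgU, huw1]
    have haa : Cfsg.hermForm n F q (u' + w') (u' + w') = 0 := by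
      simp only [form_add_left, form_add_right hF, hu2, hw2, huw, hwu, add_zero]
    have had : Cfsg.hermForm n F q (u' + w') u' = 0 := by rw [form_add_left, hu2, hwu, add_zero]
    have h2 : ∀ v, (e2 : Matrix (Fin n) (Fin n) F) *ᵥ v =
        v + Cfsg.hermForm n F q v u' • (u' + w') - Cfsg.hermForm n F q v (u' + w') • u' := by
      intro v; rw [he2v, hm1, form_add_right hF]; module
    have hmem := mul_mem (mul_mem (mul_mem (mul_mem (mul_mem hg he) (inv_mem hg)) he2)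
      (inv_mem (mul_mem (mul_mem hg he) (inv_mem hg)))) (inv_mem he2)
    rw [comm_root hF haa hab had c h1 h2] at hmem
    refine Or.inl (full_U_of_mixed hF hp M hM hu' hw' hu0 huw ?_ hc hmem)
    have := SUFull.tz_sub_conj hF (c ^ q * Cfsg.hermForm n F q ((g : Matrix (Fin n) (Fin n) F) *ᵥ w) u')
    rwa [mul_pow, Herm.pow_pow_q hF] at this
  push Not at hs
  -- the plane is the image of a plane of the same kind
  obtain ⟨p, hp'⟩ : ∃ p, p = ((g⁻¹ : GL (Fin n) F) : Matrix (Fin n) (Fin n) F) *ᵥ u' := ⟨_, rfl⟩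
  have hgp : (g : Matrix (Fin n) (Fin n) F) *ᵥ p = u' := by rw [hp', FormMaxSL.mulVec_inv_mulVec]
  obtain ⟨pU, hpU, pW, hpW, hpp⟩ := hp.decomp p
  have horth : ∀ w ∈ W, Cfsg.hermForm n F q u w = 0 → Cfsg.hermForm n F q w pU = 0 := by
    intro w hw h0
    have h1 := hs w hw h0
    rw [← hgp, mem_GU.1 hgU, ← hpp, form_add_right hF, hp.hW w hw pW hpW, add_zero] at h1
    exact h1
  obtain ⟨y0, hy0, hy0v⟩ := hp.exists_vals hF ![u] (fun i => by fin_cases i; exact hu)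
    (Fintype.linearIndependent_iff.2 fun c hc i => by fin_cases i; simpa [hune] using hc) ![1]
  have hy01 := hy0v 0
  simp only [Matrix.cons_val_zero] at hy01
  obtain ⟨lam, hlam⟩ : ∃ lam, pU = lam • u := by
    refine ⟨Cfsg.hermForm n F q pU y0, sub_eq_zero.1 (hp.zero_of_orth hF (U.sub_mem hpU (U.smul_mem _ hu)) fun y hy => ?_)⟩
    have h1 := horth (y - (Cfsg.hermForm n F q u y) ^ q • y0) (W.sub_mem hy (W.smul_mem _ hy0))
      (by rw [form_sub_right hF, form_smul_right, Herm.pow_pow_q hF, hy01, mul_one, sub_self])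
    rw [form_sub_left, form_smul_left, ← form_comm hF pU y0] at h1
    rw [form_sub_right hF, form_smul_right, ← form_comm hF u y]
    linear_combination h1
  have hb : (g : Matrix (Fin n) (Fin n) F) *ᵥ pW = (1 - lam) • u' - lam • w' := by
    rw [show pW = p - lam • u by rw [← hpp, hlam]; abel, Matrix.mulVec_sub, Matrix.mulVec_smul, hgp, hgu]
    module
  have hupW : Cfsg.hermForm n F q u pW = 0 := by
    rw [← mem_GU.1 hgU, hgu, hb, form_sub_right hF]
    simp only [form_smul_right, form_add_left, hu2, hw2, huw, hwu]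
    ring
  -- the diagonal element
  have diag : ∀ c : F, tu q u' (c * (1 - lam) ^ q - c ^ q * (1 - lam)) *
      tu q w' (c ^ q * lam - c * lam ^ q) ∈ M := by
    intro c
    obtain ⟨e, he, -, -, hev⟩ := exists_root hF hp M hM hu hpW hupW c
    obtain ⟨e2, he2, -, -, he2v⟩ := exists_root hF hp M hM hu' hw' huw (-(c ^ q * (1 - lam) + c * lam ^ q))
    have hq' : (-(c ^ q * (1 - lam) + c * lam ^ q)) ^ q = -(c * (1 - lam) ^ q + c ^ q * lam) := by
      rw [← Herm.conj_apply hF, map_neg, map_add, map_mul, map_mul]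
      simp only [Herm.conj_apply, Herm.pow_pow_q hF]
    have h1 := root_conj hgU hev
    rw [hgu, hb] at h1
    have hmem := mul_mem (mul_mem (mul_mem hg he) (inv_mem hg)) (inv_mem he2)
    convert hmem using 1
    rw [eq_mul_inv_iff_mul_eq]
    refine FormMaxSL.gl_ext fun v => ?_
    rw [Units.val_mul (a := _ * _), Units.val_mul (a := tu q u' _), ← Matrix.mulVec_mulVec, ← Matrix.mulVec_mulVec, h1]
    simp only [tu_mulVec hu2, tu_mulVec hw2, he2v, hq', form_add_left, form_add_right hF, form_sub_left,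
      form_sub_right hF, form_smul_left, form_smul_right, hu2, hw2, huw, hwu, mul_zero, add_zero, sub_zero, zero_add]
    module
  have htz : ∀ x : F, Tz q (x - x ^ q) := SUFull.tz_sub_conj hF
  obtain ⟨θ, hθ⟩ := SUFull.exists_not_fixed hF
  by_cases hl : 1 - lam = 0
  · have hl1 : lam = 1 := by linear_combination -hl
    have h1 := diag (θ ^ q)
    rw [hl1, one_pow, mul_one, mul_one, sub_self, zero_pow (by have := Herm.two_le hF; omega), mul_zero, mul_zero,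
      sub_zero, tu_zero, one_mul, Herm.pow_pow_q hF] at h1
    exact Or.inr (full_U_of_mem hF hp.symm M (fun x hx a b => hM x hx b a) hw' hw0 (htz θ) hθ h1)
  · obtain ⟨c, hc⟩ : ∃ c, c = θ / (1 - lam) ^ q := ⟨_, rfl⟩
    have hd : c * (1 - lam) ^ q = θ := by rw [hc, div_mul_cancel₀ _ (pow_ne_zero _ hl)]
    have hd' : c ^ q * (1 - lam) = θ ^ q := by rw [← hd, mul_pow, Herm.pow_pow_q hF]
    refine Or.inl (full_U_of_diag hF hp M hM hu' hw' hu0 huw (d₁ := θ - θ ^ q) (d₂ := c ^ q * lam - c * lam ^ q) (htz θ) hθ ?_)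
    have h1 := diag c
    rw [hd, hd'] at h1
    exact h1

theorem case_U {g : GL (Fin n) F} (hg : g ∈ M) (hgU : g ∈ Cfsg.GU n F q) {u : Fin n → F} (hu : u ∈ U) (hu0 : u ≠ 0)
    (ha : (g : Matrix (Fin n) (Fin n) F) *ᵥ u ∈ U) :
    (∀ x ∈ U, x ∈ Full q M) ∨
      ∀ w ∈ W, Cfsg.hermForm n F q u w = 0 → (g : Matrix (Fin n) (Fin n) F) *ᵥ w ∈ W := by
  by_cases hfull : ∀ x ∈ U, x ∈ Full q M
  · exact Or.inl hfull
  refine Or.inr fun w hw huw => ?_
  obtain ⟨a, hga⟩ : ∃ a, a = (g : Matrix (Fin n) (Fin n) F) *ᵥ u := ⟨_, rfl⟩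
  rw [← hga] at ha
  have haa := hp.hU a ha a ha
  have ha0 : a ≠ 0 := fun h => hu0 (by
    rw [← FormMaxSL.inv_mulVec_mulVec g u, ← hga, h, Matrix.mulVec_zero])
  obtain ⟨b, hb⟩ : ∃ b, b = (g : Matrix (Fin n) (Fin n) F) *ᵥ w := ⟨_, rfl⟩
  have hab : Cfsg.hermForm n F q a b = 0 := by rw [hga, hb, mem_GU.1 hgU, huw]
  obtain ⟨bU, hbU, bW, hbW, hbb⟩ := hp.decomp b
  have horth : ∀ y ∈ W, Cfsg.hermForm n F q a y = 0 → Cfsg.hermForm n F q bU y = 0 := by
    intro y hy hay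
    by_contra hne
    have hβ : Cfsg.hermForm n F q b y ≠ 0 := by
      rw [← hbb, form_add_left, hp.hW bW hbW y hy, add_zero]; exact hne
    obtain ⟨c, hc⟩ := exists_mu hF hβ
    obtain ⟨e, he, -, -, hev⟩ := exists_root hF hp M hM hu hw huw c
    obtain ⟨e2, he2, -, -, he2v⟩ := exists_root hF hp M hM ha hy hay 1
    have h1 := root_conj hgU hev
    rw [← hga, ← hb] at h1
    have h2 : ∀ v, (e2 : Matrix (Fin n) (Fin n) F) *ᵥ v =
        v + Cfsg.hermForm n F q v y • a - Cfsg.hermForm n F q v a • y := by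
      intro v; rw [he2v, one_mul, one_pow, one_mul]
    have hmem := mul_mem (mul_mem (mul_mem (mul_mem (mul_mem hg he) (inv_mem hg)) he2)
      (inv_mem (mul_mem (mul_mem hg he) (inv_mem hg)))) (inv_mem he2)
    rw [comm_root hF haa hab hay c h1 h2] at hmem
    refine hfull (full_U_of_mem hF hp M hM ha ha0 ?_ hc hmem)
    have := SUFull.tz_sub_conj hF (c ^ q * Cfsg.hermForm n F q b y)
    rwa [mul_pow, Herm.pow_pow_q hF] at this
  obtain ⟨y0, hy0, hy0v⟩ := hp.exists_vals hF ![a] (fun i => by fin_cases i; exact ha)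
    (Fintype.linearIndependent_iff.2 fun c hc i => by fin_cases i; simpa [ha0] using hc) ![1]
  have hy01 := hy0v 0
  simp only [Matrix.cons_val_zero] at hy01
  obtain ⟨μ, hμ⟩ : ∃ μ, bU = μ • a := by
    refine ⟨Cfsg.hermForm n F q bU y0, sub_eq_zero.1 (hp.zero_of_orth hF (U.sub_mem hbU (U.smul_mem _ ha)) fun y hy => ?_)⟩
    refine form_eq_zero_symm hF ?_
    have h1 := horth (y - (Cfsg.hermForm n F q a y) ^ q • y0) (W.sub_mem hy (W.smul_mem _ hy0))
      (by rw [form_sub_right hF, form_smul_right, Herm.pow_pow_q hF, hy01, mul_one, sub_self])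
    rw [form_sub_right hF, form_smul_right, Herm.pow_pow_q hF] at h1
    rw [form_sub_left, form_smul_left]
    linear_combination h1
  by_cases hμ0 : μ = 0
  · rw [← hb, ← hbb, hμ, hμ0, zero_smul, zero_add]; exact hbW
  exfalso
  have hay : Cfsg.hermForm n F q a bW = 0 := by
    rw [← hbb, hμ, form_add_right hF, form_smul_right, haa, mul_zero, zero_add] at hab
    exact hab
  obtain ⟨θ, hθ⟩ := SUFull.exists_not_fixed hF
  obtain ⟨c, hc⟩ : ∃ c, c = θ / μ ^ q := ⟨_, rfl⟩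
  have hd : c * μ ^ q = θ := by rw [hc, div_mul_cancel₀ _ (pow_ne_zero _ hμ0)]
  have hd' : c ^ q * μ = θ ^ q := by rw [← hd, mul_pow, Herm.pow_pow_q hF]
  obtain ⟨e, he, -, -, hev⟩ := exists_root hF hp M hM hu hw huw c
  obtain ⟨e2, he2, -, -, he2v⟩ := exists_root hF hp M hM ha hbW hay c
  have h1 := root_conj hgU hev
  rw [← hga, ← hb, ← hbb, hμ] at h1
  have hmem := mul_mem (mul_mem (mul_mem hg he) (inv_mem hg)) (inv_mem he2)
  refine hfull (full_U_of_mem hF hp M hM ha ha0 (SUFull.tz_sub_conj hF θ) hθ ?_)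
  convert hmem using 1
  rw [eq_mul_inv_iff_mul_eq]
  refine FormMaxSL.gl_ext fun v => ?_
  rw [Units.val_mul (a := tu q a _), ← Matrix.mulVec_mulVec, h1, ← hd, mul_pow, Herm.pow_pow_q hF]
  simp only [tu_mulVec haa, he2v, form_add_left, form_add_right hF, form_sub_left,
    form_sub_right hF, form_smul_left, form_smul_right, haa, hay, form_eq_zero_symm hF hay, mul_zero, add_zero, sub_zero, zero_add]
  module

theorem one_side {g : GL (Fin n) F} (hg : g ∈ M) (hgS : g ∈ Cfsg.GU n F q ⊓ Cfsg.Geo.specialLinear (Fin n) F)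
    {s : GL (Fin n) F} (hs : s ∈ M) (hsS : s ∈ Cfsg.GU n F q ⊓ Cfsg.Geo.specialLinear (Fin n) F)
    (hsU : ∀ x ∈ U, (s : Matrix (Fin n) (Fin n) F) *ᵥ x ∈ W) (hsW : ∀ x ∈ W, (s : Matrix (Fin n) (Fin n) F) *ᵥ x ∈ U)
    (hnU : ¬ ∀ x ∈ U, (g : Matrix (Fin n) (Fin n) F) *ᵥ x ∈ U) (hnW : ¬ ∀ x ∈ U, (g : Matrix (Fin n) (Fin n) F) *ᵥ x ∈ W) :
    (∀ x ∈ U, x ∈ Full q M) ∨ ∀ x ∈ W, x ∈ Full q M := by
  -- reduce to images without vectors in `W`
  suffices key : ∀ g ∈ M, g ∈ Cfsg.GU n F q ⊓ Cfsg.Geo.specialLinear (Fin n) F →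
      (¬ ∀ x ∈ U, (g : Matrix (Fin n) (Fin n) F) *ᵥ x ∈ U) →
      (∀ x ∈ U, (g : Matrix (Fin n) (Fin n) F) *ᵥ x ∈ W → x = 0) →
      (∀ x ∈ U, ∀ a ∈ U, ∀ b ∈ W, (g : Matrix (Fin n) (Fin n) F) *ᵥ x = a + b →
        Cfsg.hermForm n F q a b = 0 → a = 0 ∨ b = 0) →
      (∀ x ∈ U, x ∈ Full q M) ∨ ∀ x ∈ W, x ∈ Full q M by
    by_cases hmix : ∃ x ∈ U, ∃ a ∈ U, ∃ b ∈ W, (g : Matrix (Fin n) (Fin n) F) *ᵥ x = a + b ∧
        Cfsg.hermForm n F q a b = 0 ∧ a ≠ 0 ∧ b ≠ 0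
    · obtain ⟨x, hx, a, ha, b, hb, hab, h0, ha0, hb0⟩ := hmix
      exact case_mixed hF hp M hM hg hgS.1 hx ha hb ha0 hb0 h0 hab
    push Not at hmix
    have hno : ∀ x ∈ U, ∀ a ∈ U, ∀ b ∈ W, (g : Matrix (Fin n) (Fin n) F) *ᵥ x = a + b →
        Cfsg.hermForm n F q a b = 0 → a = 0 ∨ b = 0 := fun x hx a ha b hb h h0 =>
      or_iff_not_imp_left.2 (hmix x hx a ha b hb h h0)
    by_cases hRW : ∀ x ∈ U, (g : Matrix (Fin n) (Fin n) F) *ᵥ x ∈ W → x = 0
    · exact key g hg hgS hnU hRW hno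
    push Not at hRW
    obtain ⟨x0, hx0, hx0W, hx00⟩ := hRW
    have hsg : ∀ x, ((s * g : GL (Fin n) F) : Matrix (Fin n) (Fin n) F) *ᵥ x =
        (s : Matrix (Fin n) (Fin n) F) *ᵥ ((g : Matrix (Fin n) (Fin n) F) *ᵥ x) := fun x => by
      rw [Units.val_mul, ← Matrix.mulVec_mulVec]
    have hsplit : ∀ y, ∀ a ∈ U, ∀ b ∈ W, (s : Matrix (Fin n) (Fin n) F) *ᵥ y = a + b →
        ∀ yU ∈ U, ∀ yW ∈ W, yU + yW = y → (s : Matrix (Fin n) (Fin n) F) *ᵥ yW = a ∧ (s : Matrix (Fin n) (Fin n) F) *ᵥ yU = b := by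
      intro y a ha b hb h yU hyU yW hyW hy
      rw [← hy, Matrix.mulVec_add] at h
      have e : (s : Matrix (Fin n) (Fin n) F) *ᵥ yW - a = b - (s : Matrix (Fin n) (Fin n) F) *ᵥ yU :=
        sub_eq_sub_iff_add_eq_add.2 (by linear_combination (norm := module) h)
      have h0 := hp.inj (U.sub_mem (hsW yW hyW) ha) (by rw [e]; exact W.sub_mem hb (hsU yU hyU))
      exact ⟨sub_eq_zero.1 h0, (sub_eq_zero.1 (e.symm.trans h0)).symm⟩
    have hsinj : ∀ y, (s : Matrix (Fin n) (Fin n) F) *ᵥ y = 0 → y = 0 := fun y h => by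
      rw [← FormMaxSL.inv_mulVec_mulVec s y, h, Matrix.mulVec_zero]
    refine key (s * g) (mul_mem hs hg) (mul_mem hsS hgS) (fun h => hnW fun x hx => ?_) (fun x hx hxW => ?_)
      (fun x hx a ha b hb h h0 => ?_)
    · obtain ⟨yU, hyU, yW, hyW, hy⟩ := hp.decomp ((g : Matrix (Fin n) (Fin n) F) *ᵥ x)
      have h1 := hsplit _ _ (h x hx) 0 (zero_mem _) (by rw [hsg, add_zero]) yU hyU yW hyW hy
      rw [← hy, hsinj _ h1.2, zero_add]; exact hyW
    · obtain ⟨yU, hyU, yW, hyW, hy⟩ := hp.decomp ((g : Matrix (Fin n) (Fin n) F) *ᵥ x)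
      rw [hsg] at hxW
      have h1 := hsplit _ 0 (zero_mem _) _ hxW (zero_add _).symm yU hyU yW hyW hy
      have hyW0 := hsinj _ h1.1
      rw [hyW0, add_zero] at hy
      -- both parts would give a mixed image
      by_contra hx1
      have h2 : Cfsg.hermForm n F q ((g : Matrix (Fin n) (Fin n) F) *ᵥ x) ((g : Matrix (Fin n) (Fin n) F) *ᵥ x0) = 0 := by
        rw [mem_GU.1 hgS.1, hp.hU x hx x0 hx0]
      rcases hno (x + x0) (U.add_mem hx hx0) _ (hy ▸ hyU) _ hx0W (Matrix.mulVec_add _ _ _) h2 with h3 | h3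
      · exact hx1 (by rw [← FormMaxSL.inv_mulVec_mulVec g x, h3, Matrix.mulVec_zero])
      · exact hx00 (by rw [← FormMaxSL.inv_mulVec_mulVec g x0, h3, Matrix.mulVec_zero])
    · obtain ⟨yU, hyU, yW, hyW, hy⟩ := hp.decomp ((g : Matrix (Fin n) (Fin n) F) *ᵥ x)
      rw [hsg] at h
      obtain ⟨h1, h2⟩ := hsplit _ a ha b hb h yU hyU yW hyW hy
      have h3 : Cfsg.hermForm n F q yW yU = 0 := by rw [← mem_GU.1 hsS.1, h1, h2, h0]
      rcases hno x hx yU hyU yW hyW hy.symm (form_eq_zero_symm hF h3) with h4 | h4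
      · right; rw [← h2, h4, Matrix.mulVec_zero]
      · left; rw [← h1, h4, Matrix.mulVec_zero]
  intro g hg hgS hnU hRW hno
  have hgU := hgS.1
  classical
  -- the vectors mapped into `U`
  let R : Submodule F (Fin n → F) := U ⊓ U.comap (Matrix.toLin' (g : Matrix (Fin n) (Fin n) F))
  have hR : ∀ x, x ∈ R ↔ x ∈ U ∧ (g : Matrix (Fin n) (Fin n) F) *ᵥ x ∈ U := fun x => by
    simp [R, Matrix.toLin'_apply]
  let π : (Fin n → F) →ₗ[F] (Fin n → F) := U.subtype ∘ₗ Submodule.linearProjOfIsCompl U W hp.compl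
  have hπ : ∀ a ∈ U, ∀ b ∈ W, π (a + b) = a := by
    intro a ha b hb
    simp only [π, map_add, LinearMap.comp_apply]
    rw [show Submodule.linearProjOfIsCompl U W hp.compl a = ⟨a, ha⟩ from Submodule.linearProjOfIsCompl_apply_left hp.compl ⟨a, ha⟩,
      show Submodule.linearProjOfIsCompl U W hp.compl b = 0 from Submodule.linearProjOfIsCompl_apply_right hp.compl ⟨b, hb⟩]
    simp
  let bb : (Fin n → F) → (Fin n → F) → F := fun x y =>
    Cfsg.hermForm n F q (π ((g : Matrix (Fin n) (Fin n) F) *ᵥ x)) ((g : Matrix (Fin n) (Fin n) F) *ᵥ y)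
  have hskew : ∀ x ∈ U, ∀ y ∈ U, bb x y + bb y x ^ q = 0 := by
    intro x hx y hy
    obtain ⟨a, ha, b, hb, hab⟩ := hp.decomp ((g : Matrix (Fin n) (Fin n) F) *ᵥ x)
    obtain ⟨c, hc, d, hd, hcd⟩ := hp.decomp ((g : Matrix (Fin n) (Fin n) F) *ᵥ y)
    have h0 : Cfsg.hermForm n F q ((g : Matrix (Fin n) (Fin n) F) *ᵥ x) ((g : Matrix (Fin n) (Fin n) F) *ᵥ y) = 0 := by
      rw [mem_GU.1 hgU, hp.hU x hx y hy]
    simp only [bb, form_comm hF]
    rw [← hab, ← hcd, hπ a ha b hb, hπ c hc d hd]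
    rw [← hab, ← hcd] at h0
    simp only [form_add_left, form_add_right hF, hp.hU a ha c hc, hp.hW b hb d hd] at h0 ⊢
    linear_combination h0
  have hzero : ∀ x ∈ U, bb x x = 0 → x ∈ R := by
    intro x hx h0
    obtain ⟨a, ha, b, hb, hab⟩ := hp.decomp ((g : Matrix (Fin n) (Fin n) F) *ᵥ x)
    simp only [bb] at h0
    rw [← hab, hπ a ha b hb, form_add_right hF, hp.hU a ha a ha, zero_add] at h0
    rcases hno x hx a ha b hb hab.symm h0 with h | h
    · rw [h, zero_add] at hab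
      rw [hRW x hx (hab ▸ hb)]; exact zero_mem _
    · rw [h, add_zero] at hab
      exact (hR x).2 ⟨hx, hab ▸ ha⟩
  obtain ⟨x, hx, hxR⟩ : ∃ x ∈ U, x ∉ R := by
    by_contra h
    push Not at h
    exact hnU fun x hx => ((hR x).1 (h x hx)).2
  have hxx : bb x x ≠ 0 := fun h => hxR (hzero x hx h)
  have hspan : ∀ y ∈ U, ∃ t : F, y - t • x ∈ R := by
    intro y hy
    refine ⟨bb y x / bb x x, ?_⟩
    obtain ⟨y1, hy1⟩ : ∃ y1, y1 = y - (bb y x / bb x x) • x := ⟨_, rfl⟩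
    rw [← hy1]
    have hy1U : y1 ∈ U := hy1 ▸ U.sub_mem hy (U.smul_mem _ hx)
    have h1 : bb y1 x = 0 := by
      simp only [bb, hy1, Matrix.mulVec_sub, Matrix.mulVec_smul, map_sub, map_smul, form_sub_left, form_smul_left]
      field_simp [show Cfsg.hermForm n F q (π ((g : Matrix (Fin n) (Fin n) F) *ᵥ x)) ((g : Matrix (Fin n) (Fin n) F) *ᵥ x) ≠ 0 from hxx]
      ring
    have h2 : bb x y1 = 0 := by
      have := hskew x hx y1 hy1U
      rwa [h1, zero_pow (by have := Herm.two_le hF; omega), add_zero] at this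
    by_contra hy1R
    have hyy : bb y1 y1 ≠ 0 := fun h => hy1R (hzero y1 hy1U h)
    have s1 := hskew x hx x hx
    have s2 := hskew y1 hy1U y1 hy1U
    obtain ⟨μ, hμ0, hμ⟩ := Herm.exists_norm hF (-(bb x x) / bb y1 y1) (div_ne_zero (neg_ne_zero.2 hxx) hyy) (by
      rw [div_pow, ← Herm.conj_apply hF (-(bb x x)), map_neg, Herm.conj_apply,
        eq_neg_of_add_eq_zero_right s1, eq_neg_of_add_eq_zero_right s2]
      field_simp)
    have h3 : bb (x + μ • y1) (x + μ • y1) = 0 := by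
      have e1 : bb (x + μ • y1) (x + μ • y1) = bb x x + μ ^ q * bb x y1 + μ * bb y1 x + μ * μ ^ q * bb y1 y1 := by
        simp only [bb, Matrix.mulVec_add, Matrix.mulVec_smul, map_add, map_smul, form_add_left, form_add_right hF,
          form_smul_left, form_smul_right]
        ring
      rw [e1, h1, h2, hμ, div_mul_cancel₀ _ hyy]
      ring
    have h4 := hzero _ (U.add_mem hx (U.smul_mem _ hy1U)) h3
    -- the image of `y1` cannot lie in the hyperplane
    obtain ⟨a, ha, b, hb, hab⟩ := hp.decomp ((g : Matrix (Fin n) (Fin n) F) *ᵥ y1)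
    obtain ⟨c, hc, d, hd, hcd⟩ := hp.decomp ((g : Matrix (Fin n) (Fin n) F) *ᵥ x)
    have h5 := ((hR _).1 h4).2
    rw [Matrix.mulVec_add, Matrix.mulVec_smul, ← hab, ← hcd] at h5
    have h6 : d + μ • b = 0 := by
      refine hp.inj ?_ (W.add_mem hd (W.smul_mem _ hb))
      rw [show d + μ • b = (c + d + μ • (a + b)) - (c + μ • a) by module]
      exact U.sub_mem h5 (U.add_mem hc (U.smul_mem _ ha))
    simp only [bb] at h1 hyy
    rw [← hab, ← hcd, hπ a ha b hb, form_add_right hF, hp.hU a ha c hc, zero_add] at h1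
    rw [← hab, hπ a ha b hb, form_add_right hF, hp.hU a ha a ha, zero_add] at hyy
    rw [eq_neg_of_add_eq_zero_left h6, ← neg_smul, form_smul_right, mul_eq_zero] at h1
    exact hyy (h1.resolve_left (pow_ne_zero _ (neg_ne_zero.2 hμ0)))
  -- two independent vectors mapped into `U`
  have hdim : k ≤ Module.finrank F R + 1 := by
    have hle : U ≤ R ⊔ Submodule.span F {x} := by
      intro y hy
      obtain ⟨t, ht⟩ := hspan y hy
      rw [← sub_add_cancel y (t • x)]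
      exact Submodule.add_mem_sup ht (Submodule.smul_mem _ _ (Submodule.mem_span_singleton_self x))
    have h1 := Submodule.finrank_mono hle
    have h2 := Submodule.finrank_add_le_finrank_add_finrank R (Submodule.span F {x})
    have h3 : Module.finrank F (Submodule.span F {x}) ≤ 1 :=
      le_trans (finrank_span_le_card ({x} : Set (Fin n → F))) (by simp)
    have := hp.dimU
    omega
  obtain ⟨u1, hu1, hu10⟩ : ∃ u ∈ R, u ≠ 0 := by
    by_contra h
    push Not at h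
    rw [(Submodule.eq_bot_iff R).2 h, finrank_bot] at hdim
    have := hp.hk
    omega
  obtain ⟨u2, hu2, hu20⟩ : ∃ u ∈ R, u ∉ Submodule.span F {u1} := by
    by_contra h
    push Not at h
    have h1 := Submodule.finrank_mono (show R ≤ Submodule.span F {u1} from h)
    have h3 : Module.finrank F (Submodule.span F {u1}) ≤ 1 :=
      le_trans (finrank_span_le_card ({u1} : Set (Fin n → F))) (by simp)
    have := hp.hk
    omega
  rw [hR] at hu1 hu2
  rcases case_U hF hp M hM hg hgU hu1.1 hu10 hu1.2 with hf | hf1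
  · exact Or.inl hf
  rcases case_U hF hp M hM hg hgU hu2.1 (fun h => hu20 (h ▸ zero_mem _)) hu2.2 with hf | hf2
  · exact Or.inl hf
  obtain ⟨y2, hy2, hval⟩ := hp.exists_vals hF ![u1, u2]
    (fun i => by fin_cases i <;> [exact hu1.1; exact hu2.1]) (indep_pair hu10 hu20) ![1, 0]
  have hv1 := hval 0
  have hv2 := hval 1
  simp only [Matrix.cons_val] at hv1 hv2
  have hgW : ∀ y ∈ W, (g : Matrix (Fin n) (Fin n) F) *ᵥ y ∈ W := by
    intro y hy
    obtain ⟨t, ht⟩ : ∃ t, t = Cfsg.hermForm n F q u1 y ^ q := ⟨_, rfl⟩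
    rw [show y = (y - t • y2) + t • y2 by abel, Matrix.mulVec_add, Matrix.mulVec_smul]
    refine W.add_mem (hf1 _ (W.sub_mem hy (W.smul_mem _ hy2)) ?_) (W.smul_mem _ (hf2 _ hy2 hv2))
    rw [form_sub_right hF, form_smul_right, hv1, ht, Herm.pow_pow_q hF, mul_one, sub_self]
  obtain ⟨u0, hu0, w0, hw0, huw⟩ := hp.decomp ((g : Matrix (Fin n) (Fin n) F) *ᵥ x)
  obtain ⟨δ, hδ⟩ : ∃ δ, δ = Cfsg.hermForm n F q u0 w0 := ⟨_, rfl⟩
  have hδ0 : δ ≠ 0 := by
    intro h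
    apply hxx
    simp only [bb]
    rw [← huw, hπ u0 hu0 w0 hw0, form_add_right hF, hp.hU u0 hu0 u0 hu0, zero_add, ← hδ, h]
  have hδz : Tz q δ := by
    have h1 := hskew x hx x hx
    simp only [bb] at h1
    rw [← huw, hπ u0 hu0 w0 hw0, form_add_right hF, hp.hU u0 hu0 u0 hu0, zero_add, ← hδ] at h1
    unfold SUGen.Tz
    linear_combination h1
  have hw00 : w0 ≠ 0 := fun h => hδ0 (by rw [hδ, h, ← form_comm hF (0 : Fin n → F), form_zero_left,
    zero_pow (by have := Herm.two_le hF; omega)])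
  have hww := hp.hW w0 hw0 w0 hw0
  have htz := SUGen.tz_neg hF (SUGen.tz_inv hF hδz hδ0)
  obtain ⟨h, hh⟩ : ∃ h, h = tu q w0 (-δ⁻¹) * g := ⟨_, rfl⟩
  have hfixU : ∀ y ∈ R, (h : Matrix (Fin n) (Fin n) F) *ᵥ y ∈ U := by
    intro y hy
    rw [hR] at hy
    have h0 : Cfsg.hermForm n F q ((g : Matrix (Fin n) (Fin n) F) *ᵥ y) w0 = 0 := by
      have h1 := mem_GU.1 hgU y x
      rw [← huw, form_add_right hF, hp.hU _ hy.2 u0 hu0, zero_add, hp.hU y hy.1 x hx] at h1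
      exact h1
    rw [hh, Units.val_mul, ← Matrix.mulVec_mulVec, tu_mulVec hww, h0, mul_zero, zero_smul, add_zero]
    exact hy.2
  have hhU : ∀ y ∈ U, (h : Matrix (Fin n) (Fin n) F) *ᵥ y ∈ U := by
    intro y hy
    obtain ⟨t, ht⟩ := hspan y hy
    rw [← sub_add_cancel y (t • x), Matrix.mulVec_add, Matrix.mulVec_smul]
    refine U.add_mem (hfixU _ ht) (U.smul_mem _ ?_)
    rw [hh, Units.val_mul, ← Matrix.mulVec_mulVec, ← huw, tu_mulVec hww, form_add_left, hww, add_zero, ← hδ,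
      neg_mul, inv_mul_cancel₀ hδ0, neg_one_smul, add_neg_cancel_right]
    exact hu0
  have hhW : ∀ y ∈ W, (h : Matrix (Fin n) (Fin n) F) *ᵥ y ∈ W := by
    intro y hy
    rw [hh, Units.val_mul, ← Matrix.mulVec_mulVec, tu_mulVec hww, hp.hW _ (hgW y hy) w0 hw0, mul_zero, zero_smul,
      add_zero]
    exact hgW y hy
  have htS := SUGen.T_le hF (tu_mem_T hww htz)
  have htM := mul_mem (hM h (hh ▸ mul_mem htS hgS) hhU hhW) (inv_mem hg)
  rw [hh, mul_inv_cancel_right] at htM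
  exact Or.inr (full_U_of_mem hF hp.symm M (fun x hx a b => hM x hx b a) hw0 hw00 htz
    (neg_ne_zero.2 (inv_ne_zero hδ0)) htM)

end

/-- maximality -/
theorem maximal (hF : Fintype.card F = q ^ 2) (hn : 13 ≤ n) (hk : 2 * k = n) (D : Fin 2 → Submodule F (Fin n → F))
    (hD : Cfsg.Geo.IsMDecomposition k D) (hts : ∀ i, Cfsg.Geo.IsTotallySingularFor (Cfsg.hermForm n F q) (D i)) :
    Cfsg.Geo.IsMaximalIn (Cfsg.GU n F q ⊓ Cfsg.Geo.specialLinear (Fin n) F)
      (Cfsg.Geo.decompositionStabilizer D ⊓ (Cfsg.GU n F q ⊓ Cfsg.Geo.specialLinear (Fin n) F)) := by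
  have hp : Pol q k (D 0) (D 1) := by
    refine ⟨hts 0, hts 1, ⟨hD.indep.pairwiseDisjoint (by decide : (0 : Fin 2) ≠ 1), ?_⟩, hD.finrank_eq 0,
      hD.finrank_eq 1, by omega⟩
    rw [codisjoint_iff, eq_top_iff, ← hD.iSup_eq_top]
    exact iSup_le fun i => by fin_cases i <;> [exact le_sup_left; exact le_sup_right]
  -- membership in the stabiliser
  have himg : ∀ (g : GL (Fin n) F) (A B : Submodule F (Fin n → F)), Module.finrank F A = k → Module.finrank F B = k →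
      (∀ x ∈ A, (g : Matrix (Fin n) (Fin n) F) *ᵥ x ∈ B) →
      A.map (Matrix.toLin' (g : Matrix (Fin n) (Fin n) F)) = B := by
    intro g A B hA hB h
    refine Submodule.eq_of_le_of_finrank_le ?_ ?_
    · rintro _ ⟨x, hx, rfl⟩
      rw [Matrix.toLin'_apply]; exact h x hx
    · have hinj : Function.Injective (Matrix.toLin' (g : Matrix (Fin n) (Fin n) F)) := fun x y hxy => by
        rw [Matrix.toLin'_apply, Matrix.toLin'_apply] at hxy
        rw [← FormMaxSL.inv_mulVec_mulVec g x, hxy, FormMaxSL.inv_mulVec_mulVec]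
      rw [← (Submodule.equivMapOfInjective _ hinj A).finrank_eq]
      omega
  have hmem : ∀ g : GL (Fin n) F, g ∈ Cfsg.Geo.decompositionStabilizer D ↔
      ((∀ x ∈ D 0, (g : Matrix (Fin n) (Fin n) F) *ᵥ x ∈ D 0) ∧ (∀ x ∈ D 1, (g : Matrix (Fin n) (Fin n) F) *ᵥ x ∈ D 1)) ∨
      ((∀ x ∈ D 0, (g : Matrix (Fin n) (Fin n) F) *ᵥ x ∈ D 1) ∧ (∀ x ∈ D 1, (g : Matrix (Fin n) (Fin n) F) *ᵥ x ∈ D 0)) := by
    intro g
    constructor
    · rintro ⟨σ, hσ⟩
      have h : ∀ i, ∀ x ∈ D i, (g : Matrix (Fin n) (Fin n) F) *ᵥ x ∈ D (σ i) := fun i x hx => by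
        rw [← hσ i]; exact ⟨x, hx, Matrix.toLin'_apply _ _⟩
      have h0 := h 0
      have h1 := h 1
      have key : ∀ τ : Equiv.Perm (Fin 2), (τ 0 = 0 ∧ τ 1 = 1) ∨ (τ 0 = 1 ∧ τ 1 = 0) := by decide
      rcases key σ with ⟨e0, e1⟩ | ⟨e0, e1⟩
      · rw [e0] at h0; rw [e1] at h1; exact Or.inl ⟨h0, h1⟩
      · rw [e0] at h0; rw [e1] at h1; exact Or.inr ⟨h0, h1⟩
    · rintro (⟨h0, h1⟩ | ⟨h0, h1⟩)
      · refine ⟨1, fun i => ?_⟩
        fin_cases i
        · exact himg g _ _ (hD.finrank_eq 0) (hD.finrank_eq 0) h0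
        · exact himg g _ _ (hD.finrank_eq 1) (hD.finrank_eq 1) h1
      · refine ⟨Equiv.swap 0 1, fun i => ?_⟩
        fin_cases i
        · exact himg g _ _ (hD.finrank_eq 0) (hD.finrank_eq 1) h0
        · exact himg g _ _ (hD.finrank_eq 1) (hD.finrank_eq 0) h1
  obtain ⟨s, hs, hs0, hs1⟩ := exists_swap hF hp
  have hsS := SUGen.T_le hF hs
  refine ⟨lt_of_le_of_ne inf_le_right ?_, ?_⟩
  · intro heq
    obtain ⟨u, hu, hu0⟩ : ∃ u ∈ D 0, u ≠ 0 := by
      by_contra h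
      push Not at h
      have := hD.finrank_eq 0
      rw [(Submodule.eq_bot_iff _).2 h, finrank_bot] at this
      have := hp.hk
      omega
    obtain ⟨y, hy, hval⟩ := hp.exists_vals hF ![u] (fun i => by fin_cases i; exact hu)
      (Fintype.linearIndependent_iff.2 fun c hc i => by fin_cases i; simpa [hu0] using hc) ![1]
    have hy1 := hval 0
    simp only [Matrix.cons_val_zero] at hy1
    obtain ⟨c, hc, hc0⟩ := SUGen.exists_tz hF
    have hyy := hp.hW y hy y hy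
    have h := (hmem _).1 (heq.ge (SUGen.T_le hF (tu_mem_T hyy hc))).1
    have e : (tu q y c : Matrix (Fin n) (Fin n) F) *ᵥ u = u + c • y := by rw [tu_mulVec hyy, hy1, mul_one]
    have hy0 : y ≠ 0 := fun h' => by
      rw [h', ← form_comm hF (0 : Fin n → F), form_zero_left, zero_pow (by have := Herm.two_le hF; omega)] at hy1
      exact zero_ne_one hy1
    rcases h with ⟨h0, -⟩ | ⟨h0, -⟩ <;> have h1 := h0 u hu <;> rw [e] at h1
    · have h2 := (D 0).sub_mem h1 hu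
      rw [add_sub_cancel_left] at h2
      exact smul_ne_zero hc0 hy0 (hp.inj h2 ((D 1).smul_mem _ hy))
    · have h2 := (D 1).sub_mem h1 ((D 1).smul_mem c hy)
      rw [add_sub_cancel_right] at h2
      exact hu0 (hp.inj hu h2)
  intro M hHM hMS
  by_cases hMH : M ≤ Cfsg.Geo.decompositionStabilizer D ⊓ (Cfsg.GU n F q ⊓ Cfsg.Geo.specialLinear (Fin n) F)
  · exact Or.inl (le_antisymm hMH hHM)
  right
  refine le_antisymm hMS ?_
  have hM : ∀ g ∈ Cfsg.GU n F q ⊓ Cfsg.Geo.specialLinear (Fin n) F,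
      (∀ x ∈ D 0, (g : Matrix (Fin n) (Fin n) F) *ᵥ x ∈ D 0) → (∀ x ∈ D 1, (g : Matrix (Fin n) (Fin n) F) *ᵥ x ∈ D 1) →
      g ∈ M := fun g hg h0 h1 => hHM ⟨(hmem g).2 (Or.inl ⟨h0, h1⟩), hg⟩
  have hsM : s ∈ M := hHM ⟨(hmem s).2 (Or.inr ⟨hs0, hs1⟩), hsS⟩
  obtain ⟨g, hgM, hgH⟩ := SetLike.not_le_iff_exists.1 hMH
  have hgS := hMS hgM
  obtain ⟨g', hg'M, hg'0, hg'1⟩ : ∃ g' ∈ M, (¬ ∀ x ∈ D 0, (g' : Matrix (Fin n) (Fin n) F) *ᵥ x ∈ D 0) ∧
      ¬ ∀ x ∈ D 0, (g' : Matrix (Fin n) (Fin n) F) *ᵥ x ∈ D 1 := by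
    by_contra hcon
    push Not at hcon
    -- images of both parts are parts
    have hU : (∀ x ∈ D 0, (g : Matrix (Fin n) (Fin n) F) *ᵥ x ∈ D 0) ∨ ∀ x ∈ D 0, (g : Matrix (Fin n) (Fin n) F) *ᵥ x ∈ D 1 :=
      or_iff_not_imp_left.2 fun h => hcon g hgM (by push Not at h; exact h)
    have hW : (∀ x ∈ D 1, (g : Matrix (Fin n) (Fin n) F) *ᵥ x ∈ D 0) ∨ ∀ x ∈ D 1, (g : Matrix (Fin n) (Fin n) F) *ᵥ x ∈ D 1 := by
      have hsimg : ∀ x ∈ D 1, ∃ y ∈ D 0, (s : Matrix (Fin n) (Fin n) F) *ᵥ y = x := by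
        intro x hx
        rw [← himg s (D 0) (D 1) (hD.finrank_eq 0) (hD.finrank_eq 1) hs0] at hx
        obtain ⟨y, hy, he⟩ := hx
        exact ⟨y, hy, by rw [← he, Matrix.toLin'_apply]⟩
      have h : (∀ x ∈ D 0, ((g * s : GL (Fin n) F) : Matrix (Fin n) (Fin n) F) *ᵥ x ∈ D 0) ∨
          ∀ x ∈ D 0, ((g * s : GL (Fin n) F) : Matrix (Fin n) (Fin n) F) *ᵥ x ∈ D 1 :=
        or_iff_not_imp_left.2 fun h => hcon (g * s) (mul_mem hgM hsM) (by push Not at h; exact h)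
      rcases h with h | h
      · refine Or.inl fun x hx => ?_
        obtain ⟨y, hy, rfl⟩ := hsimg x hx
        have := h y hy
        rwa [Units.val_mul, ← Matrix.mulVec_mulVec] at this
      · refine Or.inr fun x hx => ?_
        obtain ⟨y, hy, rfl⟩ := hsimg x hx
        have := h y hy
        rwa [Units.val_mul, ← Matrix.mulVec_mulVec] at this
    have hnot : ∀ i, (∀ x ∈ D 0, (g : Matrix (Fin n) (Fin n) F) *ᵥ x ∈ D i) →
        (∀ x ∈ D 1, (g : Matrix (Fin n) (Fin n) F) *ᵥ x ∈ D i) → False := by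
      intro i h0 h1
      have htop : ∀ x, x ∈ D i := by
        intro x
        obtain ⟨a, ha, b, hb, hab⟩ := hp.decomp (((g⁻¹ : GL (Fin n) F) : Matrix (Fin n) (Fin n) F) *ᵥ x)
        rw [← FormMaxSL.mulVec_inv_mulVec g x, ← hab, Matrix.mulVec_add]
        exact (D i).add_mem (h0 a ha) (h1 b hb)
      have := hD.finrank_eq i
      rw [Submodule.eq_top_iff'.2 htop, finrank_top, Module.finrank_fintype_fun_eq_card, Fintype.card_fin] at this
      omega
    rcases hU with h0 | h0 <;> rcases hW with h1 | h1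
    · exact hnot 0 h0 h1
    · exact hgH ⟨(hmem g).2 (Or.inl ⟨h0, h1⟩), hgS⟩
    · exact hgH ⟨(hmem g).2 (Or.inr ⟨h0, h1⟩), hgS⟩
    · exact hnot 1 h0 h1
  have hboth : (∀ x ∈ D 0, x ∈ Full q M) ∧ ∀ x ∈ D 1, x ∈ Full q M := by
    have htr : ∀ i j, (∀ x ∈ D i, (s : Matrix (Fin n) (Fin n) F) *ᵥ x ∈ D j) → (∀ x ∈ D i, x ∈ Full q M) →
        ∀ x ∈ D j, x ∈ Full q M := by
      intro i j hij hf x hx
      rw [← himg s (D i) (D j) (hD.finrank_eq i) (hD.finrank_eq j) hij] at hx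
      obtain ⟨y, hy, rfl⟩ := hx
      rw [Matrix.toLin'_apply]
      exact SUFull.full_map hsM hsS.1 (hf y hy)
    rcases one_side hF hp M hM hg'M (hMS hg'M) hsM hsS hs0 hs1 hg'0 hg'1 with h | h
    · exact ⟨h, htr 0 1 hs0 h⟩
    · exact ⟨htr 1 0 hs1 h, h⟩
  exact SUFull.le_of_full hF (by omega) (fun h => by omega) (full_all hF hp hboth.1 hboth.2)

end CfsgLib.Lie.PolDecompSU
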