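import Cfsg.Agent.Lie.SpMax
import Cfsg.Agent.Lie.FormMaxSL

/-!
Decompositions into two totally isotropic subspaces: the stabilizer is maximal in the symplectic group
in odd characteristic. First part: the stabiliser.
-/

set_option autoImplicit false
set_option linter.unusedSimpArgs false
set_option linter.unusedSectionVars false

namespace CfsgLib.Lie.PolDecompSp

open Matrix
open CfsgLib.Lie.OrthMaxSp (tvGL tvGL_mulVec tvGL_mem tvGL_smul tvGL_mul tvGL_zero conj_tvGL mem_spGL)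
open CfsgLib.Lie.SpMax (Full)

variable {m k : ℕ} {F : Type*} [Field F]

/-- a polarisation -/
structure Pol (m k : ℕ) (U W : Submodule F (Sp.V m F)) : Prop where
  hU : ∀ x ∈ U, ∀ y ∈ U, Sp.bf m F x y = 0
  hW : ∀ x ∈ W, ∀ y ∈ W, Sp.bf m F x y = 0
  compl : IsCompl U W
  dimU : Module.finrank F U = k
  dimW : Module.finrank F W = k
  hk : 7 ≤ k

variable {U W : Submodule F (Sp.V m F)}

theorem tv_inv (w : Sp.V m F) (c : F) : (tvGL w c)⁻¹ = tvGL w (-c) :=
  inv_eq_of_mul_eq_one_right (by rw [tvGL_mul, add_neg_cancel, tvGL_zero])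

theorem bf_zero_symm {u v : Sp.V m F} (h : Sp.bf m F u v = 0) : Sp.bf m F v u = 0 := by
  rw [Sp.bf_swap, h, neg_zero]

theorem Pol.symm (h : Pol m k U W) : Pol m k W U := ⟨h.hW, h.hU, h.compl.symm, h.dimW, h.dimU, h.hk⟩

theorem Pol.decomp (h : Pol m k U W) (x : Sp.V m F) : ∃ a ∈ U, ∃ b ∈ W, a + b = x := by
  have hx : x ∈ U ⊔ W := by rw [h.compl.sup_eq_top]; trivial
  exact Submodule.mem_sup.1 hx

theorem Pol.inj (h : Pol m k U W) {x : Sp.V m F} (h1 : x ∈ U) (h2 : x ∈ W) : x = 0 :=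
  Submodule.disjoint_def.1 h.compl.disjoint x h1 h2

theorem Pol.zero_of_orth (h : Pol m k U W) {u : Sp.V m F} (hu : u ∈ U)
    (hy : ∀ y ∈ W, Sp.bf m F y u = 0) : u = 0 := by
  by_contra hu0
  obtain ⟨x, hx⟩ := Sp.exists_bf_eq_one hu0
  obtain ⟨a, ha, b, hb, rfl⟩ := h.decomp x
  rw [map_add, h.hU u hu a ha, bf_zero_symm (hy b hb), add_zero] at hx
  exact zero_ne_one hx

/-- representation of a functional on `U` by a vector of `W` -/
theorem Pol.exists_vals (h : Pol m k U W) {r : ℕ} (a : Fin r → Sp.V m F)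
    (ha : ∀ i, a i ∈ U) (hind : LinearIndependent F a) (c : Fin r → F) :
    ∃ y ∈ W, ∀ i, Sp.bf m F (a i) y = c i := by
  obtain ⟨ψ, hψ⟩ := LinearMap.exists_extend ((Module.Basis.span hind).constr F c)
  have hψa : ∀ i, ψ (a i) = c i := by
    intro i
    have h1 := LinearMap.congr_fun hψ (Module.Basis.span hind i)
    rw [Module.Basis.constr_basis, LinearMap.comp_apply] at h1
    rw [← h1]
    congr 1
    exact (congrArg Subtype.val (Module.Basis.span_apply hind i)).symm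
  let φ : Sp.V m F →ₗ[F] F := ψ ∘ₗ U.subtype ∘ₗ Submodule.linearProjOfIsCompl U W h.compl
  obtain ⟨y, hy⟩ : ∃ y, ∀ z, Sp.bf m F z y = φ z := Quad.exists_rep (Sp.bf m F) ⟨fun x hx => by
      by_contra hx0
      obtain ⟨v, hv⟩ := Sp.exists_bf_eq_one hx0
      rw [hx v] at hv; exact zero_ne_one hv,
    fun x hx => by
      by_contra hx0
      obtain ⟨v, hv⟩ := Sp.exists_bf_eq_one hx0
      rw [Sp.bf_swap, hx v, neg_zero] at hv; exact zero_ne_one hv⟩ φ
  obtain ⟨yU, hyU, yW, hyW, rfl⟩ := h.decomp y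
  have h0 : yU = 0 := h.zero_of_orth hyU fun w hw => by
    have h1 := hy w
    rw [map_add, h.hW w hw yW hyW, add_zero] at h1
    rw [h1]
    have h2 : Submodule.linearProjOfIsCompl U W h.compl w = 0 :=
      Submodule.linearProjOfIsCompl_apply_right h.compl ⟨w, hw⟩
    simp [φ, h2]
  refine ⟨yW, hyW, fun i => ?_⟩
  have h1 := hy (a i)
  rw [h0, zero_add] at h1
  rw [h1]
  simp only [φ, LinearMap.comp_apply, Submodule.subtype_apply]
  rw [show Submodule.linearProjOfIsCompl U W h.compl (a i) = ⟨a i, ha i⟩ from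
    Submodule.linearProjOfIsCompl_apply_left h.compl ⟨a i, ha i⟩]
  exact hψa i

theorem Pol.exists_outside (h : Pol m k U W) (w : Sp.V m F)
    (S : Submodule F (Sp.V m F)) (hS : Module.finrank F S ≤ 4) :
    ∃ z ∈ U, Sp.bf m F z w = 0 ∧ z ∉ S := by
  by_contra hcon
  push Not at hcon
  let φ : U →ₗ[F] F := ((Sp.bf m F).flip w).comp U.subtype
  have h1 := LinearMap.finrank_range_add_finrank_ker φ
  have h2 := Submodule.finrank_le (LinearMap.range φ)
  rw [Module.finrank_self] at h2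
  rw [h.dimU] at h1
  have h3 : (LinearMap.ker φ).map U.subtype ≤ S := by
    rintro _ ⟨x, hx, rfl⟩
    exact hcon x x.2 (LinearMap.mem_ker.1 hx)
  have h4 := Submodule.finrank_mono h3
  rw [← (Submodule.equivMapOfInjective _ U.subtype_injective (LinearMap.ker φ)).finrank_eq] at h4
  have := h.hk
  omega

theorem finrank_triple_le (a b c : Sp.V m F) :
    Module.finrank F (Submodule.span F ({a, b, c} : Set (Sp.V m F))) ≤ 4 := by
  classical
  have h := finrank_span_finset_le_card ({a, b, c} : Finset (Sp.V m F)) (R := F)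
  have h2 : ({a, b, c} : Finset (Sp.V m F)).card ≤ 3 := Finset.card_le_three
  have e : ((({a, b, c} : Finset (Sp.V m F))) : Set (Sp.V m F)) = {a, b, c} := by simp
  rw [e] at h
  rw [Set.finrank] at h
  omega

theorem indep_pair {a b : Sp.V m F} (ha : a ≠ 0) (hb : b ∉ Submodule.span F {a}) :
    LinearIndependent F ![a, b] := by
  rw [LinearIndependent.pair_iff]
  intro s t h
  by_cases ht : t = 0
  · rw [ht, zero_smul, add_zero] at h
    exact ⟨(smul_eq_zero.1 h).resolve_right ha, ht⟩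
  · exfalso; apply hb
    rw [← Submodule.smul_mem_iff _ ht, eq_neg_of_add_eq_zero_right h]
    exact neg_mem (Submodule.smul_mem _ _ (Submodule.mem_span_singleton_self a))

section

variable (hp : Pol m k U W) (M : Subgroup (GL (Fin m ⊕ Fin m) F))
  (hM : ∀ g ∈ Cfsg.spGL m F, (∀ x ∈ U, (g : Matrix (Fin m ⊕ Fin m) (Fin m ⊕ Fin m) F) *ᵥ x ∈ U) →
    (∀ x ∈ W, (g : Matrix (Fin m ⊕ Fin m) (Fin m ⊕ Fin m) F) *ᵥ x ∈ W) → g ∈ M)
include hp hM

/-- the short root elements of the stabiliser -/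
theorem exists_root {x y : Sp.V m F} (hx : x ∈ U) (hy : y ∈ W) (hxy : Sp.bf m F x y = 0) (c : F) :
    ∃ e ∈ M, e ∈ Cfsg.spGL m F ∧ (∀ v ∈ U, (e : Matrix (Fin m ⊕ Fin m) (Fin m ⊕ Fin m) F) *ᵥ v ∈ U) ∧
      ∀ v, (e : Matrix (Fin m ⊕ Fin m) (Fin m ⊕ Fin m) F) *ᵥ v =
        v + (c * Sp.bf m F v y) • x + (c * Sp.bf m F v x) • y := by
  have hxx := hp.hU x hx x hx
  have hyy := hp.hW y hy y hy
  have hyx := bf_zero_symm hxy
  obtain ⟨e, he⟩ : ∃ e, e = tvGL (c • x + y) (1 : F) * tvGL (c • x) (-1) * tvGL y (-1) := ⟨_, rfl⟩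
  have hev : ∀ v, (e : Matrix (Fin m ⊕ Fin m) (Fin m ⊕ Fin m) F) *ᵥ v =
      v + (c * Sp.bf m F v y) • x + (c * Sp.bf m F v x) • y := by
    intro v
    rw [he]
    simp only [Units.val_mul, ← Matrix.mulVec_mulVec, tvGL_mulVec, map_add, map_smul, LinearMap.add_apply,
      LinearMap.smul_apply, smul_eq_mul, hxx, hyy, hxy, hyx]
    module
  have heS : e ∈ Cfsg.spGL m F := he ▸ mul_mem (mul_mem (tvGL_mem _ _) (tvGL_mem _ _)) (tvGL_mem _ _)
  have hU' : ∀ v ∈ U, (e : Matrix (Fin m ⊕ Fin m) (Fin m ⊕ Fin m) F) *ᵥ v ∈ U := fun v hv => by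
    rw [hev, hp.hU v hv x hx, mul_zero, zero_smul, add_zero]
    exact U.add_mem hv (U.smul_mem _ hx)
  refine ⟨e, hM e heS hU' (fun v hv => ?_), heS, hU', hev⟩
  rw [hev, hp.hW v hv y hy, mul_zero, zero_smul, add_zero]
  exact W.add_mem hv (W.smul_mem _ hy)

theorem move_U {a b : Sp.V m F} (ha : a ∈ U) (hb : b ∈ U) (hab : LinearIndependent F ![a, b]) :
    ∃ e ∈ M, e ∈ Cfsg.spGL m F ∧ (∀ v ∈ U, (e : Matrix (Fin m ⊕ Fin m) (Fin m ⊕ Fin m) F) *ᵥ v ∈ U) ∧
      (e : Matrix (Fin m ⊕ Fin m) (Fin m ⊕ Fin m) F) *ᵥ a = b := by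
  obtain ⟨y, hy, hval⟩ := hp.exists_vals ![a, b] (fun i => by fin_cases i <;> assumption) hab ![1, 1]
  have h0 := hval 0
  have h1 := hval 1
  simp only [Matrix.cons_val] at h0 h1
  obtain ⟨e, he, heU, hest, hev⟩ := exists_root hp M hM (U.sub_mem hb ha) hy
    (by rw [map_sub, LinearMap.sub_apply, h0, h1, sub_self]) 1
  refine ⟨e, he, heU, hest, ?_⟩
  rw [hev, h0, hp.hU a ha _ (U.sub_mem hb ha)]
  simp

theorem move_one {a b : Sp.V m F} (ha : a ∈ U) (ha0 : a ≠ 0) (hb : b ∈ U) (hb0 : b ≠ 0) :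
    ∃ e ∈ M, e ∈ Cfsg.spGL m F ∧ (∀ v ∈ U, (e : Matrix (Fin m ⊕ Fin m) (Fin m ⊕ Fin m) F) *ᵥ v ∈ U) ∧
      (e : Matrix (Fin m ⊕ Fin m) (Fin m ⊕ Fin m) F) *ᵥ a = b := by
  obtain ⟨z, hz, -, hzS⟩ := hp.exists_outside 0 _ (finrank_triple_le a b b)
  obtain ⟨e1, h1, h1U, h1st, h1e⟩ := move_U hp M hM ha hz (indep_pair ha0 fun h => hzS (Submodule.span_mono (by simp) h))
  have hz0 : z ≠ 0 := fun h => hzS (h ▸ zero_mem _)
  obtain ⟨e2, h2, h2U, h2st, h2e⟩ := move_U hp M hM hz hb (indep_pair hz0 fun h => by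
    obtain ⟨t, ht⟩ := Submodule.mem_span_singleton.1 h
    have ht0 : t ≠ 0 := fun h' => hb0 (by rw [← ht, h', zero_smul])
    apply hzS
    rw [← Submodule.smul_mem_iff _ ht0, ht]
    exact Submodule.subset_span (by simp))
  exact ⟨e2 * e1, mul_mem h2 h1, mul_mem h2U h1U, fun v hv => by
    rw [Units.val_mul, ← Matrix.mulVec_mulVec]; exact h2st _ (h1st v hv), by
    rw [Units.val_mul, ← Matrix.mulVec_mulVec, h1e, h2e]⟩

theorem move_two {a b a' b' : Sp.V m F} (ha : a ∈ U) (hb : b ∈ U) (hab : LinearIndependent F ![a, b])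
    (ha' : a' ∈ U) (hb' : b' ∈ U) (hab' : LinearIndependent F ![a', b']) :
    ∃ e ∈ M, e ∈ Cfsg.spGL m F ∧ (e : Matrix (Fin m ⊕ Fin m) (Fin m ⊕ Fin m) F) *ᵥ a = a' ∧
      (e : Matrix (Fin m ⊕ Fin m) (Fin m ⊕ Fin m) F) *ᵥ b = b' := by
  have fixmove : ∀ b₁ b₂, b₁ ∈ U → b₂ ∈ U → LinearIndependent F ![a', b₁] →
      b₂ ∉ Submodule.span F {a', b₁} → ∃ e ∈ M, e ∈ Cfsg.spGL m F ∧
      (e : Matrix (Fin m ⊕ Fin m) (Fin m ⊕ Fin m) F) *ᵥ a' = a' ∧ (e : Matrix (Fin m ⊕ Fin m) (Fin m ⊕ Fin m) F) *ᵥ b₁ = b₂ := by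
    intro b₁ b₂ h₁ h₂ hi hn
    have h3 : LinearIndependent F ![a', b₁, b₂] := by
      rw [Fintype.linearIndependent_iff]
      intro g hg
      rw [Fin.sum_univ_three] at hg
      simp only [Matrix.cons_val] at hg
      have g2 : g 2 = 0 := by
        by_contra h
        apply hn
        rw [← Submodule.smul_mem_iff _ h, eq_neg_of_add_eq_zero_right hg]
        exact neg_mem (add_mem (Submodule.smul_mem _ _ (Submodule.subset_span (by simp)))
          (Submodule.smul_mem _ _ (Submodule.subset_span (by simp))))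
      rw [g2, zero_smul, add_zero] at hg
      obtain ⟨g0, g1⟩ := LinearIndependent.pair_iff.1 hi _ _ hg
      intro i; fin_cases i <;> assumption
    obtain ⟨y, hy, hval⟩ := hp.exists_vals ![a', b₁, b₂] (fun i => by fin_cases i <;> assumption) h3 ![0, 1, 1]
    have h0 := hval 0
    have h1 := hval 1
    have h2 := hval 2
    simp only [Matrix.cons_val] at h0 h1 h2
    obtain ⟨e, he, heU, -, hev⟩ := exists_root hp M hM (U.sub_mem h₂ h₁) hy
      (by rw [map_sub, LinearMap.sub_apply, h1, h2, sub_self]) 1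
    refine ⟨e, he, heU, ?_, ?_⟩
    · rw [hev, h0, hp.hU a' ha' _ (U.sub_mem h₂ h₁)]; simp
    · rw [hev, h1, hp.hU b₁ h₁ _ (U.sub_mem h₂ h₁)]; simp
  have ha0 : a ≠ 0 := hab.ne_zero 0
  have ha0' : a' ≠ 0 := hab'.ne_zero 0
  obtain ⟨e, he, heU, hest, hea⟩ := move_one hp M hM ha ha0 ha' ha0'
  set b₁ := (e : Matrix (Fin m ⊕ Fin m) (Fin m ⊕ Fin m) F) *ᵥ b with hb₁
  have hb₁U : b₁ ∈ U := hest b hb
  have hi1 : LinearIndependent F ![a', b₁] := by
    rw [LinearIndependent.pair_iff]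
    intro s t h
    rw [← hea, hb₁, ← Matrix.mulVec_smul, ← Matrix.mulVec_smul, ← Matrix.mulVec_add] at h
    have h9 := congrArg (fun w => ((e⁻¹ : GL (Fin m ⊕ Fin m) F) : Matrix (Fin m ⊕ Fin m) (Fin m ⊕ Fin m) F) *ᵥ w) h
    simp only [FormMaxSL.inv_mulVec_mulVec, Matrix.mulVec_zero] at h9
    exact LinearIndependent.pair_iff.1 hab s t h9
  obtain ⟨z, hz, -, hzS⟩ := hp.exists_outside 0 _ (finrank_triple_le a' b₁ b')
  obtain ⟨f1, hf1, hf1U, hf1a, hf1b⟩ := fixmove b₁ z hb₁U hz hi1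
    (fun h => hzS (Submodule.span_mono (by intro x; simp; tauto) h))
  have hi2 : LinearIndependent F ![a', z] := indep_pair ha0' fun h => hzS (Submodule.span_mono (by simp) h)
  have hn2 : b' ∉ Submodule.span F {a', z} := by
    intro h
    obtain ⟨s, t, hst⟩ := Submodule.mem_span_pair.1 h
    by_cases ht : t = 0
    · rw [ht, zero_smul, add_zero] at hst
      have h9 := LinearIndependent.pair_iff.1 hab' s (-1) (by rw [hst]; module)
      exact one_ne_zero (neg_eq_zero.1 h9.2)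
    · apply hzS
      rw [← Submodule.smul_mem_iff _ ht, show t • z = b' - s • a' by rw [← hst]; abel]
      exact sub_mem (Submodule.subset_span (by simp)) (Submodule.smul_mem _ _ (Submodule.subset_span (by simp)))
  obtain ⟨f2, hf2, hf2U, hf2a, hf2b⟩ := fixmove z b' hz hb' hi2 hn2
  refine ⟨f2 * f1 * e, mul_mem (mul_mem hf2 hf1) he, mul_mem (mul_mem hf2U hf1U) heU, ?_, ?_⟩
  · rw [Units.val_mul, Units.val_mul, ← Matrix.mulVec_mulVec, ← Matrix.mulVec_mulVec, hea, hf1a, hf2a]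
  · rw [Units.val_mul, Units.val_mul, ← Matrix.mulVec_mulVec, ← Matrix.mulVec_mulVec, ← hb₁, hf1b, hf2b]

/-- a pair of transvections spreads to all of `U` -/
theorem full_of_pair (h2 : (2 : F) ≠ 0) {a b : Sp.V m F} (ha : a ∈ U) (hb : b ∈ U) (hab : LinearIndependent F ![a, b])
    {d : F} (hd0 : d ≠ 0) (hmem : tvGL a d * tvGL b (-d) ∈ M) : ∀ u ∈ U, u ∈ Full M := by
  have hpair : ∀ x ∈ U, ∀ y ∈ U, LinearIndependent F ![x, y] → tvGL x d * tvGL y (-d) ∈ M := by
    intro x hx y hy hxy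
    obtain ⟨e, he, heU, hea, heb⟩ := move_two hp M hM ha hb hab hx hy hxy
    have h1 := mul_mem (mul_mem he hmem) (inv_mem he)
    rw [show e * (tvGL a d * tvGL b (-d)) * e⁻¹ = (e * tvGL a d * e⁻¹) * (e * tvGL b (-d) * e⁻¹) by group,
      conj_tvGL heU, conj_tvGL heU, hea, heb] at h1
    exact h1
  have hbase : ∀ u ∈ U, u ≠ 0 → tvGL u (-(2 * d)) ∈ M := by
    intro u hu hu0
    obtain ⟨v, hv, -, hvS⟩ := hp.exists_outside 0 _ (finrank_triple_le u u u)
    have huv : LinearIndependent F ![u, v] := indep_pair hu0 fun h => hvS (Submodule.span_mono (by simp) h)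
    have hs : ∀ s : F, s ≠ 0 → LinearIndependent F ![v, v + s • u] := by
      intro s hs
      rw [LinearIndependent.pair_iff]
      intro x y h
      have h9 := LinearIndependent.pair_iff.1 huv (y * s) (x + y) (by rw [← h]; module)
      have hy := (mul_eq_zero.1 h9.1).resolve_right hs
      exact ⟨by linear_combination h9.2 - hy, hy⟩
    have h1 := mul_mem (hpair v hv _ (U.add_mem hv (U.smul_mem 1 hu)) (hs 1 one_ne_zero))
      (hpair v hv _ (U.add_mem hv (U.smul_mem (-1) hu)) (hs (-1) (neg_ne_zero.2 one_ne_zero)))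
    convert h1 using 1
    refine FormMaxSL.gl_ext fun x => ?_
    simp only [Units.val_mul, ← Matrix.mulVec_mulVec, tvGL_mulVec, map_add, map_smul, LinearMap.add_apply,
      LinearMap.smul_apply, smul_eq_mul, hp.hU u hu u hu, hp.hU v hv v hv, hp.hU u hu v hv, hp.hU v hv u hu]
    module
  intro u hu c
  by_cases hu0 : u = 0
  · rw [hu0]; exact SpMax.full_zero c
  obtain ⟨e, he⟩ : ∃ e, e = c / -(2 * d) := ⟨_, rfl⟩
  have hc : -(2 * d) * e = c := by rw [he, mul_div_cancel₀ _ (neg_ne_zero.2 (mul_ne_zero h2 hd0))]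
  have hsq : ∀ t : F, tvGL u (t * t * -(2 * d)) ∈ M := by
    intro t
    by_cases ht : t = 0
    · rw [ht, mul_zero, zero_mul, tvGL_zero]; exact one_mem _
    · rw [← tvGL_smul]; exact hbase _ (U.smul_mem _ hu) (smul_ne_zero ht hu0)
  have h1 := mul_mem (hsq ((e + 1) / 2)) (inv_mem (hsq ((e - 1) / 2)))
  rw [tv_inv, tvGL_mul] at h1
  convert h1 using 2
  rw [← hc]
  field_simp
  ring

/-- one transvection spreads -/
theorem full_U_of_mem (h2 : (2 : F) ≠ 0) {a : Sp.V m F} (ha : a ∈ U) (ha0 : a ≠ 0) {κ : F} (hκ0 : κ ≠ 0)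
    (hmem : tvGL a κ ∈ M) : ∀ u ∈ U, u ∈ Full M := by
  obtain ⟨b, hb, -, hbS⟩ := hp.exists_outside 0 _ (finrank_triple_le a a a)
  have hab := indep_pair ha0 (fun h => hbS (Submodule.span_mono (by simp) h) : b ∉ Submodule.span F {a})
  refine full_of_pair hp M hM h2 ha hb hab hκ0 (mul_mem hmem ?_)
  obtain ⟨e, he, heU, -, hea⟩ := move_one hp M hM ha ha0 hb (hab.ne_zero 1)
  rw [← hea, ← tv_inv, ← conj_tvGL heU]
  exact inv_mem (mul_mem (mul_mem he hmem) (inv_mem he))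

/-- two transvections with centres in the same part -/
theorem full_U_of_two (h2 : (2 : F) ≠ 0) {a b : Sp.V m F} (ha : a ∈ U) (hb : b ∈ U) (hab : LinearIndependent F ![a, b])
    {d e : F} (hd0 : d ≠ 0) (hmem : tvGL a d * tvGL b e ∈ M) : ∀ u ∈ U, u ∈ Full M := by
  have ha0 : a ≠ 0 := hab.ne_zero 0
  obtain ⟨z, hz, -, hzS⟩ := hp.exists_outside 0 _ (finrank_triple_le a b b)
  have hzb : LinearIndependent F ![z, b] := by
    have := indep_pair (show b ≠ 0 from hab.ne_zero 1) (fun h => hzS (Submodule.span_mono (by simp) h) : z ∉ Submodule.span F {b})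
    rw [LinearIndependent.pair_iff] at this ⊢
    intro s t h
    exact (this t s (by rw [← h, add_comm])).symm
  obtain ⟨g, hg, hgS, hga, hgb⟩ := move_two hp M hM ha hb hab hz hb hzb
  have h1 := mul_mem (mul_mem (mul_mem hg hmem) (inv_mem hg)) (inv_mem hmem)
  rw [show g * (tvGL a d * tvGL b e) * g⁻¹ = (g * tvGL a d * g⁻¹) * (g * tvGL b e * g⁻¹) by group,
    conj_tvGL hgS, conj_tvGL hgS, hga, hgb,
    show tvGL z d * tvGL b e * (tvGL a d * tvGL b e)⁻¹ = tvGL z d * (tvGL a d)⁻¹ by group, tv_inv] at h1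
  have hza : LinearIndependent F ![z, a] := by
    have := indep_pair ha0 (fun h => hzS (Submodule.span_mono (by simp) h) : z ∉ Submodule.span F {a})
    rw [LinearIndependent.pair_iff] at this ⊢
    intro s t h
    exact (this t s (by rw [← h, add_comm])).symm
  exact full_of_pair hp M hM h2 hz ha hza hd0 h1

/-- a pair of commuting transvections, one centre in each part -/
theorem full_U_of_diag (h2 : (2 : F) ≠ 0) {u' w' : Sp.V m F} (hu : u' ∈ U) (hw : w' ∈ W) (hu0 : u' ≠ 0)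
    {d₁ d₂ : F} (hd0 : d₁ ≠ 0) (hmem : tvGL u' d₁ * tvGL w' d₂ ∈ M) : ∀ u ∈ U, u ∈ Full M := by
  obtain ⟨z, hz, hzw, hzS⟩ := hp.exists_outside w' _ (finrank_triple_le u' u' u')
  have hi := indep_pair hu0 (fun h => hzS (Submodule.span_mono (by simp) h) : z ∉ Submodule.span F {u'})
  obtain ⟨y, hy, hval⟩ := hp.exists_vals ![u', z] (fun i => by fin_cases i <;> assumption) hi ![1, 0]
  have hy1 := hval 0
  have hy0 := hval 1
  simp only [Matrix.cons_val] at hy1 hy0
  obtain ⟨h, hh, hhU, -, hhv⟩ := exists_root hp M hM hz hy hy0 1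
  have e1 : (h : Matrix (Fin m ⊕ Fin m) (Fin m ⊕ Fin m) F) *ᵥ u' = u' + z := by
    rw [hhv, hy1, hp.hU u' hu z hz]; simp
  have e2 : (h : Matrix (Fin m ⊕ Fin m) (Fin m ⊕ Fin m) F) *ᵥ w' = w' := by
    rw [hhv, hp.hW w' hw y hy, bf_zero_symm hzw]; simp
  have hi2 : LinearIndependent F ![u' + z, u'] := by
    rw [LinearIndependent.pair_iff]
    intro s t h
    have h9 := LinearIndependent.pair_iff.1 hi (s + t) s (by rw [← h]; module)
    exact ⟨h9.2, by linear_combination h9.1 - h9.2⟩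
  refine full_of_pair hp M hM h2 (U.add_mem hu hz) hu hi2 hd0 ?_
  have h1 := mul_mem (mul_mem (mul_mem hh hmem) (inv_mem hh)) (inv_mem hmem)
  rw [show h * (tvGL u' d₁ * tvGL w' d₂) * h⁻¹ = (h * tvGL u' d₁ * h⁻¹) * (h * tvGL w' d₂ * h⁻¹) by group,
    conj_tvGL hhU, conj_tvGL hhU, e1, e2,
    show tvGL (u' + z) d₁ * tvGL w' d₂ * (tvGL u' d₁ * tvGL w' d₂)⁻¹ = tvGL (u' + z) d₁ * (tvGL u' d₁)⁻¹ by group,
    tv_inv] at h1
  exact h1

end

/-- everything from both parts -/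
theorem full_all (hp : Pol m k U W) {M : Subgroup (GL (Fin m ⊕ Fin m) F)}
    (hU : ∀ u ∈ U, u ∈ Full M) (hW : ∀ w ∈ W, w ∈ Full M) : ∀ v, v ∈ Full M := by
  have nd : ∀ u ∈ U, ∀ w ∈ W, Sp.bf m F u w ≠ 0 → u + w ∈ Full M := fun u hu w hw h0 => by
    have h := SpMax.full_move (hU u hu) (hW w hw) h0 1
    rwa [one_smul] at h
  intro v
  obtain ⟨u, hu, w, hw, rfl⟩ := hp.decomp v
  by_cases h0 : Sp.bf m F u w ≠ 0
  · exact nd u hu w hw h0
  push Not at h0
  by_cases hw0 : w = 0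
  · rw [hw0, add_zero]; exact hU u hu
  obtain ⟨u0, hu0, hu0w⟩ : ∃ u0 ∈ U, Sp.bf m F u0 w ≠ 0 := by
    by_contra h
    push Not at h
    exact hw0 (hp.symm.zero_of_orth hw h)
  have h1 : u + u0 + w ∈ Full M := nd _ (U.add_mem hu hu0) w hw (by
    rw [map_add, LinearMap.add_apply, h0, zero_add]; exact hu0w)
  have h2 := SpMax.full_sub h1 (hU u0 hu0) (by
    simp only [map_add, LinearMap.add_apply, hp.hU u hu u0 hu0, Sp.bf_self, zero_add]
    rw [Sp.bf_swap, neg_ne_zero]; exact hu0w)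
  convert h2 using 1
  abel

/-- exchanging the parts -/
theorem exists_swap (hp : Pol m k U W) :
    ∃ s ∈ Cfsg.spGL m F, (∀ x ∈ U, (s : Matrix (Fin m ⊕ Fin m) (Fin m ⊕ Fin m) F) *ᵥ x ∈ W) ∧
      (∀ x ∈ W, (s : Matrix (Fin m ⊕ Fin m) (Fin m ⊕ Fin m) F) *ᵥ x ∈ U) := by
  classical
  obtain ⟨bu⟩ : Nonempty (Module.Basis (Fin k) F U) := ⟨Module.finBasisOfFinrankEq F U hp.dimU⟩
  have hind : LinearIndependent F (fun i => (bu i : Sp.V m F)) :=
    bu.linearIndependent.map' U.subtype (by simp)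
  choose w hw hwv using fun i : Fin k => hp.exists_vals (fun j => (bu j : Sp.V m F)) (fun j => (bu j).2) hind
    (fun j => if j = i then (1 : F) else 0)
  have hwu : ∀ i j, Sp.bf m F (w i) (bu j : Sp.V m F) = if j = i then -1 else 0 := fun i j => by
    rw [Sp.bf_swap, hwv i j]; split <;> simp
  let Wd : Fin k → GL (Fin m ⊕ Fin m) F := fun i =>
    tvGL (bu i : Sp.V m F) 1 * tvGL (w i) 1 * tvGL (bu i : Sp.V m F) 1
  have hWT : ∀ i, Wd i ∈ Cfsg.spGL m F := fun i => mul_mem (mul_mem (tvGL_mem _ _) (tvGL_mem _ _)) (tvGL_mem _ _)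
  have hWv : ∀ i x, (Wd i : Matrix (Fin m ⊕ Fin m) (Fin m ⊕ Fin m) F) *ᵥ x =
      x + (Sp.bf m F x (w i) + Sp.bf m F x (bu i : Sp.V m F)) • w i +
        (Sp.bf m F x (bu i : Sp.V m F) - Sp.bf m F x (w i)) • (bu i : Sp.V m F) := by
    intro i x
    simp only [Wd, Units.val_mul, ← Matrix.mulVec_mulVec, tvGL_mulVec, map_add, map_smul, LinearMap.add_apply,
      LinearMap.smul_apply, smul_eq_mul, Sp.bf_self, hwu i i, hwv i i, ↓reduceIte]
    module
  have hlist : ∀ l : List (Fin k), l.Nodup →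
      (∀ j, ((l.map Wd).prod : GL (Fin m ⊕ Fin m) F).1 *ᵥ (bu j : Sp.V m F) =
        if j ∈ l then w j else (bu j : Sp.V m F)) ∧
      (∀ j, ((l.map Wd).prod : GL (Fin m ⊕ Fin m) F).1 *ᵥ w j =
        if j ∈ l then -(bu j : Sp.V m F) else w j) := by
    intro l
    induction l with
    | nil => intro _; constructor <;> intro j <;> simp
    | cons i l ih =>
      intro hnd
      rw [List.nodup_cons] at hnd
      obtain ⟨i1, i2⟩ := ih hnd.2
      have a1 : ∀ j, (Wd i : Matrix (Fin m ⊕ Fin m) (Fin m ⊕ Fin m) F) *ᵥ (bu j : Sp.V m F) =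
          if j = i then w j else (bu j : Sp.V m F) := by
        intro j
        rw [hWv, hwv i j, hp.hU _ (bu j).2 _ (bu i).2]
        by_cases h : j = i
        · subst h; simp only [↓reduceIte]; module
        · simp only [h, ↓reduceIte]; simp
      have a2 : ∀ j, (Wd i : Matrix (Fin m ⊕ Fin m) (Fin m ⊕ Fin m) F) *ᵥ w j =
          if j = i then -(bu j : Sp.V m F) else w j := by
        intro j
        rw [hWv, hwu j i, hp.hW _ (hw j) _ (hw i)]
        by_cases h : j = i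
        · subst h; simp only [↓reduceIte]; module
        · simp only [h, Ne.symm h, ↓reduceIte]; simp
      constructor <;> intro j <;>
        rw [List.map_cons, List.prod_cons, Units.val_mul, ← Matrix.mulVec_mulVec]
      · rw [i1 j]
        by_cases hj : j ∈ l
        · have hji : j ≠ i := fun h => hnd.1 (h ▸ hj)
          rw [if_pos hj, a2, if_neg hji, if_pos (List.mem_cons_of_mem i hj)]
        · rw [if_neg hj, a1]; simp [hj]
      · rw [i2 j]
        by_cases hj : j ∈ l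
        · have hji : j ≠ i := fun h => hnd.1 (h ▸ hj)
          rw [if_pos hj, Matrix.mulVec_neg, a1, if_neg hji, if_pos (List.mem_cons_of_mem i hj)]
        · rw [if_neg hj, a2]; simp [hj]
  obtain ⟨s1, s2⟩ := hlist (List.finRange k) (List.nodup_finRange k)
  refine ⟨((List.finRange k).map Wd).prod, list_prod_mem fun x hx => ?_, fun x hx => ?_, fun x hx => ?_⟩
  · obtain ⟨i, -, rfl⟩ := List.mem_map.1 hx; exact hWT i
  · have e := congrArg Subtype.val (bu.sum_repr ⟨x, hx⟩)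
    simp only [Submodule.coe_sum, Submodule.coe_smul] at e
    rw [← e, Matrix.mulVec_sum]
    refine Submodule.sum_mem _ fun j _ => ?_
    rw [Matrix.mulVec_smul, s1 j, if_pos (List.mem_finRange j)]
    exact W.smul_mem _ (hw j)
  · have e : x = ∑ j, Sp.bf m F (bu j : Sp.V m F) x • w j := by
      rw [← sub_eq_zero]
      refine hp.symm.zero_of_orth (W.sub_mem hx (Submodule.sum_mem _ fun j _ => W.smul_mem _ (hw j))) fun y hy => ?_
      have e' := congrArg Subtype.val (bu.sum_repr ⟨y, hy⟩)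
      simp only [Submodule.coe_sum, Submodule.coe_smul] at e'
      rw [map_sub, sub_eq_zero, ← e']
      simp only [map_sum, LinearMap.sum_apply, map_smul, LinearMap.smul_apply, smul_eq_mul, Finset.mul_sum]
      refine Eq.symm ?_
      refine Finset.sum_congr rfl fun i _ => ?_
      rw [Finset.sum_eq_single i]
      · rw [hwv i i, if_pos rfl]; ring
      · intro j _ hj; rw [hwv i j, if_neg hj]; ring
      · intro h; exact absurd (Finset.mem_univ i) h
    rw [e, Matrix.mulVec_sum]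
    refine Submodule.sum_mem _ fun j _ => ?_
    rw [Matrix.mulVec_smul, s2 j, if_pos (List.mem_finRange j)]
    exact U.smul_mem _ (U.neg_mem (bu j).2)

end CfsgLib.Lie.PolDecompSp
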