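import Cfsg.Agent.Lie.PolDecompSp

/-!
Decompositions into two totally isotropic subspaces in the symplectic group, second part: maximality.
-/

set_option autoImplicit false
set_option linter.unusedSimpArgs false
set_option linter.unusedSectionVars false

namespace CfsgLib.Lie.PolDecompSp

open Matrix
open CfsgLib.Lie.OrthMaxSp (tvGL tvGL_mulVec tvGL_mem tvGL_smul tvGL_mul tvGL_zero conj_tvGL mem_spGL)
open CfsgLib.Lie.SpMax (Full)

variable {m k : ℕ} {F : Type*} [Field F] {U W : Submodule F (Sp.V m F)}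

theorem root_conj {g e : GL (Fin m ⊕ Fin m) F} (hg : g ∈ Cfsg.spGL m F) {x y : Sp.V m F} {c : F}
    (he : ∀ v, (e : Matrix (Fin m ⊕ Fin m) (Fin m ⊕ Fin m) F) *ᵥ v =
      v + (c * Sp.bf m F v y) • x + (c * Sp.bf m F v x) • y) (v : Sp.V m F) :
    ((g * e * g⁻¹ : GL (Fin m ⊕ Fin m) F) : Matrix (Fin m ⊕ Fin m) (Fin m ⊕ Fin m) F) *ᵥ v =
      v + (c * Sp.bf m F v ((g : Matrix (Fin m ⊕ Fin m) (Fin m ⊕ Fin m) F) *ᵥ y)) • ((g : Matrix (Fin m ⊕ Fin m) (Fin m ⊕ Fin m) F) *ᵥ x)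
        + (c * Sp.bf m F v ((g : Matrix (Fin m ⊕ Fin m) (Fin m ⊕ Fin m) F) *ᵥ x)) • ((g : Matrix (Fin m ⊕ Fin m) (Fin m ⊕ Fin m) F) *ᵥ y) := by
  obtain ⟨z, rfl⟩ : ∃ z, (g : Matrix (Fin m ⊕ Fin m) (Fin m ⊕ Fin m) F) *ᵥ z = v := ⟨_, FormMaxSL.mulVec_inv_mulVec g v⟩
  rw [Units.val_mul, Units.val_mul, ← Matrix.mulVec_mulVec, ← Matrix.mulVec_mulVec, FormMaxSL.inv_mulVec_mulVec,
    he, Matrix.mulVec_add, Matrix.mulVec_add, Matrix.mulVec_smul, Matrix.mulVec_smul, mem_spGL.1 hg, mem_spGL.1 hg]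

section

variable (hp : Pol m k U W) (M : Subgroup (GL (Fin m ⊕ Fin m) F))
  (hM : ∀ g ∈ Cfsg.spGL m F, (∀ x ∈ U, (g : Matrix (Fin m ⊕ Fin m) (Fin m ⊕ Fin m) F) *ᵥ x ∈ U) →
    (∀ x ∈ W, (g : Matrix (Fin m ⊕ Fin m) (Fin m ⊕ Fin m) F) *ᵥ x ∈ W) → g ∈ M) (h2 : (2 : F) ≠ 0)
include hp hM h2

theorem case_mixed {g : GL (Fin m ⊕ Fin m) F} (hg : g ∈ M) (hgU : g ∈ Cfsg.spGL m F) {u u' w' : Sp.V m F} (hu : u ∈ U)
    (hu' : u' ∈ U) (hw' : w' ∈ W) (hu0 : u' ≠ 0) (hw0 : w' ≠ 0) (huw : Sp.bf m F u' w' = 0)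
    (hgu : (g : Matrix (Fin m ⊕ Fin m) (Fin m ⊕ Fin m) F) *ᵥ u = u' + w') :
    (∀ x ∈ U, x ∈ Full M) ∨ ∀ x ∈ W, x ∈ Full M := by
  have hu2 := hp.hU u' hu' u' hu'
  have hw2 := hp.hW w' hw' w' hw'
  have hwu := bf_zero_symm huw
  have hune : u ≠ 0 := fun h => by
    rw [h, Matrix.mulVec_zero] at hgu
    exact hu0 (hp.inj hu' ((eq_neg_of_add_eq_zero_left hgu.symm) ▸ W.neg_mem hw'))
  by_cases hs : ∃ w ∈ W, Sp.bf m F u w = 0 ∧
      Sp.bf m F ((g : Matrix (Fin m ⊕ Fin m) (Fin m ⊕ Fin m) F) *ᵥ w) (u' - w') ≠ 0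
  · obtain ⟨w, hw, huw1, hβ⟩ := hs
    obtain ⟨b, hb⟩ : ∃ b, b = (g : Matrix (Fin m ⊕ Fin m) (Fin m ⊕ Fin m) F) *ᵥ w := ⟨_, rfl⟩
    rw [← hb] at hβ
    have hβ' : Sp.bf m F (u' - w') b ≠ 0 := by rw [Sp.bf_swap, neg_ne_zero]; exact hβ
    obtain ⟨c, hc⟩ : ∃ c, c = 2 / Sp.bf m F (u' - w') b := ⟨_, rfl⟩
    have hcb : c * Sp.bf m F (u' - w') b = 2 := by rw [hc, div_mul_cancel₀ _ hβ']
    obtain ⟨e, he, heS, -, hev⟩ := exists_root hp M hM hu hw huw1 c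
    obtain ⟨e2, he2, -, -, he2v⟩ := exists_root hp M hM hu' hw' huw 2
    obtain ⟨e3, he3, -, -, he3v⟩ := exists_root hp M hM hu' hw' huw (-4)
    have h1 := root_conj hgU hev
    rw [hgu, ← hb] at h1
    have hab : Sp.bf m F (u' + w') b = 0 := by rw [← hgu, hb, mem_spGL.1 hgU, huw1]
    have hba := bf_zero_symm hab
    obtain ⟨E1, hE1⟩ : ∃ E1, E1 = g * e * g⁻¹ := ⟨_, rfl⟩
    rw [← hE1] at h1
    have hE1M : E1 ∈ M := hE1 ▸ mul_mem (mul_mem hg he) (inv_mem hg)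
    have hE1S : E1 ∈ Cfsg.spGL m F := hE1 ▸ mul_mem (mul_mem hgU heS) (inv_mem hgU)
    -- the reference element as a product of two transvections
    have he2e : e2 = tvGL (u' + w') 1 * tvGL (u' - w') (-1) := by
      refine FormMaxSL.gl_ext fun v => ?_
      simp only [Units.val_mul, ← Matrix.mulVec_mulVec, tvGL_mulVec, he2v, map_add, map_sub, map_smul,
        LinearMap.add_apply, LinearMap.sub_apply, LinearMap.smul_apply, smul_eq_mul, hu2, hw2, huw, hwu]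
      module
    have hfa : (E1 : Matrix (Fin m ⊕ Fin m) (Fin m ⊕ Fin m) F) *ᵥ (u' + w') = u' + w' := by
      rw [h1, hab, Sp.bf_self]; simp
    have hfb : (E1 : Matrix (Fin m ⊕ Fin m) (Fin m ⊕ Fin m) F) *ᵥ (u' - w') = u' - w' + (2 : F) • (u' + w') := by
      rw [h1, hcb]
      simp only [map_add, map_sub, LinearMap.sub_apply, hu2, hw2, huw, hwu]
      simp
    have hmem := mul_mem (mul_mem (mul_mem hE1M he2) (inv_mem hE1M)) (inv_mem he2)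
    rw [he2e, show E1 * (tvGL (u' + w') 1 * tvGL (u' - w') (-1)) * E1⁻¹ * (tvGL (u' + w') 1 * tvGL (u' - w') (-1))⁻¹ =
      (E1 * tvGL (u' + w') 1 * E1⁻¹) * (E1 * tvGL (u' - w') (-1) * E1⁻¹) * (tvGL (u' - w') (-1))⁻¹ * (tvGL (u' + w') 1)⁻¹ by group,
      conj_tvGL hE1S, conj_tvGL hE1S, hfa, hfb, tv_inv, tv_inv] at hmem
    have h8 : (-8 : F) ≠ 0 := by
      rw [show (-8 : F) = -(2 * 2 * 2) by norm_num]
      exact neg_ne_zero.2 (mul_ne_zero (mul_ne_zero h2 h2) h2)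
    refine Or.inl (full_U_of_mem hp M hM h2 hu' hu0 h8 ?_)
    convert mul_mem (inv_mem he3) hmem using 1
    rw [eq_inv_mul_iff_mul_eq]
    refine FormMaxSL.gl_ext fun v => ?_
    simp only [Units.val_mul, ← Matrix.mulVec_mulVec, tvGL_mulVec, he3v, map_add, map_sub, map_smul,
      LinearMap.add_apply, LinearMap.sub_apply, LinearMap.smul_apply, smul_eq_mul, hu2, hw2, huw, hwu]
    module
  push Not at hs
  -- the plane is the image of a plane of the same kind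
  obtain ⟨p, hp'⟩ : ∃ p, p = ((g⁻¹ : GL (Fin m ⊕ Fin m) F) : Matrix (Fin m ⊕ Fin m) (Fin m ⊕ Fin m) F) *ᵥ u' := ⟨_, rfl⟩
  have hgp : (g : Matrix (Fin m ⊕ Fin m) (Fin m ⊕ Fin m) F) *ᵥ p = u' := by rw [hp', FormMaxSL.mulVec_inv_mulVec]
  obtain ⟨pU, hpU, pW, hpW, hpp⟩ := hp.decomp p
  have horth : ∀ w ∈ W, Sp.bf m F u w = 0 → Sp.bf m F w pU = 0 := by
    intro w hw h0
    have h1 := hs w hw h0
    have h3 : Sp.bf m F ((g : Matrix (Fin m ⊕ Fin m) (Fin m ⊕ Fin m) F) *ᵥ w) (u' + w') = 0 := by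
      rw [← hgu, mem_spGL.1 hgU]; exact bf_zero_symm h0
    rw [map_sub] at h1
    rw [map_add] at h3
    have h4 : Sp.bf m F ((g : Matrix (Fin m ⊕ Fin m) (Fin m ⊕ Fin m) F) *ᵥ w) u' = 0 := by
      refine (mul_eq_zero.1 (?_ : 2 * Sp.bf m F ((g : Matrix (Fin m ⊕ Fin m) (Fin m ⊕ Fin m) F) *ᵥ w) u' = 0)).resolve_left h2
      linear_combination h1 + h3
    rw [← hgp, mem_spGL.1 hgU, ← hpp, map_add, hp.hW w hw pW hpW, add_zero] at h4
    exact h4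
  obtain ⟨y0, hy0, hy0v⟩ := hp.exists_vals ![u] (fun i => by fin_cases i; exact hu)
    (Fintype.linearIndependent_iff.2 fun c hc i => by fin_cases i; simpa [hune] using hc) ![1]
  have hy01 := hy0v 0
  simp only [Matrix.cons_val_zero] at hy01
  obtain ⟨lam, hlam⟩ : ∃ lam, pU = lam • u := by
    refine ⟨Sp.bf m F pU y0, sub_eq_zero.1 (hp.zero_of_orth (U.sub_mem hpU (U.smul_mem _ hu)) fun y hy => ?_)⟩
    have h1 := horth (y - Sp.bf m F u y • y0) (W.sub_mem hy (W.smul_mem _ hy0))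
      (by rw [map_sub, map_smul, hy01, smul_eq_mul, mul_one, sub_self])
    rw [map_sub, LinearMap.sub_apply, map_smul, LinearMap.smul_apply, smul_eq_mul, Sp.bf_swap pU y0] at h1
    rw [map_sub, map_smul, smul_eq_mul, Sp.bf_swap u y]
    linear_combination h1
  have hb : (g : Matrix (Fin m ⊕ Fin m) (Fin m ⊕ Fin m) F) *ᵥ pW = (1 - lam) • u' - lam • w' := by
    rw [show pW = p - lam • u by rw [← hpp, hlam]; abel, Matrix.mulVec_sub, Matrix.mulVec_smul, hgp, hgu]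
    module
  have hupW : Sp.bf m F u pW = 0 := by
    rw [← mem_spGL.1 hgU, hgu, hb]
    simp only [map_sub, map_smul, map_add, LinearMap.add_apply, smul_eq_mul, hu2, hw2, huw, hwu]
    ring
  obtain ⟨e, he, -, -, hev⟩ := exists_root hp M hM hu hpW hupW 1
  obtain ⟨e2, he2, -, -, he2v⟩ := exists_root hp M hM hu' hw' huw (1 - 2 * lam)
  have h1 := root_conj hgU hev
  rw [hgu, hb] at h1
  have hmem := mul_mem (mul_mem (mul_mem hg he) (inv_mem hg)) (inv_mem he2)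
  have hd : tvGL u' (2 * (1 - lam)) * tvGL w' (-(2 * lam)) ∈ M := by
    convert hmem using 1
    rw [eq_mul_inv_iff_mul_eq]
    refine FormMaxSL.gl_ext fun v => ?_
    rw [Units.val_mul (a := tvGL u' _ * _), Units.val_mul (a := tvGL u' _), ← Matrix.mulVec_mulVec, ← Matrix.mulVec_mulVec, h1]
    simp only [tvGL_mulVec, he2v, map_add, map_sub, map_smul, LinearMap.add_apply, LinearMap.sub_apply,
      LinearMap.smul_apply, smul_eq_mul, hu2, hw2, huw, hwu]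
    module
  by_cases hl : 1 - lam = 0
  · rw [hl, mul_zero, tvGL_zero, one_mul, show lam = 1 by linear_combination -hl, mul_one] at hd
    exact Or.inr (full_U_of_mem hp.symm M (fun x hx a b => hM x hx b a) h2 hw' hw0 (neg_ne_zero.2 h2) hd)
  · exact Or.inl (full_U_of_diag hp M hM h2 hu' hw' hu0 (mul_ne_zero h2 hl) hd)

theorem case_U {g : GL (Fin m ⊕ Fin m) F} (hg : g ∈ M) (hgU : g ∈ Cfsg.spGL m F) {u : Sp.V m F} (hu : u ∈ U) (hu0 : u ≠ 0)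
    (ha : (g : Matrix (Fin m ⊕ Fin m) (Fin m ⊕ Fin m) F) *ᵥ u ∈ U) :
    (∀ x ∈ U, x ∈ Full M) ∨
      ∀ w ∈ W, Sp.bf m F u w = 0 → (g : Matrix (Fin m ⊕ Fin m) (Fin m ⊕ Fin m) F) *ᵥ w ∈ W := by
  by_cases hfull : ∀ x ∈ U, x ∈ Full M
  · exact Or.inl hfull
  refine Or.inr fun w hw huw => ?_
  obtain ⟨a, hga⟩ : ∃ a, a = (g : Matrix (Fin m ⊕ Fin m) (Fin m ⊕ Fin m) F) *ᵥ u := ⟨_, rfl⟩
  rw [← hga] at ha
  have haa := hp.hU a ha a ha
  have ha0 : a ≠ 0 := fun h => hu0 (by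
    rw [← FormMaxSL.inv_mulVec_mulVec g u, ← hga, h, Matrix.mulVec_zero])
  obtain ⟨b, hb⟩ : ∃ b, b = (g : Matrix (Fin m ⊕ Fin m) (Fin m ⊕ Fin m) F) *ᵥ w := ⟨_, rfl⟩
  have hab : Sp.bf m F a b = 0 := by rw [hga, hb, mem_spGL.1 hgU, huw]
  obtain ⟨bU, hbU, bW, hbW, hbb⟩ := hp.decomp b
  obtain ⟨e, he, -, -, hev⟩ := exists_root hp M hM hu hw huw 1
  have h1 := root_conj hgU hev
  rw [← hga, ← hb] at h1
  have horth : ∀ y ∈ W, Sp.bf m F a y = 0 → Sp.bf m F bU y = 0 := by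
    intro y hy hay
    by_contra hne
    have hβ : Sp.bf m F b y ≠ 0 := by
      rw [← hbb, map_add, LinearMap.add_apply, hp.hW bW hbW y hy, add_zero]; exact hne
    obtain ⟨e2, he2, -, -, he2v⟩ := exists_root hp M hM ha hy hay 1
    have hmem := mul_mem (mul_mem (mul_mem (mul_mem (mul_mem hg he) (inv_mem hg)) he2)
      (inv_mem (mul_mem (mul_mem hg he) (inv_mem hg)))) (inv_mem he2)
    refine hfull (full_U_of_mem hp M hM h2 ha ha0 (κ := 2 * Sp.bf m F y b) ?_ ?_)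
    · rw [Sp.bf_swap b y, mul_neg, neg_ne_zero]; exact mul_ne_zero h2 hβ
    convert hmem using 1
    obtain ⟨E, hE⟩ : ∃ E, E = g * e * g⁻¹ := ⟨_, rfl⟩
    rw [← hE] at h1 ⊢
    rw [eq_mul_inv_iff_mul_eq, eq_mul_inv_iff_mul_eq]
    refine FormMaxSL.gl_ext fun v => ?_
    simp only [Units.val_mul, ← Matrix.mulVec_mulVec, tvGL_mulVec, h1, he2v, map_add, map_smul, LinearMap.add_apply,
      LinearMap.smul_apply, smul_eq_mul, haa, hab, hay, bf_zero_symm hab, bf_zero_symm hay, Sp.bf_swap y b,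
      mul_zero, add_zero, zero_add, one_mul]
    module
  obtain ⟨y0, hy0, hy0v⟩ := hp.exists_vals ![a] (fun i => by fin_cases i; exact ha)
    (Fintype.linearIndependent_iff.2 fun c hc i => by fin_cases i; simpa [ha0] using hc) ![1]
  have hy01 := hy0v 0
  simp only [Matrix.cons_val_zero] at hy01
  obtain ⟨μ, hμ⟩ : ∃ μ, bU = μ • a := by
    refine ⟨Sp.bf m F bU y0, sub_eq_zero.1 (hp.zero_of_orth (U.sub_mem hbU (U.smul_mem _ ha)) fun y hy => ?_)⟩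
    refine bf_zero_symm ?_
    have h3 := horth (y - Sp.bf m F a y • y0) (W.sub_mem hy (W.smul_mem _ hy0))
      (by rw [map_sub, map_smul, hy01, smul_eq_mul, mul_one, sub_self])
    rw [map_sub, map_smul, smul_eq_mul] at h3
    rw [map_sub, map_smul, LinearMap.sub_apply, LinearMap.smul_apply, smul_eq_mul]
    linear_combination h3
  by_cases hμ0 : μ = 0
  · rw [← hb, ← hbb, hμ, hμ0, zero_smul, zero_add]; exact hbW
  exfalso
  have hay : Sp.bf m F a bW = 0 := by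
    rw [← hbb, hμ, map_add, map_smul, haa, smul_zero, zero_add] at hab
    exact hab
  obtain ⟨e2, he2, -, -, he2v⟩ := exists_root hp M hM ha hbW hay 1
  rw [← hbb, hμ] at h1
  have hmem := mul_mem (mul_mem (mul_mem hg he) (inv_mem hg)) (inv_mem he2)
  refine hfull (full_U_of_mem hp M hM h2 ha ha0 (mul_ne_zero h2 hμ0) ?_)
  convert hmem using 1
  rw [eq_mul_inv_iff_mul_eq]
  refine FormMaxSL.gl_ext fun v => ?_
  rw [Units.val_mul (a := tvGL a _), ← Matrix.mulVec_mulVec, h1]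
  simp only [tvGL_mulVec, he2v, map_add, map_smul, LinearMap.add_apply, LinearMap.smul_apply, smul_eq_mul,
    haa, hay, bf_zero_symm hay, mul_zero, add_zero, zero_add, one_mul]
  module

theorem one_side [Finite F] {g : GL (Fin m ⊕ Fin m) F} (hg : g ∈ M) (hgS : g ∈ Cfsg.spGL m F)
    {s : GL (Fin m ⊕ Fin m) F} (hs : s ∈ M) (hsS : s ∈ Cfsg.spGL m F)
    (hsU : ∀ x ∈ U, (s : Matrix (Fin m ⊕ Fin m) (Fin m ⊕ Fin m) F) *ᵥ x ∈ W) (hsW : ∀ x ∈ W, (s : Matrix (Fin m ⊕ Fin m) (Fin m ⊕ Fin m) F) *ᵥ x ∈ U)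
    (hnU : ¬ ∀ x ∈ U, (g : Matrix (Fin m ⊕ Fin m) (Fin m ⊕ Fin m) F) *ᵥ x ∈ U)
    (hnW : ¬ ∀ x ∈ U, (g : Matrix (Fin m ⊕ Fin m) (Fin m ⊕ Fin m) F) *ᵥ x ∈ W) :
    (∀ x ∈ U, x ∈ Full M) ∨ ∀ x ∈ W, x ∈ Full M := by
  -- reduce to images without vectors in `W`
  suffices key : ∀ g ∈ M, g ∈ Cfsg.spGL m F →
      (¬ ∀ x ∈ U, (g : Matrix (Fin m ⊕ Fin m) (Fin m ⊕ Fin m) F) *ᵥ x ∈ U) →
      (∀ x ∈ U, (g : Matrix (Fin m ⊕ Fin m) (Fin m ⊕ Fin m) F) *ᵥ x ∈ W → x = 0) →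
      (∀ x ∈ U, ∀ a ∈ U, ∀ b ∈ W, (g : Matrix (Fin m ⊕ Fin m) (Fin m ⊕ Fin m) F) *ᵥ x = a + b →
        Sp.bf m F a b = 0 → a = 0 ∨ b = 0) →
      (∀ x ∈ U, x ∈ Full M) ∨ ∀ x ∈ W, x ∈ Full M by
    by_cases hmix : ∃ x ∈ U, ∃ a ∈ U, ∃ b ∈ W, (g : Matrix (Fin m ⊕ Fin m) (Fin m ⊕ Fin m) F) *ᵥ x = a + b ∧
        Sp.bf m F a b = 0 ∧ a ≠ 0 ∧ b ≠ 0
    · obtain ⟨x, hx, a, ha, b, hb, hab, h0, ha0, hb0⟩ := hmix
      exact case_mixed hp M hM h2 hg hgS hx ha hb ha0 hb0 h0 hab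
    push Not at hmix
    have hno : ∀ x ∈ U, ∀ a ∈ U, ∀ b ∈ W, (g : Matrix (Fin m ⊕ Fin m) (Fin m ⊕ Fin m) F) *ᵥ x = a + b →
        Sp.bf m F a b = 0 → a = 0 ∨ b = 0 := fun x hx a ha b hb h h0 =>
      or_iff_not_imp_left.2 (hmix x hx a ha b hb h h0)
    by_cases hRW : ∀ x ∈ U, (g : Matrix (Fin m ⊕ Fin m) (Fin m ⊕ Fin m) F) *ᵥ x ∈ W → x = 0
    · exact key g hg hgS hnU hRW hno
    push Not at hRW
    obtain ⟨x0, hx0, hx0W, hx00⟩ := hRW
    have hsg : ∀ x, ((s * g : GL (Fin m ⊕ Fin m) F) : Matrix (Fin m ⊕ Fin m) (Fin m ⊕ Fin m) F) *ᵥ x =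
        (s : Matrix (Fin m ⊕ Fin m) (Fin m ⊕ Fin m) F) *ᵥ ((g : Matrix (Fin m ⊕ Fin m) (Fin m ⊕ Fin m) F) *ᵥ x) := fun x => by
      rw [Units.val_mul, ← Matrix.mulVec_mulVec]
    have hsplit : ∀ y, ∀ a ∈ U, ∀ b ∈ W, (s : Matrix (Fin m ⊕ Fin m) (Fin m ⊕ Fin m) F) *ᵥ y = a + b →
        ∀ yU ∈ U, ∀ yW ∈ W, yU + yW = y → (s : Matrix (Fin m ⊕ Fin m) (Fin m ⊕ Fin m) F) *ᵥ yW = a ∧
          (s : Matrix (Fin m ⊕ Fin m) (Fin m ⊕ Fin m) F) *ᵥ yU = b := by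
      intro y a ha b hb h yU hyU yW hyW hy
      rw [← hy, Matrix.mulVec_add] at h
      have e : (s : Matrix (Fin m ⊕ Fin m) (Fin m ⊕ Fin m) F) *ᵥ yW - a = b - (s : Matrix (Fin m ⊕ Fin m) (Fin m ⊕ Fin m) F) *ᵥ yU :=
        sub_eq_sub_iff_add_eq_add.2 (by linear_combination (norm := module) h)
      have h0 := hp.inj (U.sub_mem (hsW yW hyW) ha) (by rw [e]; exact W.sub_mem hb (hsU yU hyU))
      exact ⟨sub_eq_zero.1 h0, (sub_eq_zero.1 (e.symm.trans h0)).symm⟩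
    have hsinj : ∀ y, (s : Matrix (Fin m ⊕ Fin m) (Fin m ⊕ Fin m) F) *ᵥ y = 0 → y = 0 := fun y h => by
      rw [← FormMaxSL.inv_mulVec_mulVec s y, h, Matrix.mulVec_zero]
    refine key (s * g) (mul_mem hs hg) (mul_mem hsS hgS) (fun h => hnW fun x hx => ?_) (fun x hx hxW => ?_)
      (fun x hx a ha b hb h h0 => ?_)
    · obtain ⟨yU, hyU, yW, hyW, hy⟩ := hp.decomp ((g : Matrix (Fin m ⊕ Fin m) (Fin m ⊕ Fin m) F) *ᵥ x)
      have h1 := hsplit _ _ (h x hx) 0 (zero_mem _) (by rw [hsg, add_zero]) yU hyU yW hyW hy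
      rw [← hy, hsinj _ h1.2, zero_add]; exact hyW
    · obtain ⟨yU, hyU, yW, hyW, hy⟩ := hp.decomp ((g : Matrix (Fin m ⊕ Fin m) (Fin m ⊕ Fin m) F) *ᵥ x)
      rw [hsg] at hxW
      have h1 := hsplit _ 0 (zero_mem _) _ hxW (zero_add _).symm yU hyU yW hyW hy
      have hyW0 := hsinj _ h1.1
      rw [hyW0, add_zero] at hy
      by_contra hx1
      have h9 : Sp.bf m F ((g : Matrix (Fin m ⊕ Fin m) (Fin m ⊕ Fin m) F) *ᵥ x) ((g : Matrix (Fin m ⊕ Fin m) (Fin m ⊕ Fin m) F) *ᵥ x0) = 0 := by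
        rw [mem_spGL.1 hgS, hp.hU x hx x0 hx0]
      rcases hno (x + x0) (U.add_mem hx hx0) _ (hy ▸ hyU) _ hx0W (Matrix.mulVec_add _ _ _) h9 with h3 | h3
      · exact hx1 (by rw [← FormMaxSL.inv_mulVec_mulVec g x, h3, Matrix.mulVec_zero])
      · exact hx00 (by rw [← FormMaxSL.inv_mulVec_mulVec g x0, h3, Matrix.mulVec_zero])
    · obtain ⟨yU, hyU, yW, hyW, hy⟩ := hp.decomp ((g : Matrix (Fin m ⊕ Fin m) (Fin m ⊕ Fin m) F) *ᵥ x)
      rw [hsg] at h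
      obtain ⟨h1, h2⟩ := hsplit _ a ha b hb h yU hyU yW hyW hy
      have h3 : Sp.bf m F yW yU = 0 := by rw [← mem_spGL.1 hsS, h1, h2, h0]
      rcases hno x hx yU hyU yW hyW hy.symm (bf_zero_symm h3) with h4 | h4
      · right; rw [← h2, h4, Matrix.mulVec_zero]
      · left; rw [← h1, h4, Matrix.mulVec_zero]
  intro g hg hgU hnU hRW hno
  classical
  haveI : Fintype F := Fintype.ofFinite F
  -- the vectors mapped into `U`
  let R : Submodule F (Sp.V m F) := U ⊓ U.comap (Matrix.toLin' (g : Matrix (Fin m ⊕ Fin m) (Fin m ⊕ Fin m) F))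
  have hR : ∀ x, x ∈ R ↔ x ∈ U ∧ (g : Matrix (Fin m ⊕ Fin m) (Fin m ⊕ Fin m) F) *ᵥ x ∈ U := fun x => by
    simp [R, Matrix.toLin'_apply]
  let π : Sp.V m F →ₗ[F] Sp.V m F := U.subtype ∘ₗ Submodule.linearProjOfIsCompl U W hp.compl
  have hπ : ∀ a ∈ U, ∀ b ∈ W, π (a + b) = a := by
    intro a ha b hb
    simp only [π, map_add, LinearMap.comp_apply]
    rw [show Submodule.linearProjOfIsCompl U W hp.compl a = ⟨a, ha⟩ from Submodule.linearProjOfIsCompl_apply_left hp.compl ⟨a, ha⟩,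
      show Submodule.linearProjOfIsCompl U W hp.compl b = 0 from Submodule.linearProjOfIsCompl_apply_right hp.compl ⟨b, hb⟩]
    simp
  let G : Sp.V m F →ₗ[F] Sp.V m F := Matrix.toLin' (g : Matrix (Fin m ⊕ Fin m) (Fin m ⊕ Fin m) F)
  let bb : Sp.V m F →ₗ[F] Sp.V m F →ₗ[F] F := (Sp.bf m F).compl₁₂ (π ∘ₗ G) G
  have hbb : ∀ x y, bb x y = Sp.bf m F (π ((g : Matrix (Fin m ⊕ Fin m) (Fin m ⊕ Fin m) F) *ᵥ x)) ((g : Matrix (Fin m ⊕ Fin m) (Fin m ⊕ Fin m) F) *ᵥ y) := by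
    intro x y; simp [bb, G, Matrix.toLin'_apply]
  have hsym : ∀ x ∈ U, ∀ y ∈ U, bb x y = bb y x := by
    intro x hx y hy
    obtain ⟨a, ha, b, hb, hab⟩ := hp.decomp ((g : Matrix (Fin m ⊕ Fin m) (Fin m ⊕ Fin m) F) *ᵥ x)
    obtain ⟨c, hc, d, hd, hcd⟩ := hp.decomp ((g : Matrix (Fin m ⊕ Fin m) (Fin m ⊕ Fin m) F) *ᵥ y)
    have h0 : Sp.bf m F ((g : Matrix (Fin m ⊕ Fin m) (Fin m ⊕ Fin m) F) *ᵥ x) ((g : Matrix (Fin m ⊕ Fin m) (Fin m ⊕ Fin m) F) *ᵥ y) = 0 := by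
      rw [mem_spGL.1 hgU, hp.hU x hx y hy]
    rw [hbb, hbb, ← hab, ← hcd, hπ a ha b hb, hπ c hc d hd]
    rw [← hab, ← hcd] at h0
    simp only [map_add, LinearMap.add_apply, hp.hU a ha c hc, hp.hW b hb d hd, hp.hU c hc a ha] at h0 ⊢
    rw [Sp.bf_swap c b] at h0
    linear_combination h0
  have hzero : ∀ x ∈ U, bb x x = 0 → x ∈ R := by
    intro x hx h0
    obtain ⟨a, ha, b, hb, hab⟩ := hp.decomp ((g : Matrix (Fin m ⊕ Fin m) (Fin m ⊕ Fin m) F) *ᵥ x)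
    rw [hbb, ← hab, hπ a ha b hb, map_add, hp.hU a ha a ha, zero_add] at h0
    rcases hno x hx a ha b hb hab.symm h0 with h | h
    · rw [h, zero_add] at hab
      rw [hRW x hx (hab ▸ hb)]; exact zero_mem _
    · rw [h, add_zero] at hab
      exact (hR x).2 ⟨hx, hab ▸ ha⟩
  have hRb : ∀ r ∈ R, ∀ y ∈ U, bb r y = 0 := by
    intro r hr y hy
    rw [hR] at hr
    have e := hπ _ hr.2 0 (zero_mem _)
    rw [add_zero] at e
    rw [hbb, e, mem_spGL.1 hgU, hp.hU r hr.1 y hy]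
  obtain ⟨x, hx, hxR⟩ : ∃ x ∈ U, x ∉ R := by
    by_contra h
    push Not at h
    exact hnU fun x hx => ((hR x).1 (h x hx)).2
  have hxx : bb x x ≠ 0 := fun h => hxR (hzero x hx h)
  -- projection off `x`
  let P1 : Sp.V m F → Sp.V m F := fun y => y - (bb y x / bb x x) • x
  have hP1 : ∀ y ∈ U, P1 y ∈ U ∧ bb (P1 y) x = 0 ∧ bb x (P1 y) = 0 := by
    intro y hy
    have h1 : P1 y ∈ U := U.sub_mem hy (U.smul_mem _ hx)
    have h2 : bb (P1 y) x = 0 := by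
      simp only [P1, map_sub, map_smul, LinearMap.sub_apply, LinearMap.smul_apply, smul_eq_mul]
      field_simp
      ring
    exact ⟨h1, h2, by rw [hsym x hx _ h1]; exact h2⟩
  -- decomposition: `U` is `R` with at most two more vectors
  obtain ⟨y, hy, hyx, hspan⟩ : ∃ y ∈ U, bb y x = 0 ∧ ∀ z ∈ U, ∃ s t : F, z - s • x - t • y ∈ R := by
    by_cases hall : ∀ z ∈ U, P1 z ∈ R
    · refine ⟨0, zero_mem _, by simp, fun z hz => ⟨bb z x / bb x x, 0, ?_⟩⟩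
      rw [zero_smul, sub_zero]; exact hall z hz
    push Not at hall
    obtain ⟨y0, hy0, hy0R⟩ := hall
    obtain ⟨hyU, hyx, hxy⟩ := hP1 y0 hy0
    have hyy : bb (P1 y0) (P1 y0) ≠ 0 := fun h => hy0R (hzero _ hyU h)
    refine ⟨P1 y0, hyU, hyx, fun z hz => ⟨bb z x / bb x x, bb (P1 z) (P1 y0) / bb (P1 y0) (P1 y0), ?_⟩⟩
    obtain ⟨hzU, hzx, hxz⟩ := hP1 z hz
    obtain ⟨z1, hz1⟩ : ∃ z1, z1 = P1 z - (bb (P1 z) (P1 y0) / bb (P1 y0) (P1 y0)) • P1 y0 := ⟨_, rfl⟩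
    show P1 z - _ • P1 y0 ∈ R
    rw [← hz1]
    have hz1U : z1 ∈ U := hz1 ▸ U.sub_mem hzU (U.smul_mem _ hyU)
    have o1 : bb z1 x = 0 ∧ bb x z1 = 0 := by
      constructor
      · rw [hz1]; simp [hzx, hyx]
      · rw [hz1]; simp [hxz, hxy]
    have o2 : bb z1 (P1 y0) = 0 := by
      rw [hz1]; simp only [map_sub, map_smul, LinearMap.sub_apply, LinearMap.smul_apply, smul_eq_mul]
      field_simp
      ring
    have o2' : bb (P1 y0) z1 = 0 := by rw [hsym _ hyU _ hz1U]; exact o2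
    by_contra hz1R
    have hzz : bb z1 z1 ≠ 0 := fun h => hz1R (hzero _ hz1U h)
    obtain ⟨X, Y, hXY⟩ := FiniteField.exists_root_sum_quadratic
      (f := Polynomial.C (bb x x) * Polynomial.X ^ 2)
      (g := Polynomial.C (bb (P1 y0) (P1 y0)) * Polynomial.X ^ 2 - Polynomial.C (-(bb z1 z1)))
      (by rw [Polynomial.degree_C_mul_X_pow 2 hxx]; rfl)
      (by rw [Polynomial.degree_sub_C, Polynomial.degree_C_mul_X_pow 2 hyy]
          · rfl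
          · rw [Polynomial.degree_C_mul_X_pow 2 hyy]; exact WithBot.coe_lt_coe.2 two_pos)
      (by
        refine FiniteField.odd_card_of_char_ne_two fun h => h2 ?_
        have := ringChar.spec F 2
        rw [h] at this
        exact_mod_cast this.2 dvd_rfl)
    simp at hXY
    have h0 : bb (X • x + Y • P1 y0 + z1) (X • x + Y • P1 y0 + z1) = 0 := by
      simp only [map_add, map_smul, LinearMap.add_apply, LinearMap.smul_apply, smul_eq_mul, o1.1, o1.2, o2, o2', hyx, hxy]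
      linear_combination hXY
    have hv := hzero _ (U.add_mem (U.add_mem (U.smul_mem _ hx) (U.smul_mem _ hyU)) hz1U) h0
    have h3 := hRb _ hv z1 hz1U
    simp only [map_add, map_smul, LinearMap.add_apply, LinearMap.smul_apply, smul_eq_mul, o1.2, o2'] at h3
    exact hzz (by linear_combination h3)
  -- two independent vectors mapped into `U`
  have hdim : k ≤ Module.finrank F R + 4 := by
    have hle : U ≤ R ⊔ Submodule.span F {x, y, y} := by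
      intro z hz
      obtain ⟨s, t, ht⟩ := hspan z hz
      rw [show z = (z - s • x - t • y) + (s • x + t • y) by abel]
      exact Submodule.add_mem_sup ht (add_mem (Submodule.smul_mem _ _ (Submodule.subset_span (by simp)))
        (Submodule.smul_mem _ _ (Submodule.subset_span (by simp))))
    have h1 := Submodule.finrank_mono hle
    have h2 := Submodule.finrank_add_le_finrank_add_finrank R (Submodule.span F {x, y, y})
    have h3 := finrank_triple_le x y y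
    have := hp.dimU
    omega
  obtain ⟨u1, hu1, hu10⟩ : ∃ u ∈ R, u ≠ 0 := by
    by_contra h
    push Not at h
    rw [(Submodule.eq_bot_iff R).2 h, finrank_bot] at hdim
    have := hp.hk
    omega
  obtain ⟨u2, hu2, hu20⟩ : ∃ u ∈ R, u ∉ Submodule.span F {u1} := by
    by_contra h
    push Not at h
    have h1 := Submodule.finrank_mono (show R ≤ Submodule.span F {u1} from h)
    have h3 : Module.finrank F (Submodule.span F {u1}) ≤ 1 :=
      le_trans (finrank_span_le_card ({u1} : Set (Sp.V m F))) (by simp)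
    have := hp.hk
    omega
  rw [hR] at hu1 hu2
  rcases case_U hp M hM h2 hg hgU hu1.1 hu10 hu1.2 with hf | hf1
  · exact Or.inl hf
  rcases case_U hp M hM h2 hg hgU hu2.1 (fun h => hu20 (h ▸ zero_mem _)) hu2.2 with hf | hf2
  · exact Or.inl hf
  obtain ⟨y2, hy2, hval⟩ := hp.exists_vals ![u1, u2]
    (fun i => by fin_cases i <;> [exact hu1.1; exact hu2.1]) (indep_pair hu10 hu20) ![1, 0]
  have hv1 := hval 0
  have hv2 := hval 1
  simp only [Matrix.cons_val] at hv1 hv2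
  have hgW : ∀ z ∈ W, (g : Matrix (Fin m ⊕ Fin m) (Fin m ⊕ Fin m) F) *ᵥ z ∈ W := by
    intro z hz
    rw [show z = (z - Sp.bf m F u1 z • y2) + Sp.bf m F u1 z • y2 by abel, Matrix.mulVec_add, Matrix.mulVec_smul]
    refine W.add_mem (hf1 _ (W.sub_mem hz (W.smul_mem _ hy2)) ?_) (W.smul_mem _ (hf2 _ hy2 hv2))
    rw [map_sub, map_smul, hv1, smul_eq_mul, mul_one, sub_self]
  obtain ⟨ux, hux, wx, hwx, hgx⟩ := hp.decomp ((g : Matrix (Fin m ⊕ Fin m) (Fin m ⊕ Fin m) F) *ᵥ x)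
  obtain ⟨uy, huy, wy, hwy, hgy⟩ := hp.decomp ((g : Matrix (Fin m ⊕ Fin m) (Fin m ⊕ Fin m) F) *ᵥ y)
  obtain ⟨δ, hδ⟩ : ∃ δ, δ = Sp.bf m F ux wx := ⟨_, rfl⟩
  obtain ⟨ε, hε⟩ : ∃ ε, ε = Sp.bf m F uy wy := ⟨_, rfl⟩
  have hval1 : bb x x = δ := by rw [hbb, ← hgx, hπ ux hux wx hwx, map_add, hp.hU ux hux ux hux, zero_add, hδ]
  have hval2 : bb y y = ε := by rw [hbb, ← hgy, hπ uy huy wy hwy, map_add, hp.hU uy huy uy huy, zero_add, hε]
  have hyxw : Sp.bf m F uy wx = 0 := by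
    rw [hbb, ← hgx, ← hgy, hπ uy huy wy hwy, map_add, hp.hU uy huy ux hux, zero_add] at hyx
    exact hyx
  have hxyw : Sp.bf m F ux wy = 0 := by
    have h0 := hsym x hx y hy
    rw [hyx, hbb, ← hgx, ← hgy, hπ ux hux wx hwx, map_add, hp.hU ux hux uy huy, zero_add] at h0
    exact h0
  have hδ0 : δ ≠ 0 := hval1 ▸ hxx
  obtain ⟨h, hh⟩ : ∃ h, h = tvGL wy (-ε⁻¹) * tvGL wx (-δ⁻¹) * g := ⟨_, rfl⟩
  have happ : ∀ z, (h : Matrix (Fin m ⊕ Fin m) (Fin m ⊕ Fin m) F) *ᵥ z =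
      (tvGL wy (-ε⁻¹) : GL (Fin m ⊕ Fin m) F).1 *ᵥ ((tvGL wx (-δ⁻¹) : GL (Fin m ⊕ Fin m) F).1 *ᵥ ((g : Matrix (Fin m ⊕ Fin m) (Fin m ⊕ Fin m) F) *ᵥ z)) := fun z => by
    rw [hh, Units.val_mul, Units.val_mul, ← Matrix.mulVec_mulVec, ← Matrix.mulVec_mulVec]
  have hhW : ∀ z ∈ W, (h : Matrix (Fin m ⊕ Fin m) (Fin m ⊕ Fin m) F) *ᵥ z ∈ W := by
    intro z hz
    have hz' := hgW z hz
    rw [happ, tvGL_mulVec, tvGL_mulVec]
    simp only [hp.hW _ hz' wx hwx, hp.hW _ hz' wy hwy, mul_zero, zero_smul, add_zero]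
    exact hz'
  have hεc : ε = 0 → wy = 0 := by
    intro h0
    have h1 := hzero y hy (hval2.trans h0)
    rw [hR, ← hgy] at h1
    exact hp.inj (by simpa using U.sub_mem h1.2 huy) hwy
  have hhU : ∀ z ∈ U, (h : Matrix (Fin m ⊕ Fin m) (Fin m ⊕ Fin m) F) *ᵥ z ∈ U := by
    intro z hz
    obtain ⟨s, t, ht⟩ := hspan z hz
    rw [show z = (z - s • x - t • y) + s • x + t • y by abel, Matrix.mulVec_add, Matrix.mulVec_add,
      Matrix.mulVec_smul, Matrix.mulVec_smul]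
    refine U.add_mem (U.add_mem ?_ (U.smul_mem _ ?_)) (U.smul_mem _ ?_)
    · obtain ⟨r, hr⟩ : ∃ r, r = z - s • x - t • y := ⟨_, rfl⟩
      rw [← hr] at ht ⊢
      rw [hR] at ht
      have h0 : ∀ v ∈ U, ∀ uv ∈ U, ∀ wv ∈ W, uv + wv = (g : Matrix (Fin m ⊕ Fin m) (Fin m ⊕ Fin m) F) *ᵥ v →
          Sp.bf m F ((g : Matrix (Fin m ⊕ Fin m) (Fin m ⊕ Fin m) F) *ᵥ r) wv = 0 := by
        intro v hv uv huv wv hwv hgv
        have h1 := mem_spGL.1 hgU r v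
        rw [← hgv, map_add, hp.hU _ ht.2 uv huv, zero_add, hp.hU r ht.1 v hv] at h1
        exact h1
      rw [happ, tvGL_mulVec, tvGL_mulVec]
      simp only [h0 x hx ux hux wx hwx hgx, h0 y hy uy huy wy hwy hgy, mul_zero, zero_smul, add_zero]
      exact ht.2
    · rw [happ, ← hgx, tvGL_mulVec, tvGL_mulVec]
      simp only [map_add, map_smul, LinearMap.add_apply, LinearMap.smul_apply, hp.hW wx hwx wx hwx,
        hp.hW wx hwx wy hwy, ← hδ, hxyw, smul_eq_mul, add_zero, mul_zero, zero_smul, neg_mul, inv_mul_cancel₀ hδ0]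
      rw [neg_one_smul, add_neg_cancel_right]; exact hux
    · rw [happ, ← hgy, tvGL_mulVec, tvGL_mulVec]
      simp only [map_add, map_smul, LinearMap.add_apply, LinearMap.smul_apply, hp.hW wy hwy wx hwx,
        hp.hW wy hwy wy hwy, ← hε, hyxw, smul_eq_mul, add_zero, mul_zero, zero_smul, neg_mul]
      by_cases h0 : ε = 0
      · simp [hεc h0, huy]
      · rw [inv_mul_cancel₀ h0, neg_one_smul, add_neg_cancel_right]; exact huy
  have htM := mul_mem (hM h (hh ▸ mul_mem (mul_mem (tvGL_mem _ _) (tvGL_mem _ _)) hgU) hhU hhW) (inv_mem hg)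
  rw [hh, mul_inv_cancel_right] at htM
  have hsymM := fun x hx a b => hM x hx b a
  have hwx0 : wx ≠ 0 := fun h => hδ0 (by rw [hδ, h, map_zero])
  by_cases h0 : ε = 0
  · rw [hεc h0, show tvGL (0 : Sp.V m F) (-ε⁻¹) = 1 by rw [h0]; simp [tvGL_zero], one_mul] at htM
    exact Or.inr (full_U_of_mem hp.symm M hsymM h2 hwx hwx0 (neg_ne_zero.2 (inv_ne_zero hδ0)) htM)
  · refine Or.inr (full_U_of_two hp.symm M hsymM h2 hwy hwx ?_ (neg_ne_zero.2 (inv_ne_zero h0)) htM)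
    rw [LinearIndependent.pair_iff]
    intro a b hab
    have h1 := congrArg (Sp.bf m F ux) hab
    have h3 := congrArg (Sp.bf m F uy) hab
    simp only [map_add, map_smul, map_zero, smul_eq_mul, hxyw, ← hδ, mul_zero, zero_add] at h1
    simp only [map_add, map_smul, map_zero, smul_eq_mul, hyxw, ← hε, mul_zero, add_zero] at h3
    exact ⟨(mul_eq_zero.1 h3).resolve_right h0, (mul_eq_zero.1 h1).resolve_right hδ0⟩

end

/-- maximality -/
theorem maximal [Fintype F] (hm : 7 ≤ m) (hodd : Odd (Fintype.card F)) (D : Fin 2 → Submodule F (Sp.V m F))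
    (hD : Cfsg.Geo.IsMDecomposition m D) (hts : ∀ i, Cfsg.Geo.IsTotallySingularFor (Cfsg.sympForm m F) (D i)) :
    Cfsg.Geo.IsMaximalIn (Cfsg.spGL m F) (Cfsg.Geo.decompositionStabilizer D ⊓ Cfsg.spGL m F) := by
  have h2 : (2 : F) ≠ 0 := by
    intro h
    have h3 : ringChar F = 2 := by
      have h4 : ((2 : ℕ) : F) = 0 := by exact_mod_cast h
      rcases (Nat.dvd_prime Nat.prime_two).1 (ringChar.dvd h4) with h5 | h5
      · exact absurd h5 CharP.ringChar_ne_one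
      · exact h5
    have h6 := FiniteField.even_card_iff_char_two.1 h3
    rw [Nat.odd_iff] at hodd
    omega
  have hts' : ∀ i, ∀ x ∈ D i, ∀ y ∈ D i, Sp.bf m F x y = 0 := fun i x hx y hy => by
    rw [Sp.bf_eq]; exact hts i x hx y hy
  have hp : Pol m m (D 0) (D 1) := by
    refine ⟨hts' 0, hts' 1, ⟨hD.indep.pairwiseDisjoint (by decide : (0 : Fin 2) ≠ 1), ?_⟩, hD.finrank_eq 0,
      hD.finrank_eq 1, hm⟩
    rw [codisjoint_iff, eq_top_iff, ← hD.iSup_eq_top]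
    exact iSup_le fun i => by fin_cases i <;> [exact le_sup_left; exact le_sup_right]
  have himg : ∀ (g : GL (Fin m ⊕ Fin m) F) (A B : Submodule F (Sp.V m F)), Module.finrank F A = m → Module.finrank F B = m →
      (∀ x ∈ A, (g : Matrix (Fin m ⊕ Fin m) (Fin m ⊕ Fin m) F) *ᵥ x ∈ B) →
      A.map (Matrix.toLin' (g : Matrix (Fin m ⊕ Fin m) (Fin m ⊕ Fin m) F)) = B := by
    intro g A B hA hB h
    refine Submodule.eq_of_le_of_finrank_le ?_ ?_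
    · rintro _ ⟨x, hx, rfl⟩
      rw [Matrix.toLin'_apply]; exact h x hx
    · have hinj : Function.Injective (Matrix.toLin' (g : Matrix (Fin m ⊕ Fin m) (Fin m ⊕ Fin m) F)) := fun x y hxy => by
        rw [Matrix.toLin'_apply, Matrix.toLin'_apply] at hxy
        rw [← FormMaxSL.inv_mulVec_mulVec g x, hxy, FormMaxSL.inv_mulVec_mulVec]
      rw [← (Submodule.equivMapOfInjective _ hinj A).finrank_eq]
      exact le_of_eq (hB.trans hA.symm)
  have hmem : ∀ g : GL (Fin m ⊕ Fin m) F, g ∈ Cfsg.Geo.decompositionStabilizer D ↔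
      ((∀ x ∈ D 0, (g : Matrix (Fin m ⊕ Fin m) (Fin m ⊕ Fin m) F) *ᵥ x ∈ D 0) ∧ (∀ x ∈ D 1, (g : Matrix (Fin m ⊕ Fin m) (Fin m ⊕ Fin m) F) *ᵥ x ∈ D 1)) ∨
      ((∀ x ∈ D 0, (g : Matrix (Fin m ⊕ Fin m) (Fin m ⊕ Fin m) F) *ᵥ x ∈ D 1) ∧ (∀ x ∈ D 1, (g : Matrix (Fin m ⊕ Fin m) (Fin m ⊕ Fin m) F) *ᵥ x ∈ D 0)) := by
    intro g
    constructor
    · rintro ⟨σ, hσ⟩
      have h : ∀ i, ∀ x ∈ D i, (g : Matrix (Fin m ⊕ Fin m) (Fin m ⊕ Fin m) F) *ᵥ x ∈ D (σ i) := fun i x hx => by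
        rw [← hσ i]; exact ⟨x, hx, Matrix.toLin'_apply _ _⟩
      have h0 := h 0
      have h1 := h 1
      have key : ∀ τ : Equiv.Perm (Fin 2), (τ 0 = 0 ∧ τ 1 = 1) ∨ (τ 0 = 1 ∧ τ 1 = 0) := by decide
      rcases key σ with ⟨e0, e1⟩ | ⟨e0, e1⟩
      · rw [e0] at h0; rw [e1] at h1; exact Or.inl ⟨h0, h1⟩
      · rw [e0] at h0; rw [e1] at h1; exact Or.inr ⟨h0, h1⟩
    · rintro (⟨h0, h1⟩ | ⟨h0, h1⟩)
      · refine ⟨1, fun i => ?_⟩
        fin_cases i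
        · exact himg g _ _ (hD.finrank_eq 0) (hD.finrank_eq 0) h0
        · exact himg g _ _ (hD.finrank_eq 1) (hD.finrank_eq 1) h1
      · refine ⟨Equiv.swap 0 1, fun i => ?_⟩
        fin_cases i
        · exact himg g _ _ (hD.finrank_eq 0) (hD.finrank_eq 1) h0
        · exact himg g _ _ (hD.finrank_eq 1) (hD.finrank_eq 0) h1
  obtain ⟨s, hsS, hs0, hs1⟩ := exists_swap hp
  refine ⟨lt_of_le_of_ne inf_le_right ?_, ?_⟩
  · intro heq
    obtain ⟨u, hu, hu0⟩ : ∃ u ∈ D 0, u ≠ 0 := by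
      by_contra h
      push Not at h
      have := hD.finrank_eq 0
      rw [(Submodule.eq_bot_iff _).2 h, finrank_bot] at this
      omega
    obtain ⟨y, hy, hval⟩ := hp.exists_vals ![u] (fun i => by fin_cases i; exact hu)
      (Fintype.linearIndependent_iff.2 fun c hc i => by fin_cases i; simpa [hu0] using hc) ![1]
    have hy1 := hval 0
    simp only [Matrix.cons_val_zero] at hy1
    have h := (hmem _).1 (heq.ge (tvGL_mem y (1 : F))).1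
    have e : (tvGL y (1 : F) : GL (Fin m ⊕ Fin m) F).1 *ᵥ u = u + y := by rw [tvGL_mulVec, hy1, mul_one, one_smul]
    have hy0 : y ≠ 0 := fun h' => by
      rw [h', map_zero] at hy1
      exact zero_ne_one hy1
    rcases h with ⟨h0, -⟩ | ⟨h0, -⟩ <;> have h1 := h0 u hu <;> rw [e] at h1
    · have h3 := (D 0).sub_mem h1 hu
      rw [add_sub_cancel_left] at h3
      exact hy0 (hp.inj h3 hy)
    · have h3 := (D 1).sub_mem h1 hy
      rw [add_sub_cancel_right] at h3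
      exact hu0 (hp.inj hu h3)
  intro M hHM hMS
  by_cases hMH : M ≤ Cfsg.Geo.decompositionStabilizer D ⊓ Cfsg.spGL m F
  · exact Or.inl (le_antisymm hMH hHM)
  right
  refine le_antisymm hMS ?_
  have hM : ∀ g ∈ Cfsg.spGL m F,
      (∀ x ∈ D 0, (g : Matrix (Fin m ⊕ Fin m) (Fin m ⊕ Fin m) F) *ᵥ x ∈ D 0) → (∀ x ∈ D 1, (g : Matrix (Fin m ⊕ Fin m) (Fin m ⊕ Fin m) F) *ᵥ x ∈ D 1) →
      g ∈ M := fun g hg h0 h1 => hHM ⟨(hmem g).2 (Or.inl ⟨h0, h1⟩), hg⟩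
  have hsM : s ∈ M := hHM ⟨(hmem s).2 (Or.inr ⟨hs0, hs1⟩), hsS⟩
  obtain ⟨g, hgM, hgH⟩ := SetLike.not_le_iff_exists.1 hMH
  have hgS := hMS hgM
  obtain ⟨g', hg'M, hg'0, hg'1⟩ : ∃ g' ∈ M, (¬ ∀ x ∈ D 0, (g' : Matrix (Fin m ⊕ Fin m) (Fin m ⊕ Fin m) F) *ᵥ x ∈ D 0) ∧
      ¬ ∀ x ∈ D 0, (g' : Matrix (Fin m ⊕ Fin m) (Fin m ⊕ Fin m) F) *ᵥ x ∈ D 1 := by
    by_contra hcon
    push Not at hcon
    have hU : (∀ x ∈ D 0, (g : Matrix (Fin m ⊕ Fin m) (Fin m ⊕ Fin m) F) *ᵥ x ∈ D 0) ∨ ∀ x ∈ D 0, (g : Matrix (Fin m ⊕ Fin m) (Fin m ⊕ Fin m) F) *ᵥ x ∈ D 1 :=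
      or_iff_not_imp_left.2 fun h => hcon g hgM (by push Not at h; exact h)
    have hW : (∀ x ∈ D 1, (g : Matrix (Fin m ⊕ Fin m) (Fin m ⊕ Fin m) F) *ᵥ x ∈ D 0) ∨ ∀ x ∈ D 1, (g : Matrix (Fin m ⊕ Fin m) (Fin m ⊕ Fin m) F) *ᵥ x ∈ D 1 := by
      have hsimg : ∀ x ∈ D 1, ∃ y ∈ D 0, (s : Matrix (Fin m ⊕ Fin m) (Fin m ⊕ Fin m) F) *ᵥ y = x := by
        intro x hx
        rw [← himg s (D 0) (D 1) (hD.finrank_eq 0) (hD.finrank_eq 1) hs0] at hx
        obtain ⟨y, hy, he⟩ := hx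
        exact ⟨y, hy, by rw [← he, Matrix.toLin'_apply]⟩
      have h : (∀ x ∈ D 0, ((g * s : GL (Fin m ⊕ Fin m) F) : Matrix (Fin m ⊕ Fin m) (Fin m ⊕ Fin m) F) *ᵥ x ∈ D 0) ∨
          ∀ x ∈ D 0, ((g * s : GL (Fin m ⊕ Fin m) F) : Matrix (Fin m ⊕ Fin m) (Fin m ⊕ Fin m) F) *ᵥ x ∈ D 1 :=
        or_iff_not_imp_left.2 fun h => hcon (g * s) (mul_mem hgM hsM) (by push Not at h; exact h)
      rcases h with h | h
      · refine Or.inl fun x hx => ?_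
        obtain ⟨y, hy, rfl⟩ := hsimg x hx
        have := h y hy
        rwa [Units.val_mul, ← Matrix.mulVec_mulVec] at this
      · refine Or.inr fun x hx => ?_
        obtain ⟨y, hy, rfl⟩ := hsimg x hx
        have := h y hy
        rwa [Units.val_mul, ← Matrix.mulVec_mulVec] at this
    have hnot : ∀ i, (∀ x ∈ D 0, (g : Matrix (Fin m ⊕ Fin m) (Fin m ⊕ Fin m) F) *ᵥ x ∈ D i) →
        (∀ x ∈ D 1, (g : Matrix (Fin m ⊕ Fin m) (Fin m ⊕ Fin m) F) *ᵥ x ∈ D i) → False := by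
      intro i h0 h1
      have htop : ∀ x, x ∈ D i := by
        intro x
        obtain ⟨a, ha, b, hb, hab⟩ := hp.decomp (((g⁻¹ : GL (Fin m ⊕ Fin m) F) : Matrix (Fin m ⊕ Fin m) (Fin m ⊕ Fin m) F) *ᵥ x)
        rw [← FormMaxSL.mulVec_inv_mulVec g x, ← hab, Matrix.mulVec_add]
        exact (D i).add_mem (h0 a ha) (h1 b hb)
      have := hD.finrank_eq i
      rw [Submodule.eq_top_iff'.2 htop, finrank_top, Module.finrank_fintype_fun_eq_card, Fintype.card_sum, Fintype.card_fin] at this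
      omega
    rcases hU with h0 | h0 <;> rcases hW with h1 | h1
    · exact hnot 0 h0 h1
    · exact hgH ⟨(hmem g).2 (Or.inl ⟨h0, h1⟩), hgS⟩
    · exact hgH ⟨(hmem g).2 (Or.inr ⟨h0, h1⟩), hgS⟩
    · exact hnot 1 h0 h1
  have hboth : (∀ x ∈ D 0, x ∈ Full M) ∧ ∀ x ∈ D 1, x ∈ Full M := by
    have htr : ∀ i j, (∀ x ∈ D i, (s : Matrix (Fin m ⊕ Fin m) (Fin m ⊕ Fin m) F) *ᵥ x ∈ D j) → (∀ x ∈ D i, x ∈ Full M) →
        ∀ x ∈ D j, x ∈ Full M := by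
      intro i j hij hf x hx
      rw [← himg s (D i) (D j) (hD.finrank_eq i) (hD.finrank_eq j) hij] at hx
      obtain ⟨y, hy, rfl⟩ := hx
      rw [Matrix.toLin'_apply]
      exact SpMax.full_map hsM hsS (hf y hy)
    rcases one_side hp M hM h2 hg'M (hMS hg'M) hsM hsS hs0 hs1 hg'0 hg'1 with h | h
    · exact ⟨h, htr 0 1 hs0 h⟩
    · exact ⟨htr 1 0 hs1 h, h⟩
  exact SpMax.le_of_full (full_all hp hboth.1 hboth.2)

end CfsgLib.Lie.PolDecompSp
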