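import Cfsg.Prelude.Def_GeometricClasses

/-!
Fixed spaces in primitive soluble linear groups.
-/

set_option autoImplicit false
set_option linter.unusedSimpArgs false
set_option linter.unusedSectionVars false

namespace CfsgLib.Lie.PrimSolvFix

open Matrix
open scoped commutatorElement

variable {F : Type*} [Field F] [Fintype F] {n : ℕ}

/-- the common fixed space of a subgroup -/
def fixS (B : Subgroup (GL (Fin n) F)) : Submodule F (Fin n → F) :=
  ⨅ b ∈ B, LinearMap.ker (Matrix.toLin' (b : Matrix (Fin n) (Fin n) F) - LinearMap.id)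

theorem mem_fixS {B : Subgroup (GL (Fin n) F)} {v : Fin n → F} :
    v ∈ fixS B ↔ ∀ b ∈ B, (b : Matrix (Fin n) (Fin n) F) *ᵥ v = v := by
  simp [fixS, sub_eq_zero]

theorem map_fixS (x : GL (Fin n) F) (B : Subgroup (GL (Fin n) F)) :
    (fixS B).map (Matrix.toLin' (x : Matrix (Fin n) (Fin n) F)) =
      fixS (B.map (MulAut.conj x).toMonoidHom) := by
  apply le_antisymm
  · rintro _ ⟨v, hv, rfl⟩
    rw [mem_fixS]
    rintro _ ⟨b, hb, rfl⟩
    simp only [MulEquiv.toMonoidHom_eq_coe, MonoidHom.coe_coe, MulAut.conj_apply, Units.val_mul,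
      Matrix.toLin'_apply, Matrix.mulVec_mulVec, mul_assoc, ← Units.val_mul, inv_mul_cancel, mul_one]
    rw [Units.val_mul, ← Matrix.mulVec_mulVec, mem_fixS.1 hv b hb]
  · intro v hv
    refine ⟨((x⁻¹ : GL (Fin n) F) : Matrix (Fin n) (Fin n) F) *ᵥ v, mem_fixS.2 fun b hb => ?_, ?_⟩
    · have h := mem_fixS.1 hv _ ⟨b, hb, rfl⟩
      simp only [MulEquiv.toMonoidHom_eq_coe, MonoidHom.coe_coe, MulAut.conj_apply] at h
      conv_rhs => rw [← h]
      rw [Matrix.mulVec_mulVec, Matrix.mulVec_mulVec, ← Units.val_mul, ← Units.val_mul]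
      congr 2
      group
    · rw [Matrix.toLin'_apply, Matrix.mulVec_mulVec, ← Units.val_mul, mul_inv_cancel, Units.val_one,
        Matrix.one_mulVec]

attribute [irreducible] fixS

variable (G : Subgroup (GL (Fin n) F))
  (hirr : Cfsg.Geo.ActsIrreducibly (Cfsg.Geo.matrixSet G))
  (hprim : ∀ (m t : ℕ) (D : Fin t → Submodule F (Fin n → F)), 2 ≤ t →
    Cfsg.Geo.IsMDecomposition m D → ¬ G ≤ Cfsg.Geo.decompositionStabilizer D)
include hirr hprim

/-- An abelian normal subgroup acts without fixed vectors. -/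
theorem fixS_eq_bot (A : Subgroup (GL (Fin n) F)) (hAG : A ≤ G)
    (hAab : ∀ a ∈ A, ∀ b ∈ A, a * b = b * a) (hAn : ∀ x ∈ G, ∀ a ∈ A, x * a * x⁻¹ ∈ A)
    (a : GL (Fin n) F) (ha : a ∈ A) (ha1 : a ≠ 1) :
    fixS (Subgroup.zpowers a) = ⊥ := by
  classical
  -- invariant subspaces
  have hinv : ∀ W : Submodule F (Fin n → F),
      (∀ x ∈ G, W.map (Matrix.toLin' (x : Matrix (Fin n) (Fin n) F)) ≤ W) → W = ⊥ ∨ W = ⊤ := by
    intro W hW
    refine hirr W ?_
    rintro _ ⟨x, hx, rfl⟩
    exact hW x hx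
  have hfix1 : ∀ B, fixS (F := F) (n := n) B = ⊤ → B = ⊥ := by
    intro B hB
    rw [Subgroup.eq_bot_iff_forall]
    intro b hb
    refine Units.ext (Matrix.toLin'.injective (LinearMap.ext fun v => ?_))
    have : v ∈ fixS B := hB ▸ Submodule.mem_top
    simpa using mem_fixS.1 this b hb
  obtain ⟨p, hp⟩ := CharP.exists F
  obtain ⟨e, hpp, -⟩ := FiniteField.card F p
  haveI := Fact.mk hpp
  -- no element of order `p` in `A`
  have hAp : ∀ b ∈ A, b ^ p = 1 → b = 1 := by
    intro b hb hbp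
    let P : Subgroup (GL (Fin n) F) :=
      { carrier := {c | c ∈ A ∧ c ^ p = 1}
        one_mem' := ⟨A.one_mem, one_pow p⟩
        mul_mem' := fun {c d} hc hd => ⟨A.mul_mem hc.1 hd.1, by
          rw [Commute.mul_pow (hAab c hc.1 d hd.1), hc.2, hd.2, one_mul]⟩
        inv_mem' := fun {c} hc => ⟨A.inv_mem hc.1, by rw [inv_pow, hc.2, inv_one]⟩ }
    by_cases hn0 : n = 0
    · subst hn0; exact Units.ext (Subsingleton.elim _ _)
    haveI : Nonempty (Fin n) := ⟨⟨0, Nat.pos_of_ne_zero hn0⟩⟩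
    obtain ⟨B, -, ⟨hBP, hB0⟩, hBmax⟩ := Finite.exists_le_maximal
      (p := fun B : Subgroup (GL (Fin n) F) => B ≤ P ∧ fixS B ≠ ⊥) (a := ⊥) ⟨bot_le, by
        intro h
        have : (fun _ => 1 : Fin n → F) ∈ fixS (⊥ : Subgroup (GL (Fin n) F)) :=
          mem_fixS.2 fun b hb => by rw [Subgroup.mem_bot.1 hb]; simp
        rw [h, Submodule.mem_bot] at this
        exact one_ne_zero (congrFun this (Classical.arbitrary _))⟩
    have hBeq : P ≤ B := by
      intro c hc
      obtain ⟨v, hv, hv0⟩ := Submodule.exists_mem_ne_zero_of_ne_bot hB0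
      -- apply powers of `c - 1`
      set N := Matrix.toLin' ((c : Matrix (Fin n) (Fin n) F) - 1) with hN
      have hNp : N ^ p = 0 := by
        have h1 : ((c : Matrix (Fin n) (Fin n) F) - 1) ^ p = 0 := by
          haveI : CharP (Matrix (Fin n) (Fin n) F) p := Matrix.charP p
          rw [sub_pow_char_of_commute p (Commute.one_right _), one_pow, ← Units.val_pow_eq_pow_val,
            hc.2, Units.val_one, sub_self]
        rw [hN, ← Matrix.toLin'_pow, h1, map_zero]
      have hex : ∃ j, (N ^ j) v = 0 := ⟨p, by rw [hNp]; rfl⟩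
      have hj0 : Nat.find hex ≠ 0 := by
        intro h
        have h2 := Nat.find_spec hex
        rw [h, pow_zero] at h2
        exact hv0 h2
      obtain ⟨j, hj⟩ := Nat.exists_eq_succ_of_ne_zero hj0
      have hu0 : (N ^ j) v ≠ 0 := Nat.find_min hex (by omega)
      have hu : (c : Matrix (Fin n) (Fin n) F) *ᵥ ((N ^ j) v) = (N ^ j) v := by
        have h2 : N ((N ^ j) v) = 0 := by
          have h3 := Nat.find_spec hex
          rw [hj, pow_succ', Module.End.mul_apply] at h3
          exact h3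
        rw [hN, Matrix.toLin'_apply, Matrix.sub_mulVec, Matrix.one_mulVec, sub_eq_zero] at h2
        exact h2
      have huB : ∀ k, (N ^ k) v ∈ fixS B := by
        intro k
        induction k with
        | zero => simpa using hv
        | succ k ih =>
          rw [pow_succ', Module.End.mul_apply, hN, Matrix.toLin'_apply, Matrix.sub_mulVec,
            Matrix.one_mulVec]
          refine Submodule.sub_mem _ (mem_fixS.2 fun b hb => ?_) ih
          rw [Matrix.mulVec_mulVec, ← Units.val_mul, hAab b (hBP hb).1 c hc.1, Units.val_mul,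
            ← Matrix.mulVec_mulVec, mem_fixS.1 ih b hb]
      have hsup : B ⊔ Subgroup.zpowers c ≤ B := hBmax ⟨sup_le hBP (Subgroup.zpowers_le.2 hc), by
        intro h
        apply hu0
        have : (N ^ j) v ∈ fixS (B ⊔ Subgroup.zpowers c) := by
          refine mem_fixS.2 fun b hb => ?_
          let S : Subgroup (GL (Fin n) F) :=
            { carrier := {b | (b : Matrix (Fin n) (Fin n) F) *ᵥ ((N ^ j) v) = (N ^ j) v}
              one_mem' := by simp
              mul_mem' := fun {x y} hx hy => by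
                simp only [Set.mem_setOf_eq] at hx hy ⊢
                rw [Units.val_mul, ← Matrix.mulVec_mulVec, hy, hx]
              inv_mem' := fun {x} hx => by
                simp only [Set.mem_setOf_eq] at hx ⊢
                conv_lhs => rw [← hx]
                rw [Matrix.mulVec_mulVec, ← Units.val_mul, inv_mul_cancel, Units.val_one,
                  Matrix.one_mulVec] }
          have hle : B ⊔ Subgroup.zpowers c ≤ S :=
            sup_le (fun b hb => mem_fixS.1 (huB j) b hb) (Subgroup.zpowers_le.2 (show c ∈ S from hu))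
          exact hle hb
        rwa [h, Submodule.mem_bot] at this⟩ le_sup_left
      exact hsup (Subgroup.mem_sup_right (Subgroup.mem_zpowers c))
    have htop : fixS P = ⊤ := by
      refine (hinv _ fun x hx => ?_).resolve_left fun h => hB0 ?_
      · rw [map_fixS]
        intro v hv
        refine mem_fixS.2 fun c hc => ?_
        refine mem_fixS.1 hv c ⟨x⁻¹ * c * x, ?_, ?_⟩
        · refine ⟨?_, ?_⟩
          · simpa using hAn x⁻¹ (G.inv_mem hx) c hc.1
          · have h9 : (x⁻¹ * c * x⁻¹⁻¹) ^ p = x⁻¹ * c ^ p * x⁻¹⁻¹ := conj_pow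
            rw [inv_inv, hc.2, mul_one, inv_mul_cancel] at h9
            exact h9
        · simp only [MulEquiv.toMonoidHom_eq_coe, MonoidHom.coe_coe, MulAut.conj_apply]; group
      · rw [le_antisymm hBP hBeq]; exact h
    have := hfix1 P htop
    rw [Subgroup.eq_bot_iff_forall] at this
    exact this b ⟨hb, hbp⟩
  -- averaging
  have hcardB : ∀ B : Subgroup (GL (Fin n) F), B ≤ A → ((Nat.card B : ℕ) : F) ≠ 0 := by
    intro B hBA h
    rw [CharP.cast_eq_zero_iff F p] at h
    obtain ⟨b, hb⟩ := exists_prime_orderOf_dvd_card' p h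
    have hbp : (b : GL (Fin n) F) ^ p = 1 := by
      rw [← SubgroupClass.coe_pow, ← hb, pow_orderOf_eq_one]; rfl
    have := hAp b (hBA b.2) hbp
    rw [← Subgroup.orderOf_coe, this, orderOf_one] at hb
    exact hpp.ne_one hb.symm
  by_contra hne
  obtain ⟨B0, hle, ⟨hB0A, hB00⟩, hB0max⟩ := Finite.exists_le_maximal
    (p := fun B : Subgroup (GL (Fin n) F) => B ≤ A ∧ fixS B ≠ ⊥)
    (a := Subgroup.zpowers a) ⟨Subgroup.zpowers_le.2 ha, hne⟩
  let O : Set (Subgroup (GL (Fin n) F)) :=
    {B | ∃ x ∈ G, B = B0.map (MulAut.conj x).toMonoidHom}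
  haveI : Fintype O := Fintype.ofFinite _
  have hconjid : B0.map (MulAut.conj (1 : GL (Fin n) F)).toMonoidHom = B0 := by
    ext; simp
  have hB0O : B0 ∈ O := ⟨1, G.one_mem, hconjid.symm⟩
  have hmapmap : ∀ (x y : GL (Fin n) F) (B : Subgroup (GL (Fin n) F)),
      (B.map (MulAut.conj y).toMonoidHom).map (MulAut.conj x).toMonoidHom =
        B.map (MulAut.conj (x * y)).toMonoidHom := by
    intro x y B
    rw [Subgroup.map_map]
    congr 1
    ext z
    simp [mul_assoc]
  have hOA : ∀ B ∈ O, B ≤ A := by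
    rintro _ ⟨x, hx, rfl⟩ _ ⟨b, hb, rfl⟩
    simpa using hAn x hx b (hB0A hb)
  have hOdim : ∀ B ∈ O, Module.finrank F (fixS B) = Module.finrank F (fixS B0) := by
    rintro _ ⟨x, hx, rfl⟩
    rw [← map_fixS]
    refine (Submodule.equivMapOfInjective _ ?_ _).finrank_eq.symm
    intro v w hvw
    have := congrArg (fun z => ((x⁻¹ : GL (Fin n) F) : Matrix (Fin n) (Fin n) F) *ᵥ z) hvw
    simpa [Matrix.mulVec_mulVec, ← Units.val_mul] using this
  have hOmax : ∀ B ∈ O, ∀ C, B ≤ C → C ≤ A → fixS C ≠ ⊥ → C = B := by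
    rintro _ ⟨x, hx, rfl⟩ C hBC hCA hC
    have h1 : B0 ≤ C.map (MulAut.conj x⁻¹).toMonoidHom := by
      refine le_trans (le_of_eq ?_) (Subgroup.map_mono hBC)
      rw [hmapmap, inv_mul_cancel, hconjid]
    have h2 : C.map (MulAut.conj x⁻¹).toMonoidHom ≤ B0 := by
      refine hB0max ⟨?_, ?_⟩ h1
      · rintro _ ⟨c, hc, rfl⟩
        simpa using hAn x⁻¹ (G.inv_mem hx) c (hCA hc)
      · rw [← map_fixS]
        exact fun h => hC (by
          rw [eq_bot_iff]
          intro v hv
          have h3 : Matrix.toLin' ((x⁻¹ : GL (Fin n) F) : Matrix (Fin n) (Fin n) F) v = 0 := by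
            have := Submodule.mem_map_of_mem
              (f := Matrix.toLin' ((x⁻¹ : GL (Fin n) F) : Matrix (Fin n) (Fin n) F)) hv
            rwa [h, Submodule.mem_bot] at this
          have h4 := congrArg (fun z => (x : Matrix (Fin n) (Fin n) F) *ᵥ z) h3
          simpa [Matrix.mulVec_mulVec, ← Units.val_mul] using h4)
    refine le_antisymm ?_ hBC
    have := Subgroup.map_mono (f := (MulAut.conj x).toMonoidHom) h2
    rw [hmapmap, mul_inv_cancel] at this
    intro c hc
    exact this ⟨c, hc, by simp⟩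
  -- independence
  have hindep : iSupIndep fun B : O => fixS (B : Subgroup (GL (Fin n) F)) := by
    rintro ⟨B, hB⟩
    rw [disjoint_iff_inf_le]
    rintro v ⟨hv, hv'⟩
    let P : (Fin n → F) →ₗ[F] (Fin n → F) :=
      ((Nat.card B : ℕ) : F)⁻¹ • ∑ b : B, Matrix.toLin' ((b : GL (Fin n) F) : Matrix (Fin n) (Fin n) F)
    have hPv : P v = v := by
      simp only [P, LinearMap.smul_apply, LinearMap.coe_sum, Finset.sum_apply, Matrix.toLin'_apply]
      rw [Finset.sum_congr rfl (fun (b : B) _ => mem_fixS.1 hv (b : GL (Fin n) F) (SetLike.coe_mem b)), Finset.sum_const,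
        Finset.card_univ, ← Nat.card_eq_fintype_card, ← Nat.cast_smul_eq_nsmul F, smul_smul,
        inv_mul_cancel₀ (hcardB B (hOA B hB)), one_smul]
    have hker : (⨆ (C : O) (_ : C ≠ ⟨B, hB⟩), fixS (C : Subgroup (GL (Fin n) F))) ≤
        LinearMap.ker P := by
      refine iSup₂_le fun C hC w hw => LinearMap.mem_ker.2 ?_
      have hfixB : P w ∈ fixS B := by
        refine mem_fixS.2 fun b hb => ?_
        simp only [P, LinearMap.smul_apply, LinearMap.coe_sum, Finset.sum_apply, Matrix.toLin'_apply,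
          Matrix.mulVec_smul, Matrix.mulVec_sum, Matrix.mulVec_mulVec, ← Units.val_mul]
        congr 1
        exact Fintype.sum_equiv (Equiv.mulLeft (⟨b, hb⟩ : B)) _
          (fun c : B => (((c : GL (Fin n) F)) : Matrix (Fin n) (Fin n) F) *ᵥ w) (fun c => rfl)
      have hfixC : P w ∈ fixS (C : Subgroup (GL (Fin n) F)) := by
        refine mem_fixS.2 fun c hc => ?_
        simp only [P, LinearMap.smul_apply, LinearMap.coe_sum, Finset.sum_apply, Matrix.toLin'_apply,
          Matrix.mulVec_smul, Matrix.mulVec_sum, Matrix.mulVec_mulVec, ← Units.val_mul]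
        congr 1
        refine Finset.sum_congr rfl fun b _ => ?_
        rw [hAab c (hOA C C.2 hc) b (hOA B hB b.2), Units.val_mul, ← Matrix.mulVec_mulVec,
          mem_fixS.1 hw c hc]
      by_contra hPw
      apply hC
      have hne' : fixS (B ⊔ (C : Subgroup (GL (Fin n) F))) ≠ ⊥ := by
        intro h
        apply hPw
        have : P w ∈ fixS (B ⊔ (C : Subgroup (GL (Fin n) F))) := by
          refine mem_fixS.2 fun x hx => ?_
          let S : Subgroup (GL (Fin n) F) :=
            { carrier := {b | (b : Matrix (Fin n) (Fin n) F) *ᵥ (P w) = P w}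
              one_mem' := by simp
              mul_mem' := fun {x y} hx hy => by
                simp only [Set.mem_setOf_eq] at hx hy ⊢
                rw [Units.val_mul, ← Matrix.mulVec_mulVec, hy, hx]
              inv_mem' := fun {x} hx => by
                simp only [Set.mem_setOf_eq] at hx ⊢
                conv_lhs => rw [← hx]
                rw [Matrix.mulVec_mulVec, ← Units.val_mul, inv_mul_cancel, Units.val_one,
                  Matrix.one_mulVec] }
          have hle : B ⊔ (C : Subgroup (GL (Fin n) F)) ≤ S :=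
            sup_le (fun b hb => mem_fixS.1 hfixB b hb) (fun b hb => mem_fixS.1 hfixC b hb)
          exact hle hx
        rwa [h, Submodule.mem_bot] at this
      have e1 := hOmax B hB _ le_sup_left (sup_le (hOA B hB) (hOA C C.2)) hne'
      have e2 := hOmax C C.2 _ le_sup_right (sup_le (hOA B hB) (hOA C C.2)) hne'
      exact Subtype.ext (e2.symm.trans e1)
    have := hker hv'
    rw [LinearMap.mem_ker, hPv] at this
    rw [Submodule.mem_bot]; exact this
  have htop : (⨆ B : O, fixS (B : Subgroup (GL (Fin n) F))) = ⊤ := by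
    refine (hinv _ fun x hx => ?_).resolve_left fun h => hB00 ?_
    · rw [Submodule.map_iSup]
      refine iSup_le fun B => ?_
      rw [map_fixS]
      obtain ⟨B, y, hy, rfl⟩ := B
      refine le_iSup_of_le ⟨_, x * y, G.mul_mem hx hy, rfl⟩ (le_of_eq ?_)
      rw [hmapmap]
    · rw [eq_bot_iff, ← h]
      exact le_iSup (fun B : O => fixS (B : Subgroup (GL (Fin n) F))) ⟨B0, hB0O⟩
  let eO : Fin (Fintype.card O) ≃ O := (Fintype.equivFin O).symm
  by_cases ht : 2 ≤ Fintype.card O
  · refine hprim (Module.finrank F (fixS B0)) _ (fun i => fixS (eO i : Subgroup (GL (Fin n) F))) ht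
      ⟨ht, Nat.pos_of_ne_zero fun h => hB00 (Submodule.finrank_eq_zero.1 h),
        fun i => hOdim _ (eO i).2, hindep.comp eO.injective, by
        rw [← htop]; exact eO.iSup_comp (g := fun B : O => fixS (B : Subgroup (GL (Fin n) F)))⟩ ?_
    intro x hx
    let π : O → O := fun B => ⟨B.1.map (MulAut.conj x).toMonoidHom, by
      obtain ⟨B, y, hy, rfl⟩ := B
      exact ⟨x * y, G.mul_mem hx hy, hmapmap x y B0⟩⟩
    have hπ : Function.Injective π := fun B C h =>
      Subtype.ext (Subgroup.map_injective (MulAut.conj x).injective (congrArg Subtype.val h))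
    let σ : Equiv.Perm O := Equiv.ofBijective π hπ.bijective_of_finite
    refine ⟨(eO.trans σ).trans eO.symm, fun i => ?_⟩
    rw [map_fixS]
    simp [σ, π]
  · haveI : Subsingleton O := Fintype.card_le_one_iff_subsingleton.1 (by omega)
    have h1 : (⨆ B : O, fixS (B : Subgroup (GL (Fin n) F))) ≤ fixS B0 :=
      iSup_le fun B => le_of_eq (congrArg (fun C : O => fixS (C : Subgroup (GL (Fin n) F)))
        (Subsingleton.elim B ⟨B0, hB0O⟩))
    rw [htop, top_le_iff] at h1
    have := hfix1 _ h1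
    rw [Subgroup.eq_bot_iff_forall] at this
    exact ha1 (this a (hle (Subgroup.mem_zpowers a)))

/-- The bound on fixed spaces. -/
theorem bound (hsol : IsSolvable G) (g : GL (Fin n) F) (hg : g ∈ G) (hg1 : g ≠ 1) :
    4 * Module.finrank F
      (Module.End.eigenspace (Matrix.toLin' (g : Matrix (Fin n) (Fin n) F)) 1) ≤ 3 * n := by
  classical
  let W : GL (Fin n) F → Submodule F (Fin n → F) := fun g =>
    Module.End.eigenspace (Matrix.toLin' (g : Matrix (Fin n) (Fin n) F)) 1
  have hW : ∀ g v, v ∈ W g ↔ (g : Matrix (Fin n) (Fin n) F) *ᵥ v = v := by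
    intro g v; simp [W, Module.End.mem_eigenspace_iff]
  rw [show Module.End.eigenspace (Matrix.toLin' (g : Matrix (Fin n) (Fin n) F)) 1 = W g from rfl]
  clear_value W
  -- commutators fix the intersection
  have hcomm : ∀ g x : GL (Fin n) F,
      2 * Module.finrank F (W g) ≤ n + Module.finrank F (W (g * x * g⁻¹ * x⁻¹)) := by
    intro g x
    let W' := (W g).map (Matrix.toLin' (x : Matrix (Fin n) (Fin n) F))
    have hdim : Module.finrank F W' = Module.finrank F (W g) := by
      refine (Submodule.equivMapOfInjective _ ?_ _).finrank_eq.symm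
      intro v w hvw
      have := congrArg (fun z => ((x⁻¹ : GL (Fin n) F) : Matrix (Fin n) (Fin n) F) *ᵥ z) hvw
      simpa [Matrix.mulVec_mulVec, ← Units.val_mul] using this
    have h1 := Submodule.finrank_sup_add_finrank_inf_eq (W g) W'
    have h2 := Submodule.finrank_le (W g ⊔ W')
    rw [Module.finrank_fintype_fun_eq_card, Fintype.card_fin] at h2
    have h3 : W g ⊓ W' ≤ W (g * x * g⁻¹ * x⁻¹) := by
      rintro v ⟨hv, u, hu, rfl⟩
      rw [SetLike.mem_coe, hW] at hu hv
      rw [hW]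
      rw [Matrix.toLin'_apply] at hv ⊢
      have hu' : ((g⁻¹ : GL (Fin n) F) : Matrix (Fin n) (Fin n) F) *ᵥ u = u := by
        conv_lhs => rw [← hu]
        rw [Matrix.mulVec_mulVec, ← Units.val_mul, inv_mul_cancel, Units.val_one, Matrix.one_mulVec]
      simp only [Units.val_mul, ← Matrix.mulVec_mulVec]
      have hx : ((x⁻¹ : GL (Fin n) F) : Matrix (Fin n) (Fin n) F) *ᵥ
          ((x : Matrix (Fin n) (Fin n) F) *ᵥ u) = u := by
        rw [Matrix.mulVec_mulVec, ← Units.val_mul, inv_mul_cancel, Units.val_one, Matrix.one_mulVec]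
      rw [hx, hu', hv]
    have h4 := Submodule.finrank_mono h3
    omega
  have hfree : ∀ A : Subgroup (GL (Fin n) F), A ≤ G → (∀ a ∈ A, ∀ b ∈ A, a * b = b * a) →
      (∀ x ∈ G, ∀ a ∈ A, x * a * x⁻¹ ∈ A) → ∀ a ∈ A, a ≠ 1 → Module.finrank F (W a) = 0 := by
    intro A h1 h2 h3 a ha ha1
    rw [Submodule.finrank_eq_zero, eq_bot_iff]
    intro v hv
    rw [← fixS_eq_bot G hirr hprim A h1 h2 h3 a ha ha1, mem_fixS]
    rintro _ ⟨k, rfl⟩
    rw [hW] at hv
    let S : Subgroup (GL (Fin n) F) :=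
      { carrier := {b | (b : Matrix (Fin n) (Fin n) F) *ᵥ v = v}
        one_mem' := by simp
        mul_mem' := fun {x y} hx hy => by
          simp only [Set.mem_setOf_eq] at hx hy ⊢
          rw [Units.val_mul, ← Matrix.mulVec_mulVec, hy, hx]
        inv_mem' := fun {x} hx => by
          simp only [Set.mem_setOf_eq] at hx ⊢
          conv_lhs => rw [← hx]
          rw [Matrix.mulVec_mulVec, ← Units.val_mul, inv_mul_cancel, Units.val_one,
            Matrix.one_mulVec] }
    exact (S.zpow_mem (show a ∈ S from hv) k : a ^ k ∈ S)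
  -- maximal abelian normal subgroup, inside the abstract group
  obtain ⟨A, -, ⟨hAn, hAab⟩, hAmax⟩ := Finite.exists_le_maximal
    (p := fun A : Subgroup G => A.Normal ∧ ∀ a ∈ A, ∀ b ∈ A, a * b = b * a) (a := ⊥)
    ⟨inferInstance, fun a ha b hb => by
      rw [Subgroup.mem_bot.1 ha, Subgroup.mem_bot.1 hb]⟩
  have hzero : ∀ a : G, a ∈ A → a ≠ 1 → Module.finrank F (W a) = 0 := by
    intro a ha ha1
    refine hfree (A.map G.subtype) (Subgroup.map_subtype_le A) ?_ ?_ _ ⟨a, ha, rfl⟩
      (fun h => ha1 (Subtype.ext h))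
    · rintro _ ⟨b, hb, rfl⟩ _ ⟨c, hc, rfl⟩
      rw [← map_mul, hAab b hb c hc, map_mul]
    · rintro x hx _ ⟨b, hb, rfl⟩
      exact ⟨⟨x, hx⟩ * b * ⟨x, hx⟩⁻¹, hAn.conj_mem b hb _, rfl⟩
  haveI := hAn
  let C : Subgroup G := Subgroup.centralizer (A : Set G)
  have hAC : A ≤ C := fun a ha => Subgroup.mem_centralizer_iff.2 fun b hb => hAab b hb a ha
  obtain ⟨E, hAE, ⟨hEC, hEn, hEE⟩, hEmax⟩ := Finite.exists_le_maximal
    (p := fun E : Subgroup G => E ≤ C ∧ E.Normal ∧ ⁅E, E⁆ ≤ A) (a := A)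
    ⟨hAC, hAn, by
      rw [Subgroup.commutator_le]
      intro x hx y hy
      exact A.mul_mem (A.mul_mem (A.mul_mem hx hy) (A.inv_mem hx)) (A.inv_mem hy)⟩
  haveI := hEn
  haveI : C.Normal := inferInstanceAs (Subgroup.centralizer (A : Set G)).Normal
  let CE : Subgroup G := Subgroup.centralizer (E : Set G)
  haveI : CE.Normal := inferInstanceAs (Subgroup.centralizer (E : Set G)).Normal
  have hZ : E ⊓ CE ≤ A := by
    refine le_trans le_sup_right (hAmax ⟨(inferInstance : (A ⊔ E ⊓ CE).Normal), ?_⟩ le_sup_left)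
    have hle : A ⊔ E ⊓ CE ≤ E ⊓ CE := sup_le (le_inf hAE fun a ha =>
      Subgroup.mem_centralizer_iff.2 fun e he =>
        ((Subgroup.mem_centralizer_iff.1 (hEC he)) a ha).symm) le_rfl
    intro a ha b hb
    exact (Subgroup.mem_centralizer_iff.1 (hle hb).2 a (hle ha).1)
  have hCE : CE ≤ E := by
    by_contra hnle
    let D : ℕ → Subgroup G := fun k => (derivedSeries ↥CE k).map CE.subtype
    haveI : Group.IsSolvable ↥G := hsol
    obtain ⟨k0, hk0⟩ := (inferInstance : Group.IsSolvable ↥CE).solvable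
    have hex : ∃ k, D k ≤ E := ⟨k0, by simp [D, hk0]⟩
    have h0 : ¬ D 0 ≤ E := by simpa [D, ← MonoidHom.range_eq_map] using hnle
    have hk : Nat.find hex ≠ 0 := fun h => h0 (h ▸ Nat.find_spec hex)
    obtain ⟨k, hk⟩ := Nat.exists_eq_succ_of_ne_zero hk
    have hDk : ¬ D k ≤ E := Nat.find_min hex (by omega)
    have hDk1 : D (k + 1) ≤ E := by
      have := Nat.find_spec hex
      rwa [hk] at this
    haveI hDn : (D k).Normal := by
      constructor
      rintro _ ⟨d, hd, rfl⟩ x
      haveI : (derivedSeries ↥CE k).Characteristic := derivedSeries_characteristic _ k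
      let φ := MulAut.conjNormal (H := CE) x
      refine ⟨φ d, ?_, MulAut.conjNormal_apply x d⟩
      have := Subgroup.characteristic_iff_comap_eq.1
        (derivedSeries_characteristic ↥CE k) φ
      rw [← this] at hd
      exact hd
    have hDCE : D k ≤ CE := Subgroup.map_subtype_le _
    apply hDk
    refine le_trans le_sup_right (hEmax ⟨sup_le hEC ?_, inferInstance, ?_⟩ le_sup_left)
    · exact hDCE.trans (Subgroup.centralizer_le hAE)
    · have hDD : ⁅D k, D k⁆ ≤ A := by
        refine le_trans (le_of_eq ?_) (hZ.trans' (le_inf hDk1 ((Subgroup.map_subtype_le _) : D (k+1) ≤ CE)))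
        simp only [D, derivedSeries_succ, Subgroup.map_commutator]
      rw [Subgroup.commutator_le]
      intro x hx y hy
      -- write both as products
      rw [← SetLike.mem_coe, Subgroup.coe_mul_of_left_le_normalizer_right _ _
        (Subgroup.normalizer_eq_top (H := D k) ▸ le_top)] at hx hy
      obtain ⟨e1, he1, d1, hd1, rfl⟩ := hx
      obtain ⟨e2, he2, d2, hd2, rfl⟩ := hy
      have c1 : e1 * d2 = d2 * e1 := Subgroup.mem_centralizer_iff.1 (hDCE hd2) e1 he1
      have c2 : e2 * d1 = d1 * e2 := Subgroup.mem_centralizer_iff.1 (hDCE hd1) e2 he2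
      have c3 : e1 * d1 = d1 * e1 := Subgroup.mem_centralizer_iff.1 (hDCE hd1) e1 he1
      have c4 : e2 * d2 = d2 * e2 := Subgroup.mem_centralizer_iff.1 (hDCE hd2) e2 he2
      have e : ⁅e1 * d1, e2 * d2⁆ = ⁅e1, e2⁆ * ⁅d1, d2⁆ := by
        simp only [commutatorElement_def]
        have i1 : e1⁻¹ * d2 = d2 * e1⁻¹ := (Commute.inv_left c1).eq
        have i2 : e2 * d1⁻¹ = d1⁻¹ * e2 := (Commute.inv_right c2).eq
        have i3 : e1⁻¹ * d1 = d1 * e1⁻¹ := (Commute.inv_left c3).eq
        have i5 : e2⁻¹ * d1 = d1 * e2⁻¹ := (Commute.inv_left c2).eq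
        have i6 : e2⁻¹ * d2 = d2 * e2⁻¹ := (Commute.inv_left c4).eq
        have i7 : e1 * d1⁻¹ = d1⁻¹ * e1 := (Commute.inv_right c3).eq
        have i8 : e1⁻¹ * d2⁻¹ = d2⁻¹ * e1⁻¹ := (Commute.inv_inv c1).eq
        have i9 : e1⁻¹ * d1⁻¹ = d1⁻¹ * e1⁻¹ := (Commute.inv_inv c3).eq
        have i10 : e2⁻¹ * d1⁻¹ = d1⁻¹ * e2⁻¹ := (Commute.inv_inv c2).eq
        have i11 : e2⁻¹ * d2⁻¹ = d2⁻¹ * e2⁻¹ := (Commute.inv_inv c4).eq
        have j1 : d1 * e2 = e2 * d1 := c2.symm
        calc e1 * d1 * (e2 * d2) * (e1 * d1)⁻¹ * (e2 * d2)⁻¹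
            = e1 * (d1 * e2) * d2 * d1⁻¹ * (e1⁻¹ * d2⁻¹) * e2⁻¹ := by group
          _ = e1 * (e2 * d1) * d2 * d1⁻¹ * (d2⁻¹ * e1⁻¹) * e2⁻¹ := by rw [j1, i8]
          _ = e1 * e2 * (d1 * d2 * d1⁻¹ * d2⁻¹) * (e1⁻¹ * e2⁻¹) := by group
          _ = e1 * e2 * ((d1 * d2 * d1⁻¹ * d2⁻¹) * (e1⁻¹ * e2⁻¹)) := by group
          _ = e1 * e2 * ((e1⁻¹ * e2⁻¹) * (d1 * d2 * d1⁻¹ * d2⁻¹)) := by
              have hc : ∀ e ∈ E, Commute (d1 * d2 * d1⁻¹ * d2⁻¹) e := fun e he =>
                (Subgroup.mem_centralizer_iff.1 (CE.mul_mem (CE.mul_mem (CE.mul_mem (hDCE hd1)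
                  (hDCE hd2)) (CE.inv_mem (hDCE hd1))) (CE.inv_mem (hDCE hd2))) e he).symm
              rw [(hc _ (E.mul_mem (E.inv_mem he1) (E.inv_mem he2))).eq]
          _ = e1 * e2 * e1⁻¹ * e2⁻¹ * (d1 * d2 * d1⁻¹ * d2⁻¹) := by group
      rw [e]
      exact A.mul_mem (Subgroup.commutator_le.1 hEE e1 he1 e2 he2)
        (Subgroup.commutator_le.1 hDD d1 hd1 d2 hd2)
  -- elements of `E`
  have hhalf : ∀ c : G, c ∈ E → c ≠ 1 → 2 * Module.finrank F (W c) ≤ n := by
    intro c hc hc1
    by_cases hcA : c ∈ A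
    · rw [hzero c hcA hc1]; omega
    · obtain ⟨x, hx, hne⟩ : ∃ x ∈ E, ⁅c, x⁆ ≠ 1 := by
        by_contra h
        push Not at h
        refine hcA (hZ ⟨hc, Subgroup.mem_centralizer_iff.2 fun x hx => ?_⟩)
        exact (commutatorElement_eq_one_iff_mul_comm.1 (h x hx)).symm
      have h1 := hcomm (c : GL (Fin n) F) (x : GL (Fin n) F)
      have e : (c : GL (Fin n) F) * x * (c : GL (Fin n) F)⁻¹ * (x : GL (Fin n) F)⁻¹ =
          ((⁅c, x⁆ : G) : GL (Fin n) F) := by simp [commutatorElement_def]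
      rw [e, hzero _ (Subgroup.commutator_le.1 hEE c hc x hx) hne] at h1
      omega
  by_cases hgE : (⟨g, hg⟩ : G) ∈ E
  · have := hhalf _ hgE (fun h => hg1 (congrArg Subtype.val h))
    simp only [Subgroup.coe_mk] at *
    omega
  · obtain ⟨x, hx, hne⟩ : ∃ x ∈ E, ⁅(⟨g, hg⟩ : G), x⁆ ≠ 1 := by
      by_contra h
      push Not at h
      exact hgE (hCE (Subgroup.mem_centralizer_iff.2 fun x hx =>
        (commutatorElement_eq_one_iff_mul_comm.1 (h x hx)).symm))
    have hmem : ⁅(⟨g, hg⟩ : G), x⁆ ∈ E := by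
      rw [commutatorElement_def]
      exact E.mul_mem (hEn.conj_mem x hx _) (E.inv_mem hx)
    have h1 := hcomm g (x : GL (Fin n) F)
    have e : g * x * g⁻¹ * (x : GL (Fin n) F)⁻¹ =
        ((⁅(⟨g, hg⟩ : G), x⁆ : G) : GL (Fin n) F) := by simp [commutatorElement_def]
    rw [e] at h1
    have h2 := hhalf _ hmem hne
    omega

end CfsgLib.Lie.PrimSolvFix
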