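import Cfsg.Prelude.Def_Classical

/-!
Zeros of quadratic forms over finite fields.
-/

set_option autoImplicit false
set_option linter.unusedSimpArgs false
set_option linter.unusedSectionVars false

namespace CfsgLib.Lie.QuadCount

variable {F : Type*} [Field F] [Fintype F]

theorem card_mul_eq (d : F) [Decidable (d = 0)] : Nat.card {p : F × F // p.1 * p.2 = d} + 1 =
    Nat.card F + (if d = 0 then Nat.card F else 0) := by
  classical
  rw [Nat.card_congr (show {p : F × F // p.1 * p.2 = d} ≃ Σ x : F, {y : F // x * y = d} from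
    { toFun := fun p => ⟨p.1.1, p.1.2, p.2⟩
      invFun := fun s => ⟨(s.1, s.2.1), s.2.2⟩
      left_inv := fun p => rfl
      right_inv := fun s => rfl }), Nat.card_sigma,
    ← Finset.add_sum_erase _ _ (Finset.mem_univ (0 : F))]
  have h0 : Nat.card {y : F // (0 : F) * y = d} = if d = 0 then Nat.card F else 0 := by
    split_ifs with h
    · exact Nat.card_congr (Equiv.subtypeUnivEquiv (fun y => by rw [h, zero_mul]))
    · have : IsEmpty {y : F // (0 : F) * y = d} := ⟨fun y => h (by rw [← y.2, zero_mul])⟩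
      exact Nat.card_of_isEmpty
  have h1 : ∀ x ∈ (Finset.univ : Finset F).erase 0, Nat.card {y : F // x * y = d} = 1 := by
    intro x hx
    have hx0 := (Finset.mem_erase.1 hx).1
    exact Nat.card_eq_one_iff_unique.2 ⟨⟨fun a b => Subtype.ext (mul_left_cancel₀ hx0 (a.2.trans b.2.symm))⟩,
      ⟨⟨x⁻¹ * d, by rw [← mul_assoc, mul_inv_cancel₀ hx0, one_mul]⟩⟩⟩
  rw [h0, Finset.sum_congr rfl h1, Finset.sum_const, smul_eq_mul, mul_one,
    Finset.card_erase_of_mem (Finset.mem_univ _), Finset.card_univ, Nat.card_eq_fintype_card]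
  have := Fintype.card_pos (α := F)
  omega

theorem plus_succ (m : ℕ) (x y : F) (v : Fin m ⊕ Fin m → F) :
    Cfsg.quadFormPlus (m + 1) F (Sum.elim (Fin.cons x (v ∘ Sum.inl)) (Fin.cons y (v ∘ Sum.inr))) =
      x * y + Cfsg.quadFormPlus m F v := by
  simp [Cfsg.quadFormPlus, Fin.sum_univ_succ]

/-- Split off one hyperbolic pair. -/
def plusEquiv (F : Type*) (m : ℕ) : (Fin (m + 1) ⊕ Fin (m + 1) → F) ≃ (F × F) × (Fin m ⊕ Fin m → F) where
  toFun v := ((v (.inl 0), v (.inr 0)), Sum.elim (fun i => v (.inl i.succ)) (fun i => v (.inr i.succ)))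
  invFun z := Sum.elim (Fin.cons z.1.1 (z.2 ∘ Sum.inl)) (Fin.cons z.1.2 (z.2 ∘ Sum.inr))
  left_inv v := by funext i; rcases i with i | i <;> refine Fin.cases ?_ (fun j => ?_) i <;> simp
  right_inv z := by
    refine Prod.ext (Prod.ext (by simp) (by simp)) ?_
    funext i; rcases i with i | i <;> simp

variable {W : Type*} [Fintype W]

theorem count (f : W → F) (c : F) : ∀ m : ℕ,
    Nat.card F * Nat.card {z : (Fin m ⊕ Fin m → F) × W // Cfsg.quadFormPlus m F z.1 + f z.2 = c} +
      Nat.card F ^ m * Nat.card W =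
    Nat.card F ^ (m + 1) * Nat.card {w : W // f w = c} + Nat.card F ^ (2 * m) * Nat.card W := by
  classical
  intro m
  induction m with
  | zero =>
    rw [Nat.card_congr (show {z : (Fin 0 ⊕ Fin 0 → F) × W // Cfsg.quadFormPlus 0 F z.1 + f z.2 = c} ≃
      {w : W // f w = c} from
      { toFun := fun z => ⟨z.1.2, by simpa [Cfsg.quadFormPlus] using z.2⟩
        invFun := fun w => ⟨(isEmptyElim, w.1), by simpa [Cfsg.quadFormPlus] using w.2⟩
        left_inv := fun z => Subtype.ext (Prod.ext (Subsingleton.elim _ _) rfl)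
        right_inv := fun w => rfl })]
    simp
  | succ m ih =>
    let Z := (Fin m ⊕ Fin m → F) × W
    let g : Z → F := fun z => c - (Cfsg.quadFormPlus m F z.1 + f z.2)
    have e : {z : (Fin (m + 1) ⊕ Fin (m + 1) → F) × W // Cfsg.quadFormPlus (m + 1) F z.1 + f z.2 = c} ≃
        Σ z : Z, {p : F × F // p.1 * p.2 = g z} :=
      ((plusEquiv F m).prodCongr (Equiv.refl W) |>.trans (Equiv.prodAssoc _ _ _)).subtypeEquiv
        (q := fun y : (F × F) × Z => y.1.1 * y.1.2 = g y.2) (fun z => by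
          have h := plus_succ m ((plusEquiv F m z.1).1.1) ((plusEquiv F m z.1).1.2) (plusEquiv F m z.1).2
          rw [show Sum.elim _ _ = z.1 from (plusEquiv F m).symm_apply_apply z.1] at h
          rw [h, eq_sub_iff_add_eq, ← add_assoc]
          rfl) |>.trans
      { toFun := fun y => ⟨y.1.2, y.1.1, y.2⟩
        invFun := fun s => ⟨(s.2.1, s.1), s.2.2⟩
        left_inv := fun y => rfl
        right_inv := fun s => rfl }
    have hsum : ∑ z : Z, Nat.card {p : F × F // p.1 * p.2 = g z} + Nat.card Z =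
        Nat.card F * Nat.card Z + Nat.card F * Nat.card {z : Z // g z = 0} := by
      rw [Nat.card_eq_fintype_card (α := Z), Fintype.card_eq_sum_ones, ← Finset.sum_add_distrib,
        Finset.sum_congr rfl (fun z _ => card_mul_eq (g z)), Finset.sum_add_distrib, Finset.sum_ite,
        Finset.sum_const, Finset.sum_const, Finset.sum_const_zero, add_zero, smul_eq_mul, smul_eq_mul,
        Finset.card_univ, Nat.card_eq_fintype_card (α := {z : Z // g z = 0}), Fintype.card_subtype,
        ← Fintype.card_eq_sum_ones]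
      ring
    have hN : Nat.card {z : Z // g z = 0} =
        Nat.card {z : Z // Cfsg.quadFormPlus m F z.1 + f z.2 = c} :=
      Nat.card_congr (Equiv.subtypeEquivRight fun z => by simp only [g, sub_eq_zero, eq_comm])
    have hZ : Nat.card Z = Nat.card F ^ (2 * m) * Nat.card W := by
      rw [Nat.card_prod, Nat.card_fun]
      simp [two_mul]
    rw [Nat.card_congr e, Nat.card_sigma]
    rw [hN, hZ] at hsum
    rw [show 2 * (m + 1) = 2 * m + 2 by ring, pow_add (Nat.card F) (2 * m) 2,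
      pow_succ' (Nat.card F) (m + 1), pow_succ' (Nat.card F) m]
    generalize Nat.card F = q at *
    generalize Nat.card W = w at *
    rw [pow_succ' q m] at ih
    have h1 := congrArg (fun t : ℕ => q * t) ih
    have h2 := congrArg (fun t : ℕ => q * t) hsum
    simp only [mul_add, mul_assoc, mul_comm, mul_left_comm, pow_two] at h1 h2 ⊢
    linarith

theorem card_zeros_plus {q : ℕ} (hF : Fintype.card F = q) (m : ℕ) :
    q * Nat.card {v : Fin m ⊕ Fin m → F // Cfsg.quadFormPlus m F v = 0} + q ^ m =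
      q ^ (m + 1) + q ^ (2 * m) := by
  have h := count (fun _ : Unit => (0 : F)) 0 m
  rw [Nat.card_congr ((Equiv.prodPUnit _).subtypeEquiv
    (q := fun v => Cfsg.quadFormPlus m F v = 0) (fun z => by simp))] at h
  simpa [Nat.card_eq_fintype_card, hF] using h

theorem card_zeros_minus {q : ℕ} (hF : Fintype.card F = q) (m : ℕ) (a b : F)
    (hab : ∀ z₁ z₂ : F, z₁ ^ 2 + a * z₁ * z₂ + b * z₂ ^ 2 = 0 → z₁ = 0 ∧ z₂ = 0) :
    q * Nat.card {v : (Fin m ⊕ Fin m) ⊕ Fin 2 → F // Cfsg.quadFormMinus m F a b v = 0} + q ^ m * q ^ 2 =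
      q ^ (m + 1) + q ^ (2 * m) * q ^ 2 := by
  have h := count (fun z : Fin 2 → F => z 0 ^ 2 + a * z 0 * z 1 + b * z 1 ^ 2) 0 m
  rw [← Nat.card_congr ((Equiv.sumArrowEquivProdArrow _ _ _).subtypeEquiv
    (p := fun v : (Fin m ⊕ Fin m) ⊕ Fin 2 → F => Cfsg.quadFormMinus m F a b v = 0)
    (fun v => Iff.rfl))] at h
  have h1 : Nat.card {z : Fin 2 → F // z 0 ^ 2 + a * z 0 * z 1 + b * z 1 ^ 2 = 0} = 1 :=
    Nat.card_eq_one_iff_unique.2 ⟨⟨fun x y => Subtype.ext (funext (Fin.forall_fin_two.2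
      ⟨(hab _ _ x.2).1.trans (hab _ _ y.2).1.symm, (hab _ _ x.2).2.trans (hab _ _ y.2).2.symm⟩))⟩,
      ⟨⟨0, by simp⟩⟩⟩
  rw [h1, mul_one, Nat.card_fun, Nat.card_eq_fintype_card (α := F), hF, Nat.card_fin] at h
  exact h

theorem card_zeros_odd {q : ℕ} (hF : Fintype.card F = q) (m : ℕ) :
    Nat.card {v : Unit ⊕ (Fin m ⊕ Fin m) → F // Cfsg.quadFormOdd m F v = 0} = q ^ (2 * m) := by
  have h := count (fun x : F => x ^ 2) 0 m
  let e : (Unit ⊕ (Fin m ⊕ Fin m) → F) ≃ (Fin m ⊕ Fin m → F) × F :=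
    (Equiv.sumArrowEquivProdArrow _ _ _).trans (((Equiv.funUnique Unit F).prodCongr (Equiv.refl _)).trans
      (Equiv.prodComm _ _))
  rw [← Nat.card_congr (e.subtypeEquiv
    (p := fun v : Unit ⊕ (Fin m ⊕ Fin m) → F => Cfsg.quadFormOdd m F v = 0)
    (fun v => by rw [show Cfsg.quadFormOdd m F v = Cfsg.quadFormPlus m F (e v).1 + (e v).2 ^ 2 from add_comm _ _]))] at h
  have h1 : Nat.card {x : F // x ^ 2 = 0} = 1 :=
    Nat.card_eq_one_iff_unique.2 ⟨⟨fun x y => Subtype.ext ((pow_eq_zero_iff two_ne_zero).1 x.2 |>.trans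
      ((pow_eq_zero_iff two_ne_zero).1 y.2).symm)⟩, ⟨⟨0, by simp⟩⟩⟩
  rw [h1, mul_one, Nat.card_eq_fintype_card (α := F), hF] at h
  have hq : 0 < q := hF ▸ Fintype.card_pos
  refine Nat.eq_of_mul_eq_mul_left hq ?_
  rw [← pow_succ] at h
  linarith

end CfsgLib.Lie.QuadCount
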