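import Cfsg.Prelude.Def_GeometricClasses
import Cfsg.Agent.Misc.ClassesTwo
import Mathlib.GroupTheory.SpecificGroups.Quaternion

/-!
Elements of prime order in the normaliser of a quaternion subgroup of SL₂.
-/

set_option autoImplicit false
set_option linter.unusedSimpArgs false
set_option linter.unusedSectionVars false

namespace CfsgLib.Lie.QuaternionFix

open Matrix

variable {F : Type*} [Field F]

local notation "M2" => Matrix (Fin 2) (Fin 2) F

theorem ch (M : M2) : M * M = M.trace • M - M.det • 1 := by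
  ext i j
  fin_cases i <;> fin_cases j <;>
    simp [Matrix.mul_apply, Fin.sum_univ_two, Matrix.trace_fin_two, Matrix.det_fin_two] <;> ring

theorem traceless_anti (A B : M2) (hA : A.trace = 0) (hB : B.trace = 0) :
    A * B + B * A = (A * B).trace • 1 := by
  rw [Matrix.trace_fin_two] at hA hB
  ext i j
  fin_cases i <;> fin_cases j <;>
    simp [Matrix.mul_apply, Fin.sum_univ_two, Matrix.trace_fin_two, eq_neg_of_add_eq_zero_right hA,
      eq_neg_of_add_eq_zero_right hB] <;> ring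

theorem det_smul_add (a b : F) (M : M2) :
    (a • 1 + b • M).det = a * a + a * b * M.trace + b * b * M.det := by
  simp [Matrix.det_fin_two, Matrix.trace_fin_two]
  ring

theorem mem_sl {g : GL (Fin 2) F} :
    g ∈ Cfsg.Geo.specialLinear (Fin 2) F ↔ (g : M2).det = 1 := by
  rw [Cfsg.Geo.specialLinear, MonoidHom.mem_ker, Units.ext_iff, Matrix.GeneralLinearGroup.val_det_apply,
    Units.val_one]

variable [Fintype F]

theorem conj_sl (h2 : (2 : F) ≠ 0) {x y : GL (Fin 2) F} (hx : (x : M2).det = 1) (hy : (y : M2).det = 1)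
    (hxs : ∀ z : F, (x : M2) ≠ z • 1) (hys : ∀ z : F, (y : M2) ≠ z • 1)
    (ht : (x : M2).trace = (y : M2).trace) (ht4 : (x : M2).trace ^ 2 ≠ 4) :
    ∃ g ∈ Cfsg.Geo.specialLinear (Fin 2) F, g⁻¹ * x * g = y := by
  classical
  have h4 : (4 : F) ≠ 0 := by rw [show (4 : F) = 2 * 2 by norm_num]; exact mul_ne_zero h2 h2
  obtain ⟨P, hP⟩ := (MiscClassesTwo.exists_conj (x : M2)).resolve_left fun ⟨c, hc⟩ => hxs c hc
  obtain ⟨Q, hQ⟩ := (MiscClassesTwo.exists_conj (y : M2)).resolve_left fun ⟨c, hc⟩ => hys c hc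
  rw [hx] at hP
  rw [hy, ← ht] at hQ
  have h0 : x * (P * Q⁻¹) = (P * Q⁻¹) * y := by
    have h : Q⁻¹ * y * Q = P⁻¹ * x * P := Units.ext (by
      rw [Units.val_mul, Units.val_mul, Units.val_mul, Units.val_mul, mul_assoc, mul_assoc, hQ, hP,
        ← mul_assoc, ← mul_assoc, ← Units.val_mul, ← Units.val_mul, inv_mul_cancel, inv_mul_cancel])
    calc x * (P * Q⁻¹) = P * (P⁻¹ * x * P) * Q⁻¹ := by group
      _ = P * (Q⁻¹ * y * Q) * Q⁻¹ := by rw [h]
      _ = (P * Q⁻¹) * y := by group
  obtain ⟨c, hc⟩ : ∃ c, c = ((P * Q⁻¹ : GL (Fin 2) F) : M2).det := ⟨_, rfl⟩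
  have hc0 : c ≠ 0 := hc ▸ (Matrix.GeneralLinearGroup.det (P * Q⁻¹)).ne_zero
  obtain ⟨t, htd⟩ : ∃ t, t = (x : M2).trace := ⟨_, rfl⟩
  rw [← htd] at ht4
  have he : 1 - t ^ 2 / 4 ≠ 0 := fun h => ht4 (by
    have h4 : (4 : F) ≠ 0 := by
      rw [show (4 : F) = 2 * 2 by norm_num]; exact mul_ne_zero h2 h2
    field_simp at h
    linear_combination -h)
  have hodd : Fintype.card F % 2 = 1 :=
    FiniteField.odd_card_of_char_ne_two fun h => h2 (by
      haveI : CharP F 2 := h ▸ ringChar.charP F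
      exact CharP.cast_eq_zero F 2)
  obtain ⟨a', b, hab⟩ := FiniteField.exists_root_sum_quadratic
    (f := Polynomial.X ^ 2 - Polynomial.C c⁻¹) (g := Polynomial.C (1 - t ^ 2 / 4) * Polynomial.X ^ 2)
    (Polynomial.degree_X_pow_sub_C (by norm_num) _) (Polynomial.degree_C_mul_X_pow 2 he) hodd
  simp only [Polynomial.eval_sub, Polynomial.eval_mul, Polynomial.eval_pow, Polynomial.eval_X, Polynomial.eval_C] at hab
  obtain ⟨a, ha⟩ : ∃ a, a = a' - t * b / 2 := ⟨_, rfl⟩
  have hN : (a • 1 + b • (x : M2)).det = c⁻¹ := by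
    rw [det_smul_add, hx, ← htd, ha]
    have e : (a' - t * b / 2) * (a' - t * b / 2) + (a' - t * b / 2) * b * t + b * b * 1 =
        a' ^ 2 + (1 - t ^ 2 / 4) * b ^ 2 := by field_simp; ring
    rw [e]
    linear_combination hab
  let N : GL (Fin 2) F := Matrix.GeneralLinearGroup.mkOfDetNeZero _ (hN ▸ inv_ne_zero hc0)
  have hNx : x * N = N * x := Units.ext (by
    show (x : M2) * (a • 1 + b • (x : M2)) = (a • 1 + b • (x : M2)) * (x : M2)
    simp [mul_add, add_mul])
  refine ⟨N * (P * Q⁻¹), mem_sl.2 ?_, ?_⟩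
  · rw [Units.val_mul, Matrix.det_mul, ← hc]
    show (a • 1 + b • (x : M2)).det * c = 1
    rw [hN, inv_mul_cancel₀ hc0]
  · rw [mul_assoc, inv_mul_eq_iff_eq_mul, ← mul_assoc x, hNx, mul_assoc, h0, ← mul_assoc]

theorem main {p : ℕ} [Fact p.Prime] [CharP F p] (hp : 5 ≤ p) (R : Subgroup (GL (Fin 2) F))
    (hR : Nonempty (↥R ≃* QuaternionGroup 2)) (r : ℕ) [hr : Fact r.Prime]
    (hΩ : r ∣ (Cfsg.Geo.subgroupNormalizer R).relIndex (Cfsg.Geo.specialLinear (Fin 2) F)) :
    (∀ x ∈ Cfsg.Geo.specialLinear (Fin 2) F, (∃ z : F, ((x ^ r : GL (Fin 2) F) : M2) = z • (1 : M2)) →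
      (∀ z : F, (x : M2) ≠ z • (1 : M2)) →
      ∃ g ∈ Cfsg.Geo.specialLinear (Fin 2) F, g⁻¹ * x * g ∈ Cfsg.Geo.subgroupNormalizer R) ↔ (r = 2 ∨ r = 3) := by
  classical
  have hne : ∀ k : ℕ, 0 < k → k < p → (k : F) ≠ 0 := fun k h1 h2 h =>
    (Nat.le_of_dvd h1 ((CharP.cast_eq_zero_iff F p k).1 h)).not_gt h2
  have h2 : (2 : F) ≠ 0 := by exact_mod_cast hne 2 (by norm_num) (by omega)
  have h3 : (3 : F) ≠ 0 := by exact_mod_cast hne 3 (by norm_num) (by omega)
  have hscal : ∀ (c : F) (M : M2), c ≠ 0 → ∀ d : F, c • M = d • 1 → M = (d / c) • 1 := fun c M hc d h => by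
    rw [← inv_smul_smul₀ hc M, h, smul_smul, div_eq_inv_mul]
  obtain ⟨e⟩ := hR
  obtain ⟨i, hi⟩ : ∃ i : R, i = e.symm (QuaternionGroup.a 1) := ⟨_, rfl⟩
  obtain ⟨j, hj⟩ : ∃ j : R, j = e.symm (QuaternionGroup.xa 0) := ⟨_, rfl⟩
  obtain ⟨I, hI⟩ : ∃ I : GL (Fin 2) F, I = i := ⟨_, rfl⟩
  obtain ⟨J, hJ⟩ : ∃ J : GL (Fin 2) F, J = j := ⟨_, rfl⟩
  have hIR : I ∈ R := hI ▸ i.2
  have hJR : J ∈ R := hJ ▸ j.2
  have hrel : J * J = I * I ∧ (I * I) * (I * I) = 1 ∧ I * I ≠ 1 ∧ J * I = I⁻¹ * J := by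
    have f1 : j * j = i * i := by rw [hi, hj, ← map_mul, ← map_mul]; congr 1
    have f2 : i * i * (i * i) = 1 := by
      rw [hi, ← map_mul, ← map_mul, ← map_one e.symm]; congr 1
    have f3 : i * i ≠ 1 := by
      rw [hi, ← map_mul, ← map_one e.symm]
      exact fun h => absurd (e.symm.injective h) (by decide)
    have f4 : j * i = i⁻¹ * j := by rw [hi, hj, ← map_inv, ← map_mul, ← map_mul]; congr 1
    subst hI hJ
    exact ⟨congrArg Subtype.val f1, congrArg Subtype.val f2, fun h => f3 (Subtype.ext h), congrArg Subtype.val f4⟩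
  obtain ⟨r1, r2, r3, r4⟩ := hrel
  have hdI : ((I : M2).det) ^ 2 = 1 := by
    have h := congrArg (fun g : GL (Fin 2) F => (g : M2).det) r4
    simp only [Units.val_mul, Matrix.det_mul] at h
    have h' : (I : M2).det * ((I⁻¹ : GL (Fin 2) F) : M2).det = 1 := by
      rw [← Matrix.det_mul, ← Units.val_mul, mul_inv_cancel, Units.val_one, Matrix.det_one]
    have hJ0 : (J : M2).det ≠ 0 := (Matrix.GeneralLinearGroup.det J).ne_zero
    have h'' : (I : M2).det = ((I⁻¹ : GL (Fin 2) F) : M2).det :=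
      mul_left_cancel₀ hJ0 (h.trans (mul_comm _ _))
    rw [pow_two]
    nth_rw 2 [h'']
    exact h'
  -- the central element is minus one
  have hZ : ((I * I : GL (Fin 2) F) : M2) = -1 := by
    obtain ⟨Z, hZd⟩ : ∃ Z : M2, Z = ((I * I : GL (Fin 2) F) : M2) := ⟨_, rfl⟩
    rw [← hZd]
    have hz2 : Z * Z = 1 := by rw [hZd, ← Units.val_mul, r2, Units.val_one]
    have hzd : Z.det = 1 := by rw [hZd, Units.val_mul, Matrix.det_mul, ← pow_two, hdI]
    have h := ch Z
    rw [hz2, hzd, one_smul] at h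
    have hs : Z.trace • Z = (2 : F) • 1 := by rw [two_smul]; exact (eq_sub_iff_add_eq.1 h).symm
    by_cases h0 : Z.trace = 0
    · rw [h0, zero_smul] at hs
      exact absurd hs.symm (smul_ne_zero h2 one_ne_zero)
    have hc := hscal _ _ h0 _ hs
    obtain ⟨c, rfl⟩ : ∃ c : F, c • (1 : M2) = Z := ⟨_, hc.symm⟩
    have hc2 : c * c = 1 := by
      have := congrFun (congrFun hz2 0) 0
      simpa using this
    rcases mul_self_eq_one_iff.1 hc2 with rfl | rfl
    · exact absurd (Units.ext (by rw [← hZd, one_smul, Units.val_one])) r3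
    · rw [neg_smul, one_smul]
  have hII : (I : M2) * I = -1 := by rw [← Units.val_mul, hZ]
  have hJJ : (J : M2) * J = -1 := by rw [← Units.val_mul, r1, hZ]
  have hJI : (J : M2) * I = -((I : M2) * J) := by
    have : I * I * (J * I) = I * J := by rw [r4]; group
    have h := congrArg (fun g : GL (Fin 2) F => (g : M2)) this
    simp only [Units.val_mul] at h
    rw [hII, neg_one_mul] at h
    rw [← h, neg_neg]
  have hns : ∀ A B : M2, B * A = -(A * B) → A * A = -1 → B * B = -1 → ∀ z : F, A ≠ z • 1 := by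
    intro A B h hA hB z hz
    rw [hz] at h hA
    simp only [smul_mul_assoc, mul_smul_comm, one_mul, mul_one] at h hA
    have hB0 : B ≠ 0 := fun hB0 => by rw [hB0, zero_mul] at hB; exact one_ne_zero (neg_eq_zero.1 hB.symm)
    have h' : (2 * z) • B = 0 := by rw [two_mul, add_smul]; nth_rw 1 [h]; exact neg_add_cancel _
    have hz0 : z = 0 := (mul_eq_zero.1 ((smul_eq_zero.1 h').resolve_right hB0)).resolve_left h2
    rw [hz0, zero_smul] at hA
    exact one_ne_zero (neg_eq_zero.1 hA.symm)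
  have hIs := hns (I : M2) J hJI hII hJJ
  have hJs := hns (J : M2) I (by rw [hJI, neg_neg]) hJJ hII
  have hsq : ∀ A : M2, A * A = -1 → (∀ z : F, A ≠ z • 1) → A.trace = 0 ∧ A.det = 1 := by
    intro A hA hAs
    have h := ch A
    rw [hA] at h
    have ht : A.trace = 0 := by
      by_contra h0
      refine hAs ((A.det - 1) / A.trace) (hscal _ _ h0 _ ?_)
      rw [sub_smul, one_smul, sub_eq_add_neg (A.det • (1 : M2)), h]
      abel
    refine ⟨ht, ?_⟩
    rw [ht, zero_smul, zero_sub, neg_inj] at h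
    have := congrFun (congrFun h 0) 0
    simpa using this.symm
  have hKK : ((I : M2) * J) * ((I : M2) * J) = -1 := by
    rw [mul_assoc, ← mul_assoc (J : M2), hJI, neg_mul, mul_assoc (I : M2) J, hJJ]
    simp [hII]
  have hKs : ∀ z : F, (I : M2) * J ≠ z • 1 := by
    refine hns _ (I : M2) ?_ hKK hII
    simp only [mul_assoc (I : M2) J I, hJI, mul_neg, ← mul_assoc, hII, neg_mul, one_mul, neg_neg]
  obtain ⟨tI, dI⟩ := hsq _ hII hIs
  obtain ⟨tJ, dJ⟩ := hsq _ hJJ hJs
  obtain ⟨tK, -⟩ := hsq _ hKK hKs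
  -- elements of R
  have hgen : ∀ h ∈ R, ∃ (k : ℕ) (l : ℕ), h = J ^ l * I ^ k := by
    intro h hh
    rcases hx : e ⟨h, hh⟩ with k | k
    · refine ⟨k.val, 0, ?_⟩
      have e1 : (⟨h, hh⟩ : R) = i ^ k.val := by
        rw [hi, ← map_pow, QuaternionGroup.a_one_pow, ZMod.natCast_zmod_val, ← hx, e.symm_apply_apply]
      rw [pow_zero, one_mul, hI, ← Subgroup.coe_pow, ← e1]
    · refine ⟨k.val, 1, ?_⟩
      have e1 : (⟨h, hh⟩ : R) = j * i ^ k.val := by
        rw [hi, hj, ← map_pow, ← map_mul, QuaternionGroup.a_one_pow, ZMod.natCast_zmod_val,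
          QuaternionGroup.xa_mul_a, zero_add, ← hx, e.symm_apply_apply]
      rw [pow_one, hI, hJ, ← Subgroup.coe_pow, ← Subgroup.coe_mul, ← e1]
  -- the element of order three
  obtain ⟨G0, hG0⟩ : ∃ G0 : M2, G0 = (-(1 / 2) : F) • (1 + I + J + (I : M2) * J) := ⟨_, rfl⟩
  have tG : G0.trace = -1 := by
    rw [hG0, Matrix.trace_smul, Matrix.trace_add, Matrix.trace_add, Matrix.trace_add, tI, tJ, tK, Matrix.trace_one,
      Fintype.card_fin, smul_eq_mul]
    field_simp
    norm_num
  have eIK : (I : M2) * ((I : M2) * J) = -(J : M2) := by rw [← mul_assoc, hII, neg_one_mul]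
  have eKI : ((I : M2) * J) * (I : M2) = (J : M2) := by rw [mul_assoc, hJI, mul_neg, eIK, neg_neg]
  have eKJ : ((I : M2) * J) * (J : M2) = -(I : M2) := by rw [mul_assoc, hJJ, mul_neg, mul_one]
  have eJK : (J : M2) * ((I : M2) * J) = (I : M2) := by rw [← mul_assoc, hJI, neg_mul, eKJ, neg_neg]
  have hG1 : G0 * G0 + G0 + 1 = 0 := by
    rw [hG0, smul_mul_smul_comm]
    simp only [add_mul, mul_add, one_mul, mul_one, hII, hJJ, hKK, hJI, eIK, eKI, eKJ, eJK]
    match_scalars <;> field_simp <;> ring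
  have dG : G0.det = 1 := by
    have h := ch G0
    rw [tG, neg_smul, one_smul] at h
    rw [h] at hG1
    have h' : (1 - G0.det) • (1 : M2) = 0 := by rw [sub_smul, one_smul, ← hG1]; abel
    exact (sub_eq_zero.1 ((smul_eq_zero.1 h').resolve_right one_ne_zero)).symm
  obtain ⟨G, hG⟩ : ∃ G : GL (Fin 2) F, (G : M2) = G0 :=
    ⟨Matrix.GeneralLinearGroup.mkOfDetNeZero G0 (dG ▸ one_ne_zero), rfl⟩
  have hG3 : G * (G * G) = 1 := Units.ext (by
    rw [Units.val_mul, Units.val_mul, hG, Units.val_one]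
    have h := congrArg (fun M => G0 * M - M) hG1
    simp only [mul_add, mul_one, mul_zero, sub_zero] at h
    rw [← sub_eq_zero, ← h]
    abel)
  have hGI : G * I = J * G := Units.ext (by
    rw [Units.val_mul, Units.val_mul, hG, hG0, smul_mul_assoc, mul_smul_comm]
    congr 1
    simp only [add_mul, mul_add, one_mul, mul_one, hII, hJJ, hJI, eKI, eJK]
    abel)
  have hGJ : G * J = (I * J) * G := Units.ext (by
    rw [Units.val_mul, Units.val_mul, Units.val_mul, hG, hG0, smul_mul_assoc, mul_smul_comm]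
    congr 1
    simp only [add_mul, mul_add, one_mul, mul_one, hII, hJJ, eKI, eKJ, hKK]
    abel)
  have hfw : ∀ h ∈ R, G * h * G⁻¹ ∈ R := by
    intro h hh
    obtain ⟨k, l, rfl⟩ := hgen h hh
    rw [← conj_mul, ← conj_pow, ← conj_pow, hGI, hGJ, mul_inv_cancel_right, mul_inv_cancel_right]
    exact R.mul_mem (R.pow_mem (R.mul_mem hIR hJR) _) (R.pow_mem hJR _)
  have hGN : G ∈ Cfsg.Geo.subgroupNormalizer R := by
    refine Subgroup.mem_normalizer_iff.2 fun h => ⟨hfw h, fun hh => ?_⟩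
    have h1 := hfw _ (hfw _ hh)
    rwa [show G * (G * (G * h * G⁻¹) * G⁻¹) * G⁻¹ = G * (G * G) * h * (G * (G * G))⁻¹ by group, hG3, one_mul,
      inv_one, mul_one] at h1
  have hGs : ∀ z : F, (G : M2) ≠ z • 1 := by
    intro z hz
    have e1 := hGI
    have hc : G * I = I * G := Units.ext (by rw [Units.val_mul, Units.val_mul, hz]; simp)
    rw [hc] at e1
    have : I = J := mul_right_cancel e1
    rw [← this] at hJI
    exact one_ne_zero (α := M2) (by
      rw [hII, neg_neg] at hJI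
      have h9 : (2 : F) • (1 : M2) = 0 := by rw [two_smul]; nth_rw 1 [← hJI]; exact neg_add_cancel _
      exact (smul_eq_zero.1 h9).resolve_left h2)
  have hRN : R ≤ Cfsg.Geo.subgroupNormalizer R := Subgroup.le_normalizer
  constructor
  · intro H
    by_contra hno
    push Not at hno
    have hr5 : 5 ≤ r := by
      have := hr.out.two_le
      rcases eq_or_ne r 4 with h4 | h4
      · exact absurd (h4 ▸ hr.out) (by norm_num)
      · omega
    obtain ⟨x, hx⟩ := exists_prime_orderOf_dvd_card' (G := Cfsg.Geo.specialLinear (Fin 2) F) r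
      (hΩ.trans (Subgroup.relIndex_dvd_card _ _))
    have hxr : (x : GL (Fin 2) F) ^ r = 1 := by
      have := pow_orderOf_eq_one x
      rw [hx] at this
      exact congrArg Subtype.val this
    have hscal1 : ∀ y : GL (Fin 2) F, (y : M2).det = 1 → y ^ r = 1 → ∀ z : F, (y : M2) = z • 1 → y = 1 := by
      intro y hy hyr z hz
      have hz2 : z * z = 1 := by
        rw [hz] at hy
        rw [Matrix.det_smul, Matrix.det_one, mul_one, Fintype.card_fin, pow_two] at hy
        exact hy
      have hzr : z ^ r = 1 := by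
        have := congrArg (fun g : GL (Fin 2) F => (g : M2) 0 0) hyr
        simp only [Units.val_pow_eq_pow_val, hz, smul_pow, one_pow, Units.val_one] at this
        simpa using this
      refine Units.ext ?_
      rw [hz, Units.val_one]
      rcases mul_self_eq_one_iff.1 hz2 with rfl | rfl
      · exact one_smul _ _
      · rw [Odd.neg_one_pow (hr.out.odd_of_ne_two (by omega))] at hzr
        exact absurd (by linear_combination -hzr) h2
    have hx1 : (x : GL (Fin 2) F) ≠ 1 := fun h => by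
      have : x = 1 := Subtype.ext h
      rw [this, orderOf_one] at hx
      omega
    obtain ⟨g, hg, hgn⟩ := H x.1 x.2 ⟨1, by rw [hxr, Units.val_one, one_smul]⟩
      (fun z hz => hx1 (hscal1 _ (mem_sl.1 x.2) hxr z hz))
    obtain ⟨y, hy⟩ : ∃ y, y = g⁻¹ * (x : GL (Fin 2) F) * g := ⟨_, rfl⟩
    rw [← hy] at hgn
    have hyd : (y : M2).det = 1 := mem_sl.1 (hy ▸ mul_mem (mul_mem (inv_mem hg) x.2) hg)
    have hyr : y ^ r = 1 := by
      rw [hy, show g⁻¹ * (x : GL (Fin 2) F) * g = g⁻¹ * x * (g⁻¹)⁻¹ by rw [inv_inv], conj_pow, hxr, mul_one, inv_inv,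
        inv_mul_cancel]
    -- y centralises R
    let N := Cfsg.Geo.subgroupNormalizer R
    let act : Equiv.Perm R :=
      { toFun := fun h => ⟨y * h * y⁻¹, (Subgroup.mem_normalizer_iff.1 hgn h.1).1 h.2⟩
        invFun := fun h => ⟨y⁻¹ * h * y, (Subgroup.mem_normalizer_iff.1 hgn _).2 (by simp [mul_assoc])⟩
        left_inv := fun h => Subtype.ext (by simp [mul_assoc])
        right_inv := fun h => Subtype.ext (by simp [mul_assoc]) }
    have hpow : ∀ (k : ℕ) (h : R), ((act ^ k) h : GL (Fin 2) F) = y ^ k * h * (y ^ k)⁻¹ := by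
      intro k
      induction k with
      | zero => simp
      | succ k ih =>
        intro h
        rw [pow_succ', Equiv.Perm.mul_apply]
        show y * ((act ^ k) h : GL (Fin 2) F) * y⁻¹ = _
        rw [ih, pow_succ' y, _root_.mul_inv_rev]
        group
    have hact : act ^ (r ^ 1) = 1 := Equiv.ext fun h => Subtype.ext (by
      rw [pow_one, hpow, hyr]; simp)
    haveI : Fintype R := Fintype.ofEquiv _ e.symm.toEquiv
    have hmod := Equiv.Perm.card_fixedPoints_modEq (f := (MulAction.toEndHom act : Function.End R))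
      ((map_pow MulAction.toEndHom act (r ^ 1)).symm.trans (by rw [hact, map_one]))
    let C : Subgroup R := (Subgroup.centralizer ({y} : Set (GL (Fin 2) F))).subgroupOf R
    have hC : Nat.card C = Nat.card (Function.fixedPoints (MulAction.toEndHom act : Function.End R)) := by
      refine Nat.card_congr (Equiv.subtypeEquivRight fun h => ?_)
      rw [Subgroup.mem_subgroupOf, Subgroup.mem_centralizer_singleton_iff]
      show _ ↔ act h = h
      rw [Subtype.ext_iff]
      show _ ↔ y * h * y⁻¹ = h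
      rw [mul_inv_eq_iff_eq_mul, eq_comm]
    have h8 : Fintype.card R = 8 := by rw [Fintype.card_congr e.toEquiv, QuaternionGroup.card]
    have hdvd : Nat.card C ∣ 8 := by rw [← h8, ← Nat.card_eq_fintype_card]; exact Subgroup.card_subgroup_dvd_card C
    have hm : (I * I : GL (Fin 2) F) * y = y * (I * I) := Units.ext (by
      rw [Units.val_mul (I * I), Units.val_mul y (I * I), hZ]; simp)
    have h2C : 2 ≤ Nat.card C := by
      haveI : Nontrivial C := ⟨⟨⟨⟨I * I, R.mul_mem hIR hIR⟩,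
        Subgroup.mem_subgroupOf.2 (Subgroup.mem_centralizer_singleton_iff.2 hm)⟩, 1,
        fun h => r3 (congrArg (fun c : C => ((c : R) : GL (Fin 2) F)) h)⟩⟩
      exact Finite.one_lt_card
    have hC8 : Nat.card C = 8 := by
      replace hmod : 8 ≡ Nat.card C [MOD r] := by
        rw [← h8, hC, Nat.card_eq_fintype_card]; convert hmod
      have hle := Nat.le_of_dvd (by norm_num) hdvd
      have hd : r ∣ 8 - Nat.card C := (Nat.modEq_iff_dvd' hle).1 hmod.symm
      obtain ⟨k, hk, hkc⟩ := (Nat.dvd_prime_pow Nat.prime_two).1 (show Nat.card C ∣ 2 ^ 3 from hdvd)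
      rw [hkc] at hd h2C ⊢
      interval_cases k
      · norm_num at h2C
      · have hr6 := Nat.le_of_dvd (by norm_num) hd
        norm_num at hd hr6
        interval_cases r
        · norm_num at hd
        · exact absurd hr.out (by norm_num)
      · have hr6 := Nat.le_of_dvd (by norm_num) hd
        norm_num at hr6
        omega
      · norm_num
    have hcom : ∀ h ∈ R, h * y = y * h := fun h hh => by
      have : C = ⊤ := Subgroup.eq_top_of_card_eq C (by rw [hC8, Nat.card_eq_fintype_card, h8])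
      exact Subgroup.mem_centralizer_singleton_iff.1 (Subgroup.mem_subgroupOf.1
        (this ▸ Subgroup.mem_top (⟨h, hh⟩ : R) : (⟨h, hh⟩ : R) ∈ C))
    obtain ⟨A, hA⟩ : ∃ A : M2, A = (y : M2) - ((y : M2).trace / 2) • 1 := ⟨_, rfl⟩
    have tA : A.trace = 0 := by
      rw [hA, Matrix.trace_sub, Matrix.trace_smul, Matrix.trace_one, Fintype.card_fin, smul_eq_mul]
      field_simp; norm_num
    have hAc : ∀ B : GL (Fin 2) F, B ∈ R → (B : M2).trace = 0 → (B : M2) * B = -1 → ∃ c : F, A = c • (B : M2) := by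
      intro B hB tB hBB
      have hc1 : (B : M2) * A = A * B := by
        rw [hA, mul_sub, sub_mul, mul_smul_comm, smul_mul_assoc, mul_one, one_mul]
        congr 1
        exact congrArg (fun g : GL (Fin 2) F => (g : M2)) (hcom B hB)
      have h := traceless_anti A B tA tB
      rw [hc1, ← two_smul F] at h
      have h' := hscal _ _ h2 _ h
      refine ⟨-((A * (B : M2)).trace / 2), ?_⟩
      calc A = -((A * B) * B) := by rw [mul_assoc, hBB]; simp
        _ = _ := by nth_rw 1 [h']; simp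
    obtain ⟨c, hc⟩ := hAc I hIR tI hII
    obtain ⟨c', hc'⟩ := hAc J hJR tJ hJJ
    have hc0 : c = 0 := by
      by_contra h0
      have h := congrArg (· * (J : M2)) (hc.symm.trans hc')
      simp only [smul_mul_assoc, hJJ] at h
      exact hKs (-c' / c) (hscal _ _ h0 _ (by rw [h]; simp))
    rw [hc0, zero_smul, hA, sub_eq_zero] at hc
    have hy1 := hscal1 y hyd hyr _ hc
    apply hx1
    rw [hy] at hy1
    calc (x : GL (Fin 2) F) = g * (g⁻¹ * x * g) * g⁻¹ := by group
      _ = 1 := by rw [hy1]; group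
  · intro hr23 x hx hz hxs
    obtain ⟨z, hz⟩ := hz
    have hxd := mem_sl.1 hx
    have h := ch (x : M2)
    rw [hxd, one_smul] at h
    obtain ⟨t, ht⟩ : ∃ t, t = (x : M2).trace := ⟨_, rfl⟩
    rw [← ht] at h
    have h4 : (4 : F) ≠ 0 := by rw [show (4 : F) = 2 * 2 by norm_num]; exact mul_ne_zero h2 h2
    obtain ⟨y, hyN, hyd, hys, hyt, ht4⟩ : ∃ y ∈ Cfsg.Geo.subgroupNormalizer R, (y : M2).det = 1 ∧
        (∀ z : F, (y : M2) ≠ z • 1) ∧ (y : M2).trace = t ∧ t ^ 2 ≠ 4 := by
      rcases hr23 with rfl | rfl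
      · have ht0 : t = 0 := by
          by_contra h0
          refine hxs ((z + 1) / t) (hscal _ _ h0 _ ?_)
          rw [Units.val_pow_eq_pow_val, pow_two, h] at hz
          rw [add_smul, one_smul, ← hz, sub_add_cancel]
        exact ⟨I, hRN hIR, dI, hIs, tI.trans ht0.symm, by rw [ht0]; simpa using Ne.symm h4⟩
      · have h3' : (t * t - 1) • (x : M2) = (z + t) • 1 := by
          rw [Units.val_pow_eq_pow_val, pow_succ, pow_two, h, sub_mul, smul_mul_assoc, h, one_mul] at hz
          rw [add_smul, ← hz]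
          simp only [sub_smul, smul_sub, smul_smul, one_smul]
          abel
        have ht1 : t * t = 1 := by
          by_contra h0
          exact hxs _ (hscal _ _ (sub_ne_zero.2 h0) _ h3')
        have ht4 : t ^ 2 ≠ 4 := fun e => h3 (by linear_combination ht1 - e)
        rcases mul_self_eq_one_iff.1 ht1 with rfl | rfl
        · have e0 : G * (I * I) ∈ Cfsg.Geo.subgroupNormalizer R := mul_mem hGN (hRN (R.mul_mem hIR hIR))
          have e1 : ((G * (I * I) : GL (Fin 2) F) : M2) = -(G : M2) := by rw [Units.val_mul, hZ]; simp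
          refine ⟨_, e0, ?_, fun w hw => ?_, ?_, ht4⟩
          · rw [e1, hG, Matrix.det_neg, dG]; simp
          · rw [e1, neg_eq_iff_eq_neg, ← neg_smul] at hw
            exact hGs _ hw
          · rw [e1, hG, Matrix.trace_neg, tG, neg_neg]
        · exact ⟨G, hGN, by rw [hG, dG], hGs, by rw [hG, tG], ht4⟩
    obtain ⟨g, hg, he⟩ := conj_sl h2 hxd hyd hxs hys (ht.symm.trans hyt.symm) (by rw [← ht]; exact ht4)
    exact ⟨g, hg, he ▸ hyN⟩

end CfsgLib.Lie.QuaternionFix
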