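import Cfsg.Prelude.Def_LieRecognition
import Mathlib.GroupTheory.Sylow
import Mathlib.GroupTheory.Index

/-!
The rank-one set-up: a doubly transitive group whose point stabiliser splits over an odd two-point stabiliser.
-/

set_option autoImplicit false
set_option linter.unusedSectionVars false

namespace CfsgLib.Lie.RankOne

open MulAction

variable {G : Type*} [Group G]

/-! ### Odd order -/

theorem pow_half_sq [Finite G] {X : Subgroup G} (hodd : Odd (Nat.card X)) {x : G} (hx : x ∈ X) :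
    ∃ y ∈ Subgroup.zpowers x, y * y = x := by
  obtain ⟨k, hk⟩ := hodd
  refine ⟨x ^ (k + 1), Subgroup.pow_mem _ (Subgroup.mem_zpowers x) _, ?_⟩
  have h1 : x ^ Nat.card X = 1 := congrArg Subtype.val (pow_card_eq_one' (x := (⟨x, hx⟩ : X)))
  rw [← pow_add, show k + 1 + (k + 1) = Nat.card X + 1 by omega, pow_succ, h1, one_mul]

theorem eq_half [Finite G] {X : Subgroup G} (hodd : Odd (Nat.card X)) {y : G} (hy : y ∈ X) :
    y ∈ Subgroup.zpowers (y * y) := by
  obtain ⟨k, hk⟩ := hodd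
  have h1 : y ^ Nat.card X = 1 := congrArg Subtype.val (pow_card_eq_one' (x := (⟨y, hy⟩ : X)))
  refine ⟨((k + 1 : ℕ) : ℤ), ?_⟩
  show (y * y) ^ ((k + 1 : ℕ) : ℤ) = y
  rw [zpow_natCast, ← pow_two, ← pow_mul, show 2 * (k + 1) = Nat.card X + 1 by omega, pow_succ, h1, one_mul]

theorem sq_inj [Finite G] {X : Subgroup G} (hodd : Odd (Nat.card X)) {x y : G} (hx : x ∈ X) (hy : y ∈ X)
    (h : x * x = y * y) : x = y := by
  obtain ⟨k, hk⟩ := hodd
  have e : ∀ z ∈ X, z = (z * z) ^ (k + 1) := fun z hz => by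
    have h1 : z ^ Nat.card X = 1 := congrArg Subtype.val (pow_card_eq_one' (x := (⟨z, hz⟩ : X)))
    rw [← pow_two, ← pow_mul, show 2 * (k + 1) = Nat.card X + 1 by omega, pow_succ, h1, one_mul]
  rw [e x hx, h, ← e y hy]

theorem eq_one_of_sq [Finite G] {X : Subgroup G} (hodd : Odd (Nat.card X)) {x : G} (hx : x ∈ X)
    (h : x * x = 1) : x = 1 := sq_inj hodd hx X.one_mem (by rw [h, mul_one])

/-- an element of a group of odd order conjugate to its inverse is trivial -/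
theorem eq_one_of_real [Finite G] {X : Subgroup G} (hodd : Odd (Nat.card X)) {x g : G} (hx : x ∈ X) (hg : g ∈ X)
    (h : g * x * g⁻¹ = x⁻¹) : x = 1 := by
  have h2 : g * g * x * (g * g)⁻¹ = x := by
    calc g * g * x * (g * g)⁻¹ = g * (g * x * g⁻¹) * g⁻¹ := by group
      _ = g * x⁻¹ * g⁻¹ := by rw [h]
      _ = (g * x * g⁻¹)⁻¹ := by group
      _ = x := by rw [h, inv_inv]
  have hc : Commute (g * g) x := mul_inv_eq_iff_eq_mul.1 h2
  obtain ⟨i, hi⟩ := eq_half hodd hg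
  have hgx : Commute g x := hi ▸ hc.zpow_left i
  rw [hgx.eq, mul_inv_cancel_right] at h
  exact eq_one_of_sq hodd hx (by nth_rewrite 2 [h]; exact mul_inv_cancel x)

theorem dih_conj [Finite G] {s u : G} (hs : s * s = 1) (hu : u * u = 1) (h : Odd (orderOf (s * u))) :
    ∃ g : G, g * s * g⁻¹ = u := by
  obtain ⟨k, hk⟩ := h
  have hsi : s⁻¹ = s := inv_eq_of_mul_eq_one_right hs
  have hui : u⁻¹ = u := inv_eq_of_mul_eq_one_right hu
  have hc : s * (s * u) * s⁻¹ = (s * u)⁻¹ := by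
    rw [_root_.mul_inv_rev, hsi, hui, ← mul_assoc s s u, hs, one_mul]
  have hrev : ∀ j : ℕ, s * ((s * u) ^ j)⁻¹ = (s * u) ^ j * s := fun j => by
    have e : s * (s * u) ^ j * s⁻¹ = ((s * u) ^ j)⁻¹ := by rw [← conj_pow, hc, inv_pow]
    rw [← e, hsi, ← mul_assoc, ← mul_assoc, hs, one_mul]
  refine ⟨(s * u) ^ k, ?_⟩
  have h1 : (s * u) ^ (2 * k + 1) = 1 := hk ▸ pow_orderOf_eq_one _
  rw [pow_succ, ← eq_inv_iff_mul_eq_one, two_mul, pow_add] at h1
  rw [mul_assoc, hrev, ← mul_assoc, h1, _root_.mul_inv_rev, hsi, hui, mul_assoc, hs, mul_one]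

/-! ### The set-up -/

variable {Ω : Type*} [MulAction G Ω] {a : Ω} {t : G} {Q : Subgroup G}

variable (hS : Cfsg.IsRankOneSetup G Ω a t Q)
include hS

local notation "D" => ((stabilizer G a ⊓ stabilizer G (t • a)) : Subgroup G)

theorem t_inv : t⁻¹ = t := inv_eq_of_mul_eq_one_right hS.mul_self

theorem t_t (x : Ω) : t • t • x = x := by rw [smul_smul, hS.mul_self, one_smul]

theorem ne_ab : t • a ≠ a := hS.not_mem

theorem conj_D {d : G} (hd : d ∈ D) : t * d * t ∈ D := by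
  obtain ⟨h1, h2⟩ := Subgroup.mem_inf.1 hd
  rw [mem_stabilizer_iff] at h1 h2
  refine Subgroup.mem_inf.2 ⟨?_, ?_⟩ <;> rw [mem_stabilizer_iff, mul_smul, mul_smul]
  · rw [h2, t_t hS]
  · rw [t_t hS, h1]

theorem two_trans {x y x' y' : Ω} (h : x ≠ y) (h' : x' ≠ y') : ∃ g : G, g • x = x' ∧ g • y = y' :=
  MulAction.is_two_pretransitive_iff.1 hS.two_transitive h h'

theorem trans (x y : Ω) : ∃ g : G, g • x = y := by
  rcases eq_or_ne x y with rfl | h
  · exact ⟨1, one_smul _ _⟩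
  · obtain ⟨g, hg, -⟩ := two_trans hS h (Ne.symm h)
    exact ⟨g, hg⟩

theorem decomp {g : G} (hg : g ∈ stabilizer G a) : ∃ q ∈ Q, ∃ d ∈ D, g = q * d := by
  rw [← hS.sup_eq] at hg
  have hn : D ≤ Subgroup.normalizer (Q : Set G) := fun d hd => Subgroup.mem_normalizer_iff.2 fun x =>
    ⟨hS.conj_mem d (Subgroup.mem_inf.1 hd).1 x, fun h => by
      have := hS.conj_mem d⁻¹ (inv_mem (Subgroup.mem_inf.1 hd).1) _ h
      simpa [mul_assoc] using this⟩
  rw [← SetLike.mem_coe, Subgroup.coe_mul_of_right_le_normalizer_left _ _ hn] at hg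
  obtain ⟨q, hq, d, hd, rfl⟩ := Set.mem_mul.1 hg
  exact ⟨q, hq, d, hd, rfl⟩

theorem fix_b {q : G} (hq : q ∈ Q) (h : q • (t • a) = t • a) : q = 1 :=
  Subgroup.mem_bot.1 (hS.inf_eq_bot ▸ Subgroup.mem_inf.2 ⟨hq, h⟩)

theorem decomp_unique {q q' d d' : G} (hq : q ∈ Q) (hq' : q' ∈ Q) (hd : d ∈ D) (hd' : d' ∈ D)
    (h : q * d = q' * d') : q = q' ∧ d = d' := by
  have h1 : q'⁻¹ * q = d' * d⁻¹ := by rw [inv_mul_eq_iff_eq_mul, ← mul_assoc, ← h, mul_inv_cancel_right]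
  have h2 : q'⁻¹ * q = 1 := fix_b hS (mul_mem (inv_mem hq') hq) (by
    rw [h1]; exact mem_stabilizer_iff.1 (mul_mem hd' (inv_mem hd)).2)
  rw [inv_mul_eq_one] at h2
  subst h2
  exact ⟨rfl, mul_left_cancel h⟩

theorem exists_reg {c : Ω} (hc : c ≠ a) : ∃ q ∈ Q, q • (t • a) = c := by
  obtain ⟨g, hga, hgb⟩ := two_trans hS (ne_ab hS).symm hc.symm
  obtain ⟨q, hq, d, hd, rfl⟩ := decomp hS (show g ∈ stabilizer G a from hga)
  refine ⟨q, hq, ?_⟩
  rw [← hgb, mul_smul, mem_stabilizer_iff.1 (Subgroup.mem_inf.1 hd).2]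

theorem unique_reg {q q' : G} (hq : q ∈ Q) (hq' : q' ∈ Q) (h : q • (t • a) = q' • (t • a)) : q = q' :=
  inv_mul_eq_one.1 (fix_b hS (mul_mem (inv_mem hq) hq') (by rw [mul_smul, ← h, inv_smul_smul]))

theorem Q_fix {q : G} (hq : q ∈ Q) : q • a = a := hS.le hq

theorem Q_ne_a {q : G} (hq : q ∈ Q) : q • (t • a) ≠ a := fun h =>
  ne_ab hS (smul_left_cancel q (h.trans (Q_fix hS hq).symm))

/-- a non-identity element of `Q` fixes only `a` -/
theorem fix_only {q : G} (hq : q ∈ Q) (h1 : q ≠ 1) {c : Ω} (h : q • c = c) : c = a := by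
  by_contra hc
  obtain ⟨y, hy, rfl⟩ := exists_reg hS hc
  rw [smul_smul] at h
  exact h1 (mul_eq_right.1 (unique_reg hS (mul_mem hq hy) hy h))

theorem exists_unique_move {b c : Ω} (hb : b ≠ a) (hc : c ≠ a) : ∃! x : Q, (x : G) • b = c := by
  obtain ⟨y, hy, rfl⟩ := exists_reg hS hb
  obtain ⟨z, hz, rfl⟩ := exists_reg hS hc
  refine ⟨⟨z * y⁻¹, mul_mem hz (inv_mem hy)⟩, ?_, fun x hx => Subtype.ext ?_⟩
  · show (z * y⁻¹) • y • (t • a) = _
    rw [mul_smul, inv_smul_smul]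
  replace hx : ((x : G) * y) • (t • a) = z • (t • a) := (mul_smul (x : G) y (t • a)).trans hx
  show (x : G) = z * y⁻¹
  rw [← unique_reg hS (mul_mem x.2 hy) hz hx]; group

theorem bruhat {g : G} (hg : g ∉ stabilizer G a) :
    ∃! p : G × G, p.1 ∈ stabilizer G a ∧ p.2 ∈ Q ∧ g = p.1 * t * p.2 := by
  have hc : g⁻¹ • a ≠ a := fun h => hg (by
    rw [mem_stabilizer_iff]; nth_rewrite 1 [← h]; rw [smul_inv_smul])
  obtain ⟨y, hy, hya⟩ := exists_reg hS hc
  refine ⟨(g * y * t, y⁻¹), ⟨?_, inv_mem hy, ?_⟩, ?_⟩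
  · show (g * y * t) • a = a
    rw [mul_smul, mul_smul, hya, smul_inv_smul]
  · show g = g * y * t * t * y⁻¹
    rw [mul_assoc (g * y) t t, hS.mul_self, mul_one, mul_inv_cancel_right]
  · rintro ⟨p, f⟩ ⟨hp, hf, rfl⟩
    have h1 : f⁻¹ • (t • a) = (p * t * f)⁻¹ • a := by
      rw [_root_.mul_inv_rev, _root_.mul_inv_rev, mul_smul, mul_smul, mem_stabilizer_iff.1 (inv_mem hp), t_inv hS]
    have h2 := unique_reg hS hy (inv_mem hf) (hya.trans h1.symm)
    subst h2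
    refine Prod.ext ?_ (inv_inv f).symm
    show p = p * t * f * f⁻¹ * t
    rw [mul_inv_cancel_right, mul_assoc, hS.mul_self, mul_one]

theorem bruhat_unique {g h f g' h' f' : G} (hg : g ∈ Q) (hh : h ∈ D) (hf : f ∈ Q) (hg' : g' ∈ Q) (hh' : h' ∈ D)
    (hf' : f' ∈ Q) (e : g * h * t * f = g' * h' * t * f') : g = g' ∧ h = h' ∧ f = f' := by
  have hA : g * h ∈ stabilizer G a := mul_mem (hS.le hg) (Subgroup.mem_inf.1 hh).1
  have hA' : g' * h' ∈ stabilizer G a := mul_mem (hS.le hg') (Subgroup.mem_inf.1 hh').1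
  have hn : g * h * t * f ∉ stabilizer G a := fun h0 => hS.not_mem (by
    have := mul_mem (mul_mem (inv_mem hA) h0) (inv_mem (hS.le hf))
    simpa [mul_assoc] using this)
  obtain ⟨p, -, hu⟩ := bruhat hS hn
  have h1 := hu (g * h, f) ⟨hA, hf, rfl⟩
  have h2 := hu (g' * h', f') ⟨hA', hf', e⟩
  rw [← h2] at h1
  simp only [Prod.mk.injEq] at h1
  obtain ⟨e1, e2⟩ := decomp_unique hS hg hg' hh hh' h1.1
  exact ⟨e1, e2, h1.2⟩

/-! ### Involutions -/

variable [Finite G]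

theorem finite_omega : Finite Ω :=
  Finite.of_surjective (fun g : G => g • a) fun y => trans hS a y

theorem inv_mem_Q {s : G} (hs : s * s = 1) (hsA : s ∈ stabilizer G a) : s ∈ Q := by
  obtain ⟨q, hq, d, hd, rfl⟩ := decomp hS hsA
  have hdA := (Subgroup.mem_inf.1 hd).1
  have h1 : d * d = (d * q * d⁻¹)⁻¹ * q⁻¹ * 1 := by
    rw [← hs]; group
  have h2 : d * d = 1 := by
    have hQ : d * d ∈ Q := by
      rw [h1, mul_one]; exact mul_mem (inv_mem (hS.conj_mem d hdA q hq)) (inv_mem hq)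
    exact fix_b hS hQ (mem_stabilizer_iff.1 (Subgroup.mem_inf.1 (mul_mem hd hd)).2)
  rw [eq_one_of_sq hS.odd_card hd h2, mul_one]
  exact hq

theorem exists_inv_Q : ∃ s ∈ Q, s ≠ 1 ∧ s * s = 1 := by
  obtain ⟨s, hs⟩ := exists_prime_orderOf_dvd_card' (G := Q) 2 hS.even_card.two_dvd
  refine ⟨s, s.2, fun h => ?_, ?_⟩
  · have h0 : s = 1 := Subtype.ext h
    rw [h0, orderOf_one] at hs
    omega
  · rw [← pow_two, ← hs]
    exact congrArg Subtype.val (pow_orderOf_eq_one s)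

theorem card_omega : Nat.card Ω = Nat.card Q + 1 := by
  haveI := finite_omega hS
  have h : Nat.card Q = Nat.card {c : Ω // c ≠ a} := Nat.card_congr (Equiv.ofBijective
    (fun q : Q => (⟨(q : G) • (t • a), Q_ne_a hS q.2⟩ : {c : Ω // c ≠ a}))
    ⟨fun q q' h => Subtype.ext (unique_reg hS q.2 q'.2 (congrArg Subtype.val h)), fun c => by
      obtain ⟨q, hq, hc⟩ := exists_reg hS c.2
      exact ⟨⟨q, hq⟩, Subtype.ext hc⟩⟩)
  classical
  rw [h, ← Finite.card_option]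
  exact Nat.card_congr (Equiv.optionSubtypeNe a).symm

theorem card_stab : Nat.card (stabilizer G a) = Nat.card Q * Nat.card D := by
  rw [← Nat.card_prod]
  refine (Nat.card_congr (Equiv.ofBijective
    (fun p : Q × D => (⟨(p.1 : G) * p.2, mul_mem (hS.le p.1.2) (Subgroup.mem_inf.1 p.2.2).1⟩ : stabilizer G a))
    ⟨fun p p' h => ?_, fun g => ?_⟩)).symm
  · obtain ⟨e1, e2⟩ := decomp_unique hS p.1.2 p'.1.2 p.2.2 p'.2.2 (congrArg Subtype.val h)
    exact Prod.ext (Subtype.ext e1) (Subtype.ext e2)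
  · obtain ⟨q, hq, d, hd, e⟩ := decomp hS g.2
    exact ⟨(⟨q, hq⟩, ⟨d, hd⟩), Subtype.ext e.symm⟩

theorem card_G : Nat.card G = Nat.card Q * Nat.card D * (Nat.card Q + 1) := by
  haveI : IsPretransitive G Ω := ⟨trans hS⟩
  rw [← card_stab hS, ← card_omega hS, ← index_stabilizer_of_transitive G a, Subgroup.card_mul_index]

theorem exists_sylow : ∃ P : Sylow 2 G, (P : Subgroup G) ≤ Q := by
  obtain ⟨P⟩ : Nonempty (Sylow 2 Q) := inferInstance
  have hP : IsPGroup 2 ((P : Subgroup Q).map Q.subtype) := P.isPGroup'.map _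
  refine ⟨hP.toSylow ?_, Subgroup.map_subtype_le _⟩
  rw [Subgroup.index_map_subtype]
  have hi : Q.index = Nat.card D * (Nat.card Q + 1) := by
    refine Nat.eq_of_mul_eq_mul_left (Nat.card_pos (α := Q)) ?_
    rw [Subgroup.card_mul_index, card_G hS, mul_assoc]
  rw [hi, Nat.Prime.dvd_mul Nat.prime_two, Nat.Prime.dvd_mul Nat.prime_two]
  have h1 := Nat.odd_iff.1 hS.odd_card
  have h2 := Nat.even_iff.1 hS.even_card
  rintro (h | h | h)
  · exact P.not_dvd_index h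
  · omega
  · omega

/-- every involution fixes exactly one point -/
theorem fixed {s : G} (h1 : s ≠ 1) (hs : s * s = 1) : ∃ c : Ω, s • c = c ∧ ∀ d : Ω, s • d = d → d = c := by
  haveI := finite_omega hS
  obtain ⟨c, hc⟩ : ∃ c : Ω, s • c = c := by
    classical
    have := Fintype.ofFinite Ω
    have hinv : Function.Involutive fun x : Ω => s • x := fun x => by
      show s • s • x = x
      rw [smul_smul, hs, one_smul]
    by_contra hc
    push Not at hc
    have hsup : (Function.Involutive.toPerm _ hinv).support = Finset.univ :=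
      Finset.eq_univ_of_forall fun x => Equiv.Perm.mem_support.2 (hc x)
    have h2 : (Function.Involutive.toPerm _ hinv) ^ 2 = 1 := Equiv.ext fun x => by
      rw [pow_two]; exact hinv x
    have h3 := Equiv.Perm.two_dvd_card_support h2
    rw [hsup, Finset.card_univ, ← Nat.card_eq_fintype_card, card_omega hS] at h3
    have := Nat.even_iff.1 hS.even_card
    omega
  refine ⟨c, hc, fun d hd => ?_⟩
  obtain ⟨g, hg⟩ := trans hS c a
  have hA : g * s * g⁻¹ ∈ stabilizer G a := by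
    rw [mem_stabilizer_iff, mul_smul, mul_smul, ← hg, inv_smul_smul, hc]
  have hsq : g * s * g⁻¹ * (g * s * g⁻¹) = 1 := by
    rw [show g * s * g⁻¹ * (g * s * g⁻¹) = g * (s * s) * g⁻¹ by group, hs, mul_one, mul_inv_cancel]
  have h := fix_only hS (inv_mem_Q hS hsq hA) (fun e => h1 (by
    have := congrArg (fun z => g⁻¹ * z * g) e
    simpa [mul_assoc] using this)) (c := g • d) (by rw [mul_smul, mul_smul, inv_smul_smul, hd])
  rw [← hg] at h
  exact smul_left_cancel g h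

theorem odd_prod {s u : G} (hsA : s ∈ stabilizer G a) (hs1 : s ≠ 1) (hs : s * s = 1) (huA : u ∉ stabilizer G a)
    (hu : u * u = 1) : Odd (orderOf (s * u)) := by
  by_contra hodd
  obtain ⟨k, hk⟩ := (Nat.not_odd_iff_even.1 hodd).two_dvd
  obtain ⟨z, hz⟩ : ∃ z, z = (s * u) ^ k := ⟨_, rfl⟩
  have hpos := orderOf_pos (s * u)
  have hz1 : z ≠ 1 := fun h => by
    have := orderOf_dvd_of_pow_eq_one (hz ▸ h)
    have := Nat.le_of_dvd (by omega) this
    omega
  have hz2 : z * z = 1 := by rw [hz, ← pow_add, ← two_mul, ← hk, pow_orderOf_eq_one]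
  have hzi : z⁻¹ = z := inv_eq_of_mul_eq_one_right hz2
  have hsi : s⁻¹ = s := inv_eq_of_mul_eq_one_right hs
  have hui : u⁻¹ = u := inv_eq_of_mul_eq_one_right hu
  have hsz : s * z * s⁻¹ = z := by
    rw [hz, ← conj_pow, show s * (s * u) * s⁻¹ = (s * u)⁻¹ by
      rw [_root_.mul_inv_rev, hsi, hui, ← mul_assoc s s u, hs, one_mul], inv_pow, ← hz, hzi]
  have huz : u * z * u⁻¹ = z := by
    rw [hz, ← conj_pow, show u * (s * u) * u⁻¹ = (s * u)⁻¹ by
      rw [_root_.mul_inv_rev, hsi]; group; rw [zpow_neg_one, hui], inv_pow, ← hz, hzi]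
  have hza : z • a = a := by
    obtain ⟨c, -, hcu⟩ := fixed hS hs1 hs
    have h1 := hcu a hsA
    have h2 := hcu (z • a) (by
      rw [smul_smul, mul_inv_eq_iff_eq_mul.1 hsz, mul_smul, mem_stabilizer_iff.1 hsA])
    rw [h2, h1]
  obtain ⟨c, -, hcu⟩ := fixed hS hz1 hz2
  refine huA ?_
  have h2 := hcu (u • a) (by rw [smul_smul, ← mul_inv_eq_iff_eq_mul.1 huz, mul_smul, hza])
  rw [mem_stabilizer_iff, h2, hcu a hza]

theorem conj_invol {u v : G} (hu1 : u ≠ 1) (hu : u * u = 1) (hv1 : v ≠ 1) (hv : v * v = 1) :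
    ∃ g : G, g * u * g⁻¹ = v := by
  have key : ∀ w : G, w ≠ 1 → w * w = 1 → ∃ g, g * w * g⁻¹ = t := by
    intro w hw1 hw
    obtain ⟨c, hc, -⟩ := fixed hS hw1 hw
    obtain ⟨g, hg⟩ := trans hS c a
    have hA : g * w * g⁻¹ ∈ stabilizer G a := by
      rw [mem_stabilizer_iff, mul_smul, mul_smul, ← hg, inv_smul_smul, hc]
    have hsq : g * w * g⁻¹ * (g * w * g⁻¹) = 1 := by
      rw [show g * w * g⁻¹ * (g * w * g⁻¹) = g * (w * w) * g⁻¹ by group, hw, mul_one, mul_inv_cancel]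
    obtain ⟨h, hh⟩ := dih_conj hsq hS.mul_self (odd_prod hS hA (fun e => hw1 (by
      have := congrArg (fun z => g⁻¹ * z * g) e
      simpa [mul_assoc] using this)) hsq hS.not_mem hS.mul_self)
    exact ⟨h * g, by rw [← hh]; group⟩
  obtain ⟨g, hg⟩ := key u hu1 hu
  obtain ⟨h, hh⟩ := key v hv1 hv
  exact ⟨h⁻¹ * g, by rw [show h⁻¹ * g * u * (h⁻¹ * g)⁻¹ = h⁻¹ * (g * u * g⁻¹) * h by group, hg, ← hh]; group⟩

/-- the distinguished pair -/
theorem pair : ∃! p : G × G, p.1 ∈ Cfsg.involutionsIn (stabilizer G a : Set G) ∧ p.2 ∈ Q ∧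
    t * p.1 * t = p.2⁻¹ * t * p.2 := by
  obtain ⟨f, hf, hfu⟩ := fixed hS hS.ne_one hS.mul_self
  have hfa : f ≠ a := fun h => hS.not_mem (h ▸ hf : t • a = a)
  obtain ⟨r, hr, hrb⟩ := exists_reg hS hfa
  refine ⟨(t * (r⁻¹ * t * r) * t, r), ⟨⟨?_, ?_, ?_⟩, hr, ?_⟩, ?_⟩
  · show (t * (r⁻¹ * t * r) * t) • a = a
    simp only [mul_smul]
    rw [hrb, hf, ← hrb, inv_smul_smul, t_t hS]
  · intro h
    refine hS.ne_one ?_
    have := congrArg (fun z => r * (t * z * t) * r⁻¹) h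
    simpa [mul_assoc, hS.mul_self, ← mul_assoc t t] using this
  · show t * (r⁻¹ * t * r) * t * (t * (r⁻¹ * t * r) * t) = 1
    rw [show t * (r⁻¹ * t * r) * t * (t * (r⁻¹ * t * r) * t) = t * r⁻¹ * t * r * (t * t) * r⁻¹ * t * r * t by group,
      hS.mul_self, mul_one, mul_inv_cancel_right, mul_assoc (t * r⁻¹) t t, hS.mul_self, mul_one,
      inv_mul_cancel_right, hS.mul_self]
  · show t * (t * (r⁻¹ * t * r) * t) * t = r⁻¹ * t * r
    rw [show t * (t * (r⁻¹ * t * r) * t) * t = t * t * (r⁻¹ * t * r) * (t * t) by group, hS.mul_self, one_mul,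
      mul_one]
  · rintro ⟨s, r'⟩ ⟨⟨hsA, -, -⟩, hr', e⟩
    have h1 : (t * s * t) • (t • a) = t • a := by
      rw [mul_smul, mul_smul, t_t hS, mem_stabilizer_iff.1 hsA]
    rw [e, mul_smul, mul_smul, inv_smul_eq_iff] at h1
    have h2 := hfu _ h1
    obtain rfl := unique_reg hS hr' hr (h2.trans hrb.symm)
    refine Prod.ext ?_ rfl
    show s = t * (r'⁻¹ * t * r') * t
    rw [← e, show t * (t * s * t) * t = t * t * s * (t * t) by group, hS.mul_self, one_mul, mul_one]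

theorem cent_pair {s r : G} (hs : s ∈ Cfsg.involutionsIn (stabilizer G a : Set G)) (hr : r ∈ Q)
    (e : t * s * t = r⁻¹ * t * r) : D ⊓ Subgroup.centralizer {t} = D ⊓ Subgroup.centralizer {s} := by
  ext c
  simp only [Subgroup.mem_inf, Subgroup.mem_centralizer_singleton_iff]
  constructor
  · rintro ⟨hc, hct⟩
    refine ⟨hc, ?_⟩
    obtain ⟨p, -, hu⟩ := pair hS
    have h1 := hu (s, r) ⟨hs, hr, e⟩
    have hcA : c ∈ stabilizer G a := hc.1
    have hct' : c * t * c⁻¹ = t := by rw [hct, mul_inv_cancel_right]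
    have h2 := hu (c * s * c⁻¹, c * r * c⁻¹) ⟨⟨mul_mem (mul_mem hcA hs.1) (inv_mem hcA), fun h => hs.2.1 (by
      have := congrArg (fun z => c⁻¹ * z * c) h
      simpa [mul_assoc] using this), by
      show c * s * c⁻¹ * (c * s * c⁻¹) = 1
      rw [show c * s * c⁻¹ * (c * s * c⁻¹) = c * (s * s) * c⁻¹ by group, hs.2.2, mul_one, mul_inv_cancel]⟩,
      hS.conj_mem c hcA r hr, by
      show t * (c * s * c⁻¹) * t = (c * r * c⁻¹)⁻¹ * t * (c * r * c⁻¹)
      calc t * (c * s * c⁻¹) * t = (c * t * c⁻¹) * (c * s * c⁻¹) * (c * t * c⁻¹) := by rw [hct']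
        _ = c * (t * s * t) * c⁻¹ := by group
        _ = (c * r * c⁻¹)⁻¹ * (c * t * c⁻¹) * (c * r * c⁻¹) := by rw [e]; group
        _ = _ := by rw [hct']⟩
    rw [← h1] at h2
    have h3 : c * s * c⁻¹ = s := congrArg Prod.fst h2
    rw [mul_inv_eq_iff_eq_mul] at h3
    exact h3
  · rintro ⟨hc, hcs⟩
    refine ⟨hc, ?_⟩
    obtain ⟨c', hc'⟩ : ∃ c', c' = t * c * t := ⟨_, rfl⟩
    have hc'D : c' ∈ D := hc' ▸ conj_D hS hc
    have hcu : c' * (r⁻¹ * t * r) = r⁻¹ * t * r * c' := by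
      rw [← e, hc', show t * c * t * (t * s * t) = t * c * (t * t) * s * t by group,
        show t * s * t * (t * c * t) = t * s * (t * t) * c * t by group, hS.mul_self, mul_one, mul_one,
        mul_assoc t c, hcs, ← mul_assoc]
    obtain ⟨d, hd⟩ : ∃ d, d = r * c' * r⁻¹ := ⟨_, rfl⟩
    have hca := mem_stabilizer_iff.1 hc'D.1
    have hdA : d ∈ stabilizer G a := hd ▸ mul_mem (mul_mem (hS.le hr) hc'D.1) (inv_mem (hS.le hr))
    have hdD : d ∈ D := by
      refine Subgroup.mem_inf.2 ⟨hdA, ?_⟩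
      have h1 := congrArg (fun z => z • a) hcu
      simp only [mul_smul, hca, Q_fix hS hr] at h1
      rw [mem_stabilizer_iff, hd, mul_smul, mul_smul, h1, smul_inv_smul]
    have hdt : d * t = t * d := by
      rw [hd, show r * c' * r⁻¹ * t = r * (c' * (r⁻¹ * t * r)) * r⁻¹ by group, hcu]; group
    obtain ⟨-, h4⟩ := decomp_unique hS (q := c' * r⁻¹ * c'⁻¹) (q' := r⁻¹) (hS.conj_mem c' hc'D.1 _ (inv_mem hr))
      (inv_mem hr) hc'D hdD (by rw [hd]; group)
    have hcc : c = c' := by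
      have hcc' : c = t * c' * t := by
        rw [hc', show t * (t * c * t) * t = t * t * c * (t * t) by group, hS.mul_self, one_mul, mul_one]
      rw [hcc', h4, ← hdt, mul_assoc, hS.mul_self, mul_one]
    rw [hcc, h4]; exact hdt

/-- an element conjugate to a fixed element of `D` and of the shape `k₂ k₁⁻¹` is trivial -/
theorem trans_K {k k' g c : G} (hk : k ∈ Cfsg.invertedBy D t) (hk' : k' ∈ Cfsg.invertedBy D t) (hg : g ∈ D)
    (hc : c ∈ D) (hct : c * t = t * c) (e : k' * k⁻¹ = g * c * g⁻¹) : k' = k := by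
  obtain ⟨x, hx⟩ : ∃ x, x = k' * k⁻¹ := ⟨_, rfl⟩
  have hxD : x ∈ D := hx ▸ mul_mem hk'.1 (inv_mem hk.1)
  have htk : ∀ {y : G}, y ∈ Cfsg.invertedBy D t → t * y * t = y⁻¹ := fun {y} hy => by
    have := hy.2; rwa [t_inv hS] at this
  have h1 : t * x * t = k'⁻¹ * k := by
    rw [hx, show t * (k' * k⁻¹) * t = t * k' * (t * t) * k⁻¹ * t by rw [hS.mul_self]; group,
      show t * k' * (t * t) * k⁻¹ * t = (t * k' * t) * (t * k⁻¹ * t) by group, htk hk']
    congr 1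
    calc t * k⁻¹ * t = (t⁻¹ * k * t⁻¹)⁻¹ := by group
      _ = k := by rw [t_inv hS, htk hk, inv_inv]
  have h2 : t * x * t = (t * g * t) * c * (t * g * t)⁻¹ := by
    rw [hx, e, _root_.mul_inv_rev, _root_.mul_inv_rev, t_inv hS,
      show t * g * t * c * (t * (g⁻¹ * t)) = t * g * (t * c) * t * g⁻¹ * t by group, ← hct,
      show t * g * (c * t) * t * g⁻¹ * t = t * g * c * (t * t) * g⁻¹ * t by group, hS.mul_self, mul_one]
    group
  have hgD' := conj_D hS hg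
  have h3 : x = 1 := eq_one_of_real hS.odd_card hxD (g := k' * (t * g * t) * g⁻¹)
    (mul_mem (mul_mem hk'.1 hgD') (inv_mem hg)) (by
      rw [h1] at h2
      calc k' * (t * g * t) * g⁻¹ * x * (k' * (t * g * t) * g⁻¹)⁻¹
          = k' * ((t * g * t) * (g⁻¹ * x * g) * (t * g * t)⁻¹) * k'⁻¹ := by group
        _ = k' * ((t * g * t) * c * (t * g * t)⁻¹) * k'⁻¹ := by
          rw [hx, e]; group
        _ = x⁻¹ := by rw [← h2, hx]; group)
  rw [hx] at h3
  exact mul_inv_eq_one.1 h3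

theorem card_K : Nat.card (Cfsg.invertedBy D t) = Nat.card (Cfsg.involutionsIn (stabilizer G a : Set G)) := by
  classical
  haveI := finite_omega hS
  have := Fintype.ofFinite G
  have := Fintype.ofFinite Ω
  obtain ⟨I, hI⟩ : ∃ I : Finset G, I = Finset.univ.filter fun s => s ≠ 1 ∧ s * s = 1 := ⟨_, rfl⟩
  obtain ⟨P, hP⟩ : ∃ P : Finset (Ω × Ω), P = Finset.univ.filter fun p => p.1 ≠ p.2 := ⟨_, rfl⟩
  have hn : ∀ c : Ω, (I.filter fun s => s • c = c).card = Nat.card (Cfsg.involutionsIn (stabilizer G a : Set G)) := by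
    intro c
    obtain ⟨g, hg⟩ := trans hS c a
    rw [Nat.card_eq_fintype_card, ← Set.toFinset_card]
    refine Finset.card_equiv (MulAut.conj g).toEquiv fun s => ?_
    rw [Set.mem_toFinset]
    simp only [hI, Finset.mem_filter, Finset.mem_univ, true_and, Cfsg.involutionsIn,
      Set.mem_setOf_eq, SetLike.mem_coe, mem_stabilizer_iff, MulEquiv.toEquiv_eq_coe, EquivLike.coe_coe,
      MulAut.conj_apply]
    rw [show g * s * g⁻¹ * (g * s * g⁻¹) = g * (s * s) * g⁻¹ by group, mul_smul, mul_smul, ← hg, inv_smul_smul,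
      smul_left_cancel_iff]
    simp only [ne_eq, mul_inv_eq_one, mul_eq_left]
    tauto
  have hm : ∀ p ∈ P, (I.filter fun s => s • p.1 = p.2).card = Nat.card (Cfsg.invertedBy D t) := by
    intro p hp
    rw [hP, Finset.mem_filter] at hp
    obtain ⟨g, hg1, hg2⟩ := two_trans hS hp.2 (ne_ab hS).symm
    rw [Nat.card_eq_fintype_card, ← Set.toFinset_card]
    refine Finset.card_equiv ((MulAut.conj g).toEquiv.trans (Equiv.mulLeft t)) fun s => ?_
    rw [Set.mem_toFinset]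
    simp only [hI, Finset.mem_filter, Finset.mem_univ, true_and, Cfsg.invertedBy,
      Set.mem_setOf_eq, MulEquiv.toEquiv_eq_coe, Equiv.trans_apply, EquivLike.coe_coe, MulAut.conj_apply,
      Equiv.coe_mulLeft]
    obtain ⟨w, hw⟩ : ∃ w, w = g * s * g⁻¹ := ⟨_, rfl⟩
    rw [← hw, t_inv hS]
    constructor
    · rintro ⟨⟨-, hs⟩, hsp⟩
      have hw2 : w * w = 1 := by
        rw [hw, show g * s * g⁻¹ * (g * s * g⁻¹) = g * (s * s) * g⁻¹ by group, hs, mul_one, mul_inv_cancel]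
      have hwa : w • a = t • a := by rw [hw, mul_smul, mul_smul, ← hg1, inv_smul_smul, hsp, hg2, hg1]
      refine ⟨Subgroup.mem_inf.2 ⟨?_, ?_⟩, ?_⟩
      · rw [mem_stabilizer_iff, mul_smul, hwa, t_t hS]
      · rw [mem_stabilizer_iff, ← hwa, smul_smul, mul_assoc, hw2, mul_one, hwa]
      · rw [_root_.mul_inv_rev, t_inv hS, ← mul_assoc, hS.mul_self, one_mul, inv_eq_of_mul_eq_one_right hw2]
    · rintro ⟨htw, hinv⟩
      rw [_root_.mul_inv_rev, t_inv hS, ← mul_assoc, hS.mul_self, one_mul, mul_left_inj] at hinv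
      have hw2 : w * w = 1 := mul_eq_one_iff_eq_inv.2 hinv
      have hwa : w • a = t • a := by
        have := mem_stabilizer_iff.1 (Subgroup.mem_inf.1 htw).1
        rw [mul_smul] at this
        rw [← t_t hS (w • a), this]
      have hs : s = g⁻¹ * w * g := by rw [hw]; group
      have hsp : s • p.1 = p.2 := by rw [hs, mul_smul, mul_smul, hg1, hwa, inv_smul_eq_iff, hg2]
      refine ⟨⟨fun h => hp.2 (by rw [← hsp, h, one_smul]), ?_⟩, hsp⟩
      rw [hs, show g⁻¹ * w * g * (g⁻¹ * w * g) = g⁻¹ * (w * w) * g by group, hw2, mul_one, inv_mul_cancel]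
  have e1 := Finset.sum_card_bipartiteAbove_eq_sum_card_bipartiteBelow (fun (s : G) (c : Ω) => s • c = c)
    (s := I) (t := Finset.univ)
  have e2 := Finset.sum_card_bipartiteAbove_eq_sum_card_bipartiteBelow (fun (s : G) (p : Ω × Ω) => s • p.1 = p.2)
    (s := I) (t := P)
  simp only [Finset.bipartiteAbove, Finset.bipartiteBelow] at e1 e2
  have hl1 : ∀ s ∈ I, (Finset.univ.filter fun c : Ω => s • c = c).card = 1 := fun s hs => by
    rw [hI, Finset.mem_filter] at hs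
    obtain ⟨c, hc, hcu⟩ := fixed hS hs.2.1 hs.2.2
    exact Finset.card_eq_one.2 ⟨c, Finset.ext fun d => by
      simp only [Finset.mem_filter, Finset.mem_univ, true_and, Finset.mem_singleton]
      exact ⟨hcu d, fun h => h ▸ hc⟩⟩
  have hl2 : ∀ s ∈ I, (P.filter fun p => s • p.1 = p.2).card = Nat.card Q := fun s hs => by
    rw [hI, Finset.mem_filter] at hs
    have h1 : (P.filter fun p => s • p.1 = p.2).card = (Finset.univ.filter fun c : Ω => ¬ s • c = c).card := by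
      refine Finset.card_bij (fun p _ => p.1) (fun p hp => ?_) (fun p hp p' hp' h => ?_) fun c hc => ?_
      · simp only [hP, Finset.mem_filter, Finset.mem_univ, true_and] at hp ⊢
        rw [hp.2]; exact fun h => hp.1 h.symm
      · simp only [Finset.mem_filter] at hp hp'
        exact Prod.ext h (by rw [← hp.2, ← hp'.2, h])
      · simp only [Finset.mem_filter, Finset.mem_univ, true_and] at hc
        exact ⟨(c, s • c), by simp [hP, Ne.symm hc], rfl⟩
    have h2 := Finset.card_filter_add_card_filter_not (s := (Finset.univ : Finset Ω)) fun c => s • c = c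
    rw [hl1 s (by rw [hI, Finset.mem_filter]; exact hs), Finset.card_univ, ← Nat.card_eq_fintype_card,
      card_omega hS] at h2
    omega
  rw [Finset.sum_congr rfl hl1, Finset.sum_congr rfl fun c _ => hn c] at e1
  rw [Finset.sum_congr rfl hl2, Finset.sum_congr rfl hm] at e2
  simp only [Finset.sum_const, smul_eq_mul, mul_one, Finset.card_univ, ← Nat.card_eq_fintype_card,
    card_omega hS] at e1 e2
  have hPc : P.card = (Nat.card Q + 1) * Nat.card Q := by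
    have : P = Finset.univ.offDiag := by ext p; simp [hP, Finset.mem_offDiag]
    rw [this, Finset.offDiag_card, Finset.card_univ, ← Nat.card_eq_fintype_card, card_omega hS, Nat.mul_add,
      mul_one, Nat.add_sub_cancel]
  rw [e1, hPc] at e2
  have hq : 0 < (Nat.card Q + 1) * Nat.card Q := Nat.mul_pos (by omega) Nat.card_pos
  refine Nat.eq_of_mul_eq_mul_left hq ?_
  rw [← e2]; ring

theorem conj_K {s s' : G} (hs : s ∈ Cfsg.involutionsIn (stabilizer G a : Set G))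
    (hs' : s' ∈ Cfsg.involutionsIn (stabilizer G a : Set G)) :
    ∃ k ∈ Cfsg.invertedBy D t, k⁻¹ * s * k = s' := by
  obtain ⟨⟨s0, r⟩, ⟨hs0, hr, e⟩, -⟩ := pair hS
  have hmap : ∀ {u : G}, u ∈ Cfsg.involutionsIn (stabilizer G a : Set G) → ∀ {d : G}, d ∈ stabilizer G a →
      d⁻¹ * u * d ∈ Cfsg.involutionsIn (stabilizer G a : Set G) := fun {u} hu {d} hd =>
    ⟨mul_mem (mul_mem (inv_mem hd) hu.1) hd, fun h => hu.2.1 (by
      have := congrArg (fun z => d * z * d⁻¹) h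
      simpa [mul_assoc] using this), by
      rw [show d⁻¹ * u * d * (d⁻¹ * u * d) = d⁻¹ * (u * u) * d by group, hu.2.2, mul_one, inv_mul_cancel]⟩
  have key : ∀ g ∈ D, ∀ u, u = g * s0 * g⁻¹ →
      ∀ v ∈ Cfsg.involutionsIn (stabilizer G a : Set G), ∃ k ∈ Cfsg.invertedBy D t, k⁻¹ * u * k = v := by
    intro g hg u hu v hv
    have hu' : u ∈ Cfsg.involutionsIn (stabilizer G a : Set G) := by
      rw [hu]; simpa using hmap hs0 (inv_mem hg.1)
    let f : Cfsg.invertedBy D t → Cfsg.involutionsIn (stabilizer G a : Set G) :=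
      fun k => ⟨(k : G)⁻¹ * u * k, hmap hu' k.2.1.1⟩
    have hf : Function.Injective f := fun k k' h => by
      have h' : (k : G)⁻¹ * u * k = (k' : G)⁻¹ * u * k' := congrArg Subtype.val h
      obtain ⟨c, hc⟩ : ∃ c, c = g⁻¹ * ((k' : G) * (k : G)⁻¹) * g := ⟨_, rfl⟩
      have hcD : c ∈ D := hc ▸ mul_mem (mul_mem (inv_mem hg) (mul_mem k'.2.1 (inv_mem k.2.1))) hg
      have hx : (k' : G) * (k : G)⁻¹ * u = u * ((k' : G) * (k : G)⁻¹) :=
        calc (k' : G) * (k : G)⁻¹ * u = (k' : G) * ((k : G)⁻¹ * u * k) * (k : G)⁻¹ := by group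
          _ = u * ((k' : G) * (k : G)⁻¹) := by rw [h']; group
      have hcs : c * s0 = s0 * c := by
        have hs0g : s0 = g⁻¹ * u * g := by rw [hu]; group
        rw [hc, hs0g, show g⁻¹ * ((k' : G) * (k : G)⁻¹) * g * (g⁻¹ * u * g) = g⁻¹ * ((k' : G) * (k : G)⁻¹ * u) * g by group,
          hx]
        group
      have hct : c ∈ D ⊓ Subgroup.centralizer {t} := by
        rw [cent_pair hS hs0 hr e]
        exact Subgroup.mem_inf.2 ⟨hcD, Subgroup.mem_centralizer_singleton_iff.2 hcs⟩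
      exact Subtype.ext (trans_K hS k.2 k'.2 hg hcD
        (Subgroup.mem_centralizer_singleton_iff.1 (Subgroup.mem_inf.1 hct).2) (by rw [hc]; group)).symm
    obtain ⟨k, hk⟩ := ((Nat.bijective_iff_injective_and_card f).2 ⟨hf, card_K hS⟩).2 ⟨v, hv⟩
    exact ⟨k, k.2, congrArg Subtype.val hk⟩
  obtain ⟨k, hk, hks⟩ := key 1 (one_mem _) s0 (by group) s hs
  exact key k⁻¹ (inv_mem hk.1) s (by rw [← hks]; group) s' hs'

/-! ### Fixed points of subsets of `D` -/

/-- the elements of `D` normalise `Q`, so commuting is read off the points -/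
theorem comm_of_fix {x q : G} (hx : x ∈ D) (hq : q ∈ Q) (h : x • q • (t • a) = q • (t • a)) : x * q = q * x := by
  have h2 : (x * q * x⁻¹) • (t • a) = q • (t • a) := by
    rw [mul_smul, mul_smul, mem_stabilizer_iff.1 (inv_mem hx).2, h]
  rw [← mul_inv_eq_iff_eq_mul]
  exact unique_reg hS (hS.conj_mem x hx.1 q hq) hq h2

theorem fix_of_comm {X : Set G} {g : G} (hg : g ∈ Subgroup.centralizer X) {c : Ω}
    (hc : ∀ x ∈ X, x • c = c) : ∀ x ∈ X, x • g • c = g • c := fun x hx => by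
  rw [smul_smul, Subgroup.mem_centralizer_iff.1 hg x hx, mul_smul, hc x hx]

theorem move_a {X : Set G} (hX : X ⊆ (D : Set G)) {c d : Ω} (hc : c ≠ a) (hd : d ≠ a)
    (hcX : ∀ x ∈ X, x • c = c) (hdX : ∀ x ∈ X, x • d = d) :
    ∃ g ∈ Subgroup.centralizer X ⊓ Q, g • c = d := by
  obtain ⟨y, hy, rfl⟩ := exists_reg hS hc
  obtain ⟨z, hz, rfl⟩ := exists_reg hS hd
  refine ⟨z * y⁻¹, Subgroup.mem_inf.2 ⟨mul_mem ?_ (inv_mem ?_), mul_mem hz (inv_mem hy)⟩, by simp [smul_smul]⟩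
  · exact Subgroup.mem_centralizer_iff.2 fun x hx => comm_of_fix hS (hX hx) hz (hdX x hx)
  · exact Subgroup.mem_centralizer_iff.2 fun x hx => comm_of_fix hS (hX hx) hy (hcX x hx)

theorem move_b {X : Set G} (hX : X ⊆ (D : Set G)) {c d : Ω} (hc : c ≠ t • a) (hd : d ≠ t • a)
    (hcX : ∀ x ∈ X, x • c = c) (hdX : ∀ x ∈ X, x • d = d) :
    ∃ g ∈ Subgroup.centralizer X, g • c = d ∧ g • (t • a) = t • a := by
  have hX' : (fun x => t * x * t) '' X ⊆ (D : Set G) := by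
    rintro _ ⟨x, hx, rfl⟩; exact conj_D hS (hX hx)
  have hne : ∀ {e : Ω}, e ≠ t • a → t • e ≠ a := fun {e} he h => he (by rw [← h, t_t hS])
  have hfix : ∀ {e : Ω}, (∀ x ∈ X, x • e = e) → ∀ x' ∈ (fun x => t * x * t) '' X, x' • t • e = t • e := by
    rintro e he _ ⟨x, hx, rfl⟩
    simp only [mul_smul, t_t hS, he x hx]
  obtain ⟨g, hg, hgc⟩ := move_a hS hX' (hne hc) (hne hd) (hfix hcX) (hfix hdX)
  obtain ⟨hgC, hgQ⟩ := Subgroup.mem_inf.1 hg
  refine ⟨t * g * t, Subgroup.mem_centralizer_iff.2 fun x hx => ?_, ?_, ?_⟩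
  · have h := Subgroup.mem_centralizer_iff.1 hgC _ ⟨x, hx, rfl⟩
    calc x * (t * g * t) = t * (t * x * t * g) * t := by
          rw [show t * (t * x * t * g) * t = t * t * x * t * g * t by group, hS.mul_self]; group
      _ = t * (g * (t * x * t)) * t := by rw [h]
      _ = t * g * t * x * (t * t) := by group
      _ = t * g * t * x := by rw [hS.mul_self, mul_one]
  · rw [mul_smul, mul_smul, hgc, t_t hS]
  · rw [mul_smul, mul_smul, t_t hS, Q_fix hS hgQ]

theorem cent_trans {X : Set G} (hX : X ⊆ (D : Set G))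
    (h3 : ∃ e : Ω, e ≠ a ∧ e ≠ t • a ∧ ∀ x ∈ X, x • e = e) {c : Ω} (hc : ∀ x ∈ X, x • c = c) :
    ∃ g ∈ Subgroup.centralizer X, g • c = a := by
  obtain ⟨e, hea, heb, heX⟩ := h3
  have hbX : ∀ x ∈ X, x • (t • a) = t • a := fun x hx => (hX hx).2
  have haX : ∀ x ∈ X, x • a = a := fun x hx => (hX hx).1
  rcases eq_or_ne c (t • a) with rfl | hcb
  · obtain ⟨g, hg, hgc⟩ := move_a hS hX (ne_ab hS) hea hbX heX
    obtain ⟨g', hg', hgc', -⟩ := move_b hS hX heb (ne_ab hS).symm heX haX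
    exact ⟨g' * g, mul_mem hg' (Subgroup.mem_inf.1 hg).1, by rw [mul_smul, hgc, hgc']⟩
  · obtain ⟨g, hg, hgc, -⟩ := move_b hS hX hcb (ne_ab hS).symm hc haX
    exact ⟨g, hg, hgc⟩

theorem cent_two_trans {X : Set G} (hX : X ⊆ (D : Set G))
    (h3 : ∃ e : Ω, e ≠ a ∧ e ≠ t • a ∧ ∀ x ∈ X, x • e = e) {b₁ b₂ c₁ c₂ : Ω}
    (h : ∀ x ∈ X, x • b₁ = b₁ ∧ x • b₂ = b₂ ∧ x • c₁ = c₁ ∧ x • c₂ = c₂) (hb : b₁ ≠ b₂) (hc : c₁ ≠ c₂) :
    ∃ g ∈ Subgroup.centralizer X, g • b₁ = c₁ ∧ g • b₂ = c₂ := by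
  obtain ⟨g₁, hg₁, e₁⟩ := cent_trans hS hX h3 fun x hx => (h x hx).1
  obtain ⟨g₂, hg₂, e₂⟩ := cent_trans hS hX h3 fun x hx => (h x hx).2.2.1
  obtain ⟨q, hq, eq⟩ := move_a hS hX (c := g₁ • b₂) (d := g₂ • c₂)
    (fun e => hb (smul_left_cancel g₁ (e₁.trans e.symm))) (fun e => hc (smul_left_cancel g₂ (e₂.trans e.symm)))
    (fix_of_comm hS hg₁ fun x hx => (h x hx).2.1) (fix_of_comm hS hg₂ fun x hx => (h x hx).2.2.2)
  refine ⟨g₂⁻¹ * q * g₁, mul_mem (mul_mem (inv_mem hg₂) (Subgroup.mem_inf.1 hq).1) hg₁, ?_, ?_⟩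
  · rw [mul_smul, mul_smul, e₁, Q_fix hS (Subgroup.mem_inf.1 hq).2, ← e₂, inv_smul_smul]
  · rw [mul_smul, mul_smul, eq, inv_smul_smul]

theorem third {X : Set G}
    (h3 : ∃ b c d : Ω, b ≠ c ∧ b ≠ d ∧ c ≠ d ∧ ∀ x ∈ X, x • b = b ∧ x • c = c ∧ x • d = d) :
    ∃ e : Ω, e ≠ a ∧ e ≠ t • a ∧ ∀ x ∈ X, x • e = e := by
  obtain ⟨b, c, d, hbc, hbd, hcd, h⟩ := h3
  by_cases h1 : b ≠ a ∧ b ≠ t • a
  · exact ⟨b, h1.1, h1.2, fun x hx => (h x hx).1⟩
  by_cases h2 : c ≠ a ∧ c ≠ t • a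
  · exact ⟨c, h2.1, h2.2, fun x hx => (h x hx).2.1⟩
  refine ⟨d, fun e => ?_, fun e => ?_, fun x hx => (h x hx).2.2⟩ <;>
  · subst e; simp only [ne_eq, not_and_or, not_not] at h1 h2; aesop

/-- an involution of the centraliser interchanging the two points -/
theorem cent_swap {X : Set G} (hX : X ⊆ (D : Set G))
    (h3 : ∃ e : Ω, e ≠ a ∧ e ≠ t • a ∧ ∀ x ∈ X, x • e = e) :
    ∃ u ∈ Subgroup.centralizer X, u * u = 1 ∧ u • a = t • a ∧ u • (t • a) = a := by
  obtain ⟨g, hg, hga, hgb⟩ := cent_two_trans hS hX h3 (b₁ := a) (b₂ := t • a) (c₁ := t • a) (c₂ := a)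
    (fun x hx => ⟨(hX hx).1, (hX hx).2, (hX hx).2, (hX hx).1⟩) (ne_ab hS).symm (ne_ab hS)
  obtain ⟨k, m, hm, hkm⟩ := Nat.exists_eq_pow_mul_and_not_dvd (orderOf_pos g).ne' 2 (by omega)
  obtain ⟨j, rfl⟩ : Odd m := Nat.not_even_iff_odd.1 fun h => hm h.two_dvd
  obtain ⟨u, hu⟩ : ∃ u, u = g ^ (2 * j + 1) := ⟨_, rfl⟩
  have hgg : g * g ∈ D := Subgroup.mem_inf.2 ⟨by rw [mem_stabilizer_iff, mul_smul, hga, hgb],
    by rw [mem_stabilizer_iff, mul_smul, hgb, hga]⟩
  have hj : (g * g) ^ j ∈ D := pow_mem hgg j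
  have hu' : u = g * (g * g) ^ j := by rw [hu, ← pow_two, ← pow_mul, ← pow_succ']
  have hua : u • a = t • a := by rw [hu', mul_smul, mem_stabilizer_iff.1 hj.1, hga]
  have hub : u • (t • a) = a := by rw [hu', mul_smul, mem_stabilizer_iff.1 hj.2, hgb]
  refine ⟨u, hu ▸ pow_mem hg _, ?_, hua, hub⟩
  have huu : u * u ∈ D := Subgroup.mem_inf.2 ⟨by rw [mem_stabilizer_iff, mul_smul, hua, hub],
    by rw [mem_stabilizer_iff, mul_smul, hub, hua]⟩
  have h2k : (u * u) ^ 2 ^ k = 1 := by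
    rw [hu, ← pow_add, ← pow_mul, show (2 * j + 1 + (2 * j + 1)) * 2 ^ k = orderOf g * 2 by rw [hkm]; ring,
      pow_mul, pow_orderOf_eq_one, one_pow]
  have hcard : (u * u) ^ Nat.card D = 1 := congrArg Subtype.val (pow_card_eq_one' (x := (⟨_, huu⟩ : D)))
  have hgcd := pow_gcd_eq_one.2 ⟨h2k, hcard⟩
  rwa [Nat.Coprime.gcd_eq_one (Nat.Coprime.pow_left k (Nat.coprime_two_left.2 hS.odd_card)), pow_one] at hgcd

theorem cent_even {X : Set G} (hX : X ⊆ (D : Set G))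
    (h3 : ∃ e : Ω, e ≠ a ∧ e ≠ t • a ∧ ∀ x ∈ X, x • e = e) :
    Even (Nat.card ↥(Subgroup.centralizer X ⊓ Q)) := by
  obtain ⟨u, hu, hu2, hua, -⟩ := cent_swap hS hX h3
  have hu1 : u ≠ 1 := fun h => ne_ab hS (by rw [← hua, h, one_smul])
  obtain ⟨f, hf, hfu⟩ := fixed hS hu1 hu2
  obtain ⟨g, hg, hgf⟩ := cent_trans hS hX h3 (c := f) fun x hx => hfu _ (by
    rw [smul_smul, ← Subgroup.mem_centralizer_iff.1 hu x hx, mul_smul, hf])
  have hA : g * u * g⁻¹ ∈ stabilizer G a := by rw [mem_stabilizer_iff, mul_smul, mul_smul, ← hgf, inv_smul_smul, hf]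
  have hsq : g * u * g⁻¹ * (g * u * g⁻¹) = 1 := by
    rw [show g * u * g⁻¹ * (g * u * g⁻¹) = g * (u * u) * g⁻¹ by group, hu2, mul_one, mul_inv_cancel]
  have hne : g * u * g⁻¹ ≠ 1 := fun e => hu1 (by
    have := congrArg (fun z => g⁻¹ * z * g) e
    simpa [mul_assoc] using this)
  have ho : orderOf (⟨g * u * g⁻¹, Subgroup.mem_inf.2 ⟨mul_mem (mul_mem hg hu) (inv_mem hg), inv_mem_Q hS hsq hA⟩⟩ :
      ↥(Subgroup.centralizer X ⊓ Q)) = 2 :=
    orderOf_eq_prime (by rw [pow_two]; exact Subtype.ext hsq) fun e => hne (congrArg Subtype.val e)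
  exact even_iff_two_dvd.2 (ho ▸ orderOf_dvd_natCard _)

theorem cent_sup {X : Set G} (hX : X ⊆ (D : Set G)) :
    (Subgroup.centralizer X ⊓ Q) ⊔ (Subgroup.centralizer X ⊓ D) = Subgroup.centralizer X ⊓ stabilizer G a := by
  refine le_antisymm (sup_le (inf_le_inf_left _ hS.le) (inf_le_inf_left _ inf_le_left)) fun g hg => ?_
  obtain ⟨hgC, hgA⟩ := Subgroup.mem_inf.1 hg
  obtain ⟨q, hq, d, hd, rfl⟩ := decomp hS hgA
  have hboth : ∀ x ∈ X, x * q = q * x ∧ x * d = d * x := fun x hx => by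
    have h := Subgroup.mem_centralizer_iff.1 hgC x hx
    have hxD : x ∈ D := hX hx
    obtain ⟨h1, h2⟩ := decomp_unique hS (q := x * q * x⁻¹) (d := x * d) (q' := q) (d' := d * x)
      (hS.conj_mem x hxD.1 q hq) hq (mul_mem hxD hd) (mul_mem hd hxD) (by
        rw [← mul_assoc, inv_mul_cancel_right, mul_assoc, h, mul_assoc])
    exact ⟨mul_inv_eq_iff_eq_mul.1 h1, h2⟩
  exact mul_mem (Subgroup.mem_sup_left (Subgroup.mem_inf.2 ⟨Subgroup.mem_centralizer_iff.2 fun x hx => (hboth x hx).1, hq⟩))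
    (Subgroup.mem_sup_right (Subgroup.mem_inf.2 ⟨Subgroup.mem_centralizer_iff.2 fun x hx => (hboth x hx).2, hd⟩))

theorem conj_into {X : Set G} (hX : X ⊆ (D : Set G))
    (h3 : ∃ e : Ω, e ≠ a ∧ e ≠ t • a ∧ ∀ x ∈ X, x • e = e) :
    ∃ k ∈ D, ∀ x ∈ X, (k * x * k⁻¹) * t = t * (k * x * k⁻¹) := by
  obtain ⟨u, hu, hu2, hua, hub⟩ := cent_swap hS hX h3
  have hui : u⁻¹ = u := inv_eq_of_mul_eq_one_right hu2
  obtain ⟨k, hk⟩ : ∃ k, k = t * u := ⟨_, rfl⟩
  have hkD : k ∈ D := Subgroup.mem_inf.2 ⟨by rw [hk, mem_stabilizer_iff, mul_smul, hua, t_t hS],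
    by rw [hk, mem_stabilizer_iff, mul_smul, hub]⟩
  obtain ⟨m, hm, hmk⟩ := pow_half_sq hS.odd_card hkD
  have hmD : m ∈ D := Subgroup.zpowers_le.2 hkD hm
  obtain ⟨i, hi⟩ := Subgroup.mem_zpowers_iff.1 hm
  have htk : t * k * t⁻¹ = k⁻¹ := by
    rw [hk, t_inv hS, _root_.mul_inv_rev, hui, t_inv hS, ← mul_assoc t t u, hS.mul_self, one_mul]
  have htm : t * m * t⁻¹ = m⁻¹ := by rw [← hi, ← conj_zpow, htk, inv_zpow]
  have hu' : u = m⁻¹ * t * m := by
    have e : u = t * k := by rw [hk, ← mul_assoc, hS.mul_self, one_mul]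
    rw [← htm, inv_mul_cancel_right, mul_assoc, hmk, e]
  refine ⟨m, hmD, fun x hx => ?_⟩
  have h := Subgroup.mem_centralizer_iff.1 hu x hx
  rw [hu'] at h
  calc m * x * m⁻¹ * t = m * (x * (m⁻¹ * t * m)) * m⁻¹ := by group
    _ = m * (m⁻¹ * t * m * x) * m⁻¹ := by rw [h]
    _ = t * (m * x * m⁻¹) := by group

end CfsgLib.Lie.RankOne
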