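import Cfsg.Agent.Lie.RankOne
import Cfsg.Agent.Solv.FrobeniusNilp
import Cfsg.Agent.Solv.Generation
import Cfsg.Agent.Fus.CoreBasic
import Cfsg.Agent.S1124

/-!
Consequences of the rank-one set-up: fixed-point-free action, nilpotency, central involutions, the odd core.
-/

set_option autoImplicit false
set_option linter.unusedSectionVars false
set_option linter.style.haveILetI false

namespace CfsgLib.Lie.RankOne

open MulAction

variable {G Ω : Type*} [Group G] [MulAction G Ω] {a : Ω} {t : G} {Q : Subgroup G}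
variable (hS : Cfsg.IsRankOneSetup G Ω a t Q) [Finite G]
include hS

local notation "D" => ((stabilizer G a ⊓ stabilizer G (t • a)) : Subgroup G)

/-- an involution interchanging the two points is `D`-conjugate to `t` -/
theorem swap_conj {u : G} (hu2 : u * u = 1) (hua : u • a = t • a) (hub : u • (t • a) = a) :
    ∃ m ∈ D, m * u * m⁻¹ = t := by
  have hui : u⁻¹ = u := inv_eq_of_mul_eq_one_right hu2
  obtain ⟨k, hk⟩ : ∃ k, k = t * u := ⟨_, rfl⟩
  have hkD : k ∈ D := Subgroup.mem_inf.2 ⟨by rw [hk, mem_stabilizer_iff, mul_smul, hua, t_t hS],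
    by rw [hk, mem_stabilizer_iff, mul_smul, hub]⟩
  obtain ⟨m, hm, hmk⟩ := pow_half_sq hS.odd_card hkD
  have hmD : m ∈ D := Subgroup.zpowers_le.2 hkD hm
  obtain ⟨i, hi⟩ := Subgroup.mem_zpowers_iff.1 hm
  have htk : t * k * t⁻¹ = k⁻¹ := by
    rw [hk, t_inv hS, _root_.mul_inv_rev, hui, t_inv hS, ← mul_assoc t t u, hS.mul_self, one_mul]
  have htm : t * m * t⁻¹ = m⁻¹ := by rw [← hi, ← conj_zpow, htk, inv_zpow]
  have hu' : u = m⁻¹ * t * m := by
    have e : u = t * k := by rw [hk, ← mul_assoc, hS.mul_self, one_mul]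
    rw [← htm, inv_mul_cancel_right, mul_assoc, hmk, e]
  exact ⟨m, hmD, by rw [hu']; group⟩

/-- an element inverted by `t` fixing a third point is trivial -/
theorem K_fix {x : G} (hx : x ∈ Cfsg.invertedBy D t) {e : Ω} (hea : e ≠ a) (heb : e ≠ t • a) (he : x • e = e) :
    x = 1 := by
  have hX : ({x} : Set G) ⊆ (D : Set G) := Set.singleton_subset_iff.2 hx.1
  obtain ⟨k, hk, hkX⟩ := conj_into hS hX ⟨e, hea, heb, fun y hy => by rw [Set.mem_singleton_iff.1 hy, he]⟩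
  have h1 : (1 : G) ∈ Cfsg.invertedBy D t := ⟨one_mem _, by simp⟩
  exact trans_K hS h1 hx (inv_mem hk) (mul_mem (mul_mem hk hx.1) (inv_mem hk)) (hkX x rfl) (by group)

theorem fpf_K {x : G} (hx : x ∈ Cfsg.invertedBy D t) (hx1 : x ≠ 1) : Q ⊓ Subgroup.centralizer {x} = ⊥ := by
  refine eq_bot_iff.2 fun q hq => Subgroup.mem_bot.2 ?_
  obtain ⟨hqQ, hqx⟩ := Subgroup.mem_inf.1 hq
  by_contra hq1
  refine hx1 (K_fix hS hx (Q_ne_a hS hqQ) (fun h => hq1 (fix_b hS hqQ h)) ?_)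
  rw [smul_smul, ← Subgroup.mem_centralizer_singleton_iff.1 hqx, mul_smul, mem_stabilizer_iff.1 hx.1.2]

theorem exists_two (h2 : ∃ x y : G, x ≠ 1 ∧ y ≠ 1 ∧ x ≠ y ∧ x * x = 1 ∧ y * y = 1 ∧ x * y = y * x) :
    ∃ s ∈ Cfsg.involutionsIn (stabilizer G a : Set G), ∃ s' ∈ Cfsg.involutionsIn (stabilizer G a : Set G), s ≠ s' := by
  obtain ⟨x, y, hx1, hy1, hxy, hx2, hy2, hc⟩ := h2
  obtain ⟨c, hc1, hcu⟩ := fixed hS hx1 hx2
  have hcy : y • c = c := hcu _ (by rw [smul_smul, hc, mul_smul, hc1])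
  obtain ⟨g, hg⟩ := trans hS c a
  have key : ∀ z : G, z ≠ 1 → z * z = 1 → z • c = c →
      g * z * g⁻¹ ∈ Cfsg.involutionsIn (stabilizer G a : Set G) := fun z hz1 hz2 hzc =>
    ⟨by rw [SetLike.mem_coe, mem_stabilizer_iff, mul_smul, mul_smul, ← hg, inv_smul_smul, hzc],
      by simpa [mul_inv_eq_one] using hz1,
      by rw [show g * z * g⁻¹ * (g * z * g⁻¹) = g * (z * z) * g⁻¹ by group, hz2, mul_one, mul_inv_cancel]⟩
  exact ⟨_, key x hx1 hx2 hc1, _, key y hy1 hy2 hcy, fun h => hxy (mul_left_cancel (mul_right_cancel h))⟩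

theorem exists_K (h2 : ∃ x y : G, x ≠ 1 ∧ y ≠ 1 ∧ x ≠ y ∧ x * x = 1 ∧ y * y = 1 ∧ x * y = y * x) :
    ∃ k ∈ Cfsg.invertedBy D t, k ≠ 1 := by
  by_contra hc
  push Not at hc
  obtain ⟨s, hs, s', hs', hne⟩ := exists_two hS h2
  obtain ⟨k, hk, e⟩ := conj_K hS hs hs'
  rw [hc k hk] at e
  exact hne (by simpa using e)

theorem Q_nilpotent (h2 : ∃ x y : G, x ≠ 1 ∧ y ≠ 1 ∧ x ≠ y ∧ x * x = 1 ∧ y * y = 1 ∧ x * y = y * x) :
    Group.IsNilpotent Q := by
  obtain ⟨k, hk, hk1⟩ := exists_K hS h2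
  obtain ⟨p, hp, hpd⟩ := Nat.exists_prime_and_dvd (fun e => hk1 (orderOf_eq_one_iff.1 e))
  haveI := Fact.mk hp
  obtain ⟨h, hh⟩ : ∃ h, h = k ^ (orderOf k / p) := ⟨_, rfl⟩
  have hho : orderOf h = p := hh ▸ orderOf_pow_orderOf_div (orderOf_pos k).ne' hpd
  have hhK : h ∈ Cfsg.invertedBy D t := ⟨hh ▸ pow_mem hk.1 _, by rw [hh, ← conj_pow, hk.2, inv_pow]⟩
  haveI : (Q.subgroupOf (stabilizer G a)).Normal := ⟨fun x hx g => hS.conj_mem g g.2 x hx⟩
  have hfix : Q.subgroupOf (stabilizer G a) ⊓ Subgroup.centralizer {(⟨h, hhK.1.1⟩ : stabilizer G a)} = ⊥ := by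
    refine eq_bot_iff.2 fun x hx => ?_
    obtain ⟨hxQ, hxh⟩ := Subgroup.mem_inf.1 hx
    have h1 : (x : G) ∈ Q ⊓ Subgroup.centralizer {h} := Subgroup.mem_inf.2 ⟨hxQ,
      Subgroup.mem_centralizer_singleton_iff.2 (congrArg Subtype.val (Subgroup.mem_centralizer_singleton_iff.1 hxh))⟩
    rw [fpf_K hS hhK (fun e => hp.ne_one (by rw [← hho, e, orderOf_one])), Subgroup.mem_bot] at h1
    exact Subgroup.mem_bot.2 (Subtype.ext h1)
  haveI := CfsgLib.Solv.isNilpotent_of_fpf_element (p := p) (h := (⟨h, hhK.1.1⟩ : stabilizer G a))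
    (Subtype.ext (by rw [SubmonoidClass.coe_pow, ← hho]; exact pow_orderOf_eq_one h)) hfix
  exact Group.nilpotent_of_mulEquiv (Subgroup.subgroupOfEquivOfLe hS.le)

theorem exists_central (hnil : Group.IsNilpotent Q) :
    ∃ z ∈ Cfsg.involutionsIn (stabilizer G a : Set G), ∀ x ∈ Q, z * x = x * z := by
  obtain ⟨P⟩ : Nonempty (Sylow 2 Q) := inferInstance
  haveI := hnil
  haveI hPn : (P : Subgroup Q).Normal :=
    Sylow.normal_of_normalizerCondition Group.normalizerCondition_of_isNilpotent P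
  obtain ⟨n, hn⟩ := hnil
  have hne : (P : Subgroup Q) ⊓ Subgroup.upperCentralSeries Q n ≠ ⊥ := by
    rw [hn, inf_top_eq]
    exact P.ne_bot_of_dvd_card hS.even_card.two_dvd
  classical
  have hex : ∃ m, (P : Subgroup Q) ⊓ Subgroup.upperCentralSeries Q m ≠ ⊥ := ⟨n, hne⟩
  obtain ⟨m, hm⟩ : ∃ m, Nat.find hex = m + 1 := by
    rcases Nat.eq_zero_or_pos (Nat.find hex) with h | h
    · exact absurd (by rw [h, Subgroup.upperCentralSeries_zero, inf_bot_eq]) (Nat.find_spec hex)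
    · exact ⟨Nat.find hex - 1, by omega⟩
  obtain ⟨⟨x, hxm⟩, hx1⟩ := Subgroup.ne_bot_iff_exists_ne_one.1 (hm ▸ Nat.find_spec hex)
  obtain ⟨hxP, hxZ⟩ := Subgroup.mem_inf.1 hxm
  have hbot : (P : Subgroup Q) ⊓ Subgroup.upperCentralSeries Q m = ⊥ := by
    by_contra h
    exact Nat.find_min hex (show m < Nat.find hex by omega) h
  have hcx : ∀ y : Q, x * y * x⁻¹ * y⁻¹ = 1 := fun y => by
    have h1 : x * y * x⁻¹ * y⁻¹ ∈ (P : Subgroup Q) ⊓ Subgroup.upperCentralSeries Q m := by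
      refine Subgroup.mem_inf.2 ⟨?_, Subgroup.mem_upperCentralSeries_succ_iff.1 hxZ y⟩
      rw [show x * y * x⁻¹ * y⁻¹ = x * (y * x⁻¹ * y⁻¹) by group]
      exact mul_mem hxP (hPn.conj_mem _ (inv_mem hxP) y)
    rwa [hbot, Subgroup.mem_bot] at h1
  obtain ⟨k, hk⟩ := P.isPGroup' ⟨x, hxP⟩
  have hxk : x ^ 2 ^ k = 1 := congrArg Subtype.val hk
  have hxo : 2 ∣ orderOf x := by
    obtain ⟨j, -, hj⟩ := (Nat.dvd_prime_pow Nat.prime_two).1 (orderOf_dvd_of_pow_eq_one hxk)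
    rcases Nat.eq_zero_or_pos j with rfl | hj0
    · exact absurd (Subtype.ext (orderOf_eq_one_iff.1 (by rw [hj, pow_zero]))) hx1
    · rw [hj]; exact dvd_pow_self 2 (by omega)
  obtain ⟨z, hz⟩ : ∃ z, z = x ^ (orderOf x / 2) := ⟨_, rfl⟩
  have hzo : orderOf z = 2 := hz ▸ orderOf_pow_orderOf_div (orderOf_pos x).ne' hxo
  refine ⟨z, ⟨hS.le z.2, fun h => ?_, ?_⟩, fun y hy => ?_⟩
  · rw [show z = 1 from Subtype.ext h, orderOf_one] at hzo
    omega
  · have := pow_orderOf_eq_one z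
    rw [hzo, pow_two] at this
    exact congrArg Subtype.val this
  · have h := hcx ⟨y, hy⟩
    rw [mul_inv_eq_one, mul_inv_eq_iff_eq_mul] at h
    exact congrArg Subtype.val ((show Commute x ⟨y, hy⟩ from h).pow_left (orderOf x / 2) |> fun c => hz ▸ c)

theorem inv_central (h2 : ∃ x y : G, x ≠ 1 ∧ y ≠ 1 ∧ x ≠ y ∧ x * x = 1 ∧ y * y = 1 ∧ x * y = y * x)
    {s : G} (hs : s ∈ Cfsg.involutionsIn (stabilizer G a : Set G)) : s ∈ Q ∧ ∀ x ∈ Q, s * x = x * s := by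
  refine ⟨inv_mem_Q hS hs.2.2 hs.1, fun x hx => ?_⟩
  obtain ⟨z, hz, hzc⟩ := exists_central hS (Q_nilpotent hS h2)
  obtain ⟨k, hk, rfl⟩ := conj_K hS hz hs
  have h := hzc (k * x * k⁻¹) (hS.conj_mem k hk.1.1 x hx)
  calc k⁻¹ * z * k * x = k⁻¹ * (z * (k * x * k⁻¹)) * k := by group
    _ = k⁻¹ * (k * x * k⁻¹ * z) * k := by rw [h]
    _ = x * (k⁻¹ * z * k) := by group

omit hS in
theorem mem_conj_involutions {g z : G} (h1 : z ≠ 1) (h2 : z * z = 1) (hA : g * z * g⁻¹ ∈ stabilizer G a) :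
    g * z * g⁻¹ ∈ Cfsg.involutionsIn (stabilizer G a : Set G) :=
  ⟨hA, by simpa [mul_inv_eq_one] using h1,
    by rw [show g * z * g⁻¹ * (g * z * g⁻¹) = g * (z * z) * g⁻¹ by group, h2, mul_one, mul_inv_cancel]⟩

theorem real_conj (h2 : ∃ x y : G, x ≠ 1 ∧ y ≠ 1 ∧ x ≠ y ∧ x * x = 1 ∧ y * y = 1 ∧ x * y = y * x)
    {u v : G} (hu1 : u ≠ 1) (hu2 : u * u = 1) (hv1 : v ≠ 1) (hv2 : v * v = 1) (hx : (u * v) * (u * v) ≠ 1) :
    ∃ g : G, ∃ u' ∈ Cfsg.involutionsIn (stabilizer G a : Set G), g * (u * v) * g⁻¹ = u' * t := by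
  obtain ⟨c, hc, -⟩ := fixed hS hu1 hu2
  obtain ⟨g, hg⟩ := trans hS c a
  obtain ⟨u₁, hu₁⟩ : ∃ u₁, u₁ = g * u * g⁻¹ := ⟨_, rfl⟩
  obtain ⟨v₁, hv₁⟩ : ∃ v₁, v₁ = g * v * g⁻¹ := ⟨_, rfl⟩
  have hu₁I : u₁ ∈ Cfsg.involutionsIn (stabilizer G a : Set G) := hu₁ ▸ mem_conj_involutions hu1 hu2
    (by rw [mem_stabilizer_iff, mul_smul, mul_smul, ← hg, inv_smul_smul, hc])
  have hv₁2 : v₁ * v₁ = 1 := by
    rw [hv₁, show g * v * g⁻¹ * (g * v * g⁻¹) = g * (v * v) * g⁻¹ by group, hv2, mul_one, mul_inv_cancel]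
  have hv₁A : v₁ • a ≠ a := fun h => by
    have hv₁I : v₁ ∈ Cfsg.involutionsIn (stabilizer G a : Set G) := hv₁ ▸ mem_conj_involutions hv1 hv2
      (hv₁ ▸ mem_stabilizer_iff.2 h)
    have hcom := (inv_central hS h2 hu₁I).2 v₁ (inv_central hS h2 hv₁I).1
    refine hx ?_
    have h1 : u₁ * v₁ * (u₁ * v₁) = 1 := by
      nth_rewrite 2 [hcom]
      rw [mul_assoc u₁ v₁, ← mul_assoc v₁ v₁, hv₁2, one_mul, hu₁I.2.2]
    have h2 : g * (u * v * (u * v)) * g⁻¹ = 1 := by rw [← h1, hu₁, hv₁]; group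
    rwa [mul_inv_eq_one, mul_eq_left] at h2
  obtain ⟨q, hq, hqb⟩ := exists_reg hS hv₁A
  have hqi : q⁻¹ • a = a := Q_fix hS (inv_mem hq)
  obtain ⟨m, hm, hmt⟩ := swap_conj hS (u := q⁻¹ * v₁ * q)
    (by rw [show q⁻¹ * v₁ * q * (q⁻¹ * v₁ * q) = q⁻¹ * (v₁ * v₁) * q by group, hv₁2, mul_one, inv_mul_cancel])
    (by rw [mul_smul, mul_smul, Q_fix hS hq, ← hqb, inv_smul_smul])
    (by rw [mul_smul, mul_smul, hqb, smul_smul v₁, hv₁2, one_smul, hqi])
  have hmqA : m * q⁻¹ ∈ stabilizer G a := mul_mem hm.1 (hS.le (inv_mem hq))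
  refine ⟨m * q⁻¹ * g, (m * q⁻¹) * u₁ * (m * q⁻¹)⁻¹, mem_conj_involutions hu₁I.2.1 hu₁I.2.2
    (mul_mem (mul_mem hmqA hu₁I.1) (inv_mem hmqA)), ?_⟩
  rw [← hmt, hu₁, hv₁]; group

theorem real_odd (h2 : ∃ x y : G, x ≠ 1 ∧ y ≠ 1 ∧ x ≠ y ∧ x * x = 1 ∧ y * y = 1 ∧ x * y = y * x)
    {u v : G} (hu1 : u ≠ 1) (hu2 : u * u = 1) (hv1 : v ≠ 1) (hv2 : v * v = 1) (hx : (u * v) * (u * v) ≠ 1) :
    Odd (Nat.card ↥(Subgroup.centralizer {u * v})) := by
  by_contra hodd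
  obtain ⟨g, s, hs, hgs⟩ := real_conj hS h2 hu1 hu2 hv1 hv2 hx
  obtain ⟨⟨z0, hz0⟩, hzo⟩ := exists_prime_orderOf_dvd_card' (G := ↥(Subgroup.centralizer {u * v})) 2
    (Nat.not_odd_iff_even.1 hodd).two_dvd
  rw [Subgroup.orderOf_mk] at hzo
  obtain ⟨y, hy⟩ : ∃ y, y = s * t := ⟨_, rfl⟩
  rw [← hy] at hgs
  obtain ⟨z, hz⟩ : ∃ z, z = g * z0 * g⁻¹ := ⟨_, rfl⟩
  have hz1 : z ≠ 1 := fun h => by
    rw [hz, mul_inv_eq_one, mul_eq_left] at h
    rw [h, orderOf_one] at hzo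
    omega
  have hz2 : z * z = 1 := by
    have h := pow_orderOf_eq_one z0
    rw [hzo, pow_two] at h
    rw [hz, show g * z0 * g⁻¹ * (g * z0 * g⁻¹) = g * (z0 * z0) * g⁻¹ by group, h, mul_one, mul_inv_cancel]
  have hzy : z * y = y * z := by
    have h := Subgroup.mem_centralizer_singleton_iff.1 hz0
    rw [← hgs, hz, show g * z0 * g⁻¹ * (g * (u * v) * g⁻¹) = g * (z0 * (u * v)) * g⁻¹ by group, h]
    group
  obtain ⟨c, hc, hcu⟩ := fixed hS hz1 hz2
  have hyc : y • c = c := hcu _ (by rw [smul_smul, hzy, mul_smul, hc])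
  have hty : t * y * t⁻¹ = y⁻¹ := by
    rw [hy, t_inv hS, _root_.mul_inv_rev, t_inv hS, inv_eq_of_mul_eq_one_right hs.2.2,
      mul_assoc t (s * t) t, mul_assoc s t t, hS.mul_self, mul_one]
  have hyi : y⁻¹ • c = c := inv_smul_eq_iff.2 hyc.symm
  have hytc : y • t • c = t • c := by
    calc y • t • c = t • (t * y * t⁻¹) • c := by
          rw [smul_smul, smul_smul, t_inv hS, ← mul_assoc, ← mul_assoc, hS.mul_self, one_mul]
      _ = t • c := by rw [hty, hyi]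
  have htc : t • c ≠ c := fun h => by
    have h' : y • c = s • c := by rw [hy, mul_smul, h]
    rw [hyc] at h'
    obtain ⟨c0, -, hc0⟩ := fixed hS hs.2.1 hs.2.2
    exact ne_ab hS (by
      have e1 := hc0 a hs.1
      have e2 := hc0 c h'.symm
      rw [e1, ← e2, h])
  have hztc : z • t • c ≠ t • c := fun h => htc (hcu _ h)
  have hyz : y • z • t • c = z • t • c := by rw [smul_smul, ← hzy, mul_smul, hytc]
  obtain ⟨k, hka, hkb⟩ := two_trans hS htc.symm (ne_ab hS).symm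
  obtain ⟨w, hw⟩ : ∃ w, w = k * y * k⁻¹ := ⟨_, rfl⟩
  have hwD : w ∈ D := Subgroup.mem_inf.2
    ⟨by rw [hw, mem_stabilizer_iff, mul_smul, mul_smul, ← hka, inv_smul_smul, hyc],
      by rw [hw, mem_stabilizer_iff, mul_smul, mul_smul, ← hkb, inv_smul_smul, hytc]⟩
  obtain ⟨m, hm, hmt⟩ := swap_conj hS (u := k * t * k⁻¹)
    (by rw [show k * t * k⁻¹ * (k * t * k⁻¹) = k * (t * t) * k⁻¹ by group, hS.mul_self, mul_one, mul_inv_cancel])
    (by rw [mul_smul, mul_smul, ← hka, inv_smul_smul, hkb, hka])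
    (by rw [mul_smul, mul_smul, ← hkb, inv_smul_smul, t_t hS, hka])
  have hK : m * w * m⁻¹ ∈ Cfsg.invertedBy D t := ⟨mul_mem (mul_mem hm hwD) (inv_mem hm), by
    nth_rewrite 1 2 [← hmt]
    rw [hw, show m * (k * t * k⁻¹) * m⁻¹ * (m * (k * y * k⁻¹) * m⁻¹) * (m * (k * t * k⁻¹) * m⁻¹)⁻¹ =
      m * k * (t * y * t⁻¹) * (m * k)⁻¹ by group, hty]
    group⟩
  have h1 : m * w * m⁻¹ = 1 := by
    refine K_fix hS hK (e := m • k • z • t • c) (fun h => ?_) (fun h => ?_) ?_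
    · have hm1 : m • a = a := mem_stabilizer_iff.1 hm.1
      have h' := smul_left_cancel m (h.trans hm1.symm)
      rw [← hka] at h'
      have h'' := smul_left_cancel k h'
      exact htc (smul_left_cancel z (h''.trans hc.symm))
    · have hm1 : m • (t • a) = t • a := mem_stabilizer_iff.1 hm.2
      have h' := smul_left_cancel m (h.trans hm1.symm)
      rw [← hkb] at h'
      exact hztc (smul_left_cancel k h')
    · rw [hw, smul_smul, smul_smul, show m * (k * y * k⁻¹) * m⁻¹ * m * k = m * k * y by group, mul_smul,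
        hyz, mul_smul]
  have hy1 : y = 1 := by rwa [hw, mul_inv_eq_one, mul_eq_left, mul_inv_eq_one, mul_eq_left] at h1
  rw [hy1, mul_inv_eq_one, mul_eq_left] at hgs
  exact hx (by rw [hgs, one_mul])

theorem core (h2 : ∃ x y : G, x ≠ 1 ∧ y ≠ 1 ∧ x ≠ y ∧ x * x = 1 ∧ y * y = 1 ∧ x * y = y * x) :
    Cfsg.pPrimeCore 2 G = (stabilizer G a).normalCore := by
  haveI : (Cfsg.pPrimeCore 2 G).Normal := CfsgLib.Fus.normal_pPrimeCore 2
  refine le_antisymm ?_ (CfsgLib.Fus.le_pPrimeCore (Subgroup.normalCore_normal _) ?_)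
  · obtain ⟨x, y, hx1, hy1, hxy, hx2, hy2, hc⟩ := h2
    obtain ⟨c, hxc, hcu⟩ := fixed hS hx1 hx2
    have hyc : y • c = c := hcu _ (by rw [smul_smul, hc, mul_smul, hxc])
    have hxi : x⁻¹ = x := inv_eq_of_mul_eq_one_right hx2
    have hyi : y⁻¹ = y := inv_eq_of_mul_eq_one_right hy2
    have e1 : x * (x * y) = y := by rw [← mul_assoc, hx2, one_mul]
    have e2 : y * (x * y) = x := by rw [hc, ← mul_assoc, hy2, one_mul]
    have e3 : x * y * (x * y) = 1 := by rw [mul_assoc, e2, hx2]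
    let A : Subgroup G :=
      { carrier := {g | g = 1 ∨ g = x ∨ g = y ∨ g = x * y}
        one_mem' := Or.inl rfl
        mul_mem' := by
          rintro g g' (rfl | rfl | rfl | rfl) (rfl | rfl | rfl | rfl)
          all_goals simp only [Set.mem_setOf_eq, one_mul, mul_one, hx2, hy2, e1, e2, e3, hc.symm, true_or, or_true]
          all_goals first
            | exact Or.inr (Or.inr (Or.inl (by rw [hc, mul_assoc, hx2, mul_one])))
            | exact Or.inr (Or.inl (by rw [mul_assoc, hy2, mul_one]))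
            | simp
        inv_mem' := by
          rintro g (rfl | rfl | rfl | rfl)
          · simp
          · simp [hxi]
          · simp [hyi]
          · right; right; right; rw [_root_.mul_inv_rev, hxi, hyi, hc] }
    have hmem : ∀ g ∈ A, g * g = 1 ∧ g • c = c := by
      rintro g (rfl | rfl | rfl | rfl)
      · simp
      · exact ⟨hx2, hxc⟩
      · exact ⟨hy2, hyc⟩
      · exact ⟨e3, by rw [mul_smul, hyc, hxc]⟩
    haveI : IsMulCommutative A := ⟨⟨fun g g' => Subtype.ext (by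
      have h := (hmem _ (mul_mem g.2 g'.2)).1
      have h1 := inv_eq_of_mul_eq_one_right h
      rw [_root_.mul_inv_rev, inv_eq_of_mul_eq_one_right (hmem _ g.2).1,
        inv_eq_of_mul_eq_one_right (hmem _ g'.2).1] at h1
      exact h1.symm)⟩⟩
    have hA : ¬ IsCyclic A := fun hcyc => by
      obtain ⟨⟨g, hg⟩, hgen⟩ := hcyc.exists_generator
      have key : ∀ w ∈ A, w ≠ 1 → w = g := fun w hw hw1 => by
        obtain ⟨i, hi⟩ := Subgroup.mem_zpowers_iff.1 (hgen ⟨w, hw⟩)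
        have hi' : g ^ i = w := congrArg Subtype.val hi
        rw [← Int.emod_add_mul_ediv i 2, zpow_add, zpow_mul, show g ^ (2 : ℤ) = 1 by
          rw [zpow_two]; exact (hmem g hg).1, one_zpow, mul_one] at hi'
        rcases Int.emod_two_eq i with h | h <;> rw [h] at hi'
        · exact absurd (by simpa using hi'.symm) hw1
        · simpa using hi'.symm
      exact hxy ((key x (Or.inr (Or.inl rfl)) hx1).trans (key y (Or.inr (Or.inr (Or.inl rfl))) hy1).symm)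
    have hAP : IsPGroup 2 A := fun g => ⟨1, Subtype.ext (by
      rw [SubmonoidClass.coe_pow, pow_one, pow_two]; exact (hmem _ g.2).1)⟩
    obtain ⟨n, hn⟩ := IsPGroup.iff_card.1 hAP
    have hstab : Cfsg.pPrimeCore 2 G ≤ stabilizer G c := by
      refine CfsgLib.Solv.le_of_noncyclic_centralizers (A := A) hA ?_ ?_ fun g hg hg1 w hw => ?_
      · exact le_of_le_of_eq le_top (Subgroup.normalizer_eq_top _).symm
      · rw [hn]; exact Nat.Coprime.pow_left n (CfsgLib.Fus.coprime_card_pPrimeCore 2).symm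
      · obtain ⟨d, hd, hdu⟩ := fixed hS hg1 (hmem g hg).1
        have e : c = d := hdu c (hmem g hg).2
        rw [mem_stabilizer_iff, e]
        exact hdu _ (by rw [smul_smul, ← Subgroup.mem_centralizer_singleton_iff.1 (Subgroup.mem_inf.1 hw).2, mul_smul, hd])
    obtain ⟨g, hg⟩ := trans hS c a
    intro n hn' b
    have h : (g⁻¹ * b) * n * (g⁻¹ * b)⁻¹ ∈ Cfsg.pPrimeCore 2 G :=
      (CfsgLib.Fus.normal_pPrimeCore 2).conj_mem n hn' _
    have h' := mem_stabilizer_iff.1 (hstab h)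
    rw [mem_stabilizer_iff]
    have h'' := congrArg (fun w => g • w) h'
    simp only [mul_smul, _root_.mul_inv_rev, inv_inv, smul_inv_smul, hg] at h'' ⊢
    exact h''
  · have hle : (stabilizer G a).normalCore ≤ D := fun n hn => Subgroup.mem_inf.2
      ⟨Subgroup.normalCore_le _ hn, mem_stabilizer_iff.2 (by
        have h := Subgroup.normalCore_le _ ((Subgroup.normalCore_normal _).conj_mem n hn t)
        rw [mem_stabilizer_iff, mul_smul, mul_smul, t_inv hS] at h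
        rw [← t_t hS (n • (t • a)), h])⟩
    have h1 : Nat.Coprime (Nat.card ↥(D)) 2 := (Nat.coprime_two_left.2 hS.odd_card).symm
    exact h1.coprime_dvd_left (Subgroup.card_dvd_of_le hle)

theorem fusion {X : Set G} (hX : X ⊆ ((D ⊓ Subgroup.centralizer {t} : Subgroup G) : Set G)) (g : G)
    (hY : (fun x => g * x * g⁻¹) '' X ⊆ ((D ⊓ Subgroup.centralizer {t} : Subgroup G) : Set G)) :
    ∃ v ∈ D ⊓ Subgroup.centralizer {t}, (fun x => v * x * v⁻¹) '' X = (fun x => g * x * g⁻¹) '' X := by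
  obtain ⟨f, hf, hfu⟩ := fixed hS hS.ne_one hS.mul_self
  obtain ⟨Y, hYdef⟩ : ∃ Y, Y = (fun x => g * x * g⁻¹) '' X := ⟨_, rfl⟩
  rw [← hYdef] at hY ⊢
  have h3 : ∃ e : Ω, e ≠ a ∧ e ≠ t • a ∧ ∀ y ∈ Y, y • e = e := by
    refine ⟨f, fun h => hS.not_mem (h ▸ hf : t • a = a), fun h => ne_ab hS (by
      have := congrArg (fun w => t • w) h
      simp only [hf, t_t hS] at this
      rw [← h, this]), fun y hy => hfu _ ?_⟩
    rw [smul_smul, ← Subgroup.mem_centralizer_singleton_iff.1 (Subgroup.mem_inf.1 (hY hy)).2, mul_smul, hf]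
  obtain ⟨h, hh, hha, hhb⟩ := cent_two_trans hS (X := Y) (fun y hy => (Subgroup.mem_inf.1 (hY hy)).1) h3
    (b₁ := g • a) (b₂ := g • (t • a)) (c₁ := a) (c₂ := t • a) (fun y hy => by
      have hyD := (Subgroup.mem_inf.1 (hY hy)).1
      obtain ⟨x, hx, rfl⟩ : y ∈ (fun x => g * x * g⁻¹) '' X := hYdef ▸ hy
      have hxD := (Subgroup.mem_inf.1 (hX hx)).1
      refine ⟨?_, ?_, hyD.1, hyD.2⟩ <;> rw [mul_smul, mul_smul, inv_smul_smul]
      · rw [mem_stabilizer_iff.1 hxD.1]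
      · rw [mem_stabilizer_iff.1 hxD.2])
    (fun e => ne_ab hS (smul_left_cancel g e).symm) (ne_ab hS).symm
  obtain ⟨d, hd⟩ : ∃ d, d = h * g := ⟨_, rfl⟩
  have hdD : d ∈ D := Subgroup.mem_inf.2
    ⟨by rw [hd, mem_stabilizer_iff, mul_smul, hha], by rw [hd, mem_stabilizer_iff, mul_smul, hhb]⟩
  obtain ⟨⟨c, k⟩, ⟨hc, hk, hdk⟩, -⟩ := (Cfsg.Agent.S1124.result t
    (orderOf_eq_prime (by rw [pow_two, hS.mul_self]) hS.ne_one) D hS.odd_card
    fun x hx => by rw [t_inv hS]; exact conj_D hS hx).1 d hdD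
  refine ⟨c, hc, ?_⟩
  rw [hYdef]
  refine Set.image_congr fun x hx => ?_
  have hy : g * x * g⁻¹ ∈ Y := hYdef ▸ Set.mem_image_of_mem _ hx
  have hd1 : d * x * d⁻¹ = g * x * g⁻¹ := by
    rw [hd, show h * g * x * (h * g)⁻¹ = h * (g * x * g⁻¹) * h⁻¹ by group,
      ← Subgroup.mem_centralizer_iff.1 hh _ hy, mul_inv_cancel_right]
  have hct : ∀ {w : G}, w ∈ D ⊓ Subgroup.centralizer {t} → t * w * t = w := fun {w} hw => by
    rw [← Subgroup.mem_centralizer_singleton_iff.1 (Subgroup.mem_inf.1 hw).2, mul_assoc, hS.mul_self, mul_one]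
  have hkx : t * (k * x * k⁻¹) * t = k * x * k⁻¹ := by
    have e : k * x * k⁻¹ = c⁻¹ * (g * x * g⁻¹) * c := by rw [← hd1, hdk]; group
    rw [e, hct (mul_mem (mul_mem (inv_mem hc) (hY hy)) hc)]
  have hk' : t * k * t = k⁻¹ := by have := hk.2; rwa [t_inv hS] at this
  have hki : t * k⁻¹ * t = k := by
    calc t * k⁻¹ * t = (t⁻¹ * k * t⁻¹)⁻¹ := by group
      _ = k := by rw [t_inv hS, hk', inv_inv]
  have h2 : k⁻¹ * x * k = k * x * k⁻¹ := by
    calc k⁻¹ * x * k = (t * k * t) * (t * x * t) * (t * k⁻¹ * t) := by rw [hk', hct (hX hx), hki]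
      _ = t * k * (t * t) * x * (t * t) * k⁻¹ * t := by group
      _ = t * (k * x * k⁻¹) * t := by rw [hS.mul_self]; group
      _ = _ := hkx
  have h3 : Commute (k * k) x := by
    calc k * k * x = k * (k * x * k⁻¹) * k := by group
      _ = k * (k⁻¹ * x * k) * k := by rw [h2]
      _ = x * (k * k) := by group
  obtain ⟨i, hi⟩ := eq_half hS.odd_card hk.1
  have h4 := h3.zpow_left i
  rw [show (k * k) ^ i = k from hi] at h4
  show c * x * c⁻¹ = g * x * g⁻¹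
  rw [← hd1, hdk, show c * k * x * (c * k)⁻¹ = c * (k * x * k⁻¹) * c⁻¹ by group, h4.eq, mul_inv_cancel_right]

end CfsgLib.Lie.RankOne
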