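import Cfsg.Agent.Lie.ReeSylow

/-!
Trivial intersection of the unipotent part and three-point stabilisers in the small Ree groups.
-/

set_option autoImplicit false
set_option maxRecDepth 100000
set_option linter.unusedSectionVars false

namespace CfsgLib.Chev.TwG2.Setup

open Cfsg.Lie CfsgLib.Chev Fine Matrix

variable {F : Type*} [Field F] [Fintype F] {m : ℕ} (A : Setup F m)

theorem weyl_cases {w : Equiv.Perm (Fin chevG2.nroots)} (hw : w ∈ A.T.weylFix) : w = 1 ∨ w = A.grp.wJ 0 := by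
  rw [A.grp.weylFix_eq] at hw
  induction hw using Subgroup.closure_induction with
  | mem x hx => obtain ⟨j, rfl⟩ := hx; obtain rfl : j = 0 := Subsingleton.elim _ _; exact Or.inr rfl
  | one => exact Or.inl rfl
  | mul x y _ _ hx hy =>
    rcases hx with rfl | rfl <;> rcases hy with rfl | rfl
    · exact Or.inl (one_mul _)
    · exact Or.inr (one_mul _)
    · exact Or.inr (mul_one _)
    · exact Or.inl (A.grp.wJ_sq 0)
  | inv x _ hx =>
    rcases hx with rfl | rfl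
    · exact Or.inl inv_one
    · exact Or.inr (A.grp.wJ_inv 0)

theorem pos_le_borel : chevG2.posUnipotent F ≤ chevG2.borelSubgroup F := le_sup_left

theorem cases_elem {g : GL chevG2.Idx F} (hg : g ∈ A.grp.G1) :
    g ∈ chevG2.borelSubgroup F ∨ ∃ v ∈ chevG2.posUnipotent F ⊓ A.grp.G1,
      ∃ k ∈ A.grp.G1 ⊓ chevG2.monomialSubgroup F, Moves A.T.hC.fine k (A.grp.wJ 0) ∧
        ∃ u ∈ chevG2.posUnipotent F ⊓ A.grp.G1, g = v * k * u := by
  obtain ⟨w, hw, v, hv, k, hk, hmov, u, hu, e⟩ := A.T.fix_decomp (A.grp.le_fix hg)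
  have hu' := A.T.X_le_pos _ hu
  rcases A.weyl_cases hw with rfl | rfl
  · left
    rw [e]
    exact mul_mem (mul_mem (pos_le_borel hv.2)
      (Subgroup.mem_sup_right (A.T.hC.fine.mem_diagonal_of_moves_one hk.2 hmov))) (pos_le_borel hu'.2)
  · right
    have hvG := A.grp.fix_pos_le hv
    have huG := A.grp.fix_pos_le hu'
    refine ⟨v, ⟨hv.2, hvG⟩, k, ⟨?_, hk.2⟩, hmov, u, ⟨hu'.2, huG⟩, e⟩
    show k ∈ A.grp.G1
    rw [show k = v⁻¹ * g * u⁻¹ by rw [e]; group]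
    exact mul_mem (mul_mem (inv_mem hvG) hg) (inv_mem huG)

theorem conj_neg {k y : GL chevG2.Idx F} (hk : Moves A.T.hC.fine k (A.grp.wJ 0))
    (hy : y ∈ chevG2.posUnipotent F ⊓ A.grp.G1) : k * y * k⁻¹ ∈ chevG2.negUnipotent F := by
  obtain ⟨t, u, v, rfl⟩ := A.exists_ree hy
  refine A.grp.negSub_le_neg 0 (A.grp.conj_pos_neg 0 hk ?_)
  obtain ⟨s0, -⟩ := subPos_orb
  erw [s0]
  exact (A.ree_genU t u v).1

theorem eq_one_of_conj_borel {k y : GL chevG2.Idx F} (hk : Moves A.T.hC.fine k (A.grp.wJ 0))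
    (hy : y ∈ chevG2.posUnipotent F ⊓ A.grp.G1) (hb : k * y * k⁻¹ ∈ chevG2.borelSubgroup F) : y = 1 := by
  have h : k * y * k⁻¹ ∈ chevG2.borelSubgroup F ⊓ chevG2.negUnipotent F := ⟨hb, A.conj_neg hk hy⟩
  rw [A.T.hC.fine.borel_inf_neg, Subgroup.mem_bot] at h
  exact conj_eq_one_iff.1 h

theorem ti {g x : GL chevG2.Idx F} (hg : g ∈ A.grp.G1) (hgB : g ∉ chevG2.borelSubgroup F)
    (hx : x ∈ chevG2.posUnipotent F ⊓ A.grp.G1) (hgx : g * x * g⁻¹ ∈ chevG2.posUnipotent F ⊓ A.grp.G1) : x = 1 := by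
  obtain ⟨v, hv, k, hk, hmov, u, hu, rfl⟩ := (A.cases_elem hg).resolve_left hgB
  have hy : u * x * u⁻¹ ∈ chevG2.posUnipotent F ⊓ A.grp.G1 := mul_mem (mul_mem hu hx) (inv_mem hu)
  refine conj_eq_one_iff.1 (A.eq_one_of_conj_borel hmov hy (pos_le_borel ?_))
  rw [show k * (u * x * u⁻¹) * k⁻¹ = v⁻¹ * (v * k * u * x * (v * k * u)⁻¹) * v by group]
  exact Subgroup.mul_mem _ (Subgroup.mul_mem _ (Subgroup.inv_mem _ hv.1) hgx.1) hv.1

theorem borel_normalizes {b x : GL chevG2.Idx F} (hb : b ∈ chevG2.borelSubgroup F) (hbG : b ∈ A.grp.G1)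
    (hx : x ∈ chevG2.posUnipotent F ⊓ A.grp.G1) : b * x * b⁻¹ ∈ chevG2.posUnipotent F ⊓ A.grp.G1 := by
  refine ⟨?_, Subgroup.mul_mem _ (Subgroup.mul_mem _ hbG hx.2) (Subgroup.inv_mem _ hbG)⟩
  obtain ⟨v, hv, h, hh, rfl⟩ := A.grp.borel_split hb hbG
  rw [show v * h * x * (v * h)⁻¹ = v * (h * x * h⁻¹) * v⁻¹ by group]
  exact Subgroup.mul_mem _ (Subgroup.mul_mem _ hv.2
    ((Subgroup.mem_normalizer_iff.1 (A.T.hC.fine.diagonal_le_normalizer_pos hh.2) x).1 hx.1)) (Subgroup.inv_mem _ hv.2)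

theorem ree_torus_fix (a : Fˣ) (ha : a ^ 2 = 1) :
    tFin G2.data chevG2 F (par m a) * A.ree false 0 1 0 * (tFin G2.data chevG2 F (par m a))⁻¹ =
      A.ree false 0 1 0 := by
  have ha' : a = 1 ∨ a = -1 := by
    rcases sq_eq_one_iff.1 (show (a : F) ^ 2 = 1 by rw [← Units.val_pow_eq_pow_val, ha, Units.val_one]) with h | h
    · exact Or.inl (Units.ext h)
    · exact Or.inr (Units.ext h)
  set h := tFin G2.data chevG2 F (par m a) with hh
  have e : ∀ B C P Q R S : GL chevG2.Idx F, h * (B * (C * (P * (Q * (R * S))))) * h⁻¹ =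
      (h * B * h⁻¹) * ((h * C * h⁻¹) * ((h * P * h⁻¹) * ((h * Q * h⁻¹) * ((h * R * h⁻¹) * (h * S * h⁻¹))))) :=
    fun B C P Q R S => by group
  have hA : ([8, 10].map fun r => [G2.data.tab.A i0.val r, G2.data.tab.A i1.val r]) = [[-1, 1], [3, -1]] := by
    decide +kernel
  simp only [List.map_cons, List.map_nil, List.cons.injEq, and_true] at hA
  obtain ⟨⟨a8, b8⟩, a10, b10⟩ := hA
  obtain ⟨v0, v1⟩ := par_vals m a
  have hk : Odd (3 * 3 ^ m) := (by decide : Odd 3).mul ((by decide : Odd 3).pow)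
  have p1 : ∀ (c : ℤ) (d : ℤ), Even (c + d) → a ^ c * (a ^ (3 * 3 ^ m)) ^ d = 1 := by
    intro c d hcd
    rcases ha' with rfl | rfl
    · simp
    · rw [hk.neg_one_pow, ← _root_.zpow_add]; exact Even.neg_one_zpow hcd
  simp only [ree, nf, tail, z, Bool.false_eq_true, if_false, map_zero, map_one, zero_pow (by norm_num : (3 : ℕ) ≠ 0),
    zero_mul, zero_add, add_zero, xU_zero, one_mul, mul_one]
  rw [show h * (xU hK 8 1 * xU hK 10 1) * h⁻¹ = (h * xU hK 8 1 * h⁻¹) * (h * xU hK 10 1 * h⁻¹) by group, hh,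
    tFin_conj_xU hK _ (lt12 (by norm_num)), tFin_conj_xU hK _ (lt12 (by norm_num))]
  rw [prod2, v0, v1, a8, b8, prod2, v0, v1, a10, b10, p1 _ _ (by decide), p1 _ _ (by decide)]
  simp

/-- three-point stabilisers sit in the image of the square roots of one -/
theorem three_fix {b v : GL chevG2.Idx F} (hb : b ∈ chevG2.borelSubgroup F) (hbG : b ∈ A.grp.G1)
    (hν : (A.grp.nu 0)⁻¹ * b * A.grp.nu 0 ∈ chevG2.borelSubgroup F)
    (hv : v ∈ chevG2.posUnipotent F ⊓ A.grp.G1)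
    (hvb : (v * A.grp.nu 0)⁻¹ * b * (v * A.grp.nu 0) ∈ chevG2.borelSubgroup F) :
    ∃ a : Fˣ, b = diagHom (F := F) (m := m) a ∧ b * v * b⁻¹ = v := by
  set ν := A.grp.nu 0 with hνdef
  have hmov : Moves A.T.hC.fine ν⁻¹ (A.grp.wJ 0) := by
    have := A.T.hC.fine.moves_inv (A.grp.nu_moves 0)
    rwa [A.grp.wJ_inv] at this
  have hdiag : ∀ d ∈ chevG2.diagonalSubgroup F, ν⁻¹ * d * ν ∈ chevG2.borelSubgroup F := fun d hd => by
    have := (Subgroup.mem_normalizer_iff.1 (A.T.hC.fine.monomial_le_normalizer_diagonal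
      (inv_mem (A.grp.nu_mon 0))) d).1 hd
    rw [inv_inv] at this
    exact Subgroup.mem_sup_right this
  obtain ⟨u, hu, h, hh, rfl⟩ := A.grp.borel_split hb hbG
  have huU : u ∈ chevG2.posUnipotent F ⊓ A.grp.G1 := ⟨hu.2, A.grp.fix_pos_le hu⟩
  obtain rfl : u = 1 := A.eq_one_of_conj_borel hmov huU (by
    rw [inv_inv, show ν⁻¹ * u * ν = (ν⁻¹ * (u * h) * ν) * (ν⁻¹ * h * ν)⁻¹ by group]
    exact Subgroup.mul_mem _ hν (Subgroup.inv_mem _ (hdiag h hh.2)))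
  rw [one_mul] at hvb ⊢
  obtain ⟨a, rfl⟩ : ∃ a, diagHom (F := F) (m := m) a = h := by
    have : h ∈ (diagHom (F := F) (m := m)).range := A.diagHom_range ▸ (⟨hh.2, hh.1⟩ : h ∈ chevG2.diagonalSubgroup F ⊓ A.grp.G1)
    exact this
  refine ⟨a, rfl, ?_⟩
  set h := diagHom (F := F) (m := m) a
  have hy : v⁻¹ * (h * v * h⁻¹) ∈ chevG2.posUnipotent F ⊓ A.grp.G1 :=
    mul_mem (inv_mem hv) (A.borel_normalizes (Subgroup.mem_sup_right hh.2) hh.1 hv)
  have := A.eq_one_of_conj_borel hmov hy (by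
    rw [inv_inv, show ν⁻¹ * (v⁻¹ * (h * v * h⁻¹)) * ν = ((v * ν)⁻¹ * h * (v * ν)) * (ν⁻¹ * h * ν)⁻¹ by group]
    exact Subgroup.mul_mem _ hvb (Subgroup.inv_mem _ (hdiag h hh.2)))
  exact (inv_mul_eq_one.1 this).symm

end CfsgLib.Chev.TwG2.Setup
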