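import Cfsg.Agent.Lie.ReeBruhat

/-!
The small Ree groups are two-generated.
-/

set_option autoImplicit false
set_option maxRecDepth 100000
set_option linter.unusedSectionVars false

namespace CfsgLib.Chev.TwG2.Setup

open Cfsg.Lie CfsgLib.Chev Fine Matrix

variable {F : Type*} [Field F] [Fintype F] {m : ℕ} (A : Setup F m)

/-- the three torus characters -/
def chT (m : ℕ) (a : Fˣ) : Fˣ := a ^ (-3 : ℤ) * (a ^ (3 * 3 ^ m)) ^ (2 : ℤ)
/-- the three torus characters -/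
def chU (m : ℕ) (a : Fˣ) : Fˣ := a ^ (-1 : ℤ) * (a ^ (3 * 3 ^ m)) ^ (1 : ℤ)

include A in
theorem chT_inj : Function.Injective (chT (F := F) m) := by
  have h0 : ∀ a : Fˣ, chT m a = 1 → a = 1 := by
    intro a h'
    rw [chT, _root_.zpow_neg, zpow_ofNat, zpow_ofNat, inv_mul_eq_one] at h'
    have h2 : a ^ 2 = a ^ (3 * 3 ^ m) := by
      have := congrArg (fun y : Fˣ => y ^ 3 ^ m) h'
      rw [← pow_mul (a ^ (3 * 3 ^ m)), mul_comm 2, pow_mul (a ^ (3 * 3 ^ m)), A.units_theta, ← pow_mul] at this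
      exact this.symm
    rw [← h2, ← pow_mul] at h'
    refine mul_left_cancel (a := a ^ 3) ?_
    rw [mul_one, ← pow_succ]
    exact h'.symm
  intro a b h
  refine mul_inv_eq_one.1 (h0 _ ?_)
  have hm : ∀ x y : Fˣ, chT m (x * y) = chT m x * chT m y := fun x y => by
    simp only [chT, mul_pow, mul_zpow]
    ac_rfl
  refine mul_right_cancel (b := chT m b) ?_
  rw [one_mul, ← hm, inv_mul_cancel_right, h]

include A in
theorem sq_chU (c : Fˣ) : ∃ a : Fˣ, chU m a = c ^ 2 := by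
  refine ⟨c ^ (3 * 3 ^ m) * c, ?_⟩
  have h := A.units_theta c
  rw [chU, _root_.zpow_neg, zpow_one, zpow_one, mul_pow]
  have e : (c ^ (3 * 3 ^ m)) ^ (3 * 3 ^ m) = c ^ 3 := by
    rw [show (c ^ (3 * 3 ^ m)) ^ (3 * 3 ^ m) = ((c ^ (3 * 3 ^ m)) ^ 3 ^ m) ^ 3 by rw [← pow_mul _ (3 ^ m) 3, mul_comm 3], h]
  rw [e, inv_mul_eq_iff_eq_mul, show c ^ 3 = c ^ 2 * c from pow_succ c 2]
  apply Units.ext
  push_cast
  ring

theorem conj_ree (a : Fˣ) (t u v : F) : ∃ t' u' v' : F,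
    diagHom (F := F) (m := m) a * A.ree false t u v * (diagHom (F := F) (m := m) a)⁻¹ = A.ree false t' u' v' ∧
      t' = (chT m a : F) * t ∧ A.ψ u' = (chU m a : F) * A.ψ u ∧ A.ψ v' = (a : F) * A.ψ v := by
  have hd : diagHom (F := F) (m := m) a ∈ chevG2.diagonalSubgroup F ⊓ A.grp.G1 := A.diagHom_range ▸ ⟨a, rfl⟩
  obtain ⟨t', u', v', e'⟩ := A.exists_ree
    (A.borel_normalizes (Subgroup.mem_sup_right hd.1) hd.2 (A.ree_pos t u v))
  refine ⟨t', u', v', e', ?_⟩
  set h := diagHom (F := F) (m := m) a with hh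
  have e : ∀ B C P Q R S : GL chevG2.Idx F, h * (B * (C * (P * (Q * (R * S))))) * h⁻¹ =
      (h * B * h⁻¹) * ((h * C * h⁻¹) * ((h * P * h⁻¹) * ((h * Q * h⁻¹) * ((h * R * h⁻¹) * (h * S * h⁻¹))))) :=
    fun B C P Q R S => by group
  have hfix := e'
  simp only [ree, nf, tail, z, Bool.false_eq_true, if_false] at hfix
  rw [e, hh, show diagHom (F := F) (m := m) a = tFin G2.data chevG2 F (par m a) from rfl,
    tFin_conj_xU hK _ (lt12 (by norm_num)), tFin_conj_xU hK _ (lt12 (by norm_num)),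
    tFin_conj_xU hK _ (lt12 (by norm_num)), tFin_conj_xU hK _ (lt12 (by norm_num)),
    tFin_conj_xU hK _ (lt12 (by norm_num)), tFin_conj_xU hK _ (lt12 (by norm_num))] at hfix
  obtain ⟨h6, -, h8, h9, -, -⟩ := nf_inj (hfix : _ = nf false t' (A.ψ t') (A.ψ u') (A.ψ v') _ _)
  have hchi := chi_vals
  simp only [List.map_cons, List.map_nil, List.cons.injEq, and_true] at hchi
  obtain ⟨⟨a6, b6⟩, -, ⟨a8, b8⟩, a9, b9⟩ := hchi
  obtain ⟨v0, v1⟩ := par_vals m a
  rw [prod2, v0, v1, a6, b6] at h6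
  rw [prod2, v0, v1, a8, b8] at h8
  rw [prod2, v0, v1, a9, b9] at h9
  refine ⟨h6.symm, h8.symm, ?_⟩
  rw [← h9, zpow_one, zpow_zero, mul_one]

include A in
theorem exists_theta_ne (hm : 1 ≤ m) : ∃ t : F, A.ψ t ≠ t := by
  classical
  by_contra h
  push Not at h
  have hall : ∀ t : F, t ^ 3 = t := fun t => by
    have := A.theta t
    rwa [h, h] at this
  have hc := Polynomial.eq_zero_of_natDegree_lt_card_of_eval_eq_zero (Polynomial.X ^ 3 - Polynomial.X : Polynomial F)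
    (f := id) Function.injective_id (fun y => by simp [hall y]) (by
      rw [A.card]
      have : 3 ^ 3 ≤ 3 ^ (2 * m + 1) := Nat.pow_le_pow_right (by norm_num) (by omega)
      have : (Polynomial.X ^ 3 - Polynomial.X : Polynomial F).natDegree ≤ 3 := by
        refine (Polynomial.natDegree_sub_le _ _).trans ?_
        simp [Polynomial.natDegree_X_le]
      omega)
  have := congrArg (Polynomial.coeff · 3) hc
  simp [Polynomial.coeff_X_pow, Polynomial.coeff_X] at this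

/-- a subgroup with the torus and one element with non-zero first coordinate contains the unipotent part -/
theorem pos_le_of (hm : 1 ≤ m) (M : Subgroup (GL chevG2.Idx F))
    (hH : ∀ a : Fˣ, diagHom (F := F) (m := m) a ∈ M) {t0 u0 v0 : F} (ht0 : t0 ≠ 0)
    (h0 : A.ree false t0 u0 v0 ∈ M) : chevG2.posUnipotent F ⊓ A.grp.G1 ≤ M := by
  classical
  have hψ : ∀ {x : F}, A.ψ x = 0 → x = 0 := fun h => (map_eq_zero A.ψ).1 h
  have hone : ∀ {t u v : F}, A.ψ u = 0 → A.ψ v = 0 → t = 0 → A.ree false t u v ∈ M := by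
    intro t u v hu hv ht
    rw [ht, hψ hu, hψ hv, show A.ree false 0 0 0 = (1 : GL chevG2.Idx F) by simp [ree, nf, tail, z_zero]]
    exact one_mem _
  have hprod : ∀ {t u v t' u' v' t'' u'' v'' : F},
      A.ree false t u v * A.ree false t' u' v' = A.ree false t'' u'' v'' →
      t'' = t + t' ∧ A.ψ u'' = A.ψ u + A.ψ u' - A.ψ t * t' ∧
        A.ψ v'' = A.ψ v + A.ψ v' - A.ψ t ^ 2 * t' - A.ψ t' * (A.ψ u - A.ψ t * t') := by
    intro t u v t' u' v' t'' u'' v'' h
    rw [ree, ree, A.nf_mul, ree] at h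
    obtain ⟨h1, -, h3, h4, -, -⟩ := nf_inj h
    exact ⟨h1.symm, h3.symm, h4.symm⟩
  have hconj : ∀ (a : Fˣ) {t u v : F}, A.ree false t u v ∈ M → ∃ t' u' v', A.ree false t' u' v' ∈ M ∧
      t' = (chT m a : F) * t ∧ A.ψ u' = (chU m a : F) * A.ψ u ∧ A.ψ v' = (a : F) * A.ψ v := by
    intro a t u v h
    obtain ⟨t', u', v', e, h1, h2, h3⟩ := A.conj_ree a t u v
    exact ⟨t', u', v', e ▸ mul_mem (mul_mem (hH a) h) (inv_mem (hH a)), h1, h2, h3⟩
  -- first coordinates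
  have hT : ∀ t : F, ∃ u v, A.ree false t u v ∈ M := by
    intro t
    by_cases ht : t = 0
    · exact ⟨0, 0, hone (map_zero _) (map_zero _) ht⟩
    obtain ⟨a, ha⟩ := (Finite.injective_iff_surjective.1 (A.chT_inj)) (Units.mk0 (t / t0) (div_ne_zero ht ht0))
    obtain ⟨t', u', v', hM, h1, -, -⟩ := hconj a h0
    rw [ha, Units.val_mk0, div_mul_cancel₀ _ ht0] at h1
    exact ⟨u', v', h1 ▸ hM⟩
  -- second coordinates
  let Su : AddSubgroup F :=
    { carrier := {c | ∃ u v, A.ψ u = c ∧ A.ree false 0 u v ∈ M}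
      zero_mem' := ⟨0, 0, map_zero _, hone (map_zero _) (map_zero _) rfl⟩
      add_mem' := by
        rintro _ _ ⟨u, v, rfl, h⟩ ⟨u', v', rfl, h'⟩
        obtain ⟨t'', u'', v'', e⟩ := A.exists_ree (mul_mem (A.ree_pos 0 u v) (A.ree_pos 0 u' v'))
        obtain ⟨h1, h2, -⟩ := hprod e
        rw [add_zero] at h1
        subst h1
        exact ⟨u'', v'', by rw [h2]; simp, e ▸ mul_mem h h'⟩
      neg_mem' := by
        rintro _ ⟨u, v, rfl, h⟩
        obtain ⟨t'', u'', v'', e⟩ := A.exists_ree (inv_mem (A.ree_pos 0 u v))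
        obtain ⟨h1, h2, -⟩ := hprod (t'' := 0) (u'' := 0) (v'' := 0)
          (show A.ree false 0 u v * A.ree false t'' u'' v'' = A.ree false 0 0 0 by
            rw [← e, mul_inv_cancel]; simp [ree, nf, tail, z_zero])
        rw [zero_add] at h1
        subst h1
        refine ⟨u'', v'', ?_, e ▸ inv_mem h⟩
        simp only [map_zero, zero_mul, sub_zero] at h2
        linear_combination -h2 }
  have hSu : Su = ⊤ := by
    obtain ⟨s, hs⟩ := A.exists_theta_ne hm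
    obtain ⟨u1, v1, h1⟩ := hT 1
    obtain ⟨u2, v2, h2⟩ := hT s
    obtain ⟨t12, u12, v12, e12⟩ := A.exists_ree (mul_mem (A.ree_pos 1 u1 v1) (A.ree_pos s u2 v2))
    obtain ⟨t21, u21, v21, e21⟩ := A.exists_ree (mul_mem (A.ree_pos s u2 v2) (A.ree_pos 1 u1 v1))
    obtain ⟨tz, uz, vz, ez⟩ := A.exists_ree (mul_mem (inv_mem (A.ree_pos t21 u21 v21)) (A.ree_pos t12 u12 v12))
    obtain ⟨p1, q1, -⟩ := hprod e12
    obtain ⟨p2, q2, -⟩ := hprod e21
    obtain ⟨p3, q3, -⟩ := hprod (show A.ree false t21 u21 v21 * A.ree false tz uz vz = A.ree false t12 u12 v12 by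
      rw [← ez, mul_inv_cancel_left])
    have htz : tz = 0 := by linear_combination -p3 + p1 - p2
    have huz : A.ψ uz = A.ψ s - s := by
      rw [q1, q2, htz, map_one] at q3
      linear_combination -q3
    have hmem : A.ψ s - s ∈ Su := ⟨uz, vz, huz, by
      rw [← htz, ← ez, ← e12, ← e21]
      exact mul_mem (inv_mem (mul_mem h2 h1)) (mul_mem h1 h2)⟩
    have hne : A.ψ s - s ≠ 0 := sub_ne_zero.2 hs
    have hsq : ∀ c : F, ∀ x ∈ Su, c ^ 2 * x ∈ Su := by
      rintro c _ ⟨u, v, rfl, h⟩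
      by_cases hc : c = 0
      · rw [hc]; simpa using Su.zero_mem
      obtain ⟨a, ha⟩ := A.sq_chU (Units.mk0 c hc)
      obtain ⟨t', u', v', hM, e1, e2, -⟩ := hconj a h
      rw [mul_zero] at e1
      subst e1
      exact ⟨u', v', by rw [e2, ha]; simp, hM⟩
    refine eq_top_iff.2 fun x _ => ?_
    have h2' : (2 : F) ≠ 0 := fun h => one_ne_zero (by linear_combination A.three_zero - h : (1 : F) = 0)
    have e : x = ((x / (A.ψ s - s) + 1) / 2) ^ 2 * (A.ψ s - s) - ((x / (A.ψ s - s) - 1) / 2) ^ 2 * (A.ψ s - s) := by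
      field_simp
      ring
    rw [e]
    exact Su.sub_mem (hsq _ _ hmem) (hsq _ _ hmem)
  -- third coordinates
  have hV : ∀ v, A.ree false 0 0 v ∈ M := by
    obtain ⟨t3, u3, v3, e3⟩ := A.exists_ree (pow_mem (A.ree_pos t0 u0 v0) 3)
    have e3' := e3
    rw [pow_succ, pow_two, ree, A.nf_mul, A.nf_mul, ree] at e3'
    obtain ⟨p1, -, p3, p4, -, -⟩ := nf_inj e3'
    have h3 := A.three_zero
    have ht : t3 = 0 := by linear_combination -p1 + t0 * h3
    have hu : A.ψ u3 = 0 := by linear_combination -p3 + (A.ψ u0 - A.ψ t0 * t0) * h3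
    have hv : A.ψ v3 = -(A.ψ t0 ^ 2 * t0) := by linear_combination -p4 + (A.ψ v0 - A.ψ t0 * A.ψ u0) * h3
    have hv0 : A.ψ v3 ≠ 0 := by
      rw [hv, neg_ne_zero]
      exact mul_ne_zero (pow_ne_zero _ fun h => ht0 (hψ h)) ht0
    intro v
    by_cases h : A.ψ v = 0
    · exact hone (map_zero _) h rfl
    obtain ⟨t', u', v', hM, e1, e2, e4⟩ := hconj (Units.mk0 _ (div_ne_zero h hv0)) (e3 ▸ pow_mem h0 3)
    rw [ht, mul_zero] at e1
    rw [hu, mul_zero] at e2
    rw [Units.val_mk0, div_mul_cancel₀ _ hv0] at e4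
    have e2' := hψ e2
    have e4' := A.ψ.injective e4
    subst e1
    rw [e2', e4'] at hM
    exact hM
  intro g hg
  obtain ⟨t, u, v, rfl⟩ := A.exists_ree hg
  obtain ⟨u1, v1, h1⟩ := hT t
  obtain ⟨t2, u2, v2, e2⟩ := A.exists_ree (mul_mem (inv_mem (A.ree_pos t u1 v1)) (A.ree_pos t u v))
  obtain ⟨p, -, -⟩ := hprod (show A.ree false t u1 v1 * A.ree false t2 u2 v2 = A.ree false t u v by
    rw [← e2, mul_inv_cancel_left])
  obtain rfl : t2 = 0 := by linear_combination -p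
  obtain ⟨u3, v3, hu3, h3⟩ : A.ψ u2 ∈ Su := hSu ▸ AddSubgroup.mem_top _
  obtain ⟨t4, u4, v4, e4⟩ := A.exists_ree (mul_mem (inv_mem (A.ree_pos 0 u3 v3)) (A.ree_pos 0 u2 v2))
  obtain ⟨p, q, -⟩ := hprod (show A.ree false 0 u3 v3 * A.ree false t4 u4 v4 = A.ree false 0 u2 v2 by
    rw [← e4, mul_inv_cancel_left])
  obtain rfl : t4 = 0 := by linear_combination -p
  obtain rfl : u4 = 0 := hψ (by simp only [map_zero, zero_mul, sub_zero, hu3] at q; linear_combination -q)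
  rw [show A.ree false t u v = A.ree false t u1 v1 * (A.ree false 0 u3 v3 * A.ree false 0 0 v4) by
    rw [← e4, mul_inv_cancel_left, ← e2, mul_inv_cancel_left]]
  exact mul_mem h1 (mul_mem h3 (hV v4))

include A in
theorem two_gen (hm : 1 ≤ m) : ∃ a b : ↥A.grp.G1, Subgroup.closure ({a, b} : Set ↥A.grp.G1) = ⊤ := by
  classical
  obtain ⟨g, hg⟩ := IsCyclic.exists_generator (α := Fˣ)
  have hdg : ∀ a : Fˣ, diagHom (F := F) (m := m) a ∈ chevG2.diagonalSubgroup F ⊓ A.grp.G1 :=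
    fun a => A.diagHom_range ▸ ⟨a, rfl⟩
  set ν := A.grp.nu 0 with hνdef
  let h : ↥A.grp.G1 := ⟨diagHom (F := F) (m := m) g, (hdg g).2⟩
  let v : ↥A.grp.G1 := ⟨A.ree false 1 0 0, (A.ree_pos _ _ _).2⟩
  let b : ↥A.grp.G1 := v * ⟨ν, A.grp.nu_mem 0⟩
  refine ⟨h, b, ?_⟩
  set M0 := Subgroup.closure ({h, b} : Set ↥A.grp.G1)
  set M := M0.map A.grp.G1.subtype
  have hhM : diagHom (F := F) (m := m) g ∈ M := ⟨h, Subgroup.subset_closure (Or.inl rfl), rfl⟩
  have hbM : A.ree false 1 0 0 * ν ∈ M := ⟨b, Subgroup.subset_closure (Or.inr rfl), rfl⟩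
  have hH : ∀ a : Fˣ, diagHom (F := F) (m := m) a ∈ M := fun a => by
    obtain ⟨k, rfl⟩ := hg a
    show diagHom (F := F) (m := m) (g ^ k) ∈ M
    rw [map_zpow]
    exact Subgroup.zpow_mem _ hhM k
  obtain ⟨a', ha'⟩ : ∃ a', diagHom (F := F) (m := m) a' = ν * diagHom (F := F) (m := m) g * ν⁻¹ := by
    have : ν * diagHom (F := F) (m := m) g * ν⁻¹ ∈ (diagHom (F := F) (m := m)).range := by
      rw [A.diagHom_range]
      exact ⟨(Subgroup.mem_normalizer_iff.1 (A.T.hC.fine.monomial_le_normalizer_diagonal (A.grp.nu_mon 0)) _).1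
        (hdg g).1, Subgroup.mul_mem _ (Subgroup.mul_mem _ (A.grp.nu_mem 0) (hdg g).2)
          (Subgroup.inv_mem _ (A.grp.nu_mem 0))⟩
    exact this
  have ha1 : a' ≠ 1 := fun e => by
    rw [e, map_one, eq_comm, conj_eq_one_iff] at ha'
    have hg1 : g = 1 := diagHom_inj (ha'.trans (map_one _).symm)
    have hc := orderOf_eq_card_of_forall_mem_zpowers hg
    rw [hg1, orderOf_one, Nat.card_units, Nat.card_eq_fintype_card, A.card] at hc
    have : 3 ^ 3 ≤ 3 ^ (2 * m + 1) := Nat.pow_le_pow_right (by norm_num) (by omega)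
    omega
  obtain ⟨t1, u1, v1, ec, hc1, -, -⟩ := A.conj_ree a' 1 0 0
  rw [mul_one] at hc1
  obtain ⟨t0, u0, v0, e0⟩ := A.exists_ree (mul_mem (A.ree_pos 1 0 0) (inv_mem (A.ree_pos t1 u1 v1)))
  have hmul : A.ree false t0 u0 v0 * A.ree false t1 u1 v1 = A.ree false 1 0 0 := by
    rw [← e0, inv_mul_cancel_right]
  have ht0 : t0 ≠ 0 := by
    intro ht
    rw [ree, ree, A.nf_mul, ree] at hmul
    obtain ⟨p, -⟩ := nf_inj hmul
    refine ha1 (A.chT_inj ?_)
    refine Units.ext ?_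
    rw [ht, zero_add, hc1] at p
    rw [p]
    simp [chT]
  have h0 : A.ree false t0 u0 v0 ∈ M := by
    rw [← e0, ← ec, show A.ree false 1 0 0 * (diagHom (F := F) (m := m) a' * A.ree false 1 0 0 *
        (diagHom (F := F) (m := m) a')⁻¹)⁻¹ = A.ree false 1 0 0 * diagHom (F := F) (m := m) a' *
        (A.ree false 1 0 0)⁻¹ * (diagHom (F := F) (m := m) a')⁻¹ by group]
    refine mul_mem ?_ (inv_mem (hH a'))
    rw [ha', show A.ree false 1 0 0 * (ν * diagHom (F := F) (m := m) g * ν⁻¹) * (A.ree false 1 0 0)⁻¹ =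
      (A.ree false 1 0 0 * ν) * diagHom (F := F) (m := m) g * (A.ree false 1 0 0 * ν)⁻¹ by group]
    exact mul_mem (mul_mem hbM hhM) (inv_mem hbM)
  have hU := A.pos_le_of hm M hH ht0 h0
  have hνM : ν ∈ M := by
    have := mul_mem (inv_mem (hU (A.ree_pos 1 0 0))) hbM
    rwa [inv_mul_cancel_left] at this
  have hdiag : ∀ d, d ∈ chevG2.diagonalSubgroup F → d ∈ A.grp.G1 → d ∈ M := fun d h1 h2 => by
    have h' : d ∈ (diagHom (F := F) (m := m)).range := A.diagHom_range ▸ ⟨h1, h2⟩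
    obtain ⟨a, rfl⟩ := h'
    exact hH a
  have hall : A.grp.G1 ≤ M := by
    intro x hx
    rcases A.cases_elem hx with hB | ⟨p, hp, k, hk, hmov, r, hr, rfl⟩
    · obtain ⟨p, hp, d, hd, rfl⟩ := A.grp.borel_split hB hx
      exact mul_mem (hU ⟨hp.2, A.grp.fix_pos_le hp⟩) (hdiag d hd.2 hd.1)
    · refine mul_mem (mul_mem (hU hp) ?_) (hU hr)
      have hd : ν⁻¹ * k ∈ chevG2.diagonalSubgroup F := by
        refine A.T.hC.fine.mem_diagonal_of_moves_one
          (Subgroup.mul_mem _ (Subgroup.inv_mem _ (A.grp.nu_mon 0)) hk.2) ?_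
        have := A.T.hC.fine.moves_mul (A.T.hC.fine.moves_inv (A.grp.nu_moves 0)) hmov
        rwa [inv_mul_cancel] at this
      have := mul_mem hνM (hdiag _ hd (Subgroup.mul_mem _ (Subgroup.inv_mem _ (A.grp.nu_mem 0)) hk.1))
      rwa [mul_inv_cancel_left] at this
  refine eq_top_iff.2 fun x _ => ?_
  obtain ⟨y, hy, e⟩ := hall x.2
  rwa [Subtype.ext e] at hy

end CfsgLib.Chev.TwG2.Setup
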