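import Cfsg.Agent.Chev.TwG2Thm

/-!
The diagonal and unipotent parts of the small Ree groups.
-/

set_option autoImplicit false

namespace CfsgLib.Chev.TwG2.Setup

open Cfsg.Lie Fine Matrix

variable {F : Type*} [Field F] [Fintype F] {m : ℕ} (A : Setup F m)

theorem torus_fix_trivial (a : Fˣ) (ha : a ^ 2 ≠ 1) (t u v : F)
    (hfix : tFin G2.data chevG2 F (par m a) * A.ree false t u v * (tFin G2.data chevG2 F (par m a))⁻¹ =
      A.ree false t u v) : A.ree false t u v = 1 := by
  have cancel : ∀ {u : Fˣ} {t : F}, (u : F) * t = t → u ≠ 1 → t = 0 := fun {u t} h hu => by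
    by_contra hne
    exact hu (Units.ext (mul_right_cancel₀ hne (h.trans (one_mul t).symm)))
  set h := tFin G2.data chevG2 F (par m a) with hh
  have e : ∀ B C P Q R S : GL chevG2.Idx F, h * (B * (C * (P * (Q * (R * S))))) * h⁻¹ =
      (h * B * h⁻¹) * ((h * C * h⁻¹) * ((h * P * h⁻¹) * ((h * Q * h⁻¹) * ((h * R * h⁻¹) * (h * S * h⁻¹))))) :=
    fun B C P Q R S => by group
  simp only [ree, nf, tail, z, Bool.false_eq_true, if_false] at hfix
  rw [e, hh, tFin_conj_xU hK _ (lt12 (by norm_num)), tFin_conj_xU hK _ (lt12 (by norm_num)),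
    tFin_conj_xU hK _ (lt12 (by norm_num)), tFin_conj_xU hK _ (lt12 (by norm_num)),
    tFin_conj_xU hK _ (lt12 (by norm_num)), tFin_conj_xU hK _ (lt12 (by norm_num))] at hfix
  obtain ⟨h6, -, h8, h9, -, -⟩ := nf_inj (hfix : _ = nf false t (A.ψ t) (A.ψ u) (A.ψ v) _ _)
  have hchi := chi_vals
  simp only [List.map_cons, List.map_nil, List.cons.injEq, and_true] at hchi
  obtain ⟨⟨a6, b6⟩, -, ⟨a8, b8⟩, a9, b9⟩ := hchi
  obtain ⟨v0, v1⟩ := par_vals m a
  rw [prod2, v0, v1, a6, b6] at h6
  rw [prod2, v0, v1, a8, b8] at h8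
  rw [prod2, v0, v1, a9, b9] at h9
  have ha1 : a ≠ 1 := fun h => ha (by rw [h, one_pow])
  have hu0 := cancel h8 (by
    rw [_root_.zpow_neg, zpow_one, zpow_one, Ne, inv_mul_eq_one]
    intro h'
    refine ha ?_
    have hae : a = a ^ 3 ^ m := by
      conv_lhs => rw [← A.units_theta a]
      rw [← h']
    rw [mul_comm 3, pow_mul, ← hae] at h'
    refine mul_left_cancel (a := a) ?_
    rw [mul_one, ← pow_succ', ← h'])
  have hv0 := cancel h9 (by rw [zpow_one, zpow_zero, mul_one]; exact ha1)
  have ht0 := cancel h6 (by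
    rw [_root_.zpow_neg, zpow_ofNat, zpow_ofNat, Ne, inv_mul_eq_one]
    intro h'
    refine ha1 ?_
    have h2 : a ^ 2 = a ^ (3 * 3 ^ m) := by
      have := congrArg (fun y : Fˣ => y ^ 3 ^ m) h'
      rw [← pow_mul (a ^ (3 * 3 ^ m)), mul_comm 2, pow_mul (a ^ (3 * 3 ^ m)), A.units_theta, ← pow_mul] at this
      exact this.symm
    rw [← h2, ← pow_mul] at h'
    refine mul_left_cancel (a := a ^ 3) ?_
    rw [mul_one, ← pow_succ]
    exact h'.symm)
  replace hu0 := (map_eq_zero A.ψ).1 hu0
  replace hv0 := (map_eq_zero A.ψ).1 hv0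
  simp [ree, nf, tail, z, ht0, hu0, hv0, xU_zero]

/-- parameters as a homomorphism -/
noncomputable def diagHom : Fˣ →* GL chevG2.Idx F :=
  (tFin G2.data chevG2 F).comp
    { toFun := par m
      map_one' := by funext i; simp [par]
      map_mul' := fun a b => by funext i; by_cases h : i = i0 <;> simp [par, h, mul_pow] }

theorem diagHom_inj : Function.Injective (diagHom (F := F) (m := m)) := fun a b h => by
  have := congrFun (tFin_inj h) i0
  simpa [par] using this

include A in
theorem diagHom_range : (diagHom (F := F) (m := m)).range = chevG2.diagonalSubgroup F ⊓ A.grp.G1 := by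
  classical
  refine Subgroup.eq_of_le_of_card_ge ?_ ?_
  · rintro _ ⟨a, rfl⟩
    exact ⟨Twist.tFin_mem hK _, A.tFin_mem _ (A.par_mem a)⟩
  · rw [A.card_diagonal, ← Nat.card_congr (MonoidHom.ofInjective diagHom_inj).toEquiv, Nat.card_eq_fintype_card,
      Fintype.card_units, A.card]

include A in
theorem tail_z7 (c d f g x : F) :
    tail false c d f g * z false 7 x = z false 7 x * tail false c (d - x * c) f g := by
  have h3 := A.three_zero
  have hc : G2.data.comm 7 8 = [(9, -2, 1, 1), (10, -3, 2, 1), (11, 3, 1, 2)] ∧ G2.data.comm 7 9 = [(10, 3, 1, 1)] ∧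
      G2.data.comm 7 10 = [] ∧ G2.data.comm 7 11 = [] := by decide +kernel
  obtain ⟨c8, c9, c10, c11⟩ := hc
  have e8 : z false 8 c * z false 7 x = z false 7 x * tail false c (-(x * c)) 0 0 := by
    show xU hK 8 c * xU hK 7 x = _
    rw [hK.xU_swap (r := 7) (s := 8) (lt12 (by norm_num)) (lt12 (by norm_num)) (by norm_num) (by decide +kernel), c8]
    simp only [List.map_cons, List.map_nil, wordU, List.prod_cons, List.prod_nil, mul_one, tail, z,
      Bool.false_eq_true, if_false]
    push_cast
    congr 3
    · congr 1; linear_combination (x * c) * h3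
    · congr 1
      · rw [show (-3 : F) * (-x) ^ 2 * c ^ 1 = 0 by linear_combination (-(x ^ 2 * c)) * h3]
      · rw [show (3 : F) * (-x) ^ 1 * c ^ 2 = 0 by linear_combination (-(x * c ^ 2)) * h3]
  have comm : ∀ {s : ℕ}, s = 9 ∨ s = 10 ∨ s = 11 → ∀ w : F, z false s w * z false 7 x = z false 7 x * z false s w := by
    intro s hs w
    show xU hK s w * xU hK 7 x = _
    rcases hs with rfl | rfl | rfl
    all_goals
      rw [hK.xU_swap (r := 7) (lt12 (by norm_num)) (lt12 (by norm_num)) (by norm_num) (by decide +kernel)]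
      simp only [c9, c10, c11, List.map_cons, List.map_nil, wordU, List.prod_cons, List.prod_nil, mul_one, z,
        Bool.false_eq_true, if_false]
    push_cast
    rw [show (3 : F) * (-x) ^ 1 * w ^ 1 = 0 by linear_combination (-(x * w)) * h3, xU_zero, mul_one]
  calc tail false c d f g * z false 7 x
      = z false 8 c * (z false 9 d * (z false 10 f * (z false 11 g * z false 7 x))) := by
        simp only [tail, mul_assoc]
    _ = z false 8 c * (z false 7 x * tail false 0 d f g) := by
        rw [comm (Or.inr (Or.inr rfl)), ← mul_assoc (z false 10 f), comm (Or.inr (Or.inl rfl)), mul_assoc,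
          ← mul_assoc (z false 9 d), comm (Or.inl rfl), mul_assoc]
        simp [tail, z_zero]
    _ = z false 7 x * (tail false c (-(x * c)) 0 0 * tail false 0 d f g) := by rw [← mul_assoc, e8, mul_assoc]
    _ = _ := by rw [A.tail_mul]; simp [sub_eq_add_neg, add_comm]

include A in
theorem tail_z6 (c d f g y : F) :
    tail false c d f g * z false 6 y = z false 6 y * tail false c d f (g - y * f) := by
  have hc : G2.data.comm 6 8 = [] ∧ G2.data.comm 6 9 = [] ∧
      G2.data.comm 6 10 = [(11, 1, 1, 1)] ∧ G2.data.comm 6 11 = [] := by decide +kernel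
  obtain ⟨c8, c9, c10, c11⟩ := hc
  have e10 : z false 10 f * z false 6 y = z false 6 y * (z false 10 f * z false 11 (-(y * f))) := by
    show xU hK 10 f * xU hK 6 y = _
    rw [hK.xU_swap (r := 6) (s := 10) (lt12 (by norm_num)) (lt12 (by norm_num)) (by norm_num) (by decide +kernel), c10]
    simp only [List.map_cons, List.map_nil, wordU, List.prod_cons, List.prod_nil, mul_one, z,
      Bool.false_eq_true, if_false]
    push_cast
    congr 3
    ring
  have comm : ∀ {s : ℕ}, s = 8 ∨ s = 9 ∨ s = 11 → ∀ w : F, z false s w * z false 6 y = z false 6 y * z false s w := by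
    intro s hs w
    show xU hK s w * xU hK 6 y = _
    rcases hs with rfl | rfl | rfl
    all_goals
      rw [hK.xU_swap (r := 6) (lt12 (by norm_num)) (lt12 (by norm_num)) (by norm_num) (by decide +kernel)]
      simp only [c8, c9, c11, List.map_nil, wordU, List.prod_nil, mul_one, z,
        Bool.false_eq_true, if_false]
  calc tail false c d f g * z false 6 y
      = z false 8 c * (z false 9 d * (z false 10 f * (z false 11 g * z false 6 y))) := by
        simp only [tail, mul_assoc]
    _ = z false 6 y * (z false 8 c * (z false 9 d * ((z false 10 f * z false 11 (-(y * f))) * z false 11 g))) := by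
        rw [comm (Or.inr (Or.inr rfl)), ← mul_assoc (z false 10 f), e10, mul_assoc (z false 6 y),
          ← mul_assoc (z false 9 d), comm (Or.inr (Or.inl rfl)), mul_assoc (z false 6 y),
          ← mul_assoc (z false 8 c), comm (Or.inl rfl), mul_assoc (z false 6 y)]
    _ = _ := by rw [mul_assoc (z false 10 f), z_mul, tail, sub_eq_add_neg, add_comm g]

include A in
theorem nf_mul (y x c d f g y' x' c' d' f' g' : F) :
    nf false y x c d f g * nf false y' x' c' d' f' g' =
      nf false (y + y') (x + x') (c + c' - x * y') (d + d' - x ^ 2 * y' - x' * (c - x * y'))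
        (f + f' + x ^ 3 * y') (g + g' - y' * f + x ^ 3 * y' ^ 2) := by
  calc nf false y x c d f g * nf false y' x' c' d' f' g'
      = z false 6 y * (z false 7 x * ((tail false c d f g * z false 6 y') *
          (z false 7 x' * tail false c' d' f' g'))) := by simp only [nf, mul_assoc]
    _ = z false 6 y * ((z false 7 x * z false 6 y') * (tail false c d f (g - y' * f) *
          (z false 7 x' * tail false c' d' f' g'))) := by rw [A.tail_z6]; simp only [mul_assoc]
    _ = z false 6 (y + y') * (z false 7 x * ((tail false (c - x * y') (d - x ^ 2 * y') (f + x ^ 3 * y')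
          (g - y' * f + x ^ 3 * y' ^ 2) * z false 7 x') * tail false c' d' f' g')) := by
        rw [A.z_swap, ← z_mul false 6 y y']
        simp only [mul_assoc]
        rw [← mul_assoc (tail false _ _ _ _) (tail false c d f _), A.tail_mul]
        congr 4
        congr 1 <;> ring
    _ = z false 6 (y + y') * (z false 7 (x + x') * tail false (c - x * y' + c')
          (d - x ^ 2 * y' - x' * (c - x * y') + d') (f + x ^ 3 * y' + f')
          (g - y' * f + x ^ 3 * y' ^ 2 + g')) := by
        rw [A.tail_z7, ← z_mul false 7 x x']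
        simp only [mul_assoc]
        rw [A.tail_mul]
    _ = _ := by rw [nf]; congr 3 <;> ring

theorem ree_cube (t u v : F) : A.ree false t u v ^ 3 = 1 ↔ t = 0 := by
  have h3 := A.three_zero
  have h0 : nf false (0 : F) 0 0 0 0 0 = 1 := by simp [nf, tail, z_zero]
  constructor
  · intro h
    rw [pow_succ, pow_two, ree, A.nf_mul, A.nf_mul, ← h0] at h
    obtain ⟨-, -, -, h4, -, -⟩ := nf_inj h
    have h5 : A.ψ t ^ 2 * t = 0 := by linear_combination -h4 + (A.ψ v - A.ψ t * A.ψ u) * h3
    rcases mul_eq_zero.1 h5 with h5 | h5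
    · exact (map_eq_zero A.ψ).1 (pow_eq_zero_iff two_ne_zero |>.1 h5)
    · exact h5
  · rintro rfl
    rw [pow_succ, pow_two, ree, A.nf_mul, A.nf_mul, ← h0]
    congr 1
    · simp
    · simp
    · simp only [map_zero]; linear_combination A.ψ u * h3
    · simp only [map_zero]; linear_combination A.ψ v * h3
    · simp only [map_zero]; linear_combination u * h3
    · simp only [map_zero]; linear_combination v * h3

theorem exists_ree {g : GL chevG2.Idx F} (hg : g ∈ chevG2.posUnipotent F ⊓ A.grp.G1) :
    ∃ t u v : F, g = A.ree false t u v := by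
  obtain ⟨t, u, v, h⟩ := (A.pos_elems g).1 hg
  exact ⟨t, u, v, Units.ext (by rw [h, A.ree_word, coe_wordU]; rfl)⟩

theorem ree_pos (t u v : F) : A.ree false t u v ∈ chevG2.posUnipotent F ⊓ A.grp.G1 :=
  (A.pos_elems _).2 ⟨t, u, v, by rw [A.ree_word, coe_wordU]; rfl⟩

end CfsgLib.Chev.TwG2.Setup
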