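import Cfsg.Agent.Lie.Quad

/-!
Reflections generate the isometry group.
-/

set_option autoImplicit false
set_option linter.unusedSimpArgs false
set_option linter.unusedSectionVars false

namespace CfsgLib.Lie.Refl

open Matrix

variable {F : Type*} [Field F] [Fintype F] {ι : Type} [Fintype ι] [DecidableEq ι] (Q : QuadraticForm F (ι → F))

/-- action -/
def act (g : Cfsg.isometryGroup F ⇑Q) (x : ι → F) : ι → F :=
  ((g : GL ι F) : Matrix ι ι F) *ᵥ x

variable {Q}

theorem act_mul (g h : Cfsg.isometryGroup F ⇑Q) (x : ι → F) : act Q (g * h) x = act Q g (act Q h x) := by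
  simp [act, Matrix.mulVec_mulVec]

theorem act_one (x : ι → F) : act Q 1 x = x := by
  change (1 : Matrix ι ι F) *ᵥ x = x
  simp

theorem act_inv (g : Cfsg.isometryGroup F ⇑Q) (x : ι → F) : act Q g⁻¹ (act Q g x) = x := by
  rw [← act_mul, inv_mul_cancel, act_one]

theorem act_inj (g : Cfsg.isometryGroup F ⇑Q) : Function.Injective (act Q g) :=
  Function.LeftInverse.injective (act_inv g)

theorem act_Q (g : Cfsg.isometryGroup F ⇑Q) (x : ι → F) : Q (act Q g x) = Q x := g.2 x 0

theorem act_polar (g : Cfsg.isometryGroup F ⇑Q) (x y : ι → F) :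
    QuadraticMap.polar ⇑Q (act Q g x) (act Q g y) = QuadraticMap.polar ⇑Q x y := by
  have hadd : act Q g x + act Q g y = act Q g (x + y) := (Matrix.mulVec_add _ _ _).symm
  simp only [QuadraticMap.polar, hadd, act_Q]

theorem act_ext {g h : Cfsg.isometryGroup F ⇑Q} (H : ∀ x, act Q g x = act Q h x) : g = h :=
  Subtype.ext (Units.ext (Matrix.ext_of_mulVec_single fun i => H (Pi.single i 1)))

theorem refl_exists {v : ι → F} (hv : Q v ≠ 0) : ∃ r : Cfsg.isometryGroup F ⇑Q,
    ((r : GL ι F) : Matrix ι ι F) = Cfsg.reflectionMatrix ⇑Q v :=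
  ⟨⟨Matrix.GeneralLinearGroup.mkOfDetNeZero (Cfsg.reflectionMatrix ⇑Q v)
      (by rw [Quad.reflection_det Q hv]; exact neg_ne_zero.2 one_ne_zero),
    fun x _ => Quad.reflection_isometry Q hv x⟩, rfl⟩

/-- The subgroup generated by reflections. -/
def W (Q : QuadraticForm F (ι → F)) : Subgroup (Cfsg.isometryGroup F ⇑Q) :=
  Subgroup.closure {g | ∃ v : ι → F, Q v ≠ 0 ∧
    ((g : GL ι F) : Matrix ι ι F) = Cfsg.reflectionMatrix ⇑Q v}

theorem mem_W {v : ι → F} (hv : Q v ≠ 0) : ∃ r ∈ W Q, ∀ x, act Q r x =
    x - ((Q v)⁻¹ * QuadraticMap.polar ⇑Q v x) • v := by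
  obtain ⟨r, hr⟩ := refl_exists hv
  exact ⟨r, Subgroup.subset_closure ⟨v, hv, hr⟩, fun x => by rw [act, hr, Quad.reflection_mulVec]⟩

theorem eichler {e y : ι → F} (he : Q e = 0) (hey : QuadraticMap.polar ⇑Q e y = 0) (hy : Q y ≠ 0) :
    ∃ g ∈ W Q, ∀ x, act Q g x = x + QuadraticMap.polar ⇑Q y x • e -
      QuadraticMap.polar ⇑Q e x • y - (Q y * QuadraticMap.polar ⇑Q e x) • e := by
  have ha : Q (y + Q y • e) = Q y := by
    rw [QuadraticMap.map_add (f := ⇑Q), QuadraticMap.map_smul, QuadraticMap.polar_smul_right,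
      QuadraticMap.polar_comm (f := ⇑Q) y e, hey, he]
    simp
  obtain ⟨r, hr, hr'⟩ := mem_W (v := y + Q y • e) (by rw [ha]; exact hy)
  obtain ⟨s, hs, hs'⟩ := mem_W hy
  refine ⟨r * s, mul_mem hr hs, fun x => ?_⟩
  rw [act_mul, hr', hs', ha]
  have hpe : QuadraticMap.polar ⇑Q e y = 0 := hey
  simp only [sub_eq_add_neg, ← neg_smul, QuadraticMap.polar_add_left, QuadraticMap.polar_add_right,
    QuadraticMap.polar_smul_left, QuadraticMap.polar_smul_right, QuadraticMap.polar_self, smul_eq_mul,
    hpe]
  match_scalars <;> (field_simp <;> ring)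

theorem exists_polar (hQ : (QuadraticMap.polarBilin Q).Nondegenerate) {e w : ι → F}
    (hli : LinearIndependent F ![e, w]) :
    ∃ z, QuadraticMap.polar ⇑Q e z = 0 ∧ QuadraticMap.polar ⇑Q w z = 1 := by
  obtain ⟨φ, hφ1, hφ2⟩ : ∃ φ : (ι → F) →ₗ[F] F, φ e = 0 ∧ φ w = 1 := by
    have hne : w ∉ Submodule.span F {e} := by
      intro h
      obtain ⟨c, hc⟩ := Submodule.mem_span_singleton.1 h
      have := LinearIndependent.pair_iff.1 hli c (-1) (by rw [hc]; simp)
      exact neg_ne_zero.2 one_ne_zero this.2
    obtain ⟨φ, h1, h2⟩ := Submodule.exists_dual_map_eq_bot_of_notMem hne inferInstance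
    refine ⟨(φ w)⁻¹ • φ, ?_, by simp [h1]⟩
    have he : φ e ∈ (Submodule.span F {e}).map φ := ⟨e, Submodule.mem_span_singleton_self e, rfl⟩
    rw [h2, Submodule.mem_bot] at he
    simp [he]
  obtain ⟨z, hz⟩ := Quad.exists_rep (QuadraticMap.polarBilin Q) hQ φ
  exact ⟨z, (hz e).trans hφ1, (hz w).trans hφ2⟩

theorem siegel_mem (hQ : (QuadraticMap.polarBilin Q).Nondegenerate)
    (h : Fintype.card F ≠ 2 ∨ Fintype.card ι ≠ 4) {e w : ι → F} (he : Q e = 0) (hw : Q w = 0)
    (hew : QuadraticMap.polar ⇑Q e w = 0) (hli : LinearIndependent F ![e, w]) :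
    ∃ g ∈ W Q, ∀ x, act Q g x = x + QuadraticMap.polar ⇑Q w x • e - QuadraticMap.polar ⇑Q e x • w := by
  classical
  obtain ⟨y, hey, hy, hyw⟩ : ∃ y, QuadraticMap.polar ⇑Q e y = 0 ∧ Q y ≠ 0 ∧ Q (w - y) ≠ 0 := by
    obtain ⟨z, hz1, hz2⟩ := exists_polar hQ hli
    by_cases hb : ∃ b : F, b ≠ 0 ∧ b ≠ 1
    · obtain ⟨b, hb0, hb1⟩ := hb
      refine ⟨(z - Q z • w) + b • w, ?_, ?_, ?_⟩
      · simp [sub_eq_add_neg, QuadraticMap.polar_add_right, QuadraticMap.polar_neg_right,
          QuadraticMap.polar_smul_right, hz1, hew]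
      · rw [show z - Q z • w + b • w = z - (Q z - b) • w by rw [sub_smul]; abel]
        rw [Quad.map_sub_smul, hz2, hw]
        simpa using hb0
      · rw [show w - (z - Q z • w + b • w) = (-1 : F) • (z - (Q z - b + 1) • w) by
          rw [add_smul, sub_smul, one_smul, neg_smul, one_smul]; abel]
        rw [QuadraticMap.map_smul, Quad.map_sub_smul, hz2, hw]
        simp only [mul_one, mul_zero, add_zero, neg_mul_neg, one_smul]
        intro hc; exact hb1 (by linear_combination hc)
    · -- two elements
      push_neg at hb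
      have hcard : Fintype.card F = 2 := by
        refine le_antisymm ?_ Fintype.one_lt_card
        calc Fintype.card F = (Finset.univ : Finset F).card := rfl
          _ ≤ ({0, 1} : Finset F).card := Finset.card_le_card fun x _ => by
              by_cases hx : x = 0 <;> simp [hx, hb x]
          _ ≤ 2 := Finset.card_le_two
      have hn4 : Fintype.card ι ≠ 4 := h.resolve_left (not_not.2 hcard)
      set P := QuadraticMap.polarBilin Q with hP
      let T : (ι → F) →ₗ[F] F × F := (P e).prod (P w)
      by_contra hcon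
      push_neg at hcon
      have hU : ∀ u ∈ T.ker, Q u = 0 := by
        intro u hu
        have hu' : QuadraticMap.polar ⇑Q e u = 0 ∧ QuadraticMap.polar ⇑Q w u = 0 := by
          simpa [T, hP] using hu
        by_contra hu0
        refine hu0 ?_
        have := hcon u hu'.1 hu0
        rw [show w - u = w - (1 : F) • u by simp, Quad.map_sub_smul, hw,
          QuadraticMap.polar_comm (f := ⇑Q) u w, hu'.2] at this
        simpa using this
      have hpp : ∀ u ∈ T.ker, ∀ v ∈ T.ker, P u v = 0 := fun u hu v hv => by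
        simp [hP, QuadraticMap.polar, hU u hu, hU v hv, hU _ (add_mem hu hv)]
      -- the kernel is totally singular of codimension at most 2
      let S : (ι → F) →ₗ[F] (T.ker →ₗ[F] F) := LinearMap.domRestrict' T.ker ∘ₗ P
      have hker : T.ker ≤ S.ker := fun u hu => LinearMap.ext fun v => hpp u hu v v.2
      have hsurj : Function.Surjective S := by
        intro ψ
        obtain ⟨ψ', hψ'⟩ := LinearMap.exists_extend ψ
        obtain ⟨z, hz⟩ := Quad.exists_rep P hQ ψ'
        refine ⟨z, LinearMap.ext fun v => ?_⟩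
        rw [← hψ']
        exact ((QuadraticMap.polar_comm (f := ⇑Q) z (v : ι → F)).trans (hz v))
      have d1 := LinearMap.finrank_range_add_finrank_ker S
      rw [LinearMap.range_eq_top.2 hsurj, finrank_top, Subspace.dual_finrank_eq] at d1
      have d2 := LinearMap.finrank_range_add_finrank_ker T
      have d3 : Module.finrank F T.range ≤ 2 := (Submodule.finrank_le _).trans (by simp)
      have d4 := Submodule.finrank_mono hker
      have d5 : 2 ≤ Module.finrank F T.ker := by
        have hsub : Submodule.span F (Set.range ![e, w]) ≤ T.ker := by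
          refine Submodule.span_le.2 ?_
          rintro _ ⟨i, rfl⟩
          fin_cases i <;>
            simp [T, hP, QuadraticMap.polar_self, he, hw, hew, QuadraticMap.polar_comm (f := ⇑Q) w e]
        have := Submodule.finrank_mono hsub
        rwa [finrank_span_eq_card hli, Fintype.card_fin] at this
      have d6 : Module.finrank F (ι → F) = Fintype.card ι := by simp
      omega
  have hey' : QuadraticMap.polar ⇑Q e (w - y) = 0 := by
    simp [sub_eq_add_neg, QuadraticMap.polar_add_right, QuadraticMap.polar_neg_right, hew, hey]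
  obtain ⟨g, hg, hg'⟩ := eichler he hey hy
  obtain ⟨g2, hg2, hg2'⟩ := eichler he hey' hyw
  refine ⟨g * g2, mul_mem hg hg2, fun x => ?_⟩
  rw [act_mul, hg', hg2']
  have hq : Q (w - y) = Q y - QuadraticMap.polar ⇑Q y w := by
    rw [show w - y = w - (1 : F) • y by simp, Quad.map_sub_smul, hw]; ring
  simp only [sub_eq_add_neg, ← neg_smul, QuadraticMap.polar_add_left, QuadraticMap.polar_neg_left,
    QuadraticMap.polar_add_right, QuadraticMap.polar_neg_right, QuadraticMap.polar_smul_right,
    smul_eq_mul, smul_add, smul_neg, neg_neg] at *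
  simp only [QuadraticMap.polar_self, QuadraticMap.polar_comm (f := ⇑Q) y e, hey, hew, he, hq,
    smul_eq_mul]
  match_scalars <;> ring

theorem W_eq_top (hQ : (QuadraticMap.polarBilin Q).Nondegenerate)
    (h : Fintype.card F ≠ 2 ∨ Fintype.card ι ≠ 4) : W Q = ⊤ := by
  classical
  rw [eq_top_iff]
  intro g _
  -- induction on the number of moved vectors
  let mv : Cfsg.isometryGroup F ⇑Q → Finset (ι → F) := fun g => {x | act Q g x ≠ x}
  have key : ∀ N : ℕ, ∀ g : Cfsg.isometryGroup F ⇑Q, (mv g).card = N → g ∈ W Q := by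
    intro N
    induction N using Nat.strong_induction_on with
    | _ N ih =>
      intro g hN
      -- it suffices to move one more vector back
      have step : ∀ r ∈ W Q, ∀ x, act Q g x ≠ x → act Q r (act Q g x) = x →
          (∀ s, act Q g s = s → act Q r s = s) → g ∈ W Q := by
        intro r hr x hx hrx hfix
        refine (mul_mem_cancel_left hr).1 (ih (mv (r * g)).card ?_ (r * g) rfl)
        rw [← hN]
        refine Finset.card_lt_card (Finset.ssubset_iff_of_subset ?_ |>.2 ⟨x, by simpa [mv] using hx, ?_⟩)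
        · intro s hs
          simp only [mv, Finset.mem_filter, Finset.mem_univ, true_and, act_mul] at hs ⊢
          intro hgs
          exact hs (by rw [hgs, hfix s hgs])
        · simp [mv, act_mul, hrx]
      by_cases h1 : ∀ x, act Q g x = x
      · rw [show g = 1 from act_ext fun x => (h1 x).trans (act_one x).symm]; exact one_mem _
      have horth : ∀ x s, act Q g s = s → QuadraticMap.polar ⇑Q (act Q g x - x) s = 0 := by
        intro x s hs
        rw [sub_eq_add_neg, QuadraticMap.polar_add_left, QuadraticMap.polar_neg_left]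
        conv_lhs => arg 1; rw [← hs, act_polar]
        exact add_neg_cancel _
      have hQd : ∀ x, Q (act Q g x - x) = Q x + Q x - QuadraticMap.polar ⇑Q (act Q g x) x := by
        intro x
        rw [show act Q g x - x = act Q g x - (1 : F) • x by simp, Quad.map_sub_smul, act_Q,
          QuadraticMap.polar_comm (f := ⇑Q) x]
        ring
      by_cases h2 : ∃ x, Q (act Q g x - x) ≠ 0
      · obtain ⟨x, hx⟩ := h2
        obtain ⟨r, hr, hr'⟩ := mem_W hx
        refine step r hr x (fun hh => hx (by rw [hh, sub_self, map_zero])) ?_ ?_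
        · have hp : QuadraticMap.polar ⇑Q (act Q g x - x) (act Q g x) = Q (act Q g x - x) := by
            rw [hQd, sub_eq_add_neg (act Q g x), QuadraticMap.polar_add_left, QuadraticMap.polar_neg_left,
              QuadraticMap.polar_self, act_Q, two_smul, QuadraticMap.polar_comm (f := ⇑Q) x]
            ring
          rw [hr', hp, inv_mul_cancel₀ hx, one_smul]; abel
        · intro s hs; rw [hr', horth x s hs, mul_zero, zero_smul, sub_zero]
      push_neg at h1 h2
      obtain ⟨x, hx⟩ := h1
      have hdd : ∀ a b, QuadraticMap.polar ⇑Q (act Q g a - a) (act Q g b - b) = 0 := by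
        intro a b
        have := h2 (a + b)
        rw [show act Q g (a + b) = act Q g a + act Q g b from Matrix.mulVec_add _ _ _] at this
        rw [QuadraticMap.polar, show act Q g a - a + (act Q g b - b) = act Q g a + act Q g b - (a + b) by abel,
          this, h2, h2]
        simp
      have halt : ∀ a b, QuadraticMap.polar ⇑Q (act Q g a - a) b + QuadraticMap.polar ⇑Q (act Q g b - b) a = 0 := by
        intro a b
        have := hdd a b
        simp only [sub_eq_add_neg, QuadraticMap.polar_add_left, QuadraticMap.polar_neg_left,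
          QuadraticMap.polar_add_right, QuadraticMap.polar_neg_right, act_polar] at this ⊢
        rw [QuadraticMap.polar_comm (f := ⇑Q) b a, QuadraticMap.polar_comm (f := ⇑Q) (act Q g b) a]
        linear_combination -this
      set w := act Q g x - x with hw
      have hw0 : w ≠ 0 := sub_ne_zero.2 hx
      obtain ⟨y, hy⟩ : ∃ y, QuadraticMap.polar ⇑Q w y ≠ 0 := by
        by_contra hc; push_neg at hc; exact hw0 (hQ.1 w hc)
      set d := act Q g y - y with hd
      have hwx : QuadraticMap.polar ⇑Q w x = 0 := by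
        have := hQd x
        rw [h2] at this
        rw [hw, sub_eq_add_neg, QuadraticMap.polar_add_left, QuadraticMap.polar_neg_left,
          QuadraticMap.polar_self, two_smul]
        linear_combination this
      have hdx : QuadraticMap.polar ⇑Q d x = -QuadraticMap.polar ⇑Q w y := by
        linear_combination halt x y
      set k := QuadraticMap.polar ⇑Q w y with hk
      have hli : LinearIndependent F ![k⁻¹ • d, w] := by
        rw [LinearIndependent.pair_iff]
        intro s t hst
        have hp := congrArg (fun v => QuadraticMap.polar ⇑Q v x) hst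
        simp only [QuadraticMap.polar_add_left, QuadraticMap.polar_smul_left, smul_eq_mul, hdx, hwx,
          QuadraticMap.polar_zero_left] at hp
        have hs0 : s = 0 := by
          field_simp at hp; linear_combination -hp
        rw [hs0, zero_smul, zero_add] at hst
        exact ⟨hs0, (smul_eq_zero.1 hst).resolve_right hw0⟩
      obtain ⟨r, hr, hr'⟩ := siegel_mem hQ h (e := k⁻¹ • d) (w := w)
        (by rw [QuadraticMap.map_smul, hd, h2, smul_zero]) (h2 x)
        (by rw [QuadraticMap.polar_smul_left, hd, hw, hdd, smul_zero]) hli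
      refine step r⁻¹ (inv_mem hr) x hx (act_inj r ?_) (fun s hs => act_inj r ?_)
      · rw [← act_mul, mul_inv_cancel, act_one, hr', hwx, QuadraticMap.polar_smul_left, hdx, smul_eq_mul,
          mul_neg, inv_mul_cancel₀ hy, neg_smul, one_smul, zero_smul, add_zero, hw]
        abel
      · rw [← act_mul, mul_inv_cancel, act_one, hr', QuadraticMap.polar_smul_left, hd, hw,
          horth x s hs, horth y s hs]
        simp
  exact key _ g rfl

theorem special_eq (h2 : (2 : F) ≠ 0) (hQ : (QuadraticMap.polarBilin Q).Nondegenerate) :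
    Cfsg.specialIsometryGroup F ⇑Q = Subgroup.closure {g : Cfsg.isometryGroup F ⇑Q | ∃ u v : ι → F,
      Q u ≠ 0 ∧ Q v ≠ 0 ∧ ((g : GL ι F) : Matrix ι ι F) =
        Cfsg.reflectionMatrix ⇑Q u * Cfsg.reflectionMatrix ⇑Q v} := by
  set H := Subgroup.closure {g : Cfsg.isometryGroup F ⇑Q | ∃ u v : ι → F,
      Q u ≠ 0 ∧ Q v ≠ 0 ∧ ((g : GL ι F) : Matrix ι ι F) =
        Cfsg.reflectionMatrix ⇑Q u * Cfsg.reflectionMatrix ⇑Q v} with hH
  have hmem : ∀ g : Cfsg.isometryGroup F ⇑Q, g ∈ Cfsg.specialIsometryGroup F ⇑Q ↔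
      ((g : GL ι F) : Matrix ι ι F).det = 1 := by
    intro g
    exact Units.ext_iff
  have hle : H ≤ Cfsg.specialIsometryGroup F ⇑Q := by
    rw [hH, Subgroup.closure_le]
    rintro g ⟨u, v, hu, hv, hg⟩
    rw [SetLike.mem_coe, hmem, hg, Matrix.det_mul, Quad.reflection_det Q hu, Quad.reflection_det Q hv]
    simp
  refine le_antisymm (fun g hg => ?_) hle
  have h : Fintype.card F ≠ 2 ∨ Fintype.card ι ≠ 4 := Or.inl fun hc => by
    have := FiniteField.even_card_iff_char_two.2 (show Fintype.card F % 2 = 0 by rw [hc])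
    have : CharP F 2 := ringChar.of_eq this
    exact h2 CharTwo.two_eq_zero
  let R : Set (Cfsg.isometryGroup F ⇑Q) := {g | ∃ v : ι → F, Q v ≠ 0 ∧
    ((g : GL ι F) : Matrix ι ι F) = Cfsg.reflectionMatrix ⇑Q v}
  have hsq : ∀ r ∈ R, r * r = 1 := by
    rintro r ⟨v, hv, hr⟩
    refine act_ext fun x => ?_
    rw [act_one, act_mul]
    simp only [act, hr, Quad.reflection_mulVec, sub_eq_add_neg, ← neg_smul,
      QuadraticMap.polar_add_right, QuadraticMap.polar_smul_right, QuadraticMap.polar_self, smul_eq_mul]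
    match_scalars <;> (field_simp <;> ring)
  have hpair : ∀ r ∈ R, ∀ s ∈ R, r * s ∈ H := by
    rintro r ⟨u, hu, hr⟩ s ⟨v, hv, hs⟩
    exact Subgroup.subset_closure ⟨u, v, hu, hv, by rw [Subgroup.coe_mul, Units.val_mul, hr, hs]⟩
  have hall : ∀ g : Cfsg.isometryGroup F ⇑Q, g ∈ H ∨ ∃ r ∈ R, r * g ∈ H := by
    intro g
    have hg' : g ∈ W Q := by rw [W_eq_top hQ h]; trivial
    induction hg' using Subgroup.closure_induction_left with
    | one => exact Or.inl (one_mem _)
    | mul_left x hx y _ ih =>
      rcases ih with ih | ⟨r, hr, ih⟩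
      · exact Or.inr ⟨x, hx, by rw [← mul_assoc, hsq x hx, one_mul]; exact ih⟩
      · refine Or.inl ?_
        have := mul_mem (hpair x hx r hr) ih
        rwa [mul_assoc, ← mul_assoc r, hsq r hr, one_mul] at this
    | inv_mul_cancel x hx y _ ih =>
      rw [inv_eq_of_mul_eq_one_right (hsq x hx)]
      rcases ih with ih | ⟨r, hr, ih⟩
      · exact Or.inr ⟨x, hx, by rw [← mul_assoc, hsq x hx, one_mul]; exact ih⟩
      · refine Or.inl ?_
        have := mul_mem (hpair x hx r hr) ih
        rwa [mul_assoc, ← mul_assoc r, hsq r hr, one_mul] at this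
  rcases hall g with hg' | ⟨r, ⟨v, hv, hr⟩, hg'⟩
  · exact hg'
  · exfalso
    have h3 := (hmem _).1 (hle hg')
    rw [Subgroup.coe_mul, Units.val_mul, Matrix.det_mul, hr, Quad.reflection_det Q hv, (hmem g).1 hg] at h3
    exact h2 (by linear_combination -h3)

end CfsgLib.Lie.Refl
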