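import Cfsg.Agent.Lie.OrthChar
import Cfsg.Agent.Lie.OrthRoot
import Cfsg.Agent.Lie.OrthSpinor

/-!
The subgroup generated by the reflections of one square class has index two in the orthogonal group
(odd characteristic, even dimension, other than dimension four over three elements).
-/

set_option autoImplicit false
set_option linter.unusedSectionVars false
set_option linter.unusedSimpArgs false
set_option maxHeartbeats 1000000

namespace CfsgLib.Lie.ReflClass

open QuadraticMap
open scoped commutatorElement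
open CfsgLib.Lie.Refl (act act_mul act_one act_inv act_inj act_Q act_polar act_ext)
open CfsgLib.Lie.OrthChar (R R_val R_act R_mul_self R_smul R_conj R_inv R_det chi map_add' map_smul' polar_self')

variable {F : Type*} [Field F] [Fintype F] {ι : Type} [Fintype ι] [DecidableEq ι]
  {Q : QuadraticForm F (ι → F)}

/-- generators: reflections in the class of `c` -/
def gens (Q : QuadraticForm F (ι → F)) (c : F) : Set (Cfsg.isometryGroup F ⇑Q) :=
  {g | ∃ (v : ι → F) (t : F), t ≠ 0 ∧ Q v = c * t ^ 2 ∧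
    ((g : GL ι F) : Matrix ι ι F) = Cfsg.reflectionMatrix ⇑Q v}

/-- the generated subgroup -/
def K (Q : QuadraticForm F (ι → F)) (c : F) : Subgroup (Cfsg.isometryGroup F ⇑Q) := Subgroup.closure (gens Q c)

variable {c : F} (hc : c ≠ 0)

include hc in
theorem R_mem {v : ι → F} {t : F} (ht : t ≠ 0) (h : Q v = c * t ^ 2) : R Q v ∈ K Q c :=
  Subgroup.subset_closure ⟨v, t, ht, h, R_val (by rw [h]; exact mul_ne_zero hc (pow_ne_zero _ ht))⟩

include hc in
theorem K_normal : (K Q c).Normal := by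
  refine ⟨fun n hn g => ?_⟩
  have h : (K Q c).map (MulAut.conj g).toMonoidHom ≤ K Q c := by
    rw [K, MonoidHom.map_closure, Subgroup.closure_le]
    rintro _ ⟨r, ⟨v, t, ht, hv, hr⟩, rfl⟩
    have hv0 : Q v ≠ 0 := by rw [hv]; exact mul_ne_zero hc (pow_ne_zero _ ht)
    obtain rfl : r = R Q v := OrthSpinor.eq_R hv0 hr
    show g * R Q v * g⁻¹ ∈ _
    rw [R_conj g hv0]
    exact R_mem hc ht (by rw [act_Q, hv])
  exact h ⟨n, hn, rfl⟩

variable (h2 : (2 : F) ≠ 0)

/-- two-dimensional reflection in coordinates -/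
theorem R_coord {w z : ι → F} (hwz : polar ⇑Q w z = 0) (p s : F) (hD : Q (p • w + s • z) ≠ 0) (a b : F)
    {x : ι → F} (hxw : polar ⇑Q w x = 0) (hxz : polar ⇑Q z x = 0) :
    act Q (R Q (p • w + s • z)) (a • w + b • z + x) =
      (a - (Q (p • w + s • z))⁻¹ * (2 * (p * a * Q w + s * b * Q z)) * p) • w +
        (b - (Q (p • w + s • z))⁻¹ * (2 * (p * a * Q w + s * b * Q z)) * s) • z + x := by
  rw [R_act hD]
  have hp : polar ⇑Q (p • w + s • z) (a • w + b • z + x) = 2 * (p * a * Q w + s * b * Q z) := by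
    simp only [polar_add_left, polar_add_right, polar_smul_left, polar_smul_right, polar_self', hwz,
      polar_comm (f := ⇑Q) z w, hxw, hxz, smul_eq_mul]
    ring
  rw [hp]
  match_scalars <;> ring

include h2 in
/-- a reflection inverts a rotation of its plane -/
theorem invert {w z : ι → F} (hwz : polar ⇑Q w z = 0) (hw : Q w ≠ 0) (hz : Q z ≠ 0) (r p s : F)
    (hw' : Q (r • w + (1 : F) • z) ≠ 0) (hu : Q (p • w + s • z) ≠ 0) :
    R Q (p • w + s • z) * (R Q w * R Q (r • w + (1 : F) • z)) *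
      (R Q (p • w + s • z) * (R Q w * R Q (r • w + (1 : F) • z))) = 1 := by
  refine act_ext fun x => ?_
  obtain ⟨a, ha⟩ : ∃ a, a = polar ⇑Q w x / (2 * Q w) := ⟨_, rfl⟩
  obtain ⟨b, hb⟩ : ∃ b, b = polar ⇑Q z x / (2 * Q z) := ⟨_, rfl⟩
  obtain ⟨x0, hx0⟩ : ∃ x0, x0 = x - (a • w + b • z) := ⟨_, rfl⟩
  have hxw : polar ⇑Q w x0 = 0 := by
    rw [hx0, sub_eq_add_neg, polar_add_right, polar_neg_right, polar_add_right, polar_smul_right, polar_smul_right,
      polar_self', hwz, ha, smul_eq_mul, smul_eq_mul]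
    field_simp
    ring
  have hxz : polar ⇑Q z x0 = 0 := by
    rw [hx0, sub_eq_add_neg, polar_add_right, polar_neg_right, polar_add_right, polar_smul_right, polar_smul_right,
      polar_self', polar_comm (f := ⇑Q) z w, hwz, hb, smul_eq_mul, smul_eq_mul]
    field_simp
    ring
  have hx : x = a • w + b • z + x0 := by rw [hx0]; abel
  have e1 : w = (1 : F) • w + (0 : F) • z := by simp
  have hw1 : Q ((1 : F) • w + (0 : F) • z) ≠ 0 := by rwa [← e1]
  have hRw : R Q w = R Q ((1 : F) • w + (0 : F) • z) := by rw [← e1]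
  rw [act_one, hx, hRw]
  simp only [act_mul, R_coord hwz _ _ hu _ _ hxw hxz, R_coord hwz _ _ hw' _ _ hxw hxz,
    R_coord hwz _ _ hw1 _ _ hxw hxz]
  rw [show Q (p • w + s • z) = p * p * Q w + s * s * Q z from OrthChar.map_comb p s w z hwz,
    show Q (r • w + (1 : F) • z) = r * r * Q w + 1 * 1 * Q z from OrthChar.map_comb r 1 w z hwz,
    show Q ((1 : F) • w + (0 : F) • z) = 1 * 1 * Q w + 0 * 0 * Q z from OrthChar.map_comb 1 0 w z hwz]
  have hD1 : p * p * Q w + s * s * Q z ≠ 0 := by rw [← OrthChar.map_comb p s w z hwz]; exact hu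
  have hD2 : r * r * Q w + 1 * 1 * Q z ≠ 0 := by rw [← OrthChar.map_comb r 1 w z hwz]; exact hw'
  have hD3 : r * r * Q w + Q z ≠ 0 := by simpa using hD2
  simp only [one_mul, mul_one, zero_mul, add_zero]
  have hD1' : p ^ 2 * Q w + s ^ 2 * Q z ≠ 0 := by rwa [pow_two, pow_two]
  have hD2' : r ^ 2 * Q w + Q z ≠ 0 := by rwa [pow_two]
  have hD1'' : Q w * p ^ 2 + Q z * s ^ 2 ≠ 0 := by rwa [mul_comm (Q w), mul_comm (Q z)]
  have hD2'' : Q w * r ^ 2 + Q z ≠ 0 := by rwa [mul_comm (Q w)]
  generalize Q w = A at hw hD1 hD2 hD3 hD1' hD2' hD1'' hD2'' ⊢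
  generalize Q z = B at hz hD1 hD2 hD3 hD1' hD2' hD1'' hD2'' ⊢
  match_scalars <;> first | (field_simp; ring) | field_simp

variable (hQ : (QuadraticMap.polarBilin Q).Nondegenerate) (h43 : ¬ (Fintype.card ι = 4 ∧ Fintype.card F = 3))

include h2 hQ in
theorem exists_perp {e f a : ι → F} (hn : 4 ≤ Fintype.card ι) (he : Q e = 0) (hf : Q f = 0)
    (hef : polar ⇑Q e f = 1) (hea : polar ⇑Q e a = 0) (hfa : polar ⇑Q f a = 0) (ha : Q a ≠ 0) :
    (∃ y, polar ⇑Q e y = 0 ∧ polar ⇑Q a y = 0 ∧ Q y ≠ 0) ∧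
      (5 ≤ Fintype.card ι → ∃ y y', polar ⇑Q e y = 0 ∧ polar ⇑Q a y = 0 ∧ Q y ≠ 0 ∧
        polar ⇑Q e y' = 0 ∧ polar ⇑Q a y' = 0 ∧ Q y' ≠ 0 ∧ polar ⇑Q y y' = 0) := by
  classical
  have hfe : polar ⇑Q f e = 1 := by rw [polar_comm, hef]
  have hae : polar ⇑Q a e = 0 := by rw [polar_comm, hea]
  have haf : polar ⇑Q a f = 0 := by rw [polar_comm, hfa]
  obtain ⟨π, hπ⟩ : ∃ π : (ι → F) → (ι → F), π = fun x => x - polar ⇑Q e x • f - polar ⇑Q f x • e -
      (polar ⇑Q a x / (2 * Q a)) • a := ⟨_, rfl⟩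
  have hπe : ∀ x, polar ⇑Q e (π x) = 0 ∧ polar ⇑Q f (π x) = 0 ∧ polar ⇑Q a (π x) = 0 := fun x => by
    subst hπ
    simp only [sub_eq_add_neg, polar_add_right, polar_neg_right, polar_smul_right, polar_self', hef, hfe, hea, hfa,
      hae, haf, he, hf, smul_eq_mul]
    refine ⟨by ring, by ring, ?_⟩
    field_simp
    ring
  have hadd : ∀ x y, π (x + y) = π x + π y := fun x y => by
    subst hπ
    simp only [polar_add_right, add_div, add_smul]
    abel
  have hfix : ∀ x, polar ⇑Q e x = 0 → polar ⇑Q f x = 0 → polar ⇑Q a x = 0 → π x = x := fun x h1 h3 h4 => by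
    subst hπ
    simp [h1, h3, h4]
  have hdim : ∀ vs : Finset (ι → F), (∀ x, x ∈ Submodule.span F (vs : Set (ι → F))) → Fintype.card ι ≤ vs.card :=
    fun vs hvs => by
    have h1 : Submodule.span F (vs : Set (ι → F)) = ⊤ := top_le_iff.1 fun x _ => hvs x
    have h3 := finrank_span_finset_le_card (R := F) vs
    rw [Set.finrank, h1, finrank_top, Module.finrank_fintype_fun_eq_card] at h3
    exact h3
  have hval : ∀ (p : (ι → F) → Prop) , (∀ x y, p x → p y → p (x + y)) →
      (∀ x, p x → Q x = 0) → ∀ x y, p x → p y → polar ⇑Q x y = 0 := fun p hp h0 x y hx hy => by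
    rw [polar, h0 _ hx, h0 _ hy, h0 _ (hp _ _ hx hy)]; ring
  have y1 : ∃ y, polar ⇑Q e y = 0 ∧ polar ⇑Q f y = 0 ∧ polar ⇑Q a y = 0 ∧ Q y ≠ 0 := by
    by_contra hcon
    push Not at hcon
    have hz : ∀ x, π x = 0 := fun x => hQ.1 _ fun t => by
      show polar ⇑Q (π x) t = 0
      have h5 := hval (fun u => polar ⇑Q e u = 0 ∧ polar ⇑Q f u = 0 ∧ polar ⇑Q a u = 0)
        (fun u v hu hv => ⟨by rw [polar_add_right, hu.1, hv.1, add_zero], by rw [polar_add_right, hu.2.1, hv.2.1, add_zero],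
          by rw [polar_add_right, hu.2.2, hv.2.2, add_zero]⟩)
        (fun u hu => hcon u hu.1 hu.2.1 hu.2.2) (π x) (π t) (hπe x) (hπe t)
      obtain ⟨he1, hf1, ha1⟩ := hπe x
      conv_lhs => rw [show t = π t + (polar ⇑Q e t • f + polar ⇑Q f t • e + (polar ⇑Q a t / (2 * Q a)) • a) by
        subst hπ; simp only; abel]
      rw [polar_add_right, h5, polar_comm (f := ⇑Q)]
      simp only [polar_add_left, polar_smul_left, he1, hf1, ha1, smul_zero, add_zero]
    have := hdim {e, f, a} fun x => by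
      have h6 := hz x
      subst hπ
      simp only at h6
      rw [sub_sub, sub_sub, sub_eq_zero] at h6
      rw [h6]
      refine Submodule.add_mem _ ?_ (Submodule.add_mem _ ?_ ?_) <;>
        exact Submodule.smul_mem _ _ (Submodule.subset_span (by simp))
    have := Finset.card_le_three (a := e) (b := f) (c := a)
    omega
  obtain ⟨y, hye, hyf, hya, hy⟩ := y1
  refine ⟨⟨y, hye, hya, hy⟩, fun h5 => ?_⟩
  obtain ⟨ρ, hρ⟩ : ∃ ρ : (ι → F) → (ι → F), ρ = fun x => π x - (polar ⇑Q y (π x) / (2 * Q y)) • y := ⟨_, rfl⟩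
  have hρe : ∀ x, polar ⇑Q e (ρ x) = 0 ∧ polar ⇑Q f (ρ x) = 0 ∧ polar ⇑Q a (ρ x) = 0 ∧ polar ⇑Q y (ρ x) = 0 :=
    fun x => by
    obtain ⟨he1, hf1, ha1⟩ := hπe x
    subst hρ
    simp only [sub_eq_add_neg, polar_add_right, polar_neg_right, polar_smul_right, polar_self', hye, hyf, hya,
      he1, hf1, ha1, smul_eq_mul]
    refine ⟨by ring, by ring, by ring, ?_⟩
    field_simp
    ring
  by_contra hcon
  push Not at hcon
  have h0 : ∀ u, polar ⇑Q e u = 0 → polar ⇑Q f u = 0 → polar ⇑Q a u = 0 → polar ⇑Q y u = 0 → Q u = 0 :=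
    fun u h1 _ h3 h4 => by
    by_contra hu
    exact hcon y u hye hya hy h1 h3 hu h4
  have hz : ∀ x, ρ x = 0 := fun x => hQ.1 _ fun t => by
    show polar ⇑Q (ρ x) t = 0
    have h9 := hval (fun u => polar ⇑Q e u = 0 ∧ polar ⇑Q f u = 0 ∧ polar ⇑Q a u = 0 ∧ polar ⇑Q y u = 0)
      (fun u v hu hv => ⟨by rw [polar_add_right, hu.1, hv.1, add_zero], by rw [polar_add_right, hu.2.1, hv.2.1, add_zero],
        by rw [polar_add_right, hu.2.2.1, hv.2.2.1, add_zero], by rw [polar_add_right, hu.2.2.2, hv.2.2.2, add_zero]⟩)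
      (fun u hu => h0 u hu.1 hu.2.1 hu.2.2.1 hu.2.2.2) (ρ x) (ρ t) (hρe x) (hρe t)
    obtain ⟨he1, hf1, ha1, hy1⟩ := hρe x
    conv_lhs => rw [show t = ρ t + ((polar ⇑Q y (π t) / (2 * Q y)) • y +
      (polar ⇑Q e t • f + polar ⇑Q f t • e + (polar ⇑Q a t / (2 * Q a)) • a)) by
      subst hρ hπ; simp only; abel]
    rw [polar_add_right, h9, polar_comm (f := ⇑Q)]
    simp only [polar_add_left, polar_smul_left, he1, hf1, ha1, hy1, smul_zero, add_zero]
  have := hdim {e, f, a, y} fun x => by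
    have h6 := hz x
    subst hρ hπ
    simp only at h6
    rw [sub_eq_zero, sub_sub, sub_sub, sub_eq_iff_eq_add] at h6
    rw [h6]
    refine Submodule.add_mem _ ?_ (Submodule.add_mem _ ?_ (Submodule.add_mem _ ?_ ?_)) <;>
      exact Submodule.smul_mem _ _ (Submodule.subset_span (by simp))
  have := Finset.card_le_four (a := e) (b := f) (c := a) (d := y)
  omega

include hc h2 hQ h43 in
/-- transvection-like elements attached to an anisotropic vector lie in `K` -/
theorem E_mem (hn : 4 ≤ Fintype.card ι) (heven : Even (Fintype.card ι)) {e a : ι → F} (he : Q e = 0)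
    (he0 : e ≠ 0) (hea : polar ⇑Q e a = 0) (ha : Q a ≠ 0) : OrthRoot.E Q e a ∈ K Q c := by
  classical
  have hli : LinearIndependent F ![a, e] :=
    OrthRoot.li_pair (fun h => ha (by rw [h, QuadraticMap.map_zero])) fun t ht => by
      have h1 : t * t * Q a = 0 := by rw [← map_smul', ← ht, he]
      have h3 : t = 0 := by simpa [ha] using h1
      exact he0 (by rw [ht, h3, zero_smul])
  obtain ⟨f, hf, hef, hfa'⟩ := OrthRoot.exists_partner hQ he hea hli
  have hfa : polar ⇑Q f a = 0 := by rw [polar_comm, hfa']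
  obtain ⟨hy1, hy2⟩ := exists_perp h2 hQ hn he hf hef hea hfa ha
  have base : ∀ b, polar ⇑Q e b = 0 → ∀ t : F, t ≠ 0 → Q b = c * t ^ 2 → OrthRoot.E Q e b ∈ K Q c := by
    intro b heb t ht hb
    have hb0 : Q (-b) ≠ 0 := by rw [QuadraticMap.map_neg, hb]; exact mul_ne_zero hc (pow_ne_zero _ ht)
    have he' : Q (Q (-b) • e) = 0 := by rw [map_smul', he, mul_zero]
    have heb' : polar ⇑Q (Q (-b) • e) (-b) = 0 := by rw [polar_smul_left, polar_neg_right, heb, neg_zero, smul_zero]
    have h := OrthRoot.R_shift hb0 he' heb'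
    rw [smul_smul, inv_mul_cancel₀ hb0, one_smul, neg_neg] at h
    rw [← h]
    refine mul_mem (R_mem hc ht ?_) (R_mem hc ht (by rw [QuadraticMap.map_neg, hb]))
    rw [map_add', he', polar_comm, heb', QuadraticMap.map_neg, hb]; ring
  -- find a multiple of `a` which is a sum of two such vectors
  obtain ⟨p, y, hp, hey, hay, hQy⟩ : ∃ (p : F) (y : ι → F), p ≠ 0 ∧ polar ⇑Q e y = 0 ∧ polar ⇑Q a y = 0 ∧
      p * p * Q a + Q y = c := by
    by_cases hq : 5 ≤ Fintype.card F
    · obtain ⟨y, hey, hay, hy⟩ := hy1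
      suffices h : ∃ p s : F, p ≠ 0 ∧ p * p * Q a + s * s * Q y = c by
        obtain ⟨p, s, hp, hps⟩ := h
        exact ⟨p, s • y, hp, by rw [polar_smul_right, hey, smul_zero], by rw [polar_smul_right, hay, smul_zero],
          by rw [map_smul']; exact hps⟩
      obtain ⟨p, s, hps⟩ := OrthChar.exists_binary h2 ha hy c
      by_cases hp : p = 0
      swap
      · exact ⟨p, s, hp, hps⟩
      subst hp
      have hs : s ≠ 0 := fun h => hc (by rw [← hps, h]; ring)
      obtain ⟨l, hl0, hl⟩ : ∃ l : F, l ≠ 0 ∧ l * l * Q a + Q y ≠ 0 := by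
        by_contra hcon
        push Not at hcon
        have key : ∀ l : F, l ≠ 0 → l = 1 ∨ l = -1 := fun l hl => by
          have h1 := hcon l hl
          have h3 := hcon 1 one_ne_zero
          refine mul_self_eq_one_iff.1 (mul_right_cancel₀ ha ?_)
          linear_combination h1 - h3
        have h9 := Finset.card_le_card (s := (Finset.univ : Finset F)) (t := {0, 1, -1}) fun l _ => by
          rcases eq_or_ne l 0 with rfl | hl
          · simp
          · rcases key l hl with rfl | rfl <;> simp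
        have := Finset.card_le_three (a := (0 : F)) (b := 1) (c := -1)
        rw [Finset.card_univ] at h9
        omega
      obtain ⟨k, hk⟩ : ∃ k, k * (l * l * Q a + Q y) = -(2 * s * Q y) := ⟨_, div_mul_cancel₀ _ hl⟩
      have hk0 : k ≠ 0 := fun h => by
        rw [h, zero_mul, zero_eq_neg] at hk
        exact mul_ne_zero (mul_ne_zero h2 hs) hy hk
      exact ⟨l * k, s + k, mul_ne_zero hl0 hk0, by linear_combination k * hk + hps⟩
    · have h5 : 5 ≤ Fintype.card ι := by
        have h1 := Fintype.one_lt_card (α := F)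
        have h3 : Fintype.card F ≠ 4 := fun h4 => by
          have h5 := FiniteField.cast_card_eq_zero F
          rw [h4] at h5
          exact mul_ne_zero h2 h2 (by exact_mod_cast h5)
        have h6 := OrthSpinor.card_ne_two h2
        have h7 : Fintype.card ι ≠ 4 := fun h7 => h43 ⟨h7, by omega⟩
        omega
      obtain ⟨y, y', hey, hay, hy, hey', hay', hy', hyy⟩ := hy2 h5
      obtain ⟨s, s', hss⟩ := OrthChar.exists_binary h2 hy hy' (c - Q a)
      refine ⟨1, s • y + s' • y', one_ne_zero, by simp [polar_add_right, polar_smul_right, hey, hey'],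
        by simp [polar_add_right, polar_smul_right, hay, hay'], ?_⟩
      rw [OrthChar.map_comb s s' y y' hyy, hss]; ring
  have hb : ∀ σ : F, σ * σ = 1 → Q (p • a + σ • y) = c * 1 ^ 2 := fun σ hσ => by
    rw [OrthChar.map_comb p σ a y hay, hσ, one_mul, hQy]; ring
  have heb : ∀ σ : F, polar ⇑Q e (p • a + σ • y) = 0 := fun σ => by
    simp [polar_add_right, polar_smul_right, hea, hey]
  -- scale: apply the same to every multiple
  have all : ∀ t : F, t ≠ 0 → OrthRoot.E Q e ((t * p + t * p) • a) ∈ K Q c := by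
    intro t ht
    have e1 : (t * p + t * p) • a = t • (p • a + (1 : F) • y) + t • (p • a + (-1 : F) • y) := by
      match_scalars <;> ring
    have hQt : ∀ σ : F, σ * σ = 1 → Q (t • (p • a + σ • y)) = c * t ^ 2 := fun σ hσ => by
      rw [map_smul', hb σ hσ]; ring
    have het : ∀ σ : F, polar ⇑Q e (t • (p • a + σ • y)) = 0 := fun σ => by rw [polar_smul_right, heb, smul_zero]
    rw [e1, OrthRoot.E_add he (het 1) (het (-1))]
    exact mul_mem (base _ (het 1) t ht (hQt 1 (one_mul 1))) (base _ (het (-1)) t ht (hQt (-1) (by ring)))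
  have h := all (1 / (2 * p)) (one_div_ne_zero (mul_ne_zero h2 hp))
  rwa [show 1 / (2 * p) * p + 1 / (2 * p) * p = 1 by field_simp; ring, one_smul] at h

include hc h2 hQ h43 in
theorem sq_pair (heven : Even (Fintype.card ι)) {w w' : ι → F} (hw : Q w ≠ 0) (hw' : Q w' ≠ 0) :
    (R Q w * R Q w') * (R Q w * R Q w') ∈ K Q c := by
  classical
  haveI := K_normal (Q := Q) hc
  obtain ⟨r, hr⟩ : ∃ r, r = polar ⇑Q w w' / (2 * Q w) := ⟨_, rfl⟩
  obtain ⟨z, hz⟩ : ∃ z, z = w' - r • w := ⟨_, rfl⟩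
  have hwz : polar ⇑Q w z = 0 := by
    rw [hz, sub_eq_add_neg, polar_add_right, polar_neg_right, polar_smul_right, polar_self', hr, smul_eq_mul]
    field_simp
    ring
  have hw'eq : w' = r • w + (1 : F) • z := by rw [hz]; simp
  by_cases hz0 : z = 0
  · have hr0 : r ≠ 0 := fun h => hw' (by rw [hw'eq, hz0, h]; simp)
    have e : R Q w' = R Q w := by rw [hw'eq, hz0, smul_zero, add_zero, R_smul hw hr0]
    rw [e, R_mul_self hw, one_mul]; exact one_mem _
  by_cases hQz : Q z = 0
  · have hr0 : r ≠ 0 := fun h => hw' (by rw [hw'eq, h]; simp [hQz])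
    have hn : 4 ≤ Fintype.card ι := by
      by_contra hlt
      have h2' : Fintype.card ι ≤ 2 := by obtain ⟨k, hk⟩ := heven; omega
      -- `z` would lie in the radical
      refine hz0 (hQ.1 z fun t => ?_)
      show polar ⇑Q z t = 0
      have hli : LinearIndependent F ![w, z] :=
        OrthRoot.li_pair (fun h => hw (by rw [h, QuadraticMap.map_zero])) fun u hu => by
          have h1 : u * u * Q w = 0 := by rw [← map_smul', ← hu, hQz]
          have h3 : u = 0 := by simpa [hw] using h1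
          exact hz0 (by rw [hu, h3, zero_smul])
      have htop : Submodule.span F (Set.range ![w, z]) = ⊤ := by
        refine Submodule.eq_top_of_finrank_eq ?_
        have := hli.fintype_card_le_finrank
        rw [finrank_span_eq_card hli, Module.finrank_fintype_fun_eq_card, Fintype.card_fin] at *
        omega
      have ht : t ∈ Submodule.span F (Set.range ![w, z]) := htop ▸ Submodule.mem_top
      obtain ⟨g, rfl⟩ := (Submodule.mem_span_range_iff_exists_fun F).1 ht
      simp [Fin.sum_univ_two, polar_add_right, polar_smul_right, polar_comm (f := ⇑Q) z w, hwz, polar_self', hQz]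
    have hzr : Q (r⁻¹ • z) = 0 := by rw [map_smul', hQz, mul_zero]
    have hzw : polar ⇑Q (r⁻¹ • z) w = 0 := by rw [polar_smul_left, polar_comm, hwz, smul_zero]
    have hwr : Q (w + r⁻¹ • z) ≠ 0 := by
      rwa [map_add', hzr, polar_comm (f := ⇑Q), hzw, add_zero, add_zero]
    have e : R Q w' = R Q (w + r⁻¹ • z) := by
      rw [← R_smul hwr hr0, hw'eq, smul_add, smul_smul, mul_inv_cancel₀ hr0]
    have hk : R Q w' * R Q w ∈ K Q c := by
      rw [e, OrthRoot.R_shift hw hzr hzw]
      refine E_mem hc h2 hQ h43 hn heven ?_ ?_ ?_ (by rwa [QuadraticMap.map_neg])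
      · rw [map_smul', hzr, mul_zero]
      · rw [smul_smul]
        exact fun h => hz0 ((smul_eq_zero.1 h).resolve_left (mul_ne_zero (inv_ne_zero hw) (inv_ne_zero hr0)))
      · rw [polar_smul_left, polar_neg_right, hzw, neg_zero, smul_zero]
    have h' := inv_mem hk
    rw [_root_.mul_inv_rev, R_inv hw, R_inv hw'] at h'
    exact mul_mem h' h'
  obtain ⟨p, s, hps⟩ := OrthChar.exists_binary h2 hw hQz c
  have hu : Q (p • w + s • z) = c * 1 ^ 2 := by rw [OrthChar.map_comb p s w z hwz, hps]; ring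
  have hu0 : Q (p • w + s • z) ≠ 0 := by rw [hu, one_pow, mul_one]; exact hc
  have hinv := invert h2 hwz hw hQz r p s (hw'eq ▸ hw') hu0
  rw [← hw'eq] at hinv
  obtain ⟨u, hudef⟩ : ∃ u, u = R Q (p • w + s • z) := ⟨_, rfl⟩
  obtain ⟨g, hgdef⟩ : ∃ g, g = R Q w * R Q w' := ⟨_, rfl⟩
  rw [← hudef, ← hgdef] at hinv
  rw [← hgdef]
  have huK : u ∈ K Q c := hudef ▸ R_mem hc one_ne_zero hu
  have hkey : g⁻¹ * g⁻¹ = u * (g * u * g⁻¹) := by
    have h3 : u * g * u = g⁻¹ := eq_inv_of_mul_eq_one_left (by simpa [mul_assoc] using hinv)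
    conv_lhs => arg 1; rw [← h3]
    group
  have := inv_mem (hkey ▸ mul_mem huK (Subgroup.Normal.conj_mem inferInstance u huK g) : g⁻¹ * g⁻¹ ∈ K Q c)
  simpa using this

include hc h2 hQ h43 in
theorem omega_le (heven : Even (Fintype.card ι)) : Cfsg.Omega F ⇑Q ≤ K Q c := by
  classical
  haveI := K_normal (Q := Q) hc
  have base : ∀ u w, Q u ≠ 0 → Q w ≠ 0 → Commute (QuotientGroup.mk' (K Q c) (R Q u)) (QuotientGroup.mk' (K Q c) (R Q w)) :=
    fun u w hu hw => by
    have h1 : QuotientGroup.mk' (K Q c) ((R Q u * R Q w) * (R Q u * R Q w)) = 1 :=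
      (QuotientGroup.eq_one_iff _).2 (sq_pair hc h2 hQ h43 heven hu hw)
    rw [map_mul, map_mul, mul_eq_one_iff_eq_inv, _root_.mul_inv_rev, ← map_inv, ← map_inv, R_inv hu, R_inv hw] at h1
    exact h1
  have hlist : ∀ vs ws : List (ι → F), (∀ v ∈ vs, Q v ≠ 0) → (∀ w ∈ ws, Q w ≠ 0) →
      Commute (QuotientGroup.mk' (K Q c) (vs.map (R Q)).prod) (QuotientGroup.mk' (K Q c) (ws.map (R Q)).prod) := by
    intro vs ws hvs hws
    rw [map_list_prod, map_list_prod, List.map_map, List.map_map]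
    refine Commute.list_prod_left _ _ fun x hx => Commute.list_prod_right _ _ fun y hy => ?_
    obtain ⟨v, hv, rfl⟩ := List.mem_map.1 hx
    obtain ⟨w, hw, rfl⟩ := List.mem_map.1 hy
    exact base v w (hvs v hv) (hws w hw)
  rw [Cfsg.Omega, commutator_def, Subgroup.commutator_le]
  intro a _ b _
  obtain ⟨vs, hvs, rfl⟩ := OrthSpinor.exists_prod hQ (Or.inl (OrthSpinor.card_ne_two h2)) a
  obtain ⟨ws, hws, rfl⟩ := OrthSpinor.exists_prod hQ (Or.inl (OrthSpinor.card_ne_two h2)) b
  refine (QuotientGroup.eq_one_iff _).1 ?_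
  show QuotientGroup.mk' (K Q c) _ = 1
  rw [map_commutatorElement, commutatorElement_eq_one_iff_mul_comm]
  exact hlist vs ws hvs hws

include hc h2 hQ h43 in
theorem index_two (hn : 2 ≤ Fintype.card ι) (heven : Even (Fintype.card ι)) : (K Q c).index = 2 := by
  classical
  haveI : Nonempty ι := Fintype.card_pos_iff.1 (by omega)
  obtain ⟨a, b, ha, hb, hab, -⟩ := OrthChar.exists_pair h2 hQ hn
  obtain ⟨z, hz⟩ := OrthChar.exists_aniso h2 hQ
  obtain ⟨y, hzy, hy⟩ := OrthChar.exists_orth_aniso h2 hQ hn hz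
  have hval : ∀ d : F, ∃ v, Q v = d := fun d => by
    obtain ⟨p, s, hps⟩ := OrthChar.exists_binary h2 hz hy d
    exact ⟨p • z + s • y, by rw [OrthChar.map_comb p s z y hzy, hps]⟩
  obtain ⟨v, hv⟩ := hval c
  have hc2 : ringChar F ≠ 2 := fun h => h2 (by
    have : CharP F 2 := ringChar.of_eq h
    exact CharTwo.two_eq_zero)
  obtain ⟨ν, hν⟩ := FiniteField.exists_nonsquare hc2
  obtain ⟨v', hv'⟩ := hval (c * ν)
  have hv0 : Q v ≠ 0 := by rw [hv]; exact hc
  have hν0 : ν ≠ 0 := fun h => hν (h ▸ IsSquare.zero)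
  have hv'0 : Q v' ≠ 0 := by rw [hv']; exact mul_ne_zero hc hν0
  have hns : ¬ IsSquare (Q v * Q v') := by
    rw [hv, hv', ← mul_assoc, OrthSpinor.isSquare_cancel hc]; exact hν
  have hΩ := omega_le hc h2 hQ h43 heven
  have hRv : R Q v ∈ K Q c := R_mem hc one_ne_zero (by rw [hv, one_pow, mul_one])
  have hnot : R Q v' ∉ K Q c := fun hR => by
    have hinv : ∀ g ∈ K Q c, g ∈ Cfsg.Omega F ⇑Q ∨ g * R Q v ∈ Cfsg.Omega F ⇑Q := by
      intro g hg
      refine Subgroup.closure_induction
        (p := fun g _ => g ∈ Cfsg.Omega F ⇑Q ∨ g * R Q v ∈ Cfsg.Omega F ⇑Q) ?_ (Or.inl (one_mem _)) ?_ ?_ hg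
      · rintro r ⟨u, t, ht, hu, hr⟩
        have hu0 : Q u ≠ 0 := by rw [hu]; exact mul_ne_zero hc (pow_ne_zero _ ht)
        obtain rfl := OrthSpinor.eq_R hu0 hr
        right
        have := (OrthSpinor.mem_iff h2 hQ hn (vs := [u, v]) (by simp [hu0, hv0])).2 ⟨⟨1, rfl⟩, c * t, by
          simp [hu, hv]; ring⟩
        simpa using this
      · intro x y _ _ hx hy
        rcases hx with hx | hx <;> rcases hy with hy | hy
        · exact Or.inl (mul_mem hx hy)
        · right; rw [mul_assoc]; exact mul_mem hx hy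
        · right
          rw [show x * y * R Q v = (x * R Q v) * ((R Q v)⁻¹ * y * R Q v) by group]
          exact mul_mem hx (by simpa using Subgroup.Normal.conj_mem inferInstance y hy (R Q v)⁻¹)
        · left
          have h9 := mul_mem hx ((Subgroup.Normal.mem_comm_iff inferInstance).1 hy)
          rwa [← mul_assoc, mul_assoc x, R_mul_self hv0, mul_one] at h9
      · intro x _ hx
        rcases hx with hx | hx
        · exact Or.inl (inv_mem hx)
        · right
          have h9 := inv_mem hx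
          rw [_root_.mul_inv_rev, R_inv hv0] at h9
          exact (Subgroup.Normal.mem_comm_iff inferInstance).1 h9
    rcases hinv _ hR with h | h
    · have := (OrthSpinor.mem_iff h2 hQ hn (vs := [v']) (by simp [hv'0])).1 (by simpa using h)
      simp at this
    · have := (OrthSpinor.mem_iff h2 hQ hn (vs := [v', v]) (by simp [hv0, hv'0])).1 (by simpa using h)
      refine hns ?_
      rw [mul_comm]
      simpa using this.2
  rw [Subgroup.index_eq_two_iff]
  refine ⟨R Q v', fun g => ?_⟩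
  have hor : g * R Q v' ∈ K Q c ∨ g ∈ K Q c := by
    rcases OrthChar.reps h2 hQ hv0 hv'0 hns g with h | h | h | h
    · exact Or.inr (hΩ h)
    · exact Or.inr ((mul_mem_cancel_right hRv).1 (hΩ h))
    · exact Or.inl (hΩ h)
    · refine Or.inl ?_
      haveI := K_normal (Q := Q) hc
      have h5 : g * R Q v' * ((R Q v')⁻¹ * R Q v * R Q v') ∈ K Q c := by
        rw [show g * R Q v' * ((R Q v')⁻¹ * R Q v * R Q v') = g * (R Q v * R Q v') by group]
        exact hΩ h
      refine (mul_mem_cancel_right ?_).1 h5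
      simpa using Subgroup.Normal.conj_mem inferInstance _ hRv (R Q v')⁻¹
  rcases hor with h | h
  · refine Or.inl ⟨h, fun hg => hnot ?_⟩
    have := mul_mem (inv_mem hg) h
    rwa [inv_mul_cancel_left] at this
  · refine Or.inr ⟨h, fun hg => hnot ?_⟩
    have := mul_mem (inv_mem h) hg
    rwa [inv_mul_cancel_left] at this

end CfsgLib.Lie.ReflClass
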