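import Cfsg.Agent.Lie.SymIndex

/-!
Subgroups of index six in the symmetric group of degree six.
-/

set_option autoImplicit false
set_option linter.unusedSectionVars false

namespace CfsgLib.Lie.S6

open Equiv MulAction

variable {Ω : Type*} [Fintype Ω] [DecidableEq Ω]

theorem five_sylow_six : Nat.card (Sylow 5 (Perm (Fin 5))) = 6 := by
  have := Fact.mk (show Nat.Prime 5 by norm_num)
  obtain ⟨P⟩ := (inferInstance : Nonempty (Sylow 5 (Perm (Fin 5))))
  have hcard : Nat.card (P : Subgroup (Perm (Fin 5))) = 5 := by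
    rw [Sylow.card_eq_multiplicity, Nat.card_perm, Nat.card_eq_fintype_card, Fintype.card_fin,
      show Nat.factorial 5 = 5 * 24 by rfl, Nat.factorization_mul (by norm_num) (by norm_num),
      Finsupp.add_apply, Nat.Prime.factorization_self (by norm_num),
      Nat.factorization_eq_zero_of_not_dvd (show ¬ 5 ∣ 24 by norm_num)]
    norm_num
  have h1 := card_sylow_modEq_one 5 (Perm (Fin 5))
  have h2 := Sylow.card_dvd_index P
  have h3 := (P : Subgroup (Perm (Fin 5))).card_mul_index
  rw [hcard, Nat.card_perm, Nat.card_eq_fintype_card, Fintype.card_fin] at h3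
  have h4 : (P : Subgroup (Perm (Fin 5))).index = 24 := by
    simp [Nat.factorial] at h3; omega
  rw [h4] at h2
  have h5 := Nat.le_of_dvd (by norm_num) h2
  have h6 : Nat.card (Sylow 5 (Perm (Fin 5))) ≠ 1 := by
    intro h
    have hs := (Nat.card_eq_one_iff_unique.1 h).1
    let c : Perm (Fin 5) := finRotate 5
    let d : Perm (Fin 5) := Equiv.swap 0 1 * finRotate 5 * Equiv.swap 0 1
    have hc : c ^ 5 = 1 := by decide
    have hd : d ^ 5 = 1 := by decide
    have hmem : ∀ x : Perm (Fin 5), x ^ 5 = 1 → x ∈ (P : Subgroup (Perm (Fin 5))) := by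
      intro x hx
      have hp : IsPGroup 5 (Subgroup.zpowers x) := by
        rintro ⟨y, k, rfl⟩
        refine ⟨1, Subtype.ext ?_⟩
        change (x ^ k) ^ (5 ^ 1 : ℕ) = 1
        rw [pow_one, ← zpow_natCast, ← zpow_mul, mul_comm, zpow_mul, zpow_natCast, hx, one_zpow]
      obtain ⟨Q, hQ⟩ := hp.exists_le_sylow
      rw [Subsingleton.elim P Q]
      exact hQ (Subgroup.mem_zpowers x)
    -- d is not a power of c
    have hzc : Subgroup.zpowers c = (P : Subgroup (Perm (Fin 5))) := by
      refine Subgroup.eq_of_le_of_card_ge (Subgroup.zpowers_le.2 (hmem c hc)) ?_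
      rw [hcard, Nat.card_zpowers, orderOf_eq_prime hc (by decide)]
    have := hmem d hd
    rw [← hzc] at this
    obtain ⟨k, hk⟩ := this
    have hcomm : d * c = c * d := by
      rw [← hk]; exact ((Commute.refl c).zpow_left k).eq
    exact absurd hcomm (by decide)
  unfold Nat.ModEq at h1
  generalize Nat.card (Sylow 5 (Perm (Fin 5))) = N at *
  interval_cases N <;> omega

theorem exists_exotic (h6 : Fintype.card Ω = 6) : ∃ H : Subgroup (Perm Ω), H.index = 6 ∧
    IsPretransitive H Ω := by
  classical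
  have := Fact.mk (show Nat.Prime 5 by norm_num)
  let S := Sylow 5 (Perm (Fin 5))
  have hS := five_sylow_six
  let : Fintype S := Fintype.ofFinite _
  let e : S ≃ Ω := Fintype.equivOfCardEq (by rw [← Nat.card_eq_fintype_card, hS, h6])
  let f : Perm (Fin 5) →* Perm Ω := e.permCongrHom.toMonoidHom.comp (MulAction.toPermHom (Perm (Fin 5)) S)
  have hf : Function.Injective f := by
    refine e.permCongrHom.injective.comp ((MonoidHom.ker_eq_bot_iff _).1 ?_)
    rcases SymIndex.normal_cases (Ω := Fin 5) (by simp) _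
      (MonoidHom.normal_ker (MulAction.toPermHom (Perm (Fin 5)) S)) with h | h
    · exact h
    exfalso
    let c : Perm (Fin 5) := finRotate 5
    have hc : c ^ 5 = 1 := by decide
    have hck : c ∈ (MulAction.toPermHom (Perm (Fin 5)) S).ker := h (by
      rw [Equiv.Perm.mem_alternatingGroup]; decide)
    have horder : orderOf c = 5 := orderOf_eq_prime hc (by decide)
    have hzP : ∀ P : S, Subgroup.zpowers c = (P : Subgroup (Perm (Fin 5))) := by
      intro P
      have hfix : c • P = P := Equiv.congr_fun (MonoidHom.mem_ker.1 hck) P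
      have hn : c ∈ Subgroup.normalizer ((P : Subgroup (Perm (Fin 5))) : Set (Perm (Fin 5))) :=
        Sylow.smul_eq_iff_mem_normalizer.1 hfix
      have hp : IsPGroup 5 (Subgroup.zpowers c) :=
        IsPGroup.of_card (n := 1) (by rw [Nat.card_zpowers, horder, pow_one])
      have hcP : c ∈ (P : Subgroup (Perm (Fin 5))) := by
        have := (hp.inf_normalizer_sylow P).le ⟨Subgroup.mem_zpowers c, hn⟩
        exact this.2
      refine Subgroup.eq_of_le_of_card_ge (Subgroup.zpowers_le.2 hcP) ?_
      rw [Nat.card_zpowers, horder]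
      obtain ⟨k, hk⟩ := IsPGroup.iff_card.1 P.2
      rw [hk]
      have hdvd := Subgroup.card_subgroup_dvd_card (P : Subgroup (Perm (Fin 5)))
      rw [hk, Nat.card_perm, Nat.card_eq_fintype_card, Fintype.card_fin] at hdvd
      by_contra hlt
      rcases k with _ | _ | k
      · simp at hlt
      · simp at hlt
      · have : 5 ^ 2 ∣ Nat.factorial 5 := (Nat.pow_dvd_pow 5 (by omega)).trans hdvd
        revert this; decide
    have : Nat.card S = 1 := Nat.card_eq_one_iff_unique.2
      ⟨⟨fun P Q => Sylow.ext ((hzP P).symm.trans (hzP Q))⟩, inferInstance⟩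
    rw [show Nat.card S = 6 from hS] at this
    norm_num at this
  refine ⟨f.range, ?_, ⟨fun a b => ?_⟩⟩
  · have h := f.range.card_mul_index
    rw [← Nat.card_congr (MonoidHom.ofInjective hf).toEquiv, Nat.card_perm, Nat.card_perm,
      Nat.card_eq_fintype_card, Fintype.card_fin, Nat.card_eq_fintype_card, h6] at h
    simp [Nat.factorial] at h
    omega
  · obtain ⟨g, hg⟩ := exists_smul_eq (Perm (Fin 5)) (e.symm a) (e.symm b)
    refine ⟨⟨f g, g, rfl⟩, ?_⟩
    change e (g • e.symm a) = b
    rw [hg, e.apply_symm_apply]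

/-- A subgroup of index six is a symmetric group of degree five. -/
theorem iso_five (h6 : Fintype.card Ω = 6) (H : Subgroup (Perm Ω)) (hH : H.index = 6) :
    Nonempty (H ≃* Perm (Fin 5)) := by
  classical
  have hA : ¬ alternatingGroup Ω ≤ H := fun hle => by
    have : Nontrivial Ω := Fintype.one_lt_card_iff_nontrivial.1 (by omega)
    have hd := Subgroup.index_dvd_of_le hle
    rw [alternatingGroup.index_eq_two, hH] at hd
    norm_num at hd
  have hker : (MulAction.toPermHom (Perm Ω) (Perm Ω ⧸ H)).ker = ⊥ := by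
    rcases SymIndex.normal_cases (by omega) _
      (MonoidHom.normal_ker (MulAction.toPermHom (Perm Ω) (Perm Ω ⧸ H))) with h | h
    · exact h
    · refine absurd (le_trans h ?_) hA
      rw [← Subgroup.normalCore_eq_ker]
      exact Subgroup.normalCore_le H
  let e : (Perm Ω ⧸ H) ≃ Ω := Fintype.equivOfCardEq (by
    rw [← Nat.card_eq_fintype_card, ← Subgroup.index, hH, h6])
  let f := e.permCongrHom.toMonoidHom.comp (MulAction.toPermHom (Perm Ω) (Perm Ω ⧸ H))
  have hf : Function.Injective f :=
    e.permCongrHom.injective.comp ((MonoidHom.ker_eq_bot_iff _).1 hker)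
  let ψ : Perm Ω ≃* Perm Ω := MulEquiv.ofBijective f (Finite.injective_iff_bijective.1 hf)
  set a := e ((1 : Perm Ω) : Perm Ω ⧸ H)
  have hmem : ∀ g, g ∈ H ↔ ψ g a = a := by
    intro g
    have : ψ g a = e (g • ((1 : Perm Ω) : Perm Ω ⧸ H)) := by
      change e (MulAction.toPermHom (Perm Ω) (Perm Ω ⧸ H) g (e.symm a)) = _
      simp [a]
    rw [this, e.injective.eq_iff, MulAction.Quotient.smul_coe, smul_eq_mul, mul_one, QuotientGroup.eq,
      mul_one, inv_mem_iff]
  let ρ : Perm {x // x ≠ a} →* Perm Ω := Perm.ofSubtype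
  let u : H →* Perm {x // x ≠ a} :=
    { toFun := fun g => (ψ g.1).subtypePerm (fun x => not_congr
        ⟨fun h => (ψ g.1).injective (h.trans ((hmem g.1).1 g.2).symm), fun h => by rw [h, (hmem g.1).1 g.2]⟩)
      map_one' := Equiv.ext fun x => Subtype.ext (by simp)
      map_mul' := fun g k => Equiv.ext fun x => Subtype.ext (by
        change ψ (g * k : H).1 x = ψ g.1 (ψ k.1 x)
        rw [Subgroup.coe_mul, map_mul]; rfl) }
  have hu : Function.Bijective u := by
    refine (Nat.bijective_iff_injective_and_card u).2 ⟨fun g k hgk => Subtype.ext (ψ.injective (Equiv.ext fun x => ?_)), ?_⟩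
    · by_cases hx : x = a
      · rw [hx, (hmem g.1).1 g.2, (hmem k.1).1 k.2]
      · exact congrArg Subtype.val (Equiv.congr_fun hgk ⟨x, hx⟩)
    · rw [SymIndex.card_of_index (by rw [hH, h6]) (by omega), Nat.card_perm, Nat.card_eq_fintype_card,
        Fintype.card_subtype_compl, Fintype.card_subtype_eq]
  let c : {x // x ≠ a} ≃ Fin 5 := Fintype.equivFinOfCardEq (by
    rw [Fintype.card_subtype_compl, Fintype.card_subtype_eq, h6])
  exact ⟨(MulEquiv.ofBijective u hu).trans c.permCongrHom⟩

/-- Sylow labels of the six points. -/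
theorem exists_label (h6 : Fintype.card Ω = 6) (H : Subgroup (Perm Ω)) (hH : H.index = 6)
    (ht : IsPretransitive H Ω) :
    ∃ β : Ω ≃ Sylow 5 H, ∀ (h : H) (b : Ω), β ((h : Perm Ω) b) = h • β b := by
  classical
  have := Fact.mk (show Nat.Prime 5 by norm_num)
  have hcardH : Nat.card H = 120 := by
    rw [SymIndex.card_of_index (by rw [hH, h6]) (by omega), h6]; rfl
  have hSyl : ∀ P : Sylow 5 H, Nat.card (P : Subgroup H) = 5 := by
    intro P
    rw [Sylow.card_eq_multiplicity, hcardH, show 120 = 5 * 24 by rfl,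
      Nat.factorization_mul (by norm_num) (by norm_num), Finsupp.add_apply,
      Nat.Prime.factorization_self (by norm_num),
      Nat.factorization_eq_zero_of_not_dvd (show ¬ 5 ∣ 24 by norm_num)]
    norm_num
  have hst : ∀ b : Ω, Nat.card (stabilizer H b) = 20 := by
    intro b
    have h := (stabilizer H b).card_mul_index
    rw [index_stabilizer_of_transitive, Nat.card_eq_fintype_card (α := Ω), h6, hcardH] at h
    omega
  have hone : ∀ b : Ω, ∀ P Q : Sylow 5 H, (P : Subgroup H) ≤ stabilizer H b →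
      (Q : Subgroup H) ≤ stabilizer H b → P = Q := by
    intro b P Q hP hQ
    let P' : Sylow 5 (stabilizer H b) := P.subtype hP
    let Q' : Sylow 5 (stabilizer H b) := Q.subtype hQ
    have hn : Nat.card (Sylow 5 (stabilizer H b)) = 1 := by
      have h1 := card_sylow_modEq_one 5 (stabilizer H b)
      have hP5 : Nat.card (P' : Subgroup (stabilizer H b)) = 5 := by
        rw [Sylow.card_eq_multiplicity, hst, show 20 = 5 * 4 by rfl,
          Nat.factorization_mul (by norm_num) (by norm_num), Finsupp.add_apply,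
          Nat.Prime.factorization_self (by norm_num),
          Nat.factorization_eq_zero_of_not_dvd (show ¬ 5 ∣ 4 by norm_num)]
        norm_num
      have h2 := Sylow.card_dvd_index P'
      have h3 := (P' : Subgroup (stabilizer H b)).card_mul_index
      rw [hP5, hst] at h3
      rw [show (P' : Subgroup (stabilizer H b)).index = 4 by omega] at h2
      have h4 := Nat.le_of_dvd (by norm_num) h2
      unfold Nat.ModEq at h1
      generalize Nat.card (Sylow 5 (stabilizer H b)) = N at *
      interval_cases N <;> omega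
    exact Sylow.subtype_injective (hP := hP) (hQ := hQ)
      (@Subsingleton.elim _ (Nat.card_eq_one_iff_unique.1 hn).1 P' Q')
  have hex : ∀ b : Ω, ∃ P : Sylow 5 H, (P : Subgroup H) ≤ stabilizer H b := by
    intro b
    obtain ⟨P0⟩ := (inferInstance : Nonempty (Sylow 5 (stabilizer H b)))
    obtain ⟨P, hP⟩ := (IsPGroup.map P0.2 (stabilizer H b).subtype).exists_le_sylow
    have heq : (P0 : Subgroup (stabilizer H b)).map (stabilizer H b).subtype = (P : Subgroup H) := by
      refine Subgroup.eq_of_le_of_card_ge hP ?_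
      rw [hSyl, Subgroup.card_map_of_injective (Subgroup.subtype_injective _), Sylow.card_eq_multiplicity,
        hst, show 20 = 5 * 4 by rfl,
        Nat.factorization_mul (by norm_num) (by norm_num), Finsupp.add_apply,
        Nat.Prime.factorization_self (by norm_num),
        Nat.factorization_eq_zero_of_not_dvd (show ¬ 5 ∣ 4 by norm_num)]
      norm_num
    exact ⟨P, heq ▸ Subgroup.map_subtype_le _⟩
  choose β hβ using hex
  have hequiv : ∀ (h : H) (b : Ω), β ((h : Perm Ω) b) = h • β b := by
    intro h b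
    refine hone ((h : Perm Ω) b) _ _ (hβ _) ?_
    intro x hx
    change x • (h • b) = h • b
    rw [Sylow.coe_subgroup_smul] at hx
    obtain ⟨y, hy, rfl⟩ := Subgroup.mem_pointwise_smul_iff_inv_smul_mem.1 hx |> fun hy =>
      (⟨_, hy, by simp [mul_assoc]⟩ : ∃ y ∈ (β b : Subgroup H), MulAut.conj h y = x)
    rw [MulAut.conj_apply, smul_smul, inv_mul_cancel_right, ← smul_smul]
    exact congrArg (h • ·) (hβ b hy)
  have hinj : Function.Injective β := by
    intro b c hbc
    by_contra hne
    obtain ⟨x, hx, hx1⟩ : ∃ x ∈ (β b : Subgroup H), x ≠ 1 := by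
      refine (Subgroup.bot_or_exists_ne_one _).resolve_left fun h => ?_
      have := hSyl (β b)
      rw [h, Subgroup.card_bot] at this
      norm_num at this
    have hb : (x : Perm Ω) b = b := hβ b hx
    have hc : (x : Perm Ω) c = c := hβ c (hbc ▸ hx)
    have h5 : (x : Perm Ω) ^ 5 = 1 := by
      have : x ^ 5 = 1 := by
        have h := pow_card_eq_one' (G := (β b : Subgroup H)) (x := ⟨x, hx⟩)
        rw [hSyl] at h
        exact congrArg Subtype.val h
      exact congrArg Subtype.val this
    have hx1' : (x : Perm Ω) ≠ 1 := fun h => hx1 (Subtype.ext h)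
    obtain ⟨n, hn⟩ := Equiv.Perm.cycleType_prime_order (σ := (x : Perm Ω))
      (by rw [orderOf_eq_prime h5 hx1']; norm_num)
    rw [orderOf_eq_prime h5 hx1'] at hn
    have hsupp := Equiv.Perm.sum_cycleType (x : Perm Ω)
    rw [hn, Multiset.sum_replicate, smul_eq_mul] at hsupp
    have hsub : (x : Perm Ω).support ⊆ ({b, c} : Finset Ω)ᶜ := by
      intro y hy
      rw [Equiv.Perm.mem_support] at hy
      simp only [Finset.mem_compl, Finset.mem_insert, Finset.mem_singleton]
      rintro (rfl | rfl)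
      · exact hy hb
      · exact hy hc
    have := Finset.card_le_card hsub
    rw [Finset.card_compl, Finset.card_pair hne, h6] at this
    omega
  have hn5 : Nat.card (Sylow 5 H) ≤ 6 := by
    obtain ⟨b⟩ : Nonempty Ω := Fintype.card_pos_iff.1 (by omega)
    have h1 := card_sylow_modEq_one 5 H
    have h2 := Sylow.card_dvd_index (β b)
    have h3 := (β b : Subgroup H).card_mul_index
    rw [hSyl, hcardH] at h3
    rw [show (β b : Subgroup H).index = 24 by omega] at h2
    have h4 := Nat.le_of_dvd (by norm_num) h2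
    unfold Nat.ModEq at h1
    generalize Nat.card (Sylow 5 H) = N at *
    interval_cases N <;> omega
  exact ⟨Equiv.ofBijective β ((Nat.bijective_iff_injective_and_card β).2 ⟨hinj,
    le_antisymm (Nat.card_le_card_of_injective β hinj) (hn5.trans_eq (by rw [Nat.card_eq_fintype_card, h6]))⟩),
    hequiv⟩

theorem conj_of_transitive (h6 : Fintype.card Ω = 6) (H₁ H₂ : Subgroup (Perm Ω)) (h₁ : H₁.index = 6)
    (h₂ : H₂.index = 6) (t₁ : IsPretransitive H₁ Ω) (t₂ : IsPretransitive H₂ Ω) :
    ∃ g : Perm Ω, H₁.map (MulAut.conj g).toMonoidHom = H₂ := by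
  obtain ⟨β₁, hβ₁⟩ := exists_label h6 H₁ h₁ t₁
  obtain ⟨β₂, hβ₂⟩ := exists_label h6 H₂ h₂ t₂
  obtain ⟨e₁⟩ := iso_five h6 H₁ h₁
  obtain ⟨e₂⟩ := iso_five h6 H₂ h₂
  let θ := e₁.trans e₂.symm
  let M : Sylow 5 H₁ → Sylow 5 H₂ := fun P => P.comapOfInjective θ.symm.toMonoidHom θ.symm.injective
    (fun x _ => ⟨θ x, θ.symm_apply_apply x⟩)
  let M' : Sylow 5 H₂ → Sylow 5 H₁ := fun P => P.comapOfInjective θ.toMonoidHom θ.injective
    (fun x _ => ⟨θ.symm x, θ.apply_symm_apply x⟩)
  have hM : ∀ P, M' (M P) = P := fun P => Sylow.ext (by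
    ext x
    change θ.symm (θ x) ∈ (P : Subgroup H₁) ↔ _
    rw [θ.symm_apply_apply])
  have hM' : ∀ P, M (M' P) = P := fun P => Sylow.ext (by
    ext x
    change θ (θ.symm x) ∈ (P : Subgroup H₂) ↔ _
    rw [θ.apply_symm_apply])
  have hMs : ∀ (h : H₁) P, M (h • P) = θ h • M P := fun h P => Sylow.ext (by
    ext x
    change θ.symm x ∈ (h • P : Sylow 5 H₁).toSubgroup ↔ x ∈ (θ h • M P : Sylow 5 H₂).toSubgroup
    rw [Sylow.coe_subgroup_smul, Sylow.coe_subgroup_smul, Subgroup.mem_pointwise_smul_iff_inv_smul_mem,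
      Subgroup.mem_pointwise_smul_iff_inv_smul_mem]
    change _ ↔ θ.symm ((MulAut.conj (θ h))⁻¹ • x) ∈ (P : Subgroup H₁)
    simp [MulAut.smul_def])
  let γ : Perm Ω := β₁.trans ((Equiv.mk M M' hM hM').trans β₂.symm)
  have hγ : ∀ (h : H₁) (b : Ω), γ ((h : Perm Ω) b) = (θ h : Perm Ω) (γ b) := by
    intro h b
    change β₂.symm (M (β₁ ((h : Perm Ω) b))) = (θ h : Perm Ω) (β₂.symm (M (β₁ b)))
    rw [hβ₁, hMs, Equiv.symm_apply_eq, hβ₂, β₂.apply_symm_apply]
  have hconj : ∀ h : H₁, γ * (h : Perm Ω) * γ⁻¹ = (θ h : Perm Ω) := fun h => by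
    rw [mul_inv_eq_iff_eq_mul]
    exact Equiv.ext fun b => hγ h b
  refine ⟨γ, le_antisymm ?_ ?_⟩
  · rintro _ ⟨h, hh, rfl⟩
    change γ * h * γ⁻¹ ∈ H₂
    rw [hconj ⟨h, hh⟩]
    exact SetLike.coe_mem _
  · intro y hy
    refine ⟨(θ.symm ⟨y, hy⟩ : H₁), SetLike.coe_mem _, ?_⟩
    change γ * _ * γ⁻¹ = y
    rw [hconj, θ.apply_symm_apply]

theorem map_conj_stabilizer (g : Perm Ω) (a : Ω) :
    (stabilizer (Perm Ω) a).map (MulAut.conj g).toMonoidHom = stabilizer (Perm Ω) (g a) := by
  ext y
  simp only [Subgroup.mem_map, mem_stabilizer_iff, Perm.smul_def, MulEquiv.coe_toMonoidHom,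
    MulAut.conj_apply]
  constructor
  · rintro ⟨x, hx, rfl⟩; simp [hx]
  · intro hy
    exact ⟨g⁻¹ * y * g, by simp [hy], by group⟩

theorem transitive_ne_stabilizer (h6 : Fintype.card Ω = 6) (H : Subgroup (Perm Ω))
    (ht : IsPretransitive H Ω) (a : Ω) : H ≠ stabilizer (Perm Ω) a := by
  intro h
  obtain ⟨b, hb⟩ := Fintype.exists_ne_of_one_lt_card (by omega) a
  obtain ⟨x, hx⟩ := exists_smul_eq H a b
  have : (x : Perm Ω) ∈ stabilizer (Perm Ω) a := h ▸ x.2
  exact hb (hx.symm.trans (mem_stabilizer_iff.1 this))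

theorem classes (h6 : Fintype.card Ω = 6) :
    ∃ H₁ H₂ : Subgroup (Perm Ω), H₁.index = 6 ∧ H₂.index = 6 ∧
      (¬ ∃ g : Perm Ω, Subgroup.map (MulAut.conj g).toMonoidHom H₁ = H₂) ∧
      ∀ H : Subgroup (Perm Ω), H.index = 6 → ∃ g : Perm Ω,
        Subgroup.map (MulAut.conj g).toMonoidHom H₁ = H ∨ Subgroup.map (MulAut.conj g).toMonoidHom H₂ = H := by
  obtain ⟨a⟩ : Nonempty Ω := Fintype.card_pos_iff.1 (by omega)
  obtain ⟨H₂, h₂, t₂⟩ := exists_exotic h6
  refine ⟨stabilizer (Perm Ω) a, H₂, ?_, h₂, ?_, fun H hH => ?_⟩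
  · rw [index_stabilizer_of_transitive, Nat.card_eq_fintype_card, h6]
  · rintro ⟨g, hg⟩
    exact transitive_ne_stabilizer h6 H₂ t₂ (g a) (by rw [← hg, map_conj_stabilizer])
  · by_cases ht : IsPretransitive H Ω
    · obtain ⟨g, hg⟩ := conj_of_transitive h6 H₂ H h₂ hH t₂ ht
      exact ⟨g, Or.inr hg⟩
    · obtain ⟨x, hx⟩ := SymIndex.eq_stabilizer_of_not_transitive (hH.trans h6.symm) ht
      exact ⟨Equiv.swap a x, Or.inl (by rw [map_conj_stabilizer, Equiv.swap_apply_left, hx])⟩

theorem normalizer_eq (h6 : Fintype.card Ω = 6) (H : Subgroup (Perm Ω)) (hH : H.index = 6) :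
    Subgroup.normalizer (H : Set (Perm Ω)) = H := by
  classical
  have hA : ¬ alternatingGroup Ω ≤ H := fun hle => by
    have : Nontrivial Ω := Fintype.one_lt_card_iff_nontrivial.1 (by omega)
    have hd := Subgroup.index_dvd_of_le hle
    rw [alternatingGroup.index_eq_two, hH] at hd
    norm_num at hd
  set N := Subgroup.normalizer (H : Set (Perm Ω)) with hN
  have hle : H ≤ N := Subgroup.le_normalizer
  have hnorm : (H.subgroupOf N).Normal := Subgroup.normal_in_normalizer
  by_cases htop : N = ⊤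
  · have hn : H.Normal := Subgroup.normalizer_eq_top_iff.1 htop
    rcases SymIndex.normal_cases (by omega) H hn with h | h
    · subst h
      rw [Subgroup.index_bot, Nat.card_perm, Nat.card_eq_fintype_card, h6] at hH
      simp [Nat.factorial] at hH
    · exact absurd h hA
  by_cases hAN : N = alternatingGroup Ω
  · exfalso
    have hs : IsSimpleGroup (alternatingGroup Ω) :=
      alternatingGroup.isSimpleGroup (by rw [Nat.card_eq_fintype_card]; omega)
    have hn : (H.subgroupOf (alternatingGroup Ω)).Normal := hAN ▸ hnorm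
    rcases hn.eq_bot_or_eq_top with h | h
    · rw [Subgroup.subgroupOf_eq_bot, disjoint_iff, inf_eq_left.2 (hAN ▸ hle)] at h
      subst h
      rw [Subgroup.index_bot, Nat.card_perm, Nat.card_eq_fintype_card, h6] at hH
      simp [Nat.factorial] at hH
    · exact hA (Subgroup.subgroupOf_eq_top.1 h)
  refine (Subgroup.eq_of_le_of_card_ge hle ?_).symm
  have h := SymIndex.le_index (by omega) htop hAN
  have h1 := H.card_mul_index
  have h2 := N.card_mul_index
  rw [hH] at h1
  rw [h6] at h
  nlinarith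

theorem card_index_six (h6 : Fintype.card Ω = 6) :
    Nat.card {H : Subgroup (Perm Ω) // H.index = 6} = 12 := by
  classical
  obtain ⟨H₀, h₀, t₀⟩ := exists_exotic h6
  let c : Perm Ω → Subgroup (Perm Ω) := fun g => H₀.map (MulAut.conj g).toMonoidHom
  have hci : ∀ g, (c g).index = 6 := fun g => by
    exact (Subgroup.index_map_equiv H₀ (MulAut.conj g)).trans h₀
  have hct : ∀ g, IsPretransitive (c g) Ω := fun g => ⟨fun x y => by
    obtain ⟨k, hk⟩ := exists_smul_eq H₀ (g⁻¹ x) (g⁻¹ y)
    refine ⟨⟨_, k.1, k.2, rfl⟩, ?_⟩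
    change g ((k : Perm Ω) (g⁻¹ x)) = y
    rw [show (k : Perm Ω) (g⁻¹ x) = g⁻¹ y from hk]
    simp⟩
  have hceq : ∀ g k : Perm Ω, c g = c k ↔ g⁻¹ * k ∈ H₀ := by
    intro g k
    rw [← normalizer_eq h6 H₀ h₀, Subgroup.mem_normalizer_iff]
    simp only [SetLike.ext_iff, c, Subgroup.mem_map_equiv, MulAut.conj_symm_apply]
    constructor
    · intro h x
      simpa [mul_assoc] using ((h (k * x * k⁻¹)).symm : _)
    · intro h x
      simpa [mul_assoc] using (h (k⁻¹ * x * k)).symm
  let T : Ω ⊕ (Perm Ω ⧸ H₀) → {H : Subgroup (Perm Ω) // H.index = 6} := Sum.elim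
    (fun a => ⟨stabilizer (Perm Ω) a, by rw [index_stabilizer_of_transitive, Nat.card_eq_fintype_card, h6]⟩)
    (Quotient.lift (fun g => ⟨c g, hci g⟩) (fun g k hgk => Subtype.ext ((hceq g k).2
      (QuotientGroup.leftRel_apply.1 hgk))))
  have hT : Function.Bijective T := by
    refine ⟨?_, ?_⟩
    · rintro (a | g') (b | k') h
      all_goals (try induction g' using QuotientGroup.induction_on with | _ g => ?_)
      all_goals (try induction k' using QuotientGroup.induction_on with | _ k => ?_)
      all_goals have h' := congrArg Subtype.val h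
      all_goals dsimp [T] at h'
      · refine congrArg Sum.inl ?_
        by_contra hne
        obtain ⟨z, -, hz⟩ := Finset.exists_mem_notMem_of_card_lt_card (s := ({a, b} : Finset Ω))
          (t := Finset.univ) (by rw [Finset.card_univ, h6]; exact lt_of_le_of_lt Finset.card_le_two (by norm_num))
        simp only [Finset.mem_insert, Finset.mem_singleton, not_or] at hz
        have hs : Equiv.swap b z ∈ stabilizer (Perm Ω) a :=
          Equiv.swap_apply_of_ne_of_ne hne (Ne.symm hz.1)
        rw [h'] at hs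
        have : Equiv.swap b z b = b := hs
        rw [Equiv.swap_apply_left] at this
        exact hz.2 this
      · exact absurd h'.symm (transitive_ne_stabilizer h6 _ (hct k) a)
      · exact absurd h' (transitive_ne_stabilizer h6 _ (hct g) b)
      · exact congrArg Sum.inr (QuotientGroup.eq.2 ((hceq g k).1 h'))
    · rintro ⟨H, hH⟩
      by_cases ht : IsPretransitive H Ω
      · obtain ⟨g, hg⟩ := conj_of_transitive h6 H₀ H h₀ hH t₀ ht
        exact ⟨Sum.inr (g : Perm Ω ⧸ H₀), Subtype.ext hg⟩
      · obtain ⟨x, hx⟩ := SymIndex.eq_stabilizer_of_not_transitive (hH.trans h6.symm) ht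
        exact ⟨Sum.inl x, Subtype.ext hx.symm⟩
  rw [← Nat.card_congr (Equiv.ofBijective T hT), Nat.card_sum, ← Subgroup.index, h₀,
    Nat.card_eq_fintype_card, h6]

end CfsgLib.Lie.S6
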