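import Cfsg.Agent.Lie.SUGen

/-!
Short root elements of the unitary group and vectors with a full transvection group.
-/

set_option autoImplicit false
set_option linter.unusedSimpArgs false
set_option linter.unusedSectionVars false

namespace CfsgLib.Lie.SUFull

open Matrix
open CfsgLib.Lie.Herm (form_add_left form_add_right form_smul_left form_smul_right form_comm form_single mem_GU)
open CfsgLib.Lie.SUGen (tu tu_mulVec tu_mem_T tu_smul tu_mul tu_zero conj_tu Tz form_sub_left form_sub_right)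

variable {F : Type*} [Field F] [Fintype F] {q n : ℕ}

theorem form_zero_left (v : Fin n → F) : Cfsg.hermForm n F q 0 v = 0 := by simp [Cfsg.hermForm]

theorem form_eq_zero_symm (hF : Fintype.card F = q ^ 2) {u v : Fin n → F} (h : Cfsg.hermForm n F q u v = 0) :
    Cfsg.hermForm n F q v u = 0 := by
  rw [← form_comm hF u v, h, zero_pow (by have := Herm.two_le hF; omega)]

/-- the vector representing a functional -/
theorem exists_rep (hF : Fintype.card F = q ^ 2) (φ : (Fin n → F) →ₗ[F] F) :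
    ∃ y, ∀ x, Cfsg.hermForm n F q x y = φ x := by
  refine ⟨fun i => φ (Pi.single i 1) ^ q, fun x => ?_⟩
  conv_rhs => rw [pi_eq_sum_univ' x]
  rw [map_sum]
  simp only [map_smul, smul_eq_mul, Cfsg.hermForm, Herm.pow_pow_q hF]

theorem eq_zero_of_orth (hF : Fintype.card F = q ^ 2) {y : Fin n → F}
    (h : ∀ x, Cfsg.hermForm n F q x y = 0) : y = 0 := by
  funext i
  have h1 := form_eq_zero_symm hF (h (Pi.single i 1))
  rwa [form_single hF] at h1

theorem tz_norm_mul (hF : Fintype.card F = q ^ 2) {c : F} (hc : Tz q c) (μ : F) : Tz q (μ * μ ^ q * c) := by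
  unfold SUGen.Tz at hc ⊢
  rw [mul_pow, mul_pow, Herm.pow_pow_q hF]
  linear_combination μ * μ ^ q * hc

theorem tz_sub_conj (hF : Fintype.card F = q ^ 2) (x : F) : Tz q (x - x ^ q) := by
  unfold SUGen.Tz
  rw [← Herm.conj_apply hF (x - x ^ q), map_sub, Herm.conj_apply, Herm.conj_apply, Herm.pow_pow_q hF]
  ring

theorem exists_not_fixed (hF : Fintype.card F = q ^ 2) : ∃ θ : F, θ - θ ^ q ≠ 0 := by
  by_contra h
  push Not at h
  exact Herm.conj_ne_id hF (RingHom.ext fun a => (sub_eq_zero.1 (h a)).symm)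

theorem exists_E (hF : Fintype.card F = q ^ 2) {x y : Fin n → F} (hx : Cfsg.hermForm n F q x x = 0)
    (hy : Cfsg.hermForm n F q y y = 0) (hxy : Cfsg.hermForm n F q x y = 0) (c : F) :
    ∃ e ∈ SUGen.T n F q, ∀ v, (e : Matrix (Fin n) (Fin n) F) *ᵥ v =
      v + (c * Cfsg.hermForm n F q v y) • x - (c ^ q * Cfsg.hermForm n F q v x) • y := by
  obtain ⟨δ, hδ, hδ0⟩ := SUGen.exists_tz hF
  obtain ⟨α, hα⟩ : ∃ α, α = c / δ := ⟨_, rfl⟩
  have hαδ : δ * α = c := by rw [hα, mul_div_cancel₀ _ hδ0]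
  have hαq : δ * α ^ q = -(c ^ q) := by
    rw [← hαδ, mul_pow]; unfold SUGen.Tz at hδ; linear_combination α ^ q * hδ
  have hyx := form_eq_zero_symm hF hxy
  have hax : Cfsg.hermForm n F q (α • x) (α • x) = 0 := by rw [form_smul_left, form_smul_right, hx]; ring
  have hs : Cfsg.hermForm n F q (α • x + y) (α • x + y) = 0 := by
    rw [form_add_left, form_add_right hF, form_add_right hF, form_smul_left, form_smul_left,
      form_smul_right, form_smul_right, hx, hy, hxy, hyx]
    ring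
  refine ⟨tu q (α • x + y) δ * tu q (α • x) (-δ) * tu q y (-δ),
    mul_mem (mul_mem (tu_mem_T hs hδ) (tu_mem_T hax (SUGen.tz_neg hF hδ))) (tu_mem_T hy (SUGen.tz_neg hF hδ)),
    fun v => ?_⟩
  simp only [Units.val_mul, ← Matrix.mulVec_mulVec, tu_mulVec hs, tu_mulVec hax, tu_mulVec hy,
    form_add_left, form_add_right hF, form_smul_left, form_smul_right, hx, hy, hxy, hyx, mul_zero,
    add_zero, zero_add, ← hαδ]
  rw [show (δ * α) ^ q = -(δ * α ^ q) by rw [hαq, hαδ, neg_neg]]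
  module

/-- the short root element -/
noncomputable def EE (hF : Fintype.card F = q ^ 2) {x y : Fin n → F} (hx : Cfsg.hermForm n F q x x = 0)
    (hy : Cfsg.hermForm n F q y y = 0) (hxy : Cfsg.hermForm n F q x y = 0) (c : F) : GL (Fin n) F :=
  (exists_E hF hx hy hxy c).choose

theorem EE_mem (hF : Fintype.card F = q ^ 2) {x y : Fin n → F} (hx : Cfsg.hermForm n F q x x = 0)
    (hy : Cfsg.hermForm n F q y y = 0) (hxy : Cfsg.hermForm n F q x y = 0) (c : F) :
    EE hF hx hy hxy c ∈ SUGen.T n F q := (exists_E hF hx hy hxy c).choose_spec.1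

theorem EE_mulVec (hF : Fintype.card F = q ^ 2) {x y : Fin n → F} (hx : Cfsg.hermForm n F q x x = 0)
    (hy : Cfsg.hermForm n F q y y = 0) (hxy : Cfsg.hermForm n F q x y = 0) (c : F) (v : Fin n → F) :
    (EE hF hx hy hxy c : Matrix (Fin n) (Fin n) F) *ᵥ v =
      v + (c * Cfsg.hermForm n F q v y) • x - (c ^ q * Cfsg.hermForm n F q v x) • y :=
  (exists_E hF hx hy hxy c).choose_spec.2 v

/-- isotropic vectors all whose transvections lie in the group -/
def Full (q : ℕ) (M : Subgroup (GL (Fin n) F)) : Set (Fin n → F) :=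
  {v | Cfsg.hermForm n F q v v = 0 ∧ ∀ c, Tz q c → tu q v c ∈ M}

theorem full_map {M : Subgroup (GL (Fin n) F)} {g : GL (Fin n) F} (hg : g ∈ M) (hgU : g ∈ Cfsg.GU n F q)
    {v : Fin n → F} (hv : v ∈ Full q M) : (g : Matrix (Fin n) (Fin n) F) *ᵥ v ∈ Full q M :=
  ⟨by rw [mem_GU.1 hgU, hv.1], fun c hc => by
    rw [← conj_tu hgU hv.1]; exact M.mul_mem (M.mul_mem hg (hv.2 c hc)) (M.inv_mem hg)⟩

theorem full_smul (hF : Fintype.card F = q ^ 2) {M : Subgroup (GL (Fin n) F)} {v : Fin n → F}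
    (hv : v ∈ Full q M) (μ : F) : μ • v ∈ Full q M :=
  ⟨by rw [form_smul_left, form_smul_right, hv.1]; ring, fun c hc => by
    rw [tu_smul hF hv.1]; exact hv.2 _ (tz_norm_mul hF hc μ)⟩

theorem full_zero {M : Subgroup (GL (Fin n) F)} : (0 : Fin n → F) ∈ Full q M := by
  refine ⟨form_zero_left 0, fun c _ => ?_⟩
  have : tu q (0 : Fin n → F) c = 1 := FormMaxSL.gl_ext fun x => by
    rw [tu_mulVec (form_zero_left 0)]; simp
  rw [this]; exact M.one_mem

theorem full_move (hF : Fintype.card F = q ^ 2) {M : Subgroup (GL (Fin n) F)} {u v : Fin n → F}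
    (hu : u ∈ Full q M) (hv : v ∈ Full q M) {c : F} (hc : Tz q c) :
    u + (c * Cfsg.hermForm n F q u v) • v ∈ Full q M := by
  rw [← tu_mulVec hv.1 c u]
  exact full_map (hv.2 c hc) (SUGen.tu_mem_GU hF v hc) hu

theorem le_of_full (hF : Fintype.card F = q ^ 2) (hn : 3 ≤ n) (h32 : ¬ (n = 3 ∧ q = 2))
    {M : Subgroup (GL (Fin n) F)} (h : ∀ v, Cfsg.hermForm n F q v v = 0 → v ∈ Full q M) :
    Cfsg.GU n F q ⊓ Cfsg.Geo.specialLinear (Fin n) F ≤ M := by
  refine (SUGen.su_le_T hF hn h32).trans ?_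
  rw [SUGen.T, Subgroup.closure_le]
  rintro _ ⟨v, c, hv, hc, rfl⟩
  exact (h v hv).2 c hc

end CfsgLib.Lie.SUFull
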