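import Cfsg.Prelude.Def_GeometricClasses
import Cfsg.Agent.Lie.Herm
import Cfsg.Agent.Lie.Unitary
import Cfsg.Agent.Lie.FormMaxSL

/-!
The special unitary group is generated by its transvections.
-/

set_option autoImplicit false
set_option linter.unusedSimpArgs false
set_option linter.unusedSectionVars false

namespace CfsgLib.Lie.SUGen

open Matrix
open CfsgLib.Lie.Herm (form_add_left form_add_right form_smul_left form_smul_right form_comm form_single mem_GU)

variable {F : Type*} [Field F] [Fintype F] {q n : ℕ}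

theorem form_sub_left (u u' v : Fin n → F) :
    Cfsg.hermForm n F q (u - u') v = Cfsg.hermForm n F q u v - Cfsg.hermForm n F q u' v := by
  rw [eq_sub_iff_add_eq, ← form_add_left, sub_add_cancel]

theorem form_sub_right [Fintype F] (hF : Fintype.card F = q ^ 2) (u v v' : Fin n → F) :
    Cfsg.hermForm n F q u (v - v') = Cfsg.hermForm n F q u v - Cfsg.hermForm n F q u v' := by
  rw [eq_sub_iff_add_eq, ← form_add_right hF, sub_add_cancel]

/-- a rank one update of the identity -/
theorem det_upd (f u : Fin n → F) (a : F) :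
    (1 + a • Matrix.vecMulVec f (fun j => u j ^ q)).det = 1 + a * Cfsg.hermForm n F q f u := by
  rw [← Matrix.smul_vecMulVec, Matrix.vecMulVec_eq Unit, Matrix.det_one_add_replicateCol_mul_replicateRow,
    dotProduct_smul, smul_eq_mul]
  congr 2
  simp only [dotProduct, Cfsg.hermForm]
  exact Finset.sum_congr rfl fun i _ => by ring

theorem upd_mulVec (f u : Fin n → F) (a : F) (x : Fin n → F) :
    (1 + a • Matrix.vecMulVec f (fun j => u j ^ q)) *ᵥ x = x + (a * Cfsg.hermForm n F q x u) • f := by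
  rw [Matrix.add_mulVec, Matrix.one_mulVec, Matrix.smul_mulVec, Matrix.vecMulVec_mulVec]
  funext i
  simp [Cfsg.hermForm, dotProduct, mul_comm, mul_left_comm]

open Classical in
/-- the unitary transvection as an element of `GL` -/
noncomputable def tu (q : ℕ) (v : Fin n → F) (c : F) : GL (Fin n) F :=
  if h : Cfsg.hermForm n F q v v = 0 then
    Matrix.GeneralLinearGroup.mk'' (Cfsg.unitaryTransvection n q v c)
      (by rw [Cfsg.unitaryTransvection, det_upd, h, mul_zero, add_zero]; exact isUnit_one)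
  else 1

theorem tu_val {v : Fin n → F} (hv : Cfsg.hermForm n F q v v = 0) (c : F) :
    ((tu q v c : GL (Fin n) F) : Matrix (Fin n) (Fin n) F) = Cfsg.unitaryTransvection n q v c := by
  rw [tu, dif_pos hv]; rfl

theorem tu_mulVec {v : Fin n → F} (hv : Cfsg.hermForm n F q v v = 0) (c : F) (x : Fin n → F) :
    ((tu q v c : GL (Fin n) F) : Matrix (Fin n) (Fin n) F) *ᵥ x = x + (c * Cfsg.hermForm n F q x v) • v := by
  rw [tu_val hv, Cfsg.unitaryTransvection, upd_mulVec]

theorem tu_mem_SL (v : Fin n → F) (c : F) : tu q v c ∈ Cfsg.Geo.specialLinear (Fin n) F := by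
  rw [Cfsg.Geo.specialLinear, MonoidHom.mem_ker]
  refine Units.ext ?_
  by_cases hv : Cfsg.hermForm n F q v v = 0
  · show ((tu q v c : GL (Fin n) F) : Matrix (Fin n) (Fin n) F).det = 1
    rw [tu_val hv, Cfsg.unitaryTransvection, det_upd, hv, mul_zero, add_zero]
  · rw [tu, dif_neg hv]; simp

theorem tu_mul {v : Fin n → F} (hv : Cfsg.hermForm n F q v v = 0) (c d : F) :
    tu q v c * tu q v d = tu q v (c + d) := by
  refine FormMaxSL.gl_ext fun x => ?_
  rw [Units.val_mul, ← Matrix.mulVec_mulVec, tu_mulVec hv, tu_mulVec hv, tu_mulVec hv, form_add_left,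
    form_smul_left, hv, mul_zero, add_zero]
  module

theorem tu_zero (v : Fin n → F) : tu q v (0 : F) = 1 := by
  refine FormMaxSL.gl_ext fun x => ?_
  by_cases hv : Cfsg.hermForm n F q v v = 0
  · rw [tu_mulVec hv]; simp
  · rw [tu, dif_neg hv]

theorem tu_inv {v : Fin n → F} (hv : Cfsg.hermForm n F q v v = 0) (c : F) :
    (tu q v c)⁻¹ = tu q v (-c) :=
  inv_eq_of_mul_eq_one_right (by rw [tu_mul hv, add_neg_cancel, tu_zero])


theorem tu_smul (hF : Fintype.card F = q ^ 2) {v : Fin n → F} (hv : Cfsg.hermForm n F q v v = 0) (a c : F) :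
    tu q (a • v) c = tu q v (a * a ^ q * c) := by
  refine FormMaxSL.gl_ext fun x => ?_
  rw [tu_mulVec (by rw [form_smul_left, form_smul_right, hv, mul_zero, mul_zero]), tu_mulVec hv,
    form_smul_right, smul_smul]
  congr 2
  ring

/-- trace zero -/
def Tz (q : ℕ) (c : F) : Prop := c ^ q + c = 0

theorem tu_mem_GU (hF : Fintype.card F = q ^ 2) (v : Fin n → F) {c : F} (hc : Tz q c) :
    tu q v c ∈ Cfsg.GU n F q := by
  by_cases hv : Cfsg.hermForm n F q v v = 0
  · rw [mem_GU]
    intro x y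
    rw [tu_mulVec hv, tu_mulVec hv, form_add_left, form_add_right hF, form_add_right hF,
      form_smul_left, form_smul_left, form_smul_right, form_smul_right, hv, mul_pow, form_comm hF]
    unfold Tz at hc
    linear_combination (Cfsg.hermForm n F q x v * Cfsg.hermForm n F q v y) * hc
  · rw [tu, dif_neg hv]; exact one_mem _

theorem conj_tu {g : GL (Fin n) F} (hg : g ∈ Cfsg.GU n F q) {v : Fin n → F}
    (hv : Cfsg.hermForm n F q v v = 0) (c : F) :
    g * tu q v c * g⁻¹ = tu q ((g : Matrix (Fin n) (Fin n) F) *ᵥ v) c := by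
  have hgv : Cfsg.hermForm n F q ((g : Matrix (Fin n) (Fin n) F) *ᵥ v) ((g : Matrix (Fin n) (Fin n) F) *ᵥ v) = 0 := by
    rw [mem_GU.1 hg, hv]
  refine FormMaxSL.gl_ext fun x => ?_
  obtain ⟨y, rfl⟩ : ∃ y, (g : Matrix (Fin n) (Fin n) F) *ᵥ y = x := ⟨_, FormMaxSL.mulVec_inv_mulVec g x⟩
  rw [Units.val_mul, Units.val_mul, ← Matrix.mulVec_mulVec, ← Matrix.mulVec_mulVec,
    FormMaxSL.inv_mulVec_mulVec, tu_mulVec hv, tu_mulVec hgv, mem_GU.1 hg, Matrix.mulVec_add,
    Matrix.mulVec_smul]

/-- the group generated by the unitary transvections -/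
def T (n : ℕ) (F : Type*) [Field F] [Fintype F] (q : ℕ) : Subgroup (GL (Fin n) F) :=
  Subgroup.closure {g | ∃ (v : Fin n → F) (c : F), Cfsg.hermForm n F q v v = 0 ∧ c ^ q + c = 0 ∧ g = tu q v c}

theorem tu_mem_T {v : Fin n → F} (hv : Cfsg.hermForm n F q v v = 0) {c : F} (hc : Tz q c) :
    tu q v c ∈ T n F q := Subgroup.subset_closure ⟨v, c, hv, hc, rfl⟩

theorem T_le (hF : Fintype.card F = q ^ 2) : T n F q ≤ Cfsg.GU n F q ⊓ Cfsg.Geo.specialLinear (Fin n) F := by
  rw [T, Subgroup.closure_le]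
  rintro _ ⟨v, c, -, hc, rfl⟩
  exact ⟨tu_mem_GU hF v hc, tu_mem_SL v c⟩

theorem conj_mem_T {g : GL (Fin n) F} (hg : g ∈ Cfsg.GU n F q) {t : GL (Fin n) F} (ht : t ∈ T n F q) :
    g * t * g⁻¹ ∈ T n F q := by
  have h : T n F q ≤ (T n F q).comap (MulAut.conj g).toMonoidHom := by
    rw [T, Subgroup.closure_le]
    rintro _ ⟨v, c, hv, hc, rfl⟩
    rw [SetLike.mem_coe, Subgroup.mem_comap]
    show g * tu q v c * g⁻¹ ∈ T n F q
    rw [conj_tu hg hv]
    exact tu_mem_T (by rw [mem_GU.1 hg, hv]) hc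
  exact h ht

/-- vectors supported in `I` -/
def Supp (I : Finset (Fin n)) (x : Fin n → F) : Prop := ∀ i ∉ I, x i = 0

/-- elements fixing the coordinate vectors outside `I` -/
def Fix (I : Finset (Fin n)) (g : GL (Fin n) F) : Prop :=
  ∀ i ∉ I, (g : Matrix (Fin n) (Fin n) F) *ᵥ Pi.single i 1 = Pi.single i 1

theorem Fix.mul {I : Finset (Fin n)} {g h : GL (Fin n) F} (hg : Fix I g) (hh : Fix I h) : Fix I (g * h) := by
  intro i hi
  rw [Units.val_mul, ← Matrix.mulVec_mulVec, hh i hi, hg i hi]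

theorem Fix.inv {I : Finset (Fin n)} {g : GL (Fin n) F} (hg : Fix I g) : Fix I g⁻¹ := by
  intro i hi
  conv_lhs => rw [← hg i hi]
  rw [FormMaxSL.inv_mulVec_mulVec]

theorem Fix.one {I : Finset (Fin n)} : Fix I (1 : GL (Fin n) F) := fun i _ => by
  rw [Units.val_one, Matrix.one_mulVec]

theorem Supp.mono {I J : Finset (Fin n)} (h : I ⊆ J) {x : Fin n → F} (hx : Supp I x) : Supp J x :=
  fun i hi => hx i fun h' => hi (h h')

theorem Fix.mono {I J : Finset (Fin n)} (h : I ⊆ J) {g : GL (Fin n) F} (hg : Fix I g) : Fix J g :=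
  fun i hi => hg i fun h' => hi (h h')

theorem tu_fix (hF : Fintype.card F = q ^ 2) {I : Finset (Fin n)} {v : Fin n → F} (hI : Supp I v)
    (hv : Cfsg.hermForm n F q v v = 0) (c : F) : Fix I (tu q v c) := by
  intro i hi
  rw [tu_mulVec hv, ← form_comm hF v, form_single hF, hI i hi,
    zero_pow (by have := Herm.two_le hF; omega), mul_zero, zero_smul, add_zero]

theorem coord_eq (hF : Fintype.card F = q ^ 2) {I : Finset (Fin n)} {g : GL (Fin n) F}
    (hg : g ∈ Cfsg.GU n F q) (hfix : Fix I g) {i : Fin n} (hi : i ∉ I) (x : Fin n → F) :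
    ((g : Matrix (Fin n) (Fin n) F) *ᵥ x) i = x i := by
  rw [← form_single hF i ((g : Matrix (Fin n) (Fin n) F) *ᵥ x), ← hfix i hi, mem_GU.1 hg, form_single hF]

theorem exists_tz (hF : Fintype.card F = q ^ 2) : ∃ c : F, Tz q c ∧ c ≠ 0 := by
  obtain ⟨a, ha⟩ : ∃ a : F, a ^ q ≠ a := by
    by_contra h
    push Not at h
    exact Herm.conj_ne_id hF (RingHom.ext h)
  refine ⟨a - a ^ q, ?_, sub_ne_zero.2 (Ne.symm ha)⟩
  unfold Tz
  rw [← Herm.conj_apply hF (a - a ^ q), map_sub, Herm.conj_apply, Herm.conj_apply, Herm.pow_pow_q hF]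
  ring

theorem exists_tz_ne (hF : Fintype.card F = q ^ 2) (hq : 3 ≤ q) :
    ∃ c d : F, Tz q c ∧ c ≠ 0 ∧ Tz q d ∧ d ≠ 0 ∧ c ≠ d := by
  obtain ⟨c, hc, hc0⟩ := exists_tz hF
  have hcard := Herm.card_fixed_units hF
  obtain ⟨⟨μ, hμ0, hμ⟩, hne⟩ : ∃ μ : {c : F // c ≠ 0 ∧ c ^ q = c}, μ.1 ≠ 1 := by
    by_contra h
    push Not at h
    have : Subsingleton {c : F // c ≠ 0 ∧ c ^ q = c} := ⟨fun a b => Subtype.ext ((h a).trans (h b).symm)⟩
    have := Finite.card_le_one_iff_subsingleton.2 this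
    omega
  refine ⟨c, μ * c, hc, hc0, ?_, mul_ne_zero hμ0 hc0, fun h => hne ?_⟩
  · unfold Tz at hc ⊢
    rw [mul_pow, hμ, ← mul_add, hc, mul_zero]
  · exact mul_right_cancel₀ hc0 (h.symm.trans (one_mul c).symm)

theorem tz_inv (hF : Fintype.card F = q ^ 2) {c : F} (hc : Tz q c) (hc0 : c ≠ 0) : Tz q c⁻¹ := by
  unfold Tz at hc ⊢
  rw [inv_pow, eq_neg_of_add_eq_zero_left hc, inv_neg, neg_add_cancel]

theorem tz_neg (hF : Fintype.card F = q ^ 2) {c : F} (hc : Tz q c) : Tz q (-c) := by
  unfold Tz at hc ⊢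
  rw [← Herm.conj_apply hF (-c), map_neg, Herm.conj_apply]
  linear_combination -hc

/-- A move along an isotropic difference. -/
theorem move (hF : Fintype.card F = q ^ 2) {I : Finset (Fin n)} {v w : Fin n → F} (hv : Supp I v) (hw : Supp I w)
    {lam : F} (hvv : Cfsg.hermForm n F q v v = lam) (hww : Cfsg.hermForm n F q w w = lam) {δ : F} (hδ : Tz q δ)
    (hδ0 : δ ≠ 0) (hvw : Cfsg.hermForm n F q v w = lam + δ) :
    ∃ t ∈ T n F q, Fix I t ∧ (t : Matrix (Fin n) (Fin n) F) *ᵥ v = w := by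
  have hlam : lam ^ q = lam := hvv ▸ form_comm hF v v
  have hwv : Cfsg.hermForm n F q w v = lam - δ := by
    rw [← form_comm hF v w, hvw, Herm.add_pow_q hF, hlam]
    unfold Tz at hδ
    linear_combination hδ
  have hu : Cfsg.hermForm n F q (w - v) (w - v) = 0 := by
    rw [form_sub_left, form_sub_right hF, form_sub_right hF, hww, hwv, hvw, hvv]
    ring
  have hsup : Supp I (w - v) := fun i hi => by rw [Pi.sub_apply, hw i hi, hv i hi, sub_zero]
  refine ⟨tu q (w - v) δ⁻¹, tu_mem_T hu (tz_inv hF hδ hδ0), tu_fix hF hsup hu _, ?_⟩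
  rw [tu_mulVec hu, form_sub_right hF, hvw, hvv, add_sub_cancel_left, inv_mul_cancel₀ hδ0, one_smul,
    add_sub_cancel]

/-- Witness orthogonal to one vector and not to another. -/
theorem exists_sep (hF : Fintype.card F = q ^ 2) {I : Finset (Fin n)} {v w : Fin n → F} (hv : Supp I v)
    (hw : Supp I w) (hv0 : v ≠ 0) (hne : ∀ a : F, w ≠ a • v) :
    ∃ z, Supp I z ∧ Cfsg.hermForm n F q z v = 0 ∧ Cfsg.hermForm n F q z w = 1 := by
  obtain ⟨i, hi⟩ := Function.ne_iff.1 hv0
  obtain ⟨j, hj⟩ := Function.ne_iff.1 (sub_ne_zero.2 (hne (w i / v i)))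
  simp only [Pi.zero_apply, Pi.sub_apply, Pi.smul_apply, smul_eq_mul] at hi hj
  have hiI : i ∈ I := by by_contra h; exact hi (hv i h)
  have hjI : j ∈ I := by by_contra h; exact hj (by rw [hv j h, hw j h, mul_zero, sub_zero])
  have hs : ∀ (k : Fin n) (x : Fin n → F), Cfsg.hermForm n F q (Pi.single k 1) x = x k ^ q := fun k x => by
    rw [← form_comm hF x, form_single hF]
  obtain ⟨s, hs'⟩ : ∃ s : F, s = (w j - w i / v i * v j) ^ q := ⟨_, rfl⟩
  have hs0 : s ≠ 0 := hs' ▸ pow_ne_zero _ hj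
  refine ⟨s⁻¹ • (Pi.single j 1 - (v j / v i) ^ q • Pi.single i 1), fun k hk => ?_, ?_, ?_⟩
  · have h1 : k ≠ i := fun h => hk (h ▸ hiI)
    have h2 : k ≠ j := fun h => hk (h ▸ hjI)
    simp [h1, h2]
  · rw [form_smul_left, form_sub_left, form_smul_left, hs, hs, ← mul_pow, div_mul_cancel₀ _ hi,
      sub_self, mul_zero]
  · rw [form_smul_left, form_sub_left, form_smul_left, hs, hs, ← mul_pow]
    have e : w j ^ q - (v j / v i * w i) ^ q = s := by
      rw [hs', ← Herm.conj_apply hF (w j - w i / v i * v j), map_sub, Herm.conj_apply, Herm.conj_apply]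
      congr 2
      ring
    rw [e, inv_mul_cancel₀ hs0]

/-- The common neighbour. -/
theorem exists_between (hF : Fintype.card F = q ^ 2) {I : Finset (Fin n)} (hI : 3 ≤ I.card)
    (hq : 4 ≤ I.card ∨ 3 ≤ q) {v w : Fin n → F} (hv : Supp I v) (hw : Supp I w)
    {lam : F} (hlam0 : lam ≠ 0) (hvv : Cfsg.hermForm n F q v v = lam) (hww : Cfsg.hermForm n F q w w = lam)
    (hne : ∀ a : F, w ≠ a • v) :
    ∃ (z : Fin n → F) (δ₁ δ₂ : F), Supp I z ∧ Cfsg.hermForm n F q z z = lam ∧ Tz q δ₁ ∧ δ₁ ≠ 0 ∧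
      Tz q δ₂ ∧ δ₂ ≠ 0 ∧ Cfsg.hermForm n F q v z = lam + δ₁ ∧ Cfsg.hermForm n F q w z = lam + δ₂ := by
  have h0 : q ≠ 0 := by have := Herm.two_le hF; omega
  have hlam : lam ^ q = lam := hvv ▸ form_comm hF v v
  have hz00 : ∀ x : Fin n → F, Cfsg.hermForm n F q 0 x = 0 := fun x => by simp [Cfsg.hermForm]
  have hv0 : v ≠ 0 := fun h => hlam0 (by rw [← hvv, h, hz00])
  have hw0 : w ≠ 0 := fun h => hlam0 (by rw [← hww, h, hz00])
  have hne' : ∀ a : F, v ≠ a • w := by
    intro a h
    have ha : a ≠ 0 := fun h' => hv0 (by rw [h, h', zero_smul])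
    exact hne a⁻¹ (by rw [h, smul_smul, inv_mul_cancel₀ ha, one_smul])
  obtain ⟨z2, hz2, hz2v, hz2w⟩ := exists_sep hF hv hw hv0 hne
  obtain ⟨z1, hz1, hz1w, hz1v⟩ := exists_sep hF hw hv hw0 hne'
  -- vectors with prescribed products
  have hpre : ∀ δ₁ δ₂ : F, ∃ z, Supp I z ∧ Cfsg.hermForm n F q v z = lam + δ₁ ∧
      Cfsg.hermForm n F q w z = lam + δ₂ := by
    intro δ₁ δ₂
    refine ⟨(lam + δ₁) ^ q • z1 + (lam + δ₂) ^ q • z2, fun i hi => by simp [hz1 i hi, hz2 i hi], ?_, ?_⟩
    · rw [form_add_right hF, form_smul_right, form_smul_right, Herm.pow_pow_q hF, Herm.pow_pow_q hF,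
        ← form_comm hF z1 v, ← form_comm hF z2 v, hz1v, hz2v, one_pow, zero_pow h0, mul_one, mul_zero, add_zero]
    · rw [form_add_right hF, form_smul_right, form_smul_right, Herm.pow_pow_q hF, Herm.pow_pow_q hF,
        ← form_comm hF z1 w, ← form_comm hF z2 w, hz1w, hz2w, one_pow, zero_pow h0, mul_one, mul_zero, zero_add]
  by_cases hK : ∃ r, Supp I r ∧ Cfsg.hermForm n F q r v = 0 ∧ Cfsg.hermForm n F q r w = 0 ∧
      Cfsg.hermForm n F q r r ≠ 0
  · obtain ⟨r, hr, hrv, hrw, hrr⟩ := hK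
    obtain ⟨δ, hδ, hδ0⟩ := exists_tz hF
    obtain ⟨z, hz, hvz, hwz⟩ := hpre δ δ
    obtain ⟨z', hz'⟩ : ∃ z', z' = z - (Cfsg.hermForm n F q z r / Cfsg.hermForm n F q r r) • r := ⟨_, rfl⟩
    have hrv' : Cfsg.hermForm n F q v r = 0 := by rw [← form_comm hF r v, hrv, zero_pow h0]
    have hrw' : Cfsg.hermForm n F q w r = 0 := by rw [← form_comm hF r w, hrw, zero_pow h0]
    have hz'r : Cfsg.hermForm n F q z' r = 0 := by
      rw [hz', form_sub_left, form_smul_left, div_mul_cancel₀ _ hrr, sub_self]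
    have hrz' : Cfsg.hermForm n F q r z' = 0 := by rw [← form_comm hF z' r, hz'r, zero_pow h0]
    obtain ⟨a, ha⟩ : ∃ a : F, a * a ^ q * Cfsg.hermForm n F q r r = lam - Cfsg.hermForm n F q z' z' := by
      obtain ⟨c, hc⟩ : ∃ c, c = (lam - Cfsg.hermForm n F q z' z') / Cfsg.hermForm n F q r r := ⟨_, rfl⟩
      by_cases hc0 : c = 0
      · refine ⟨0, ?_⟩
        rw [hc, div_eq_zero_iff] at hc0
        rw [hc0.resolve_right hrr, zero_mul, zero_mul]
      obtain ⟨a, -, ha⟩ := Herm.exists_norm hF c hc0 (by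
        rw [hc, div_pow, ← Herm.conj_apply hF (lam - _), map_sub, Herm.conj_apply, Herm.conj_apply,
          hlam, form_comm hF, form_comm hF])
      exact ⟨a, by rw [ha, hc, div_mul_cancel₀ _ hrr]⟩
    refine ⟨z' + a • r, δ, δ, fun i hi => by simp [hz', hz i hi, hr i hi], ?_, hδ, hδ0, hδ, hδ0, ?_, ?_⟩
    · rw [form_add_left, form_add_right hF, form_add_right hF, form_smul_left, form_smul_left,
        form_smul_right, form_smul_right, hz'r, hrz']
      linear_combination ha
    · rw [form_add_right hF, form_smul_right, hrv', hz', form_sub_right hF, form_smul_right, hrv', hvz]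
      ring
    · rw [form_add_right hF, form_smul_right, hrw', hz', form_sub_right hF, form_smul_right, hrw', hwz]
      ring
  push Not at hK
  classical
  -- the kernel of the two functionals
  let K : Submodule F (Fin n → F) :=
    { carrier := {r | Supp I r ∧ Cfsg.hermForm n F q r v = 0 ∧ Cfsg.hermForm n F q r w = 0}
      zero_mem' := ⟨fun i _ => rfl, hz00 v, hz00 w⟩
      add_mem' := fun {x y} hx hy => ⟨fun i hi => by simp [hx.1 i hi, hy.1 i hi],
        by rw [form_add_left, hx.2.1, hy.2.1, add_zero], by rw [form_add_left, hx.2.2, hy.2.2, add_zero]⟩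
      smul_mem' := fun a x hx => ⟨fun i hi => by simp [hx.1 i hi],
        by rw [form_smul_left, hx.2.1, mul_zero], by rw [form_smul_left, hx.2.2, mul_zero]⟩ }
  have hKmem : ∀ r, r ∈ K ↔ Supp I r ∧ Cfsg.hermForm n F q r v = 0 ∧ Cfsg.hermForm n F q r w = 0 :=
    fun r => Iff.rfl
  let proj : (Fin n → F) →ₗ[F] (Fin n → F) :=
    { toFun := fun x => x - Cfsg.hermForm n F q x v • z1 - Cfsg.hermForm n F q x w • z2
      map_add' := fun x y => by rw [form_add_left, form_add_left, add_smul, add_smul]; abel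
      map_smul' := fun a x => by
        rw [form_smul_left, form_smul_left, RingHom.id_apply, smul_sub, smul_sub, smul_smul, smul_smul] }
  have hproj : ∀ x, Supp I x → proj x ∈ K := by
    intro x hx
    refine (hKmem _).2 ⟨fun i hi => by simp [proj, hx i hi, hz1 i hi, hz2 i hi], ?_, ?_⟩
    · show Cfsg.hermForm n F q (x - _ • z1 - _ • z2) v = 0
      rw [form_sub_left, form_sub_left, form_smul_left, form_smul_left, hz1v, hz2v]; ring
    · show Cfsg.hermForm n F q (x - _ • z1 - _ • z2) w = 0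
      rw [form_sub_left, form_sub_left, form_smul_left, form_smul_left, hz1w, hz2w]; ring
  -- totally isotropic
  have hKK : ∀ r ∈ K, ∀ s ∈ K, Cfsg.hermForm n F q r s = 0 := by
    intro r hr s hs
    by_contra hne
    obtain ⟨a, ha⟩ := Witt.exists_trace (Herm.conj hF) (Herm.conj_ne_id hF) (Herm.conj_conj hF) 1 (map_one _)
    obtain ⟨b, hb⟩ : ∃ b, b = a / Cfsg.hermForm n F q r s := ⟨_, rfl⟩
    have hbs := K.add_mem (K.smul_mem b hr) hs
    have h1 := hK _ hbs.1 hbs.2.1 hbs.2.2
    rw [form_add_left, form_add_right hF, form_add_right hF, form_smul_left, form_smul_left,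
      form_smul_right, form_smul_right, hK r hr.1 hr.2.1 hr.2.2, hK s hs.1 hs.2.1 hs.2.2,
      ← form_comm hF r s, ← mul_pow, hb, div_mul_cancel₀ _ hne] at h1
    rw [Herm.conj_apply] at ha
    exact one_ne_zero (by linear_combination h1 - ha)
  have hKspan : K ≤ Submodule.span F {v, w} := by
    intro r hr
    have e : r = (Cfsg.hermForm n F q z1 r) ^ q • v + (Cfsg.hermForm n F q z2 r) ^ q • w := by
      funext i
      by_cases hi : i ∈ I
      · have h1 := hKK _ (hproj (Pi.single i 1) (fun j hj => Pi.single_eq_of_ne (fun h => hj (by rw [h]; exact hi)) _)) r hr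
        simp only [proj, LinearMap.coe_mk, AddHom.coe_mk] at h1
        rw [form_sub_left, form_sub_left, form_smul_left, form_smul_left, ← form_comm hF r (Pi.single i 1),
          ← form_comm hF v (Pi.single i 1), ← form_comm hF w (Pi.single i 1), form_single hF,
          form_single hF, form_single hF] at h1
        have h2 := congrArg (Herm.conj hF) h1
        rw [map_sub, map_sub, map_mul, map_mul, map_zero] at h2
        simp only [Herm.conj_apply, Herm.pow_pow_q hF] at h2
        simp only [Pi.add_apply, Pi.smul_apply, smul_eq_mul]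
        linear_combination h2
      · simp [hr.1 i hi, hv i hi, hw i hi]
    rw [e]
    exact add_mem (Submodule.smul_mem _ _ (Submodule.subset_span (by simp)))
      (Submodule.smul_mem _ _ (Submodule.subset_span (by simp)))
  have hdim : I.card - 2 ≤ Module.finrank F K := by
    let U : (↥I → F) →ₗ[F] (Fin n → F) :=
      { toFun := fun x i => if h : i ∈ I then x ⟨i, h⟩ else 0
        map_add' := fun x y => funext fun i => by by_cases h : i ∈ I <;> simp [h]
        map_smul' := fun a x => funext fun i => by by_cases h : i ∈ I <;> simp [h] }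
    let φ : (↥I → F) →ₗ[F] F × F :=
      LinearMap.prod ((Herm.hb n hF v).comp U) ((Herm.hb n hF w).comp U)
    have h1 := LinearMap.finrank_range_add_finrank_ker φ
    have h2 := Submodule.finrank_le (LinearMap.range φ)
    rw [Module.finrank_prod, Module.finrank_self] at h2
    rw [Module.finrank_fintype_fun_eq_card, Fintype.card_coe] at h1
    have hUI : ∀ x, Supp I (U x) := fun x i hi => by simp [U, hi]
    have hUinj : Function.Injective U := fun x y h => funext fun i => by
      have := congrFun h i.1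
      simpa [U, i.2] using this
    have h3 : (LinearMap.ker φ).map U ≤ K := by
      rintro _ ⟨x, hx, rfl⟩
      rw [SetLike.mem_coe, LinearMap.mem_ker, Prod.ext_iff] at hx
      exact (hKmem _).2 ⟨hUI x, hx.1, hx.2⟩
    have h4 := Submodule.finrank_mono h3
    rw [← (Submodule.equivMapOfInjective U hUinj (LinearMap.ker φ)).finrank_eq] at h4
    omega
  have hI3 : I.card = 3 ∧ 3 ≤ q := by
    by_contra h
    have h4 : 4 ≤ I.card := by omega
    have heq : K = Submodule.span F {v, w} := by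
      refine Submodule.eq_of_le_of_finrank_le hKspan ?_
      have := FormMaxSL.finrank_pair_le v w
      omega
    have : v ∈ K := heq ▸ Submodule.subset_span (by simp)
    exact hlam0 (hvv ▸ this.2.1)
  obtain ⟨r, hr, hr0⟩ : ∃ r ∈ K, r ≠ 0 := by
    by_contra h
    push Not at h
    have : K = ⊥ := (Submodule.eq_bot_iff _).2 h
    rw [this, finrank_bot] at hdim
    omega
  obtain ⟨α, β, hαβ⟩ := Submodule.mem_span_pair.1 (hKspan hr)
  have hα : α ≠ 0 := by
    intro h
    rw [h, zero_smul, zero_add] at hαβ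
    have h1 := hr.2.2
    rw [← hαβ, form_smul_left, hww, mul_eq_zero, or_iff_left hlam0] at h1
    exact hr0 (by rw [← hαβ, h1, zero_smul])
  obtain ⟨c, d, hc, hc0, hd, hd0, hcd⟩ := exists_tz_ne hF hI3.2
  obtain ⟨δ₁, hδ₁, hδ₁0, hρ⟩ : ∃ δ₁, Tz q δ₁ ∧ δ₁ ≠ 0 ∧ α * (lam + δ₁) + β * (lam + c) ≠ 0 := by
    by_cases h : α * (lam + c) + β * (lam + c) = 0
    · exact ⟨d, hd, hd0, fun h' => hcd (mul_left_cancel₀ hα (by linear_combination h - h'))⟩
    · exact ⟨c, hc, hc0, h⟩
  obtain ⟨z, hz, hvz, hwz⟩ := hpre δ₁ c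
  have hrz : Cfsg.hermForm n F q r z = α * (lam + δ₁) + β * (lam + c) := by
    rw [← hαβ, form_add_left, form_smul_left, form_smul_left, hvz, hwz]
  obtain ⟨μ, hμ⟩ := Witt.exists_trace (Herm.conj hF) (Herm.conj_ne_id hF) (Herm.conj_conj hF)
    (lam - Cfsg.hermForm n F q z z) (by
      rw [map_sub, Herm.conj_apply, Herm.conj_apply, hlam, form_comm hF])
  rw [Herm.conj_apply] at hμ
  obtain ⟨a, ha⟩ : ∃ a, a = μ / Cfsg.hermForm n F q r z := ⟨_, rfl⟩
  have hrv' : Cfsg.hermForm n F q v r = 0 := by rw [← form_comm hF r v, hr.2.1, zero_pow h0]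
  have hrw' : Cfsg.hermForm n F q w r = 0 := by rw [← form_comm hF r w, hr.2.2, zero_pow h0]
  refine ⟨z + a • r, δ₁, c, fun i hi => by simp [hz i hi, hr.1 i hi], ?_, hδ₁, hδ₁0, hc, hc0, ?_, ?_⟩
  · rw [form_add_left, form_add_right hF, form_add_right hF, form_smul_left, form_smul_left,
      form_smul_right, form_smul_right, hKK r hr r hr, ← form_comm hF r z, ← mul_pow, ha,
      div_mul_cancel₀ _ (hrz ▸ hρ)]
    linear_combination hμ
  · rw [form_add_right hF, form_smul_right, hrv', hvz, mul_zero, add_zero]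
  · rw [form_add_right hF, form_smul_right, hrw', hwz, mul_zero, add_zero]

/-- Transitivity on the vectors of a given norm. -/
theorem transitive (hF : Fintype.card F = q ^ 2) {I : Finset (Fin n)} (hI : 3 ≤ I.card)
    (hq : 4 ≤ I.card ∨ 3 ≤ q) {v w : Fin n → F} (hv : Supp I v) (hw : Supp I w)
    {lam : F} (hlam0 : lam ≠ 0) (hvv : Cfsg.hermForm n F q v v = lam) (hww : Cfsg.hermForm n F q w w = lam) :
    ∃ t ∈ T n F q, Fix I t ∧ (t : Matrix (Fin n) (Fin n) F) *ᵥ v = w := by
  have hlam : lam ^ q = lam := hvv ▸ form_comm hF v v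
  have key : ∀ v w : Fin n → F, Supp I v → Supp I w → Cfsg.hermForm n F q v v = lam →
      Cfsg.hermForm n F q w w = lam → (∀ a : F, w ≠ a • v) →
      ∃ t ∈ T n F q, Fix I t ∧ (t : Matrix (Fin n) (Fin n) F) *ᵥ v = w := by
    intro v w hv hw hvv hww hne
    obtain ⟨z, δ₁, δ₂, hz, hzz, h1, h10, h2, h20, hvz, hwz⟩ := exists_between hF hI hq hv hw hlam0 hvv hww hne
    obtain ⟨t, ht, htI, htv⟩ := move hF hv hz hvv hzz h1 h10 hvz
    obtain ⟨s, hs, hsI, hsw⟩ := move hF hw hz hww hzz h2 h20 hwz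
    refine ⟨s⁻¹ * t, mul_mem (inv_mem hs) ht, hsI.inv.mul htI, ?_⟩
    rw [Units.val_mul, ← Matrix.mulVec_mulVec, htv, ← hsw, FormMaxSL.inv_mulVec_mulVec]
  by_cases hne : ∀ a : F, w ≠ a • v
  · exact key v w hv hw hvv hww hne
  push Not at hne
  obtain ⟨a, rfl⟩ := hne
  have ha : a ≠ 0 := by
    rintro rfl
    rw [form_smul_left, zero_mul] at hww
    exact hlam0 hww.symm
  obtain ⟨b, hb0, hb⟩ := Herm.exists_norm hF lam hlam0 hlam
  obtain ⟨i, hi, j, hj, hij⟩ := Finset.one_lt_card.1 (show 1 < I.card by omega)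
  obtain ⟨k, hk, hkv⟩ : ∃ k ∈ I, ∀ c : F, b • (Pi.single k 1 : Fin n → F) ≠ c • v := by
    by_contra h
    push Not at h
    obtain ⟨c, hc⟩ := h i hi
    obtain ⟨d, hd⟩ := h j hj
    have hc0 : c ≠ 0 := fun h' => hb0 (by have := congrFun hc i; simpa [h'] using this)
    have h1 := congrFun hc j
    have h2 := congrFun hd j
    simp [hij.symm, hc0] at h1
    simp [h1] at h2
    exact hb0 h2
  obtain ⟨u, hu⟩ : ∃ u, u = b • (Pi.single k 1 : Fin n → F) := ⟨_, rfl⟩
  have huI : Supp I u := fun l hl => by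
    have : l ≠ k := fun h => hl (h ▸ hk)
    simp [hu, this]
  have huu : Cfsg.hermForm n F q u u = lam := by
    rw [hu, form_smul_left, form_smul_right, form_single hF, Pi.single_eq_same, mul_one, hb]
  obtain ⟨t, ht, htI, htv⟩ := key v u hv huI hvv huu (fun c h => hkv c (hu ▸ h))
  obtain ⟨s, hs, hsI, hsw⟩ := key (a • v) u hw huI hww huu (fun c h => hkv (c * a) (by rw [← hu, h, smul_smul]))
  refine ⟨s⁻¹ * t, mul_mem (inv_mem hs) ht, hsI.inv.mul htI, ?_⟩
  rw [Units.val_mul, ← Matrix.mulVec_mulVec, htv, ← hsw, FormMaxSL.inv_mulVec_mulVec]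

/-- Two coordinates. -/
theorem mem_T_two (hF : Fintype.card F = q ^ 2) {a b : Fin n} (hab : a ≠ b) {g : GL (Fin n) F}
    (hg : g ∈ Cfsg.GU n F q) (hdet : (g : Matrix (Fin n) (Fin n) F).det = 1) (hfix : Fix {a, b} g) :
    g ∈ T n F q := by
  have h0 : q ≠ 0 := by have := Herm.two_le hF; omega
  have hconj : ∀ x y : F, (x + y) ^ q = x ^ q + y ^ q := Herm.add_pow_q hF
  have hm1 : (-1 : F) ^ q = -1 := by rw [← Herm.conj_apply hF, map_neg, map_one]
  obtain ⟨ε, hε0, hε⟩ := Herm.exists_norm hF (-1 : F) (neg_ne_zero.2 one_ne_zero) hm1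
  obtain ⟨⟨ζ, hζ⟩, hζ2⟩ := Unitary.exists_N1_sq_ne (F := F) hF
  have hζ1 : (ζ : F) ≠ 1 := by
    intro h
    refine hζ2 (Subtype.ext ?_)
    have h' : ζ = 1 := Units.ext h
    simp [h']
  have hζn := Unitary.N1_val hζ
  obtain ⟨ε', hε'd⟩ : ∃ e : F, e = (ζ : F) * ε := ⟨_, rfl⟩
  have hε' : ε' * ε' ^ q = -1 := by rw [hε'd, mul_pow]; linear_combination ε * ε ^ q * hζn + hε
  have hεε : 1 + ε * ε' ^ q ≠ 0 := by
    intro h
    apply hζ1
    have h1 : ε' = ε := by
      have h2 := eq_neg_of_add_eq_zero_right h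
      linear_combination -ε * hε' + ε' * h2
    rw [hε'd] at h1
    exact mul_right_cancel₀ hε0 (h1.trans (one_mul ε).symm)
  have hs : ∀ (k : Fin n) (x : Fin n → F), Cfsg.hermForm n F q (Pi.single k 1) x = x k ^ q := fun k x => by
    rw [← form_comm hF x, form_single hF]
  let mk : F → F → (Fin n → F) := fun x y => x • Pi.single a 1 + y • Pi.single b 1
  have hmk : ∀ x y x' y' : F, Cfsg.hermForm n F q (mk x y) (mk x' y') = x * x' ^ q + y * y' ^ q := by
    intro x y x' y'
    simp only [mk, form_add_left, form_smul_left, hs, Pi.add_apply, Pi.smul_apply, smul_eq_mul,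
      Pi.single_eq_same, Pi.single_eq_of_ne hab, Pi.single_eq_of_ne hab.symm, mul_one, mul_zero,
      add_zero, zero_add]
  have hmkI : ∀ x y : F, Supp {a, b} (mk x y) := by
    intro x y k hk
    simp only [Finset.mem_insert, Finset.mem_singleton, not_or] at hk
    simp [mk, hk.1, hk.2]
  obtain ⟨k2, hk2⟩ : ∃ k2, k2 = ((1 + ε * ε' ^ q)⁻¹) ^ q := ⟨_, rfl⟩
  obtain ⟨f, hf⟩ : ∃ f, f = mk 1 ε := ⟨_, rfl⟩
  obtain ⟨f2, hf2⟩ : ∃ f2, f2 = mk k2 (k2 * ε') := ⟨_, rfl⟩
  have hff : Cfsg.hermForm n F q f f = 0 := by rw [hf, hmk, one_pow, hε]; ring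
  have hf22 : Cfsg.hermForm n F q f2 f2 = 0 := by
    rw [hf2, hmk, mul_pow]; linear_combination k2 * k2 ^ q * hε'
  have h12 : Cfsg.hermForm n F q f f2 = 1 := by
    rw [hf, hf2, hmk, mul_pow, hk2, Herm.pow_pow_q hF]; field_simp
  have h21 : Cfsg.hermForm n F q f2 f = 1 := by rw [← form_comm hF f f2, h12, one_pow]
  have hfI : Supp {a, b} f := hf ▸ hmkI _ _
  have hf2I : Supp {a, b} f2 := hf2 ▸ hmkI _ _
  have hf0 : f ≠ 0 := fun h => by rw [h] at h12; simp [Cfsg.hermForm] at h12
  -- decomposition of a supported vector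
  have hk20 : k2 ≠ 0 := by rw [hk2]; exact pow_ne_zero _ (inv_ne_zero hεε)
  have hzero : ∀ r, Supp {a, b} r → Cfsg.hermForm n F q r f = 0 → Cfsg.hermForm n F q r f2 = 0 → r = 0 := by
    intro r hr h1 h2
    have e : r = mk (r a) (r b) := by
      funext k
      by_cases hka : k = a
      · subst hka; simp [mk, hab]
      by_cases hkb : k = b
      · subst hkb; simp [mk, hab.symm]
      rw [hr k (by simp [hka, hkb])]; simp [mk, hka, hkb]
    rw [e, hf, hmk, one_pow, mul_one] at h1
    rw [e, hf2, hmk, mul_pow] at h2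
    have h3 : r a + r b * ε' ^ q = 0 := by
      refine (mul_eq_zero.1 (?_ : k2 ^ q * (r a + r b * ε' ^ q) = 0)).resolve_left (pow_ne_zero _ hk20)
      linear_combination h2
    have h4 : r b * (ε ^ q - ε' ^ q) = 0 := by linear_combination h1 - h3
    rcases mul_eq_zero.1 h4 with h5 | h5
    · have h6 : r a = 0 := by rw [h5] at h1; simpa using h1
      rw [e, h5, h6]; simp [mk]
    · exfalso; apply hεε
      rw [← sub_eq_zero.1 h5, hε]; ring
  -- first step: fix the line of `f`
  obtain ⟨t₁, ht₁, ht₁I, μ, hμ⟩ : ∃ t ∈ T n F q, Fix {a, b} t ∧ ∃ μ : F,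
      (t : Matrix (Fin n) (Fin n) F) *ᵥ ((g : Matrix (Fin n) (Fin n) F) *ᵥ f) = μ • f := by
    set x := (g : Matrix (Fin n) (Fin n) F) *ᵥ f with hx
    have hxI : Supp {a, b} x := fun i hi => by rw [hx, coord_eq hF hg hfix hi, hfI i hi]
    have hxx : Cfsg.hermForm n F q x x = 0 := by rw [hx, mem_GU.1 hg, hff]
    by_cases hxf : Cfsg.hermForm n F q x f = 0
    · refine ⟨1, one_mem _, Fix.one, Cfsg.hermForm n F q x f2, ?_⟩
      rw [Units.val_one, Matrix.one_mulVec, ← sub_eq_zero]
      refine hzero _ (fun i hi => by simp [hxI i hi, hfI i hi]) ?_ ?_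
      · rw [form_sub_left, form_smul_left, hff, hxf, mul_zero, sub_zero]
      · rw [form_sub_left, form_smul_left, h12, mul_one, sub_self]
    obtain ⟨δ, hδ, hδ0⟩ := exists_tz hF
    obtain ⟨μ, hμd⟩ : ∃ μ, μ = (δ / Cfsg.hermForm n F q x f) ^ q := ⟨_, rfl⟩
    have hmx : Cfsg.hermForm n F q x (μ • f) = 0 + δ := by
      rw [form_smul_right, hμd, Herm.pow_pow_q hF, div_mul_cancel₀ _ hxf, zero_add]
    obtain ⟨t, ht, htI, htx⟩ := move hF hxI (fun i hi => by simp [hfI i hi]) hxx
      (by rw [form_smul_left, form_smul_right, hff, mul_zero, mul_zero]) hδ hδ0 hmx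
    exact ⟨t, ht, htI, μ, htx⟩
  obtain ⟨g1, hg1⟩ : ∃ g1, g1 = t₁ * g := ⟨_, rfl⟩
  have hg1U : g1 ∈ Cfsg.GU n F q := hg1 ▸ mul_mem (T_le hF ht₁).1 hg
  have hg1I : Fix {a, b} g1 := hg1 ▸ ht₁I.mul hfix
  have hg1f : (g1 : Matrix (Fin n) (Fin n) F) *ᵥ f = μ • f := by
    rw [hg1, Units.val_mul, ← Matrix.mulVec_mulVec, hμ]
  obtain ⟨y, hy⟩ : ∃ y, y = (g1 : Matrix (Fin n) (Fin n) F) *ᵥ f2 := ⟨_, rfl⟩
  have hyI : Supp {a, b} y := fun i hi => by rw [hy, coord_eq hF hg1U hg1I hi, hf2I i hi]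
  obtain ⟨ν, hνd⟩ : ∃ ν, ν = Cfsg.hermForm n F q y f := ⟨_, rfl⟩
  obtain ⟨s, hsd⟩ : ∃ s, s = Cfsg.hermForm n F q y f2 := ⟨_, rfl⟩
  have hydec : y = ν • f2 + s • f := by
    rw [← sub_eq_zero]
    refine hzero _ (fun i hi => by simp [hyI i hi, hfI i hi, hf2I i hi]) ?_ ?_
    · rw [form_sub_left, form_add_left, form_smul_left, form_smul_left, hff, h21, hνd]; ring
    · rw [form_sub_left, form_add_left, form_smul_left, form_smul_left, hf22, h12, hsd]; ring
  have hfy : μ * ν ^ q = 1 := by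
    have h1 := mem_GU.1 hg1U f f2
    rw [hg1f, ← hy, hydec, h12, form_smul_left, form_add_right hF, form_smul_right, form_smul_right, h12, hff] at h1
    linear_combination h1
  have hν0 : ν ≠ 0 := fun h => by rw [h, zero_pow h0, mul_zero] at hfy; exact zero_ne_one hfy
  have hμ0 : μ ≠ 0 := fun h => by rw [h, zero_mul] at hfy; exact zero_ne_one hfy
  have hsν : s * ν ^ q + ν * s ^ q = 0 := by
    have h1 := mem_GU.1 hg1U f2 f2
    rw [← hy, hydec, hf22, form_add_left, form_add_right hF, form_add_right hF, form_smul_left,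
      form_smul_left, form_smul_right, form_smul_right, form_smul_left, form_smul_left, form_smul_right,
      form_smul_right, hf22, hff, h12, h21] at h1
    linear_combination h1
  -- second step: the unipotent part
  obtain ⟨c, hcd⟩ : ∃ c, c = s / μ := ⟨_, rfl⟩
  have hc : Tz q c := by
    unfold Tz
    rw [hcd, div_pow]
    have h2 : μ ^ q * ν = 1 := by
      have := congrArg (fun x => x ^ q) hfy
      simp only [mul_pow, Herm.pow_pow_q hF, one_pow] at this
      exact this
    field_simp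
    linear_combination (μ ^ q * μ) * hsν - (s * μ ^ q) * hfy - (s ^ q * μ) * h2
  obtain ⟨g2, hg2⟩ : ∃ g2, g2 = g1 * tu q f (-(c / ν) * ν) := ⟨_, rfl⟩
  have e0 : -(c / ν) * ν = -c := by field_simp
  rw [e0] at hg2
  have hg2T : g ∈ T n F q ↔ g2 ∈ T n F q := by
    rw [hg2, Subgroup.mul_mem_cancel_right _ (tu_mem_T hff (tz_neg hF hc)), hg1,
      Subgroup.mul_mem_cancel_left _ ht₁]
  rw [hg2T]
  have hg2f : (g2 : Matrix (Fin n) (Fin n) F) *ᵥ f = μ • f := by
    rw [hg2, Units.val_mul, ← Matrix.mulVec_mulVec, tu_mulVec hff, hff, mul_zero, zero_smul, add_zero, hg1f]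
  have hg2f2 : (g2 : Matrix (Fin n) (Fin n) F) *ᵥ f2 = ν • f2 := by
    rw [hg2, Units.val_mul, ← Matrix.mulVec_mulVec, tu_mulVec hff, h21, mul_one, Matrix.mulVec_add,
      Matrix.mulVec_smul, hg1f, ← hy, hydec, smul_smul, neg_mul, hcd, div_mul_cancel₀ _ hμ0, neg_smul]
    abel
  have hg2I : Fix {a, b} g2 := hg2 ▸ hg1I.mul (tu_fix hF hfI hff _)
  have hg2U : g2 ∈ Cfsg.GU n F q := hg2 ▸ mul_mem hg1U (tu_mem_GU hF f (tz_neg hF hc))
  -- the determinant
  obtain ⟨P1, hP1⟩ : ∃ P, P = 1 + (μ - 1) • Matrix.vecMulVec f (fun j => f2 j ^ q) := ⟨_, rfl⟩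
  obtain ⟨P2, hP2⟩ : ∃ P, P = 1 + (ν - 1) • Matrix.vecMulVec f2 (fun j => f j ^ q) := ⟨_, rfl⟩
  have hg2P : (g2 : Matrix (Fin n) (Fin n) F) = P1 * P2 := by
    refine Matrix.toLin'.injective (LinearMap.ext fun x => ?_)
    simp only [Matrix.toLin'_apply, ← Matrix.mulVec_mulVec, hP1, hP2, upd_mulVec, form_add_left,
      form_smul_left, hf22, mul_zero, add_zero]
    obtain ⟨r, hr⟩ : ∃ r, r = x - (Cfsg.hermForm n F q x f2 • f + Cfsg.hermForm n F q x f • f2) := ⟨_, rfl⟩
    have hrf : Cfsg.hermForm n F q r f = 0 := by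
      rw [hr, form_sub_left, form_add_left, form_smul_left, form_smul_left, hff, h21]; ring
    have hrf2 : Cfsg.hermForm n F q r f2 = 0 := by
      rw [hr, form_sub_left, form_add_left, form_smul_left, form_smul_left, hf22, h12]; ring
    have hra : r a = 0 ∧ r b = 0 := by
      let r' := mk (r a) (r b)
      have hres : ∀ u, Supp {a, b} u → Cfsg.hermForm n F q r' u = Cfsg.hermForm n F q r u := by
        intro u hu
        simp only [Cfsg.hermForm]
        refine Finset.sum_congr rfl fun k _ => ?_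
        by_cases hk : k ∈ ({a, b} : Finset (Fin n))
        · simp only [Finset.mem_insert, Finset.mem_singleton] at hk
          rcases hk with rfl | rfl
          · simp [r', mk, hab]
          · simp [r', mk, hab.symm]
        · simp [hu k hk, zero_pow h0]
      have h9 : r' = 0 := hzero r' (hmkI _ _) (by rw [hres f hfI, hrf]) (by rw [hres f2 hf2I, hrf2])
      exact ⟨by simpa [r', mk, hab] using congrFun h9 a, by simpa [r', mk, hab.symm] using congrFun h9 b⟩
    have hgr : (g2 : Matrix (Fin n) (Fin n) F) *ᵥ r = r := by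
      rw [pi_eq_sum_univ' r, Matrix.mulVec_sum]
      refine Finset.sum_congr rfl fun k _ => ?_
      rw [Matrix.mulVec_smul]
      by_cases hk : k ∈ ({a, b} : Finset (Fin n))
      · simp only [Finset.mem_insert, Finset.mem_singleton] at hk
        rcases hk with rfl | rfl
        · rw [hra.1, zero_smul, zero_smul]
        · rw [hra.2, zero_smul, zero_smul]
      · rw [hg2I k hk]
    conv_lhs => rw [show x = r + (Cfsg.hermForm n F q x f2 • f + Cfsg.hermForm n F q x f • f2) by rw [hr, sub_add_cancel]]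
    rw [Matrix.mulVec_add, Matrix.mulVec_add, Matrix.mulVec_smul, Matrix.mulVec_smul, hgr, hg2f, hg2f2, hr]
    module
  have hμν : μ * ν = 1 := by
    have h1 : (g2 : Matrix (Fin n) (Fin n) F).det = 1 := by
      have h9 : ∀ t ∈ T n F q, (t : Matrix (Fin n) (Fin n) F).det = 1 := fun t ht => by
        exact congrArg Units.val (show Matrix.GeneralLinearGroup.det t = 1 from (T_le hF ht).2)
      rw [hg2, Units.val_mul, Matrix.det_mul, hg1, Units.val_mul, Matrix.det_mul, hdet,
        h9 _ (tu_mem_T hff (tz_neg hF hc)), h9 _ ht₁, one_mul, one_mul]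
    rw [hg2P, Matrix.det_mul, hP1, hP2, det_upd, det_upd, h12, h21] at h1
    linear_combination h1
  have hμq : μ ^ q = μ := by
    have h1 : ν ^ q = ν := mul_left_cancel₀ hμ0 (hfy.trans hμν.symm)
    have h2 := congrArg (fun x => x ^ q) hμν
    simp only [mul_pow, h1, one_pow] at h2
    exact mul_right_cancel₀ hν0 (h2.trans hμν.symm)
  -- the torus
  obtain ⟨δ, hδ, hδ0⟩ := exists_tz hF
  let W : F → GL (Fin n) F := fun c => tu q f c * tu q f2 (-c⁻¹) * tu q f c
  have hW : ∀ c : F, Tz q c → c ≠ 0 → W c ∈ T n F q ∧ Fix {a, b} (W c) ∧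
      (W c : Matrix (Fin n) (Fin n) F) *ᵥ f = (-c⁻¹) • f2 ∧ (W c : Matrix (Fin n) (Fin n) F) *ᵥ f2 = c • f := by
    intro c hc hc0
    refine ⟨mul_mem (mul_mem (tu_mem_T hff hc) (tu_mem_T hf22 (tz_neg hF (tz_inv hF hc hc0)))) (tu_mem_T hff hc),
      ((tu_fix hF hfI hff _).mul (tu_fix hF hf2I hf22 _)).mul (tu_fix hF hfI hff _), ?_, ?_⟩
    all_goals
      simp only [W, Units.val_mul, ← Matrix.mulVec_mulVec, tu_mulVec hff, tu_mulVec hf22, form_add_left,
        form_smul_left, hff, hf22, h12, h21, mul_zero, mul_one, zero_smul, add_zero, zero_add]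
      match_scalars <;> field_simp <;> ring
  have hδμ : Tz q (-(μ * δ)) := by
    apply tz_neg hF
    unfold Tz at hδ ⊢
    rw [mul_pow, hμq, ← mul_add, hδ, mul_zero]
  obtain ⟨hw1, hw1I, hw1f, hw1f2⟩ := hW δ hδ hδ0
  obtain ⟨hw2, hw2I, hw2f, hw2f2⟩ := hW (-(μ * δ)) hδμ (neg_ne_zero.2 (mul_ne_zero hμ0 hδ0))
  suffices e : g2 = W (-(μ * δ)) * W δ by rw [e]; exact mul_mem hw2 hw1
  have hdd : ∀ D : GL (Fin n) F, Fix {a, b} D → (D : Matrix (Fin n) (Fin n) F) *ᵥ f = μ • f →
      (D : Matrix (Fin n) (Fin n) F) *ᵥ f2 = ν • f2 → ∀ x, Supp {a, b} x →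
      (D : Matrix (Fin n) (Fin n) F) *ᵥ x = (Cfsg.hermForm n F q x f2 * μ) • f + (Cfsg.hermForm n F q x f * ν) • f2 := by
    intro D _ hDf hDf2 x hx
    have e : x = Cfsg.hermForm n F q x f2 • f + Cfsg.hermForm n F q x f • f2 := by
      rw [← sub_eq_zero]
      refine hzero _ (fun i hi => by simp [hx i hi, hfI i hi, hf2I i hi]) ?_ ?_
      · rw [form_sub_left, form_add_left, form_smul_left, form_smul_left, hff, h21]; ring
      · rw [form_sub_left, form_add_left, form_smul_left, form_smul_left, hf22, h12]; ring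
    conv_lhs => rw [e]
    rw [Matrix.mulVec_add, Matrix.mulVec_smul, Matrix.mulVec_smul, hDf, hDf2, smul_smul, smul_smul]
  refine FormMaxSL.gl_ext fun x => ?_
  rw [pi_eq_sum_univ' x, Matrix.mulVec_sum, Matrix.mulVec_sum]
  refine Finset.sum_congr rfl fun k _ => ?_
  rw [Matrix.mulVec_smul, Matrix.mulVec_smul]
  congr 1
  by_cases hk : k ∈ ({a, b} : Finset (Fin n))
  · have hsup : Supp {a, b} (Pi.single k 1 : Fin n → F) := fun i hi => Pi.single_eq_of_ne (fun h => hi (by rw [h]; exact hk)) _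
    rw [hdd g2 hg2I hg2f hg2f2 _ hsup, hdd _ (hw2I.mul hw1I) ?_ ?_ _ hsup]
    · rw [Units.val_mul, ← Matrix.mulVec_mulVec, hw1f, Matrix.mulVec_smul, hw2f2, smul_smul]
      congr 1; field_simp
    · rw [Units.val_mul, ← Matrix.mulVec_mulVec, hw1f2, Matrix.mulVec_smul, hw2f, smul_smul]
      congr 1
      rw [eq_comm, ← mul_right_inj' hμ0, hμν]
      field_simp
  · rw [hg2I k hk, (hw2I.mul hw1I) k hk]

/-- Three coordinates over the field with four elements. -/
theorem transitive_three (hF : Fintype.card F = q ^ 2) (hq : q = 2) {a b c d : Fin n} (hab : a ≠ b) (hac : a ≠ c)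
    (had : a ≠ d) (hbc : b ≠ c) (hbd : b ≠ d) (hcd : c ≠ d) {w : Fin n → F} (hw : Supp {a, b, c} w)
    (hww : Cfsg.hermForm n F q w w = 1) :
    ∃ t ∈ T n F q, Fix {a, b, c} t ∧ (t : Matrix (Fin n) (Fin n) F) *ᵥ Pi.single a 1 = w := by
  classical
  subst hq
  have h2 : (2 : F) = 0 := by
    haveI : Fact (Nat.Prime 2) := ⟨Nat.prime_two⟩
    haveI : CharP F 2 := charP_of_card_eq_prime_pow (R := F) (p := 2) (f := 2) (by rw [hF])
    exact CharTwo.two_eq_zero
  have hcube : ∀ x : F, x ≠ 0 → x * x ^ 2 = 1 := fun x hx => by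
    have h := FiniteField.pow_card_sub_one_eq_one x hx
    rw [hF] at h
    rw [← h]; ring
  have hs : ∀ (k : Fin n) (x : Fin n → F), Cfsg.hermForm n F 2 (Pi.single k 1) x = x k ^ 2 := fun k x => by
    rw [← form_comm hF x, form_single hF]
  -- diagonal elements
  have hdiag : ∀ D : Fin n → F, (∀ i, D i ≠ 0) → ∃ g ∈ Cfsg.GU n F 2,
      (g : Matrix (Fin n) (Fin n) F) = Matrix.diagonal D ∧
      ((g⁻¹ : GL (Fin n) F) : Matrix (Fin n) (Fin n) F) = Matrix.diagonal fun i => (D i)⁻¹ := by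
    intro D hD
    refine ⟨⟨Matrix.diagonal D, Matrix.diagonal fun i => (D i)⁻¹, ?_, ?_⟩, ?_, rfl, rfl⟩
    · rw [Matrix.diagonal_mul_diagonal, ← Matrix.diagonal_one]; congr 1; funext i; exact mul_inv_cancel₀ (hD i)
    · rw [Matrix.diagonal_mul_diagonal, ← Matrix.diagonal_one]; congr 1; funext i; exact inv_mul_cancel₀ (hD i)
    · rw [mem_GU]
      exact fun u v => Unitary.form_diagonal D (fun i => hcube _ (hD i)) u v
  have htor : ∀ i j : Fin n, i ≠ j → ∀ x : F, x ≠ 0 → ∃ t ∈ T n F 2, Fix {i, j} t ∧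
      ∀ k, (t : Matrix (Fin n) (Fin n) F) *ᵥ Pi.single k 1 =
        (if k = i then x else if k = j then x⁻¹ else 1) • Pi.single k 1 := by
    intro i j hij x hx
    obtain ⟨g, hg, hgv, -⟩ := hdiag (fun k => if k = i then x else if k = j then x⁻¹ else 1)
      (fun k => by split_ifs <;> simp [hx])
    have hact : ∀ k, (g : Matrix (Fin n) (Fin n) F) *ᵥ Pi.single k 1 =
        (if k = i then x else if k = j then x⁻¹ else 1) • Pi.single k 1 := by
      intro k
      rw [hgv]
      funext l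
      rw [Matrix.mulVec_diagonal]
      by_cases hlk : l = k
      · subst hlk; simp
      · simp [hlk]
    have hfix : Fix {i, j} g := fun k hk => by
      simp only [Finset.mem_insert, Finset.mem_singleton, not_or] at hk
      rw [hact, if_neg hk.1, if_neg hk.2, one_smul]
    refine ⟨g, mem_T_two hF hij hg ?_ hfix, hfix, hact⟩
    rw [hgv, Matrix.det_diagonal, ← Finset.prod_subset (Finset.subset_univ {i, j}) (fun k _ hk => by
      simp only [Finset.mem_insert, Finset.mem_singleton, not_or] at hk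
      rw [if_neg hk.1, if_neg hk.2]), Finset.prod_pair hij, if_pos rfl, if_neg hij.symm, if_pos rfl,
      mul_inv_cancel₀ hx]
  have hwdec : w = w a • Pi.single a 1 + w b • Pi.single b 1 + w c • Pi.single c 1 := by
    funext k
    by_cases hka : k = a
    · subst hka; simp [hab, hac]
    by_cases hkb : k = b
    · subst hkb; simp [hab.symm, hbc]
    by_cases hkc : k = c
    · subst hkc; simp [hac.symm, hbc.symm]
    rw [hw k (by simp [hka, hkb, hkc])]; simp [hka, hkb, hkc]
  have hnorm : w a * w a ^ 2 + w b * w b ^ 2 + w c * w c ^ 2 = 1 := by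
    rw [← hww]
    conv_rhs => rw [hwdec]
    simp [form_add_left, form_smul_left, hs, form_add_right hF, form_smul_right, hab, hac, hbc, hab.symm,
      hac.symm, hbc.symm]
    ring
  by_cases hall : w a ≠ 0 ∧ w b ≠ 0 ∧ w c ≠ 0
  · obtain ⟨hwa, hwb, hwc⟩ := hall
    obtain ⟨ω, hω0, hω1⟩ : ∃ ω : F, ω ≠ 0 ∧ ω ≠ 1 := by
      by_contra h
      push Not at h
      have : (Finset.univ : Finset F) ⊆ {0, 1} := fun x _ => by
        by_cases hx : x = 0
        · simp [hx]
        · simp [h x hx]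
      have h9 := (Finset.card_le_card this).trans (Finset.card_le_two)
      rw [Finset.card_univ, hF] at h9
      omega
    have hω : ω ^ 2 = ω + 1 := by
      have h9 : (ω - 1) * (ω ^ 2 + ω + 1) = 0 := by linear_combination hcube ω hω0
      linear_combination (mul_eq_zero.1 h9).resolve_left (sub_ne_zero.2 hω1) - (ω + 1) * h2
    obtain ⟨u, hu⟩ : ∃ u : Fin n → F, u = Pi.single a 1 + Pi.single b 1 + Pi.single c 1 + Pi.single d 1 := ⟨_, rfl⟩
    obtain ⟨u', hu'⟩ : ∃ u : Fin n → F, u = Pi.single a 1 + Pi.single b 1 + Pi.single c 1 + ω • Pi.single d 1 := ⟨_, rfl⟩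
    have hua : u a = 1 ∧ u b = 1 ∧ u c = 1 ∧ u d = 1 := by
      simp [hu, hab, hac, had, hbc, hbd, hcd, hab.symm, hac.symm, had.symm, hbc.symm, hbd.symm, hcd.symm]
    have hua' : u' a = 1 ∧ u' b = 1 ∧ u' c = 1 ∧ u' d = ω := by
      simp [hu', hab, hac, had, hbc, hbd, hcd, hab.symm, hac.symm, had.symm, hbc.symm, hbd.symm, hcd.symm]
    have huu : Cfsg.hermForm n F 2 u u = 0 := by
      conv_lhs => arg 4; rw [hu]
      rw [form_add_left, form_add_left, form_add_left, hs, hs, hs, hs, hua.1, hua.2.1, hua.2.2.1, hua.2.2.2]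
      linear_combination 2 * h2
    have huu' : Cfsg.hermForm n F 2 u' u' = 0 := by
      conv_lhs => arg 4; rw [hu']
      rw [form_add_left, form_add_left, form_add_left, form_smul_left, hs, hs, hs, hs, hua'.1, hua'.2.1,
        hua'.2.2.1, hua'.2.2.2]
      linear_combination hcube ω hω0 + 2 * h2
    have htz : Tz 2 (1 : F) := by unfold Tz; linear_combination h2
    have huI : Supp {a, b, c, d} u ∧ Supp {a, b, c, d} u' := by
      constructor <;> intro k hk <;> simp only [Finset.mem_insert, Finset.mem_singleton, not_or] at hk <;>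
        simp [hu, hu', hk.1, hk.2.1, hk.2.2.1, hk.2.2.2]
    obtain ⟨Q, hQ, hQI, hQv⟩ := htor a d had ω hω0
    obtain ⟨R, hR⟩ : ∃ R, R = Q * (tu 2 u' (1 : F) * tu 2 u 1) := ⟨_, rfl⟩
    have hRT : R ∈ T n F 2 := hR ▸ mul_mem hQ (mul_mem (tu_mem_T huu' htz) (tu_mem_T huu htz))
    have hRI4 : Fix {a, b, c, d} R := hR ▸ (hQI.mono (by intro x; simp; tauto)).mul
      ((tu_fix hF huI.2 huu' _).mul (tu_fix hF huI.1 huu _))
    have hQb : (Q : Matrix (Fin n) (Fin n) F) *ᵥ Pi.single b 1 = Pi.single b 1 := by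
      rw [hQv, if_neg hab.symm, if_neg hbd, one_smul]
    have hQc : (Q : Matrix (Fin n) (Fin n) F) *ᵥ Pi.single c 1 = Pi.single c 1 := by
      rw [hQv, if_neg hac.symm, if_neg hcd, one_smul]
    have hQa : (Q : Matrix (Fin n) (Fin n) F) *ᵥ Pi.single a 1 = ω • Pi.single a 1 := by rw [hQv, if_pos rfl]
    have hQd : (Q : Matrix (Fin n) (Fin n) F) *ᵥ Pi.single d 1 = ω⁻¹ • Pi.single d 1 := by
      rw [hQv, if_neg had.symm, if_pos rfl]
    have hwinv : ω⁻¹ = ω + 1 := by
      rw [inv_eq_of_mul_eq_one_right]; linear_combination hω + ω * h2 - ω * h2 + (0 : F) * h2 + h2 * ω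
    have hRd : (R : Matrix (Fin n) (Fin n) F) *ᵥ Pi.single d 1 = Pi.single d 1 := by
      rw [hR, Units.val_mul, Units.val_mul, ← Matrix.mulVec_mulVec, ← Matrix.mulVec_mulVec, tu_mulVec huu,
        hs, hua.2.2.2, tu_mulVec huu', form_add_left, form_smul_left, hs, hua'.2.2.2]
      conv_lhs => arg 2; arg 2; arg 1; arg 2; arg 2; arg 2; rw [hu]
      simp only [form_add_left, hs, hua'.1, hua'.2.1, hua'.2.2.1, hua'.2.2.2, one_pow, one_mul, mul_one, one_smul]
      rw [hu, hu']
      simp only [Matrix.mulVec_add, Matrix.mulVec_smul, smul_add, smul_smul, hQa, hQb, hQc, hQd, hwinv]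
      match_scalars <;> grind
    have hRI : Fix {a, b, c} R := by
      intro k hk
      by_cases hkd : k = d
      · subst hkd; exact hRd
      · exact hRI4 k (by simp only [Finset.mem_insert, Finset.mem_singleton, not_or] at hk ⊢; exact ⟨hk.1, hk.2.1, hk.2.2, hkd⟩)
    have hRa : (R : Matrix (Fin n) (Fin n) F) *ᵥ Pi.single a 1 =
        Pi.single a 1 + ω • Pi.single b 1 + ω • Pi.single c 1 := by
      rw [hR, Units.val_mul, Units.val_mul, ← Matrix.mulVec_mulVec, ← Matrix.mulVec_mulVec, tu_mulVec huu,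
        hs, hua.1, tu_mulVec huu', form_add_left, form_smul_left, hs, hua'.1]
      conv_lhs => arg 2; arg 2; arg 1; arg 2; arg 2; arg 2; rw [hu]
      simp only [form_add_left, hs, hua'.1, hua'.2.1, hua'.2.2.1, hua'.2.2.2, one_pow, one_mul, mul_one, one_smul]
      rw [hu, hu']
      simp only [Matrix.mulVec_add, Matrix.mulVec_smul, smul_add, smul_smul, hQa, hQb, hQc, hQd, hwinv]
      match_scalars <;> grind
    obtain ⟨D, hD, hDv, hDi⟩ := hdiag (fun k => if k = b then w b / (w a * ω) else if k = c then w c / (w a * ω) else 1)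
      (fun k => by split_ifs <;> simp [hwa, hwb, hwc, hω0])
    obtain ⟨M, hM, hMI, hMv⟩ := htor a b hab (w a) hwa
    have hDs : ∀ k, (D : Matrix (Fin n) (Fin n) F) *ᵥ Pi.single k 1 =
        (if k = b then w b / (w a * ω) else if k = c then w c / (w a * ω) else 1) • Pi.single k 1 := fun k => by
      rw [hDv]; funext l; rw [Matrix.mulVec_diagonal]
      by_cases hlk : l = k
      · subst hlk; simp
      · simp [hlk]
    have hDI : Fix {b, c} D := fun k hk => by
      simp only [Finset.mem_insert, Finset.mem_singleton, not_or] at hk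
      rw [hDs, if_neg hk.1, if_neg hk.2, one_smul]
    refine ⟨D * R * D⁻¹ * M, mul_mem (conj_mem_T hD hRT) hM, ?_, ?_⟩
    · exact (((hDI.mono (by intro x; simp; tauto)).mul hRI).mul (hDI.mono (by intro x; simp; tauto)).inv).mul
        (hMI.mono (by intro x; simp; tauto))
    · have hDa : ((D⁻¹ : GL (Fin n) F) : Matrix (Fin n) (Fin n) F) *ᵥ Pi.single a 1 = Pi.single a 1 :=
        hDI.inv a (by simp [hab, hac])
      simp only [Units.val_mul, ← Matrix.mulVec_mulVec, hMv a, ↓reduceIte, Matrix.mulVec_smul, hDa, hRa,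
        Matrix.mulVec_add, hDs, hab.symm, hac.symm, hbc.symm, hab, hac, one_smul, smul_smul, smul_add]
      conv_rhs => rw [hwdec]
      match_scalars <;> field_simp
  · -- one non-zero coordinate
    obtain ⟨j, x, hj, hx, hwj⟩ : ∃ (j : Fin n) (x : F), (j = a ∨ j = b ∨ j = c) ∧ x ≠ 0 ∧ w = x • Pi.single j 1 := by
      by_cases hA : w a = 0 <;> by_cases hB : w b = 0 <;> by_cases hC : w c = 0
      · simp [hA, hB, hC] at hnorm
      · exact ⟨c, w c, by simp, hC, hwdec.trans (by simp [hA, hB])⟩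
      · exact ⟨b, w b, by simp, hB, hwdec.trans (by simp [hA, hC])⟩
      · exfalso; rw [hA, hcube _ hB, hcube _ hC] at hnorm
        exact one_ne_zero (by linear_combination h2 - hnorm)
      · exact ⟨a, w a, by simp, hA, hwdec.trans (by simp [hB, hC])⟩
      · exfalso; rw [hB, hcube _ hA, hcube _ hC] at hnorm
        exact one_ne_zero (by linear_combination h2 - hnorm)
      · exfalso; rw [hC, hcube _ hA, hcube _ hB] at hnorm
        exact one_ne_zero (by linear_combination h2 - hnorm)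
      · exact absurd ⟨hA, hB, hC⟩ hall
    by_cases hja : j = a
    · obtain ⟨t, ht, htI, htv⟩ := htor a b hab x hx
      exact ⟨t, ht, htI.mono (by intro x; simp; tauto), by rw [htv, if_pos rfl, hwj, hja]⟩
    have haj : a ≠ j := Ne.symm hja
    obtain ⟨tt, htt⟩ : ∃ t : GL (Fin n) F, (t : Matrix (Fin n) (Fin n) F) = Unitary.swapMat n F a j :=
      ⟨Matrix.GeneralLinearGroup.mk'' (Unitary.swapMat n F a j) (by rw [Unitary.swapMat_det _ _ haj]; exact isUnit_one), rfl⟩
    have hsw : ∀ y : Fin n → F, Unitary.swapMat n F a j *ᵥ y = y ∘ Equiv.swap a j := fun y => by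
      funext k
      rw [Unitary.swapMat, ← Matrix.mulVec_mulVec, Matrix.mulVec_diagonal, PEquiv.toMatrix_toPEquiv_mulVec]
      rcases eq_or_ne k a with rfl | hk
      · rw [Function.update_self]; simp only [Function.comp_apply]; linear_combination -(y (Equiv.swap k j k)) * h2
      · rw [Function.update_of_ne hk]; simp
    have hfix : Fix {a, j} tt := by
      intro k hk
      simp only [Finset.mem_insert, Finset.mem_singleton, not_or] at hk
      rw [htt, hsw]
      funext l
      simp only [Function.comp_apply]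
      by_cases hlk : l = k
      · subst hlk; rw [Equiv.swap_apply_of_ne_of_ne hk.1 hk.2]
      · rw [Pi.single_eq_of_ne hlk, Pi.single_eq_of_ne]
        intro h
        apply hlk
        have := congrArg (Equiv.swap a j) h
        rwa [Equiv.swap_apply_self, Equiv.swap_apply_of_ne_of_ne hk.1 hk.2] at this
    have htU : tt ∈ Cfsg.GU n F 2 := by
      rw [mem_GU, htt]; exact Unitary.swapMat_form hF a j
    have htT := mem_T_two hF haj htU (by rw [htt, Unitary.swapMat_det _ _ haj]) hfix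
    obtain ⟨m, hm, hmI, hmv⟩ := htor j a hja x hx
    refine ⟨m * tt, mul_mem hm htT, ?_, ?_⟩
    · exact (hmI.mono (by intro z; simp; rcases hj with h | h | h <;> simp [h] <;> tauto)).mul
        (hfix.mono (by intro z; simp; rcases hj with h | h | h <;> simp [h] <;> tauto))
    · rw [Units.val_mul, ← Matrix.mulVec_mulVec, htt, hsw]
      have e : (Pi.single a (1 : F) : Fin n → F) ∘ Equiv.swap a j = Pi.single j 1 := by
        funext l
        simp only [Function.comp_apply]
        by_cases hlj : l = j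
        · subst hlj; simp
        · rw [Pi.single_eq_of_ne hlj, Pi.single_eq_of_ne]
          intro h
          apply hlj
          have := congrArg (Equiv.swap a j) h
          simpa using this
      rw [e, hmv, if_pos rfl, hwj]

/-- Generation of the special unitary group by transvections. -/
theorem su_le_T (hF : Fintype.card F = q ^ 2) (hn : 3 ≤ n) (h32 : ¬ (n = 3 ∧ q = 2)) :
    Cfsg.GU n F q ⊓ Cfsg.Geo.specialLinear (Fin n) F ≤ T n F q := by
  classical
  suffices h : ∀ (k : ℕ) (I : Finset (Fin n)), I.card = k → ∀ g : GL (Fin n) F, g ∈ Cfsg.GU n F q →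
      (g : Matrix (Fin n) (Fin n) F).det = 1 → Fix I g → g ∈ T n F q by
    intro g hg
    refine h _ Finset.univ rfl g hg.1 ?_ (fun i hi => absurd (Finset.mem_univ i) hi)
    exact congrArg Units.val (show Matrix.GeneralLinearGroup.det g = 1 from hg.2)
  intro k
  induction k using Nat.strong_induction_on with
  | _ k ih =>
    intro I hI g hg hdet hfix
    by_cases hk2 : k = 2
    · obtain ⟨a, b, hab, rfl⟩ := Finset.card_eq_two.1 (hk2 ▸ hI)
      exact mem_T_two hF hab hg hdet hfix
    by_cases hk1 : k ≤ 1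
    · -- diagonal with determinant one
      have e : g = 1 := by
        refine FormMaxSL.gl_ext fun x => ?_
        obtain ⟨c, hc⟩ : ∃ c : Fin n → F, (g : Matrix (Fin n) (Fin n) F) = Matrix.diagonal c := by
          refine ⟨fun i => (g : Matrix (Fin n) (Fin n) F) i i, Matrix.ext fun i j => ?_⟩
          by_cases hij : i = j
          · subst hij; simp
          rw [Matrix.diagonal_apply_ne _ hij]
          by_cases hj : j ∈ I
          · have hi : i ∉ I := fun hi => hij (Finset.card_le_one.1 (hI ▸ hk1) i hi j hj)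
            have := coord_eq hF hg hfix hi (Pi.single j 1)
            rw [Matrix.mulVec_single_one] at this
            simpa [hij] using this
          · have := congrFun (hfix j hj) i
            rw [Matrix.mulVec_single_one] at this
            simpa [hij] using this
        have hc1 : ∀ i ∉ I, c i = 1 := fun i hi => by
          have := congrFun (hfix i hi) i
          rw [Matrix.mulVec_single_one, hc] at this
          simpa using this
        have hcI : ∀ i, c i = 1 := by
          intro i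
          by_cases hi : i ∈ I
          · rw [hc, Matrix.det_diagonal, Finset.prod_eq_single i (fun j _ hj => hc1 j fun hjI => hj (Finset.card_le_one.1 (hI ▸ hk1) j hjI i hi)) (fun h => absurd (Finset.mem_univ i) h)] at hdet
            exact hdet
          · exact hc1 i hi
        rw [hc, Units.val_one, Matrix.one_mulVec]
        funext i
        rw [Matrix.mulVec_diagonal, hcI i, one_mul]
      rw [e]; exact one_mem _
    obtain ⟨a, ha⟩ := Finset.card_pos.1 (show 0 < I.card by omega)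
    have hea : Supp I (Pi.single a 1 : Fin n → F) := fun i hi => Pi.single_eq_of_ne (fun h => hi (by rw [h]; exact ha)) _
    obtain ⟨w, hw⟩ : ∃ w, w = (g : Matrix (Fin n) (Fin n) F) *ᵥ Pi.single a 1 := ⟨_, rfl⟩
    have hwI : Supp I w := fun i hi => by rw [hw, coord_eq hF hg hfix hi, hea i hi]
    have haa : Cfsg.hermForm n F q (Pi.single a 1) (Pi.single a 1) = 1 := by rw [form_single hF]; simp
    have hww : Cfsg.hermForm n F q w w = 1 := by rw [hw, mem_GU.1 hg, haa]
    obtain ⟨t, ht, htI, hta⟩ : ∃ t ∈ T n F q, Fix I t ∧ (t : Matrix (Fin n) (Fin n) F) *ᵥ Pi.single a 1 = w := by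
      by_cases hq : 4 ≤ I.card ∨ 3 ≤ q
      · exact transitive hF (by omega) hq hea hwI one_ne_zero haa hww
      push Not at hq
      have hq2 : q = 2 := by have := Herm.two_le hF; omega
      have hn4 : 4 ≤ n := by
        by_contra h
        exact h32 ⟨by omega, hq2⟩
      have he := Finset.card_erase_of_mem ha
      obtain ⟨b, c, hbc, hbc'⟩ := Finset.card_eq_two.1 (show (I.erase a).card = 2 by omega)
      have hIeq : I = {a, b, c} := by rw [← Finset.insert_erase ha, hbc']
      obtain ⟨d, hd⟩ : ∃ d, d ∉ I := by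
        by_contra h
        push Not at h
        have h9 : I.card = n := by rw [show I = Finset.univ from Finset.eq_univ_iff_forall.2 h, Finset.card_univ, Fintype.card_fin]
        omega
      have hb : b ∈ I.erase a := by simp [hbc']
      have hc : c ∈ I.erase a := by simp [hbc']
      rw [Finset.mem_erase] at hb hc
      have hda : a ≠ d := fun h => hd (by rw [← h]; exact ha)
      have hdb : b ≠ d := fun h => hd (by rw [← h]; exact hb.2)
      have hdc : c ≠ d := fun h => hd (by rw [← h]; exact hc.2)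
      rw [hIeq] at hwI ⊢
      subst hq2
      exact transitive_three hF rfl hb.1.symm hc.1.symm hda hbc hdb hdc hwI hww
    have hg' : t⁻¹ * g ∈ T n F q := by
      refine ih _ (hI ▸ Finset.card_erase_lt_of_mem ha) _ rfl (t⁻¹ * g) (mul_mem (inv_mem (T_le hF ht).1) hg) ?_ ?_
      · have h1 : Matrix.GeneralLinearGroup.det t⁻¹ = 1 := (T_le hF (inv_mem ht)).2
        rw [Units.val_mul, Matrix.det_mul, hdet, mul_one]
        exact congrArg Units.val h1
      · intro i hi
        rw [Finset.mem_erase, not_and] at hi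
        by_cases hia : i = a
        · subst hia
          rw [Units.val_mul, ← Matrix.mulVec_mulVec, ← hw, ← hta, FormMaxSL.inv_mulVec_mulVec]
        · exact (htI.inv.mul hfix) i (hi hia)
    have := mul_mem ht hg'
    rwa [mul_inv_cancel_left] at this

end CfsgLib.Lie.SUGen
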