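import Cfsg.Agent.Lie.UnitaryConj
import Mathlib.Algebra.CharP.Two
import Mathlib.LinearAlgebra.Matrix.Rank
import Mathlib.LinearAlgebra.Matrix.SchurComplement

/-!
Classes of involutions of the special unitary group in characteristic two.
-/

set_option autoImplicit false
set_option linter.unusedSimpArgs false
set_option linter.unusedSectionVars false

namespace CfsgLib.Lie.SUInvolClasses

open Matrix

/-- square-zero maps of equal rank are similar -/
theorem sqzero_similar {F V : Type*} [Field F] [AddCommGroup V] [Module F V] [FiniteDimensional F V]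
    (T U : V →ₗ[F] V) (hT : ∀ x, T (T x) = 0) (hU : ∀ x, U (U x) = 0)
    (h : Module.finrank F (LinearMap.range T) = Module.finrank F (LinearMap.range U)) :
    ∃ θ : V ≃ₗ[F] V, ∀ x, θ (T x) = U (θ x) := by
  classical
  have build : ∀ T : V →ₗ[F] V, (∀ x, T (T x) = 0) → ∃ (C D : Submodule F V)
      (Φ : (C × C × D) ≃ₗ[F] V), (∀ c c' d, T (Φ (c, c', d)) = Φ (0, c, 0)) ∧
      Module.finrank F C = Module.finrank F (LinearMap.range T) ∧
      Module.finrank F D + Module.finrank F C + Module.finrank F C = Module.finrank F V := by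
    intro T hT
    obtain ⟨C, hC⟩ := (LinearMap.ker T).exists_isCompl
    obtain ⟨D0, hD0⟩ := (LinearMap.range T).exists_isCompl
    have hRK : LinearMap.range T ≤ LinearMap.ker T := by rintro _ ⟨x, rfl⟩; exact hT x
    let D := D0 ⊓ LinearMap.ker T
    have hK : LinearMap.range T ⊔ D = LinearMap.ker T := by
      rw [← sup_inf_assoc_of_le D0 hRK, hD0.sup_eq_top, top_inf_eq]
    have hRD : LinearMap.range T ⊓ D = ⊥ := by
      rw [← le_bot_iff, ← hD0.inf_eq_bot]; exact inf_le_inf_left _ inf_le_left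
    have d1 := T.finrank_range_add_finrank_ker
    have d2 := Submodule.finrank_add_eq_of_isCompl hC
    have d3 := Submodule.finrank_sup_add_finrank_inf_eq (LinearMap.range T) D
    rw [hK, hRD, finrank_bot, add_zero] at d3
    let φ : (C × C × D) →ₗ[F] V := C.subtype.coprod ((T.comp C.subtype).coprod D.subtype)
    have hφ : ∀ c c' d, φ (c, c', d) = (c : V) + (T c' + d) := fun c c' d => rfl
    have hinj : Function.Injective φ := by
      rw [← LinearMap.ker_eq_bot, LinearMap.ker_eq_bot']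
      rintro ⟨c, c', d⟩ h0
      rw [hφ] at h0
      have hd : T (d : V) = 0 := d.2.2
      have h1 := congrArg T h0
      rw [map_add, map_add, hT, hd, add_zero, add_zero, map_zero] at h1
      have hc : c = 0 := Subtype.ext ((Submodule.mem_bot F).1 (hC.inf_eq_bot.le ⟨h1, c.2⟩))
      rw [hc, Submodule.coe_zero, zero_add] at h0
      have hd0 : (d : V) ∈ LinearMap.range T ⊓ D := ⟨⟨-(c' : V), by rw [map_neg]; exact neg_eq_of_add_eq_zero_right h0⟩, d.2⟩
      rw [hRD, Submodule.mem_bot] at hd0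
      rw [hd0, add_zero] at h0
      have hc' : c' = 0 := Subtype.ext ((Submodule.mem_bot F).1 (hC.inf_eq_bot.le ⟨h0, c'.2⟩))
      rw [hc, hc', show d = 0 from Subtype.ext hd0]
      rfl
    refine ⟨C, D, LinearEquiv.ofBijective φ ⟨hinj, ?_⟩, fun c c' d => ?_, by omega, by omega⟩
    · refine (LinearMap.injective_iff_surjective_of_finrank_eq_finrank ?_).1 hinj
      rw [Module.finrank_prod, Module.finrank_prod]
      omega
    · show T (φ (c, c', d)) = φ (0, c, 0)
      rw [hφ, hφ, map_add, map_add, hT, show T (d : V) = 0 from d.2.2]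
      simp
  obtain ⟨C, D, Φ, h1, c1, s1⟩ := build T hT
  obtain ⟨C', D', Ψ, h2, c2, s2⟩ := build U hU
  let eC : C ≃ₗ[F] C' := LinearEquiv.ofFinrankEq _ _ (c1.trans (h.trans c2.symm))
  let eD : D ≃ₗ[F] D' := LinearEquiv.ofFinrankEq _ _ (by rw [c1, h] at s1; rw [c2] at s2; omega)
  refine ⟨Φ.symm.trans ((eC.prodCongr (eC.prodCongr eD)).trans Ψ), fun x => ?_⟩
  obtain ⟨⟨c, c', d⟩, rfl⟩ := Φ.surjective x
  rw [h1]
  simp [h2]

variable {F : Type*} [Field F] [Fintype F] {q n : ℕ} (hF : Fintype.card F = q ^ 2)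

/-- conjugate transpose of a rectangular matrix -/
def T' {m k : ℕ} (X : Matrix (Fin m) (Fin k) F) : Matrix (Fin k) (Fin m) F := (X.map (Herm.conj hF))ᵀ

theorem T'_mul {m k l : ℕ} (X : Matrix (Fin m) (Fin k) F) (Y : Matrix (Fin k) (Fin l) F) :
    T' hF (X * Y) = T' hF Y * T' hF X := by
  rw [T', Matrix.map_mul, Matrix.transpose_mul]; rfl

theorem T'_T' {m k : ℕ} (X : Matrix (Fin m) (Fin k) F) : T' hF (T' hF X) = X := by
  ext i j; exact Herm.conj_conj hF _

theorem T'_one {m : ℕ} : T' hF (1 : Matrix (Fin m) (Fin m) F) = 1 := by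
  rw [T', Matrix.map_one _ (map_zero _) (map_one _), Matrix.transpose_one]

theorem T'_add {m k : ℕ} (X Y : Matrix (Fin m) (Fin k) F) : T' hF (X + Y) = T' hF X + T' hF Y := by
  rw [T', Matrix.map_add _ (map_add _), Matrix.transpose_add]; rfl

theorem T'_smul {m k : ℕ} (c : F) (X : Matrix (Fin m) (Fin k) F) : T' hF (c • X) = Herm.conj hF c • T' hF X := by
  ext i j; exact map_mul (Herm.conj hF) _ _

include hF in
/-- every determinant occurs in the centraliser of an involution -/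
theorem exists_det_centralizing [CharP F 2] (a : GL (Fin n) F) (ha : a ∈ Cfsg.GU n F q) (ha2 : a * a = 1)
    (ha1 : a ≠ 1) {ξ : F} (hξ : ξ * ξ ^ q = 1) :
    ∃ g ∈ Cfsg.GU n F q, g * a = a * g ∧ (g : Matrix (Fin n) (Fin n) F).det = ξ := by
  classical
  obtain ⟨A, hA⟩ : ∃ A : Matrix (Fin n) (Fin n) F, A = a := ⟨_, rfl⟩
  have hAA : A * A = 1 := by rw [hA, ← Units.val_mul, ha2, Units.val_one]
  have hSA : T' hF A = A := by
    have h := (UnitaryConj.mem_GU_iff hF a).1 ha
    rw [← hA] at h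
    calc T' hF A = T' hF A * (A * A) := by rw [hAA, mul_one]
      _ = A := by rw [← mul_assoc]; exact (congrArg (· * A) h).trans (one_mul A)
  obtain ⟨N, hN⟩ : ∃ N, N = A + 1 := ⟨_, rfl⟩
  have hz : ∀ X : Matrix (Fin n) (Fin n) F, X + X = 0 := fun X => by
    ext i j; exact CharTwo.add_self_eq_zero _
  have hNS : T' hF N = N := by rw [hN, T'_add, hSA, T'_one]
  have hNN : N * N = 0 := by
    rw [hN, add_mul, mul_add, mul_one, one_mul, hAA, add_comm A 1, hz]
  have hN0 : N ≠ 0 := fun h0 => ha1 (Units.ext (by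
    rw [← hA, Units.val_one]
    calc A = A + (1 + 1) := by rw [hz, add_zero]
      _ = 1 := by rw [← add_assoc, ← hN, h0, zero_add]))
  obtain ⟨v, hv⟩ : ∃ v : Matrix (Fin n) (Fin 1) F, (T' hF v * (N * v)) 0 0 ≠ 0 := by
    by_contra hno
    push Not at hno
    obtain ⟨e, he⟩ : ∃ e : Fin n → Matrix (Fin n) (Fin 1) F, ∀ i k l, e i k l = if k = i then 1 else 0 :=
      ⟨fun i => Matrix.of fun k _ => if k = i then 1 else 0, fun _ _ _ => rfl⟩
    have hent : ∀ i j, (T' hF (e i) * (N * e j)) 0 0 = N i j := fun i j => by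
      simp [Matrix.mul_apply, T', he, apply_ite, zero_pow (show q ≠ 0 by have := Herm.two_le hF; omega)]
    apply hN0
    ext i j
    obtain ⟨θ, hθ⟩ : ∃ θ : F, Herm.conj hF θ - θ ≠ 0 := by
      by_contra hh
      push Not at hh
      exact Herm.conj_ne_id hF (RingHom.ext fun z => sub_eq_zero.1 (hh z))
    have key : ∀ t : F, t * N i j + Herm.conj hF t * N j i = 0 := fun t => by
      have h := hno (e i + t • e j)
      have hi := hno (e i)
      have hj := hno (e j)
      rw [hent] at hi hj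
      simp only [T'_add, T'_smul, Matrix.mul_add, Matrix.add_mul, Matrix.mul_smul, Matrix.smul_mul, Matrix.add_apply,
        Matrix.smul_apply, hent, hi, hj, smul_eq_mul] at h
      linear_combination h
    have h1 := key 1
    have h2 := key θ
    rw [map_one, one_mul] at h1
    have : (Herm.conj hF θ - θ) * N i j = 0 := by linear_combination Herm.conj hF θ * h1 - h2
    exact (mul_eq_zero.1 this).resolve_left hθ
  obtain ⟨U, hU⟩ : ∃ U : Matrix (Fin n) (Fin 2) F, U = Matrix.of fun i j => if j = 0 then v i 0 else (N * v) i 0 :=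
    ⟨_, rfl⟩
  obtain ⟨G, hG⟩ : ∃ G : Matrix (Fin 2) (Fin 2) F, G = T' hF U * U := ⟨_, rfl⟩
  have hG11 : G 1 1 = (T' hF (N * v) * (N * v)) 0 0 := by
    rw [hG, hU, Matrix.mul_apply, Matrix.mul_apply]; rfl
  have hG01 : G 0 1 = (T' hF v * (N * v)) 0 0 := by
    rw [hG, hU, Matrix.mul_apply, Matrix.mul_apply]; rfl
  have hG10 : G 1 0 = (T' hF (N * v) * v) 0 0 := by
    rw [hG, hU, Matrix.mul_apply, Matrix.mul_apply]; rfl
  have hdet : G.det ≠ 0 := by
    rw [Matrix.det_fin_two, hG11, hG01, hG10]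
    have e1 : T' hF (N * v) * (N * v) = 0 := by
      rw [T'_mul, hNS, Matrix.mul_assoc, ← Matrix.mul_assoc N, hNN, Matrix.zero_mul, Matrix.mul_zero]
    have e2 : T' hF (N * v) * v = T' hF v * (N * v) := by rw [T'_mul, hNS, Matrix.mul_assoc]
    rw [e1, e2, Matrix.zero_apply, mul_zero, zero_sub, neg_ne_zero]
    exact mul_ne_zero hv hv
  have hGS : T' hF G = G := by rw [hG, T'_mul, T'_T']
  have hGu : IsUnit G.det := isUnit_iff_ne_zero.2 hdet
  have hGi : T' hF G⁻¹ = G⁻¹ := by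
    refine (Matrix.inv_eq_right_inv ?_).symm
    have h := congrArg (T' hF) (Matrix.nonsing_inv_mul G hGu)
    rwa [T'_mul, hGS, T'_one] at h
  obtain ⟨P, hP⟩ : ∃ P : Matrix (Fin n) (Fin n) F, P = U * G⁻¹ * T' hF U := ⟨_, rfl⟩
  have hPS : T' hF P = P := by rw [hP, T'_mul, T'_mul, T'_T', hGi, Matrix.mul_assoc]
  have hPP : P * P = P := by
    rw [hP]
    calc U * G⁻¹ * T' hF U * (U * G⁻¹ * T' hF U) = U * (G⁻¹ * (T' hF U * U)) * G⁻¹ * T' hF U := by
          simp only [Matrix.mul_assoc]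
      _ = _ := by rw [← hG, Matrix.nonsing_inv_mul G hGu, Matrix.mul_one]
  obtain ⟨J, hJ⟩ : ∃ J : Matrix (Fin 2) (Fin 2) F, J = !![1, 0; 1, 1] := ⟨_, rfl⟩
  have hAU : A * U = U * J := by
    have hAe : A = N + 1 := by rw [hN, add_assoc, hz, add_zero]
    have h0 : ∀ i, (A * v) i 0 = v i 0 + (N * v) i 0 := fun i => by
      rw [hAe, Matrix.add_mul, Matrix.one_mul, Matrix.add_apply, add_comm]
    have h1 : ∀ i, (A * (N * v)) i 0 = (N * v) i 0 := fun i => by
      rw [hAe, Matrix.add_mul, ← Matrix.mul_assoc, hNN, Matrix.zero_mul, zero_add, Matrix.one_mul]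
    ext i j
    rw [Matrix.mul_apply, Matrix.mul_apply, Fin.sum_univ_two]
    fin_cases j
    · have := h0 i
      rw [Matrix.mul_apply] at this
      simpa [hU, hJ] using this
    · have := h1 i
      rw [Matrix.mul_apply] at this
      simpa [hU, hJ] using this
  have hUA : T' hF U * A = T' hF J * T' hF U := by
    have := congrArg (T' hF) hAU
    rwa [T'_mul, T'_mul, hSA] at this
  have hGJ : J * G⁻¹ = G⁻¹ * T' hF J := by
    have e : G * J = T' hF J * G := by
      rw [hG, Matrix.mul_assoc, ← hAU, ← Matrix.mul_assoc, hUA, Matrix.mul_assoc]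
    calc J * G⁻¹ = G⁻¹ * (G * J) * G⁻¹ := by rw [← Matrix.mul_assoc G⁻¹, Matrix.nonsing_inv_mul G hGu, Matrix.one_mul]
      _ = _ := by rw [e, Matrix.mul_assoc, Matrix.mul_assoc, Matrix.mul_nonsing_inv G hGu, Matrix.mul_one]
  have hAP : A * P = P * A := by
    rw [hP]
    calc A * (U * G⁻¹ * T' hF U) = U * (J * G⁻¹) * T' hF U := by
          rw [← Matrix.mul_assoc, ← Matrix.mul_assoc, hAU]; simp only [Matrix.mul_assoc]
      _ = U * G⁻¹ * (T' hF U * A) := by rw [hGJ, hUA]; simp only [Matrix.mul_assoc]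
      _ = _ := by simp only [Matrix.mul_assoc]
  haveI : Fact (Nat.Prime 2) := ⟨Nat.prime_two⟩
  obtain ⟨ζ, hζ⟩ : ∃ ζ : F, ζ ^ 2 = ξ := by
    obtain ⟨z, hz⟩ := (frobenius_inj F 2).bijective_of_finite.2 ξ
    exact ⟨z, by rw [← hz, frobenius_def]⟩
  have hζn : ζ * ζ ^ q = 1 := frobenius_inj F 2 (by
    rw [frobenius_def, frobenius_def, one_pow, mul_pow, ← pow_mul, mul_comm q 2, pow_mul, hζ, hξ])
  obtain ⟨M, hM⟩ : ∃ M : Matrix (Fin n) (Fin n) F, M = 1 + (ζ - 1) • P := ⟨_, rfl⟩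
  have hMM : T' hF M * M = 1 := by
    rw [hM, T'_add, T'_one, T'_smul, hPS, Matrix.add_mul, Matrix.one_mul, Matrix.mul_add, Matrix.mul_one,
      Matrix.smul_mul, Matrix.mul_smul, hPP, map_sub, map_one, Herm.conj_apply]
    match_scalars
    · ring
    · linear_combination hζn
  have hMd : M.det = ξ := by
    rw [hM, hP, ← Matrix.smul_mul, Matrix.det_one_add_mul_comm, Matrix.mul_smul, ← Matrix.mul_assoc, ← hG,
      Matrix.mul_nonsing_inv G hGu,
      show (1 : Matrix (Fin 2) (Fin 2) F) + (ζ - 1) • 1 = ζ • 1 by rw [sub_smul, one_smul, add_sub_cancel],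
      Matrix.det_smul, Matrix.det_one, mul_one, Fintype.card_fin, hζ]
  refine ⟨⟨M, T' hF M, mul_eq_one_comm.1 hMM, hMM⟩, (UnitaryConj.mem_GU_iff hF _).2 hMM, Units.ext ?_, hMd⟩
  show M * (a : Matrix (Fin n) (Fin n) F) = (a : Matrix (Fin n) (Fin n) F) * M
  rw [← hA, hM, Matrix.add_mul, Matrix.mul_add, Matrix.one_mul, Matrix.mul_one, Matrix.smul_mul, Matrix.mul_smul, hAP]

include hF in
theorem main [CharP F 2] (a b : Cfsg.SU n F q) (ha : orderOf a = 2) (hb : orderOf b = 2) :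
    (IsConj a b ↔ IsConj (a : Matrix.SpecialLinearGroup (Fin n) F) (b : Matrix.SpecialLinearGroup (Fin n) F)) ∧
    (IsConj a b ↔ (((a : Matrix.SpecialLinearGroup (Fin n) F) : Matrix (Fin n) (Fin n) F) - 1).rank =
      (((b : Matrix.SpecialLinearGroup (Fin n) F) : Matrix (Fin n) (Fin n) F) - 1).rank) := by
  classical
  obtain ⟨A, hA⟩ : ∃ A : GL (Fin n) F, A = Matrix.SpecialLinearGroup.toGL (a : Matrix.SpecialLinearGroup (Fin n) F) := ⟨_, rfl⟩
  obtain ⟨B, hB⟩ : ∃ B : GL (Fin n) F, B = Matrix.SpecialLinearGroup.toGL (b : Matrix.SpecialLinearGroup (Fin n) F) := ⟨_, rfl⟩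
  have hAU : A ∈ Cfsg.GU n F q := hA ▸ a.2
  have hBU : B ∈ Cfsg.GU n F q := hB ▸ b.2
  have h12 : IsConj (a : Matrix.SpecialLinearGroup (Fin n) F) (b : Matrix.SpecialLinearGroup (Fin n) F) →
      (((a : Matrix.SpecialLinearGroup (Fin n) F) : Matrix (Fin n) (Fin n) F) - 1).rank =
      (((b : Matrix.SpecialLinearGroup (Fin n) F) : Matrix (Fin n) (Fin n) F) - 1).rank := by
    intro h
    obtain ⟨x, hx⟩ := isConj_iff.1 h
    rw [← hx, Matrix.SpecialLinearGroup.coe_mul, Matrix.SpecialLinearGroup.coe_mul]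
    have hdx : IsUnit (x : Matrix (Fin n) (Fin n) F).det := by rw [x.2]; exact isUnit_one
    have hdi : IsUnit ((x⁻¹ : Matrix.SpecialLinearGroup (Fin n) F) : Matrix (Fin n) (Fin n) F).det := by
      rw [(x⁻¹).2]; exact isUnit_one
    have hxi : (x : Matrix (Fin n) (Fin n) F) * ((x⁻¹ : Matrix.SpecialLinearGroup (Fin n) F) : Matrix (Fin n) (Fin n) F) = 1 := by
      rw [← Matrix.SpecialLinearGroup.coe_mul, mul_inv_cancel, Matrix.SpecialLinearGroup.coe_one]
    conv_rhs => rw [← hxi, ← Matrix.sub_mul]; arg 1; arg 1; rw [← Matrix.mul_one (x : Matrix (Fin n) (Fin n) F)]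
    rw [Matrix.rank_mul_eq_left_of_isUnit_det _ _ hdi]
    rw [Matrix.mul_one, show (x : Matrix (Fin n) (Fin n) F) * ((a : Matrix.SpecialLinearGroup (Fin n) F) : Matrix (Fin n) (Fin n) F) - x =
      (x : Matrix (Fin n) (Fin n) F) * (((a : Matrix.SpecialLinearGroup (Fin n) F) : Matrix (Fin n) (Fin n) F) - 1) by
        rw [Matrix.mul_sub, Matrix.mul_one], Matrix.rank_mul_eq_right_of_isUnit_det _ _ hdx]
  have h20 : (((a : Matrix.SpecialLinearGroup (Fin n) F) : Matrix (Fin n) (Fin n) F) - 1).rank =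
      (((b : Matrix.SpecialLinearGroup (Fin n) F) : Matrix (Fin n) (Fin n) F) - 1).rank → IsConj a b := by
    intro h
    have sq : ∀ c : Cfsg.SU n F q, orderOf c = 2 → ∀ x : Fin n → F,
        (((c : Matrix.SpecialLinearGroup (Fin n) F) : Matrix (Fin n) (Fin n) F) - 1).mulVecLin
          ((((c : Matrix.SpecialLinearGroup (Fin n) F) : Matrix (Fin n) (Fin n) F) - 1).mulVecLin x) = 0 := by
      intro c hc x
      have h0 : c * c = 1 := by rw [← pow_two, ← hc, pow_orderOf_eq_one]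
      have h1 : ((c : Matrix.SpecialLinearGroup (Fin n) F) : Matrix (Fin n) (Fin n) F) * (c : Matrix.SpecialLinearGroup (Fin n) F) = 1 :=
        congrArg (fun d : Cfsg.SU n F q => ((d : Matrix.SpecialLinearGroup (Fin n) F) : Matrix (Fin n) (Fin n) F)) h0
      rw [Matrix.mulVecLin_apply, Matrix.mulVecLin_apply, Matrix.mulVec_mulVec, Matrix.sub_mul, Matrix.mul_sub,
        Matrix.one_mul, Matrix.mul_one, h1, show (1 : Matrix (Fin n) (Fin n) F) - ((c : Matrix.SpecialLinearGroup (Fin n) F) : Matrix (Fin n) (Fin n) F) -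
        (((c : Matrix.SpecialLinearGroup (Fin n) F) : Matrix (Fin n) (Fin n) F) - 1) = 0 by
          ext i j; simp only [Matrix.sub_apply, Matrix.zero_apply, CharTwo.sub_eq_add]; ring_nf
          simp [CharTwo.two_eq_zero], Matrix.zero_mulVec]
    obtain ⟨θ, hθ⟩ := sqzero_similar _ _ (sq a ha) (sq b hb) h
    obtain ⟨x, hx⟩ : ∃ x : GL (Fin n) F, ∀ y, (x : Matrix (Fin n) (Fin n) F) *ᵥ y = θ y := by
      refine ⟨⟨LinearMap.toMatrix' θ.toLinearMap, LinearMap.toMatrix' θ.symm.toLinearMap, ?_, ?_⟩,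
        fun y => LinearMap.toMatrix'_mulVec _ _⟩ <;>
      · rw [← LinearMap.toMatrix'_comp, ← LinearMap.toMatrix'_id]
        exact congrArg _ (LinearMap.ext fun y => by simp)
    have hAB : IsConj A B := by
      refine isConj_iff.2 ⟨x, mul_inv_eq_iff_eq_mul.2 (Units.ext (Matrix.ext_iff_mulVec.2 fun y => ?_))⟩
      rw [Units.val_mul, Units.val_mul, ← Matrix.mulVec_mulVec, ← Matrix.mulVec_mulVec, hx, hx, hA, hB]
      have := hθ y
      change θ ((((a : Matrix.SpecialLinearGroup (Fin n) F) : Matrix (Fin n) (Fin n) F) - 1) *ᵥ y) =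
        (((b : Matrix.SpecialLinearGroup (Fin n) F) : Matrix (Fin n) (Fin n) F) - 1) *ᵥ θ y at this
      rw [Matrix.sub_mulVec, Matrix.sub_mulVec, Matrix.one_mulVec, Matrix.one_mulVec, map_sub] at this
      exact sub_left_injective this
    obtain ⟨y, hy⟩ := isConj_iff.1 ((UnitaryConj.isConj_iff' hF ⟨A, hAU⟩ ⟨B, hBU⟩).2 hAB)
    have hy' : (y : GL (Fin n) F) * A * (y : GL (Fin n) F)⁻¹ = B := congrArg Subtype.val hy
    have hA2 : A * A = 1 := by
      rw [hA, ← map_mul, ← Subgroup.coe_mul, ← pow_two, ← ha, pow_orderOf_eq_one, Subgroup.coe_one, map_one]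
    have hA1 : A ≠ 1 := fun e => by
      have : a = 1 := Subtype.ext (Matrix.SpecialLinearGroup.toGL_injective (by rw [← hA, e, Subgroup.coe_one, map_one]))
      rw [this, orderOf_one] at ha
      omega
    obtain ⟨z, hz⟩ : ∃ z : F, z = ((y : GL (Fin n) F) : Matrix (Fin n) (Fin n) F).det := ⟨_, rfl⟩
    have hzn : z * z ^ q = 1 := hz ▸ Unitary.det_norm hF y.2
    obtain ⟨g, hg, hgA, hgd⟩ := exists_det_centralizing hF A hAU hA2 hA1 (ξ := z ^ q) (by
      rw [Herm.pow_pow_q hF, mul_comm]; exact hzn)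
    have hd1 : ((((y : GL (Fin n) F) * g : GL (Fin n) F)) : Matrix (Fin n) (Fin n) F).det = 1 := by
      rw [Units.val_mul, Matrix.det_mul, hgd, ← hz, hzn]
    let w : Matrix.SpecialLinearGroup (Fin n) F := ⟨_, hd1⟩
    have hw : Matrix.SpecialLinearGroup.toGL w = (y : GL (Fin n) F) * g := Units.ext rfl
    have hwm : w ∈ Cfsg.SU n F q := (mul_mem y.2 hg : (y : GL (Fin n) F) * g ∈ Cfsg.GU n F q)
    refine isConj_iff.2 ⟨⟨w, hwm⟩, Subtype.ext (Matrix.SpecialLinearGroup.toGL_injective ?_)⟩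
    rw [Subgroup.coe_mul, Subgroup.coe_mul, Subgroup.coe_inv, map_mul, map_mul, map_inv, hw, ← hA, ← hB,
      mul_assoc (y : GL (Fin n) F), hgA, ← hy']
    group
  exact ⟨⟨fun h => MonoidHom.map_isConj (Cfsg.SU n F q).subtype h, fun h => h20 (h12 h)⟩,
    ⟨fun h => h12 (MonoidHom.map_isConj (Cfsg.SU n F q).subtype h), h20⟩⟩

end CfsgLib.Lie.SUInvolClasses
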