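import Cfsg.Agent.Lie.SUStab
import Cfsg.Agent.S0781
import Mathlib.GroupTheory.GroupAction.Iwasawa
import Mathlib.LinearAlgebra.Projectivization.Action

/-!
Simplicity of the projective special unitary groups by the Iwasawa criterion on isotropic points.
-/

set_option autoImplicit false
set_option linter.unusedSimpArgs false
set_option linter.unusedSectionVars false

namespace CfsgLib.Lie.SUSimple

open Matrix MulAction
open scoped LinearAlgebra.Projectivization Pointwise
open CfsgLib.Lie.Herm (form_add_left form_add_right form_smul_left form_smul_right form_comm form_single mem_GU)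
open CfsgLib.Lie.SUGen (tu tu_mulVec tu_smul tu_mul tu_zero tu_inv conj_tu Tz form_sub_left form_sub_right)
open CfsgLib.Lie.SUFull (form_eq_zero_symm form_zero_left)

variable {F : Type*} [Field F] [Fintype F] {q n : ℕ} (hF : Fintype.card F = q ^ 2)

local notation "𝐆" => Cfsg.SU n F q
local notation "𝐕" => Fin n → F

/-- SU into GL. -/
abbrev toG : Cfsg.SU n F q →* GL (Fin n) F :=
  Matrix.SpecialLinearGroup.toGL.comp (Cfsg.SU n F q).subtype

/-- the action on vectors -/
abbrev act (g : Cfsg.SU n F q) (v : Fin n → F) : Fin n → F :=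
  ((toG g : GL (Fin n) F) : Matrix (Fin n) (Fin n) F) *ᵥ v

theorem toG_injective : Function.Injective (toG : 𝐆 →* GL (Fin n) F) := fun a b h =>
  Subtype.ext (Matrix.SpecialLinearGroup.toGL_injective h)

theorem toG_mem (g : 𝐆) : toG g ∈ Cfsg.GU n F q := g.2

theorem exists_toG {g : GL (Fin n) F} (hg : g ∈ Cfsg.GU n F q ⊓ Cfsg.Geo.specialLinear (Fin n) F) :
    ∃ a : 𝐆, toG a = g :=
  ⟨⟨⟨(g : Matrix (Fin n) (Fin n) F),
    congrArg Units.val (show Matrix.GeneralLinearGroup.det g = 1 from hg.2)⟩, hg.1⟩, Units.ext rfl⟩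

theorem act_ne_zero (g : 𝐆) {v : 𝐕} (hv : v ≠ 0) : act g v ≠ 0 := fun h => hv (by
  rw [← FormMaxSL.inv_mulVec_mulVec (toG g) v, show (toG g : Matrix (Fin n) (Fin n) F) *ᵥ v = 0 from h,
    Matrix.mulVec_zero])

theorem form_act (g : 𝐆) (u v : 𝐕) :
    Cfsg.hermForm n F q (act g u) (act g v) = Cfsg.hermForm n F q u v := mem_GU.1 (toG_mem g) u v

theorem act_smul (g : 𝐆) (a : F) (v : 𝐕) : act g (a • v) = a • act g v := Matrix.mulVec_smul _ _ _

include hF in
theorem exists_one {u : 𝐕} (hu : u ≠ 0) : ∃ z, Cfsg.hermForm n F q u z = 1 := by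
  obtain ⟨i, hi⟩ := Function.ne_iff.1 hu
  refine ⟨((u i)⁻¹) ^ q • Pi.single i 1, ?_⟩
  rw [form_smul_right, Herm.pow_pow_q hF, form_single hF]
  exact inv_mul_cancel₀ hi

include hF in
theorem exists_adjust {u z : 𝐕} (hu : Cfsg.hermForm n F q u u = 0) (hz : Cfsg.hermForm n F q u z ≠ 0) :
    ∃ t : F, Cfsg.hermForm n F q (z + t • u) (z + t • u) = 0 ∧
      Cfsg.hermForm n F q u (z + t • u) = Cfsg.hermForm n F q u z := by
  obtain ⟨t, ht⟩ := SUStab.adjust hF hu hz
  exact ⟨t, ht, by rw [form_add_right hF, form_smul_right, hu, mul_zero, add_zero]⟩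

include hF in
theorem exists_partner {u : 𝐕} (hu0 : u ≠ 0) (hu : Cfsg.hermForm n F q u u = 0) :
    ∃ w, Cfsg.hermForm n F q w w = 0 ∧ Cfsg.hermForm n F q u w = 1 := by
  obtain ⟨z, hz⟩ := exists_one hF hu0
  obtain ⟨t, h1, h2⟩ := exists_adjust hF hu (by rw [hz]; exact one_ne_zero)
  exact ⟨_, h1, h2.trans hz⟩

include hF in
/-- transitivity on hyperbolic pairs -/
theorem move_pair (hn : 3 ≤ n) {u w u' w' : 𝐕} (huu : Cfsg.hermForm n F q u u = 0)
    (hww : Cfsg.hermForm n F q w w = 0) (huw : Cfsg.hermForm n F q u w = 1)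
    (huu' : Cfsg.hermForm n F q u' u' = 0) (hww' : Cfsg.hermForm n F q w' w' = 0)
    (huw' : Cfsg.hermForm n F q u' w' = 1) : ∃ g : 𝐆, act g u = u' ∧ act g w = w' := by
  have hwu : Cfsg.hermForm n F q w u = 1 := by rw [← form_comm hF u w, huw, one_pow]
  have hwu' : Cfsg.hermForm n F q w' u' = 1 := by rw [← form_comm hF u' w', huw', one_pow]
  let ψ : 𝐕 →ₗ[F] 𝐕 := (Herm.hb n hF w).smulRight u' + (Herm.hb n hF u).smulRight w'
  have hψ : ∀ a b : F, ψ (a • u + b • w) = a • u' + b • w' := fun a b => by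
    simp [ψ, Herm.hb_apply, huw, hwu, huu, hww, form_add_left, form_smul_left]
  let X : Submodule F 𝐕 := Submodule.span F {u, w}
  have hX : ∀ x : X, ∃ a b : F, (x : 𝐕) = a • u + b • w := fun x => by
    obtain ⟨a, b, h⟩ := Submodule.mem_span_pair.1 x.2
    exact ⟨a, b, h.symm⟩
  have hiso : ∀ x y : X, Cfsg.hermForm n F q (ψ.comp X.subtype x) (ψ.comp X.subtype y) =
      Cfsg.hermForm n F q (x : 𝐕) y := fun x y => by
    obtain ⟨a, b, hx⟩ := hX x
    obtain ⟨c, d, hy⟩ := hX y
    show Cfsg.hermForm n F q (ψ (x : 𝐕)) (ψ (y : 𝐕)) = _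
    rw [hx, hy, hψ, hψ]
    simp [form_add_left, form_add_right hF, form_smul_left, form_smul_right, huu, hww, huw, hwu, huu', hww', huw', hwu']
  have hinj : Function.Injective (ψ.comp X.subtype) := by
    rw [← LinearMap.ker_eq_bot, LinearMap.ker_eq_bot']
    intro x hx
    obtain ⟨a, b, hab⟩ := hX x
    have h1 : a • u' + b • w' = 0 := by rw [← hψ, ← hab]; exact hx
    have ha := congrArg (fun y => Cfsg.hermForm n F q y w') h1
    have hb := congrArg (fun y => Cfsg.hermForm n F q y u') h1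
    simp [form_add_left, form_smul_left, huu', hww', huw', hwu', form_zero_left] at ha hb
    exact Subtype.ext (by rw [hab, ha, hb]; simp)
  obtain ⟨e, heK, he⟩ : ∃ e ∈ SUStab.perp hF (Submodule.span F {u', w'}), Cfsg.hermForm n F q e e ≠ 0 := by
    refine SUStab.exists_aniso_perp hF (W := Submodule.span F {u', w'}) ?_ _ le_rfl ?_
    · intro x hx hxp
      obtain ⟨a, b, rfl⟩ := Submodule.mem_span_pair.1 hx
      have h1 := (SUStab.mem_perp hF).1 hxp u' (Submodule.subset_span (by simp))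
      have h2 := (SUStab.mem_perp hF).1 hxp w' (Submodule.subset_span (by simp))
      simp [form_add_left, form_smul_left, huu', hww', huw', hwu'] at h1 h2
      simp [h1, h2]
    · have h1 := SUStab.finrank_perp hF (Submodule.span F {u', w'})
      have h2 := FormMaxSL.finrank_pair_le u' w'
      omega
  obtain ⟨g, hg, hgx⟩ := SUStab.exists_su hF X (ψ.comp X.subtype) hinj hiso he (fun x => by
    obtain ⟨a, b, hab⟩ := hX x
    refine SUStab.mem_perp' hF heK ?_
    show ψ (x : 𝐕) ∈ _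
    rw [hab, hψ]
    exact add_mem (Submodule.smul_mem _ _ (Submodule.subset_span (by simp)))
      (Submodule.smul_mem _ _ (Submodule.subset_span (by simp))))
  obtain ⟨g', rfl⟩ := exists_toG hg
  refine ⟨g', ?_, ?_⟩
  · have := hgx ⟨u, Submodule.subset_span (by simp)⟩
    refine this.trans ?_
    show ψ u = u'
    simpa using hψ 1 0
  · have := hgx ⟨w, Submodule.subset_span (by simp)⟩
    refine this.trans ?_
    show ψ w = w'
    simpa using hψ 0 1

/-- isotropic points -/
abbrev Pt (n : ℕ) (F : Type*) [Field F] (q : ℕ) : Type _ :=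
  {p : ℙ F (Fin n → F) // Cfsg.hermForm n F q p.rep p.rep = 0}

theorem iso_mk {v : 𝐕} (hv : v ≠ 0) :
    Cfsg.hermForm n F q (Projectivization.mk F v hv).rep (Projectivization.mk F v hv).rep = 0 ↔
      Cfsg.hermForm n F q v v = 0 := by
  obtain ⟨a, ha⟩ := (Projectivization.mk_eq_mk_iff' F _ _
    (Projectivization.mk F v hv).rep_nonzero hv).1 (Projectivization.mk F v hv).mk_rep
  have ha0 : a ≠ 0 := by
    rintro rfl
    exact (Projectivization.mk F v hv).rep_nonzero (by rw [← ha, zero_smul])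
  rw [← ha, form_smul_left, form_smul_right]
  simp [ha0]

/-- the point of an isotropic vector -/
def pt (v : Fin n → F) (hv : v ≠ 0) (hiso : Cfsg.hermForm n F q v v = 0) : Pt n F q :=
  ⟨Projectivization.mk F v hv, (iso_mk hv).2 hiso⟩

theorem pt_rep (p : Pt n F q) : pt p.1.rep p.1.rep_nonzero p.2 = p := Subtype.ext p.1.mk_rep

theorem toG_smul_rep (g : 𝐆) (p : Pt n F q) :
    toG g • p.1 = Projectivization.mk F (act g p.1.rep) (act_ne_zero g p.1.rep_nonzero) := by
  conv_lhs => rw [← p.1.mk_rep, Projectivization.smul_mk]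
  rfl

@[instance_reducible]
noncomputable def ptAction : MulAction (Cfsg.SU n F q) (Pt n F q) where
  smul g p := ⟨toG g • p.1, by rw [toG_smul_rep, iso_mk, form_act]; exact p.2⟩
  one_smul p := Subtype.ext (by show toG (1 : 𝐆) • p.1 = p.1; rw [map_one, one_smul])
  mul_smul g h p := Subtype.ext (by
    show toG (g * h) • p.1 = toG g • toG h • p.1
    rw [map_mul, mul_smul])

attribute [scoped instance] ptAction

theorem smul_pt (g : 𝐆) (v : 𝐕) (hv : v ≠ 0) (hiso : Cfsg.hermForm n F q v v = 0) (w : 𝐕) (hw : w ≠ 0)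
    (hwiso : Cfsg.hermForm n F q w w = 0) (h : ∃ a : F, a • w = act g v) :
    g • pt v hv hiso = pt w hw hwiso := by
  refine Subtype.ext ?_
  show toG g • Projectivization.mk F v hv = _
  rw [Projectivization.smul_mk]
  exact (Projectivization.mk_eq_mk_iff' F _ _ _ _).2 h

include hF in
theorem pretransitive (hn : 3 ≤ n) : IsPretransitive 𝐆 (Pt n F q) := by
  constructor
  intro x y
  obtain ⟨w, hw, huw⟩ := exists_partner hF x.1.rep_nonzero x.2
  obtain ⟨w', hw', huw'⟩ := exists_partner hF y.1.rep_nonzero y.2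
  obtain ⟨g, hg, -⟩ := move_pair hF hn x.2 hw huw y.2 hw' huw'
  refine ⟨g, ?_⟩
  conv_lhs => rw [← pt_rep x]
  conv_rhs => rw [← pt_rep y]
  exact smul_pt g _ _ _ _ _ _ ⟨1, by rw [one_smul, hg]⟩

/-- Membership of the line of `v`. -/
def InB (B : Set (Pt n F q)) (v : Fin n → F) : Prop :=
  ∃ (hv : v ≠ 0) (hiso : Cfsg.hermForm n F q v v = 0), pt v hv hiso ∈ B

theorem InB.smul {B : Set (Pt n F q)} {v : 𝐕} (h : InB B v) {a : F} (ha : a ≠ 0) : InB B (a • v) := by
  obtain ⟨hv, hiso, h⟩ := h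
  refine ⟨smul_ne_zero ha hv, by rw [form_smul_left, form_smul_right, hiso, mul_zero, mul_zero], ?_⟩
  convert h using 1
  exact Subtype.ext ((Projectivization.mk_eq_mk_iff' F (a • v) v _ _).2 ⟨a, rfl⟩)

theorem InB.move {B : Set (Pt n F q)} (hB : IsBlock 𝐆 B) {u w : 𝐕} (hu : InB B u)
    (hw : InB B w) {g : 𝐆} {a : F} (hg : act g u = a • u) : InB B (act g w) := by
  obtain ⟨hu0, hui, hu⟩ := hu
  obtain ⟨hw0, hwi, hw⟩ := hw
  have h1 : g • pt u hu0 hui = pt u hu0 hui := smul_pt g _ _ _ _ _ _ ⟨a, hg.symm⟩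
  have h2 : g • B = B := isBlock_iff_smul_eq_of_mem.1 hB hu (by rw [h1]; exact hu)
  refine ⟨act_ne_zero g hw0, by rw [form_act]; exact hwi, ?_⟩
  rw [← h2]
  exact ⟨_, hw, smul_pt g _ _ _ _ _ _ ⟨1, one_smul _ _⟩⟩

include hF in
theorem InB.of_pair (hn : 3 ≤ n) {B : Set (Pt n F q)} (hB : IsBlock 𝐆 B) {u w : 𝐕} (hu : InB B u)
    (hw : InB B w) (h : Cfsg.hermForm n F q u w ≠ 0) {x : 𝐕} (hxi : Cfsg.hermForm n F q x x = 0)
    (hx : Cfsg.hermForm n F q u x ≠ 0) : InB B x := by
  obtain ⟨hu0, hui, -⟩ := id hu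
  obtain ⟨hw0, hwi, -⟩ := id hw
  obtain ⟨g, hg1, hg2⟩ := move_pair hF hn (u := u) (w := ((Cfsg.hermForm n F q u w)⁻¹) ^ q • w) (u' := u)
    (w' := ((Cfsg.hermForm n F q u x)⁻¹) ^ q • x) hui
    (by rw [form_smul_left, form_smul_right, hwi, mul_zero, mul_zero])
    (by rw [form_smul_right, Herm.pow_pow_q hF, inv_mul_cancel₀ h]) hui
    (by rw [form_smul_left, form_smul_right, hxi, mul_zero, mul_zero])
    (by rw [form_smul_right, Herm.pow_pow_q hF, inv_mul_cancel₀ hx])
  have h1 := InB.move hB hu (hw.smul (pow_ne_zero q (inv_ne_zero h))) (g := g) (a := 1) (by rw [hg1, one_smul])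
  rw [hg2] at h1
  have h2 := h1.smul (pow_ne_zero q hx)
  rwa [smul_smul, ← mul_pow, mul_inv_cancel₀ hx, one_pow, one_smul] at h2

include hF in
theorem InB.all (hn : 3 ≤ n) {B : Set (Pt n F q)} (hB : IsBlock 𝐆 B) {u w : 𝐕} (hu : InB B u)
    (hw : InB B w) (h : Cfsg.hermForm n F q u w ≠ 0) {x : 𝐕} (hx0 : x ≠ 0)
    (hxi : Cfsg.hermForm n F q x x = 0) : InB B x := by
  by_cases h1 : Cfsg.hermForm n F q u x ≠ 0
  · exact InB.of_pair hF hn hB hu hw h hxi h1
  push Not at h1
  obtain ⟨hu0, hui, -⟩ := id hu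
  by_cases hne : ∀ a : F, x ≠ a • u
  swap
  · push Not at hne
    obtain ⟨a, rfl⟩ := hne
    exact hu.smul fun ha => hx0 (by rw [ha, zero_smul])
  obtain ⟨z, -, hzu, hzx⟩ := SUGen.exists_sep hF (I := Finset.univ) (v := u) (w := x)
    (fun i hi => absurd (Finset.mem_univ i) hi) (fun i hi => absurd (Finset.mem_univ i) hi) hu0 hne
  obtain ⟨p, hp, hup⟩ := exists_partner hF hu0 hui
  obtain ⟨r, hr⟩ : ∃ r, r = p + (1 - Cfsg.hermForm n F q p x) • z := ⟨_, rfl⟩
  have huz : Cfsg.hermForm n F q u z = 0 := form_eq_zero_symm hF hzu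
  have hur : Cfsg.hermForm n F q u r = 1 := by
    rw [hr, form_add_right hF, form_smul_right, huz, mul_zero, add_zero, hup]
  obtain ⟨t, hs, hus⟩ := exists_adjust hF hui (z := r) (by rw [hur]; exact one_ne_zero)
  have hsx : Cfsg.hermForm n F q (r + t • u) x = 1 := by
    rw [form_add_left, form_smul_left, h1, mul_zero, add_zero, hr, form_add_left, form_smul_left, hzx]
    ring
  have hsu : Cfsg.hermForm n F q (r + t • u) u ≠ 0 := by
    rw [← form_comm hF u, hus, hur, one_pow]; exact one_ne_zero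
  have hs' := InB.of_pair hF hn hB hu hw h hs (by rw [hus, hur]; exact one_ne_zero)
  exact InB.of_pair hF hn hB hs' hu hsu hxi (by rw [hsx]; exact one_ne_zero)

/-- SU element of a transvection -/
theorem exists_tu (hF : Fintype.card F = q ^ 2) (v : Fin n → F) {c : F} (hc : Tz q c) :
    ∃ t : Cfsg.SU n F q, toG t = tu q v c :=
  exists_toG ⟨SUGen.tu_mem_GU hF v hc, SUGen.tu_mem_SL v c⟩

include hF in
theorem InB.nonorth (hn : 3 ≤ n) {B : Set (Pt n F q)} (hB : IsBlock 𝐆 B) {u w : 𝐕} (hu : InB B u)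
    (hw : InB B w) (hne : ∀ a : F, w ≠ a • u) :
    ∃ w₁ w₂, InB B w₁ ∧ InB B w₂ ∧ Cfsg.hermForm n F q w₁ w₂ ≠ 0 := by
  by_cases h : Cfsg.hermForm n F q u w ≠ 0
  · exact ⟨u, w, hu, hw, h⟩
  push Not at h
  obtain ⟨hu0, hui, -⟩ := id hu
  obtain ⟨hw0, hwi, -⟩ := id hw
  obtain ⟨z, -, hzu, hzw⟩ := SUGen.exists_sep hF (I := Finset.univ) (v := u) (w := w)
    (fun i hi => absurd (Finset.mem_univ i) hi) (fun i hi => absurd (Finset.mem_univ i) hi) hu0 hne
  have hwz : Cfsg.hermForm n F q w z = 1 := by rw [← form_comm hF z w, hzw, one_pow]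
  obtain ⟨t, hv, hwv⟩ := exists_adjust hF hwi (z := z) (by rw [hwz]; exact one_ne_zero)
  rw [hwz] at hwv
  obtain ⟨c, hc, hc0⟩ := SUGen.exists_tz hF
  obtain ⟨g, hg⟩ := exists_tu hF (z + t • w) hc
  have huv : Cfsg.hermForm n F q u (z + t • w) = 0 := by
    rw [form_add_right hF, form_smul_right, h, mul_zero, add_zero]
    exact form_eq_zero_symm hF hzu
  refine ⟨w, act g w, hw, InB.move hB hu hw (a := 1) ?_, ?_⟩
  · rw [act, hg, tu_mulVec hv, huv, mul_zero, zero_smul, add_zero, one_smul]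
  · rw [act, hg, tu_mulVec hv, hwv, mul_one, form_add_right hF, form_smul_right, hwv, hwi, zero_add, mul_one]
    exact pow_ne_zero q hc0

include hF in
theorem preprimitive (hn : 3 ≤ n) : IsPreprimitive 𝐆 (Pt n F q) := by
  haveI := pretransitive hF hn
  obtain ⟨u, -, hu0, hu⟩ := SUStab.exists_iso hF (⊤ : Submodule F 𝐕) (by
    rw [finrank_top, Module.finrank_fin_fun]; omega)
  refine IsPreprimitive.of_isTrivialBlock_base (pt u hu0 hu) fun {B} haB hB => ?_
  by_contra hc
  simp only [IsTrivialBlock, not_or] at hc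
  apply hc.2
  obtain ⟨p, hp, hne⟩ : ∃ p ∈ B, p ≠ pt u hu0 hu := by
    by_contra hh
    push Not at hh
    exact hc.1 fun x hx y hy => (hh x hx).trans (hh y hy).symm
  refine Set.eq_univ_of_forall fun x => ?_
  have h2 : InB B p.1.rep := ⟨p.1.rep_nonzero, p.2, by rwa [pt_rep]⟩
  have h3 : ∀ c : F, p.1.rep ≠ c • u := fun c hcc => hne (Subtype.ext (by
    conv_lhs => rw [← p.1.mk_rep]
    exact (Projectivization.mk_eq_mk_iff' F _ _ _ _).2 ⟨c, hcc.symm⟩))
  obtain ⟨w₁, w₂, h₁, h₂, h₁₂⟩ := InB.nonorth hF hn hB ⟨hu0, hu, haB⟩ h2 h3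
  obtain ⟨_, _, hxB⟩ := InB.all hF hn hB h₁ h₂ h₁₂ x.1.rep_nonzero x.2
  rwa [pt_rep] at hxB

include hF in
theorem perfect (hn : 3 ≤ n) (h32 : ¬ (n = 3 ∧ q = 2)) : commutator 𝐆 = ⊤ := by
  rw [eq_top_iff]
  intro g _
  have h1 : SUGen.T n F q ≤ (commutator 𝐆).map toG := by
    rw [SUGen.T, Subgroup.closure_le]
    rintro _ ⟨v, c, hv, hc, rfl⟩
    obtain ⟨a, ha⟩ := exists_tu hF v (c := c) hc
    refine ⟨a, ?_, ha⟩
    have h4 : 4 ≤ n ∨ (n = 3 ∧ 3 ≤ q) := by
      have := Herm.two_le hF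
      rcases Nat.lt_or_ge n 4 with h | h
      · exact Or.inr ⟨by omega, by by_contra hh; exact h32 ⟨by omega, by omega⟩⟩
      · exact Or.inl h
    have h2 := Cfsg.Agent.S0781.result hF n h4 a v c hv (by
      rw [← SUGen.tu_val hv c, ← ha]; rfl)
    rw [commutator_eq_closure]
    exact Subgroup.subset_closure h2
  obtain ⟨a, ha, hag⟩ := h1 (SUGen.su_le_T hF hn h32
    (show toG g ∈ Cfsg.GU n F q ⊓ Cfsg.Geo.specialLinear (Fin n) F from
      ⟨toG_mem g, Units.ext g.1.2⟩))
  exact toG_injective hag ▸ ha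

include hF in
theorem eq_top_of_tu (hn : 3 ≤ n) (h32 : ¬ (n = 3 ∧ q = 2)) (H : Subgroup 𝐆)
    (h : ∀ (v : 𝐕) (c : F) (a : 𝐆), v ≠ 0 → Cfsg.hermForm n F q v v = 0 → Tz q c →
      toG a = tu q v c → a ∈ H) : H = ⊤ := by
  rw [eq_top_iff]
  intro g _
  have h1 : SUGen.T n F q ≤ H.map toG := by
    rw [SUGen.T, Subgroup.closure_le]
    rintro _ ⟨v, c, hv, hc, rfl⟩
    obtain ⟨a, ha⟩ := exists_tu hF v (c := c) hc
    by_cases hv0 : v = 0
    · have e : tu q v c = 1 := by
        subst hv0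
        exact FormMaxSL.gl_ext fun x => by rw [tu_mulVec hv]; simp
      exact ⟨1, one_mem _, by rw [map_one, e]⟩
    exact ⟨a, h v c a hv0 hv hc ha, ha⟩
  obtain ⟨a, ha, hag⟩ := h1 (SUGen.su_le_T hF hn h32
    (show toG g ∈ Cfsg.GU n F q ⊓ Cfsg.Geo.specialLinear (Fin n) F from
      ⟨toG_mem g, Units.ext g.1.2⟩))
  exact toG_injective hag ▸ ha

include hF in
theorem ker_toPerm (hn : 3 ≤ n) (h32 : ¬ (n = 3 ∧ q = 2)) :
    (MulAction.toPermHom 𝐆 (Pt n F q)).ker = Subgroup.center 𝐆 := by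
  ext g
  rw [MonoidHom.mem_ker, Equiv.Perm.ext_iff]
  simp only [toPermHom_apply, toPerm_apply, Equiv.Perm.one_apply]
  constructor
  · intro h
    have hfix : ∀ v : 𝐕, v ≠ 0 → Cfsg.hermForm n F q v v = 0 → ∃ a : F, act g v = a • v := by
      intro v hv hiso
      have h1 := congrArg Subtype.val (h (pt v hv hiso))
      change toG g • Projectivization.mk F v hv = Projectivization.mk F v hv at h1
      rw [Projectivization.smul_mk, Projectivization.mk_eq_mk_iff'] at h1
      obtain ⟨a, ha⟩ := h1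
      exact ⟨a, ha.symm⟩
    have hC : Subgroup.centralizer {g} = ⊤ := by
      refine eq_top_of_tu hF hn h32 _ fun v c b hv hiso hc hb => ?_
      rw [Subgroup.mem_centralizer_singleton_iff]
      obtain ⟨w, hww, hvw⟩ := exists_partner hF hv hiso
      have hw0 : w ≠ 0 := by
        rintro rfl
        simp [Cfsg.hermForm, zero_pow (show q ≠ 0 by have := Herm.two_le hF; omega)] at hvw
      obtain ⟨a, ha⟩ := hfix v hv hiso
      obtain ⟨a', ha'⟩ := hfix w hw0 hww
      obtain ⟨t, ht, ht0⟩ := SUGen.exists_tz hF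
      have hwv : Cfsg.hermForm n F q w v = 1 := by rw [← form_comm hF v w, hvw, one_pow]
      have hyy : Cfsg.hermForm n F q (v + t • w) (v + t • w) = 0 := by
        unfold SUGen.Tz at ht
        rw [form_add_left, form_add_right hF, form_add_right hF, form_smul_left, form_smul_left,
          form_smul_right, form_smul_right, hiso, hww, hvw, hwv]
        linear_combination ht
      have hy0 : v + t • w ≠ 0 := fun hy => by
        have := congrArg (fun x => Cfsg.hermForm n F q x w) hy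
        simp [form_add_left, form_smul_left, hvw, hww, form_zero_left] at this
      obtain ⟨e, he⟩ := hfix _ hy0 hyy
      have hgy : act g (v + t • w) = a • v + (t * a') • w := by
        rw [act, Matrix.mulVec_add, Matrix.mulVec_smul, ← act, ← act, ha, ha', smul_smul]
      rw [hgy] at he
      have e1 : a = e := by
        have := congrArg (fun x => Cfsg.hermForm n F q x w) he
        simpa [form_add_left, form_smul_left, hvw, hww] using this
      have e2 : a' = e := by
        have := congrArg (fun x => Cfsg.hermForm n F q x v) he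
        simp [form_add_left, form_smul_left, hiso, hwv] at this
        exact mul_left_cancel₀ ht0 (this.trans (mul_comm e t))
      have hN : a * a ^ q = 1 := by
        have h1 := form_act g v w
        rw [ha, ha', form_smul_left, form_smul_right, hvw, mul_one] at h1
        rwa [e2, ← e1] at h1
      refine toG_injective ?_
      rw [map_mul, map_mul, hb]
      have h2 := conj_tu (toG_mem g) hiso c
      rw [show (toG g : Matrix (Fin n) (Fin n) F) *ᵥ v = a • v from ha, tu_smul hF hiso, hN, one_mul] at h2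
      exact (mul_inv_eq_iff_eq_mul.1 h2).symm
    rw [Subgroup.mem_center_iff]
    intro x
    have hx : x ∈ Subgroup.centralizer {g} := hC ▸ Subgroup.mem_top x
    exact Subgroup.mem_centralizer_singleton_iff.1 hx
  · intro hg p
    obtain ⟨c, hc, hc0⟩ := SUGen.exists_tz hF
    obtain ⟨b, hb⟩ := exists_tu hF p.1.rep hc
    have h1 := congrArg toG (Subgroup.mem_center_iff.1 hg b)
    rw [map_mul, map_mul, hb] at h1
    have h2 := conj_tu (toG_mem g) p.2 c
    rw [← h1, mul_inv_cancel_right] at h2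
    obtain ⟨w, hw, hvw⟩ := exists_partner hF p.1.rep_nonzero p.2
    have hwv : Cfsg.hermForm n F q w p.1.rep = 1 := by rw [← form_comm hF _ w, hvw, one_pow]
    have h3 := congrArg (fun t : GL (Fin n) F => (t : Matrix (Fin n) (Fin n) F) *ᵥ w) h2
    rw [tu_mulVec p.2, tu_mulVec (show Cfsg.hermForm n F q (act g p.1.rep) (act g p.1.rep) = 0 by
      rw [form_act]; exact p.2), add_left_cancel_iff, hwv, mul_one] at h3
    conv_lhs => rw [← pt_rep p]
    conv_rhs => rw [← pt_rep p]
    have hμ : c * Cfsg.hermForm n F q w (act g p.1.rep) ≠ 0 := fun h0 => by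
      rw [h0, zero_smul] at h3
      exact smul_ne_zero hc0 p.1.rep_nonzero h3
    exact smul_pt g _ _ _ _ _ _ ⟨(c * Cfsg.hermForm n F q w (act g p.1.rep))⁻¹ * c, by
      rw [← smul_smul, h3, inv_smul_smul₀ hμ]⟩

/-- the transvections with given vector -/
def rootSub (hF : Fintype.card F = q ^ 2) (v : Fin n → F) (hv : Cfsg.hermForm n F q v v = 0) :
    Subgroup (Cfsg.SU n F q) where
  carrier := {g | ∃ c, Tz q c ∧ toG g = tu q v c}
  one_mem' := ⟨0, by simp [SUGen.Tz, show q ≠ 0 by have := Herm.two_le hF; omega], by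
    rw [map_one, tu_zero]⟩
  mul_mem' := by
    rintro a b ⟨c, hc, ha⟩ ⟨d, hd, hb⟩
    refine ⟨c + d, ?_, by rw [map_mul, ha, hb, tu_mul hv]⟩
    unfold SUGen.Tz at hc hd ⊢
    rw [Herm.add_pow_q hF]
    linear_combination hc + hd
  inv_mem' := by
    rintro a ⟨c, hc, ha⟩
    exact ⟨-c, SUGen.tz_neg hF hc, by rw [map_inv, ha, tu_inv hv]⟩

theorem mem_rootSub {v : 𝐕} {hv : Cfsg.hermForm n F q v v = 0} {g : 𝐆} :
    g ∈ rootSub hF v hv ↔ ∃ c, Tz q c ∧ toG g = tu q v c := Iff.rfl

theorem rootSub_smul {v : 𝐕} (hv : Cfsg.hermForm n F q v v = 0) {a : F} (ha : a ≠ 0)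
    (hv' : Cfsg.hermForm n F q (a • v) (a • v) = 0) : rootSub hF (a • v) hv' = rootSub hF v hv := by
  have hq : (a * a ^ q) ^ q = a * a ^ q := by rw [mul_pow, Herm.pow_pow_q hF, mul_comm]
  have hN : a * a ^ q ≠ 0 := mul_ne_zero ha (pow_ne_zero q ha)
  ext g
  constructor
  · rintro ⟨c, hc, hg⟩
    refine ⟨a * a ^ q * c, ?_, hg.trans (tu_smul hF hv a c)⟩
    unfold SUGen.Tz at hc ⊢
    rw [mul_pow, hq, ← mul_add, hc, mul_zero]
  · rintro ⟨c, hc, hg⟩
    refine ⟨(a * a ^ q)⁻¹ * c, ?_, ?_⟩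
    · unfold SUGen.Tz at hc ⊢
      rw [mul_pow, inv_pow, hq, ← mul_add, hc, mul_zero]
    · rw [tu_smul hF hv, mul_inv_cancel_left₀ hN, hg]

include hF in
theorem isSimpleGroup_PSU (hn : 3 ≤ n) (h32 : ¬ (n = 3 ∧ q = 2)) : IsSimpleGroup (Cfsg.PSU n F q) := by
  classical
  have hker := ker_toPerm hF hn h32
  let ρ : Cfsg.PSU n F q →* Equiv.Perm (Pt n F q) :=
    QuotientGroup.lift _ (MulAction.toPermHom 𝐆 (Pt n F q)) hker.ge
  letI : MulAction (Cfsg.PSU n F q) (Pt n F q) := MulAction.compHom _ ρ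
  have hmk : ∀ (g : 𝐆) (p : Pt n F q), (QuotientGroup.mk' _ g : Cfsg.PSU n F q) • p = g • p :=
    fun _ _ => rfl
  have hinj : Function.Injective ρ := by
    rw [← MonoidHom.ker_eq_bot_iff, QuotientGroup.ker_lift, hker, QuotientGroup.map_mk'_self]
  have hFaith : FaithfulSMul (Cfsg.PSU n F q) (Pt n F q) :=
    faithfulSMul_iff.2 fun g hg => hinj (Equiv.ext fun x => by
      rw [map_one]
      exact hg x)
  have hprim : IsPreprimitive (Cfsg.PSU n F q) (Pt n F q) :=
    @MulAction.IsPreprimitive.of_surjective _ _ _ _ _ _ _ _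
      (QuotientGroup.mk' (Subgroup.center 𝐆))
      { toFun := id, map_smul' := fun _ _ => rfl } (preprimitive hF hn)
      Function.surjective_id
  haveI : Nontrivial (Cfsg.PSU n F q) := by
    obtain ⟨v, -, hv, hiso⟩ := SUStab.exists_iso hF (⊤ : Submodule F 𝐕) (by
      rw [finrank_top, Module.finrank_fin_fun]; omega)
    obtain ⟨w, hw, hvw⟩ := exists_partner hF hv hiso
    have hw0 : w ≠ 0 := by
      rintro rfl
      simp [Cfsg.hermForm, zero_pow (show q ≠ 0 by have := Herm.two_le hF; omega)] at hvw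
    obtain ⟨c, hc, hc0⟩ := SUGen.exists_tz hF
    obtain ⟨b, hb⟩ := exists_tu hF v hc
    refine ⟨⟨QuotientGroup.mk' _ b, 1, fun hh => ?_⟩⟩
    have h1 : b ∈ (MulAction.toPermHom 𝐆 (Pt n F q)).ker := hker ▸ (QuotientGroup.eq_one_iff _).1 hh
    have h2 := congrArg Subtype.val (Equiv.Perm.ext_iff.1 h1 (pt w hw0 hw))
    change toG b • Projectivization.mk F w hw0 = Projectivization.mk F w hw0 at h2
    rw [Projectivization.smul_mk, Projectivization.mk_eq_mk_iff', hb] at h2
    obtain ⟨a, ha⟩ := h2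
    have ha' : a • w = w + (c * Cfsg.hermForm n F q w v) • v := ha.trans (tu_mulVec hiso c w)
    rw [show Cfsg.hermForm n F q w v = 1 by rw [← form_comm hF v w, hvw, one_pow], mul_one] at ha'
    have h3 := congrArg (fun x => Cfsg.hermForm n F q x w) ha'
    simp [form_add_left, form_smul_left, hw, hvw] at h3
    exact hc0 h3.symm
  let T : Pt n F q → Subgroup (Cfsg.PSU n F q) := fun p =>
    (rootSub hF p.1.rep p.2).map (QuotientGroup.mk' _)
  have hT : ∀ (w : 𝐕) (hw : w ≠ 0) (hiso : Cfsg.hermForm n F q w w = 0),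
      rootSub hF (pt w hw hiso).1.rep (pt w hw hiso).2 = rootSub hF w hiso := by
    intro w hw hiso
    obtain ⟨a, ha⟩ := (Projectivization.mk_eq_mk_iff' F _ _
      (pt w hw hiso).1.rep_nonzero hw).1 (pt w hw hiso).1.mk_rep
    have ha0 : a ≠ 0 := fun h0 => (pt w hw hiso).1.rep_nonzero (by rw [← ha, h0, zero_smul])
    have key := rootSub_smul hF hiso ha0 (by rw [ha]; exact (pt w hw hiso).2)
    simp only [ha] at key
    exact key
  let S : IwasawaStructure (Cfsg.PSU n F q) (Pt n F q) :=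
    { T := T
      is_comm := fun p => by
        have : IsMulCommutative (rootSub hF p.1.rep p.2) := ⟨⟨fun x y => by
          obtain ⟨x, c, -, hx⟩ := x
          obtain ⟨y, d, -, hy⟩ := y
          exact Subtype.ext (toG_injective (by
            show toG (x * y) = toG (y * x)
            rw [map_mul, map_mul, hx, hy, tu_mul p.2, tu_mul p.2, add_comm]))⟩⟩
        exact Subgroup.map_isMulCommutative _ _
      is_conj := fun g p => by
        obtain ⟨g, rfl⟩ := QuotientGroup.mk'_surjective _ g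
        rw [hmk]
        have hiso : Cfsg.hermForm n F q (act g p.1.rep) (act g p.1.rep) = 0 := by rw [form_act]; exact p.2
        have e : g • p = pt (act g p.1.rep) (act_ne_zero g p.1.rep_nonzero) hiso := by
          conv_lhs => rw [← pt_rep p]
          exact smul_pt g _ _ _ _ _ _ ⟨1, one_smul _ _⟩
        have key : rootSub hF (act g p.1.rep) hiso =
            (rootSub hF p.1.rep p.2).map (MulAut.conj g).toMonoidHom := by
          ext x
          constructor
          · rintro ⟨c, hc, hx⟩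
            obtain ⟨y, hy⟩ := exists_tu hF p.1.rep hc
            refine ⟨y, ⟨c, hc, hy⟩, toG_injective ?_⟩
            show toG (g * y * g⁻¹) = toG x
            rw [map_mul, map_mul, map_inv, hy, conj_tu (toG_mem g) p.2, hx]
          · rintro ⟨y, ⟨c, hc, hy⟩, rfl⟩
            refine ⟨c, hc, ?_⟩
            show toG (g * y * g⁻¹) = _
            rw [map_mul, map_mul, map_inv, hy, conj_tu (toG_mem g) p.2]
        rw [e]
        change Subgroup.map _ (rootSub hF _ _) =
          Subgroup.map (MulAut.conj (QuotientGroup.mk' (Subgroup.center 𝐆) g)).toMonoidHom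
            ((rootSub hF p.1.rep p.2).map (QuotientGroup.mk' _))
        rw [hT, key, Subgroup.map_map, Subgroup.map_map]
        exact congrArg (fun φ => Subgroup.map φ (rootSub hF p.1.rep p.2))
          (MonoidHom.ext fun x => by simp [MulAut.conj_apply])
      is_generator := by
        have hall : (⨆ p : Pt n F q, rootSub hF p.1.rep p.2) = (⊤ : Subgroup 𝐆) := by
          refine eq_top_of_tu hF hn h32 _ fun v c a hv hiso hc ha => ?_
          refine Subgroup.mem_iSup_of_mem (pt v hv hiso) ?_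
          rw [hT]
          exact ⟨c, hc, ha⟩
        change (⨆ p, Subgroup.map _ _) = _
        rw [← Subgroup.map_iSup, hall]
        exact Subgroup.map_top_of_surjective _ (QuotientGroup.mk'_surjective _) }
  refine S.isSimpleGroup ?_ hFaith
  have : Group.IsPerfect 𝐆 := ⟨perfect hF hn h32⟩
  have : Group.IsPerfect (Cfsg.PSU n F q) := inferInstance
  exact this.commutator_eq_top

end CfsgLib.Lie.SUSimple
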