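import Cfsg.Agent.Lie.SpOrder
import Cfsg.Agent.Lie.Witt
import Mathlib.LinearAlgebra.Matrix.GeneralLinearGroup.Card

/-!
The order of the stabiliser of a totally isotropic subspace in the symplectic group.
-/

set_option autoImplicit false
set_option linter.unusedSectionVars false

namespace CfsgLib.Lie.SpParabolic

open Matrix CfsgLib.Lie.Sp

variable {F : Type*} [Field F] {m : ℕ}

theorem sep : (bf m F).SeparatingLeft := fun u h => by
  by_contra hu
  obtain ⟨v, hv⟩ := exists_bf_eq_one (m := m) (F := F) hu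
  rw [h v] at hv
  exact zero_ne_one hv

/-- Witt's lemma for independent tuples. -/
theorem extend_tuple {ι : Type*} (a b : ι → V m F) (ha : LinearIndependent F a) (hb : LinearIndependent F b)
    (h : ∀ i j, bf m F (b i) (b j) = bf m F (a i) (a j)) : ∃ g : G m F, ∀ i, act g (a i) = b i := by
  let ea := Module.Basis.span ha
  let φ : Submodule.span F (Set.range a) →ₗ[F] V m F := ea.constr F b
  have hφ : ∀ i, φ (ea i) = b i := fun i => ea.constr_basis F b i
  have hinj : Function.Injective φ :=
    ea.injective_constr_of_linearIndependent (M' := V m F) (R := F) hb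
  have hE : ∀ x y, bf m F (φ x) (φ y) = bf m F (x : V m F) (y : V m F) := by
    have key : (bf m F).compl₁₂ φ φ =
        (bf m F).compl₁₂ (Submodule.span F (Set.range a)).subtype (Submodule.span F (Set.range a)).subtype := by
      refine LinearMap.ext_basis ea ea fun i j => ?_
      simp only [LinearMap.compl₁₂_apply, hφ]
      rw [h]
      simp [ea]
    exact fun x y => LinearMap.congr_fun (LinearMap.congr_fun key x) y
  obtain ⟨g, hg, hgf⟩ := Witt.witt_alternating (bf m F) bf_self sep _ φ hinj hE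
  have hmem : LinearMap.toMatrix' g.toLinearMap ∈ Matrix.symplecticGroup (Fin m) F :=
    mem_iff_bf.2 fun u v => by simp [LinearMap.toMatrix'_mulVec, hg]
  refine ⟨⟨_, hmem⟩, fun i => ?_⟩
  show LinearMap.toMatrix' g.toLinearMap *ᵥ a i = b i
  rw [LinearMap.toMatrix'_mulVec]
  have := hgf (ea i)
  rw [hφ] at this
  simpa [ea] using this

/-- the fibres of an orbit map -/
theorem card_fibre {H T : Type*} [Group H] (K : Subgroup H) (φ : H → T) (hs : Function.Surjective φ)
    (hfib : ∀ g g', φ g = φ g' ↔ g⁻¹ * g' ∈ K) : Nat.card H = Nat.card T * Nat.card K := by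
  rw [Subgroup.card_eq_card_quotient_mul_card_subgroup K]
  congr 1
  refine Nat.card_congr (Equiv.ofBijective (Quotient.lift φ fun g g' h =>
    (hfib g g').2 (QuotientGroup.leftRel_apply.1 h)) ⟨?_, ?_⟩)
  · intro x y
    induction x using Quotient.inductionOn with
    | _ g =>
      induction y using Quotient.inductionOn with
      | _ g' => exact fun h => Quotient.sound (QuotientGroup.leftRel_apply.2 ((hfib g g').1 h))
  · intro t
    obtain ⟨g, rfl⟩ := hs t
    exact ⟨Quotient.mk _ g, rfl⟩

variable {k : ℕ} (hk : k ≤ m)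

/-- the standard isotropic frame -/
def E : Fin k → V m F := fun i => e (Fin.castLE hk i)

/-- the standard dual frame -/
def Fv : Fin k → V m F := fun i => f (Fin.castLE hk i)

theorem bf_E_left (i : Fin k) (x : V m F) : bf m F (E hk i) x = - x (.inr (Fin.castLE hk i)) := bf_e_left _ _

theorem bf_Fv_left (i : Fin k) (x : V m F) : bf m F (Fv hk i) x = x (.inl (Fin.castLE hk i)) := bf_f_left _ _

/-- admissible dual frames -/
def Dual : Type _ := {v : Fin k → V m F //
  (∀ i j : Fin k, v j (.inr (Fin.castLE hk i)) = if i = j then 1 else 0) ∧ ∀ i j, bf m F (v i) (v j) = 0}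

/-- pointwise stabiliser of the frame -/
def fixE : Subgroup (G m F) where
  carrier := {g | ∀ i, act g (E hk i) = E hk i}
  one_mem' := fun i => act_one _
  mul_mem' := fun {a b} ha hb i => by rw [act_mul, hb i, ha i]
  inv_mem' := fun {a} ha i => by conv_lhs => rw [← ha i, act_inv_act]

theorem E_indep : LinearIndependent F (E hk : Fin k → V m F) := by
  refine Fintype.linearIndependent_iff.2 fun c hc i => ?_
  have := congrFun hc (.inl (Fin.castLE hk i))
  simpa [E, e, Finset.sum_apply, Pi.single_apply, Fin.castLE_inj] using this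

theorem sum_indep (v : Dual (F := F) hk) : LinearIndependent F (Sum.elim (E hk) v.1) := by
  refine Fintype.linearIndependent_iff.2 fun c hc => ?_
  rw [Fintype.sum_sum_type] at hc
  simp only [Sum.elim_inl, Sum.elim_inr] at hc
  have hv : ∀ i, c (.inr i) = 0 := fun i => by
    have := congrFun hc (.inr (Fin.castLE hk i))
    simpa [E, e, Finset.sum_apply, v.2.1] using this
  simp only [hv, zero_smul, Finset.sum_const_zero, add_zero] at hc
  rintro (i | i)
  · exact Fintype.linearIndependent_iff.1 (E_indep hk) _ hc i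
  · exact hv i

theorem Fv_mem : (∀ i j : Fin k, (Fv hk j : V m F) (.inr (Fin.castLE hk i)) = if i = j then 1 else 0) ∧
    ∀ i j, bf m F (Fv hk i) (Fv hk j : V m F) = 0 := by
  refine ⟨fun i j => ?_, fun i j => ?_⟩
  · simp [Fv, f, Pi.single_apply, Fin.castLE_inj]
  · rw [bf_Fv_left]; simp [Fv, f]

/-- a dual frame from free parameters -/
noncomputable def coef (L : {p : Fin k × Fin k // p.1 ≤ p.2} → F) (B : Fin k → Sp.W m F k) (i j : Fin k) : F :=
  if h : i ≤ j then L ⟨(i, j), h⟩ else L ⟨(j, i), le_of_not_ge h⟩ + bf m F (B i : V m F) (B j : V m F)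

/-- a dual frame from free parameters -/
noncomputable def mkV (L : {p : Fin k × Fin k // p.1 ≤ p.2} → F) (B : Fin k → Sp.W m F k) (i : Fin k) : V m F :=
  Fv hk i + (∑ l, coef L B i l • E hk l) + (B i : V m F)

theorem mkV_inl (L : {p : Fin k × Fin k // p.1 ≤ p.2} → F) (B : Fin k → Sp.W m F k) (i l : Fin k) :
    mkV hk L B i (.inl (Fin.castLE hk l)) = coef L B i l := by
  simp [mkV, Fv, f, E, e, Finset.sum_apply, Pi.single_apply, Fin.castLE_inj, ((B i).2 (Fin.castLE hk l) l.isLt).1]

theorem mkV_inr (L : {p : Fin k × Fin k // p.1 ≤ p.2} → F) (B : Fin k → Sp.W m F k) (i l : Fin k) :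
    mkV hk L B i (.inr (Fin.castLE hk l)) = if l = i then 1 else 0 := by
  simp [mkV, Fv, f, E, e, Finset.sum_apply, Pi.single_apply, Fin.castLE_inj, ((B i).2 (Fin.castLE hk l) l.isLt).2]

theorem mkV_iso (L : {p : Fin k × Fin k // p.1 ≤ p.2} → F) (B : Fin k → Sp.W m F k) (i j : Fin k) :
    bf m F (mkV hk L B i) (mkV hk L B j) = 0 := by
  have hleft : ∀ (a : Fin k) (x : V m F), bf m F (mkV hk L B a) x =
      x (.inl (Fin.castLE hk a)) - (∑ l, coef L B a l * x (.inr (Fin.castLE hk l))) + bf m F (B a : V m F) x :=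
    fun a x => by
      simp [mkV, bf_Fv_left, bf_E_left, map_add, map_sum, LinearMap.add_apply, LinearMap.smul_apply,
        Finset.sum_neg_distrib, sub_eq_add_neg]
  have hB : ∀ a b : Fin k, bf m F (B a : V m F) (mkV hk L B b) = bf m F (B a : V m F) (B b : V m F) := by
    intro a b
    rw [bf_swap, hleft, bf_swap (B a : V m F)]
    have hz : ∀ l : Fin k, (B a : V m F) (.inl (Fin.castLE hk l)) = 0 ∧ (B a : V m F) (.inr (Fin.castLE hk l)) = 0 :=
      fun l => (B a).2 (Fin.castLE hk l) l.isLt
    simp [(hz _).1, (hz _).2]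
  rw [hleft, hB, mkV_inl]
  simp only [mkV_inr, mul_ite, mul_one, mul_zero, Finset.sum_ite_eq', Finset.mem_univ, if_true]
  rcases lt_trichotomy i j with h | rfl | h
  · rw [coef, coef, dif_neg (not_le.2 h), dif_pos h.le, bf_swap (B j : V m F)]
    ring
  · simp [bf_self]
  · rw [coef, coef, dif_pos h.le, dif_neg (not_le.2 h)]
    ring

variable [Fintype F]

theorem card_pairs_le : Nat.card {p : Fin k × Fin k // p.1 ≤ p.2} = k * (k + 1) / 2 := by
  classical
  let e : {p : Fin k × Fin k // p.1 ≤ p.2} ≃ (Σ j : Fin k, Fin ((j : ℕ) + 1)) :=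
    { toFun := fun p => ⟨p.1.2, ⟨(p.1.1 : ℕ), Nat.lt_succ_of_le p.2⟩⟩
      invFun := fun s => ⟨(⟨(s.2 : ℕ), lt_of_lt_of_le s.2.isLt s.1.isLt⟩, s.1), Nat.lt_succ_iff.1 s.2.isLt⟩
      left_inv := fun p => rfl
      right_inv := fun s => rfl }
  rw [Nat.card_congr e, Nat.card_sigma]
  simp only [Nat.card_eq_fintype_card, Fintype.card_fin]
  rw [Fin.sum_univ_eq_sum_range (fun i => i + 1) k]
  have h := Finset.sum_range_id (k + 1)
  rw [Finset.sum_range_succ', add_zero] at h
  rw [h, mul_comm, Nat.add_sub_cancel]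

theorem card_dual : Nat.card (Dual (F := F) hk) = Fintype.card F ^ (k * (k + 1) / 2 + 2 * k * (m - k)) := by
  classical
  let ψ : ({p : Fin k × Fin k // p.1 ≤ p.2} → F) × (Fin k → Sp.W m F k) → Dual (F := F) hk := fun p =>
    ⟨mkV hk p.1 p.2, fun i j => mkV_inr hk p.1 p.2 j i, fun i j => mkV_iso hk p.1 p.2 i j⟩
  have hψ : Function.Bijective ψ := by
    constructor
    · rintro ⟨L, B⟩ ⟨L', B'⟩ h
      have h' : mkV hk L B = mkV hk L' B' := congrArg Subtype.val h
      have hc : ∀ i l, coef L B i l = coef L' B' i l := fun i l => by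
        rw [← mkV_inl hk L B, ← mkV_inl hk L' B', h']
      have hBB : B = B' := funext fun i => Subtype.ext (by
        have := congrFun h' i
        simpa [mkV, hc] using this)
      subst hBB
      refine Prod.ext (funext fun p => ?_) rfl
      simpa [coef, dif_pos p.2] using hc p.1.1 p.1.2
    · rintro ⟨v, hv1, hv2⟩
      let B : Fin k → Sp.W m F k := fun i =>
        ⟨Sum.elim (fun l => if (l : ℕ) < k then 0 else v i (.inl l)) (fun l => if (l : ℕ) < k then 0 else v i (.inr l)),
          fun l hl => by simp [hl]⟩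
      let A : Fin k → Fin k → F := fun i l => v i (.inl (Fin.castLE hk l))
      have hdec : ∀ i, v i = Fv hk i + (∑ l, A i l • E hk l) + (B i : V m F) := by
        intro i
        funext x
        rcases x with x | x <;> by_cases hx : (x : ℕ) < k
        · obtain ⟨l, rfl⟩ : ∃ l : Fin k, Fin.castLE hk l = x := ⟨⟨x, hx⟩, rfl⟩
          simp [A, B, Fv, f, E, e, Finset.sum_apply, Pi.single_apply, Fin.castLE_inj]
        · have : ∀ l : Fin k, x ≠ Fin.castLE hk l := fun l h => hx (by rw [h]; exact l.isLt)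
          simp [B, Fv, f, E, e, Finset.sum_apply, Pi.single_apply, this, hx]
        · obtain ⟨l, rfl⟩ : ∃ l : Fin k, Fin.castLE hk l = x := ⟨⟨x, hx⟩, rfl⟩
          simp [B, Fv, f, E, e, Finset.sum_apply, Pi.single_apply, Fin.castLE_inj, hv1]
        · have : ∀ l : Fin k, x ≠ Fin.castLE hk l := fun l h => hx (by rw [h]; exact l.isLt)
          simp [B, Fv, f, E, e, Finset.sum_apply, Pi.single_apply, this, hx]
      refine ⟨(fun p => A p.1.1 p.1.2, B), Subtype.ext (funext fun i => ?_)⟩
      show mkV hk _ B i = v i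
      rw [hdec i, mkV]
      congr 2
      refine Finset.sum_congr rfl fun l _ => ?_
      congr 1
      unfold coef
      split_ifs with h
      · rfl
      · have h2 := hv2 i l
        rw [hdec i, map_add, map_add, LinearMap.add_apply, LinearMap.add_apply, bf_Fv_left, map_sum,
          LinearMap.sum_apply] at h2
        simp only [map_smul, LinearMap.smul_apply, bf_E_left, hv1, smul_eq_mul, mul_neg, mul_ite, mul_one,
          mul_zero, Finset.sum_neg_distrib, Finset.sum_ite_eq', Finset.mem_univ, if_true] at h2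
        have hB : bf m F (B i : V m F) (v l) = bf m F (B i : V m F) (B l : V m F) := by
          rw [hdec l, map_add, map_add, map_sum, bf_swap (Fv hk l), bf_Fv_left,
            ((B i).2 (Fin.castLE hk l) l.isLt).1, Finset.sum_eq_zero fun z _ => by
              rw [map_smul, bf_swap (E hk z), bf_E_left, ((B i).2 (Fin.castLE hk z) z.isLt).2]; simp]
          simp
        rw [hB] at h2
        show v l (.inl (Fin.castLE hk i)) + _ = v i (.inl (Fin.castLE hk l))
        linear_combination h2
  rw [← Nat.card_eq_of_bijective ψ hψ, Nat.card_prod, Nat.card_fun, Nat.card_fun, card_pairs_le, Sp.card_W,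
    Nat.card_eq_fintype_card, Nat.card_fin, ← pow_mul, ← pow_add]
  congr 1
  ring

theorem card_fixE : Nat.card (fixE (F := F) hk) =
    Fintype.card F ^ (k * (k + 1) / 2 + 2 * k * (m - k)) *
      (Fintype.card F ^ ((m - k) ^ 2) * ∏ i ∈ Finset.range (m - k), (Fintype.card F ^ (2 * (i + 1)) - 1)) := by
  classical
  have hs : ∀ (g : fixE (F := F) hk), (∀ i j : Fin k, act g.1 (Fv hk j) (.inr (Fin.castLE hk i)) = if i = j then 1 else 0) ∧
      ∀ i j, bf m F (act g.1 (Fv hk i)) (act g.1 (Fv hk j)) = 0 := by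
    intro g
    refine ⟨fun i j => ?_, fun i j => by rw [bf_act]; exact (Fv_mem hk).2 i j⟩
    have := bf_E_left hk i (act g.1 (Fv hk j))
    rw [← g.2 i, bf_act, bf_E_left, (Fv_mem hk).1] at this
    exact (neg_injective this).symm
  have hfp : fixPairs m F k ≤ fixE hk := fun g hg i => hg _ ⟨Fin.castLE hk i, i.isLt, Or.inl rfl⟩
  rw [← card_dual hk, ← Nat.card_eq_fintype_card, ← card_fixPairs (m := m) (F := F) (m - k) k (by omega),
    ← Nat.card_congr (Subgroup.subgroupOfEquivOfLe hfp).toEquiv]
  refine card_fibre ((fixPairs m F k).subgroupOf (fixE hk)) (fun g => ⟨_, hs g⟩) (fun v => ?_) fun g g' => ?_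
  · obtain ⟨g, hg⟩ := extend_tuple (Sum.elim (E hk) (Fv hk)) (Sum.elim (E hk) v.1)
      (sum_indep hk ⟨_, Fv_mem hk⟩) (sum_indep hk v) (by
        rintro (i | i) (j | j)
        · rfl
        · simp [bf_E_left, v.2.1, (Fv_mem hk).1]
        · simp only [Sum.elim_inl, Sum.elim_inr]
          rw [bf_swap (E hk j) (v.1 i), bf_swap (E hk j) (Fv hk i)]
          simp [bf_E_left, v.2.1, (Fv_mem hk).1]
        · simp [v.2.2, (Fv_mem hk).2])
    exact ⟨⟨g, fun i => hg (.inl i)⟩, Subtype.ext (funext fun i => hg (.inr i))⟩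
  · rw [Subgroup.mem_subgroupOf]
    constructor
    · rintro h0 s ⟨l, hl, hs'⟩
      have h : (fun j => act g.1 (Fv hk j)) = fun j => act g'.1 (Fv hk j) := congrArg Subtype.val h0
      rw [Subgroup.coe_mul, InvMemClass.coe_inv, act_mul]
      obtain ⟨l, rfl⟩ : ∃ z : Fin k, Fin.castLE hk z = l := ⟨⟨l, hl⟩, rfl⟩
      rcases hs' with rfl | rfl
      · show act g.1⁻¹ (act g'.1 (E hk l)) = E hk l
        rw [g'.2 l]
        exact (fixE hk).inv_mem g.2 l
      · show act g.1⁻¹ (act g'.1 (Fv hk l)) = Fv hk l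
        rw [← congrFun h l, act_inv_act]
    · intro h
      refine Subtype.ext (funext fun i => ?_)
      show act g.1 (Fv hk i) = act g'.1 (Fv hk i)
      have := h (Fv hk i) ⟨Fin.castLE hk i, i.isLt, Or.inr rfl⟩
      rw [Subgroup.coe_mul, InvMemClass.coe_inv, act_mul] at this
      conv_lhs => rw [← this, act_act_inv]

theorem card_stab (Z : Submodule F (V m F)) (hZk : Module.finrank F Z = k)
    (hZ : ∀ u ∈ Z, ∀ v ∈ Z, bf m F u v = 0) :
    Nat.card ↥(Cfsg.stabilizing (Cfsg.spToMat m F) (Z : Set (V m F))) =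
      (∏ i : Fin k, (Fintype.card F ^ k - Fintype.card F ^ (i : ℕ))) * Nat.card (fixE (F := F) hk) := by
  classical
  set Z0 := Submodule.span F (Set.range (E hk : Fin k → V m F))
  let b := Module.finBasisOfFinrankEq F Z hZk
  have hbz : ∀ i, (b i : V m F) ∈ Z := fun i => (b i).2
  obtain ⟨g0, hg0⟩ := extend_tuple (E hk) (fun i => (b i : V m F)) (E_indep hk)
    (b.linearIndependent.map' Z.subtype Z.ker_subtype) (fun i j => by
      rw [hZ _ (hbz i) _ (hbz j), bf_E_left]; simp [E, e])
  have hspan : ∀ x, x ∈ Z0 ↔ act g0 x ∈ Z := by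
    have hfwd : ∀ x ∈ Z0, act g0 x ∈ Z := fun x hx => by
      induction hx using Submodule.span_induction with
      | mem x hx => obtain ⟨i, rfl⟩ := hx; rw [hg0]; exact hbz i
      | zero => rw [act, Matrix.mulVec_zero]; exact Z.zero_mem
      | add a c _ _ ha hc => rw [act_add]; exact Z.add_mem ha hc
      | smul c a _ ha => rw [act_smul]; exact Z.smul_mem c ha
    refine fun x => ⟨hfwd x, fun hx => ?_⟩
    have hx' := b.sum_repr ⟨_, hx⟩
    have hx'' : act g0 (∑ i, b.repr ⟨_, hx⟩ i • E hk i) = act g0 x := by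
      have := congrArg Subtype.val hx'
      simp only [Submodule.coe_sum, Submodule.coe_smul] at this
      refine Eq.trans ?_ this
      rw [act, Matrix.mulVec_sum]
      exact Finset.sum_congr rfl fun i _ => by rw [← hg0, Matrix.mulVec_smul]; rfl
    rw [← act_inv_act g0 x, ← hx'', act_inv_act]
    exact Z0.sum_mem fun i _ => Z0.smul_mem _ (Submodule.subset_span ⟨i, rfl⟩)
  set S0 := Cfsg.stabilizing (Cfsg.spToMat m F) (Z0 : Set (V m F))
  have hconj : Cfsg.stabilizing (Cfsg.spToMat m F) (Z : Set (V m F)) = S0.map (MulAut.conj g0).toMonoidHom := by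
    ext g
    rw [Subgroup.mem_map_equiv, MulAut.conj_symm_apply]
    constructor
    · intro h x
      show x ∈ Z0 ↔ act (g0⁻¹ * g * g0) x ∈ Z0
      rw [hspan, hspan, act_mul, act_mul, act_act_inv]
      exact h (act g0 x)
    · intro h x
      show x ∈ Z ↔ act g x ∈ Z
      have := h (act g0⁻¹ x)
      change _ ∈ Z0 ↔ act (g0⁻¹ * g * g0) _ ∈ Z0 at this
      rwa [hspan, hspan, act_mul, act_mul, act_act_inv, act_act_inv] at this
  rw [hconj, Subgroup.card_map_of_injective (MulAut.conj g0).injective]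
  have hE0 : ∀ i, E hk i ∈ Z0 := fun i => Submodule.subset_span ⟨i, rfl⟩
  have hfin : Module.finrank F Z0 = k := by
    rw [finrank_span_eq_card (E_indep hk), Fintype.card_fin]
  have hfE : fixE hk ≤ S0 := by
    intro g hg x
    show x ∈ Z0 ↔ act g x ∈ Z0
    have hx : ∀ (h : G m F), (∀ i, act h (E hk i) = E hk i) → ∀ y ∈ Z0, act h y = y := fun h hh y hy => by
      induction hy using Submodule.span_induction with
      | mem y hy => obtain ⟨i, rfl⟩ := hy; exact hh i
      | zero => rw [act, Matrix.mulVec_zero]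
      | add a c _ _ ha hc => rw [act_add, ha, hc]
      | smul c a _ ha => rw [act_smul, ha]
    refine ⟨fun h => by rw [hx g hg x h]; exact h, fun h => ?_⟩
    have := hx g⁻¹ ((fixE hk).inv_mem hg) _ h
    rw [act_inv_act] at this
    rwa [this]
  have hcard := card_linearIndependent (K := F) (V := Z0) (k := k) (by rw [hfin])
  rw [hfin] at hcard
  rw [← hcard, ← Nat.card_congr (Subgroup.subgroupOfEquivOfLe hfE).toEquiv]
  have hind : ∀ g : S0, LinearIndependent F (fun i => (⟨act g.1 (E hk i), (g.2 _).1 (hE0 i)⟩ : Z0)) := by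
    intro g
    refine LinearIndependent.of_comp Z0.subtype ?_
    let L : V m F →ₗ[F] V m F := Matrix.mulVecLin (g.1 : Matrix (Fin m ⊕ Fin m) (Fin m ⊕ Fin m) F)
    refine (E_indep hk).map' L (LinearMap.ker_eq_bot.2 fun u w h => ?_)
    rw [← act_inv_act g.1 u, ← act_inv_act g.1 w]
    exact congrArg (act g.1⁻¹) h
  refine card_fibre ((fixE hk).subgroupOf S0) (fun g => (⟨_, hind g⟩ : {s : Fin k → Z0 // LinearIndependent F s}))
    (fun v => ?_) fun g g' => ?_
  · have hv : LinearIndependent F (fun i => (v.1 i : V m F)) := v.2.map' Z0.subtype Z0.ker_subtype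
    have hiso : ∀ x ∈ Z0, ∀ y ∈ Z0, bf m F x y = 0 := fun x hx y hy => by
      rw [← bf_act g0]; exact hZ _ ((hspan x).1 hx) _ ((hspan y).1 hy)
    obtain ⟨g, hg⟩ := extend_tuple (E hk) (fun i => (v.1 i : V m F)) (E_indep hk) hv (fun i j => by
      rw [hiso _ (v.1 i).2 _ (v.1 j).2, hiso _ (hE0 i) _ (hE0 j)])
    have hfwd : ∀ x ∈ Z0, act g x ∈ Z0 := fun x hx => by
      induction hx using Submodule.span_induction with
      | mem x hx => obtain ⟨i, rfl⟩ := hx; rw [hg]; exact (v.1 i).2
      | zero => rw [act, Matrix.mulVec_zero]; exact Z0.zero_mem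
      | add a c _ _ ha hc => rw [act_add]; exact Z0.add_mem ha hc
      | smul c a _ ha => rw [act_smul]; exact Z0.smul_mem c ha
    have hmem : g ∈ S0 := fun x => by
      show x ∈ Z0 ↔ act g x ∈ Z0
      refine ⟨hfwd x, fun h => ?_⟩
      let f : Z0 → Z0 := fun w => ⟨_, hfwd w.1 w.2⟩
      obtain ⟨w, hw⟩ := Finite.surjective_of_injective (f := f) (fun u w e => Subtype.ext (by
        rw [← act_inv_act g u.1, ← act_inv_act g w.1]
        exact congrArg (act g⁻¹) (congrArg Subtype.val e))) ⟨_, h⟩
      rw [← act_inv_act g x, ← show act g w.1 = act g x from congrArg Subtype.val hw, act_inv_act]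
      exact w.2
    exact ⟨⟨g, hmem⟩, Subtype.ext (funext fun i => Subtype.ext (hg i))⟩
  · rw [Subgroup.mem_subgroupOf, Subtype.mk.injEq, funext_iff]
    constructor
    · intro h i
      have hi : act g.1 (E hk i) = act g'.1 (E hk i) := congrArg Subtype.val (h i)
      rw [Subgroup.coe_mul, InvMemClass.coe_inv, act_mul, ← hi, act_inv_act]
    · intro h i
      refine Subtype.ext ?_
      have := h i
      rw [Subgroup.coe_mul, InvMemClass.coe_inv, act_mul] at this
      show act g.1 (E hk i) = act g'.1 (E hk i)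
      conv_lhs => rw [← this, act_act_inv]

end CfsgLib.Lie.SpParabolic
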