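import Cfsg.Agent.Lie.HermLines
import Cfsg.Agent.Lie.Unitary
import Cfsg.Agent.Lie.SpParabolic
import Cfsg.Agent.Lie.SUSimple

/-!
The order of the stabiliser of a totally isotropic subspace in the special unitary group.
-/

set_option autoImplicit false
set_option linter.unusedSimpArgs false
set_option linter.unusedSectionVars false

namespace CfsgLib.Lie.SUParabolic

open Matrix
open CfsgLib.Lie.Herm (form_add_left form_add_right form_smul_left form_smul_right form_comm form_snoc mem_GU)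

variable {F : Type*} [Field F] [Fintype F] {q n k : ℕ} (hF : Fintype.card F = q ^ 2)

/-- isotropic frames -/
def Fr (n k : ℕ) (F : Type*) [Field F] (q : ℕ) : Type _ :=
  {u : Fin k → (Fin n → F) // LinearIndependent F u ∧ ∀ i j, Cfsg.hermForm n F q (u i) (u j) = 0}

instance : Finite (Fr n k F q) := Subtype.finite

include hF in
theorem iso_span {ι : Type*} {u : ι → (Fin n → F)} (h : ∀ i j, Cfsg.hermForm n F q (u i) (u j) = 0)
    {x y : Fin n → F} (hx : x ∈ Submodule.span F (Set.range u)) (hy : y ∈ Submodule.span F (Set.range u)) :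
    Cfsg.hermForm n F q x y = 0 := by
  induction hx using Submodule.span_induction with
  | mem x hx =>
    obtain ⟨i, rfl⟩ := hx
    induction hy using Submodule.span_induction with
    | mem y hy => obtain ⟨j, rfl⟩ := hy; exact h i j
    | zero => exact HermLines.form_zero_zero hF _
    | add a b _ _ ha hb => rw [form_add_right hF, ha, hb, add_zero]
    | smul c a _ ha => rw [form_smul_right, ha, mul_zero]
  | zero => exact SUFull.form_zero_left _
  | add a b _ _ ha hb => rw [form_add_left, ha, hb, add_zero]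
  | smul c a _ ha => rw [form_smul_left, ha, mul_zero]

include hF in
theorem card_fr_succ (n k : ℕ) : Nat.card (Fr (n + 2) (k + 1) F q) =
    (Nat.card (Herm.Lev (n + 2) F q (0 : F)) - 1) * ((q ^ 2) ^ k * Nat.card (Fr n k F q)) := by
  classical
  have hq := Herm.two_le hF
  obtain ⟨a, ha⟩ := SUStab.exists_norm' hF (-1 : F) (by rw [← Herm.conj_apply hF, map_neg, map_one])
  obtain ⟨v0, hv0d⟩ : ∃ v0 : Fin (n + 2) → F, v0 = Fin.snoc (Fin.snoc (0 : Fin n → F) 1) a := ⟨_, rfl⟩
  let L : (Fin n → F) → F → (Fin (n + 2) → F) := fun w s => Fin.snoc (Fin.snoc w s) (s * a)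
  have hLL : ∀ w w' s s', Cfsg.hermForm (n + 2) F q (L w s) (L w' s') = Cfsg.hermForm n F q w w' := fun w w' s s' => by
    show Cfsg.hermForm (n + 2) F q (Fin.snoc (Fin.snoc w s) (s * a)) (Fin.snoc (Fin.snoc w' s') (s' * a)) = _
    rw [form_snoc, form_snoc, mul_pow]
    linear_combination s * s' ^ q * ha
  have hLv : ∀ w s, Cfsg.hermForm (n + 2) F q (L w s) v0 = 0 := fun w s => by
    rw [hv0d, form_snoc, form_snoc, HermLines.form_zero_zero hF, one_pow]
    linear_combination s * ha
  have hL0 : v0 = L 0 1 := by rw [hv0d]; simp [L]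
  have hdec : ∀ x, Cfsg.hermForm (n + 2) F q x v0 = 0 →
      x = L (Fin.init (Fin.init x)) (Fin.init x (Fin.last n)) := by
    intro x hx
    have e : x = Fin.snoc (Fin.snoc (Fin.init (Fin.init x)) (Fin.init x (Fin.last n))) (x (Fin.last (n + 1))) := by
      rw [Fin.snoc_init_self, Fin.snoc_init_self]
    rw [e, hv0d, form_snoc, form_snoc, HermLines.form_zero_zero hF, one_pow] at hx
    show x = Fin.snoc (Fin.snoc (Fin.init (Fin.init x)) (Fin.init x (Fin.last n))) (Fin.init x (Fin.last n) * a)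
    conv_lhs => rw [e, show x (Fin.last (n + 1)) = Fin.init x (Fin.last n) * a by
      linear_combination x (Fin.last (n + 1)) * ha - a * hx]
  have hv00 : v0 ≠ 0 := fun e => by
    have := congrFun e (Fin.castSucc (Fin.last n))
    rw [hv0d] at this
    simp at this
  have hv0i : Cfsg.hermForm (n + 2) F q v0 v0 = 0 := by
    rw [hL0, hLL]; exact SUFull.form_zero_left _
  have hLadd : ∀ (c : Fin k → F) (w : Fin k → (Fin n → F)) (s : Fin k → F),
      ∑ i, c i • L (w i) (s i) = L (∑ i, c i • w i) (∑ i, c i * s i) := by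
    intro c w s
    funext j
    refine Fin.lastCases ?_ (fun j => Fin.lastCases ?_ (fun j => ?_) j) j <;>
      simp [L, Finset.sum_apply, Finset.sum_mul, mul_assoc]
  have hLI : ∀ (w : Fin k → (Fin n → F)) (s : Fin k → F),
      LinearIndependent F (Fin.cons v0 (fun i => L (w i) (s i)) : Fin (k + 1) → (Fin (n + 2) → F)) ↔
        LinearIndependent F w := by
    intro w s
    rw [Fintype.linearIndependent_iff, Fintype.linearIndependent_iff]
    refine ⟨fun h c hc i => ?_, fun h c hc => ?_⟩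
    · have := h (Fin.cons (-∑ i, c i * s i) c) ?_ i.succ
      · simpa using this
      rw [Fin.sum_univ_succ]
      simp only [Fin.cons_zero, Fin.cons_succ]
      rw [hLadd, hc, hL0]
      funext j
      refine Fin.lastCases ?_ (fun j => Fin.lastCases ?_ (fun j => ?_) j) j <;> simp [L]
    · rw [Fin.sum_univ_succ] at hc
      simp only [Fin.cons_zero, Fin.cons_succ] at hc
      rw [hLadd] at hc
      have h1 : ∑ i : Fin k, c i.succ • w i = 0 := funext fun j => by
        have := congrFun hc (Fin.castSucc (Fin.castSucc j))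
        simpa [L, hv0d] using this
      have h2 := h _ h1
      simp only [h2, zero_smul, zero_mul, Finset.sum_const_zero] at hc
      have h3 : c 0 = 0 := by
        have := congrFun hc (Fin.castSucc (Fin.last n))
        simpa [L, hv0d] using this
      exact Fin.cases h3 h2
  let N := {v : Fin (n + 2) → F // Cfsg.hermForm (n + 2) F q v v = 0 ∧ v ≠ 0}
  let φ : Fr (n + 2) (k + 1) F q → N := fun u => ⟨u.1 0, u.2.2 0 0, u.2.1.ne_zero 0⟩
  have hfib : ∀ v : N, Nat.card {u // φ u = v} = (q ^ 2) ^ k * Nat.card (Fr n k F q) := by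
    intro v
    obtain ⟨g, hg, hgv⟩ := HermLines.iso_transitive hF v.2.2 hv00 v.2.1 hv0i
    have hgs : ∀ x y, Cfsg.hermForm (n + 2) F q (g.symm x) (g.symm y) = Cfsg.hermForm (n + 2) F q x y :=
      fun x y => by rw [← hg, g.apply_symm_apply, g.apply_symm_apply]
    have hu0 : ∀ u : {u // φ u = v}, u.1.1 0 = v.1 := fun u => congrArg Subtype.val u.2
    have hperp : ∀ (u : {u // φ u = v}) (i : Fin k),
        g (u.1.1 i.succ) = L (Fin.init (Fin.init (g (u.1.1 i.succ)))) (Fin.init (g (u.1.1 i.succ)) (Fin.last n)) :=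
      fun u i => hdec _ (by rw [← hgv, ← hu0 u, hg]; exact u.1.2.2 _ _)
    have hcons : ∀ u : {u // φ u = v},
        g ∘ u.1.1 = (Fin.cons v0 (fun i => L (Fin.init (Fin.init (g (u.1.1 i.succ)))) (Fin.init (g (u.1.1 i.succ)) (Fin.last n))) :
          Fin (k + 1) → (Fin (n + 2) → F)) := fun u => funext fun i => by
      refine Fin.cases ?_ (fun i => ?_) i
      · simp [hu0 u, hgv]
      · simp only [Function.comp, Fin.cons_succ]; exact hperp u i
    let e : {u // φ u = v} ≃ (Fin k → F) × Fr n k F q :=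
      { toFun := fun u => (fun i => Fin.init (g (u.1.1 i.succ)) (Fin.last n),
          ⟨fun i => Fin.init (Fin.init (g (u.1.1 i.succ))), (hLI _ _).1 (hcons u ▸ u.1.2.1.map' g.toLinearMap g.ker),
            fun i j => by rw [← hLL, ← hperp u i, ← hperp u j, hg]; exact u.1.2.2 _ _⟩)
        invFun := fun p => ⟨⟨fun i => g.symm ((Fin.cons v0 (fun i => L (p.2.1 i) (p.1 i)) :
            Fin (k + 1) → (Fin (n + 2) → F)) i),
          ((hLI _ _).2 p.2.2.1).map' g.symm.toLinearMap g.symm.ker, fun i j => by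
            have h0 : ∀ i, Cfsg.hermForm (n + 2) F q v0 (L (p.2.1 i) (p.1 i)) = 0 := fun i =>
              SUFull.form_eq_zero_symm hF (hLv _ _)
            rw [hgs]
            refine Fin.cases ?_ (fun i => ?_) i <;> refine Fin.cases ?_ (fun j => ?_) j <;>
              simp [hv0i, hLv, h0, hLL, p.2.2.2]⟩, Subtype.ext (by
            show g.symm _ = v.1
            rw [Fin.cons_zero, ← hgv, g.symm_apply_apply])⟩
        left_inv := fun u => Subtype.ext (Subtype.ext (funext fun i => by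
          show g.symm _ = u.1.1 i
          rw [← congrFun (hcons u) i, Function.comp, g.symm_apply_apply]))
        right_inv := fun p => by
          refine Prod.ext (funext fun i => ?_) (Subtype.ext (funext fun i => ?_)) <;>
            simp [L] }
    rw [Nat.card_congr e, Nat.card_prod, Nat.card_fun, Nat.card_eq_fintype_card (α := F), hF, Nat.card_fin]
  haveI : Fintype N := Fintype.ofFinite N
  rw [← Nat.card_congr (Equiv.sigmaFiberEquiv φ), Nat.card_sigma, Finset.sum_congr rfl (fun v _ => hfib v),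
    Finset.sum_const, smul_eq_mul, Finset.card_univ, ← Nat.card_eq_fintype_card]
  congr 1
  have hz : Cfsg.hermForm (n + 2) F q 0 0 = 0 := SUFull.form_zero_left _
  haveI : Fintype (Herm.Lev (n + 2) F q (0 : F)) := Fintype.ofFinite _
  rw [Nat.card_congr ((Equiv.subtypeSubtypeEquivSubtypeInter (fun x => Cfsg.hermForm (n + 2) F q x x = 0)
    (fun x => x ≠ 0)).symm.trans (Equiv.subtypeEquivRight
      (q := fun x : Herm.Lev (n + 2) F q (0 : F) => x ≠ ⟨0, hz⟩) fun x => by simp [Subtype.ext_iff]))]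
  rw [Nat.card_eq_fintype_card, Fintype.card_subtype_compl, Fintype.card_subtype_eq, ← Nat.card_eq_fintype_card]

include hF in
theorem card_GU_two (m : ℕ) : Nat.card (Cfsg.GU (m + 2) F q) =
    (Nat.card (Herm.Lev (m + 2) F q (0 : F)) - 1) * q ^ (2 * m + 1) * Nat.card (Cfsg.GU m F q) := by
  have e : (m + 2) * (m + 2 - 1) / 2 = (2 * m + 1) + m * (m - 1) / 2 := by
    rcases m with _ | j
    · rfl
    · rw [Nat.add_sub_cancel, show (j + 1 + 2) * (j + 1 + 2 - 1) = (j + 1) * j + (2 * (j + 1) + 1) * 2 by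
        rw [show j + 1 + 2 - 1 = j + 2 by omega]; ring, Nat.add_mul_div_right _ _ (by norm_num), add_comm]
  rw [Herm.card_GU hF, Herm.card_GU hF, Herm.card_lev_zero hF, Nat.add_sub_cancel, Finset.prod_range_succ,
    Finset.prod_range_succ, e, pow_add, show m + 2 - 1 = m + 1 by omega]
  rcases Nat.even_or_odd m with he | he
  · have h2 : Even (m + 2) := he.add (by decide)
    have h1 : ¬ Even (m + 1) := Nat.not_even_iff_odd.2 he.add_one
    rw [if_pos he, if_neg h1, if_pos h2]
    ring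
  · have h2 : ¬ Even (m + 2) := Nat.not_even_iff_odd.2 (he.add_even (by decide))
    have h1 : Even (m + 1) := he.add_one
    rw [if_neg (Nat.not_even_iff_odd.2 he), if_pos h1, if_neg h2]
    ring

include hF in
theorem card_fr : ∀ k n : ℕ, 2 * k ≤ n →
    Nat.card (Fr n k F q) * (q ^ (k * (2 * n - 3 * k)) * Nat.card (Cfsg.GU (n - 2 * k) F q)) =
      Nat.card (Cfsg.GU n F q)
  | 0, n, _ => by
    have : Nat.card (Fr n 0 F q) = 1 := Nat.card_eq_one_iff_unique.2
      ⟨⟨fun a b => Subtype.ext (Subsingleton.elim _ _)⟩, ⟨⟨Fin.elim0, linearIndependent_empty_type, fun i => i.elim0⟩⟩⟩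
    rw [this]; simp
  | k + 1, n, h => by
    obtain ⟨m, rfl⟩ : ∃ m, n = m + 2 := ⟨n - 2, by omega⟩
    rw [card_fr_succ hF, card_GU_two hF, ← card_fr k m (by omega), show m + 2 - 2 * (k + 1) = m - 2 * k by omega]
    have e : (q ^ 2) ^ k * q ^ ((k + 1) * (2 * (m + 2) - 3 * (k + 1))) = q ^ (2 * m + 1) * q ^ (k * (2 * m - 3 * k)) := by
      rw [← pow_mul, ← pow_add, ← pow_add]
      congr 1
      obtain ⟨d, hd⟩ : ∃ d, 2 * m = 3 * k + d := ⟨2 * m - 3 * k, by omega⟩
      rw [show 2 * (m + 2) - 3 * (k + 1) = d + 1 by omega, show 2 * m - 3 * k = d by omega, hd]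
      ring
    calc _ = (Nat.card (Herm.Lev (m + 2) F q (0 : F)) - 1) *
          ((q ^ 2) ^ k * q ^ ((k + 1) * (2 * (m + 2) - 3 * (k + 1)))) *
          Nat.card (Fr m k F q) * Nat.card (Cfsg.GU (m - 2 * k) F q) := by ring
      _ = _ := by rw [e]; ring

include hF in
theorem exists_extend (u v : Fr n k F q) :
    ∃ g : Cfsg.GU n F q, ∀ i, ((g : GL (Fin n) F) : Matrix (Fin n) (Fin n) F) *ᵥ u.1 i = v.1 i := by
  let eu := Module.Basis.span u.2.1
  let φ : Submodule.span F (Set.range u.1) →ₗ[F] (Fin n → F) := eu.constr F v.1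
  have hφ : ∀ i, φ (eu i) = v.1 i := fun i => eu.constr_basis F v.1 i
  have hmem : ∀ x, φ x ∈ Submodule.span F (Set.range v.1) := fun x => by
    rw [← eu.constr_range (S := F)]; exact LinearMap.mem_range_self _ x
  obtain ⟨g, hg, hgu⟩ := SUStab.exists_gu hF _ φ
    (eu.injective_constr_of_linearIndependent (M' := Fin n → F) (R := F) v.2.1)
    (fun x y => by rw [iso_span hF v.2.2 (hmem x) (hmem y), iso_span hF u.2.2 x.2 y.2])
  refine ⟨⟨g, hg⟩, fun i => ?_⟩
  have := hgu (eu i)
  rw [hφ] at this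
  simpa [eu] using this

theorem det_elt {v w : Fin n → F} (hvv : Cfsg.hermForm n F q v v = 0) (hww : Cfsg.hermForm n F q w w = 0)
    (hvw : Cfsg.hermForm n F q v w = 1) (hwv : Cfsg.hermForm n F q w v = 1) (a b : F) :
    (1 + (Matrix.of fun i j => ![v, w] j i : Matrix (Fin n) (Fin 2) F) *
      (Matrix.of ![fun j => (a - 1) * w j ^ q, fun j => (b - 1) * v j ^ q] : Matrix (Fin 2) (Fin n) F)).det = a * b := by
  have h : ∀ (c : F) (x y : Fin n → F), ∑ j, c * y j ^ q * x j = c * Cfsg.hermForm n F q x y := fun c x y => by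
    rw [Cfsg.hermForm, Finset.mul_sum]; exact Finset.sum_congr rfl fun j _ => by ring
  have e : (Matrix.of ![fun j => (a - 1) * w j ^ q, fun j => (b - 1) * v j ^ q] : Matrix (Fin 2) (Fin n) F) *
      (Matrix.of fun i j => ![v, w] j i : Matrix (Fin n) (Fin 2) F) = !![a - 1, 0; 0, b - 1] := by
    ext i j
    rw [Matrix.mul_apply]
    fin_cases i <;> fin_cases j <;> simp [h, hvv, hww, hvw, hwv]
  rw [Matrix.det_one_add_mul_comm, e, Matrix.det_fin_two]
  simp

include hF in
theorem exists_det_elt {W : Submodule F (Fin n → F)} (hW : ∀ u ∈ W, ∀ v ∈ W, Cfsg.hermForm n F q u v = 0)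
    {v : Fin n → F} (hv : v ∈ W) (hv0 : v ≠ 0) {x : F} (hxn : x * x ^ q = 1) :
    ∃ g ∈ Cfsg.GU n F q, (g : Matrix (Fin n) (Fin n) F).det = x ∧
      ∀ y ∈ W, (g : Matrix (Fin n) (Fin n) F) *ᵥ y ∈ W := by
  obtain ⟨a, ha0, ha⟩ : ∃ a : F, a ≠ 0 ∧ x * a ^ q = a := by
    have key : ∀ θ : F, x * (θ + x * θ ^ q) ^ q = θ + x * θ ^ q := fun θ => by
      rw [Herm.add_pow_q hF, mul_pow, Herm.pow_pow_q hF]
      linear_combination θ * hxn
    by_contra hno
    push Not at hno
    have hz : ∀ θ : F, θ + x * θ ^ q = 0 := fun θ => by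
      by_contra hne
      exact hno _ hne (key θ)
    obtain ⟨θ, hθ⟩ := SUFull.exists_not_fixed hF
    have e := hz 1
    rw [one_pow, mul_one] at e
    exact hθ (by linear_combination hz θ - θ ^ q * e)
  have hvv : Cfsg.hermForm n F q v v = 0 := hW v hv v hv
  obtain ⟨w, hww, hvw⟩ := SUSimple.exists_partner hF hv0 hvv
  have hwv : Cfsg.hermForm n F q w v = 1 := by rw [← form_comm hF v w, hvw, one_pow]
  obtain ⟨c, hc⟩ : ∃ c : F, c = (a ^ q)⁻¹ := ⟨_, rfl⟩
  have hc2 : c ^ q = a⁻¹ := by rw [hc, inv_pow, Herm.pow_pow_q hF]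
  have hac : a * c = x := by
    rw [hc, eq_comm, eq_mul_inv_iff_mul_eq₀ (pow_ne_zero _ ha0)]; exact ha
  let M : Matrix (Fin n) (Fin n) F := 1 + (Matrix.of fun i j => ![v, w] j i : Matrix (Fin n) (Fin 2) F) *
    (Matrix.of ![fun j => (a - 1) * w j ^ q, fun j => (c - 1) * v j ^ q] : Matrix (Fin 2) (Fin n) F)
  have hdet : M.det = x := (det_elt hvv hww hvw hwv a c).trans hac
  have hM : ∀ y, M *ᵥ y = y + ((a - 1) * Cfsg.hermForm n F q y w) • v + ((c - 1) * Cfsg.hermForm n F q y v) • w := by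
    intro y
    funext i
    show ((1 + _ * _ : Matrix (Fin n) (Fin n) F) *ᵥ y) i = _
    have e0 : (Matrix.of ![fun j => (a - 1) * w j ^ q, fun j => (c - 1) * v j ^ q] : Matrix (Fin 2) (Fin n) F) *ᵥ y =
        ![(a - 1) * Cfsg.hermForm n F q y w, (c - 1) * Cfsg.hermForm n F q y v] := by
      funext j
      fin_cases j <;> simp [Matrix.mulVec, dotProduct, Cfsg.hermForm, Finset.mul_sum] <;>
        exact Finset.sum_congr rfl fun j _ => by ring
    rw [Matrix.add_mulVec, Matrix.one_mulVec, ← Matrix.mulVec_mulVec, e0]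
    simp [Matrix.mulVec, dotProduct, Fin.sum_univ_two]
    ring
  have hgu : Matrix.GeneralLinearGroup.mk'' M (by
      rw [hdet]; exact isUnit_iff_ne_zero.2 fun h => by rw [h, zero_mul] at hxn; exact zero_ne_one hxn) ∈
      Cfsg.GU n F q := by
    rw [mem_GU]
    intro y z
    show Cfsg.hermForm n F q (M *ᵥ y) (M *ᵥ z) = _
    have e1 : a * c ^ q = 1 := by rw [hc2, mul_inv_cancel₀ ha0]
    have e2 : a ^ q * c = 1 := by rw [hc, mul_inv_cancel₀ (pow_ne_zero _ ha0)]
    simp only [hM, form_add_left, form_add_right hF, form_smul_left, form_smul_right, hvv, hww, hvw, hwv, mul_pow,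
      form_comm hF z w, form_comm hF z v]
    rw [← Herm.conj_apply hF (a - 1), ← Herm.conj_apply hF (c - 1), map_sub, map_sub, map_one, Herm.conj_apply,
      Herm.conj_apply]
    linear_combination (Cfsg.hermForm n F q y w * Cfsg.hermForm n F q v z) * e1 +
      (Cfsg.hermForm n F q y v * Cfsg.hermForm n F q w z) * e2
  refine ⟨_, hgu, hdet, fun y hy => ?_⟩
  show M *ᵥ y ∈ W
  rw [hM, hW y hy v hv, mul_zero, zero_smul, add_zero]
  exact W.add_mem hy (W.smul_mem _ hv)

include hF in
theorem card_stab (hn : 1 ≤ n) (hk : 2 * k ≤ n) (W : Submodule F (Fin n → F)) (hWk : Module.finrank F W = k)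
    (hW : ∀ u ∈ W, ∀ v ∈ W, Cfsg.hermForm n F q u v = 0) :
    (q + 1) * Nat.card ↥((Cfsg.stabilizing (Cfsg.slToMat n F) (W : Set (Fin n → F))).subgroupOf (Cfsg.SU n F q)) =
      q ^ (k * (2 * n - 3 * k)) * (∏ i : Fin k, ((q ^ 2) ^ k - (q ^ 2) ^ (i : ℕ))) *
        Nat.card (Cfsg.GU (n - 2 * k) F q) := by
  classical
  have hq := Herm.two_le hF
  let toM := Units.coeHom (Matrix (Fin n) (Fin n) F)
  let act : Cfsg.GU n F q → (Fin n → F) → (Fin n → F) := fun g x => toM (g : GL (Fin n) F) *ᵥ x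
  have act_mul : ∀ g h x, act (g * h) x = act g (act h x) := fun g h x => by
    show toM ((g : GL (Fin n) F) * h) *ᵥ x = _
    rw [map_mul, ← Matrix.mulVec_mulVec]
  have act_one : ∀ x, act 1 x = x := fun x => by
    show toM (1 : GL (Fin n) F) *ᵥ x = x
    rw [map_one, Matrix.one_mulVec]
  have act_inv : ∀ g x, act g⁻¹ (act g x) = x := fun g x => by rw [← act_mul, inv_mul_cancel, act_one]
  have act_inj : ∀ g, Function.Injective (act g) := fun g => Function.LeftInverse.injective (act_inv g)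
  have act_lin : ∀ g x y (c : F), act g (c • x + y) = c • act g x + act g y := fun g x y c => by
    show toM _ *ᵥ _ = _
    rw [Matrix.mulVec_add, Matrix.mulVec_smul]
  obtain ⟨b, -⟩ : ∃ b : Module.Basis (Fin k) F W, True := ⟨Module.finBasisOfFinrankEq F W hWk, trivial⟩
  let u0 : Fr n k F q := ⟨fun i => (b i : Fin n → F), b.linearIndependent.map' W.subtype W.ker_subtype,
    fun i j => hW _ (b i).2 _ (b j).2⟩
  have hcl : ∀ g, (∀ i, act g (b i) ∈ W) → ∀ x ∈ W, act g x ∈ W := by
    intro g h x hx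
    have := b.sum_repr ⟨x, hx⟩
    have hx' : x = ∑ i, b.repr ⟨x, hx⟩ i • (b i : Fin n → F) := by
      have h9 := congrArg Subtype.val this
      simp only [Submodule.coe_sum, Submodule.coe_smul] at h9
      exact h9.symm
    rw [hx']
    show toM (g : GL (Fin n) F) *ᵥ _ ∈ W
    rw [Matrix.mulVec_sum]
    exact W.sum_mem fun i _ => by rw [Matrix.mulVec_smul]; exact W.smul_mem _ (h i)
  have hstab : ∀ g, (∀ x ∈ W, act g x ∈ W) → ∀ x, x ∈ W ↔ act g x ∈ W := by
    intro g h x
    refine ⟨h x, fun hx => ?_⟩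
    obtain ⟨w, hw⟩ := Finite.surjective_of_injective (f := fun w : W => (⟨_, h w.1 w.2⟩ : W))
      (fun a c e => Subtype.ext (act_inj g (congrArg Subtype.val e))) ⟨_, hx⟩
    rw [← act_inj g (congrArg Subtype.val hw)]
    exact w.2
  let K : Subgroup (Cfsg.GU n F q) :=
    { carrier := {g | ∀ i, act g (b i) = b i}
      one_mem' := fun i => act_one _
      mul_mem' := fun {g h} hg hh i => by rw [act_mul, hh i, hg i]
      inv_mem' := fun {g} hg i => by conv_lhs => rw [← hg i, act_inv] }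
  have hfib : ∀ g g', (∀ i, act g (b i) = act g' (b i)) ↔ g⁻¹ * g' ∈ K := fun g g' => by
    refine ⟨fun h i => by rw [act_mul, ← h i, act_inv], fun h i => act_inj g⁻¹ ?_⟩
    rw [act_inv, ← act_mul]
    exact (h i).symm
  have h1 : Nat.card (Cfsg.GU n F q) = Nat.card (Fr n k F q) * Nat.card K :=
    SpParabolic.card_fibre K
      (fun g => (⟨fun i => act g (b i), by
        refine u0.2.1.map' (Matrix.mulVecLin (toM (g : GL (Fin n) F))) (LinearMap.ker_eq_bot.2 (act_inj g)),
        fun i j => (g.2 _ _).trans (hW _ (b i).2 _ (b j).2)⟩ : Fr n k F q))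
      (fun v => by obtain ⟨g, hg⟩ := exists_extend hF u0 v; exact ⟨g, Subtype.ext (funext hg)⟩)
      (fun g g' => Iff.trans ⟨fun h i => congrFun (congrArg Subtype.val h) i, fun h => Subtype.ext (funext h)⟩ (hfib g g'))
  have hK : Nat.card K = q ^ (k * (2 * n - 3 * k)) * Nat.card (Cfsg.GU (n - 2 * k) F q) := by
    refine Nat.eq_of_mul_eq_mul_left ?_ (h1.symm.trans (card_fr hF k n hk).symm)
    haveI : Nonempty (Fr n k F q) := ⟨u0⟩
    exact Nat.card_pos
  let S : Subgroup (Cfsg.GU n F q) := (Cfsg.stabilizing toM (W : Set (Fin n → F))).subgroupOf (Cfsg.GU n F q)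
  have hKS : K ≤ S := fun g hg => hstab g (hcl g fun i => by rw [hg i]; exact (b i).2)
  have h2 : Nat.card S = (∏ i : Fin k, ((q ^ 2) ^ k - (q ^ 2) ^ (i : ℕ))) * Nat.card K := by
    have hb : Nat.card {w : Fin k → W // LinearIndependent F w} = ∏ i : Fin k, ((q ^ 2) ^ k - (q ^ 2) ^ (i : ℕ)) := by
      rw [card_linearIndependent (le_of_eq hWk.symm), hWk, hF]
    rw [← hb, ← Nat.card_congr (Subgroup.subgroupOfEquivOfLe hKS).toEquiv]
    refine SpParabolic.card_fibre (K.subgroupOf S)
      (fun g => (⟨fun i => ⟨act g.1 (b i), (g.2 _).1 (b i).2⟩, LinearIndependent.of_comp W.subtype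
        (u0.2.1.map' (Matrix.mulVecLin (toM (g.1 : GL (Fin n) F))) (LinearMap.ker_eq_bot.2 (act_inj g.1)))⟩ :
          {w : Fin k → W // LinearIndependent F w}))
      (fun v => ?_) (fun g g' => ?_)
    · obtain ⟨g, hg⟩ := exists_extend hF u0 ⟨fun i => (v.1 i : Fin n → F), v.2.map' W.subtype W.ker_subtype,
        fun i j => hW _ (v.1 i).2 _ (v.1 j).2⟩
      have hgS : g ∈ S := hstab g (hcl g fun i => by rw [show act g (b i) = _ from hg i]; exact (v.1 i).2)
      exact ⟨⟨g, hgS⟩, Subtype.ext (funext fun i => Subtype.ext (hg i))⟩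
    · rw [Subgroup.mem_subgroupOf, Subtype.mk.injEq, funext_iff]
      exact ⟨fun h => (hfib g.1 g'.1).1 fun i => congrArg Subtype.val (h i),
        fun h i => Subtype.ext ((hfib g.1 g'.1).2 h i)⟩
  let f : S →* Unitary.N1 F q := (Unitary.detN hF n).comp S.subtype
  have hsurj : Function.Surjective f := by
    intro ξ
    rcases Nat.eq_zero_or_pos k with hk0 | hk0
    · obtain ⟨g, hg⟩ := Unitary.detN_surjective hF hn ξ
      have hbot : W = ⊥ := Submodule.finrank_eq_zero.1 (hWk.trans hk0)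
      refine ⟨⟨g, hstab g fun x hx => ?_⟩, hg⟩
      rw [hbot, Submodule.mem_bot] at hx ⊢
      rw [hx]; exact Matrix.mulVec_zero _
    obtain ⟨g, hg, hgd, hgW⟩ := exists_det_elt hF hW (b ⟨0, hk0⟩).2 (u0.2.1.ne_zero ⟨0, hk0⟩)
      (Unitary.N1_val ξ.2)
    exact ⟨⟨⟨g, hg⟩, hstab ⟨g, hg⟩ hgW⟩, Subtype.ext (Units.ext hgd)⟩
  have h3 : Nat.card f.ker * (q + 1) = Nat.card S := by
    have := f.ker.card_mul_index
    rw [Subgroup.index_ker, MonoidHom.range_eq_top.2 hsurj, Subgroup.card_top, Unitary.card_N1 hF] at this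
    exact this
  let T := (Cfsg.stabilizing (Cfsg.slToMat n F) (W : Set (Fin n → F))).subgroupOf (Cfsg.SU n F q)
  have hT : ∀ t : T, Unitary.suToGU n F q t.1 ∈ S := fun t => t.2
  have h4 : Nat.card T = Nat.card f.ker := by
    refine Nat.card_eq_of_bijective (fun t => (⟨⟨_, hT t⟩, ?_⟩ : f.ker)) ⟨fun s t h => ?_, fun g => ?_⟩
    · have : Unitary.suToGU n F q t.1 ∈ (Unitary.detN hF n).ker := by
        rw [← Unitary.range_suToGU hF]; exact ⟨_, rfl⟩
      exact this
    · exact Subtype.ext (Unitary.suToGU_injective (congrArg (fun g : f.ker => g.1.1) h))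
    · have hg : g.1.1 ∈ (Unitary.detN hF n).ker := g.2
      rw [← Unitary.range_suToGU hF] at hg
      obtain ⟨s, hs⟩ := hg
      have hsT : s ∈ T := by
        have h := g.1.2
        rw [← hs] at h
        exact h
      exact ⟨⟨s, hsT⟩, Subtype.ext (Subtype.ext hs)⟩
  rw [h4, mul_comm (q + 1), h3, h2, hK]
  ring

end CfsgLib.Lie.SUParabolic
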