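import Cfsg.Agent.Misc.RegularClasses
import Cfsg.Agent.Lie.UnitaryConj

/-!
Classes of regular unipotent elements of the special unitary group.
-/

set_option autoImplicit false
set_option linter.unusedSectionVars false
set_option linter.unusedSimpArgs false

namespace CfsgLib.Lie.SURegularClasses

open Module Matrix CfsgLib.MiscRegular CfsgLib.MiscRegularClasses

variable {F : Type*} [Field F] {n : ℕ}

theorem commutant_form {u : GL (Fin n) F} (hn : 1 ≤ n)
    (h1 : ((u : Matrix (Fin n) (Fin n) F) - 1) ^ n = 0) (h2 : ((u : Matrix (Fin n) (Fin n) F) - 1).rank = n - 1)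
    {g : GL (Fin n) F} (hg : g * u = u * g) : ∃ (t : F) (M : Matrix (Fin n) (Fin n) F), (g : Matrix (Fin n) (Fin n) F) = t • 1 + M ∧ IsNilpotent M := by
  set N := (u : Matrix (Fin n) (Fin n) F) - 1 with hN
  obtain ⟨v, b, hb⟩ := exists_cyclic hn h1 h2
  have hgN : (g : Matrix (Fin n) (Fin n) F) * N = N * g := by
    have := congrArg (fun x : GL (Fin n) F => (x : Matrix (Fin n) (Fin n) F)) hg
    simp only [Units.val_mul] at this
    rw [hN, mul_sub, sub_mul, this, mul_one, one_mul]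
  have hgp : ∀ k : ℕ, (g : Matrix (Fin n) (Fin n) F) * N ^ k = N ^ k * g := fun k =>
    (Commute.pow_right (show Commute (g : Matrix (Fin n) (Fin n) F) N from hgN) k).eq
  let a : Fin n → F := fun i => b.repr ((g : Matrix (Fin n) (Fin n) F).mulVec v) i
  let P : Matrix (Fin n) (Fin n) F := ∑ i : Fin n, a i • N ^ (i : ℕ)
  have hP : (g : Matrix (Fin n) (Fin n) F) = P := by
    refine Matrix.toLin'.injective (b.ext fun k => ?_)
    rw [Matrix.toLin'_apply, Matrix.toLin'_apply, hb, Matrix.mulVec_mulVec, hgp, ← Matrix.mulVec_mulVec]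
    conv_lhs => rw [← b.sum_repr ((g : Matrix (Fin n) (Fin n) F).mulVec v)]
    rw [Matrix.mulVec_sum, Matrix.mulVec_mulVec, Finset.sum_mul, Matrix.sum_mulVec]
    refine Finset.sum_congr rfl fun i _ => ?_
    rw [Matrix.mulVec_smul, hb, Matrix.mulVec_mulVec, smul_mul_assoc, Matrix.smul_mulVec, ← pow_add, ← pow_add,
      add_comm (k : ℕ)]
  obtain ⟨m, rfl⟩ : ∃ m, n = m + 1 := ⟨n - 1, by omega⟩
  refine ⟨a 0, N * ∑ i : Fin m, a i.succ • N ^ (i : ℕ), ?_, Commute.isNilpotent_mul_right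
    (Commute.sum_right _ _ _ fun i _ => ((Commute.refl N).pow_right _).smul_right _) ⟨_, h1⟩⟩
  rw [hP]
  simp only [P, Fin.sum_univ_succ, Fin.val_zero, pow_zero, Fin.val_succ, Finset.mul_sum, mul_smul_comm, ← pow_succ']

theorem exists_regular' (hn : 1 ≤ n) : ∃ u : SpecialLinearGroup (Fin n) F,
    ((u : Matrix (Fin n) (Fin n) F) - 1) ^ n = 0 ∧ ((u : Matrix (Fin n) (Fin n) F) - 1).rank = n - 1 ∧ ∀ i j, (u : Matrix (Fin n) (Fin n) F) i j = 0 ∨ (u : Matrix (Fin n) (Fin n) F) i j = 1 := by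
  let N : Matrix (Fin n) (Fin n) F := Matrix.of fun i j => if (i : ℕ) + 1 = j then 1 else 0
  have hpow : ∀ k, ∀ i j : Fin n, (j : ℕ) < i + k → (N ^ k) i j = 0 := by
    intro k
    induction k with
    | zero => intro i j h; rw [pow_zero, Matrix.one_apply_ne]; exact fun e => by subst e; omega
    | succ k ih =>
      intro i j h
      rw [pow_succ, Matrix.mul_apply]
      refine Finset.sum_eq_zero fun l _ => ?_
      by_cases hl : (l : ℕ) < i + k
      · rw [ih i l hl, zero_mul]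
      · show _ * (if (l : ℕ) + 1 = j then (1 : F) else 0) = 0
        rw [if_neg (by omega), mul_zero]
  have hnil : N ^ n = 0 := Matrix.ext fun i j => hpow n i j (by omega)
  have hdet : (1 + N).det = 1 := by
    have := det_one_add ⟨n, hnil⟩ (1 : F)
    rwa [one_smul, one_pow] at this
  refine ⟨⟨1 + N, hdet⟩, ?_⟩
  show (1 + N - 1) ^ n = 0 ∧ (1 + N - 1).rank = n - 1 ∧ ∀ i j, (1 + N) i j = 0 ∨ (1 + N) i j = 1
  rw [add_sub_cancel_left]
  refine ⟨hnil, ?_, fun i j => ?_⟩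
  swap
  · by_cases hij : i = j
    · subst hij; right; simp [N]
    · simp [N, Matrix.one_apply, hij]; tauto
  have hker : finrank F (LinearMap.ker N.mulVecLin) ≤ 1 := by
    let f : LinearMap.ker N.mulVecLin →ₗ[F] F := (LinearMap.proj (⟨0, hn⟩ : Fin n)).comp (Submodule.subtype _)
    refine (LinearMap.finrank_le_finrank_of_injective (f := f) ?_).trans (finrank_self F).le
    refine (injective_iff_map_eq_zero _).2 fun x hx => Subtype.ext (funext fun j => ?_)
    rcases Nat.eq_zero_or_pos (j : ℕ) with hj | hj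
    · rw [show j = ⟨0, hn⟩ from Fin.ext hj]; exact hx
    · have h := congrFun (LinearMap.mem_ker.1 x.2) ⟨(j : ℕ) - 1, by omega⟩
      rw [Matrix.mulVecLin_apply] at h
      simp only [Matrix.mulVec, dotProduct, N, Matrix.of_apply, ite_mul, one_mul, zero_mul, Pi.zero_apply] at h
      rwa [Finset.sum_eq_single j (fun b _ hb => if_neg fun e => hb (Fin.ext (by omega))) (by simp),
        if_pos (by omega)] at h
  have h0 : LinearMap.ker N.mulVecLin ≠ ⊥ := by
    intro h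
    have h' := LinearMap.ker_eq_bot.1 h
    have hi : Function.Injective (N.mulVecLin ^ n) := by
      rw [Module.End.coe_pow]; exact h'.iterate n
    rw [← Matrix.toLin'_apply', ← Matrix.toLin'_pow, hnil, map_zero] at hi
    have := hi (show (0 : (Fin n → F) →ₗ[F] (Fin n → F)) (Pi.single ⟨0, hn⟩ 1) =
      (0 : (Fin n → F) →ₗ[F] (Fin n → F)) 0 by simp)
    simpa using congrFun this ⟨0, hn⟩
  have := LinearMap.finrank_range_add_finrank_ker N.mulVecLin
  rw [Module.finrank_fin_fun] at this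
  have h1 : finrank F (LinearMap.ker N.mulVecLin) ≠ 0 := fun h => h0 (Submodule.finrank_eq_zero.1 h)
  show finrank F (LinearMap.range N.mulVecLin) = n - 1
  omega

variable [Fintype F]

theorem exists_unitary_regular {q : ℕ} (hF : Fintype.card F = q ^ 2) (hn : 1 ≤ n) :
    ∃ g : GL (Fin n) F, g ∈ Cfsg.GU n F q ∧ (g : Matrix (Fin n) (Fin n) F).det = 1 ∧
      ((g : Matrix (Fin n) (Fin n) F) - 1) ^ n = 0 ∧ ((g : Matrix (Fin n) (Fin n) F) - 1).rank = n - 1 := by
  obtain ⟨u₀, h1, h2, h01⟩ := exists_regular' (F := F) hn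
  obtain ⟨J, hJ⟩ : ∃ J : GL (Fin n) F, J = SpecialLinearGroup.toGL u₀ := ⟨_, rfl⟩
  have hJv : (J : Matrix (Fin n) (Fin n) F) = u₀ := hJ ▸ rfl
  have hS : UnitaryConj.S hF (J : Matrix (Fin n) (Fin n) F) = (J : Matrix (Fin n) (Fin n) F)ᵀ := by
    ext i j
    show Herm.conj hF _ = (J : Matrix (Fin n) (Fin n) F) j i
    rw [hJv]
    rcases h01 j i with h | h <;> rw [h] <;> simp only [map_zero, map_one]
  obtain ⟨J', hJ'⟩ : ∃ J' : GL (Fin n) F, (J' : Matrix (Fin n) (Fin n) F) * (J : Matrix (Fin n) (Fin n) F)ᵀ = 1 :=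
    ⟨⟨((J⁻¹ : GL (Fin n) F) : Matrix (Fin n) (Fin n) F)ᵀ, (J : Matrix (Fin n) (Fin n) F)ᵀ,
      by rw [← Matrix.transpose_mul, Units.mul_inv, Matrix.transpose_one],
      by rw [← Matrix.transpose_mul, Units.inv_mul, Matrix.transpose_one]⟩,
      by rw [← Matrix.transpose_mul]; simp⟩
  have e : (J' : Matrix (Fin n) (Fin n) F) - 1 = (J' : Matrix (Fin n) (Fin n) F) * (-((u₀ : Matrix (Fin n) (Fin n) F) - 1)ᵀ) := by
    rw [Matrix.transpose_sub, Matrix.transpose_one, ← hJv, neg_sub, mul_sub, mul_one, hJ']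
  have hc : Commute (J' : Matrix (Fin n) (Fin n) F) (-((u₀ : Matrix (Fin n) (Fin n) F) - 1)ᵀ) := by
    show _ = _
    rw [Matrix.transpose_sub, Matrix.transpose_one, ← hJv, neg_sub, mul_sub, sub_mul, mul_one, one_mul, hJ',
      mul_eq_one_comm.1 hJ']
  have g1 : ((J' : Matrix (Fin n) (Fin n) F) - 1) ^ n = 0 := by
    rw [e, hc.mul_pow, neg_pow, ← Matrix.transpose_pow, h1, Matrix.transpose_zero, mul_zero, mul_zero]
  have g2 : ((J' : Matrix (Fin n) (Fin n) F) - 1).rank = n - 1 := by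
    rw [e, Matrix.rank_mul_eq_right_of_isUnit_det _ _ ((Matrix.isUnit_iff_isUnit_det _).1 J'.isUnit),
      ← h2, ← Matrix.rank_transpose ((u₀ : Matrix (Fin n) (Fin n) F) - 1), ← neg_one_mul (((u₀ : Matrix (Fin n) (Fin n) F) - 1)ᵀ),
      Matrix.rank_mul_eq_right_of_isUnit_det _ _ ((Matrix.isUnit_iff_isUnit_det _).1 ((isUnit_one : IsUnit (1 : Matrix (Fin n) (Fin n) F)).neg))]
  obtain ⟨c, hc'⟩ := exists_conj (u := J) (u' := J') hn (hJv ▸ h1) (hJv ▸ h2) g1 g2
  obtain ⟨B, hB⟩ := (UnitaryConj.exists_mem_GU_iff hF J).2 (by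
    rw [hS, Matrix.inv_eq_left_inv hJ']
    exact MonoidHom.map_isConj (Units.coeHom (Matrix (Fin n) (Fin n) F)) (isConj_iff.2 ⟨c, hc'⟩))
  obtain ⟨x, hx⟩ := isConj_iff.1 hB
  refine ⟨(B : GL (Fin n) F), B.2, ?_⟩
  rw [← hx, Units.val_mul, Units.val_mul, Matrix.det_units_conj, hJv]
  have e2 : (x : Matrix (Fin n) (Fin n) F) * (u₀ : Matrix (Fin n) (Fin n) F) * (↑x⁻¹ : Matrix (Fin n) (Fin n) F) - 1 =
      (x : Matrix (Fin n) (Fin n) F) * ((u₀ : Matrix (Fin n) (Fin n) F) - 1) * (↑x⁻¹ : Matrix (Fin n) (Fin n) F) := by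
    rw [mul_sub, sub_mul, mul_one, Units.mul_inv]
  refine ⟨u₀.2, by rw [e2, Units.conj_pow, h1, mul_zero, zero_mul], ?_⟩
  rw [e2, Matrix.rank_mul_eq_left_of_isUnit_det _ _ ((Matrix.isUnit_iff_isUnit_det _).1 (Units.isUnit _)),
    Matrix.rank_mul_eq_right_of_isUnit_det _ _ ((Matrix.isUnit_iff_isUnit_det _).1 (Units.isUnit _)), h2]

theorem det_commutant_unitary {q : ℕ} (hF : Fintype.card F = q ^ 2) {u g : GL (Fin n) F} (hn : 1 ≤ n)
    (h1 : ((u : Matrix (Fin n) (Fin n) F) - 1) ^ n = 0) (h2 : ((u : Matrix (Fin n) (Fin n) F) - 1).rank = n - 1)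
    (hg : g * u = u * g) (hgU : g ∈ Cfsg.GU n F q) :
    ∃ t : Unitary.N1 F q, (g : Matrix (Fin n) (Fin n) F).det = ((t : Fˣ) : F) ^ n := by
  haveI : NeZero n := ⟨by omega⟩
  obtain ⟨t, M, hM, k, hk⟩ := commutant_form hn h1 h2 hg
  have hS := (UnitaryConj.mem_GU_iff hF g).1 hgU
  have hSg : UnitaryConj.S hF (g : Matrix (Fin n) (Fin n) F) = Herm.conj hF t • 1 + UnitaryConj.S hF M := by
    rw [hM, UnitaryConj.S, Matrix.map_add _ (map_add _), Matrix.transpose_add]
    congr 1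
    rw [Matrix.smul_one_eq_diagonal, Matrix.smul_one_eq_diagonal, Matrix.diagonal_map (map_zero _), Matrix.diagonal_transpose]
  have hM' : IsNilpotent (UnitaryConj.S hF M) := ⟨k, by
    rw [UnitaryConj.S, ← Matrix.transpose_pow, ← RingHom.mapMatrix_apply, ← map_pow, hk, map_zero, Matrix.transpose_zero]⟩
  have hcm : Commute (UnitaryConj.S hF M) M := by
    have h : UnitaryConj.S hF (g : Matrix (Fin n) (Fin n) F) * g = (g : Matrix (Fin n) (Fin n) F) * UnitaryConj.S hF (g : Matrix (Fin n) (Fin n) F) :=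
      hS.trans (mul_eq_one_comm.1 hS).symm
    rw [hSg, hM] at h
    simp only [add_mul, mul_add, smul_mul_assoc, mul_smul_comm, one_mul, mul_one, smul_smul, smul_add] at h
    show _ = _
    rw [mul_comm t (Herm.conj hF t)] at h
    have h' := sub_eq_zero.2 h
    refine sub_eq_zero.1 ?_
    rw [← h']
    module
  have hnil : IsNilpotent ((t * Herm.conj hF t - 1) • (1 : Matrix (Fin n) (Fin n) F)) := by
    have h : (t * Herm.conj hF t - 1) • (1 : Matrix (Fin n) (Fin n) F) =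
        -(Herm.conj hF t • M + t • UnitaryConj.S hF M + UnitaryConj.S hF M * M) := by
      have h0 := hS
      rw [hSg, hM] at h0
      simp only [add_mul, mul_add, smul_mul_assoc, mul_smul_comm, one_mul, mul_one, smul_smul, smul_add] at h0
      rw [← sub_eq_zero, sub_neg_eq_add, ← sub_eq_zero.2 h0]
      module
    rw [h]
    refine (Commute.isNilpotent_add ?_ (Commute.isNilpotent_add ?_ (IsNilpotent.smul ⟨k, hk⟩ _) (IsNilpotent.smul hM' _))
      (hcm.isNilpotent_mul_right hM')).neg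
    · exact ((hcm.symm.mul_right (Commute.refl M)).smul_left _).add_left (((Commute.refl _).mul_right hcm).smul_left _)
    · exact (hcm.symm.smul_left _).smul_right _
  obtain ⟨j, hj⟩ := hnil
  rw [smul_pow, one_pow, smul_eq_zero, or_iff_left one_ne_zero] at hj
  have ht : t * t ^ q = 1 := sub_eq_zero.1 (pow_eq_zero_iff'.1 hj).1
  have ht0 : t ≠ 0 := fun h => by rw [h, zero_mul] at ht; exact zero_ne_one ht
  refine ⟨⟨Units.mk0 t ht0, Unitary.mem_N1.2 (Units.ext (by
    rw [Units.val_pow_eq_pow_val, Units.val_mk0, pow_succ', Units.val_one]; exact ht))⟩, ?_⟩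
  rw [hM]
  exact det_one_add ⟨k, hk⟩ t

theorem card_classes {q : ℕ} (hF : Fintype.card F = q ^ 2) (hn : 2 ≤ n) :
    Nat.card {C : ConjClasses (Cfsg.SU n F q) // ∃ u : Cfsg.SU n F q,
      ConjClasses.mk u = C ∧ (((u : SpecialLinearGroup (Fin n) F) : Matrix (Fin n) (Fin n) F) - 1) ^ n = 0 ∧
        (((u : SpecialLinearGroup (Fin n) F) : Matrix (Fin n) (Fin n) F) - 1).rank = n - 1} = Nat.gcd n (q + 1) := by
  classical
  obtain ⟨g₁, hg₁U, hg₁d, h1, h2⟩ := exists_unitary_regular hF (show 1 ≤ n by omega)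
  obtain ⟨g₀, hg₀⟩ : ∃ g₀ : Cfsg.GU n F q, g₀ = ⟨g₁, hg₁U⟩ := ⟨_, rfl⟩
  have hv : ((g₀ : GL (Fin n) F) : Matrix (Fin n) (Fin n) F) = g₁ := by rw [hg₀]
  let T := {C : ConjClasses (Cfsg.SU n F q) // ∃ u : Cfsg.SU n F q,
      ConjClasses.mk u = C ∧ (((u : SpecialLinearGroup (Fin n) F) : Matrix (Fin n) (Fin n) F) - 1) ^ n = 0 ∧
        (((u : SpecialLinearGroup (Fin n) F) : Matrix (Fin n) (Fin n) F) - 1).rank = n - 1}
  let ι := Unitary.suToGU n F q
  have hι : Function.Injective ι := Unitary.suToGU_injective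
  have hker : ∀ g : Cfsg.GU n F q, Unitary.detN hF n g = 1 → ∃ s, ι s = g := fun g hg => by
    have : g ∈ (Unitary.detN hF n).ker := hg
    rwa [← Unitary.range_suToGU hF] at this
  have hιd : ∀ s, Unitary.detN hF n (ι s) = 1 := fun s => by
    have : ι s ∈ (Unitary.detN hF n).ker := by rw [← Unitary.range_suToGU hF]; exact ⟨s, rfl⟩
    exact this
  obtain ⟨D, hD⟩ := (Unitary.detN_surjective hF (n := n) (by omega)).hasRightInverse
  have hlift : ∀ c : Cfsg.GU n F q, ∃ u : Cfsg.SU n F q, ι u = c * g₀ * c⁻¹ ∧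
      (((u : SpecialLinearGroup (Fin n) F) : Matrix (Fin n) (Fin n) F) - 1) ^ n = 0 ∧
      (((u : SpecialLinearGroup (Fin n) F) : Matrix (Fin n) (Fin n) F) - 1).rank = n - 1 := by
    intro c
    have hd0 : Unitary.detN hF n g₀ = 1 := Subtype.ext (Units.ext (by rw [Unitary.detN_val, hv, hg₁d]; rfl))
    obtain ⟨u, hu⟩ := hker (c * g₀ * c⁻¹) (by rw [map_mul, map_mul, map_inv, hd0, mul_one, mul_inv_cancel])
    have hm : ((u : SpecialLinearGroup (Fin n) F) : Matrix (Fin n) (Fin n) F) =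
        (((c * g₀ * c⁻¹ : Cfsg.GU n F q) : GL (Fin n) F) : Matrix (Fin n) (Fin n) F) := by rw [← hu]; rfl
    refine ⟨u, hu, ?_⟩
    have e : ((u : SpecialLinearGroup (Fin n) F) : Matrix (Fin n) (Fin n) F) - 1 =
        ((c : GL (Fin n) F) : Matrix (Fin n) (Fin n) F) * ((g₁ : Matrix (Fin n) (Fin n) F) - 1) * (↑(c : GL (Fin n) F)⁻¹ : Matrix (Fin n) (Fin n) F) := by
      rw [hm, Subgroup.coe_mul, Subgroup.coe_mul, Subgroup.coe_inv, Units.val_mul, Units.val_mul, hv, mul_sub, sub_mul,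
        mul_one, Units.mul_inv]
    rw [e]
    exact ⟨by rw [Units.conj_pow, h1, mul_zero, zero_mul], by
      rw [Matrix.rank_mul_eq_left_of_isUnit_det _ _ ((Matrix.isUnit_iff_isUnit_det _).1 (Units.isUnit _)),
        Matrix.rank_mul_eq_right_of_isUnit_det _ _ ((Matrix.isUnit_iff_isUnit_det _).1 (Units.isUnit _)), h2]⟩
  choose U hU hU1 hU2 using hlift
  let Φ : Unitary.N1 F q → T := fun d => ⟨ConjClasses.mk (U (D d)), _, rfl, hU1 _, hU2 _⟩
  set P := (powMonoidHom n : Unitary.N1 F q →* Unitary.N1 F q).range with hP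
  have hfib : ∀ d d', Φ d = Φ d' ↔ d⁻¹ * d' ∈ P := by
    intro d d'
    constructor
    · intro h
      obtain ⟨s, hs⟩ := isConj_iff.1 (ConjClasses.mk_eq_mk_iff_isConj.1 (congrArg Subtype.val h))
      have h' := congrArg ι hs
      rw [map_mul, map_mul, map_inv, hU, hU] at h'
      have hc : ((D d')⁻¹ * ι s * D d) * g₀ = g₀ * ((D d')⁻¹ * ι s * D d) := by
        calc (D d')⁻¹ * ι s * D d * g₀
            = (D d')⁻¹ * (ι s * (D d * g₀ * (D d)⁻¹) * (ι s)⁻¹) * ι s * D d := by group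
          _ = g₀ * ((D d')⁻¹ * ι s * D d) := by rw [h']; group
      obtain ⟨t, ht⟩ := det_commutant_unitary hF (u := (g₀ : GL (Fin n) F))
        (g := (((D d')⁻¹ * ι s * D d : Cfsg.GU n F q) : GL (Fin n) F)) (by omega) (hv.symm ▸ h1) (hv.symm ▸ h2)
        (congrArg Subtype.val hc) ((D d')⁻¹ * ι s * D d).2
      have ht' : Unitary.detN hF n ((D d')⁻¹ * ι s * D d) = t ^ n := Subtype.ext (Units.ext (by
        rw [Unitary.detN_val, ht]; simp))
      rw [map_mul, map_mul, map_inv, hD, hD, hιd, mul_one] at ht'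
      refine ⟨t⁻¹, ?_⟩
      rw [powMonoidHom_apply, inv_pow, ← ht', _root_.mul_inv_rev, inv_inv]
    · rintro ⟨t, ht⟩
      rw [powMonoidHom_apply] at ht
      obtain ⟨z, hz, hzc⟩ : ∃ z : Cfsg.GU n F q, Unitary.detN hF n z = t ^ n ∧ z * g₀ = g₀ * z :=
        ⟨Unitary.scalarGU n t, Unitary.detN_scalarGU hF t, Subtype.ext (Units.ext (by
          rw [Subgroup.coe_mul, Subgroup.coe_mul, Units.val_mul, Units.val_mul, Unitary.scalarGU_val]; simp))⟩
      obtain ⟨s, hs⟩ := hker (D d' * z⁻¹ * (D d)⁻¹) (by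
        rw [map_mul, map_mul, map_inv, map_inv, hD, hD, hz, ht, _root_.mul_inv_rev, inv_inv,
          mul_comm d'⁻¹ d, mul_comm d d'⁻¹, ← mul_assoc, mul_inv_cancel, one_mul, mul_inv_cancel])
      refine Subtype.ext (ConjClasses.mk_eq_mk_iff_isConj.2 (isConj_iff.2 ⟨s, hι ?_⟩))
      rw [map_mul, map_mul, map_inv, hU, hU, hs]
      calc D d' * z⁻¹ * (D d)⁻¹ * (D d * g₀ * (D d)⁻¹) * (D d' * z⁻¹ * (D d)⁻¹)⁻¹
          = D d' * (z⁻¹ * (g₀ * z)) * (D d')⁻¹ := by group
        _ = D d' * g₀ * (D d')⁻¹ := by rw [← hzc, inv_mul_cancel_left]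
  let Ψ : Unitary.N1 F q ⧸ P → T := Quotient.lift Φ fun a b hab => (hfib a b).2 (QuotientGroup.leftRel_apply.1 hab)
  have hbij : Function.Bijective Ψ := by
    constructor
    · intro x y
      induction x using QuotientGroup.induction_on with | _ a => ?_
      induction y using QuotientGroup.induction_on with | _ b => ?_
      intro h
      exact QuotientGroup.eq.2 ((hfib a b).1 h)
    · rintro ⟨-, u, rfl, hu1, hu2⟩
      obtain ⟨c, hc⟩ := exists_conj (u := (g₀ : GL (Fin n) F)) (u' := ((ι u : Cfsg.GU n F q) : GL (Fin n) F)) (by omega)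
        (hv.symm ▸ h1) (hv.symm ▸ h2) hu1 hu2
      obtain ⟨y, hy⟩ := isConj_iff.1 ((UnitaryConj.isConj_iff' hF g₀ (ι u)).2 (isConj_iff.2 ⟨c, hc⟩))
      refine ⟨(Unitary.detN hF n y : Unitary.N1 F q), Subtype.ext (ConjClasses.mk_eq_mk_iff_isConj.2 ?_)⟩
      obtain ⟨s, hs⟩ := hker (y * (D (Unitary.detN hF n y))⁻¹) (by rw [map_mul, map_inv, hD, mul_inv_cancel])
      refine isConj_iff.2 ⟨s, hι ?_⟩
      rw [map_mul, map_mul, map_inv, hU, hs, ← hy]
      group
  show Nat.card T = _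
  rw [← Nat.card_eq_of_bijective Ψ hbij]
  show P.index = _
  rw [hP, IsCyclic.index_powMonoidHom_range, Unitary.card_N1 hF, Nat.gcd_comm]

end CfsgLib.Lie.SURegularClasses
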