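import Cfsg.Agent.Misc.Semisimple
import Cfsg.Agent.Lie.UnitaryConj
import Mathlib.RingTheory.LittleWedderburn

/-!
Determinants in centralisers of semisimple elements of the unitary group; conjugacy in the special unitary group.
-/

set_option autoImplicit false
set_option linter.unusedSectionVars false
set_option linter.unusedSimpArgs false

namespace CfsgLib.Lie.SUSemiConj

open Matrix Module

variable {K : Type*} [Field K] [Fintype K] {q n : ℕ} (hK : Fintype.card K = q ^ 2)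

/-- conjugate transpose of a rectangular matrix -/
def T {l m : ℕ} (X : Matrix (Fin l) (Fin m) K) : Matrix (Fin m) (Fin l) K := (X.map (Herm.conj hK))ᵀ

theorem T_mul {l m k : ℕ} (X : Matrix (Fin l) (Fin m) K) (Y : Matrix (Fin m) (Fin k) K) :
    T hK (X * Y) = T hK Y * T hK X := by
  rw [T, Matrix.map_mul, Matrix.transpose_mul]; rfl

theorem T_T {l m : ℕ} (X : Matrix (Fin l) (Fin m) K) : T hK (T hK X) = X := by
  ext i j; exact Herm.conj_conj hK _

theorem T_one {m : ℕ} : T hK (1 : Matrix (Fin m) (Fin m) K) = 1 := by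
  rw [T, Matrix.map_one _ (map_zero _) (map_one _), Matrix.transpose_one]

theorem T_add {l m : ℕ} (X Y : Matrix (Fin l) (Fin m) K) : T hK (X + Y) = T hK X + T hK Y := by
  rw [T, Matrix.map_add _ (map_add _), Matrix.transpose_add]; rfl

theorem T_zero {l m : ℕ} : T hK (0 : Matrix (Fin l) (Fin m) K) = 0 := by
  ext i j; exact map_zero (Herm.conj hK)

theorem T_det {m : ℕ} (X : Matrix (Fin m) (Fin m) K) : (T hK X).det = Herm.conj hK X.det := by
  rw [T, Matrix.det_transpose, RingHom.map_det]; rfl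

theorem S_eq (X : Matrix (Fin n) (Fin n) K) : UnitaryConj.S hK X = T hK X := rfl

theorem centralizer_comm {d : ℕ} (G A A' : Matrix (Fin d) (Fin d) K)
    (hirr : ∀ Q : Submodule K (Fin d → K), (∀ x ∈ Q, G *ᵥ x ∈ Q) → Q = ⊥ ∨ Q = ⊤)
    (hA : A * G = G * A) (hA' : A' * G = G * A') : A * A' = A' * A := by
  classical
  rcases Nat.eq_zero_or_pos d with rfl | hd
  · exact Subsingleton.elim _ _
  haveI : Nonempty (Fin d) := ⟨⟨0, hd⟩⟩
  let Z := Subalgebra.centralizer K ({G} : Set (Matrix (Fin d) (Fin d) K))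
  have hm : ∀ X : Matrix (Fin d) (Fin d) K, X ∈ Z ↔ X * G = G * X := fun X => by
    simp only [Z, Subalgebra.mem_centralizer_iff, Set.mem_singleton_iff, forall_eq]
    exact eq_comm
  haveI : Nontrivial Z := ⟨⟨0, 1, fun h => zero_ne_one (congrArg Subtype.val h : (0 : Matrix (Fin d) (Fin d) K) = 1)⟩⟩
  haveI : NoZeroDivisors Z := by
    refine ⟨fun {x y} h => ?_⟩
    rcases hirr (LinearMap.ker (x : Matrix (Fin d) (Fin d) K).mulVecLin) (fun v hv => by
      rw [LinearMap.mem_ker, Matrix.mulVecLin_apply] at hv ⊢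
      rw [Matrix.mulVec_mulVec, (hm _).1 x.2, ← Matrix.mulVec_mulVec, hv, Matrix.mulVec_zero]) with h0 | h0
    · right
      refine Subtype.ext (Matrix.ext_of_mulVec_single fun i => ?_)
      have h1 : (y : Matrix (Fin d) (Fin d) K) *ᵥ Pi.single i 1 ∈ LinearMap.ker (x : Matrix (Fin d) (Fin d) K).mulVecLin := by
        rw [LinearMap.mem_ker, Matrix.mulVecLin_apply, Matrix.mulVec_mulVec,
          show (x : Matrix (Fin d) (Fin d) K) * (y : Matrix (Fin d) (Fin d) K) = 0 from congrArg Subtype.val h,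
          Matrix.zero_mulVec]
      rw [h0, Submodule.mem_bot] at h1
      rw [h1]
      exact (Matrix.zero_mulVec _).symm
    · left
      refine Subtype.ext (Matrix.ext_of_mulVec_single fun i => ?_)
      have h1 : Pi.single i (1 : K) ∈ LinearMap.ker (x : Matrix (Fin d) (Fin d) K).mulVecLin := by rw [h0]; trivial
      rw [LinearMap.mem_ker, Matrix.mulVecLin_apply] at h1
      rw [h1]
      exact (Matrix.zero_mulVec _).symm
  haveI : IsDomain Z := NoZeroDivisors.to_isDomain Z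
  haveI : Finite Z := Subtype.finite
  have hc : ∀ a b : Z, a * b = b * a :=
    letI := Fintype.ofFinite Z
    fun a b => (Finite.isDomain_to_isField Z).mul_comm a b
  exact congrArg Subtype.val (hc ⟨A, (hm A).2 hA⟩ ⟨A', (hm A').2 hA'⟩)

theorem unitary_of_normal {x : Matrix (Fin n) (Fin n) K} (hx : x * T hK x = T hK x * x) (hd : x.det ≠ 0)
    {g : Matrix (Fin n) (Fin n) K} (hg : T hK g * g = 1) (hxg : x * g = g * x) :
    ∃ y : GL (Fin n) K, y ∈ Cfsg.GU n K q ∧ (y : Matrix (Fin n) (Fin n) K) * g = g * y ∧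
      (y : Matrix (Fin n) (Fin n) K).det = x.det / Herm.conj hK x.det := by
  classical
  let X : GL (Fin n) K := Matrix.GeneralLinearGroup.mkOfDetNeZero x hd
  let X' : GL (Fin n) K := Matrix.GeneralLinearGroup.mkOfDetNeZero (T hK x) (by
    rw [T_det]; exact (map_ne_zero _).2 hd)
  have hX : (X : Matrix (Fin n) (Fin n) K) = x := rfl
  have hX' : (X' : Matrix (Fin n) (Fin n) K) = T hK x := rfl
  have hc : X * X' = X' * X := Units.ext hx
  have hi : T hK ((X'⁻¹ : GL (Fin n) K) : Matrix (Fin n) (Fin n) K) = ((X⁻¹ : GL (Fin n) K) : Matrix (Fin n) (Fin n) K) := by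
    refine X.isUnit.mul_left_cancel ?_
    rw [← Units.val_mul, mul_inv_cancel, Units.val_one, ← T_one hK]
    conv_rhs => rw [← Units.val_one, ← inv_mul_cancel X', Units.val_mul, T_mul, hX', T_T]
    rw [hX]
  have hg' : g * T hK g = 1 := mul_eq_one_comm.1 hg
  have hX'g : T hK x * g = g * T hK x := by
    have h1 : T hK g * T hK x = T hK x * T hK g := by rw [← T_mul, hxg, T_mul]
    calc T hK x * g = g * T hK g * (T hK x * g) := by rw [hg', one_mul]
      _ = g * (T hK g * T hK x) * g := by simp only [mul_assoc]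
      _ = g * T hK x * (T hK g * g) := by rw [h1]; simp only [mul_assoc]
      _ = g * T hK x := by rw [hg, mul_one]
  refine ⟨X * X'⁻¹, ?_, ?_, ?_⟩
  · rw [UnitaryConj.mem_GU_iff hK, S_eq, Units.val_mul, T_mul, hi, hX, ← hX', ← Units.val_mul, ← hX, ← Units.val_mul,
      ← Units.val_mul, ← Units.val_one]
    congr 1
    rw [mul_assoc X⁻¹, ← mul_assoc X' X, ← hc, mul_assoc X X', mul_inv_cancel, mul_one, inv_mul_cancel]
  · rw [Units.val_mul, hX, mul_assoc]
    have : ((X'⁻¹ : GL (Fin n) K) : Matrix (Fin n) (Fin n) K) * g = g * ((X'⁻¹ : GL (Fin n) K) : Matrix (Fin n) (Fin n) K) := by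
      calc ((X'⁻¹ : GL (Fin n) K) : Matrix (Fin n) (Fin n) K) * g
          = ((X'⁻¹ : GL (Fin n) K) : Matrix (Fin n) (Fin n) K) * (g * X') * ((X'⁻¹ : GL (Fin n) K) : Matrix (Fin n) (Fin n) K) := by
            rw [mul_assoc, mul_assoc g, ← Units.val_mul, mul_inv_cancel, Units.val_one, mul_one]
        _ = g * ((X'⁻¹ : GL (Fin n) K) : Matrix (Fin n) (Fin n) K) := by
            rw [hX', ← hX'g, ← hX', ← mul_assoc, ← Units.val_mul, inv_mul_cancel, Units.val_one, one_mul]
    rw [this, ← mul_assoc, hxg, mul_assoc]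
  · rw [Units.val_mul, Matrix.det_mul, hX, div_eq_mul_inv]
    congr 1
    refine eq_inv_of_mul_eq_one_left ?_
    rw [← T_det, ← hX', ← Matrix.det_mul, ← Units.val_mul, inv_mul_cancel, Units.val_one, Matrix.det_one]

include hK in
theorem det_surj {p : ℕ} [Fact p.Prime] [CharP K p] (hn : 1 ≤ n) {g : GL (Fin n) K}
    (hgU : g ∈ Cfsg.GU n K q) (hord : (orderOf g).Coprime p) (t : K) (ht : t * t ^ q = 1) :
    ∃ y : GL (Fin n) K, y ∈ Cfsg.GU n K q ∧ y * g = g * y ∧ (y : Matrix (Fin n) (Fin n) K).det = t := by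
  classical
  obtain ⟨gm, hgm⟩ : ∃ gm : Matrix (Fin n) (Fin n) K, gm = g := ⟨_, rfl⟩
  have hgS : T hK gm * gm = 1 := by rw [hgm]; exact (UnitaryConj.mem_GU_iff hK g).1 hgU
  have hgS' : gm * T hK gm = 1 := mul_eq_one_comm.1 hgS
  -- invariant subspaces of least dimension
  let P : ℕ → Prop := fun d => 0 < d ∧ ∃ U : Submodule K (Fin n → K), finrank K U = d ∧ ∀ x ∈ U, gm *ᵥ x ∈ U
  have hP : ∃ d, P d := ⟨n, hn, ⊤, by rw [finrank_top, Module.finrank_fin_fun], fun x _ => trivial⟩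
  obtain ⟨d, hd⟩ : ∃ d, d = Nat.find hP := ⟨_, rfl⟩
  have hd0 : 0 < d := hd ▸ (Nat.find_spec hP).1
  have hmin : ∀ U : Submodule K (Fin n → K), (∀ x ∈ U, gm *ᵥ x ∈ U) → finrank K U < d → U = ⊥ := by
    intro U hU hlt
    rw [← Submodule.finrank_eq_zero (R := K)]
    by_contra h0
    exact Nat.find_min hP (hd ▸ hlt) ⟨Nat.pos_of_ne_zero h0, U, rfl, hU⟩
  let Basis' := fun (B : Matrix (Fin n) (Fin d) K) (G : Matrix (Fin d) (Fin d) K) =>
    gm * B = B * G ∧ ∃ L : Matrix (Fin d) (Fin n) K, L * B = 1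
  have hirr : ∀ B G, Basis' B G → ∀ Q : Submodule K (Fin d → K), (∀ x ∈ Q, G *ᵥ x ∈ Q) → Q = ⊥ ∨ Q = ⊤ := by
    rintro B G ⟨hBG, L, hL⟩ Q hQ
    have hinj : Function.Injective B.mulVecLin := fun a b h => by
      have := congrArg (fun v => L *ᵥ v) h
      simpa [Matrix.mulVecLin_apply, Matrix.mulVec_mulVec, hL] using this
    by_cases hlt : finrank K Q < d
    · left
      have h1 : Q.map B.mulVecLin = ⊥ := hmin _ (by
        rintro _ ⟨x, hx, rfl⟩
        exact ⟨G *ᵥ x, hQ x hx, by simp only [Matrix.mulVecLin_apply, Matrix.mulVec_mulVec, hBG]⟩)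
        (lt_of_le_of_lt (Submodule.finrank_map_le _ _) hlt)
      exact Submodule.map_injective_of_injective hinj (h1.trans (Submodule.map_bot _).symm)
    · right
      refine Submodule.eq_top_of_finrank_eq (le_antisymm (Submodule.finrank_le _) ?_)
      rw [Module.finrank_fin_fun]
      omega
  obtain ⟨U0, hU0, hU0i⟩ := (Nat.find_spec hP).2
  rw [← hd] at hU0
  obtain ⟨B0, G0, hB0⟩ : ∃ B G, Basis' B G := by
    let b := Module.finBasisOfFinrankEq K U0 hU0
    obtain ⟨B, hB⟩ : ∃ B : Matrix (Fin n) (Fin d) K, B = Matrix.of fun i j => (b j : Fin n → K) i := ⟨_, rfl⟩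
    have hBv : ∀ c : Fin d → K, B *ᵥ c = ((∑ j, c j • b j : U0) : Fin n → K) := fun c => funext fun i => by
      simp [hB, Matrix.mulVec, dotProduct, mul_comm]
    obtain ⟨G, hG⟩ : ∃ G : Matrix (Fin d) (Fin d) K,
        G = Matrix.of fun k j => b.repr ⟨gm *ᵥ (b j : Fin n → K), hU0i _ (b j).2⟩ k := ⟨_, rfl⟩
    refine ⟨B, G, ?_, ?_⟩
    · refine Matrix.ext_of_mulVec_single fun j => ?_
      rw [← Matrix.mulVec_mulVec, ← Matrix.mulVec_mulVec]
      have e1 : B *ᵥ Pi.single j 1 = (b j : Fin n → K) := by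
        rw [Matrix.mulVec_single_one]; simp [hB]; rfl
      have e2 : B *ᵥ (G *ᵥ Pi.single j 1) = gm *ᵥ (b j : Fin n → K) := by
        rw [hBv, Matrix.mulVec_single_one]
        simp only [hG, Matrix.col_apply, Matrix.of_apply]
        rw [b.sum_repr]
      rw [e1, e2]
    · obtain ⟨f, hf⟩ := LinearMap.exists_leftInverse_of_injective B.mulVecLin (LinearMap.ker_eq_bot'.2 fun c hc => by
        rw [Matrix.mulVecLin_apply, hBv, ZeroMemClass.coe_eq_zero] at hc
        exact funext fun j => Fintype.linearIndependent_iff.1 b.linearIndependent c hc j)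
      refine ⟨LinearMap.toMatrix' f, Matrix.ext_of_mulVec_single fun j => ?_⟩
      rw [← Matrix.mulVec_mulVec, LinearMap.toMatrix'_mulVec, Matrix.one_mulVec]
      exact LinearMap.congr_fun hf _
  have hpow : ∀ B G, Basis' B G → ∀ k : ℕ, gm ^ k * B = B * G ^ k := by
    rintro B G ⟨hBG, -⟩ k
    induction k with
    | zero => rw [pow_zero, pow_zero, Matrix.one_mul, Matrix.mul_one]
    | succ k ih => rw [pow_succ, pow_succ, Matrix.mul_assoc, hBG, ← Matrix.mul_assoc, ih, Matrix.mul_assoc]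
  have hGinv : ∀ B G, Basis' B G → ∃ GU : GL (Fin d) K, (GU : Matrix (Fin d) (Fin d) K) = G ∧ (orderOf GU).Coprime p ∧
      T hK gm * B = B * ((GU⁻¹ : GL (Fin d) K) : Matrix (Fin d) (Fin d) K) := by
    intro B G hB
    obtain ⟨hBG, L, hL⟩ := hB
    have hm1 : G ^ orderOf g = 1 := by
      have h1 : G ^ orderOf g = L * (gm ^ orderOf g * B) := by
        rw [hpow B G ⟨hBG, L, hL⟩, ← Matrix.mul_assoc, hL, Matrix.one_mul]
      rw [h1, hgm, ← Units.val_pow_eq_pow_val, pow_orderOf_eq_one, Units.val_one, Matrix.one_mul, hL]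
    have hpos := orderOf_pos g
    let GU : GL (Fin d) K := ⟨G, G ^ (orderOf g - 1), by rw [← pow_succ', Nat.sub_add_cancel hpos, hm1],
      by rw [← pow_succ, Nat.sub_add_cancel hpos, hm1]⟩
    refine ⟨GU, rfl, hord.coprime_dvd_left (orderOf_dvd_of_pow_eq_one (Units.ext ?_)), ?_⟩
    · rw [Units.val_pow_eq_pow_val]; exact hm1
    · calc T hK gm * B = T hK gm * (B * ((GU * GU⁻¹ : GL (Fin d) K) : Matrix (Fin d) (Fin d) K)) := by
            rw [mul_inv_cancel, Units.val_one, Matrix.mul_one]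
        _ = T hK gm * (gm * B) * ((GU⁻¹ : GL (Fin d) K) : Matrix (Fin d) (Fin d) K) := by
            rw [Units.val_mul, hBG]; simp only [Matrix.mul_assoc]; rfl
        _ = B * ((GU⁻¹ : GL (Fin d) K) : Matrix (Fin d) (Fin d) K) := by
            rw [← Matrix.mul_assoc (T hK gm), hgS, Matrix.one_mul]
  obtain ⟨c, hc0, hc⟩ : ∃ c : K, c ≠ 0 ∧ c / Herm.conj hK c = t := by
    obtain ⟨θ, hθ⟩ : ∃ θ : K, θ - Herm.conj hK θ ≠ 0 := by
      by_contra hno
      push Not at hno
      exact Herm.conj_ne_id hK (RingHom.ext fun z => (sub_eq_zero.1 (hno z)).symm)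
    have ht0 : t ≠ 0 := fun h => by simp [h] at ht
    obtain ⟨c, hc⟩ := UnitaryConj.h90_exists (Herm.conj hK) (Herm.conj_conj hK) θ (isUnit_iff_ne_zero.2 hθ)
      (Units.mk0 t ht0) (by rw [Units.val_mk0, Herm.conj_apply, mul_comm]; exact ht)
    refine ⟨c, c.ne_zero, ?_⟩
    rw [div_eq_iff ((map_ne_zero _).2 c.ne_zero)]
    exact hc.symm
  suffices H : ∃ x : Matrix (Fin n) (Fin n) K, x * T hK x = T hK x * x ∧ x * gm = gm * x ∧ x.det = c by
    obtain ⟨x, h1, h2, h3⟩ := H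
    obtain ⟨y, hy1, hy2, hy3⟩ := unitary_of_normal hK h1 (h3 ▸ hc0) hgS h2
    refine ⟨y, hy1, Units.ext ?_, by rw [hy3, h3, hc]⟩
    rw [Units.val_mul, Units.val_mul, ← hgm]; exact hy2
  -- common construction from a pair of dual bases
  have main : ∀ (B : Matrix (Fin n) (Fin d) K) (G : Matrix (Fin d) (Fin d) K) (C : Matrix (Fin n) (Fin d) K), Basis' B G → T hK B * C = 1 →
      (∀ GU : GL (Fin d) K, (GU : Matrix (Fin d) (Fin d) K) = G →
        gm * C = C * T hK ((GU⁻¹ : GL (Fin d) K) : Matrix (Fin d) (Fin d) K)) →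
      (∀ A, A * G = G * A → (B * (A - 1) * T hK C) * T hK (B * (A - 1) * T hK C) =
        T hK (B * (A - 1) * T hK C) * (B * (A - 1) * T hK C)) →
      ∃ x : Matrix (Fin n) (Fin n) K, x * T hK x = T hK x * x ∧ x * gm = gm * x ∧ x.det = c := by
    intro B G C hB hSBC hC hnorm
    obtain ⟨GU, hGU, hGord, hTg⟩ := hGinv B G hB
    obtain ⟨hBG, L, hL⟩ := hB
    have hC' : T hK C * gm = G * T hK C := by
      have h1 := congrArg (T hK) (hC GU hGU)
      rw [T_mul, T_mul, T_T] at h1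
      calc T hK C * gm = (GU : Matrix (Fin d) (Fin d) K) * (((GU⁻¹ : GL (Fin d) K) : Matrix (Fin d) (Fin d) K) * T hK C) * gm := by
            rw [← Matrix.mul_assoc (GU : Matrix (Fin d) (Fin d) K), ← Units.val_mul, mul_inv_cancel, Units.val_one,
              Matrix.one_mul]
        _ = G * T hK C := by
            rw [← h1, hGU]; simp only [Matrix.mul_assoc]; rw [hgS, Matrix.mul_one]
    obtain ⟨A, hA, hAdet⟩ := CfsgLib.MiscSemi.centralizer_det (F := K) (p := p) hd0 hGord (Units.mk0 c hc0)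
    have hA' : (A : Matrix (Fin d) (Fin d) K) * G = G * A := by
      rw [← hGU, ← Units.val_mul, ← Units.val_mul, hA]
    obtain ⟨N, hN⟩ : ∃ N, N = B * ((A : Matrix (Fin d) (Fin d) K) - 1) * T hK C := ⟨_, rfl⟩
    have hn1 := hnorm _ hA'
    rw [← hN] at hn1
    refine ⟨1 + N, ?_, ?_, ?_⟩
    · rw [T_add, T_one]
      simp only [add_mul, mul_add, one_mul, mul_one, hn1]
      abel
    · rw [add_mul, mul_add, one_mul, mul_one]
      congr 1
      rw [hN, Matrix.mul_assoc, hC', ← Matrix.mul_assoc gm, ← Matrix.mul_assoc gm, hBG]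
      simp only [Matrix.mul_assoc]
      congr 1
      rw [← Matrix.mul_assoc, ← Matrix.mul_assoc G, sub_mul, mul_sub, one_mul, mul_one, hA']
    · rw [hN, Matrix.mul_assoc, Matrix.det_one_add_mul_comm, Matrix.mul_assoc,
        show T hK C * B = 1 by
          have := congrArg (T hK) hSBC
          rwa [T_mul, T_T, T_one] at this,
        Matrix.mul_one, add_sub_cancel, hAdet, Units.val_mk0]
  by_cases hne : ∃ B G, Basis' B G ∧ T hK B * B ≠ 0
  · obtain ⟨B, G, hB, hM0⟩ := hne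
    obtain ⟨GU, hGU, -, hTg⟩ := hGinv B G hB
    obtain ⟨M, hM⟩ : ∃ M, M = T hK B * B := ⟨_, rfl⟩
    have hBG := hB.1
    have hMG : M * G = T hK ((GU⁻¹ : GL (Fin d) K) : Matrix (Fin d) (Fin d) K) * M := by
      have h1 := congrArg (T hK) hTg
      rw [T_mul, T_mul, T_T] at h1
      rw [hM, Matrix.mul_assoc, ← hBG, ← Matrix.mul_assoc, h1, Matrix.mul_assoc]
    have hMu : IsUnit M := by
      rcases hirr B G hB (LinearMap.ker M.mulVecLin) (fun v hv => by
        rw [LinearMap.mem_ker, Matrix.mulVecLin_apply] at hv ⊢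
        rw [Matrix.mulVec_mulVec, hMG, ← Matrix.mulVec_mulVec, hv, Matrix.mulVec_zero]) with h0 | h0
      · exact Matrix.mulVec_injective_iff_isUnit.1 (LinearMap.ker_eq_bot.1 h0)
      · refine absurd (Matrix.ext_of_mulVec_single fun i => ?_) (hM ▸ hM0 : M ≠ 0)
        have h1 : Pi.single i (1 : K) ∈ LinearMap.ker M.mulVecLin := by rw [h0]; trivial
        rw [LinearMap.mem_ker, Matrix.mulVecLin_apply] at h1
        rw [h1, Matrix.zero_mulVec]
    obtain ⟨u, hu⟩ := hMu
    obtain ⟨Mi, hMi⟩ : ∃ Mi : Matrix (Fin d) (Fin d) K, Mi = ((u⁻¹ : (Matrix (Fin d) (Fin d) K)ˣ) : Matrix (Fin d) (Fin d) K) := ⟨_, rfl⟩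
    have hMMi : M * Mi = 1 := by rw [← hu, hMi]; exact u.mul_inv
    have hMiM : Mi * M = 1 := mul_eq_one_comm.1 hMMi
    have hTM : T hK M = M := by rw [hM, T_mul, T_T]
    have hTMi : T hK Mi = Mi := by
      have h1 := congrArg (T hK) hMMi
      rw [T_mul, hTM, T_one] at h1
      exact left_inv_eq_right_inv h1 hMMi
    have hGMi : G * Mi = Mi * T hK ((GU⁻¹ : GL (Fin d) K) : Matrix (Fin d) (Fin d) K) := by
      calc G * Mi = Mi * (M * G) * Mi := by rw [← Matrix.mul_assoc, hMiM, Matrix.one_mul]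
        _ = _ := by rw [hMG]; simp only [Matrix.mul_assoc]; rw [hMMi, Matrix.mul_one]
    refine main B G (B * Mi) hB (by rw [← Matrix.mul_assoc, ← hM, hMMi]) (fun GU' hGU' => ?_) (fun A hA => ?_)
    · obtain rfl : GU' = GU := Units.ext (hGU'.trans hGU.symm)
      rw [← Matrix.mul_assoc, hBG, Matrix.mul_assoc, hGMi, Matrix.mul_assoc]
    · have hA2 : (Mi * T hK (A - 1) * M) * G = G * (Mi * T hK (A - 1) * M) := by
        have hAi : ((GU⁻¹ : GL (Fin d) K) : Matrix (Fin d) (Fin d) K) * (A - 1) = (A - 1) * ((GU⁻¹ : GL (Fin d) K) : Matrix (Fin d) (Fin d) K) := by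
          refine Commute.units_inv_left ?_
          show (GU : Matrix (Fin d) (Fin d) K) * (A - 1) = (A - 1) * GU
          rw [hGU, mul_sub, sub_mul, hA, one_mul, mul_one]
        have h1 := congrArg (T hK) hAi
        rw [T_mul, T_mul] at h1
        calc Mi * T hK (A - 1) * M * G = Mi * (T hK (A - 1) * T hK ((GU⁻¹ : GL (Fin d) K) : Matrix (Fin d) (Fin d) K)) * M := by
              simp only [Matrix.mul_assoc]; rw [hMG]
          _ = Mi * T hK ((GU⁻¹ : GL (Fin d) K) : Matrix (Fin d) (Fin d) K) * (T hK (A - 1) * M) := by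
              rw [h1]; simp only [Matrix.mul_assoc]
          _ = G * (Mi * T hK (A - 1) * M) := by rw [← hGMi]; simp only [Matrix.mul_assoc]
      have hcomm := centralizer_comm G (A - 1) _ (hirr B G hB)
        (by rw [sub_mul, mul_sub, hA, one_mul, mul_one]) hA2
      have key : ∀ X Y : Matrix (Fin d) (Fin d) K, B * X * (Mi * T hK B) * (B * Y * (Mi * T hK B)) = B * (X * Y) * (Mi * T hK B) := by
        intro X Y
        calc B * X * (Mi * T hK B) * (B * Y * (Mi * T hK B)) = B * X * (Mi * (T hK B * B)) * (Y * (Mi * T hK B)) := by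
              simp only [Matrix.mul_assoc]
          _ = B * (X * Y) * (Mi * T hK B) := by
              rw [← hM, hMiM, Matrix.mul_one]; simp only [Matrix.mul_assoc]
      rw [show T hK (B * Mi) = Mi * T hK B by rw [T_mul, hTMi],
        show T hK (B * (A - 1) * (Mi * T hK B)) = B * (Mi * T hK (A - 1) * M) * (Mi * T hK B) by
          rw [T_mul, T_mul, T_mul, T_T, hTMi]
          simp only [Matrix.mul_assoc]
          rw [← Matrix.mul_assoc M, hMMi, Matrix.one_mul], key, key, hcomm]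
  · push Not at hne
    obtain ⟨GU, hGU, -, hTg⟩ := hGinv B0 G0 hB0
    obtain ⟨hBG, L, hL⟩ := hB0
    have hSg : T hK B0 * gm = T hK ((GU⁻¹ : GL (Fin d) K) : Matrix (Fin d) (Fin d) K) * T hK B0 := by
      have h1 := congrArg (T hK) hTg
      rwa [T_mul, T_mul, T_T] at h1
    obtain ⟨ker, hker⟩ : ∃ ker, ker = LinearMap.ker (T hK B0).mulVecLin := ⟨_, rfl⟩
    have hkinv : ker ∈ Module.End.invtSubmodule (Matrix.toLinAlgEquiv' gm) := by
      rw [Module.End.mem_invtSubmodule]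
      intro v hv
      rw [hker, LinearMap.mem_ker, Matrix.mulVecLin_apply] at hv
      show Matrix.toLinAlgEquiv' gm v ∈ ker
      rw [hker, LinearMap.mem_ker, Matrix.mulVecLin_apply]
      show T hK B0 *ᵥ (gm *ᵥ v) = 0
      rw [Matrix.mulVec_mulVec, hSg, ← Matrix.mulVec_mulVec, hv, Matrix.mulVec_zero]
    obtain ⟨N, hN, hTN⟩ := CfsgLib.MiscSemi.ord_toEnd (p := p) hord
    have hss : Module.End.IsSemisimple (Matrix.toLinAlgEquiv' gm : Module.End K (Fin n → K)) := by
      refine Module.End.isSemisimple_of_squarefree_aeval_eq_zero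
        ((Polynomial.separable_X_pow_sub_C (1 : K) hN one_ne_zero).squarefree) ?_
      subst hgm
      simp [hTN]
    obtain ⟨W, hW', hcompl⟩ := Module.End.isSemisimple_iff.1 hss _ hkinv
    have hW : ∀ x ∈ W, gm *ᵥ x ∈ W := fun x hx => (Module.End.mem_invtSubmodule _).1 hW' hx
    have hinjW : ∀ w ∈ W, T hK B0 *ᵥ w = 0 → w = 0 := fun w hw h0 => by
      have : w ∈ ker ⊓ W := ⟨hker.symm ▸ LinearMap.mem_ker.2 h0, hw⟩
      rwa [hcompl.inf_eq_bot, Submodule.mem_bot] at this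
    have hsurj : ∀ j : Fin d, ∃ w ∈ W, T hK B0 *ᵥ w = Pi.single j 1 := fun j => by
      obtain ⟨k, hk, w, hw, hkw⟩ := Submodule.mem_sup.1 (show T hK L *ᵥ Pi.single j 1 ∈ ker ⊔ W by
        rw [hcompl.sup_eq_top]; trivial)
      refine ⟨w, hw, ?_⟩
      rw [hker, LinearMap.mem_ker, Matrix.mulVecLin_apply] at hk
      calc T hK B0 *ᵥ w = T hK B0 *ᵥ (k + w) := by rw [Matrix.mulVec_add, hk, zero_add]
        _ = Pi.single j 1 := by rw [hkw, Matrix.mulVec_mulVec, ← T_mul, hL, T_one, Matrix.one_mulVec]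
    choose w hw hw1 using hsurj
    obtain ⟨C, hC⟩ : ∃ C : Matrix (Fin n) (Fin d) K, C = Matrix.of fun i j => w j i := ⟨_, rfl⟩
    have hCW : ∀ x : Fin d → K, C *ᵥ x ∈ W := fun x => by
      have : C *ᵥ x = ∑ j, x j • w j := funext fun i => by simp [hC, Matrix.mulVec, dotProduct, mul_comm]
      rw [this]
      exact W.sum_mem fun j _ => W.smul_mem _ (hw j)
    have hSBC : T hK B0 * C = 1 := Matrix.ext_of_mulVec_single fun j => by
      rw [← Matrix.mulVec_mulVec, Matrix.one_mulVec]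
      refine Eq.trans ?_ (hw1 j)
      congr 1
      rw [Matrix.mulVec_single_one]; simp [hC]; rfl
    have hgC : gm * C = C * T hK ((GU⁻¹ : GL (Fin d) K) : Matrix (Fin d) (Fin d) K) := by
      refine Matrix.ext_of_mulVec_single fun j => sub_eq_zero.1 (hinjW _ (W.sub_mem ?_ ?_) ?_)
      · rw [← Matrix.mulVec_mulVec]; exact hW _ (hCW _)
      · rw [← Matrix.mulVec_mulVec]; exact hCW _
      · rw [Matrix.mulVec_sub, Matrix.mulVec_mulVec, Matrix.mulVec_mulVec, ← Matrix.mul_assoc, ← Matrix.mul_assoc,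
          hSg, hSBC, Matrix.mul_assoc, hSBC, Matrix.mul_one, Matrix.one_mul, sub_self]
    have hB0B := hne B0 G0 ⟨hBG, L, hL⟩
    have hCC := hne C _ ⟨hgC, T hK B0, hSBC⟩
    refine main B0 G0 C ⟨hBG, L, hL⟩ hSBC (fun GU' hGU' => ?_) (fun A _ => ?_)
    · obtain rfl : GU' = GU := Units.ext (hGU'.trans hGU.symm)
      exact hgC
    · have e1 : ∀ X Y : Matrix (Fin d) (Fin d) K, B0 * X * T hK C * (C * Y * T hK B0) = 0 := fun X Y => by
        rw [show B0 * X * T hK C * (C * Y * T hK B0) = B0 * X * (T hK C * C) * Y * T hK B0 by simp only [Matrix.mul_assoc],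
          hCC]; simp
      have e2 : ∀ X Y : Matrix (Fin d) (Fin d) K, C * X * T hK B0 * (B0 * Y * T hK C) = 0 := fun X Y => by
        rw [show C * X * T hK B0 * (B0 * Y * T hK C) = C * X * (T hK B0 * B0) * Y * T hK C by simp only [Matrix.mul_assoc],
          hB0B]; simp
      rw [T_mul, T_mul, T_T, ← Matrix.mul_assoc C, e1, e2]

include hK in
theorem isConj_SU {p : ℕ} [Fact p.Prime] [CharP K p] (g h : Cfsg.SU n K q)
    (hg : (orderOf g).Coprime p) (hh : (orderOf h).Coprime p)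
    (hc : ((g : SpecialLinearGroup (Fin n) K) : Matrix (Fin n) (Fin n) K).charpoly =
      ((h : SpecialLinearGroup (Fin n) K) : Matrix (Fin n) (Fin n) K).charpoly) : IsConj g h := by
  classical
  rcases Nat.eq_zero_or_pos n with rfl | hn
  · rw [Subsingleton.elim g h]
  let ι := Unitary.suToGU n K q
  have hι : Function.Injective ι := Unitary.suToGU_injective
  have ho : ∀ a : Cfsg.SU n K q, orderOf ((ι a : GL (Fin n) K)) = orderOf a := fun a =>
    orderOf_injective ((Cfsg.GU n K q).subtype.comp ι) (Subtype.val_injective.comp hι) a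
  obtain ⟨c, hc'⟩ := CfsgLib.MiscSemi.conj_of_charpoly (p := p) (g := (ι g : GL (Fin n) K)) (h := (ι h : GL (Fin n) K))
    (by rw [ho]; exact hg) (by rw [ho]; exact hh) hc
  obtain ⟨u, hu⟩ := isConj_iff.1 ((UnitaryConj.isConj_iff' hK (ι g) (ι h)).2 (isConj_iff.2 ⟨c, hc'⟩))
  obtain ⟨δ, hδ⟩ : ∃ δ : Kˣ, δ = (Unitary.detN hK n u⁻¹ : Kˣ) := ⟨_, rfl⟩
  have hδ1 : (δ : K) * (δ : K) ^ q = 1 := hδ ▸ Unitary.N1_val (Unitary.detN hK n u⁻¹).2
  obtain ⟨y, hyU, hyg, hyd⟩ := det_surj hK (p := p) hn (ι g).2 (by rw [ho]; exact hg) (δ : K) hδ1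
  have hker : u * ⟨y, hyU⟩ ∈ (Unitary.detN hK n).ker := by
    rw [MonoidHom.mem_ker, map_mul]
    refine Subtype.ext (Units.ext ?_)
    rw [Subgroup.coe_mul, Units.val_mul, Subgroup.coe_one, Units.val_one,
      Unitary.detN_val hK ⟨y, hyU⟩]
    show _ * (y : Matrix (Fin n) (Fin n) K).det = 1
    rw [hyd, hδ, map_inv, Subgroup.coe_inv, Units.mul_inv]
  rw [← Unitary.range_suToGU hK] at hker
  obtain ⟨a, ha⟩ := hker
  refine isConj_iff.2 ⟨a, hι ?_⟩
  rw [map_mul, map_mul, map_inv, ha, ← hu]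
  have hy' : (⟨y, hyU⟩ : Cfsg.GU n K q) * ι g = ι g * ⟨y, hyU⟩ := Subtype.ext hyg
  show u * ⟨y, hyU⟩ * ι g * (u * ⟨y, hyU⟩)⁻¹ = u * ι g * u⁻¹
  rw [_root_.mul_inv_rev, mul_assoc u, hy']
  group

end CfsgLib.Lie.SUSemiConj
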