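import Cfsg.Agent.Lie.SUSemiConj

/-!
Number of semisimple classes of the special unitary group.
-/

set_option autoImplicit false
set_option linter.unusedSectionVars false
set_option linter.unusedSimpArgs false

namespace CfsgLib.Lie.SUSemiCount

open Matrix Polynomial SUSemiConj

variable {K : Type*} [Field K] [Fintype K] {q n : ℕ} (hK : Fintype.card K = q ^ 2)

theorem coeff_inv_T (A : Matrix (Fin n) (Fin n) K) (hA : A.det = 1) (i : ℕ) (hi : i ≤ n) :
    ((T hK A)⁻¹).charpoly.coeff i = (-1) ^ n * Herm.conj hK (A.charpoly.coeff (n - i)) := by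
  have hd : (T hK A).det = 1 := by rw [T_det, hA, map_one]
  have hu : IsUnit (T hK A) := (Matrix.isUnit_iff_isUnit_det _).2 (by rw [hd]; exact isUnit_one)
  rw [Matrix.charpoly_inv _ hu, hd, Ring.inverse_one, map_one, mul_one, Fintype.card_fin, ← Matrix.reverse_charpoly]
  have hcp : (T hK A).charpoly = A.charpoly.map (Herm.conj hK) := by
    rw [T, Matrix.charpoly_transpose, Matrix.charpoly_map]
  rw [hcp, show (-1 : K[X]) ^ n = C ((-1) ^ n) by simp, Polynomial.coeff_C_mul, Polynomial.coeff_reverse,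
    (A.charpoly_monic).natDegree_map, Matrix.charpoly_natDegree_eq_dim, Fintype.card_fin, Polynomial.revAt_le hi,
    Polynomial.coeff_map]

theorem card_fix {k : ℕ} (ε : K) (hε : ε * Herm.conj hK ε = 1) :
    Nat.card {f : Fin k → K // ∀ i, f (Fin.rev i) = ε * Herm.conj hK (f i)} = q ^ k := by
  classical
  obtain ⟨ω, hω⟩ : ∃ ω : K, ω - Herm.conj hK ω ≠ 0 := by
    by_contra hno
    push Not at hno
    exact Herm.conj_ne_id hK (RingHom.ext fun z => (sub_eq_zero.1 (hno z)).symm)
  let Fx := {f : Fin k → K // ∀ i, f (Fin.rev i) = ε * Herm.conj hK (f i)}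
  let φ : Fx × Fx → (Fin k → K) := fun p i => p.1.1 i + ω * p.2.1 i
  have hφ : Function.Bijective φ := by
    have key : ∀ (p : Fx × Fx) i, ε * Herm.conj hK (φ p (Fin.rev i)) = p.1.1 i + Herm.conj hK ω * p.2.1 i := by
      intro p i
      show ε * Herm.conj hK (p.1.1 (Fin.rev i) + ω * p.2.1 (Fin.rev i)) = _
      have h1 := p.1.2 (Fin.rev i); have h2 := p.2.2 (Fin.rev i)
      rw [Fin.rev_rev] at h1 h2
      rw [h1, h2, map_add, map_mul]; ring
    constructor
    · intro p p' h
      have h2 : ∀ i, p.2.1 i = p'.2.1 i := fun i => by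
        have a := congrFun h i
        have b := (key p i).symm.trans ((congrArg (fun z => ε * Herm.conj hK (z (Fin.rev i))) h).trans (key p' i))
        have a' : p.1.1 i + ω * p.2.1 i = p'.1.1 i + ω * p'.2.1 i := a
        exact mul_left_cancel₀ hω (by linear_combination a' - b)
      have h1 : ∀ i, p.1.1 i = p'.1.1 i := fun i => by
        have a' : p.1.1 i + ω * p.2.1 i = p'.1.1 i + ω * p'.2.1 i := congrFun h i
        rw [h2 i] at a'
        exact add_right_cancel a'
      exact Prod.ext (Subtype.ext (funext h1)) (Subtype.ext (funext h2))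
    · intro f
      obtain ⟨b, hb⟩ : ∃ b : Fin k → K, b = fun i => (f i - ε * Herm.conj hK (f (Fin.rev i))) / (ω - Herm.conj hK ω) :=
        ⟨_, rfl⟩
      have hε' : ∀ z, ε * Herm.conj hK (ε * Herm.conj hK z) = z := fun z => by
        rw [map_mul, Herm.conj_conj hK, ← mul_assoc, hε, one_mul]
      have hbfix : ∀ i, b (Fin.rev i) = ε * Herm.conj hK (b i) := fun i => by
        rw [hb]
        simp only [Fin.rev_rev, map_div₀, map_sub, map_mul, Herm.conj_conj hK]
        rw [mul_div_assoc', mul_sub, ← mul_assoc ε (Herm.conj hK ε), hε, one_mul, ← neg_div_neg_eq, neg_sub, neg_sub]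
      refine ⟨(⟨fun i => f i - ω * b i, fun i => ?_⟩, ⟨b, hbfix⟩), funext fun i => sub_add_cancel _ _⟩
      show f (Fin.rev i) - ω * b (Fin.rev i) = ε * Herm.conj hK (f i - ω * b i)
      rw [map_sub, map_mul, mul_sub, hbfix]
      have hkey : (ω - Herm.conj hK ω) * (ε * Herm.conj hK (b i)) = f (Fin.rev i) - ε * Herm.conj hK (f i) := by
        rw [← hbfix, hb]
        simp only [Fin.rev_rev]
        rw [mul_div_cancel₀ _ hω]
      linear_combination -hkey
  have hc := Nat.card_eq_of_bijective φ hφ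
  rw [Nat.card_prod, Nat.card_fun, Nat.card_eq_fintype_card (α := K), hK, Nat.card_eq_fintype_card (α := Fin k),
    Fintype.card_fin, ← pow_mul, mul_comm 2 k, pow_mul, sq] at hc
  exact Nat.mul_self_inj.1 hc

include hK in
theorem card_classes {p : ℕ} [Fact p.Prime] [CharP K p] (hn : 1 ≤ n) :
    Nat.card {c : ConjClasses ↥(Cfsg.SU n K q) // ∃ g : ↥(Cfsg.SU n K q), ConjClasses.mk g = c ∧ (orderOf g).Coprime p}
      = q ^ (n - 1) := by
  classical
  obtain ⟨k, rfl⟩ : ∃ k, n = k + 1 := ⟨n - 1, by omega⟩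
  obtain ⟨ε, hεd⟩ : ∃ ε : K, ε = (-1) ^ (k + 1) := ⟨_, rfl⟩
  have hεε : ε * ε = 1 := by rw [hεd, ← mul_pow, neg_one_mul, neg_neg, one_pow]
  have hεc : Herm.conj hK ε = ε := by rw [hεd, map_pow, map_neg, map_one]
  have hιinj : Function.Injective ((Cfsg.GU (k + 1) K q).subtype.comp (Unitary.suToGU (k + 1) K q)) :=
    Subtype.val_injective.comp Unitary.suToGU_injective
  have h0 : ∀ A : Matrix (Fin (k + 1)) (Fin (k + 1)) K, A.det = 1 → A.charpoly.coeff 0 = ε := fun A h => by
    rw [Matrix.det_eq_sign_charpoly_coeff, Fintype.card_fin, ← hεd] at h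
    linear_combination ε * h - A.charpoly.coeff 0 * hεε
  have hsym : ∀ g : Cfsg.SU (k + 1) K q, ∀ j : Fin k,
      ((g : SpecialLinearGroup (Fin (k + 1)) K) : Matrix (Fin (k + 1)) (Fin (k + 1)) K).charpoly.coeff ((Fin.rev j : ℕ) + 1) =
        ε * Herm.conj hK (((g : SpecialLinearGroup (Fin (k + 1)) K) : Matrix (Fin (k + 1)) (Fin (k + 1)) K).charpoly.coeff ((j : ℕ) + 1)) := by
    intro g j
    obtain ⟨A, hAd⟩ : ∃ A : Matrix (Fin (k + 1)) (Fin (k + 1)) K, A = (g : SpecialLinearGroup (Fin (k + 1)) K) := ⟨_, rfl⟩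
    rw [← hAd]
    have hA : T hK A * A = 1 := by
      rw [hAd]; exact (UnitaryConj.mem_GU_iff hK _).1 (Unitary.suToGU (k + 1) K q g).2
    have hdet : A.det = 1 := hAd ▸ (g : SpecialLinearGroup (Fin (k + 1)) K).2
    have h := coeff_inv_T hK A hdet ((Fin.rev j : ℕ) + 1) (by omega)
    rw [Matrix.inv_eq_right_inv hA, ← hεd] at h
    rw [h]
    congr 3
    rw [Fin.val_rev]
    omega
  let Tgt := {f : Fin k → K // ∀ i, f (Fin.rev i) = ε * Herm.conj hK (f i)}
  let f : {c : ConjClasses ↥(Cfsg.SU (k + 1) K q) // ∃ g, ConjClasses.mk g = c ∧ (orderOf g).Coprime p} → Tgt := fun c =>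
    ⟨fun i => ((c.2.choose : SpecialLinearGroup (Fin (k + 1)) K) : Matrix (Fin (k + 1)) (Fin (k + 1)) K).charpoly.coeff ((i : ℕ) + 1),
      hsym _⟩
  have hf : Function.Bijective f := by
    constructor
    · intro c c' e
      refine Subtype.ext ?_
      rw [← c.2.choose_spec.1, ← c'.2.choose_spec.1]
      refine ConjClasses.mk_eq_mk_iff_isConj.2 (isConj_SU hK _ _ c.2.choose_spec.2 c'.2.choose_spec.2
        (CfsgLib.MiscSemi.coeff_ext (n := k + 1) (Matrix.charpoly_monic _) (Matrix.charpoly_monic _)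
          (by simp [Matrix.charpoly_natDegree_eq_dim]) (by simp [Matrix.charpoly_natDegree_eq_dim]) fun i => ?_))
      refine Fin.cases ?_ (fun j => ?_) i
      · rw [Fin.val_zero, h0 _ (Matrix.SpecialLinearGroup.det_coe _), h0 _ (Matrix.SpecialLinearGroup.det_coe _)]
      · rw [Fin.val_succ]; exact congrFun (congrArg Subtype.val e) j
    · rintro ⟨a, ha⟩
      obtain ⟨g, hg, hc⟩ := CfsgLib.MiscSemi.exists_semisimple (F := K) (p := p) (n := k + 1) hn
        (Fin.cons (α := fun _ => K) ε a) (by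
          show Fin.cons (α := fun _ => K) ε a 0 ≠ 0
          rw [Fin.cons_zero]
          exact fun h => by simp [h] at hεε)
      obtain ⟨A, hAd⟩ : ∃ A : Matrix (Fin (k + 1)) (Fin (k + 1)) K, A = g := ⟨_, rfl⟩
      have hco : ∀ i : ℕ, i ≤ k + 1 → A.charpoly.coeff i =
          if h : i = 0 then ε else if h' : i - 1 < k then a ⟨i - 1, h'⟩ else 1 := by
        intro i hi
        rw [hAd]
        by_cases h : i = 0
        · subst h; rw [dif_pos rfl]; exact (hc 0).trans (by rw [Fin.cons_zero])
        · rw [dif_neg h]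
          by_cases h' : i - 1 < k
          · rw [dif_pos h']
            have := hc (Fin.succ ⟨i - 1, h'⟩)
            rw [Fin.cons_succ] at this
            rwa [Fin.val_succ, show i - 1 + 1 = i by omega] at this
          · rw [dif_neg h', show i = k + 1 by omega]
            have := (Matrix.charpoly_monic (g : Matrix (Fin (k + 1)) (Fin (k + 1)) K)).coeff_natDegree
            rwa [Matrix.charpoly_natDegree_eq_dim, Fintype.card_fin] at this
      have hdet : A.det = 1 := by
        rw [Matrix.det_eq_sign_charpoly_coeff, Fintype.card_fin, hco 0 (Nat.zero_le _), dif_pos rfl, ← hεd, hεε]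
      have hTu : IsUnit (T hK A) := (Matrix.isUnit_iff_isUnit_det _).2 (by rw [T_det, hdet, map_one]; exact isUnit_one)
      have hcp : ((T hK A)⁻¹).charpoly = A.charpoly := by
        refine CfsgLib.MiscSemi.coeff_ext (n := k + 1) (Matrix.charpoly_monic _) (Matrix.charpoly_monic _)
          (by simp [Matrix.charpoly_natDegree_eq_dim]) (by simp [Matrix.charpoly_natDegree_eq_dim]) fun i => ?_
        rw [coeff_inv_T hK A hdet _ i.2.le, ← hεd, hco _ (Nat.sub_le _ _), hco _ i.2.le]
        refine Fin.cases ?_ (fun j => ?_) i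
        · simp [hεd]
        · rw [Fin.val_succ, dif_neg (by omega), dif_pos (by omega), dif_neg (by omega), dif_pos (by omega)]
          have := ha (Fin.rev j)
          rw [Fin.rev_rev] at this
          rw [show (⟨(j : ℕ) + 1 - 1, by omega⟩ : Fin k) = j from Fin.ext (by simp),
            show (⟨k + 1 - ((j : ℕ) + 1) - 1, by omega⟩ : Fin k) = Fin.rev j from Fin.ext (by rw [Fin.val_rev]; simp; omega)]
          exact this.symm
      have hord : (orderOf hTu.unit⁻¹).Coprime p := by
        rw [orderOf_inv]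
        refine hg.coprime_dvd_left (orderOf_dvd_of_pow_eq_one (Units.ext ?_))
        have hp : ∀ m, T hK A ^ m = T hK (A ^ m) := fun m => by
          induction m with
          | zero => rw [pow_zero, pow_zero, T_one]
          | succ m ih => rw [pow_succ, ih, ← T_mul, ← pow_succ']
        rw [Units.val_pow_eq_pow_val, IsUnit.unit_spec, hp, hAd, ← Units.val_pow_eq_pow_val, pow_orderOf_eq_one,
          Units.val_one, T_one]
      obtain ⟨d, hd⟩ := CfsgLib.MiscSemi.conj_of_charpoly (p := p) (g := g) (h := hTu.unit⁻¹) hg hord (by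
        rw [Matrix.coe_units_inv, IsUnit.unit_spec, hcp, hAd])
      obtain ⟨B, hB⟩ := (UnitaryConj.exists_mem_GU_iff hK g).2 (by
        have := MonoidHom.map_isConj (Units.coeHom (Matrix (Fin (k + 1)) (Fin (k + 1)) K)) (isConj_iff.2 ⟨d, hd⟩)
        simp only [Units.coeHom_apply, Matrix.coe_units_inv, IsUnit.unit_spec, hAd] at this
        exact this)
      obtain ⟨e, he⟩ := isConj_iff.1 hB
      have hBdet : ((B : GL (Fin (k + 1)) K) : Matrix (Fin (k + 1)) (Fin (k + 1)) K).det = 1 := by
        rw [← he, Units.val_mul, Units.val_mul, Matrix.det_units_conj, ← hAd, hdet]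
      obtain ⟨s, hs⟩ : ∃ s : Cfsg.SU (k + 1) K q, Unitary.suToGU (k + 1) K q s = B := by
        have : B ∈ (Unitary.detN hK (k + 1)).ker := Subtype.ext (Units.ext (by
          rw [Unitary.detN_val]; exact hBdet))
        rwa [← Unitary.range_suToGU hK] at this
      have hs' : ((Unitary.suToGU (k + 1) K q s : Cfsg.GU (k + 1) K q) : GL (Fin (k + 1)) K) = e * g * e⁻¹ := by rw [hs, he]
      have hso : (orderOf s).Coprime p := by
        rw [← orderOf_injective _ hιinj s]
        show (orderOf ((Unitary.suToGU (k + 1) K q s : Cfsg.GU (k + 1) K q) : GL (Fin (k + 1)) K)).Coprime p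
        rw [hs', ← MulAut.conj_apply, MulEquiv.orderOf_eq]
        exact hg
      have hex : ∃ g' : Cfsg.SU (k + 1) K q, ConjClasses.mk g' = ConjClasses.mk s ∧ (orderOf g').Coprime p := ⟨s, rfl, hso⟩
      refine ⟨⟨ConjClasses.mk s, hex⟩, Subtype.ext (funext fun i => ?_)⟩
      obtain ⟨d', hd'⟩ := isConj_iff.1 (ConjClasses.mk_eq_mk_iff_isConj.1 hex.choose_spec.1.symm)
      have hd'' := congrArg (fun x => ((Unitary.suToGU (k + 1) K q x : Cfsg.GU (k + 1) K q) : GL (Fin (k + 1)) K)) hd'
      simp only [map_mul, map_inv, Subgroup.coe_mul, Subgroup.coe_inv, hs'] at hd''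
      show (((Unitary.suToGU (k + 1) K q hex.choose : Cfsg.GU (k + 1) K q) : GL (Fin (k + 1)) K) : Matrix (Fin (k + 1)) (Fin (k + 1)) K).charpoly.coeff _ = a i
      rw [← hd'', Units.val_mul, Units.val_mul, Matrix.coe_units_inv, Matrix.charpoly_units_conj, Units.val_mul,
        Units.val_mul, Matrix.coe_units_inv, Matrix.charpoly_units_conj, ← hAd, hco _ (by omega), dif_neg (by omega),
        dif_pos (by omega)]
      exact congrArg a (Fin.ext (by simp))
  rw [Nat.card_eq_of_bijective f hf, card_fix hK ε (by rw [hεc, hεε]), Nat.add_sub_cancel]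

end CfsgLib.Lie.SUSemiCount
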