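import Cfsg.Agent.Lie.SUFull

/-!
Orthogonal complements for the hermitian form and stabilisers of totally isotropic subspaces in SU.
-/

set_option autoImplicit false
set_option linter.unusedSimpArgs false
set_option linter.unusedSectionVars false

namespace CfsgLib.Lie.SUStab

open Matrix
open CfsgLib.Lie.Herm (form_add_left form_add_right form_smul_left form_smul_right form_comm form_single mem_GU)
open CfsgLib.Lie.SUGen (tu tu_mulVec tu_mem_T tu_smul tu_mul tu_zero conj_tu Tz form_sub_left form_sub_right)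
open CfsgLib.Lie.SUFull (EE EE_mem EE_mulVec Full form_eq_zero_symm form_zero_left)

variable {F : Type*} [Field F] [Fintype F] {q n : ℕ} (hF : Fintype.card F = q ^ 2)

/-- orthogonal complement -/
noncomputable def perp (W : Submodule F (Fin n → F)) : Submodule F (Fin n → F) :=
  ⨅ w ∈ W, LinearMap.ker (Herm.hb n hF w)

theorem mem_perp {W : Submodule F (Fin n → F)} {x : Fin n → F} :
    x ∈ perp hF W ↔ ∀ w ∈ W, Cfsg.hermForm n F q x w = 0 := by
  simp [perp, Herm.hb_apply]

theorem mem_perp' {W : Submodule F (Fin n → F)} {x : Fin n → F} (hx : x ∈ perp hF W) {w : Fin n → F}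
    (hw : w ∈ W) : Cfsg.hermForm n F q w x = 0 :=
  form_eq_zero_symm hF ((mem_perp hF).1 hx w hw)

theorem mem_perp_sup_span {W : Submodule F (Fin n → F)} {x b : Fin n → F}
    (hx : x ∈ perp hF (W ⊔ F ∙ b)) : x ∈ perp hF W ∧ Cfsg.hermForm n F q x b = 0 :=
  ⟨(mem_perp hF).2 fun w hw => (mem_perp hF).1 hx w (Submodule.mem_sup_left hw),
    (mem_perp hF).1 hx b (Submodule.mem_sup_right (Submodule.mem_span_singleton_self b))⟩

include hF in
theorem mem_of_perp_perp {W : Submodule F (Fin n → F)} {x : Fin n → F}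
    (h : ∀ y ∈ perp hF W, Cfsg.hermForm n F q x y = 0) : x ∈ W := by
  by_contra hx
  obtain ⟨φ, hφx, hφ⟩ := Witt.exists_dual hx
  obtain ⟨y, hy⟩ := SUFull.exists_rep hF φ
  refine one_ne_zero (α := F) ?_
  rw [← hφx, ← hy]
  exact h y ((mem_perp hF).2 fun w hw => form_eq_zero_symm hF (by rw [hy]; exact hφ w hw))

theorem finrank_perp (W : Submodule F (Fin n → F)) :
    Module.finrank F (perp hF W) + Module.finrank F W = n := by
  let b := Module.finBasis F W
  let L : (Fin n → F) →ₗ[F] (Fin (Module.finrank F W) → F) :=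
    LinearMap.pi fun i => Herm.hb n hF (b i : Fin n → F)
  have hker : LinearMap.ker L = perp hF W := by
    ext x
    rw [LinearMap.mem_ker, mem_perp hF]
    refine ⟨fun h w hw => ?_, fun h => funext fun i => h _ (b i).2⟩
    have h1 : (Herm.hb n hF).flip x (∑ i, b.repr ⟨w, hw⟩ i • (b i : Fin n → F)) = 0 := by
      rw [map_sum]
      refine Finset.sum_eq_zero fun i _ => ?_
      rw [LinearMap.map_smulₛₗ]
      have h2 : (Herm.hb n hF).flip x (b i : Fin n → F) = 0 := congrFun h i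
      rw [h2, smul_zero]
    have h3 : ∑ i, b.repr ⟨w, hw⟩ i • (b i : Fin n → F) = w := by
      have := congrArg Subtype.val (b.sum_repr ⟨w, hw⟩)
      rw [Submodule.coe_sum] at this
      exact this
    rw [h3] at h1
    exact h1
  have hsurj : LinearMap.range L = ⊤ := by
    by_contra hne
    obtain ⟨z, hz⟩ : ∃ z, z ∉ LinearMap.range L := by
      by_contra h
      push Not at h
      exact hne (Submodule.eq_top_iff'.2 h)
    obtain ⟨ψ, hψz, hψ⟩ := Witt.exists_dual hz
    obtain ⟨c, hc⟩ : ∃ c : Fin (Module.finrank F W) → F, c = fun i => ψ (Pi.single i 1) := ⟨_, rfl⟩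
    have hψc : ∀ x, ψ x = ∑ i, x i * c i := fun x => by
      conv_lhs => rw [pi_eq_sum_univ' x]
      simp [hc, map_sum]
    have h0 : (∑ i, (c i ^ q) • (b i : Fin n → F)) = 0 := by
      refine SUFull.eq_zero_of_orth hF fun x => ?_
      have h1 := hψ (L x) ⟨x, rfl⟩
      rw [hψc] at h1
      rw [← h1, ← Herm.hb_apply hF, map_sum, LinearMap.sum_apply]
      refine Finset.sum_congr rfl fun i _ => ?_
      rw [LinearMap.map_smulₛₗ, LinearMap.smul_apply, Herm.conj_apply, Herm.pow_pow_q hF, smul_eq_mul,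
        mul_comm]
      rfl
    have h2 : (∑ i, (c i ^ q) • b i) = (0 : W) := Subtype.ext (by simpa using h0)
    have h3 := Fintype.linearIndependent_iff.1 b.linearIndependent _ h2
    rw [hψc, Finset.sum_eq_zero fun i _ => by
      rw [(pow_eq_zero_iff (by have := Herm.two_le hF; omega)).1 (h3 i), mul_zero]] at hψz
    exact zero_ne_one hψz
  have h := LinearMap.finrank_range_add_finrank_ker L
  rw [hker, hsurj, finrank_top, Module.finrank_fin_fun, Module.finrank_fin_fun] at h
  omega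

include hF in
/-- isotropy of all vectors gives total isotropy -/
theorem totally_of_iso {K : Submodule F (Fin n → F)} (h : ∀ x ∈ K, Cfsg.hermForm n F q x x = 0)
    {x y : Fin n → F} (hx : x ∈ K) (hy : y ∈ K) : Cfsg.hermForm n F q x y = 0 := by
  by_contra hne
  obtain ⟨θ, hθ⟩ := SUFull.exists_not_fixed hF
  obtain ⟨δ, hδ, hδ0⟩ := SUGen.exists_tz hF
  obtain ⟨t, ht⟩ : ∃ t, t = δ * θ / Cfsg.hermForm n F q x y := ⟨_, rfl⟩
  have h1 := h _ (K.add_mem (K.smul_mem t hx) hy)
  rw [form_add_left, form_add_right hF, form_add_right hF, form_smul_left, form_smul_left,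
    form_smul_right, form_smul_right, h x hx, h y hy, ← form_comm hF x y, ← mul_pow, ht,
    div_mul_cancel₀ _ hne, mul_pow] at h1
  refine hθ ((mul_eq_zero.1 ?_).resolve_left hδ0)
  unfold SUGen.Tz at hδ
  linear_combination h1 - θ ^ q * hδ

theorem exists_aniso_perp {W : Submodule F (Fin n → F)}
    (hW : ∀ x ∈ W, x ∈ perp hF W → x = 0) (K : Submodule F (Fin n → F)) (hK : K ≤ perp hF W)
    (hdim : n < 2 * Module.finrank F K + Module.finrank F W) :
    ∃ e ∈ K, Cfsg.hermForm n F q e e ≠ 0 := by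
  by_contra hcon
  push Not at hcon
  have h1 : K ⊔ W ≤ perp hF K := by
    refine sup_le (fun x hx => (mem_perp hF).2 fun y hy => totally_of_iso hF hcon hx hy)
      fun x hx => (mem_perp hF).2 fun y hy => mem_perp' hF (hK hy) hx
  have h2 : K ⊓ W = ⊥ := (Submodule.eq_bot_iff _).2 fun x hx => hW x hx.2 (hK hx.1)
  have h3 := Submodule.finrank_sup_add_finrank_inf_eq K W
  rw [h2, finrank_bot] at h3
  have h4 := Submodule.finrank_mono h1
  have h5 := finrank_perp hF K
  omega

include hF in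
theorem adjust {w z : Fin n → F} (hw : Cfsg.hermForm n F q w w = 0) (hwz : Cfsg.hermForm n F q w z ≠ 0) :
    ∃ t : F, Cfsg.hermForm n F q (z + t • w) (z + t • w) = 0 := by
  obtain ⟨μ, hμ⟩ := Witt.exists_trace (Herm.conj hF) (Herm.conj_ne_id hF) (Herm.conj_conj hF)
    (-Cfsg.hermForm n F q z z) (by rw [map_neg, Herm.conj_apply, form_comm hF])
  rw [Herm.conj_apply] at hμ
  refine ⟨μ / Cfsg.hermForm n F q w z, ?_⟩
  rw [form_add_left, form_add_right hF, form_add_right hF, form_smul_left, form_smul_left,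
    form_smul_right, form_smul_right, hw, ← form_comm hF w z, ← mul_pow, div_mul_cancel₀ _ hwz]
  linear_combination hμ

include hF in
theorem exists_norm' (c : F) (hc : c ^ q = c) : ∃ a : F, a * a ^ q = c := by
  by_cases hc0 : c = 0
  · exact ⟨0, by rw [hc0, zero_mul]⟩
  obtain ⟨a, -, ha⟩ := Herm.exists_norm hF c hc0 hc
  exact ⟨a, ha⟩

include hF in
theorem exists_orth_in (K : Submodule F (Fin n → F)) (e : Fin n → F) (hK : 2 ≤ Module.finrank F K) :
    ∃ p ∈ K, p ≠ 0 ∧ Cfsg.hermForm n F q p e = 0 := by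
  have h1 := LinearMap.finrank_range_add_finrank_ker ((Herm.hb n hF e).comp K.subtype)
  have h2 := Submodule.finrank_le (LinearMap.range ((Herm.hb n hF e).comp K.subtype))
  rw [Module.finrank_self] at h2
  by_contra hcon
  push Not at hcon
  have h3 : LinearMap.ker ((Herm.hb n hF e).comp K.subtype) = ⊥ := (Submodule.eq_bot_iff _).2 fun p hp => by
    by_contra hp0
    exact hcon p p.2 (fun h => hp0 (Subtype.ext h)) (LinearMap.mem_ker.1 hp)
  rw [h3, finrank_bot] at h1
  omega

include hF in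
theorem exists_iso (K : Submodule F (Fin n → F)) (hK : 2 ≤ Module.finrank F K) :
    ∃ z ∈ K, z ≠ 0 ∧ Cfsg.hermForm n F q z z = 0 := by
  by_cases h : ∀ e ∈ K, Cfsg.hermForm n F q e e = 0
  · obtain ⟨z, hz, hz0⟩ := Submodule.exists_mem_ne_zero_of_ne_bot (p := K) fun hb => by
      rw [hb, finrank_bot] at hK; omega
    exact ⟨z, hz, hz0, h z hz⟩
  push Not at h
  obtain ⟨e, he, he0⟩ := h
  obtain ⟨p, hp, hp0, hpe⟩ := exists_orth_in hF K e hK
  by_cases hpp : Cfsg.hermForm n F q p p = 0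
  · exact ⟨p, hp, hp0, hpp⟩
  obtain ⟨a, ha⟩ := exists_norm' hF (-Cfsg.hermForm n F q e e / Cfsg.hermForm n F q p p) (by
    rw [div_pow, ← Herm.conj_apply hF (-_), map_neg, Herm.conj_apply, form_comm hF, form_comm hF])
  refine ⟨e + a • p, K.add_mem he (K.smul_mem _ hp), fun h0 => ?_, ?_⟩
  · have := congrArg (fun x => Cfsg.hermForm n F q x e) h0
    simp only [form_add_left, form_smul_left, hpe, mul_zero, add_zero, form_zero_left] at this
    exact he0 this
  · rw [form_add_left, form_add_right hF, form_add_right hF, form_smul_left, form_smul_left,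
      form_smul_right, form_smul_right, hpe, ← form_comm hF p e, hpe,
      zero_pow (by have := Herm.two_le hF; omega)]
    have h9 : a * a ^ q * Cfsg.hermForm n F q p p = -Cfsg.hermForm n F q e e := by
      rw [ha, div_mul_cancel₀ _ hpp]
    linear_combination h9

include hF in
theorem exists_value {K : Submodule F (Fin n → F)} (hK : 2 ≤ Module.finrank F K) {e : Fin n → F}
    (he : e ∈ K) (hee : Cfsg.hermForm n F q e e ≠ 0) (c : F) (hc : c ^ q = c) :
    ∃ z ∈ K, z ≠ 0 ∧ Cfsg.hermForm n F q z z = c := by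
  by_cases hc0 : c = 0
  · subst hc0; exact exists_iso hF K hK
  obtain ⟨a, ha⟩ := exists_norm' hF (c / Cfsg.hermForm n F q e e) (by rw [div_pow, hc, form_comm hF])
  have hv : Cfsg.hermForm n F q (a • e) (a • e) = c := by
    rw [form_smul_left, form_smul_right, ← mul_assoc, ha, div_mul_cancel₀ _ hee]
  exact ⟨a • e, K.smul_mem a he, fun h => hc0 (by rw [← hv, h, form_zero_left]), hv⟩

include hF in
/-- quasi-reflection -/
theorem exists_quasi {e : Fin n → F} (he : Cfsg.hermForm n F q e e ≠ 0) {ξ : F} (hξ : ξ * ξ ^ q = 1) :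
    ∃ d ∈ Cfsg.GU n F q, (d : Matrix (Fin n) (Fin n) F).det = ξ ∧
      ∀ x, Cfsg.hermForm n F q x e = 0 → (d : Matrix (Fin n) (Fin n) F) *ᵥ x = x := by
  obtain ⟨a, ha⟩ : ∃ a, a = (ξ - 1) / Cfsg.hermForm n F q e e := ⟨_, rfl⟩
  have hdet : (1 + a • Matrix.vecMulVec e (fun j => e j ^ q)).det = ξ := by
    rw [SUGen.det_upd, ha, div_mul_cancel₀ _ he]; ring
  refine ⟨Matrix.GeneralLinearGroup.mk'' (1 + a • Matrix.vecMulVec e (fun j => e j ^ q)) (by
    rw [hdet]; exact isUnit_iff_ne_zero.2 fun h => by rw [h, zero_mul] at hξ; exact zero_ne_one hξ), ?_, hdet,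
    fun x hx => ?_⟩
  · rw [mem_GU]
    intro x y
    show Cfsg.hermForm n F q ((1 + a • Matrix.vecMulVec e (fun j => e j ^ q)) *ᵥ x)
      ((1 + a • Matrix.vecMulVec e (fun j => e j ^ q)) *ᵥ y) = _
    rw [SUGen.upd_mulVec, SUGen.upd_mulVec, form_add_left, form_add_right hF, form_add_right hF,
      form_smul_left, form_smul_left, form_smul_right, form_smul_right, mul_pow, form_comm hF y e]
    have h1 : a + a ^ q + a * a ^ q * Cfsg.hermForm n F q e e = 0 := by
      rw [ha, div_pow, form_comm hF, ← Herm.conj_apply hF (ξ - 1), map_sub, map_one, Herm.conj_apply]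
      field_simp
      linear_combination hξ
    linear_combination (Cfsg.hermForm n F q x e * Cfsg.hermForm n F q e y) * h1
  · show (1 + a • Matrix.vecMulVec e (fun j => e j ^ q)) *ᵥ x = x
    rw [SUGen.upd_mulVec, hx, mul_zero, zero_smul, add_zero]

include hF in
theorem exists_gu (X : Submodule F (Fin n → F)) (φ : X →ₗ[F] (Fin n → F)) (hinj : Function.Injective φ)
    (hφ : ∀ x y : X, Cfsg.hermForm n F q (φ x) (φ y) = Cfsg.hermForm n F q (x : Fin n → F) y) :
    ∃ g ∈ Cfsg.GU n F q, ∀ x : X, (g : Matrix (Fin n) (Fin n) F) *ᵥ (x : Fin n → F) = φ x := by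
  have := Herm.conj_surjective hF
  obtain ⟨g, hg, hg'⟩ := Witt.witt_hermitian (Herm.hb n hF) (Herm.conj_conj hF)
    (Witt.exists_trace (Herm.conj hF) (Herm.conj_ne_id hF) (Herm.conj_conj hF)) (Herm.hb_symm hF)
    (Herm.hb_sepLeft hF) X φ hinj (fun a b => hφ b a)
  refine ⟨Matrix.GeneralLinearGroup.toLin.symm (LinearMap.GeneralLinearGroup.ofLinearEquiv g), ?_, fun x => ?_⟩
  · intro x y
    have := hg y x
    simp only [Herm.hb_apply] at this
    simpa [Matrix.GeneralLinearGroup.toLin, LinearMap.toMatrixAlgEquiv', LinearMap.toMatrix'_mulVec] using this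
  · simpa [Matrix.GeneralLinearGroup.toLin, LinearMap.toMatrixAlgEquiv', LinearMap.toMatrix'_mulVec] using hg' x

include hF in
/-- an element of SU extending a partial isometry -/
theorem exists_su (X : Submodule F (Fin n → F)) (φ : X →ₗ[F] (Fin n → F)) (hinj : Function.Injective φ)
    (hφ : ∀ x y : X, Cfsg.hermForm n F q (φ x) (φ y) = Cfsg.hermForm n F q (x : Fin n → F) y)
    {e : Fin n → F} (he : Cfsg.hermForm n F q e e ≠ 0) (heX : ∀ x, Cfsg.hermForm n F q (φ x) e = 0) :
    ∃ g ∈ Cfsg.GU n F q ⊓ Cfsg.Geo.specialLinear (Fin n) F,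
      ∀ x : X, (g : Matrix (Fin n) (Fin n) F) *ᵥ (x : Fin n → F) = φ x := by
  obtain ⟨g, hg, hgx⟩ := exists_gu hF X φ hinj hφ
  have hN := Unitary.det_norm hF (mem_GU.1 hg)
  obtain ⟨d, hd, hdd, hdx⟩ := exists_quasi hF he (ξ := ((g : Matrix (Fin n) (Fin n) F).det)⁻¹) (by
    rw [inv_pow, ← mul_inv, hN, inv_one])
  refine ⟨d * g, ⟨mul_mem hd hg, ?_⟩, fun x => ?_⟩
  · refine Units.ext ?_
    show ((d * g : GL (Fin n) F) : Matrix (Fin n) (Fin n) F).det = 1
    rw [Units.val_mul, Matrix.det_mul, hdd, inv_mul_cancel₀ fun h => by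
      rw [h, zero_mul] at hN; exact zero_ne_one hN]
  · rw [Units.val_mul, ← Matrix.mulVec_mulVec, hgx, hdx _ (heX x)]

theorem map_eq_of_le {g : GL (Fin n) F} {W : Submodule F (Fin n → F)}
    (h : ∀ w ∈ W, (g : Matrix (Fin n) (Fin n) F) *ᵥ w ∈ W) (v : Fin n → F) :
    v ∈ W ↔ (g : Matrix (Fin n) (Fin n) F) *ᵥ v ∈ W := by
  refine ⟨h v, fun hv => ?_⟩
  let G := Matrix.toLin' (g : Matrix (Fin n) (Fin n) F)
  have hGinj : Function.Injective G := fun v w hvw => by
    have := congrArg (fun z => ((g⁻¹ : GL (Fin n) F) : Matrix (Fin n) (Fin n) F) *ᵥ z) hvw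
    simpa [G, Matrix.mulVec_mulVec, ← Units.val_mul] using this
  have heq : W.map G = W := Submodule.eq_of_le_of_finrank_le
    (by rintro _ ⟨w, hw, rfl⟩; simpa [G] using h w hw)
    (le_of_eq (Submodule.equivMapOfInjective G hGinj W).finrank_eq)
  rw [← heq] at hv
  obtain ⟨w, hw, hwv⟩ := hv
  have : w = v := hGinj (by rw [hwv, Matrix.toLin'_apply])
  exact this ▸ hw

theorem mem_stab {g : GL (Fin n) F} {W : Submodule F (Fin n → F)}
    (h : ∀ w ∈ W, (g : Matrix (Fin n) (Fin n) F) *ᵥ w ∈ W) : g ∈ Cfsg.Geo.subspaceStabilizer W :=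
  map_eq_of_le h

include hF in
/-- preservation of the orthogonal complement gives preservation of the space -/
theorem stab_of_perp {g : GL (Fin n) F} (hg : g ∈ Cfsg.GU n F q) {W : Submodule F (Fin n → F)}
    (h : ∀ a ∈ perp hF W, (g : Matrix (Fin n) (Fin n) F) *ᵥ a ∈ perp hF W) :
    g ∈ Cfsg.Geo.subspaceStabilizer W := by
  refine mem_stab fun w hw => mem_of_perp_perp hF fun y hy => ?_
  obtain ⟨y', rfl⟩ : ∃ y', (g : Matrix (Fin n) (Fin n) F) *ᵥ y' = y := ⟨_, FormMaxSL.mulVec_inv_mulVec g y⟩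
  rw [mem_GU.1 hg]
  exact mem_perp' hF ((map_eq_of_le h y').2 hy) hw

include hF in
theorem tu_mem_H {W : Submodule F (Fin n → F)} {a : Fin n → F} (ha0 : Cfsg.hermForm n F q a a = 0)
    (h : a ∈ W ∨ a ∈ perp hF W) {c : F} (hc : Tz q c) :
    tu q a c ∈ Cfsg.Geo.subspaceStabilizer W ⊓ (Cfsg.GU n F q ⊓ Cfsg.Geo.specialLinear (Fin n) F) := by
  refine ⟨mem_stab fun w hw => ?_, SUGen.T_le hF (tu_mem_T ha0 hc)⟩
  rw [tu_mulVec ha0]
  rcases h with ha | ha
  · exact W.add_mem hw (W.smul_mem _ ha)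
  · rw [mem_perp' hF ha hw, mul_zero, zero_smul, add_zero]; exact hw

include hF in
theorem isotropic_maximal (hn : 13 ≤ n) (W : Submodule F (Fin n → F)) (hW0 : W ≠ ⊥)
    (hW : ∀ u ∈ W, ∀ v ∈ W, Cfsg.hermForm n F q u v = 0) :
    Cfsg.Geo.IsMaximalIn (Cfsg.GU n F q ⊓ Cfsg.Geo.specialLinear (Fin n) F)
      (Cfsg.Geo.subspaceStabilizer W ⊓ (Cfsg.GU n F q ⊓ Cfsg.Geo.specialLinear (Fin n) F)) := by
  have hq0 : q ≠ 0 := by have := Herm.two_le hF; omega
  have hq : (-1 : F) ^ q = -1 := by rw [← Herm.conj_apply hF, map_neg, map_one]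
  obtain ⟨w0, hw0, hw00⟩ := Submodule.exists_mem_ne_zero_of_ne_bot hW0
  have hWp : W ≤ perp hF W := fun x hx => (mem_perp hF).2 fun w hw => hW x hx w hw
  obtain ⟨δ₀, hδ₀, hδ₀0⟩ := SUGen.exists_tz hF
  refine ⟨lt_of_le_of_ne inf_le_right fun heq => ?_, fun M hHM hMS => ?_⟩
  · obtain ⟨y, hy⟩ : ∃ y, Cfsg.hermForm n F q w0 y ≠ 0 := by
      by_contra h
      push Not at h
      exact hw00 (SUFull.eq_zero_of_orth hF fun x => form_eq_zero_symm hF (h x))
    obtain ⟨t, ht⟩ := adjust hF (hW w0 hw0 w0 hw0) hy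
    have hw : Cfsg.hermForm n F q w0 (y + t • w0) ≠ 0 := by
      rwa [form_add_right hF, form_smul_right, hW w0 hw0 w0 hw0, mul_zero, add_zero]
    have hs := ((le_of_eq heq.symm) (SUGen.T_le hF (tu_mem_T ht hδ₀))).1
    have h9 : w0 ∈ W ↔ (tu q (y + t • w0) δ₀ : Matrix (Fin n) (Fin n) F) *ᵥ w0 ∈ W := hs w0
    have h1 := h9.1 hw0
    rw [tu_mulVec ht, Submodule.add_mem_iff_right _ hw0, Submodule.smul_mem_iff _ (mul_ne_zero hδ₀0 hw)] at h1
    exact hw (hW w0 hw0 _ h1)
  by_cases hMH : M ≤ Cfsg.Geo.subspaceStabilizer W ⊓ (Cfsg.GU n F q ⊓ Cfsg.Geo.specialLinear (Fin n) F)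
  · exact Or.inl (le_antisymm hMH hHM)
  right
  refine le_antisymm hMS (SUFull.le_of_full hF (by omega) (by omega) ?_)
  obtain ⟨g, hgM, hgH⟩ := SetLike.not_le_iff_exists.1 hMH
  have hgS := hMS hgM
  have hPfull : ∀ a ∈ perp hF W, Cfsg.hermForm n F q a a = 0 → a ∈ Full q M :=
    fun a ha ha0 => ⟨ha0, fun c hc => hHM (tu_mem_H hF ha0 (Or.inr ha) hc)⟩
  have hWfull : ∀ w ∈ W, w ∈ Full q M := fun w hw => hPfull w (hWp hw) (hW w hw w hw)
  -- a full vector outside the orthogonal complement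
  obtain ⟨u₀, hu₀, hu₀W⟩ : ∃ u ∈ Full q M, u ∉ perp hF W := by
    by_contra hcon
    push Not at hcon
    let S : Submodule F (Fin n → F) :=
      Submodule.span F {a | a ∈ perp hF W ∧ Cfsg.hermForm n F q a a = 0}
    have hSp : S ≤ perp hF W := Submodule.span_le.2 fun a ha => ha.1
    have hgS' : ∀ s ∈ S, (g : Matrix (Fin n) (Fin n) F) *ᵥ s ∈ S := by
      intro s hs
      have hle : S ≤ S.comap (Matrix.toLin' (g : Matrix (Fin n) (Fin n) F)) :=
        Submodule.span_le.2 fun a ha => by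
          have h1 := SUFull.full_map hgM hgS.1 (hPfull a ha.1 ha.2)
          show Matrix.toLin' (g : Matrix (Fin n) (Fin n) F) a ∈ S
          rw [Matrix.toLin'_apply]
          exact Submodule.subset_span ⟨hcon _ h1, h1.1⟩
      have h9 := hle hs
      rwa [Submodule.mem_comap, Matrix.toLin'_apply] at h9
    have hchar : ∀ x, (x ∈ S ∧ ∀ s ∈ S, Cfsg.hermForm n F q x s = 0) → x ∈ W := by
      rintro x ⟨hx, hxS⟩
      refine mem_of_perp_perp hF fun y hy => ?_
      by_contra hxy
      obtain ⟨t, ht⟩ := adjust hF (hxS x hx) hxy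
      have h1 := hxS _ (Submodule.subset_span
        (show y + t • x ∈ {a | a ∈ perp hF W ∧ Cfsg.hermForm n F q a a = 0} from
          ⟨(perp hF W).add_mem hy ((perp hF W).smul_mem _ (hSp hx)), ht⟩))
      rw [form_add_right hF, form_smul_right, hxS x hx, mul_zero, add_zero] at h1
      exact hxy h1
    refine hgH ⟨mem_stab fun w hw => hchar _ ⟨hgS' w (Submodule.subset_span ⟨hWp hw, hW w hw w hw⟩), fun s hs => ?_⟩, hgS⟩
    obtain ⟨s', rfl⟩ : ∃ s', (g : Matrix (Fin n) (Fin n) F) *ᵥ s' = s := ⟨_, FormMaxSL.mulVec_inv_mulVec g s⟩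
    rw [mem_GU.1 hgS.1]
    exact mem_perp' hF (hSp ((map_eq_of_le hgS' s').2 hs)) hw
  -- moves
  have step : ∀ {u x y : Fin n → F}, u ∈ Full q M → x ∈ W → Cfsg.hermForm n F q u x = 1 →
      Cfsg.hermForm n F q y y = 0 → Cfsg.hermForm n F q y x = 0 → ∃ e : F, u + y + e • x ∈ Full q M := by
    intro u x y hu hx hux hy hyx
    have hxx := hW x hx x hx
    have hxy := form_eq_zero_symm hF hyx
    have hS : EE hF hxx hy hxy (-1) ∈ Cfsg.GU n F q ⊓ Cfsg.Geo.specialLinear (Fin n) F :=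
      SUGen.T_le hF (EE_mem hF hxx hy hxy _)
    have hH : EE hF hxx hy hxy (-1) ∈ Cfsg.Geo.subspaceStabilizer W ⊓
        (Cfsg.GU n F q ⊓ Cfsg.Geo.specialLinear (Fin n) F) := by
      refine ⟨mem_stab fun w hw => ?_, hS⟩
      rw [EE_mulVec hF hxx hy hxy, hW w hw x hx, mul_zero, zero_smul, sub_zero]
      exact W.add_mem hw (W.smul_mem _ hx)
    have h1 := SUFull.full_map (hHM hH) hS.1 hu
    rw [EE_mulVec hF hxx hy hxy, hux, hq] at h1
    refine ⟨-Cfsg.hermForm n F q u y, ?_⟩
    convert h1 using 1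
    module
  have modW : ∀ {u x w : Fin n → F}, u ∈ Full q M → x ∈ W → Cfsg.hermForm n F q u x = 1 → w ∈ W →
      Cfsg.hermForm n F q (u + w) (u + w) = 0 → u + w ∈ Full q M := by
    intro u x w hu hx hux hw huw
    rw [form_add_left, form_add_right hF, form_add_right hF, hu.1, hW w hw w hw, ← form_comm hF u w] at huw
    by_cases h0 : Cfsg.hermForm n F q u w = 0
    · obtain ⟨w', hw'⟩ : ∃ w', w' = (δ₀ ^ q) • x := ⟨_, rfl⟩
      have hwW : w' ∈ W := hw' ▸ W.smul_mem _ hx
      have huw' : Cfsg.hermForm n F q u w' = δ₀ := by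
        rw [hw', form_smul_right, hux, mul_one, Herm.pow_pow_q hF]
      have h1 := SUFull.full_move hF hu (hWfull w' hwW) (SUGen.tz_inv hF hδ₀ hδ₀0)
      rw [huw', inv_mul_cancel₀ hδ₀0, one_smul] at h1
      have hne : Cfsg.hermForm n F q (u + w') (w - w') = -δ₀ := by
        rw [form_add_left, form_sub_right hF, h0, huw', hW w' hwW _ (W.sub_mem hw hwW)]; ring
      have h2 := SUFull.full_move hF h1 (hWfull _ (W.sub_mem hw hwW))
        (SUGen.tz_neg hF (SUGen.tz_inv hF hδ₀ hδ₀0))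
      rw [hne, neg_mul_neg, inv_mul_cancel₀ hδ₀0, one_smul] at h2
      convert h2 using 1
      abel
    · have hδ : Tz q (Cfsg.hermForm n F q u w) := by unfold SUGen.Tz; linear_combination huw
      have h1 := SUFull.full_move hF hu (hWfull w hw) (SUGen.tz_inv hF hδ h0)
      rwa [inv_mul_cancel₀ h0, one_smul] at h1
  have conn : ∀ {u v x : Fin n → F}, u ∈ Full q M → Cfsg.hermForm n F q v v = 0 → x ∈ W →
      Cfsg.hermForm n F q u x = 1 → Cfsg.hermForm n F q v x = 1 → v - u ∉ perp hF W → v ∈ Full q M := by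
    intro u v x hu hv hx hux hvx hD
    rw [mem_perp hF] at hD
    push Not at hD
    obtain ⟨w, hw, hDw⟩ := hD
    obtain ⟨t, ht⟩ := adjust hF (hW w hw w hw) (fun h => hDw (form_eq_zero_symm hF h))
    obtain ⟨e, he⟩ := step hu hx hux ht (by
      rw [form_add_left, form_sub_left, hvx, hux, form_smul_left, hW w hw x hx]; ring)
    have hin : -(t • w + e • x) ∈ W := W.neg_mem (W.add_mem (W.smul_mem _ hw) (W.smul_mem _ hx))
    have hkey : u + (v - u + t • w) + e • x + -(t • w + e • x) = v := by module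
    have h1x : Cfsg.hermForm n F q (u + (v - u + t • w) + e • x) x = 1 := by
      simp only [form_add_left, form_sub_left, form_smul_left, hW w hw x hx, hW x hx x hx, hux, hvx]; ring
    have := modW he hx h1x hin (by rw [hkey]; exact hv)
    rwa [hkey] at this
  intro v hv
  by_cases hvW : v ∈ perp hF W
  · exact hPfull v hvW hv
  obtain ⟨x, hx, hux, hvx⟩ : ∃ x ∈ W, Cfsg.hermForm n F q u₀ x ≠ 0 ∧ Cfsg.hermForm n F q v x ≠ 0 := by
    rw [mem_perp hF] at hu₀W hvW
    push Not at hu₀W hvW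
    obtain ⟨a, ha, hua⟩ := hu₀W
    obtain ⟨b, hb, hvb⟩ := hvW
    by_cases h1 : Cfsg.hermForm n F q v a = 0
    · by_cases h2 : Cfsg.hermForm n F q u₀ b = 0
      · exact ⟨a + b, W.add_mem ha hb, by rw [form_add_right hF, h2, add_zero]; exact hua,
          by rw [form_add_right hF, h1, zero_add]; exact hvb⟩
      · exact ⟨b, hb, h2, hvb⟩
    · exact ⟨a, ha, hua, h1⟩
  obtain ⟨u, hu⟩ : ∃ u, u = (Cfsg.hermForm n F q u₀ x)⁻¹ • u₀ := ⟨_, rfl⟩
  obtain ⟨v', hv'⟩ : ∃ v', v' = (Cfsg.hermForm n F q v x)⁻¹ • v := ⟨_, rfl⟩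
  have huF : u ∈ Full q M := hu ▸ SUFull.full_smul hF hu₀ _
  have hux1 : Cfsg.hermForm n F q u x = 1 := by rw [hu, form_smul_left, inv_mul_cancel₀ hux]
  have hvx1 : Cfsg.hermForm n F q v' x = 1 := by rw [hv', form_smul_left, inv_mul_cancel₀ hvx]
  have hv'0 : Cfsg.hermForm n F q v' v' = 0 := by
    rw [hv', form_smul_left, form_smul_right, hv, mul_zero, mul_zero]
  suffices h : v' ∈ Full q M by
    have := SUFull.full_smul hF h (Cfsg.hermForm n F q v x)
    rwa [hv', smul_smul, mul_inv_cancel₀ hvx, one_smul] at this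
  by_cases hD : v' - u ∈ perp hF W
  swap
  · exact conn huF hv'0 hx hux1 hvx1 hD
  by_cases hk : ∃ w1 ∈ W, w1 ∉ F ∙ x
  · obtain ⟨w1, hw1, hw1x⟩ := hk
    obtain ⟨φ, hφ1, hφ⟩ := Witt.exists_dual hw1x
    obtain ⟨d, hd⟩ := SUFull.exists_rep hF φ
    have hdx : Cfsg.hermForm n F q d x = 0 :=
      form_eq_zero_symm hF (by rw [hd]; exact hφ x (Submodule.mem_span_singleton_self x))
    have hdw : Cfsg.hermForm n F q d w1 = 1 := by rw [← form_comm hF w1 d, hd, hφ1, one_pow]
    have hxz : Cfsg.hermForm n F q x (u + d) ≠ 0 := by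
      rw [← form_comm hF (u + d) x, form_add_left, hux1, hdx, add_zero, one_pow]; exact one_ne_zero
    obtain ⟨t, ht⟩ := adjust hF (hW x hx x hx) hxz
    have hzx : Cfsg.hermForm n F q (u + d + t • x) x = 1 := by
      simp only [form_add_left, form_smul_left, hux1, hdx, hW x hx x hx]; ring
    have hz1 : u + d + t • x - u ∉ perp hF W := fun h => one_ne_zero (α := F) (by
      have h9 := (mem_perp hF).1 h w1 hw1
      simp only [form_sub_left, form_add_left, form_smul_left, hdw, hW x hx w1 hw1] at h9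
      linear_combination h9)
    have hzF := conn huF ht hx hux1 hzx hz1
    refine conn hzF hv'0 hx hzx hvx1 fun h => one_ne_zero (α := F) ?_
    have h1 := (mem_perp hF).1 h w1 hw1
    have h2 := (mem_perp hF).1 hD w1 hw1
    simp only [form_sub_left, form_add_left, form_smul_left, hdw, hW x hx w1 hw1] at h1 h2
    linear_combination h2 - h1
  · push Not at hk
    by_cases hDW : v' - u ∈ W
    · have := modW huF hx hux1 hDW (by rwa [add_sub_cancel])
      rwa [add_sub_cancel] at this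
    obtain ⟨b, hb, hba⟩ : ∃ b ∈ perp hF W, Cfsg.hermForm n F q b (v' - u) ≠ 0 := by
      by_contra h
      push Not at h
      exact hDW (mem_of_perp_perp hF fun y hy => form_eq_zero_symm hF (h y hy))
    have hW1 : Module.finrank F W ≤ 1 := by
      have := Submodule.finrank_mono (show W ≤ F ∙ x from hk)
      have : Module.finrank F (F ∙ x) ≤ 1 := by
        simpa using finrank_span_le_card ({x} : Set (Fin n → F)) (R := F)
      omega
    obtain ⟨r, hr, hr0, hrr⟩ := exists_iso hF (perp hF (W ⊔ F ∙ u)) (by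
      have h1 := finrank_perp hF (W ⊔ F ∙ u)
      have h2 := Submodule.finrank_sup_add_finrank_inf_eq W (F ∙ u)
      have h3 : Module.finrank F (F ∙ u) ≤ 1 := by
        simpa using finrank_span_le_card ({u} : Set (Fin n → F)) (R := F)
      omega)
    obtain ⟨hrW, hru⟩ := mem_perp_sup_span hF hr
    obtain ⟨r', hr', hrr'⟩ : ∃ r' ∈ perp hF W, Cfsg.hermForm n F q r' r ≠ 0 := by
      by_contra h
      push Not at h
      obtain ⟨s, hs⟩ := Submodule.mem_span_singleton.1
        (hk r (mem_of_perp_perp hF fun y hy => form_eq_zero_symm hF (h y hy)))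
      rw [← hs, form_smul_left, ← form_comm hF u x, hux1, one_pow, mul_one] at hru
      exact hr0 (by rw [← hs, hru, zero_smul])
    obtain ⟨z, hz, hzz, hza⟩ : ∃ z ∈ perp hF W, Cfsg.hermForm n F q z z = 0 ∧
        Cfsg.hermForm n F q z (v' - u) ≠ 0 := by
      by_cases hra : Cfsg.hermForm n F q r (v' - u) = 0
      swap
      · exact ⟨r, hrW, hrr, hra⟩
      have key : ∀ b' ∈ perp hF W, Cfsg.hermForm n F q b' r ≠ 0 → Cfsg.hermForm n F q b' (v' - u) ≠ 0 →
          ∃ z ∈ perp hF W, Cfsg.hermForm n F q z z = 0 ∧ Cfsg.hermForm n F q z (v' - u) ≠ 0 := by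
        intro b' hb' h1 h2
        obtain ⟨t, ht⟩ := adjust hF hrr (fun h => h1 (form_eq_zero_symm hF h))
        exact ⟨b' + t • r, (perp hF W).add_mem hb' ((perp hF W).smul_mem _ hrW), ht,
          by rwa [form_add_left, form_smul_left, hra, mul_zero, add_zero]⟩
      by_cases hbr : Cfsg.hermForm n F q b r = 0
      swap
      · exact key b hb hbr hba
      by_cases hr'a : Cfsg.hermForm n F q r' (v' - u) = 0
      swap
      · exact key r' hr' hrr' hr'a
      exact key (b + r') ((perp hF W).add_mem hb hr') (by rwa [form_add_left, hbr, zero_add])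
        (by rwa [form_add_left, hr'a, add_zero])
    obtain ⟨t, ht⟩ := adjust hF hzz hza
    have hy1 : Cfsg.hermForm n F q ((-t) • z) ((-t) • z) = 0 := by
      rw [form_smul_left, form_smul_right, hzz, mul_zero, mul_zero]
    obtain ⟨e1, he1⟩ := step huF hx hux1 hy1 (by rw [form_smul_left, (mem_perp hF).1 hz x hx, mul_zero])
    have h1x : Cfsg.hermForm n F q (u + (-t) • z + e1 • x) x = 1 := by
      simp only [form_add_left, form_smul_left, hW x hx x hx, (mem_perp hF).1 hz x hx, hux1]; ring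
    obtain ⟨e2, he2⟩ := step he1 hx h1x ht
      ((mem_perp hF).1 ((perp hF W).add_mem hD ((perp hF W).smul_mem _ hz)) x hx)
    have hkey : u + (-t) • z + e1 • x + (v' - u + t • z) + e2 • x + (-(e1 + e2)) • x = v' := by module
    have h2x : Cfsg.hermForm n F q (u + (-t) • z + e1 • x + (v' - u + t • z) + e2 • x) x = 1 := by
      simp only [form_add_left, form_sub_left, form_smul_left, hW x hx x hx, (mem_perp hF).1 hz x hx, hux1, hvx1]
      ring
    have := modW he2 hx h2x (W.smul_mem (-(e1 + e2)) hx) (by rw [hkey]; exact hv'0)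
    rwa [hkey] at this

end CfsgLib.Lie.SUStab
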