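import Cfsg.Agent.Lie.SUStab

/-!
Stabilisers of non-degenerate subspaces are maximal in SU.
-/

set_option autoImplicit false
set_option linter.unusedSimpArgs false
set_option linter.unusedSectionVars false

namespace CfsgLib.Lie.SUStab

open Matrix
open CfsgLib.Lie.Herm (form_add_left form_add_right form_smul_left form_smul_right form_comm form_single mem_GU)
open CfsgLib.Lie.SUGen (tu tu_mulVec tu_mem_T tu_smul tu_mul tu_zero conj_tu Tz form_sub_left form_sub_right)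
open CfsgLib.Lie.SUFull (Full form_eq_zero_symm form_zero_left)

variable {F : Type*} [Field F] [Fintype F] {q n : ℕ} (hF : Fintype.card F = q ^ 2)

/-- orthogonal pieces multiply out -/
theorem form_pieces {W : Submodule F (Fin n → F)} {a a' b b' : Fin n → F} (ha : a ∈ W) (ha' : a' ∈ W)
    (hb : b ∈ perp hF W) (hb' : b' ∈ perp hF W) :
    Cfsg.hermForm n F q (a + b) (a' + b') = Cfsg.hermForm n F q a a' + Cfsg.hermForm n F q b b' := by
  rw [form_add_left, form_add_right hF, form_add_right hF, mem_perp' hF hb' ha, (mem_perp hF).1 hb a' ha']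
  ring

theorem transit {W : Submodule F (Fin n → F)} (hW : ∀ x ∈ W, x ∈ perp hF W → x = 0)
    (hc : IsCompl W (perp hF W)) (hd : Module.finrank F W + 3 ≤ n) {a a' b b' : Fin n → F}
    (ha : a ∈ W) (ha' : a' ∈ W) (hb : b ∈ perp hF W) (hb' : b' ∈ perp hF W) (ha0 : a ≠ 0)
    (ha'0 : a' ≠ 0) (hb0 : b ≠ 0) (hb'0 : b' ≠ 0)
    (hla : Cfsg.hermForm n F q a' a' = Cfsg.hermForm n F q a a)
    (hlb : Cfsg.hermForm n F q b' b' = Cfsg.hermForm n F q b b) :
    ∃ h ∈ Cfsg.Geo.subspaceStabilizer W ⊓ (Cfsg.GU n F q ⊓ Cfsg.Geo.specialLinear (Fin n) F),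
      (h : Matrix (Fin n) (Fin n) F) *ᵥ (a + b) = a' + b' := by
  have hap : a ∉ perp hF W := fun h => ha0 (hW a ha h)
  have ha'p : a' ∉ perp hF W := fun h => ha'0 (hW a' ha' h)
  have hbW : b ∉ W := fun h => hb0 (hW b h hb)
  have hb'W : b' ∉ W := fun h => hb'0 (hW b' h hb')
  let P : (Fin n → F) →ₗ[F] (Fin n → F) :=
    (perp hF W).subtype ∘ₗ Submodule.linearProjOfIsCompl (perp hF W) W hc.symm
  let Q : (Fin n → F) →ₗ[F] (Fin n → F) :=
    W.subtype ∘ₗ Submodule.linearProjOfIsCompl W (perp hF W) hc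
  have hPp : ∀ p ∈ perp hF W, P p = p := fun p hp =>
    congrArg Subtype.val (Submodule.linearProjOfIsCompl_apply_left hc.symm ⟨p, hp⟩)
  have hPW : ∀ w ∈ W, P w = 0 := fun w hw =>
    congrArg Subtype.val (Submodule.linearProjOfIsCompl_apply_right hc.symm ⟨w, hw⟩)
  have hQW : ∀ w ∈ W, Q w = w := fun w hw =>
    congrArg Subtype.val (Submodule.linearProjOfIsCompl_apply_left hc ⟨w, hw⟩)
  have hQp : ∀ p ∈ perp hF W, Q p = 0 := fun p hp =>
    congrArg Subtype.val (Submodule.linearProjOfIsCompl_apply_right hc ⟨p, hp⟩)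
  obtain ⟨ψ, hψa, hψ⟩ := Witt.exists_dual hap
  obtain ⟨χ, hχb, hχ⟩ := Witt.exists_dual hbW
  -- first map
  let φ₁ : (perp hF W ⊔ F ∙ a : Submodule F (Fin n → F)) →ₗ[F] (Fin n → F) :=
    (P + ψ.smulRight a') ∘ₗ Submodule.subtype _
  have hφ₁ : ∀ x : (perp hF W ⊔ F ∙ a : Submodule F (Fin n → F)), ∃ p ∈ perp hF W, ∃ s : F,
      (x : Fin n → F) = s • a + p ∧ φ₁ x = s • a' + p := by
    rintro ⟨x, hx⟩
    obtain ⟨p, hp, z, hz, rfl⟩ := Submodule.mem_sup.1 hx
    obtain ⟨s, rfl⟩ := Submodule.mem_span_singleton.1 hz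
    refine ⟨p, hp, s, add_comm _ _, ?_⟩
    show P (p + s • a) + ψ (p + s • a) • a' = _
    rw [map_add, map_smul, hPp p hp, hPW a ha, map_add, map_smul, hψ p hp, hψa]
    simp [add_comm]
  have hinj₁ : Function.Injective φ₁ := by
    rw [← LinearMap.ker_eq_bot, Submodule.eq_bot_iff]
    intro x hx
    obtain ⟨p, hp, s, hxe, hφe⟩ := hφ₁ x
    rw [LinearMap.mem_ker, hφe] at hx
    have hs : s = 0 := by
      by_contra hs
      apply ha'p
      rw [← Submodule.smul_mem_iff _ hs, eq_neg_of_add_eq_zero_left hx]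
      exact neg_mem hp
    rw [hs, zero_smul, zero_add] at hx
    exact Subtype.ext (by rw [hxe, hs, hx]; simp)
  obtain ⟨t, htU, htx⟩ := exists_gu hF _ φ₁ hinj₁ fun x y => by
    obtain ⟨p, hp, s, hxe, hφe⟩ := hφ₁ x
    obtain ⟨p', hp', s', hye, hφe'⟩ := hφ₁ y
    rw [hxe, hye, hφe, hφe', form_pieces hF (W.smul_mem _ ha') (W.smul_mem _ ha') hp hp',
      form_pieces hF (W.smul_mem _ ha) (W.smul_mem _ ha) hp hp', form_smul_left, form_smul_left,
      form_smul_right, form_smul_right, hla]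
  have htp : ∀ p ∈ perp hF W, (t : Matrix (Fin n) (Fin n) F) *ᵥ p = p := fun p hp => by
    have h9 := htx ⟨p, Submodule.mem_sup_left hp⟩
    refine h9.trans ?_
    show P p + ψ p • a' = p
    rw [hPp p hp, hψ p hp, zero_smul, add_zero]
  have hta : (t : Matrix (Fin n) (Fin n) F) *ᵥ a = a' := by
    have h9 := htx ⟨a, Submodule.mem_sup_right (Submodule.mem_span_singleton_self a)⟩
    refine h9.trans ?_
    show P a + ψ a • a' = a'
    rw [hPW a ha, hψa, one_smul, zero_add]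
  have htW : ∀ w, w ∈ W → (t : Matrix (Fin n) (Fin n) F) *ᵥ w ∈ W := fun w hw =>
    ((stab_of_perp hF htU fun p hp => by rw [htp p hp]; exact hp) w).1 hw
  -- second map
  let φ₂ : (W ⊔ F ∙ b : Submodule F (Fin n → F)) →ₗ[F] (Fin n → F) :=
    ((Matrix.toLin' (t : Matrix (Fin n) (Fin n) F)) ∘ₗ Q + χ.smulRight b') ∘ₗ Submodule.subtype _
  have hφ₂ : ∀ x : (W ⊔ F ∙ b : Submodule F (Fin n → F)), ∃ w ∈ W, ∃ s : F,
      (x : Fin n → F) = w + s • b ∧ φ₂ x = (t : Matrix (Fin n) (Fin n) F) *ᵥ w + s • b' := by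
    rintro ⟨x, hx⟩
    obtain ⟨w, hw, z, hz, rfl⟩ := Submodule.mem_sup.1 hx
    obtain ⟨s, rfl⟩ := Submodule.mem_span_singleton.1 hz
    refine ⟨w, hw, s, rfl, ?_⟩
    show Matrix.toLin' (t : Matrix (Fin n) (Fin n) F) (Q (w + s • b)) + χ (w + s • b) • b' = _
    rw [Matrix.toLin'_apply, map_add, map_smul, hQW w hw, hQp b hb, map_add, map_smul, hχ w hw, hχb]
    simp
  have hinj₂ : Function.Injective φ₂ := by
    rw [← LinearMap.ker_eq_bot, Submodule.eq_bot_iff]
    intro x hx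
    obtain ⟨w, hw, s, hxe, hφe⟩ := hφ₂ x
    rw [LinearMap.mem_ker, hφe] at hx
    have hs : s = 0 := by
      by_contra hs
      apply hb'W
      rw [← Submodule.smul_mem_iff _ hs, eq_neg_of_add_eq_zero_right hx]
      exact neg_mem (htW w hw)
    rw [hs, zero_smul, add_zero] at hx
    have hw0 : w = 0 := by rw [← FormMaxSL.inv_mulVec_mulVec t w, hx, Matrix.mulVec_zero]
    exact Subtype.ext (by rw [hxe, hs, hw0]; simp)
  obtain ⟨e, he, hee⟩ := exists_aniso_perp hF hW (perp hF (W ⊔ F ∙ b'))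
    (fun x hx => (mem_perp_sup_span hF hx).1) (by
      have h1 := finrank_perp hF (W ⊔ F ∙ b')
      have h2 := Submodule.finrank_sup_add_finrank_inf_eq W (F ∙ b')
      have h3 : Module.finrank F (F ∙ b') ≤ 1 := by
        simpa using finrank_span_le_card ({b'} : Set (Fin n → F)) (R := F)
      omega)
  obtain ⟨h, hhS, hhx⟩ := exists_su hF _ φ₂ hinj₂ (fun x y => by
    obtain ⟨w, hw, s, hxe, hφe⟩ := hφ₂ x
    obtain ⟨w', hw', s', hye, hφe'⟩ := hφ₂ y
    rw [hxe, hye, hφe, hφe', form_pieces hF (htW w hw) (htW w' hw') ((perp hF W).smul_mem _ hb')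
      ((perp hF W).smul_mem _ hb'), form_pieces hF hw hw' ((perp hF W).smul_mem _ hb)
      ((perp hF W).smul_mem _ hb), mem_GU.1 htU, form_smul_left, form_smul_left, form_smul_right,
      form_smul_right, hlb]) hee (fun x => by
    obtain ⟨w, hw, s, hxe, hφe⟩ := hφ₂ x
    obtain ⟨heW, heb⟩ := mem_perp_sup_span hF he
    rw [hφe, form_add_left, form_smul_left, mem_perp' hF heW (htW w hw), form_eq_zero_symm hF heb]
    ring)
  refine ⟨h, ⟨mem_stab fun w hw => ?_, hhS⟩, ?_⟩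
  · rw [hhx ⟨w, Submodule.mem_sup_left hw⟩]
    show Matrix.toLin' (t : Matrix (Fin n) (Fin n) F) (Q w) + χ w • b' ∈ W
    rw [hQW w hw, hχ w hw, zero_smul, add_zero, Matrix.toLin'_apply]
    exact htW w hw
  · rw [hhx ⟨a + b, Submodule.add_mem_sup ha (Submodule.mem_span_singleton_self b)⟩]
    show Matrix.toLin' (t : Matrix (Fin n) (Fin n) F) (Q (a + b)) + χ (a + b) • b' = a' + b'
    rw [map_add Q, hQW a ha, hQp b hb, map_add χ, hχ a ha, hχb, add_zero, zero_add, one_smul,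
      Matrix.toLin'_apply, hta]

include hF in
theorem nondeg_maximal (hn : 13 ≤ n) (W : Submodule F (Fin n → F)) (hW0 : W ≠ ⊥)
    (hWn : ∀ w ∈ W, w ≠ 0 → ∃ x ∈ W, Cfsg.hermForm n F q x w ≠ 0) (hdim : 2 * Module.finrank F W < n) :
    Cfsg.Geo.IsMaximalIn (Cfsg.GU n F q ⊓ Cfsg.Geo.specialLinear (Fin n) F)
      (Cfsg.Geo.subspaceStabilizer W ⊓ (Cfsg.GU n F q ⊓ Cfsg.Geo.specialLinear (Fin n) F)) := by
  have hq0 : q ≠ 0 := by have := Herm.two_le hF; omega
  have hfix : ∀ x : Fin n → F, Cfsg.hermForm n F q x x ^ q = Cfsg.hermForm n F q x x := fun x => form_comm hF x x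
  have hneg : ∀ x : F, (-x) ^ q = -(x ^ q) := fun x => by
    rw [← Herm.conj_apply hF, map_neg, Herm.conj_apply]
  have hW : ∀ x ∈ W, x ∈ perp hF W → x = 0 := by
    intro x hx hxp
    by_contra h0
    obtain ⟨y, hy, hyx⟩ := hWn x hx h0
    exact hyx (mem_perp' hF hxp hy)
  have hrk := finrank_perp hF W
  have hinf : W ⊓ perp hF W = ⊥ := (Submodule.eq_bot_iff _).2 fun x hx => hW x hx.1 hx.2
  have hc : IsCompl W (perp hF W) := by
    refine IsCompl.of_eq hinf (Submodule.eq_top_of_finrank_eq ?_)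
    have h2 := Submodule.finrank_sup_add_finrank_inf_eq W (perp hF W)
    rw [hinf, finrank_bot] at h2
    rw [Module.finrank_fin_fun]
    omega
  have hdec : ∀ v, ∃ a ∈ W, ∃ b ∈ perp hF W, a + b = v := fun v =>
    Submodule.mem_sup.1 (by rw [hc.sup_eq_top]; trivial)
  have hsplit : ∀ {a b : Fin n → F}, a ∈ W → b ∈ perp hF W → a + b = 0 → a = 0 ∧ b = 0 := by
    intro a b ha hb h
    have h0 : a = 0 := hW a ha (by rw [eq_neg_of_add_eq_zero_left h]; exact neg_mem hb)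
    exact ⟨h0, by rwa [h0, zero_add] at h⟩
  obtain ⟨w0, hw0, hw00⟩ := Submodule.exists_mem_ne_zero_of_ne_bot hW0
  obtain ⟨eP, heP, heP0⟩ := exists_aniso_perp hF hW (perp hF W) le_rfl (by omega)
  have hPval : ∀ c : F, c ^ q = c → ∃ z ∈ perp hF W, z ≠ 0 ∧ Cfsg.hermForm n F q z z = c :=
    exists_value hF (by omega) heP heP0
  obtain ⟨δ₀, hδ₀, hδ₀0⟩ := SUGen.exists_tz hF
  refine ⟨lt_of_le_of_ne inf_le_right fun heq => ?_, fun M hHM hMS => ?_⟩
  · obtain ⟨z, hz, hz0, hzz⟩ := hPval (-Cfsg.hermForm n F q w0 w0) (by rw [hneg, hfix])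
    have hv : Cfsg.hermForm n F q (w0 + z) (w0 + z) = 0 := by rw [form_pieces hF hw0 hw0 hz hz, hzz]; ring
    obtain ⟨y, hy, hyw⟩ := hWn w0 hw0 hw00
    have hs := ((le_of_eq heq.symm) (SUGen.T_le hF (tu_mem_T hv hδ₀))).1
    have h9 : y ∈ W ↔ (tu q (w0 + z) δ₀ : Matrix (Fin n) (Fin n) F) *ᵥ y ∈ W := hs y
    have h1 := h9.1 hy
    have h2 : Cfsg.hermForm n F q y (w0 + z) ≠ 0 := by
      rwa [form_add_right hF, mem_perp' hF hz hy, add_zero]
    rw [tu_mulVec hv, Submodule.add_mem_iff_right _ hy, Submodule.smul_mem_iff _ (mul_ne_zero hδ₀0 h2),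
      Submodule.add_mem_iff_right _ hw0] at h1
    exact hz0 (hW z h1 hz)
  by_cases hMH : M ≤ Cfsg.Geo.subspaceStabilizer W ⊓ (Cfsg.GU n F q ⊓ Cfsg.Geo.specialLinear (Fin n) F)
  · exact Or.inl (le_antisymm hMH hHM)
  right
  refine le_antisymm hMS (SUFull.le_of_full hF (by omega) (by omega) ?_)
  obtain ⟨g, hgM, hgH⟩ := SetLike.not_le_iff_exists.1 hMH
  have hgS := hMS hgM
  have hfullside : ∀ a, a ∈ W ∨ a ∈ perp hF W → Cfsg.hermForm n F q a a = 0 → a ∈ Full q M :=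
    fun a ha ha0 => ⟨ha0, fun c hc => hHM (tu_mem_H hF ha0 ha hc)⟩
  -- a full vector with two non-zero pieces
  obtain ⟨a₀, b₀, ha₀, hb₀, ha₀0, hb₀0, hu₀⟩ : ∃ a b, a ∈ W ∧ b ∈ perp hF W ∧ a ≠ 0 ∧ b ≠ 0 ∧
      a + b ∈ Full q M := by
    by_contra hcon
    push Not at hcon
    let G := Matrix.toLin' (g : Matrix (Fin n) (Fin n) F)
    have himg : ∀ z ∈ perp hF W, Cfsg.hermForm n F q z z = 0 → G z ∈ W ∨ G z ∈ perp hF W := by
      intro z hz hzz
      have h1 : G z ∈ Full q M := by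
        simp only [G, Matrix.toLin'_apply]
        exact SUFull.full_map hgM hgS.1 (hfullside z (Or.inr hz) hzz)
      obtain ⟨a, ha, b, hb, hab⟩ := hdec (G z)
      by_cases ha0 : a = 0
      · right; rw [← hab, ha0, zero_add]; exact hb
      by_cases hb0 : b = 0
      · left; rw [← hab, hb0, add_zero]; exact ha
      exact absurd (hab ▸ h1) (hcon a b ha hb ha0 hb0)
    have hGinj : Function.Injective G := fun v w hvw => by
      have := congrArg (fun z => ((g⁻¹ : GL (Fin n) F) : Matrix (Fin n) (Fin n) F) *ᵥ z) hvw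
      simpa [G, Matrix.mulVec_mulVec, ← Units.val_mul] using this
    -- isotropic vectors span the complement
    obtain ⟨i₀, hi₀, hi₀0, hi₀i⟩ := hPval 0 (zero_pow hq0)
    let S : Submodule F (Fin n → F) := Submodule.span F {z | z ∈ perp hF W ∧ Cfsg.hermForm n F q z z = 0}
    have hspan : perp hF W ≤ S := by
      intro y hy
      obtain ⟨i₁, hi₁, hi₁0⟩ : ∃ y ∈ perp hF W, Cfsg.hermForm n F q i₀ y ≠ 0 := by
        by_contra h
        push Not at h
        exact hi₀0 (hW i₀ (mem_of_perp_perp hF h) hi₀)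
      have key : ∀ z ∈ perp hF W, Cfsg.hermForm n F q i₀ z ≠ 0 → z ∈ S := by
        intro z hz hiz
        obtain ⟨t, ht⟩ := adjust hF hi₀i hiz
        have h1 : z + t • i₀ ∈ S := Submodule.subset_span ⟨add_mem hz (Submodule.smul_mem _ _ hi₀), ht⟩
        have h2 : i₀ ∈ S := Submodule.subset_span ⟨hi₀, hi₀i⟩
        have := sub_mem h1 (Submodule.smul_mem _ t h2)
        rwa [add_sub_cancel_right] at this
      by_cases hiy : Cfsg.hermForm n F q i₀ y = 0
      swap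
      · exact key y hy hiy
      have h1 := key (y + i₁) (add_mem hy hi₁) (by rwa [form_add_right hF, hiy, zero_add])
      have := sub_mem h1 (key i₁ hi₁ hi₁0)
      rwa [add_sub_cancel_right] at this
    by_cases hex : ∃ z ∈ perp hF W, Cfsg.hermForm n F q z z = 0 ∧ G z ∉ perp hF W
    · obtain ⟨z, hz, hzz, hGz⟩ := hex
      have hGzW : G z ∈ W := (himg z hz hzz).resolve_right hGz
      have hall : ∀ y ∈ perp hF W, Cfsg.hermForm n F q y y = 0 → G y ∈ W := by
        intro y hy hyy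
        rcases himg y hy hyy with h | h
        · exact h
        have hzy : Cfsg.hermForm n F q z y = 0 := by
          rw [← mem_GU.1 hgS.1 z y]
          have := mem_perp' hF h hGzW
          simpa [G] using this
        have hsum : Cfsg.hermForm n F q (z + y) (z + y) = 0 := by
          rw [form_add_left, form_add_right hF, form_add_right hF, hzz, hyy, hzy,
            form_eq_zero_symm hF hzy]; ring
        rcases himg (z + y) (add_mem hz hy) hsum with h' | h'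
        · rw [map_add, Submodule.add_mem_iff_right _ hGzW] at h'; exact h'
        · rw [map_add] at h'
          exact absurd ((Submodule.add_mem_iff_left _ h).1 h') hGz
      have hle : (perp hF W).map G ≤ W := Submodule.map_le_iff_le_comap.2
        (hspan.trans (Submodule.span_le.2 fun z hz => hall z hz.1 hz.2))
      have h1 := Submodule.finrank_mono hle
      rw [← (Submodule.equivMapOfInjective G hGinj (perp hF W)).finrank_eq] at h1
      omega
    · push Not at hex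
      refine hgH ⟨stab_of_perp hF hgS.1 fun z hz => ?_, hgS⟩
      have hle : perp hF W ≤ (perp hF W).comap G :=
        hspan.trans (Submodule.span_le.2 fun z hz => hex z hz.1 hz.2)
      have := hle hz
      simpa [G] using this
  -- the classes of mixed vectors
  let Cl : F → Prop := fun lam => ∀ a b, a ∈ W → b ∈ perp hF W → a ≠ 0 → b ≠ 0 →
    Cfsg.hermForm n F q a a = lam → Cfsg.hermForm n F q b b = -lam → a + b ∈ Full q M
  have hpc : ∀ {a b : Fin n → F}, a ∈ W → b ∈ perp hF W → a + b ∈ Full q M →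
      Cfsg.hermForm n F q b b = -Cfsg.hermForm n F q a a := by
    intro a b ha hb h
    have := h.1
    rw [form_pieces hF ha ha hb hb] at this
    linear_combination this
  have hcl : ∀ {a b : Fin n → F}, a ∈ W → b ∈ perp hF W → a ≠ 0 → b ≠ 0 → a + b ∈ Full q M →
      Cl (Cfsg.hermForm n F q a a) := by
    intro a b ha hb ha0 hb0 h a' b' ha' hb' ha'0 hb'0 hla hlb
    obtain ⟨t, ht, htv⟩ := transit hF hW hc (by omega) ha ha' hb hb' ha0 ha'0 hb0 hb'0 hla
      (by rw [hlb, hpc ha hb h])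
    rw [← htv]
    exact SUFull.full_map (hHM ht) ht.2.1 h
  -- a class with non-zero norm
  obtain ⟨a₁, b₁, ha₁, hb₁, hb₁0, hu₁, hl₁⟩ : ∃ a b, a ∈ W ∧ b ∈ perp hF W ∧ b ≠ 0 ∧ a + b ∈ Full q M ∧
      Cfsg.hermForm n F q a a ≠ 0 := by
    by_cases h0 : Cfsg.hermForm n F q a₀ a₀ = 0
    swap
    · exact ⟨a₀, b₀, ha₀, hb₀, hb₀0, hu₀, h0⟩
    have hcl0 := h0 ▸ hcl ha₀ hb₀ ha₀0 hb₀0 hu₀
    have hbb : Cfsg.hermForm n F q b₀ b₀ = 0 := by rw [hpc ha₀ hb₀ hu₀, h0, neg_zero]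
    obtain ⟨y, hy, hya⟩ := hWn a₀ ha₀ ha₀0
    obtain ⟨y1, hy1⟩ : ∃ y1, y1 = (Cfsg.hermForm n F q y a₀)⁻¹ • y := ⟨_, rfl⟩
    have hy1a : Cfsg.hermForm n F q y1 a₀ = 1 := by rw [hy1, form_smul_left, inv_mul_cancel₀ hya]
    obtain ⟨t, ht⟩ := adjust hF h0 (show Cfsg.hermForm n F q a₀ y1 ≠ 0 by
      rw [← form_comm hF y1 a₀, hy1a, one_pow]; exact one_ne_zero)
    obtain ⟨z, hz, hzb⟩ : ∃ z ∈ perp hF W, Cfsg.hermForm n F q z b₀ ≠ 0 := by
      by_contra h
      push Not at h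
      exact hb₀0 (hW b₀ (mem_of_perp_perp hF fun z hz => form_eq_zero_symm hF (h z hz)) hb₀)
    obtain ⟨z1, hz1⟩ : ∃ z1, z1 = (Cfsg.hermForm n F q z b₀)⁻¹ • z := ⟨_, rfl⟩
    have hz1b : Cfsg.hermForm n F q z1 b₀ = 1 := by rw [hz1, form_smul_left, inv_mul_cancel₀ hzb]
    obtain ⟨t', ht'⟩ := adjust hF hbb (show Cfsg.hermForm n F q b₀ z1 ≠ 0 by
      rw [← form_comm hF z1 b₀, hz1b, one_pow]; exact one_ne_zero)
    obtain ⟨a₂, ha₂e⟩ : ∃ a₂, a₂ = y1 + t • a₀ := ⟨_, rfl⟩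
    obtain ⟨b', hb'e⟩ : ∃ b', b' = z1 + t' • b₀ := ⟨_, rfl⟩
    rw [← ha₂e] at ht
    rw [← hb'e] at ht'
    have ha₂ : a₂ ∈ W := by rw [ha₂e, hy1]; exact W.add_mem (W.smul_mem _ hy) (W.smul_mem _ ha₀)
    have hb' : b' ∈ perp hF W := by
      rw [hb'e, hz1]; exact add_mem (Submodule.smul_mem _ _ hz) (Submodule.smul_mem _ _ hb₀)
    have ha₂a : Cfsg.hermForm n F q a₂ a₀ = 1 := by
      rw [ha₂e, form_add_left, form_smul_left, h0, hy1a, mul_zero, add_zero]
    have hb'b : Cfsg.hermForm n F q b' b₀ = 1 := by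
      rw [hb'e, form_add_left, form_smul_left, hbb, hz1b, mul_zero, add_zero]
    obtain ⟨s, hs⟩ := SUFull.exists_not_fixed hF
    have hs0 : s ≠ 0 := fun h => hs (by rw [h, zero_pow hq0, sub_zero])
    have hu₂ : a₂ + s • b' ∈ Full q M := hcl0 a₂ (s • b') ha₂ (Submodule.smul_mem _ _ hb')
      (fun h => by rw [h, form_zero_left] at ha₂a; exact zero_ne_one ha₂a)
      (fun h => by
        rw [smul_eq_zero, or_iff_right hs0] at h
        rw [h, form_zero_left] at hb'b; exact zero_ne_one hb'b)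
      ht (by rw [form_smul_left, form_smul_right, ht', neg_zero, mul_zero, mul_zero])
    have hm := SUFull.full_move hF hu₂ hu₀ hδ₀
    rw [form_pieces hF ha₂ ha₀ (Submodule.smul_mem _ _ hb') hb₀, form_smul_left, ha₂a, hb'b, mul_one] at hm
    obtain ⟨κ, hκ⟩ : ∃ κ, κ = δ₀ * (1 + s) := ⟨_, rfl⟩
    rw [← hκ, show a₂ + s • b' + κ • (a₀ + b₀) = (a₂ + κ • a₀) + (s • b' + κ • b₀) by module] at hm
    have hwm : a₂ + κ • a₀ ∈ W := W.add_mem ha₂ (W.smul_mem _ ha₀)
    have hpm : s • b' + κ • b₀ ∈ perp hF W := add_mem (Submodule.smul_mem _ _ hb') (Submodule.smul_mem _ _ hb₀)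
    have hnz : Cfsg.hermForm n F q (a₂ + κ • a₀) (a₂ + κ • a₀) ≠ 0 := by
      rw [form_add_left, form_add_right hF, form_add_right hF, form_smul_left, form_smul_left,
        form_smul_right, form_smul_right, ht, h0, ha₂a, ← form_comm hF a₂ a₀, ha₂a, one_pow]
      intro h
      refine hs ((mul_eq_zero.1 ?_).resolve_left hδ₀0)
      rw [hκ, mul_pow, Herm.add_pow_q hF, one_pow] at h
      unfold SUGen.Tz at hδ₀
      linear_combination h - (1 + s ^ q) * hδ₀
    refine ⟨_, _, hwm, hpm, fun h => hnz ?_, hm, hnz⟩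
    have := hpc hwm hpm hm
    rw [h, form_zero_left] at this
    linear_combination this
  have ha₁0 : a₁ ≠ 0 := fun h => hl₁ (by rw [h, form_zero_left])
  have hnonzero : ∀ lam : F, lam ^ q = lam → lam ≠ 0 → Cl lam := by
    intro lam hlam hlam0 a b ha hb ha0 hb0 hla hlb
    obtain ⟨μ, hμ⟩ := exists_norm' hF (lam / Cfsg.hermForm n F q a₁ a₁) (by rw [div_pow, hlam, hfix])
    have hμ0 : μ ≠ 0 := fun h => hlam0 (by
      rw [h, zero_mul] at hμ
      exact (div_eq_zero_iff.1 hμ.symm).resolve_right hl₁)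
    have h1 := SUFull.full_smul hF hu₁ μ
    rw [smul_add] at h1
    refine hcl (W.smul_mem _ ha₁) (Submodule.smul_mem _ _ hb₁) (smul_ne_zero hμ0 ha₁0)
      (smul_ne_zero hμ0 hb₁0) h1 a b ha hb ha0 hb0 ?_ ?_
    · rw [hla, form_smul_left, form_smul_right, ← mul_assoc, hμ, div_mul_cancel₀ _ hl₁]
    · rw [hlb, form_smul_left, form_smul_right, ← mul_assoc, hμ, div_mul_cancel₀ _ hl₁]
  intro v hv
  obtain ⟨a, ha, b, hb, rfl⟩ := hdec v
  by_cases ha0 : a = 0
  · subst ha0; rw [zero_add] at hv ⊢; exact hfullside b (Or.inr hb) hv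
  by_cases hb0 : b = 0
  · subst hb0; rw [add_zero] at hv ⊢; exact hfullside a (Or.inl ha) hv
  have hbb : Cfsg.hermForm n F q b b = -Cfsg.hermForm n F q a a := by
    rw [form_pieces hF ha ha hb hb] at hv; linear_combination hv
  by_cases hla : Cfsg.hermForm n F q a a = 0
  swap
  · exact hnonzero _ (hfix a) hla a b ha hb ha0 hb0 rfl hbb
  -- isotropic pieces
  obtain ⟨lam, hlame⟩ : ∃ lam, lam = Cfsg.hermForm n F q a₁ a₁ := ⟨_, rfl⟩
  have hlam0 : lam ≠ 0 := hlame ▸ hl₁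
  obtain ⟨x, hxdef⟩ : ∃ x, x = a - (Cfsg.hermForm n F q a a₁ / lam) • a₁ := ⟨_, rfl⟩
  have hxW : x ∈ W := hxdef ▸ W.sub_mem ha (W.smul_mem _ ha₁)
  have hproj : ∀ y, Cfsg.hermForm n F q (y - (Cfsg.hermForm n F q y a₁ / lam) • a₁) a₁ = 0 := fun y => by
    rw [form_sub_left, form_smul_left, ← hlame, div_mul_cancel₀ _ hlam0, sub_self]
  have hxa : Cfsg.hermForm n F q x a₁ = 0 := hxdef ▸ hproj a
  have hx0 : x ≠ 0 := by
    intro h
    rw [hxdef, sub_eq_zero] at h
    have h9 := hla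
    rw [h, form_smul_left, form_smul_right, ← hlame] at h9
    rcases mul_eq_zero.1 h9 with h8 | h8
    · exact ha0 (by rw [h, h8, zero_smul])
    · exact ha0 (by rw [h, (pow_eq_zero_iff hq0).1 ((mul_eq_zero.1 h8).resolve_right hlam0), zero_smul])
  obtain ⟨e, heW, hea, hee⟩ : ∃ e, e ∈ W ∧ Cfsg.hermForm n F q e a₁ = 0 ∧ Cfsg.hermForm n F q e e ≠ 0 := by
    by_contra hcon
    push Not at hcon
    obtain ⟨y, hy, hyx⟩ := hWn x hxW hx0
    have hK : ∀ z ∈ W ⊓ LinearMap.ker (Herm.hb n hF a₁), Cfsg.hermForm n F q z z = 0 :=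
      fun z hz => hcon z hz.1 hz.2
    have h1 := totally_of_iso hF hK (x := y - (Cfsg.hermForm n F q y a₁ / lam) • a₁) (y := x)
      ⟨W.sub_mem hy (W.smul_mem _ ha₁), hproj y⟩ ⟨hxW, hxa⟩
    rw [form_sub_left, form_smul_left, form_eq_zero_symm hF hxa, mul_zero, sub_zero] at h1
    exact hyx h1
  obtain ⟨σ, hσ⟩ := exists_norm' hF (lam / Cfsg.hermForm n F q e e) (by rw [div_pow, hfix, hlame, hfix])
  obtain ⟨a₂, ha₂e⟩ : ∃ a₂, a₂ = σ • e := ⟨_, rfl⟩
  have ha₂ : a₂ ∈ W := ha₂e ▸ W.smul_mem _ heW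
  have ha₂l : Cfsg.hermForm n F q a₂ a₂ = lam := by
    rw [ha₂e, form_smul_left, form_smul_right, ← mul_assoc, hσ, div_mul_cancel₀ _ hee]
  have ha₂a : Cfsg.hermForm n F q a₂ a₁ = 0 := by rw [ha₂e, form_smul_left, hea, mul_zero]
  obtain ⟨κ, hκ⟩ := exists_norm' hF (-1) (by rw [hneg, one_pow])
  have hκ0 : κ ≠ 0 := fun h => by
    rw [h, zero_mul] at hκ
    exact one_ne_zero (α := F) (by linear_combination hκ)
  obtain ⟨s, hs⟩ : ∃ s, s = -κ / (δ₀ * lam) := ⟨_, rfl⟩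
  have hb₁b : Cfsg.hermForm n F q b₁ b₁ = -lam := by rw [hpc ha₁ hb₁ hu₁, hlame]
  have hrK : 2 ≤ Module.finrank F (perp hF (W ⊔ F ∙ b₁)) ∧
      n < 2 * Module.finrank F (perp hF (W ⊔ F ∙ b₁)) + Module.finrank F W := by
    have h1 := finrank_perp hF (W ⊔ F ∙ b₁)
    have h2 := Submodule.finrank_sup_add_finrank_inf_eq W (F ∙ b₁)
    have h3 : Module.finrank F (F ∙ b₁) ≤ 1 := by
      simpa using finrank_span_le_card ({b₁} : Set (Fin n → F)) (R := F)
    omega
  obtain ⟨eK, heK, heK0⟩ := exists_aniso_perp hF hW _ (fun x hx => (mem_perp_sup_span hF hx).1) hrK.2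
  have hlamq : lam ^ q = lam := by rw [hlame, hfix]
  obtain ⟨r, hr, hr0, hrr⟩ := exists_value hF hrK.1 heK heK0 (-lam + s * s ^ q * lam) (by
    rw [Herm.add_pow_q hF, hneg, hlamq, mul_pow, mul_pow, Herm.pow_pow_q hF, hlamq]; ring)
  obtain ⟨hrW, hrb⟩ := mem_perp_sup_span hF hr
  have hbr := form_eq_zero_symm hF hrb
  have hb₂P : s • b₁ + r ∈ perp hF W := add_mem (Submodule.smul_mem _ _ hb₁) hrW
  have hcoef : ∀ θ : F, θ • b₁ + r ≠ 0 := fun θ h => by
    have h1 := congrArg (fun y => Cfsg.hermForm n F q y b₁) h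
    simp only [form_add_left, form_smul_left, form_zero_left, hrb, hb₁b, add_zero] at h1
    rw [mul_eq_zero, or_iff_left (neg_ne_zero.2 hlam0)] at h1
    rw [h1, zero_smul, zero_add] at h
    exact hr0 h
  have hu₂ : a₂ + (s • b₁ + r) ∈ Full q M := hnonzero lam hlamq hlam0 a₂ (s • b₁ + r) ha₂ hb₂P
    (fun h => hlam0 (by rw [← ha₂l, h, form_zero_left])) (hcoef s) ha₂l (by
      rw [form_add_left, form_add_right hF, form_add_right hF, form_smul_left, form_smul_left,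
        form_smul_right, form_smul_right, hbr, hrb, hb₁b, hrr]; ring)
  have hm := SUFull.full_move hF hu₂ hu₁ hδ₀
  rw [form_pieces hF ha₂ ha₁ hb₂P hb₁, ha₂a, form_add_left, form_smul_left, hb₁b, hrb,
    show δ₀ * (0 + (s * -lam + 0)) = κ by rw [hs]; field_simp; ring,
    show a₂ + (s • b₁ + r) + κ • (a₁ + b₁) = (a₂ + κ • a₁) + ((s + κ) • b₁ + r) by module] at hm
  have hwm : a₂ + κ • a₁ ∈ W := W.add_mem ha₂ (W.smul_mem _ ha₁)
  have hwn : Cfsg.hermForm n F q (a₂ + κ • a₁) (a₂ + κ • a₁) = 0 := by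
    rw [form_add_left, form_add_right hF, form_add_right hF, form_smul_left, form_smul_left,
      form_smul_right, form_smul_right, ha₂a, form_eq_zero_symm hF ha₂a, ha₂l, ← hlame]
    linear_combination lam * hκ
  have hw0' : a₂ + κ • a₁ ≠ 0 := by
    intro h
    have h1 := congrArg (fun y => Cfsg.hermForm n F q y a₁) h
    simp only [form_add_left, form_smul_left, form_zero_left, ha₂a, ← hlame, zero_add] at h1
    exact mul_ne_zero hκ0 hlam0 h1
  have hcl0 := hcl hwm (add_mem (Submodule.smul_mem _ _ hb₁) hrW) hw0' (hcoef _) hm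
  rw [hwn] at hcl0
  exact hcl0 a b ha hb ha0 hb0 hla (by rw [hbb, hla])

end CfsgLib.Lie.SUStab
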