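import Cfsg.Agent.Lie.SUThreeExt
import Cfsg.Prelude.Def_Solvable
import Cfsg.Prelude.Def_Transfer
import Mathlib.FieldTheory.Finite.GaloisField
import Mathlib.LinearAlgebra.Dimension.Free

/-!
The automorphism group of the Sylow 2-subgroup of SU3(2^n).
-/

set_option autoImplicit false
set_option linter.unusedSimpArgs false
set_option linter.unusedSectionVars false
set_option linter.style.haveILetI false

namespace CfsgLib.Lie.SUThreeSylow

open scoped commutatorElement

variable {F : Type*} [Field F] [Fintype F] [CharP F 2] {q : ℕ} [hF : Fact (Fintype.card F = q ^ 2)]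

/-- a lift of a coordinate -/
noncomputable def lift (a : F) : U F q := (exists_mk (q := q) a).choose

theorem lift_a (a : F) : (lift a : U F q).a = a := (exists_mk (q := q) a).choose_spec

theorem aut_a_zero (α : MulAut (U F q)) {x : U F q} (hx : x.a = 0) : (α x).a = 0 :=
  mem_center.1 ((mem_center_congr α x).1 (mem_center.2 hx))

/-- the induced map on the first coordinate -/
noncomputable def indA (α : MulAut (U F q)) (a : F) : F := (α (lift a)).a

theorem aut_a (α : MulAut (U F q)) (x : U F q) : (α x).a = indA α x.a := by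
  have h1 : ((lift x.a : U F q)⁻¹ * x).a = 0 := by rw [mul_a, inv_a, lift_a, CharTwo.add_self_eq_zero]
  have h2 := aut_a_zero α h1
  rw [map_mul, mul_a, map_inv, inv_a] at h2
  rw [indA]
  linear_combination h2 - (α (lift x.a)).a * (CharTwo.two_eq_zero (R := F))

/-- the induced permutations -/
noncomputable def indHom : MulAut (U F q) →* Equiv.Perm F where
  toFun α :=
    { toFun := indA α
      invFun := indA α⁻¹
      left_inv := fun a => by
        conv_rhs => rw [← lift_a (q := q) a, ← MulAut.inv_apply_self (M := U F q) α (lift a)]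
        rw [aut_a, aut_a, lift_a]
      right_inv := fun a => by
        conv_rhs => rw [← lift_a (q := q) a, ← MulAut.apply_inv_self (M := U F q) α (lift a)]
        rw [aut_a, aut_a, lift_a] }
  map_one' := Equiv.ext fun a => by
    show indA (1 : MulAut (U F q)) a = a
    rw [indA, MulAut.one_apply, lift_a]
  map_mul' α β := Equiv.ext fun a => by
    show indA (α * β) a = indA α (indA β a)
    conv_lhs => rw [indA, MulAut.mul_apply, aut_a, aut_a, lift_a]

theorem indHom_apply (α : MulAut (U F q)) (x : U F q) : indHom α x.a = (α x).a := (aut_a α x).symm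

theorem ker_fix {α : MulAut (U F q)} (h : ∀ x, (α x).a = x.a) {z : U F q} (hz : z.a = 0) : α z = z := by
  obtain ⟨a, ha⟩ := SUStab.exists_norm' hF.out z.b (fixed_of_a hz)
  obtain ⟨x, hx⟩ := exists_mk (q := q) a
  have hzz : z = x * x := U.ext (hz.trans (sq_eq x).1.symm) (by rw [(sq_eq x).2, hx, ha])
  rw [hzz, map_mul]
  exact U.ext (by rw [(sq_eq _).1, (sq_eq _).1]) (by rw [(sq_eq _).2, (sq_eq _).2, h])

theorem mem_ker_ind {α : MulAut (U F q)} : α ∈ (indHom (F := F) (q := q)).ker ↔ ∀ x, (α x).a = x.a := by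
  rw [MonoidHom.mem_ker]
  refine ⟨fun h x => by rw [← indHom_apply, h]; rfl, fun h => Equiv.ext fun a => ?_⟩
  show indA α a = a
  rw [indA, h, lift_a]

/-- The central automorphism of a homomorphism into the centre. -/
noncomputable def cenAut (f : U F q →* Subgroup.center (U F q)) : MulAut (U F q) :=
  have hz : ∀ y : U F q, y.a = 0 → f y = 1 := fun y hy => by
    obtain ⟨x₁, x₂, h⟩ := center_le_commutator hy
    rw [← h, map_commutatorElement]
    exact commutatorElement_eq_one_iff_mul_comm.2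
      (Subtype.ext (Subgroup.mem_center_iff.1 (f x₂).2 (f x₁).1))
  have hinv : ∀ x : U F q, x * (f x).1 * (f (x * (f x).1)).1 = x := fun x => by
    rw [map_mul, hz _ (mem_center.1 (f x).2), mul_one, mul_assoc,
      inv_iff.2 (mem_center.1 (f x).2), mul_one]
  { toFun := fun x => x * (f x).1
    invFun := fun x => x * (f x).1
    left_inv := hinv
    right_inv := hinv
    map_mul' := fun x y => by
      rw [map_mul, Subgroup.coe_mul, mul_assoc, ← mul_assoc y, Subgroup.mem_center_iff.1 (f x).2 y,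
        mul_assoc (f x).1, ← mul_assoc x] }

theorem cenAut_apply (f : U F q →* Subgroup.center (U F q)) (x : U F q) : cenAut f x = x * (f x).1 := rfl

theorem ker_elem (hα : MulAut (U F q)) (h : ∀ x, (hα x).a = x.a) : ∀ x, x⁻¹ * hα x ∈ Subgroup.center (U F q) :=
  fun x => mem_center.2 (by rw [mul_a, inv_a, h, CharTwo.add_self_eq_zero])

/-- The kernel as homomorphisms. -/
noncomputable def kerEquiv : (indHom (F := F) (q := q)).ker ≃ (U F q →* Subgroup.center (U F q)) where
  toFun α := MonoidHom.mk' (fun x => ⟨x⁻¹ * α.1 x, ker_elem _ (mem_ker_ind.1 α.2) x⟩) fun x y => Subtype.ext (by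
    show (x * y)⁻¹ * α.1 (x * y) = x⁻¹ * α.1 x * (y⁻¹ * α.1 y)
    rw [map_mul, mul_inv_rev, Subgroup.mem_center_iff.1 (ker_elem _ (mem_ker_ind.1 α.2) y) (x⁻¹ * α.1 x)]
    have := Subgroup.mem_center_iff.1 (ker_elem _ (mem_ker_ind.1 α.2) x) y⁻¹
    rw [show y⁻¹ * x⁻¹ * (α.1 x * α.1 y) = y⁻¹ * (x⁻¹ * α.1 x) * α.1 y by group, this, mul_assoc,
      ← Subgroup.mem_center_iff.1 (ker_elem _ (mem_ker_ind.1 α.2) y) (x⁻¹ * α.1 x)])
  invFun f := ⟨cenAut f, mem_ker_ind.2 fun x => by rw [cenAut_apply, mul_a, mem_center.1 (f x).2, add_zero]⟩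
  left_inv α := Subtype.ext (MulEquiv.ext fun x => by
    rw [cenAut_apply]
    exact mul_inv_cancel_left x (α.1 x))
  right_inv f := MonoidHom.ext fun x => Subtype.ext (by
    show x⁻¹ * (cenAut f x) = (f x).1
    rw [cenAut_apply, inv_mul_cancel_left])

theorem hom_kills (f : U F q →* Subgroup.center (U F q)) {y : U F q} (hy : y.a = 0) : f y = 1 := by
  obtain ⟨x₁, x₂, h⟩ := center_le_commutator hy
  rw [← h, map_commutatorElement]
  exact commutatorElement_eq_one_iff_mul_comm.2 (Subtype.ext (Subgroup.mem_center_iff.1 (f x₂).2 (f x₁).1))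

variable (F q) in
/-- the fixed subfield -/
def fixedField : Subfield F := RingHom.eqLocusField (Herm.conj hF.out) (RingHom.id F)

theorem mem_fixedField {x : F} : x ∈ fixedField F q ↔ x ^ q = x := Iff.rfl

instance : CharP (fixedField F q) 2 := (fixedField F q).toSubring.subtype.charP Subtype.val_injective 2

/-- Homomorphisms into the centre are additive maps into the fixed field. -/
noncomputable def homEquiv :
    (U F q →* Subgroup.center (U F q)) ≃ (F →+ fixedField F q) where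
  toFun f := AddMonoidHom.mk' (fun a => ⟨(f (lift a)).1.b, fixed_of_a (mem_center.1 (f (lift a)).2)⟩) fun a b => by
    have h : f (lift (a + b)) = f (lift a) * f (lift b) := by
      have h1 : ((lift a * lift b : U F q)⁻¹ * lift (a + b)).a = 0 := by
        rw [mul_a, inv_a, mul_a, lift_a, lift_a, lift_a, CharTwo.add_self_eq_zero]
      have := hom_kills f h1
      rw [map_mul, map_inv, inv_mul_eq_one, map_mul] at this
      exact this.symm
    refine Subtype.ext ?_
    show (f (lift (a + b))).1.b = (f (lift a)).1.b + (f (lift b)).1.b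
    rw [h, Subgroup.coe_mul, mul_b, mem_center.1 (f (lift b)).2, zero_mul, add_zero]
  invFun g := MonoidHom.mk' (fun x => ⟨⟨0, (g x.a).1, by
      rw [zero_mul, mem_fixedField.1 (g x.a).2, CharTwo.add_self_eq_zero]⟩, mem_center.2 rfl⟩) fun x y =>
    Subtype.ext (U.ext (by show (0 : F) = 0 + 0; rw [add_zero]) (by
      show (g (x * y).a).1 = (g x.a).1 + (g y.a).1 + 0 * (0 : F) ^ q
      rw [mul_a, map_add, zero_mul, add_zero]; rfl))
  left_inv f := MonoidHom.ext fun x => Subtype.ext (U.ext (mem_center.1 (f x).2).symm (by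
    show (f (lift x.a)).1.b = (f x).1.b
    have h1 : ((lift x.a : U F q)⁻¹ * x).a = 0 := by rw [mul_a, inv_a, lift_a, CharTwo.add_self_eq_zero]
    have := hom_kills f h1
    rw [map_mul, map_inv, inv_mul_eq_one] at this
    rw [this]))
  right_inv g := AddMonoidHom.ext fun a => Subtype.ext (by
    show (g (lift a : U F q).a).1 = (g a).1
    rw [lift_a])

theorem card_ker {n : ℕ} (hq : q = 2 ^ n) :
    Nat.card (indHom (F := F) (q := q)).ker = 2 ^ (2 * n ^ 2) := by
  haveI : Fact (Nat.Prime 2) := ⟨Nat.prime_two⟩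
  letI : Algebra (ZMod 2) F := ZMod.algebra F 2
  letI : Algebra (ZMod 2) (fixedField F q) := ZMod.algebra _ 2
  rw [Nat.card_congr (kerEquiv.trans homEquiv)]
  have e : (F →+ fixedField F q) ≃ (F →ₗ[ZMod 2] fixedField F q) :=
    { toFun := fun f => f.toZModLinearMap 2
      invFun := fun f => f.toAddMonoidHom
      left_inv := fun f => AddMonoidHom.ext fun x => rfl
      right_inv := fun f => LinearMap.ext fun x => rfl }
  rw [Nat.card_congr (e.trans ((Module.finBasis (ZMod 2) F).constr (ZMod 2)).symm.toEquiv), Nat.card_fun,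
    Nat.card_fin]
  have hL : Nat.card (fixedField F q) = q := card_fixed (F := F) (q := q)
  have hd : Module.finrank (ZMod 2) F = n * 2 := by
    have h := Module.natCard_eq_pow_finrank (K := ZMod 2) (V := F)
    have hc : Nat.card F = 2 ^ (n * 2) := by rw [Nat.card_eq_fintype_card, hF.out, pow_mul, ← hq]
    rw [hc, Nat.card_zmod] at h
    exact (Nat.pow_right_injective le_rfl h).symm
  rw [hL, hd]
  subst hq
  rw [← pow_mul]; congr 1; ring

theorem range_semilinear (α : MulAut (U F q)) :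
    ∃ (c : Fˣ) (σ : F ≃+* F), ∀ a, indHom α a = (c : F) * σ a := by
  classical
  set A : F → F := fun a => indHom α a with hAdef
  have hAx : ∀ x : U F q, (α x).a = A x.a := fun x => (indHom_apply α x).symm
  have hq0 := q0 F (q := q)
  have hAadd : ∀ a b, A (a + b) = A a + A b := fun a b => by
    conv_lhs => rw [show a + b = ((lift a : U F q) * lift b).a by rw [mul_a, lift_a, lift_a]]
    rw [← hAx, map_mul, mul_a, hAx, hAx, lift_a, lift_a]
  have hA0 : A 0 = 0 := by
    have := hAadd 0 0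
    rw [add_zero] at this
    linear_combination -this
  obtain ⟨T, hT⟩ : ∃ T : F → F, ∀ x : U F q, x.a = 0 → (α x).b = T x.b := by
    refine ⟨fun c => if h : c ^ q = c then
      (α ⟨0, c, by rw [h, zero_mul, CharTwo.add_self_eq_zero]⟩).b else 0, fun x hx => ?_⟩
    simp only [dif_pos (fixed_of_a hx)]
    congr 2
    exact U.ext hx rfl
  have hN : ∀ a, T (a * a ^ q) = A a * A a ^ q := fun a => by
    have h1 := hT _ (sq_eq (lift a : U F q)).1
    rw [(sq_eq (lift a : U F q)).2, map_mul, (sq_eq _).2, hAx, lift_a] at h1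
    exact h1.symm
  have hB : ∀ a b, T (a * b ^ q + b * a ^ q) = A a * A b ^ q + A b * A a ^ q := fun a b => by
    have h1 := hT _ (comm_a (lift a : U F q) (lift b))
    rw [map_commutatorElement, comm_b, comm_b, hAx, hAx, lift_a, lift_a] at h1
    exact h1.symm
  have hAinj : Function.Injective A := (indHom α).injective
  have hc0 : A 1 ≠ 0 := fun h => one_ne_zero (hAinj (h.trans hA0.symm))
  obtain ⟨C, hC⟩ : ∃ C, C = A 1 := ⟨_, rfl⟩
  rw [← hC] at hc0
  obtain ⟨κ, hκ⟩ : ∃ κ, κ = C * C ^ q := ⟨_, rfl⟩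
  have hκ0 : κ ≠ 0 := hκ ▸ mul_ne_zero hc0 (pow_ne_zero _ hc0)
  -- normalised maps
  obtain ⟨B, hBd⟩ : ∃ B : F → F, ∀ a, B a = A a / C := ⟨_, fun _ => rfl⟩
  obtain ⟨S, hSd⟩ : ∃ S : F → F, ∀ a, S a = T a / κ := ⟨_, fun _ => rfl⟩
  have hBadd : ∀ a b, B (a + b) = B a + B b := fun a b => by rw [hBd, hBd, hBd, hAadd, add_div]
  have hB1 : B 1 = 1 := by rw [hBd, ← hC, div_self hc0]
  have hN' : ∀ a, S (a * a ^ q) = B a * B a ^ q := fun a => by
    rw [hSd, hN, hBd, hκ, div_pow, div_mul_div_comm]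
  have hB' : ∀ a b, S (a * b ^ q + b * a ^ q) = B a * B b ^ q + B b * B a ^ q := fun a b => by
    rw [hSd, hB, hBd, hBd, hκ, div_pow, div_pow, div_mul_div_comm, div_mul_div_comm, add_div]
  have hB0 : B 0 = 0 := by rw [hBd, hA0, zero_div]
  have hS0 : S 0 = 0 := by
    have := hN' 0
    rwa [zero_mul, hB0, zero_mul] at this
  -- fixed scalars go to fixed scalars
  have hfix : ∀ t, t ^ q = t → B t ^ q = B t := fun t ht => by
    have h := hB' 1 t
    rw [one_pow, ht, one_mul, mul_one, CharTwo.add_self_eq_zero, hS0, hB1, one_pow, one_mul, mul_one] at h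
    linear_combination -h - B t * (CharTwo.two_eq_zero (R := F))
  obtain ⟨w, hw⟩ := exists_fixed_sum (F := F) (q := q) (c := 1) (one_pow q)
  have hS1 : S 1 = 1 := by
    have := hN' 1
    rwa [one_pow, one_mul, hB1, one_pow, one_mul] at this
  obtain ⟨w', hw'⟩ : ∃ w', w' = B w := ⟨_, rfl⟩
  have htw : w' + w' ^ q = 1 := by
    have h := hB' 1 w
    rw [one_pow, one_mul, mul_one, add_comm (w ^ q) w, hw, hS1, hB1, one_pow, one_mul, mul_one, ← hw'] at h
    linear_combination -h
  -- scalars on the line of w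
  have hline : ∀ t, t ^ q = t → ∃ h : F, h ^ q = h ∧ B (t * w) = h * w' := fun t ht => by
    have hw0 : w' ≠ 0 := fun e => by rw [e, zero_pow hq0, add_zero] at htw; exact zero_ne_one htw
    refine ⟨B (t * w) / w', ?_, by rw [div_mul_cancel₀ _ hw0]⟩
    have h := hB' w (t * w)
    rw [mul_pow, ht, show w * (t * w ^ q) + t * w * w ^ q = 0 by
      linear_combination t * w * w ^ q * (CharTwo.two_eq_zero (R := F)), hS0, ← hw'] at h
    rw [div_pow, div_eq_div_iff (pow_ne_zero _ hw0) hw0]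
    linear_combination -h - B (t * w) * w' ^ q * (CharTwo.two_eq_zero (R := F))
  have hval : ∀ t s, t ^ q = t → s ^ q = s → ∃ h, B (s * w) = h * w' ∧ S (t * s) = B t * h := by
    intro t s ht hs
    obtain ⟨h, hh, hBs⟩ := hline s hs
    refine ⟨h, hBs, ?_⟩
    have e := hB' t (s * w)
    rw [mul_pow, hs, ht, hBs, mul_pow, hh, hfix t ht] at e
    rw [show t * (s * w ^ q) + s * w * t = t * s by linear_combination t * s * hw] at e
    linear_combination e + B t * h * htw
  have hS : ∀ t, t ^ q = t → S t = B t := fun t ht => by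
    obtain ⟨h, hBs, hSt⟩ := hval t 1 ht (one_pow q)
    rw [one_mul, ← hw'] at hBs
    have hh : h = 1 := by
      have hw0 : w' ≠ 0 := fun e => by rw [e, zero_pow hq0, add_zero] at htw; exact zero_ne_one htw
      exact (mul_left_eq_self₀.1 hBs.symm).resolve_right hw0
    rw [mul_one, hh, mul_one] at hSt
    exact hSt
  have hBw : ∀ s, s ^ q = s → B (s * w) = B s * w' := fun s hs => by
    obtain ⟨h, hBs, hSs⟩ := hval 1 s (one_pow q) hs
    rw [one_mul, hB1, one_mul, hS s hs] at hSs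
    rw [hBs, hSs]
  have hBmul : ∀ t s, t ^ q = t → s ^ q = s → B (t * s) = B t * B s := fun t s ht hs => by
    obtain ⟨h, hBs, hSts⟩ := hval t s ht hs
    rw [hS _ (by rw [mul_pow, ht, hs])] at hSts
    have hw0 : w' ≠ 0 := fun e => by rw [e, zero_pow hq0, add_zero] at htw; exact zero_ne_one htw
    have hh : h = B s := mul_right_cancel₀ hw0 (hBs.symm.trans (hBw s hs))
    rw [hSts, hh]
  -- every element decomposes
  have hdec : ∀ x : F, ∃ t s, t ^ q = t ∧ s ^ q = s ∧ x = t + s * w := fun x => by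
    refine ⟨x + (x + x ^ q) * w, x + x ^ q, ?_, by rw [addq, qq, add_comm], ?_⟩
    · rw [addq, mul_pow, addq, qq]
      linear_combination (x + x ^ q) * hw + x ^ q * (CharTwo.two_eq_zero (R := F)) - (x + x ^ q) * w * (CharTwo.two_eq_zero (R := F))
    · linear_combination -((x + x ^ q) * w) * (CharTwo.two_eq_zero (R := F))
  have hnw : (w * w ^ q) ^ q = w * w ^ q := by rw [mul_pow, qq, mul_comm]
  have hww : w * w = w + w * w ^ q := by linear_combination w * hw - w * w ^ q * (CharTwo.two_eq_zero (R := F))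
  have hBnw : B (w * w ^ q) = w' * w' ^ q := by rw [← hS _ hnw, hN', hw']
  have hBmap : ∀ x y, B (x * y) = B x * B y := by
    intro x y
    obtain ⟨t, s, ht, hs, rfl⟩ := hdec x
    obtain ⟨t', s', ht', hs', rfl⟩ := hdec y
    have e : (t + s * w) * (t' + s' * w) = (t * t' + s * s' * (w * w ^ q)) + (t * s' + s * t' + s * s') * w := by
      linear_combination s * s' * hww
    have f1 : (t * t') ^ q = t * t' := by rw [mul_pow, ht, ht']
    have f2 : (t * s') ^ q = t * s' := by rw [mul_pow, ht, hs']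
    have f3 : (s * t') ^ q = s * t' := by rw [mul_pow, hs, ht']
    have f4 : (s * s') ^ q = s * s' := by rw [mul_pow, hs, hs']
    have f5 : (t * s' + s * t' + s * s') ^ q = t * s' + s * t' + s * s' := by rw [addq, addq, f2, f3, f4]
    rw [e, hBadd, hBadd, hBmul _ _ f4 hnw, hBnw, hBw _ f5, hBadd, hBadd, hBmul _ _ ht ht', hBmul _ _ ht hs',
      hBmul _ _ hs ht', hBmul _ _ hs hs', hBadd, hBadd, hBw _ hs, hBw _ hs']
    linear_combination B s * B s' * w' * w' ^ q * (CharTwo.two_eq_zero (R := F)) - B s * B s' * w' * htw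
  have hBinj : Function.Injective B := fun a b h => by
    rw [hBd, hBd, div_left_inj' hc0] at h
    exact hAinj h
  let σ : F →+* F := { toFun := B, map_one' := hB1, map_mul' := hBmap, map_zero' := hB0, map_add' := hBadd }
  refine ⟨Units.mk0 C hc0, RingEquiv.ofBijective σ hBinj.bijective_of_finite, fun a => ?_⟩
  show A a = C * B a
  rw [hBd, mul_div_cancel₀ _ hc0]

/-- semilinear automorphisms -/
def semiAut (c : Fˣ) (σ : F ≃+* F) : MulAut (U F q) where
  toFun x := ⟨(c : F) * σ x.a, (c : F) * (c : F) ^ q * σ x.b, by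
    rw [mul_pow, mul_pow, mul_pow, qq, ← map_pow, ← map_pow]
    have h := congrArg σ x.h
    rw [map_add, map_mul] at h
    linear_combination (c : F) * (c : F) ^ q * h⟩
  invFun x := ⟨σ.symm (((c⁻¹ : Fˣ) : F) * x.a), σ.symm (((c⁻¹ : Fˣ) : F) * ((c⁻¹ : Fˣ) : F) ^ q * x.b), by
    rw [← map_pow, ← map_pow, ← map_add, ← map_mul, mul_pow, mul_pow, mul_pow, qq]
    congr 1
    linear_combination ((c⁻¹ : Fˣ) : F) * ((c⁻¹ : Fˣ) : F) ^ q * x.h⟩
  left_inv x := U.ext (by simp [← mul_assoc]) (by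
    show σ.symm (((c⁻¹ : Fˣ) : F) * ((c⁻¹ : Fˣ) : F) ^ q * ((c : F) * (c : F) ^ q * σ x.b)) = x.b
    rw [show ((c⁻¹ : Fˣ) : F) * ((c⁻¹ : Fˣ) : F) ^ q * ((c : F) * (c : F) ^ q * σ x.b) =
      (((c⁻¹ : Fˣ) : F) * c) * (((c⁻¹ : Fˣ) : F) * c) ^ q * σ x.b by ring, Units.inv_mul, one_pow, one_mul, one_mul,
      RingEquiv.symm_apply_apply])
  right_inv x := U.ext (by simp [← mul_assoc]) (by
    show (c : F) * (c : F) ^ q * σ (σ.symm (((c⁻¹ : Fˣ) : F) * ((c⁻¹ : Fˣ) : F) ^ q * x.b)) = x.b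
    rw [RingEquiv.apply_symm_apply, show (c : F) * (c : F) ^ q * (((c⁻¹ : Fˣ) : F) * ((c⁻¹ : Fˣ) : F) ^ q * x.b) =
      ((c : F) * ((c⁻¹ : Fˣ) : F)) * ((c : F) * ((c⁻¹ : Fˣ) : F)) ^ q * x.b by ring, Units.mul_inv, one_pow, one_mul,
      one_mul])
  map_mul' x y := U.ext (by show (c : F) * σ (x.a + y.a) = (c : F) * σ x.a + (c : F) * σ y.a; rw [map_add, mul_add]) (by
    show (c : F) * (c : F) ^ q * σ (x.b + y.b + y.a * x.a ^ q) =
      (c : F) * (c : F) ^ q * σ x.b + (c : F) * (c : F) ^ q * σ y.b + (c : F) * σ y.a * ((c : F) * σ x.a) ^ q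
    rw [map_add, map_add, map_mul, map_pow, mul_pow]; ring)

theorem indHom_semiAut (c : Fˣ) (σ : F ≃+* F) (a : F) : indHom (semiAut (q := q) c σ) a = (c : F) * σ a := by
  show indA _ a = _
  rw [indA]
  show (c : F) * σ (lift a : U F q).a = _
  rw [lift_a]

theorem card_range {n : ℕ} (hq : q = 2 ^ n) :
    Nat.card (indHom (F := F) (q := q)).range = 2 * n * (q ^ 2 - 1) := by
  classical
  haveI : Fact (Nat.Prime 2) := ⟨Nat.prime_two⟩
  letI : Algebra (ZMod 2) F := ZMod.algebra F 2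
  let f : Fˣ × (F ≃+* F) → (indHom (F := F) (q := q)).range := fun p =>
    ⟨indHom (semiAut p.1 p.2), _, rfl⟩
  have hf : Function.Bijective f := by
    refine ⟨?_, ?_⟩
    · rintro ⟨c, σ⟩ ⟨d, τ⟩ h
      have h' : ∀ a, (c : F) * σ a = (d : F) * τ a := fun a => by
        have := congrArg (fun e : (indHom (F := F) (q := q)).range => e.1 a) h
        simpa [f, indHom_semiAut] using this
      have hcd : c = d := Units.ext (by simpa using h' 1)
      subst hcd
      exact Prod.ext rfl (RingEquiv.ext fun a => mul_left_cancel₀ c.ne_zero (h' a))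
    · rintro ⟨_, α, rfl⟩
      obtain ⟨c, σ, h⟩ := range_semilinear α
      exact ⟨(c, σ), Subtype.ext (Equiv.ext fun a => (indHom_semiAut c σ a).trans (h a).symm)⟩
  have hg : Nat.card (F ≃+* F) = n * 2 := by
    have e : (F ≃+* F) ≃ (F ≃ₐ[ZMod 2] F) :=
      { toFun := fun σ => AlgEquiv.ofRingEquiv (f := σ) fun x => by
          have := Subsingleton.elim ((σ : F →+* F).comp (algebraMap (ZMod 2) F)) (algebraMap (ZMod 2) F)
          exact RingHom.congr_fun this x
        invFun := fun σ => σ.toRingEquiv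
        left_inv := fun σ => RingEquiv.ext fun x => rfl
        right_inv := fun σ => AlgEquiv.ext fun x => rfl }
    rw [Nat.card_congr e, IsGalois.card_aut_eq_finrank]
    have h := Module.natCard_eq_pow_finrank (K := ZMod 2) (V := F)
    have hc : Nat.card F = 2 ^ (n * 2) := by rw [Nat.card_eq_fintype_card, hF.out, pow_mul, ← hq]
    rw [hc, Nat.card_zmod] at h
    exact (Nat.pow_right_injective le_rfl h).symm
  rw [← Nat.card_congr (Equiv.ofBijective f hf), Nat.card_prod, hg, Orders.card_units_eq, Nat.card_eq_fintype_card,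
    hF.out]
  ring

theorem pCore_eq {n : ℕ} (hn : 1 ≤ n) (hq : q = 2 ^ n) :
    Cfsg.pCore 2 (MulAut (U F q)) = (indHom (F := F) (q := q)).ker := by
  classical
  haveI : Fact (Nat.Prime 2) := ⟨Nat.prime_two⟩
  refine le_antisymm (sSup_le ?_) (le_sSup ⟨MonoidHom.normal_ker _, IsPGroup.of_card (card_ker hq)⟩)
  rintro N ⟨hN, hP⟩ α hα
  rw [MonoidHom.mem_ker]
  have hodd : ∀ d : Fˣ, ∀ j : ℕ, d ^ 2 ^ j = 1 → d = 1 := fun d j hd => by
    have h1 : ((d : F)) ^ 2 ^ j = 1 := by rw [← Units.val_pow_eq_pow_val, hd, Units.val_one]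
    exact Units.ext (iterateFrobenius_inj F 2 j (by rw [iterateFrobenius_def, iterateFrobenius_def, Units.val_one, one_pow, h1]))
  obtain ⟨c, σ, h⟩ := range_semilinear α
  have hμ : ∀ μ : Fˣ, σ (μ : F) = μ := by
    intro μ
    let τ : MulAut (U F q) := semiAut μ (RingEquiv.refl F)
    have hβ : α * τ * α⁻¹ * τ⁻¹ ∈ N := by
      rw [mul_assoc, mul_assoc, ← mul_assoc τ]
      exact mul_mem hα (hN.conj_mem _ (inv_mem hα) τ)
    obtain ⟨j, hj⟩ := hP ⟨_, hβ⟩
    obtain ⟨d, hd⟩ : ∃ d : Fˣ, d = Units.map σ.toMonoidHom μ * μ⁻¹ := ⟨_, rfl⟩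
    have hact : ∀ a, indHom (α * τ * α⁻¹ * τ⁻¹) a = (d : F) * a := by
      intro a
      obtain ⟨y, hy⟩ := (indHom α).surjective (((μ⁻¹ : Fˣ) : F) * a)
      have h1 : indHom τ⁻¹ a = ((μ⁻¹ : Fˣ) : F) * a := by
        rw [map_inv, Equiv.Perm.inv_eq_iff_eq]
        show a = indHom τ _
        rw [indHom_semiAut, RingEquiv.refl_apply, Units.mul_inv_cancel_left]
      rw [map_mul, map_mul, map_mul, Equiv.Perm.mul_apply, Equiv.Perm.mul_apply, Equiv.Perm.mul_apply, h1, ← hy]
      have h2 : indHom α⁻¹ (indHom α y) = y := by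
        rw [← Equiv.Perm.mul_apply, ← map_mul, inv_mul_cancel, map_one]; rfl
      rw [h2, indHom_semiAut, h, RingEquiv.refl_apply, map_mul]
      rw [h] at hy
      rw [hd, Units.val_mul]
      show (c : F) * (σ (μ : F) * σ y) = σ (μ : F) * ((μ⁻¹ : Fˣ) : F) * a
      linear_combination σ (μ : F) * hy
    have hpow : ∀ k : ℕ, ∀ a, indHom ((α * τ * α⁻¹ * τ⁻¹) ^ k) a = (d : F) ^ k * a := by
      intro k
      induction k with
      | zero => intro a; rw [pow_zero, map_one, pow_zero, one_mul]; rfl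
      | succ k ih => intro a; rw [pow_succ, map_mul, Equiv.Perm.mul_apply, hact, ih, pow_succ]; ring
    have h3 := hpow (2 ^ j) 1
    rw [show (α * τ * α⁻¹ * τ⁻¹) ^ 2 ^ j = 1 from congrArg Subtype.val hj, map_one (indHom (F := F) (q := q)), Equiv.Perm.one_apply, mul_one] at h3
    have h4 : d = 1 := hodd d j (Units.ext (by rw [Units.val_pow_eq_pow_val, Units.val_one]; exact h3.symm))
    rw [hd, mul_inv_eq_one] at h4
    exact congrArg Units.val h4
  have hσ : ∀ a, indHom α a = (c : F) * a := fun a => by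
    rw [h]
    by_cases ha : a = 0
    · rw [ha, map_zero]
    · rw [show σ a = a from hμ (Units.mk0 a ha)]
  have hpow : ∀ k : ℕ, ∀ a, indHom (α ^ k) a = (c : F) ^ k * a := by
    intro k
    induction k with
    | zero => intro a; rw [pow_zero, map_one, pow_zero, one_mul]; rfl
    | succ k ih => intro a; rw [pow_succ, map_mul, Equiv.Perm.mul_apply, hσ, ih, pow_succ]; ring
  obtain ⟨j, hj⟩ := hP ⟨α, hα⟩
  have h3 := hpow (2 ^ j) 1
  rw [show α ^ 2 ^ j = 1 from congrArg Subtype.val hj, map_one (indHom (F := F) (q := q)), Equiv.Perm.one_apply, mul_one] at h3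
  have h4 : c = 1 := hodd c j (Units.ext (by rw [Units.val_pow_eq_pow_val, Units.val_one]; exact h3.symm))
  exact Equiv.ext fun a => by rw [hσ, h4, Units.val_one, one_mul]; rfl

theorem aut_structure {n : ℕ} (hn : 1 ≤ n) (hq : q = 2 ^ n) :
    Cfsg.IsElementaryAbelian 2 (Cfsg.pCore 2 (MulAut (U F q))) ∧
      Nat.card (Cfsg.pCore 2 (MulAut (U F q))) = 2 ^ (2 * n ^ 2) ∧
      Nat.card (MulAut (U F q)) = 2 ^ (2 * n ^ 2) * (2 * n * (q ^ 2 - 1)) := by
  rw [pCore_eq hn hq]
  refine ⟨⟨⟨⟨fun α β => Subtype.ext (MulEquiv.ext fun x => ?_)⟩⟩, fun α hα => MulEquiv.ext fun x => ?_⟩,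
    card_ker hq, ?_⟩
  · have hα := ker_elem _ (mem_ker_ind.1 α.2) x
    have hβ := ker_elem _ (mem_ker_ind.1 β.2) x
    obtain ⟨a, ha⟩ : ∃ a, a = x⁻¹ * α.1 x := ⟨_, rfl⟩
    obtain ⟨b, hb⟩ : ∃ b, b = x⁻¹ * β.1 x := ⟨_, rfl⟩
    rw [← ha] at hα; rw [← hb] at hβ
    show α.1 (β.1 x) = β.1 (α.1 x)
    rw [show β.1 x = x * b by rw [hb, mul_inv_cancel_left], show α.1 x = x * a by rw [ha, mul_inv_cancel_left],
      map_mul, map_mul, ker_fix (mem_ker_ind.1 α.2) (mem_center.1 hβ), ker_fix (mem_ker_ind.1 β.2) (mem_center.1 hα),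
      show β.1 x = x * b by rw [hb, mul_inv_cancel_left], show α.1 x = x * a by rw [ha, mul_inv_cancel_left],
      mul_assoc, mul_assoc, Subgroup.mem_center_iff.1 hβ a]
  · have hc := ker_elem _ (mem_ker_ind.1 hα) x
    show (α ^ 2) x = x
    rw [pow_two, MulAut.mul_apply]
    conv_lhs => rw [show α x = x * (x⁻¹ * α x) by rw [mul_inv_cancel_left]]
    rw [map_mul, ker_fix (mem_ker_ind.1 hα) (mem_center.1 hc)]
    have := inv_iff.2 (mem_center.1 hc)
    calc α x * (x⁻¹ * α x) = x * ((x⁻¹ * α x) * (x⁻¹ * α x)) := by group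
      _ = x := by rw [this, mul_one]
  · rw [← (indHom (F := F) (q := q)).ker.card_mul_index, Subgroup.index_ker, card_range hq, card_ker hq]

theorem pCore_congr {P P' : Type*} [Group P] [Group P'] (e : P ≃* P') :
    (Cfsg.pCore 2 P).map e.toMonoidHom = Cfsg.pCore 2 P' := by
  refine le_antisymm ?_ ?_
  · rw [Cfsg.pCore, Subgroup.map_le_iff_le_comap]
    refine sSup_le ?_
    rintro N ⟨hN, hP⟩
    rw [← Subgroup.map_le_iff_le_comap]
    exact le_sSup ⟨hN.map _ e.surjective, hP.map _⟩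
  · refine sSup_le ?_
    rintro N ⟨hN, hP⟩
    have h1 : N = (N.comap e.toMonoidHom).map e.toMonoidHom :=
      (Subgroup.map_comap_eq_self_of_surjective e.surjective N).symm
    rw [h1]
    exact Subgroup.map_mono (le_sSup ⟨hN.comap _, hP.comap_of_injective _ e.injective⟩)

theorem aut_structure_of_iso {n : ℕ} (hn : 1 ≤ n) (hq : q = 2 ^ n) {S : Type*} [Group S] (e : S ≃* U F q) :
    Cfsg.IsElementaryAbelian 2 (Cfsg.pCore 2 (MulAut S)) ∧
      Nat.card (Cfsg.pCore 2 (MulAut S)) = 2 ^ (2 * n ^ 2) ∧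
      Nat.card (MulAut S) = 2 ^ (2 * n ^ 2) * (2 * n * (q ^ 2 - 1)) := by
  obtain ⟨⟨hc, hs⟩, h1, h2⟩ := aut_structure (F := F) hn hq
  obtain ⟨E, hE⟩ : ∃ E, E = MulAut.congr e := ⟨_, rfl⟩
  have hmap := pCore_congr E
  have hmem : ∀ x ∈ Cfsg.pCore 2 (MulAut S), E x ∈ Cfsg.pCore 2 (MulAut (U F q)) :=
    fun x hx => hmap ▸ Subgroup.mem_map_of_mem _ hx
  refine ⟨⟨⟨⟨fun a b => Subtype.ext (E.injective ?_)⟩⟩, fun a ha => E.injective ?_⟩, ?_, ?_⟩
  · show E (a.1 * b.1) = E (b.1 * a.1)
    rw [map_mul, map_mul]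
    exact congrArg Subtype.val (hc.1.1 ⟨_, hmem _ a.2⟩ ⟨_, hmem _ b.2⟩)
  · rw [map_pow, map_one]; exact hs _ (hmem _ ha)
  · rw [← h1, ← hmap]
    exact Nat.card_congr (Subgroup.equivMapOfInjective _ _ E.injective).toEquiv
  · rw [Nat.card_congr E.toEquiv, h2]

end CfsgLib.Lie.SUThreeSylow
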