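import Cfsg.Agent.Lie.SUThreeTransfer
import Mathlib.GroupTheory.GroupAction.Basic

/-!
The automorphism group of the Sylow 2-subgroup of U3(4) has no subgroup isomorphic to S3.
-/

set_option autoImplicit false
set_option linter.unusedSimpArgs false
set_option linter.unusedSectionVars false
set_option linter.style.haveILetI false

namespace CfsgLib.Lie.SUThreeSylow

open scoped commutatorElement

variable {F : Type*} [Field F] [Fintype F] [CharP F 2] {q : ℕ} [hF : Fact (Fintype.card F = q ^ 2)]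

theorem comm_b (x y : U F q) : ⁅x, y⁆.b = x.a * y.a ^ q + y.a * x.a ^ q := by
  simp only [commutatorElement_def, mul_b, mul_a, inv_a, inv_b, addq]
  linear_combination (x.b + y.b + x.a * x.a ^ q + y.a * y.a ^ q + y.a * x.a ^ q) * (CharTwo.two_eq_zero (R := F))

theorem comm_central (x y : U F q) : ⁅x, y⁆ ∈ Subgroup.center (U F q) := mem_center.2 (comm_a x y)

theorem comm_mul_left (x y z : U F q) : ⁅x * y, z⁆ = ⁅x, z⁆ * ⁅y, z⁆ := by
  refine U.ext (by rw [mul_a, comm_a, comm_a, comm_a, add_zero]) ?_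
  rw [mul_b, comm_a, comm_b, comm_b, comm_b, comm_a, mul_a, addq]
  ring

theorem comm_mul_right (x y z : U F q) : ⁅x, y * z⁆ = ⁅x, y⁆ * ⁅x, z⁆ := by
  refine U.ext (by rw [mul_a, comm_a, comm_a, comm_a, add_zero]) ?_
  rw [mul_b, comm_a, comm_b, comm_b, comm_b, comm_a, mul_a, addq]
  ring

theorem comm_symm (x y : U F q) : ⁅x, y⁆ = ⁅y, x⁆ := by
  refine U.ext (by rw [comm_a, comm_a]) ?_
  rw [comm_b, comm_b, add_comm]

theorem sq_mul (x y : U F q) : x * y * (x * y) = x * x * (y * y) * ⁅x, y⁆ := by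
  refine U.ext (by
    rw [(sq_eq _).1, mul_a, mul_a (x * x), (sq_eq _).1, (sq_eq _).1, comm_a, add_zero, add_zero]) ?_
  rw [(sq_eq _).2, mul_b, comm_a, mul_b, (sq_eq _).1, (sq_eq _).2, (sq_eq _).2, comm_b, mul_a, addq]
  ring

theorem comm_onto {u w : U F q} (hu : u.a ≠ 0) (hw : w.a = 0) : ∃ v, ⁅u, v⁆ = w := by
  obtain ⟨μ, hμ⟩ := exists_fixed_sum (F := F) (q := q) (fixed_of_a hw)
  obtain ⟨y, hy⟩ := exists_mk (F := F) (q := q) ((μ / u.a) ^ q)
  refine ⟨y, U.ext ((comm_a u y).trans hw.symm) ?_⟩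
  rw [comm_b, hy, qq, mul_div_cancel₀ _ hu, ← mul_pow, div_mul_cancel₀ _ hu, hμ]

theorem card_roots {w : U F q} (hw : w.a = 0) (hb : w.b ≠ 0) :
    Nat.card {x : U F q // x * x = w} = (q + 1) * q := by
  obtain ⟨a₀, ha₀, ha⟩ := Herm.exists_norm hF.out w.b hb (fixed_of_a hw)
  choose f hf using exists_mk (F := F) (q := q)
  refine Eq.trans ?_ (congrArg₂ (· * ·) (Unitary.card_N1 hF.out) (card_fixed (F := F) (q := q)))
  refine Eq.trans ?_ (Nat.card_prod _ _)
  have hiff : ∀ x : U F q, x * x = w ↔ x.a * x.a ^ q = w.b := fun x =>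
    ⟨fun h => by rw [← h, (sq_eq x).2], fun h => U.ext ((sq_eq x).1.trans hw.symm) ((sq_eq x).2.trans h)⟩
  exact Nat.card_congr
    { toFun := fun x => (⟨Units.mk0 (x.1.a / a₀) (div_ne_zero (fun h => hb (by
          rw [← (hiff x.1).1 x.2, h, zero_mul])) ha₀), Unitary.mem_N1.2 (Units.ext (by
            rw [Units.val_pow_eq_pow_val, Units.val_mk0, Units.val_one, pow_succ', div_pow, div_mul_div_comm,
              (hiff x.1).1 x.2, ← ha, div_self (mul_ne_zero ha₀ (pow_ne_zero _ ha₀))]))⟩,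
        ⟨x.1.b + (f x.1.a).b, by
          have h1 := x.1.h; have h2 := (f x.1.a).h; rw [hf] at h2
          rw [addq]
          linear_combination h1 + h2 - (x.1.b + (f x.1.a).b) * (CharTwo.two_eq_zero (R := F))
            + x.1.a * x.1.a ^ q * (CharTwo.two_eq_zero (R := F))⟩)
      invFun := fun p => ⟨⟨((p.1 : Fˣ) : F) * a₀, p.2.1 + (f (((p.1 : Fˣ) : F) * a₀)).b, by
          have h2 := (f (((p.1 : Fˣ) : F) * a₀)).h; rw [hf] at h2
          rw [addq, p.2.2]
          linear_combination h2 + p.2.1 * (CharTwo.two_eq_zero (R := F))⟩, (hiff _).2 (by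
          show ((p.1 : Fˣ) : F) * a₀ * (((p.1 : Fˣ) : F) * a₀) ^ q = w.b
          rw [mul_pow, ← ha]
          linear_combination a₀ * a₀ ^ q * Unitary.N1_val p.1.2)⟩
      left_inv := fun x => Subtype.ext (U.ext (by simp [ha₀]) (by simp [ha₀, add_assoc, CharTwo.add_self_eq_zero]))
      right_inv := fun p => Prod.ext (Subtype.ext (Units.ext (by simp [ha₀])))
        (Subtype.ext (by simp [ha₀, add_assoc, CharTwo.add_self_eq_zero])) }

theorem no_three_inverted (hq : q = 4) (σ τ : MulAut (U F q)) (h3 : σ ^ 3 = 1) (hσ : σ ≠ 1)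
    (h2 : τ * τ = 1) (hinv : τ * σ * τ = σ⁻¹) : False := by
  classical
  subst hq
  haveI : Fact (Nat.Prime 3) := ⟨Nat.prime_three⟩
  have hσ3 : ∀ x, σ (σ (σ x)) = x := fun x => by
    simpa [pow_succ, MulAut.mul_apply] using DFunLike.congr_fun h3 x
  have hτ2 : ∀ x, τ (τ x) = x := fun x => by simpa [MulAut.mul_apply] using DFunLike.congr_fun h2 x
  have hτσ : ∀ x, τ (σ x) = σ (σ (τ x)) := fun x => by
    have h4 : τ * σ * τ = σ * σ := by
      rw [hinv]; refine inv_eq_of_mul_eq_one_right ?_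
      rw [← pow_three]; exact h3
    have := DFunLike.congr_fun h4 (τ x)
    simpa [MulAut.mul_apply, hτ2] using this
  have hcen : ∀ (φ : MulAut (U F 4)) x, x ∈ Subgroup.center (U F 4) → φ x ∈ Subgroup.center (U F 4) :=
    fun φ x hx => (mem_center_congr φ x).1 hx
  have hZsq : ∀ x, x * x ∈ Subgroup.center (U F 4) := fun x => mem_center.2 (sq_eq x).1
  have hsq1 : ∀ x : U F 4, x ∉ Subgroup.center (U F 4) → x * x ≠ 1 := fun x hx h =>
    hx (mem_center.2 (inv_iff.1 h))
  have hZ2 : ∀ x, x ∈ Subgroup.center (U F 4) → x * x = 1 := fun x hx => inv_iff.2 (mem_center.1 hx)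
  have hcube : ∀ d : U F 4, d * d * d = 1 → d = 1 := by
    intro d hd
    have hdc : d ∈ Subgroup.center (U F 4) := by
      have h1 := inv_mem (hZsq d)
      rwa [← eq_inv_of_mul_eq_one_right hd] at h1
    rwa [hZ2 d hdc, one_mul] at hd
  -- no fixed non-central element
  have key : ∀ u, σ u = u → u ∉ Subgroup.center (U F 4) →
      (∀ z ∈ Subgroup.center (U F 4), σ z = z) → False := by
    intro u hu huc hZ
    apply hσ
    -- commutators of u with fixed elements exhaust the centre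
    let W : Subgroup (U F 4) :=
      { carrier := {x | σ x = x}
        one_mem' := map_one σ
        mul_mem' := fun {a b} ha hb => by
          show σ (a * b) = a * b
          rw [map_mul, show σ a = a from ha, show σ b = b from hb]
        inv_mem' := fun {a} ha => by show σ a⁻¹ = a⁻¹; rw [map_inv, show σ a = a from ha] }
    have hW : ∀ z ∈ Subgroup.center (U F 4), ∃ v ∈ W, ⁅u, v⁆ = z := by
      intro z hz
      obtain ⟨v, hv⟩ := comm_onto (fun h => huc (mem_center.2 h)) (mem_center.1 hz)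
      have h1 : ∀ t, ⁅u, t⁆ = z → ⁅u, σ t⁆ = z := fun t ht => by
        conv_lhs => rw [← hu]
        rw [← map_commutatorElement, ht, hZ z hz]
      obtain ⟨y, hy⟩ : ∃ y, y = v * σ v * σ (σ v) := ⟨_, rfl⟩
      have hyu : ⁅u, y⁆ = z := by
        rw [hy, comm_mul_right, comm_mul_right, hv, h1 v hv, h1 _ (h1 v hv), hZ2 z hz, one_mul]
      refine ⟨y, ?_, hyu⟩
      have h2 : σ y = y * ⁅y⁻¹, v⁻¹⁆ := by
        rw [commutatorElement_def, inv_inv, inv_inv, hy, map_mul, map_mul, hσ3]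
        group
      obtain ⟨c, hc, hc'⟩ : ∃ c ∈ Subgroup.center (U F 4), σ y = y * c := ⟨_, comm_central _ _, h2⟩
      have h3' := hσ3 y
      rw [hc', map_mul, hZ c hc, hc', map_mul, map_mul, hZ c hc, hc', mul_assoc, mul_assoc,
        mul_eq_left, ← mul_assoc, hZ2 c hc, one_mul] at h3'
      show σ y = y
      rw [hc', h3', mul_one]
    have hindex : ∀ x, σ x = x := by
      let φ : U F 4 →* Subgroup.center (U F 4) :=
        MonoidHom.mk' (fun v => ⟨⁅u, v⁆, comm_central u v⟩) fun a b => Subtype.ext (comm_mul_right u a b)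
      have hφs : Function.Surjective (φ.comp W.subtype) := fun z => by
        obtain ⟨v, hv, hvz⟩ := hW z.1 z.2
        exact ⟨⟨v, hv⟩, Subtype.ext hvz⟩
      have hk1 := (φ.comp W.subtype).ker.card_mul_index
      rw [Subgroup.index_ker, MonoidHom.range_eq_top.2 hφs, Subgroup.card_top, card_center] at hk1
      have hk2 : 5 ≤ Nat.card (φ.comp W.subtype).ker := by
        have hS : Nat.card (Option (Subgroup.center (U F 4))) ≤ Nat.card (φ.comp W.subtype).ker := by
          refine Nat.card_le_card_of_injective (fun o => match o with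
            | none => ⟨⟨u, hu⟩, Subtype.ext (commutatorElement_self u)⟩
            | some z => ⟨⟨z.1, hZ z.1 z.2⟩, Subtype.ext (commutatorElement_eq_one_iff_mul_comm.2
                (Subgroup.mem_center_iff.1 z.2 u))⟩) ?_
          rintro (_ | z) (_ | z') h <;> have h' := congrArg (fun t => t.1.1) h <;> dsimp only at h'
          · rfl
          · exact absurd (h'.symm ▸ z'.2) huc
          · exact absurd (h' ▸ z.2) huc
          · exact congrArg some (Subtype.ext h')
        rw [Finite.card_option, card_center] at hS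
        exact hS
      have hWcard : Nat.card W ∣ 64 := by
        have := Subgroup.card_subgroup_dvd_card W
        rwa [card_U] at this
      have h32 : 32 ≤ Nat.card W := by
        obtain ⟨k, hk, hk'⟩ := (Nat.dvd_prime_pow Nat.prime_two (m := 6)).1 hWcard
        rw [hk'] at hk1 ⊢
        interval_cases k <;> omega
      have hidx : W.index ≤ 2 := by
        have := W.card_mul_index
        rw [card_U] at this
        nlinarith
      intro x
      by_cases hx : x ∈ W
      · exact hx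
      have hσx : σ x ∉ W := fun h => hx (σ.injective h)
      have hd : x⁻¹ * σ x ∈ W := by
        have hi2 : W.index = 2 := by
          have h1 : W.index ≠ 1 := fun h => hx (Subgroup.index_eq_one.1 h ▸ Subgroup.mem_top x)
          have h0 := W.index_ne_zero_of_finite
          omega
        rw [Subgroup.mul_mem_iff_of_index_two hi2, inv_mem_iff]
        exact ⟨fun h => absurd h hx, fun h => absurd h hσx⟩
      obtain ⟨d, hd'⟩ : ∃ d, d = x⁻¹ * σ x := ⟨_, rfl⟩
      have hdW : σ d = d := hd' ▸ hd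
      have hsx : σ x = x * d := by rw [hd', mul_inv_cancel_left]
      have h3' := hσ3 x
      rw [hsx, map_mul, hdW, hsx, map_mul, map_mul, hdW, hsx, mul_assoc, mul_assoc, mul_eq_left] at h3'
      rw [hsx, hcube d (by rw [mul_assoc]; exact h3'), mul_one]
    exact MulEquiv.ext hindex
  -- the action on the centre is fixed point free
  have hfpf : ∀ z ∈ Subgroup.center (U F 4), σ z = z → z = 1 := by
    by_contra hcon
    push Not at hcon
    obtain ⟨z₁, hz₁, hσz₁, hz₁1⟩ := hcon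
    have hall : ∀ z ∈ Subgroup.center (U F 4), σ z = z := by
      intro z hz
      by_contra hne
      let φ : Fin 5 → Subgroup.center (U F 4) := ![1, ⟨z₁, hz₁⟩, ⟨z, hz⟩, ⟨σ z, hcen σ z hz⟩, ⟨σ (σ z), hcen σ _ (hcen σ z hz)⟩]
      have e1 : σ (σ z) ≠ z := fun h => hne (by
        conv_rhs => rw [← hσ3 z]
        rw [h])
      have e2 : σ (σ z) ≠ σ z := fun h => hne (σ.injective h)
      have e3 : z ≠ 1 := fun h => hne (by rw [h, map_one])
      have e4 : z ≠ z₁ := fun h => hne (h ▸ hσz₁)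
      have e5 : σ z ≠ z₁ := fun h => e4 (σ.injective (h.trans hσz₁.symm))
      have e6 : σ (σ z) ≠ z₁ := fun h => e5 (σ.injective (h.trans hσz₁.symm))
      have e7 : σ z ≠ 1 := fun h => e3 (σ.injective (h.trans (map_one σ).symm))
      have e8 : σ (σ z) ≠ 1 := fun h => e7 (σ.injective (h.trans (map_one σ).symm))
      have hinj : Function.Injective φ := by
        intro i j h
        have h' := congrArg Subtype.val h
        fin_cases i <;> fin_cases j <;> simp [φ, hz₁1, Ne.symm hz₁1, e1, e1.symm, e2, e2.symm, e3, e3.symm, e4,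
          e4.symm, e5, e5.symm, e6, e6.symm, e7, e7.symm, e8, e8.symm, hne, Ne.symm hne] at h' ⊢
      have := Nat.card_le_card_of_injective φ hinj
      rw [card_center, Nat.card_eq_fintype_card, Fintype.card_fin] at this
      omega
    let S := {x : U F 4 // x * x = z₁}
    haveI : Fintype S := Fintype.ofFinite S
    let e : Equiv.Perm S := Equiv.Perm.subtypePerm σ.toEquiv (fun x => by
      show σ x * σ x = z₁ ↔ x * x = z₁
      rw [← map_mul]
      exact ⟨fun h => σ.injective (h.trans hσz₁.symm), fun h => by rw [h, hσz₁]⟩)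
    have he : e ^ 3 ^ 1 = 1 := Equiv.ext fun x => Subtype.ext (by
      rw [pow_one, pow_three]
      show σ (σ (σ x.1)) = x.1
      exact hσ3 x.1)
    have hS : ¬ 3 ∣ Fintype.card S := by
      rw [← Nat.card_eq_fintype_card, card_roots (mem_center.1 hz₁) (fun h => hz₁1 (U.ext (mem_center.1 hz₁) h))]
      decide
    obtain ⟨x, hx⟩ := Equiv.Perm.exists_fixed_point_of_prime (p := 3) (n := 1) hS he
    refine key x.1 (congrArg Subtype.val hx) (fun hc => hz₁1 ?_) hall
    rw [← x.2, hZ2 _ hc]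
  -- sums over orbits are central
  have hN : ∀ x, x * σ x * σ (σ x) ∈ Subgroup.center (U F 4) := by
    intro x
    obtain ⟨y, hy⟩ : ∃ y, y = x * σ x * σ (σ x) := ⟨_, rfl⟩
    rw [← hy]
    have h2 : σ y = y * ⁅y⁻¹, x⁻¹⁆ := by
      rw [commutatorElement_def, inv_inv, inv_inv, hy, map_mul, map_mul, hσ3]
      group
    have h3' : σ (y * y) = y * y := by
      have hc := hZ2 _ (comm_central y⁻¹ x⁻¹)
      rw [map_mul, h2, mul_assoc, ← mul_assoc _ y, ← Subgroup.mem_center_iff.1 (comm_central y⁻¹ x⁻¹) y,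
        mul_assoc, hc, mul_one]
    exact mem_center.2 (inv_iff.1 (hfpf _ (hZsq y) h3'))
  have hσσ : ∀ x y, ⁅y, σ (σ x)⁆ = ⁅y, x⁆ * ⁅y, σ x⁆ := fun x y => by
    have h1 : ⁅y, x * σ x * σ (σ x)⁆ = 1 :=
      commutatorElement_eq_one_iff_mul_comm.2 (Subgroup.mem_center_iff.1 (hN x) y)
    rw [comm_mul_right, comm_mul_right] at h1
    rw [eq_inv_of_mul_eq_one_right h1, inv_eq_of_mul_eq_one_right]
    exact hZ2 _ (mul_mem (comm_central _ _) (comm_central _ _))
  -- a fixed point of the involution in the centre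
  let P : Subgroup (U F 4) :=
    { carrier := {x | x⁻¹ * τ x ∈ Subgroup.center (U F 4)}
      one_mem' := by simp
      mul_mem' := fun {a b} ha hb => by
        show (a * b)⁻¹ * τ (a * b) ∈ Subgroup.center (U F 4)
        rw [map_mul, show (a * b)⁻¹ * (τ a * τ b) = b⁻¹ * (a⁻¹ * τ a) * τ b by group,
          Subgroup.mem_center_iff.1 ha, mul_assoc]
        exact mul_mem ha hb
      inv_mem' := fun {a} ha => by
        show (a⁻¹)⁻¹ * τ a⁻¹ ∈ Subgroup.center (U F 4)
        rw [map_inv, inv_inv, show a * (τ a)⁻¹ = a * (a⁻¹ * τ a)⁻¹ * a⁻¹ by group,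
          Subgroup.mem_center_iff.1 (inv_mem ha) a, mul_inv_cancel_right]
        exact inv_mem ha }
  have hcomm : ∀ a b : U F 4 ⧸ Subgroup.center (U F 4), a * b = b * a := by
    intro a b
    obtain ⟨a, rfl⟩ := QuotientGroup.mk'_surjective _ a
    obtain ⟨b, rfl⟩ := QuotientGroup.mk'_surjective _ b
    refine commutatorElement_eq_one_iff_mul_comm.1 ?_
    rw [← map_commutatorElement]
    exact (QuotientGroup.eq_one_iff _).2 (comm_central a b)
  let φ : U F 4 →* U F 4 ⧸ Subgroup.center (U F 4) :=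
    MonoidHom.mk' (fun x => QuotientGroup.mk' _ (x⁻¹ * τ x)) fun a b => by
      show QuotientGroup.mk' _ ((a * b)⁻¹ * τ (a * b)) = QuotientGroup.mk' _ (a⁻¹ * τ a) * QuotientGroup.mk' _ (b⁻¹ * τ b)
      simp only [map_mul, map_inv, mul_inv_rev]
      rw [hcomm ((QuotientGroup.mk' _ b)⁻¹) ((QuotientGroup.mk' _ a)⁻¹), mul_assoc, mul_assoc]
      congr 1
      rw [← mul_assoc, hcomm ((QuotientGroup.mk' _ b)⁻¹), mul_assoc]
  have hker : φ.ker = P := by
    ext x
    exact QuotientGroup.eq_one_iff _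
  have hrange : φ.range ≤ P.map (QuotientGroup.mk' _) := by
    rintro _ ⟨x, rfl⟩
    refine ⟨x⁻¹ * τ x, ?_, rfl⟩
    show (x⁻¹ * τ x)⁻¹ * τ (x⁻¹ * τ x) ∈ Subgroup.center (U F 4)
    rw [map_mul, map_inv, hτ2, show (x⁻¹ * τ x)⁻¹ * ((τ x)⁻¹ * x) = ((x⁻¹ * τ x) * (x⁻¹ * τ x))⁻¹ *
      (x⁻¹ * τ x * (τ x)⁻¹ * x) by group]
    simpa using inv_mem (hZsq (x⁻¹ * τ x))
  have hP16 : 16 ≤ Nat.card P := by
    have h1 := φ.ker.card_mul_index
    rw [Subgroup.index_ker, hker, card_U] at h1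
    have h2 : Nat.card φ.range ≤ Nat.card (P.map (QuotientGroup.mk' (Subgroup.center (U F 4)))) :=
      Subgroup.card_le_of_le hrange
    have hZP : Subgroup.center (U F 4) ≤ P := fun z hz => mul_mem (inv_mem hz) (hcen τ z hz)
    have h3 := ((QuotientGroup.mk' (Subgroup.center (U F 4))).comp P.subtype).ker.card_mul_index
    rw [Subgroup.index_ker, MonoidHom.range_comp, Subgroup.range_subtype, ← MonoidHom.comap_ker,
      QuotientGroup.ker_mk'] at h3
    have h4 : Nat.card ((Subgroup.center (U F 4)).comap P.subtype) = 4 :=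
      (Nat.card_congr (Subgroup.subgroupOfEquivOfLe hZP).toEquiv).trans card_center
    rw [h4] at h3
    nlinarith
  obtain ⟨x, hxP, hx, y, hyP, hy, hxy⟩ : ∃ x ∈ P, x ∉ Subgroup.center (U F 4) ∧ ∃ y ∈ P,
      y ∉ Subgroup.center (U F 4) ∧ x * y ∉ Subgroup.center (U F 4) := by
    obtain ⟨x, hxP, hx⟩ : ∃ x ∈ P, x ∉ Subgroup.center (U F 4) := by
      by_contra h
      push Not at h
      have := Subgroup.card_le_of_le (show P ≤ Subgroup.center (U F 4) from h)
      rw [card_center] at this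
      omega
    by_contra h
    push Not at h
    let ψ : Subgroup.center (U F 4) ⊕ Subgroup.center (U F 4) → U F 4 := Sum.elim (fun z => z.1) (fun z => x * z.1)
    have hsub : ∀ y : P, ∃ s, ψ s = y.1 := by
      intro y
      by_cases hy : y.1 ∈ Subgroup.center (U F 4)
      · exact ⟨.inl ⟨_, hy⟩, rfl⟩
      have h1 := h x hxP hx y.1 y.2 hy
      refine ⟨.inr ⟨x⁻¹ * y.1, ?_⟩, mul_inv_cancel_left x y.1⟩
      have : x⁻¹ * y.1 = (x * x)⁻¹ * (x * y.1) := by group
      rw [this]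
      exact mul_mem (inv_mem (hZsq x)) h1
    choose g hg using hsub
    have := Nat.card_le_card_of_injective g (fun a b hab => Subtype.ext (by rw [← hg a, ← hg b, hab]))
    rw [Nat.card_sum, card_center] at this
    omega
  have hτfix : ∀ a ∈ P, τ (a * a) = a * a := fun a ha => by
    obtain ⟨d, hd'⟩ : ∃ d, d = a⁻¹ * τ a := ⟨_, rfl⟩
    have hd : d ∈ Subgroup.center (U F 4) := hd' ▸ ha
    rw [map_mul, show τ a = a * d by rw [hd', mul_inv_cancel_left], mul_assoc, ← mul_assoc d a,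
      ← Subgroup.mem_center_iff.1 hd a, mul_assoc, hZ2 d hd, mul_one]
  obtain ⟨z₀, hz₀⟩ : ∃ z₀, z₀ = x * x := ⟨_, rfl⟩
  have hz₀c : z₀ ∈ Subgroup.center (U F 4) := hz₀ ▸ hZsq x
  have hz₀1 : z₀ ≠ 1 := hz₀ ▸ hsq1 x hx
  have hcases : ∀ w ∈ Subgroup.center (U F 4), w = 1 ∨ w = z₀ ∨ w = σ z₀ ∨ w = σ (σ z₀) := by
    intro w hw
    by_contra h
    push Not at h
    obtain ⟨g1, g2, g3, g4⟩ := h
    have e2 : σ z₀ ≠ z₀ := fun h => hz₀1 (hfpf _ hz₀c h)
    have e3 : σ (σ z₀) ≠ σ z₀ := fun h => e2 (σ.injective h)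
    have e4 : σ (σ z₀) ≠ z₀ := fun h => e2 (by conv_rhs => rw [← hσ3 z₀]; rw [h])
    have e5 : σ z₀ ≠ 1 := fun h => hz₀1 (σ.injective (h.trans (map_one σ).symm))
    have e6 : σ (σ z₀) ≠ 1 := fun h => e5 (σ.injective (h.trans (map_one σ).symm))
    let ι : Fin 5 → Subgroup.center (U F 4) := ![1, ⟨z₀, hz₀c⟩, ⟨σ z₀, hcen σ _ hz₀c⟩, ⟨σ (σ z₀), hcen σ _ (hcen σ _ hz₀c)⟩, ⟨w, hw⟩]
    have hinj : Function.Injective ι := by
      intro i j h
      have h' := congrArg Subtype.val h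
      fin_cases i <;> fin_cases j <;> simp [ι, hz₀1, Ne.symm hz₀1, e2, e2.symm, e3, e3.symm, e4,
        e4.symm, e5, e5.symm, e6, e6.symm, g1, g1.symm, g2, g2.symm, g3, g3.symm, g4, g4.symm] at h' ⊢
    have := Nat.card_le_card_of_injective ι hinj
    rw [card_center, Nat.card_eq_fintype_card, Fintype.card_fin] at this
    omega
  have hτz₀ : τ z₀ = z₀ := hz₀ ▸ hτfix x hxP
  have e2 : σ z₀ ≠ z₀ := fun h => hz₀1 (hfpf _ hz₀c h)
  have e3 : σ (σ z₀) ≠ σ z₀ := fun h => e2 (σ.injective h)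
  have hz₁τ : τ (σ z₀) = σ (σ z₀) := by rw [hτσ, hτz₀]
  have huniq : ∀ w ∈ Subgroup.center (U F 4), τ w = w → w ≠ 1 → w = z₀ := by
    intro w hw hτw hw1
    rcases hcases w hw with h | h | h | h
    · exact absurd h hw1
    · exact h
    · rw [h, hz₁τ] at hτw; exact absurd hτw e3
    · rw [h, hτσ, hz₁τ, hσ3] at hτw
      exact absurd hτw.symm e3
  have hyy : y * y = z₀ := huniq _ (hZsq y) (hτfix y hyP) (hsq1 y hy)
  have hxyy : x * y * (x * y) = z₀ := huniq _ (hZsq _) (hτfix _ (mul_mem hxP hyP)) (hsq1 _ hxy)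
  have hc0 : ⁅x, y⁆ = z₀ := by
    rw [sq_mul, ← hz₀, hyy, hZ2 z₀ hz₀c, one_mul] at hxyy
    exact hxyy
  have hcr : ∀ a b : U F 4, ∀ c ∈ Subgroup.center (U F 4), ⁅a, b * c⁆ = ⁅a, b⁆ := fun a b c hc => by
    rw [comm_mul_right, commutatorElement_eq_one_iff_mul_comm.2 (Subgroup.mem_center_iff.1 hc a), mul_one]
  have hτd : ∀ a ∈ P, ∀ b, ⁅b, τ a⁆ = ⁅b, a⁆ := fun a ha b => by
    rw [show τ a = a * (a⁻¹ * τ a) by group, hcr b a _ ha]
  have hgen : ∀ a ∈ P, ∀ b ∈ P, ⁅a, b⁆ = z₀ →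
      ⁅a, σ b⁆ = σ z₀ ∨ ⁅a, σ b⁆ = σ (σ z₀) := by
    intro a ha b hb hab
    have hτβ : τ ⁅a, σ b⁆ = z₀ * ⁅a, σ b⁆ := by
      rw [map_commutatorElement, comm_symm, hτd a ha, comm_symm, hτσ, hσσ, hτd b hb, hab]
      congr 1
      rw [show τ b = b * (b⁻¹ * τ b) by group, map_mul, hcr _ _ _ (hcen σ _ hb)]
    rcases hcases _ (comm_central a (σ b)) with h | h | h | h
    · rw [h, map_one, mul_one] at hτβ; exact absurd hτβ.symm hz₀1
    · rw [h, hτz₀, hZ2 _ hz₀c] at hτβ; exact absurd hτβ hz₀1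
    · exact Or.inl h
    · exact Or.inr h
  have hσz1 : σ z₀ ≠ 1 := fun h => hz₀1 (σ.injective (h.trans (map_one σ).symm))
  have hσβ' : σ (σ ⁅y, σ x⁆) = z₀ * ⁅x, σ y⁆ := by
    rw [map_commutatorElement, map_commutatorElement, hσ3, comm_symm, hσσ, hc0]
  have hmul : z₀ * σ z₀ = σ (σ z₀) := by
    rcases hcases _ (mul_mem hz₀c (hcen σ _ hz₀c)) with h | h | h | h
    · refine absurd ?_ e2
      calc σ z₀ = z₀ * z₀ * σ z₀ := by rw [hZ2 _ hz₀c, one_mul]
        _ = z₀ * (z₀ * σ z₀) := mul_assoc _ _ _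
        _ = z₀ := by rw [h, mul_one]
    · exact absurd (mul_eq_left.1 h) hσz1
    · exact absurd (mul_eq_right.1 h) hz₀1
    · exact h
  have hβ : ⁅x, σ y⁆ = σ (σ z₀) := by
    rcases hgen y hyP x hxP (by rw [comm_symm, hc0]) with h | h
    · rw [h, hσ3] at hσβ'
      rcases hgen x hxP y hyP hc0 with h' | h'
      · exact absurd (mul_eq_left.1 (h' ▸ hσβ'.symm)) hσz1
      · exact h'
    · rw [h, hσ3] at hσβ'
      rw [← hmul, hσβ', ← mul_assoc, hZ2 _ hz₀c, one_mul]
  have hw : x * σ y * (x * σ y) = 1 := by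
    rw [sq_mul, ← hz₀, ← map_mul σ y y, hyy, hβ, hmul, hZ2 _ (hcen σ _ (hcen σ _ hz₀c))]
  have h1 : ⁅x, x * σ y⁆ = 1 :=
    commutatorElement_eq_one_iff_mul_comm.2 (Subgroup.mem_center_iff.1 (mem_center.2 (inv_iff.1 hw)) x)
  rw [comm_mul_right, commutatorElement_self, one_mul, hβ] at h1
  exact hσz1 (σ.injective (h1.trans (map_one σ).symm))

end CfsgLib.Lie.SUThreeSylow
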