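import Cfsg.Agent.Lie.SUThreeTransfer
import Cfsg.Agent.Lie.SUThreeNoSThree
import Mathlib.Algebra.Field.Subfield.Basic

/-!
Extensions of the Sylow 2-subgroup of SU3(2^n) by an involutory automorphism fix the centre.
-/

set_option autoImplicit false
set_option linter.unusedSimpArgs false
set_option linter.unusedSectionVars false
set_option linter.style.haveILetI false

namespace CfsgLib.Lie.SUThreeSylow

open scoped commutatorElement

variable {F : Type*} [Field F] [Fintype F] [CharP F 2] {q : ℕ} [hF : Fact (Fintype.card F = q ^ 2)]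

/-- A quadratic equation with coefficients fixed by an involutory automorphism has a root. -/
theorem exists_root {L : Type*} [Field L] [Finite L] [CharP L 2] (g : L →+* L) (hg : ∀ x, g (g x) = x)
    (hne : ∃ x, g x ≠ x) (c : L) (hc : g c = c) : ∃ y : L, y * y + y = c := by
  classical
  let P : L →+ L := AddMonoidHom.mk' (fun y => y * y + y) fun a b => by
    linear_combination a * b * (CharTwo.two_eq_zero (R := L))
  have hk : (P.ker : Set L) = {0, 1} := by
    ext x
    rw [SetLike.mem_coe, AddMonoidHom.mem_ker, Set.mem_insert_iff, Set.mem_singleton_iff]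
    show x * x + x = 0 ↔ _
    constructor
    · intro h
      have h' : x * (x + 1) = 0 := by linear_combination h
      rcases mul_eq_zero.1 h' with h1 | h1
      · exact Or.inl h1
      · exact Or.inr (by linear_combination h1 - (CharTwo.two_eq_zero (R := L)))
    · rintro (rfl | rfl)
      · simp
      · linear_combination (CharTwo.two_eq_zero (R := L))
  have hker : Nat.card P.ker = 2 := by
    have : Nat.card (P.ker : Set L) = 2 := by
      rw [Nat.card_coe_set_eq, hk, Set.ncard_pair (zero_ne_one)]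
    exact this
  have hidx : P.range.index = 2 := by
    have h1 := P.ker.card_mul_index
    rw [AddSubgroup.index_ker, hker] at h1
    have h2 := P.range.card_mul_index
    have h3 : 0 < Nat.card P.range := Nat.card_pos
    nlinarith
  obtain ⟨x, hx⟩ := hne
  obtain ⟨k, hk'⟩ : ∃ k, k = x + g x := ⟨_, rfl⟩
  have hk0 : k ≠ 0 := fun h => hx (by linear_combination h - hk' - x * (CharTwo.two_eq_zero (R := L)))
  have hgk : g k = k := by rw [hk', map_add, hg, add_comm]
  obtain ⟨d, hd⟩ : ∃ d, d = c * x / k := ⟨_, rfl⟩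
  have hdc : d + g d = c := by
    rw [hd, map_div₀, map_mul, hc, hgk, ← add_div, ← mul_add, ← hk', mul_div_cancel_right₀ _ hk0]
  have hinv : ∀ y, y ∈ P.range ↔ g y ∈ P.range := fun y => by
    refine ⟨?_, ?_⟩
    · rintro ⟨t, rfl⟩
      exact ⟨g t, by show g t * g t + g t = g (t * t + t); rw [map_add, map_mul]⟩
    · rintro ⟨t, ht⟩
      exact ⟨g t, by show g t * g t + g t = y; rw [← map_mul, ← map_add, show t * t + t = g y from ht, hg]⟩
  have hmem : d + g d ∈ P.range := (AddSubgroup.add_mem_iff_of_index_two hidx).2 (hinv d)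
  rw [hdc] at hmem
  exact hmem

theorem comm_fix (α : MulAut (U F q)) (hα : ∀ x : U F q, (α (α x)).a = x.a) (z : U F q) (hz : z.a = 0) :
    α z = z := by
  classical
  -- induced maps
  choose f hf using exists_mk (F := F) (q := q)
  obtain ⟨A, hA⟩ : ∃ A : F → F, ∀ a, A a = (α (f a)).a := ⟨_, fun _ => rfl⟩
  have hαa : ∀ x : U F q, x.a = 0 → (α x).a = 0 := fun x hx =>
    mem_center.1 ((mem_center_congr α x).1 (mem_center.2 hx))
  have hAx : ∀ x : U F q, (α x).a = A x.a := fun x => by
    have h1 : ((f x.a)⁻¹ * x).a = 0 := by rw [mul_a, inv_a, hf, CharTwo.add_self_eq_zero]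
    have h2 := hαa _ h1
    rw [map_mul, mul_a, map_inv, inv_a] at h2
    rw [hA]
    linear_combination h2 - (α (f x.a)).a * (CharTwo.two_eq_zero (R := F))
  have hAadd : ∀ a b, A (a + b) = A a + A b := fun a b => by
    conv_lhs => rw [show a + b = (f a * f b).a by rw [mul_a, hf, hf]]
    rw [← hAx, map_mul, mul_a, hAx, hAx, hf, hf]
  have hAA : ∀ a, A (A a) = a := fun a => by
    have := hα (f a)
    rwa [hAx, hAx, hf] at this
  have hcz : ∀ c : F, c ^ q = c → ∃ x : U F q, x.a = 0 ∧ x.b = c := fun c hc =>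
    ⟨⟨0, c, by rw [hc, zero_mul, CharTwo.add_self_eq_zero]⟩, rfl, rfl⟩
  have hq0 := q0 F (q := q)
  obtain ⟨T, hT⟩ : ∃ T : F → F, ∀ x : U F q, x.a = 0 → (α x).b = T x.b := by
    refine ⟨fun c => if h : c ^ q = c then (α (hcz c h).choose).b else 0, fun x hx => ?_⟩
    simp only [dif_pos (fixed_of_a hx)]
    have h := (hcz x.b (fixed_of_a hx)).choose_spec
    rw [show (hcz x.b (fixed_of_a hx)).choose = x from U.ext (h.1.trans hx.symm) h.2]
  have hN : ∀ a, T (a * a ^ q) = A a * A a ^ q := fun a => by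
    have h1 := hT _ (sq_eq (f a)).1
    rw [(sq_eq (f a)).2, map_mul, (sq_eq _).2, hAx, hf] at h1
    exact h1.symm
  have hB : ∀ a b, T (a * b ^ q + b * a ^ q) = A a * A b ^ q + A b * A a ^ q := fun a b => by
    have h1 := hT _ (comm_a (f a) (f b))
    rw [map_commutatorElement, comm_b, comm_b, hAx, hAx, hf, hf] at h1
    exact h1.symm
  by_contra hne
  have hTz : T z.b ≠ z.b := fun h => hne (U.ext ((hαa z hz).trans hz.symm) ((hT z hz).trans h))
  have hzb := fixed_of_a hz
  obtain ⟨a₀, ha₀⟩ : ∃ a, A a ≠ a := by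
    by_contra h
    push Not at h
    obtain ⟨a, ha⟩ := SUStab.exists_norm' hF.out z.b hzb
    exact hTz (by rw [← ha, hN, h])
  obtain ⟨u, hu⟩ : ∃ u, u = a₀ + A a₀ := ⟨_, rfl⟩
  have hu0 : u ≠ 0 := fun h => ha₀ (by linear_combination h - hu - a₀ * (CharTwo.two_eq_zero (R := F)))
  have hAu : A u = u := by rw [hu, hAadd, hAA, add_comm]
  obtain ⟨w, hAw, β, hβ, hβ0⟩ : ∃ w, A w = w ∧ ∃ β, β = u * w ^ q + w * u ^ q ∧ β ≠ 0 := by
    obtain ⟨μ, hμ⟩ := exists_fixed_sum (F := F) (q := q) hzb
    obtain ⟨b, hb⟩ : ∃ b, b = (μ / u) ^ q := ⟨_, rfl⟩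
    have hBb : u * b ^ q + b * u ^ q = z.b := by
      rw [hb, qq, mul_div_cancel₀ _ hu0, ← mul_pow, div_mul_cancel₀ _ hu0, hμ]
    refine ⟨b + A b, by rw [hAadd, hAA, add_comm], _, rfl, fun h => hTz ?_⟩
    have h1 := hB u b
    rw [hBb, hAu] at h1
    rw [addq] at h
    linear_combination h1 + h - hBb - z.b * (CharTwo.two_eq_zero (R := F))
  have hβq : β ^ q = β := by rw [hβ, addq, mul_pow, mul_pow, qq, qq]; ring
  let L : Subfield F := RingHom.eqLocusField (Herm.conj hF.out) (RingHom.id F)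
  have hL : ∀ x : F, x ∈ L ↔ x ^ q = x := fun x => Iff.rfl
  haveI : CharP L 2 := L.toSubring.subtype.charP Subtype.val_injective 2
  haveI : Finite L := Finite.of_injective _ Subtype.val_injective
  have hB0 : ∀ v, A v = v → ∀ t : F, t ^ q = t →
      v * (A (t * v)) ^ q + A (t * v) * v ^ q = 0 := fun v hv t ht => by
    have h0 : T 0 = 0 := by
      have := hT 1 rfl
      rwa [map_one, one_b, eq_comm] at this
    have h1 := hB v (t * v)
    rw [hv, mul_pow, ht, show v * (t * v ^ q) + t * v * v ^ q = 0 by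
      linear_combination t * v * v ^ q * (CharTwo.two_eq_zero (R := F)), h0] at h1
    exact h1.symm
  have hline : ∀ v, v ≠ 0 → A v = v → ∀ t : L, ∃ s : L, A ((t : F) * v) = (s : F) * v := by
    intro v hv0 hv t
    refine ⟨⟨A ((t : F) * v) / v, (hL _).2 ?_⟩, by rw [div_mul_cancel₀ _ hv0]⟩
    have h := hB0 v hv t ((hL _).1 t.2)
    rw [div_pow, div_eq_div_iff (pow_ne_zero _ hv0) hv0]
    linear_combination h - A ((t : F) * v) * v ^ q * (CharTwo.two_eq_zero (R := F))
  have hw0 : w ≠ 0 := fun h => hβ0 (by rw [hβ, h, zero_pow hq0]; ring)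
  choose g hg using hline u hu0 hAu
  choose h hh using hline w hw0 hAw
  have hval : ∀ t s : L, T ((t : F) * s * β) = (g t : F) * (h s : F) * β := fun t s => by
    have e := hB ((t : F) * u) ((s : F) * w)
    rw [hg, hh] at e
    simp only [mul_pow, (hL _).1 t.2, (hL _).1 s.2, (hL _).1 (g t).2, (hL _).1 (h s).2] at e
    rw [hβ]
    convert e using 1
    · congr 1; ring
    · ring
  have hg1 : g 1 = 1 := by
    apply Subtype.ext
    have := hg 1
    rw [OneMemClass.coe_one, one_mul, hAu] at this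
    exact (mul_right_cancel₀ hu0 ((one_mul u).trans this)).symm
  have hh1 : h 1 = 1 := by
    apply Subtype.ext
    have := hh 1
    rw [OneMemClass.coe_one, one_mul, hAw] at this
    exact (mul_right_cancel₀ hw0 ((one_mul w).trans this)).symm
  have hT1 : ∀ t : L, T ((t : F) * β) = (g t : F) * β := fun t => by
    have := hval t 1
    rwa [OneMemClass.coe_one, mul_one, hh1, OneMemClass.coe_one, mul_one] at this
  have hgh : ∀ t, h t = g t := fun t => by
    have h1 := hval 1 t
    rw [OneMemClass.coe_one, one_mul, hg1, OneMemClass.coe_one, one_mul, hT1] at h1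
    exact Subtype.ext (mul_right_cancel₀ hβ0 h1).symm
  let G : L →+* L :=
    { toFun := g
      map_one' := hg1
      map_mul' := fun s t => Subtype.ext (mul_right_cancel₀ hβ0 (by
        have := hval s t
        rw [← MulMemClass.coe_mul, hT1, hgh] at this
        rw [this, MulMemClass.coe_mul]))
      map_zero' := Subtype.ext (mul_right_cancel₀ hu0 (by
        rw [← hg, ZeroMemClass.coe_zero, zero_mul]
        have := hAadd 0 0
        rw [add_zero] at this
        linear_combination -this))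
      map_add' := fun s t => Subtype.ext (mul_right_cancel₀ hu0 (by
        rw [← hg, AddMemClass.coe_add, AddMemClass.coe_add, add_mul, hAadd, hg, hg, add_mul])) }
  have hGG : ∀ t, G (G t) = t := fun t => Subtype.ext (mul_right_cancel₀ hu0 (by
    show ((g (g t) : L) : F) * u = _
    rw [← hg, ← hg, hAA]))
  have hGne : ∃ t, G t ≠ t := by
    refine ⟨⟨z.b / β, (hL _).2 (by rw [div_pow, hzb, hβq])⟩, fun e => hTz ?_⟩
    have := hT1 ⟨z.b / β, (hL _).2 (by rw [div_pow, hzb, hβq])⟩
    rw [show g _ = _ from e] at this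
    simpa [div_mul_cancel₀ _ hβ0] using this
  have hfixN : ∀ v, A v = v → ∃ c : L, (c : F) = v * v ^ q / β ∧ G c = c := fun v hv => by
    have hc : (v * v ^ q / β) ^ q = v * v ^ q / β := by rw [div_pow, mul_pow, qq, hβq]; ring
    refine ⟨⟨_, (hL _).2 hc⟩, rfl, Subtype.ext (mul_right_cancel₀ hβ0 ?_)⟩
    have h1 := hT1 ⟨_, (hL _).2 hc⟩
    simp only [div_mul_cancel₀ _ hβ0, hN, hv] at h1
    show (g _ : F) * β = v * v ^ q / β * β
    rw [← h1]
    exact (div_mul_cancel₀ _ hβ0).symm
  obtain ⟨c₁, hc₁, hGc₁⟩ := hfixN u hAu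
  obtain ⟨c₂, hc₂, hGc₂⟩ := hfixN w hAw
  have hc₁0 : (c₁ : F) ≠ 0 := by rw [hc₁]; exact div_ne_zero (mul_ne_zero hu0 (pow_ne_zero _ hu0)) hβ0
  obtain ⟨y, hy⟩ := exists_root G hGG hGne (c₁ * c₂) (by rw [map_mul, hGc₁, hGc₂])
  obtain ⟨t, ht⟩ : ∃ t : L, t = y / c₁ := ⟨_, rfl⟩
  have hy' : (y : F) * y + y = c₁ * c₂ := by
    have := congrArg (Subtype.val : L → F) hy
    simpa using this
  have htF : (t : F) = y / c₁ := by rw [ht]; simp
  have hroot : (t : F) * t * c₁ + t + c₂ = 0 := by
    rw [htF]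
    field_simp
    linear_combination hy' + (c₁ : F) * c₂ * (CharTwo.two_eq_zero (R := F))
  have hzero : ((t : F) * u + w) * ((t : F) * u + w) ^ q = 0 := by
    rw [addq, mul_pow, (hL _).1 t.2]
    rw [hc₁, hc₂] at hroot
    field_simp at hroot
    linear_combination hroot - (t : F) * hβ
  have htw : (t : F) * u + w = 0 :=
    (mul_eq_zero.1 hzero).elim id fun h => (pow_eq_zero_iff hq0).1 h
  apply hβ0
  rw [hβ, show w = (t : F) * u by linear_combination htw - (t : F) * u * (CharTwo.two_eq_zero (R := F)),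
    mul_pow, (hL _).1 t.2]
  linear_combination (t : F) * u * u ^ q * (CharTwo.two_eq_zero (R := F))

/-- Sylow 2-subgroups of SU3 as well. -/
theorem exists_iso_SU {n : ℕ} (hn : 2 ≤ n) (hq : q = 2 ^ n) (P : Sylow 2 (Cfsg.SU 3 F q)) :
    Nonempty (↥(P : Subgroup (Cfsg.SU 3 F q)) ≃* U F q) := by
  haveI : Fact (Nat.Prime 2) := ⟨Nat.prime_two⟩
  let π := QuotientGroup.mk' (Subgroup.center (Cfsg.SU 3 F q))
  have hinj : Function.Injective (π.comp (P : Subgroup (Cfsg.SU 3 F q)).subtype) := by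
    refine (injective_iff_map_eq_one _).2 fun x hx => Subtype.ext ?_
    obtain ⟨k, hk⟩ := P.2 x
    have hk' : (x : Cfsg.SU 3 F q) ^ 2 ^ k = 1 := congrArg Subtype.val hk
    have hxc : (x : Cfsg.SU 3 F q) ∈ Subgroup.center (Cfsg.SU 3 F q) := (QuotientGroup.eq_one_iff _).1 hx
    have h1 : orderOf (x : Cfsg.SU 3 F q) ∣ Nat.gcd 3 (q + 1) := by
      rw [← Unitary.card_center_SU (n := 3) hF.out (by omega), ← Subgroup.orderOf_mk (x : Cfsg.SU 3 F q) hxc]
      exact orderOf_dvd_natCard _
    have h2 : orderOf (x : Cfsg.SU 3 F q) ∣ 2 ^ k := orderOf_dvd_of_pow_eq_one hk'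
    have h3 : Nat.Coprime (2 ^ k) 3 := Nat.Coprime.pow_left k (by norm_num)
    exact orderOf_eq_one_iff.1 (Nat.eq_one_of_dvd_coprimes h3 h2 (h1.trans (Nat.gcd_dvd_left _ _)))
  let S := P.mapSurjective (f := π) (QuotientGroup.mk'_surjective _)
  obtain ⟨e⟩ := exists_iso hn hq S
  refine ⟨((MonoidHom.ofInjective hinj).trans (MulEquiv.subgroupCongr ?_)).trans e⟩
  rw [MonoidHom.range_comp, Subgroup.range_subtype]
  rfl

theorem center_le_of_index_two {R : Type*} [Group R] (S' : Subgroup R) (hidx : S'.index = 2)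
    (e : S' ≃* U F q) : (Subgroup.center ↥S').map S'.subtype ≤ Subgroup.center R := by
  rintro _ ⟨z, hz, rfl⟩
  haveI := Subgroup.normal_of_index_eq_two hidx
  rw [Subgroup.mem_center_iff]
  have hS : ∀ s : S', (s : R) * (z : R) = (z : R) * (s : R) := fun s =>
    congrArg Subtype.val (Subgroup.mem_center_iff.1 hz s)
  intro r
  by_cases hr : r ∈ S'
  · exact hS ⟨r, hr⟩
  let α : MulAut (U F q) := MulAut.congr e (MulAut.conjNormal r)
  have hr2 : r * r ∈ S' := (Subgroup.mul_mem_iff_of_index_two hidx).2 Iff.rfl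
  have hα : ∀ x : U F q, (α (α x)).a = x.a := fun x => by
    have h1 : MulAut.conjNormal r (MulAut.conjNormal r (e.symm x)) =
        (⟨r * r, hr2⟩ : S') * e.symm x * (⟨r * r, hr2⟩ : S')⁻¹ := Subtype.ext (by
      simp only [MulAut.conjNormal_apply, Subgroup.coe_mul, Subgroup.coe_inv]
      group)
    show (e (MulAut.conjNormal r (e.symm (e (MulAut.conjNormal r (e.symm x)))))).a = x.a
    rw [MulEquiv.symm_apply_apply, h1, map_mul, map_mul, map_inv, MulEquiv.apply_symm_apply, mul_a, mul_a, inv_a]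
    linear_combination (e ⟨r * r, hr2⟩).a * (CharTwo.two_eq_zero (R := F))
  have hfix := comm_fix α hα (e z) (mem_center.1 ((mem_center_congr e z).1 hz))
  have hfix' : MulAut.conjNormal r z = z := e.injective (by
    have h2 : e (MulAut.conjNormal r (e.symm (e z))) = e z := hfix
    rwa [MulEquiv.symm_apply_apply] at h2)
  have h3 := congrArg Subtype.val hfix'
  rw [MulAut.conjNormal_apply] at h3
  exact mul_inv_eq_iff_eq_mul.1 h3

end CfsgLib.Lie.SUThreeSylow
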