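import Cfsg.Agent.Lie.SUSimple
import Cfsg.Agent.Fus.QdGroup
import Cfsg.Prelude.Def_LocalEven
import Mathlib.GroupTheory.Sylow

/-!
Qd(p) is not a section of PSU3 in characteristic p.
-/

set_option autoImplicit false
set_option linter.unusedSimpArgs false
set_option linter.unusedSectionVars false
set_option linter.style.haveILetI false

namespace CfsgLib.Lie.SUThreeQd

open Matrix
open CfsgLib.Lie.Herm (form_add_left form_add_right form_smul_left form_smul_right form_comm)
open CfsgLib.Lie.SUFull (form_eq_zero_symm form_zero_left)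
open CfsgLib.Lie.SUGen (form_sub_left)
open CfsgLib.Lie.SUSimple (toG act form_act act_smul)

variable {F : Type*} [Field F] [Fintype F] {q : ℕ} {p : ℕ} [Fact p.Prime] [CharP F p]

local notation "𝐆" => Cfsg.SU 3 F q
local notation "𝐕" => Fin 3 → F

theorem act_mul (g h : 𝐆) (v : 𝐕) : act (g * h) v = act g (act h v) := by
  rw [act, map_mul, Units.val_mul, ← Matrix.mulVec_mulVec]

theorem act_one (v : 𝐕) : act (1 : 𝐆) v = v := by rw [act, map_one, Units.val_one, Matrix.one_mulVec]

theorem act_add (g : 𝐆) (u v : 𝐕) : act g (u + v) = act g u + act g v := Matrix.mulVec_add _ _ _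

/-- the action on vectors -/
@[instance_reducible]
noncomputable def vecAction : MulAction (Cfsg.SU 3 F q) (Fin 3 → F) where
  smul g v := act g v
  one_smul := act_one
  mul_smul := act_mul

attribute [local instance] vecAction

theorem exists_fixed_iso (hF : Fintype.card F = q ^ 2) (P : Subgroup 𝐆) (hP : IsPGroup p P) (hne : P ≠ ⊥) :
    ∃ v : 𝐕, v ≠ 0 ∧ Cfsg.hermForm 3 F q v v = 0 ∧ ∀ g ∈ P, act g v = v := by
  classical
  let W : Submodule F 𝐕 :=
    { carrier := {v | ∀ g ∈ P, act g v = v}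
      zero_mem' := fun g _ => Matrix.mulVec_zero _
      add_mem' := fun {u v} hu hv g hg => by rw [act_add, hu g hg, hv g hg]
      smul_mem' := fun a v hv g hg => by rw [act_smul, hv g hg] }
  let K := SUStab.perp hF W
  have hinv : ∀ g ∈ P, ∀ v ∈ K, act g v ∈ K := fun g hg v hv => by
    rw [SUStab.mem_perp hF] at hv ⊢
    intro w hw
    rw [← hw g hg, form_act]
    exact hv w hw
  by_contra hcon
  push Not at hcon
  have hKW : ∀ v ∈ K, v ∈ W → v = 0 := by
    intro v hv hvW
    by_contra h0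
    obtain ⟨g, hg, hne'⟩ := hcon v h0 ((SUStab.mem_perp hF).1 hv v hvW)
    exact hne' (hvW g hg)
  have hK : K = ⊥ := by
    by_contra hK
    letI : MulAction P K :=
      { smul := fun g v => ⟨act g.1 v.1, hinv g.1 g.2 v.1 v.2⟩
        one_smul := fun v => Subtype.ext (act_one v.1)
        mul_smul := fun g h v => Subtype.ext (act_mul g.1 h.1 v.1) }
    have hdvd : p ∣ Nat.card K := by
      obtain ⟨n, -, hn⟩ := FiniteField.card F p
      rw [Module.natCard_eq_pow_finrank (K := F), Nat.card_eq_fintype_card, hn, ← pow_mul]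
      refine dvd_pow_self p (Nat.mul_ne_zero n.ne_zero ?_)
      exact fun h => hK (Submodule.finrank_eq_zero.1 h)
    obtain ⟨v, hv, hv0⟩ := hP.exists_fixed_point_of_prime_dvd_card_of_fixed_point K hdvd (a := 0)
      (fun g => Subtype.ext (show act g.1 (0 : Fin 3 → F) = 0 from Matrix.mulVec_zero _))
    refine hv0 (Subtype.ext (hKW v.1 v.2 fun g hg => congrArg Subtype.val (hv ⟨g, hg⟩)).symm)
  have hW : W = ⊤ := by
    have h := SUStab.finrank_perp hF W
    change Module.finrank F K + _ = _ at h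
    rw [hK, finrank_bot, zero_add] at h
    exact Submodule.eq_top_of_finrank_eq (by rw [h, Module.finrank_fin_fun])
  refine hne (P.eq_bot_iff_forall.2 fun g hg => ?_)
  refine SUSimple.toG_injective (FormMaxSL.gl_ext fun v => ?_)
  have hv : v ∈ W := hW ▸ Submodule.mem_top
  rw [map_one, Units.val_one, Matrix.one_mulVec]
  exact hv g hg

theorem eq_one_of_root {a : F} {k : ℕ} (h : a ^ p ^ k = 1) : a = 1 :=
  iterateFrobenius_inj F p k (by rw [iterateFrobenius_def, iterateFrobenius_def, one_pow, h])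

theorem act_pow_smul {g : 𝐆} {v : 𝐕} {a : F} (h : act g v = a • v) (m : ℕ) :
    act (g ^ m) v = a ^ m • v := by
  induction m with
  | zero => rw [pow_zero, act_one, pow_zero, one_smul]
  | succ m ih => rw [pow_succ, act_mul, h, act_smul, ih, smul_smul, pow_succ, mul_comm]

theorem fixes_of_eigen {g : 𝐆} {k : ℕ} (hk : g ^ p ^ k = 1) {v : 𝐕} (hv : v ≠ 0) {a : F}
    (h : act g v = a • v) : act g v = v := by
  have h1 := act_pow_smul h (p ^ k)
  rw [hk, act_one] at h1
  have h2 : a ^ p ^ k = 1 := smul_left_injective F hv (h1.symm.trans (one_smul F v).symm)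
  rw [h, eq_one_of_root h2, one_smul]

theorem unique_fixed (hF : Fintype.card F = q ^ 2) {g : 𝐆} {k : ℕ} (hk : g ^ p ^ k = 1) (hg : g ≠ 1)
    {u w : 𝐕} (hu : u ≠ 0) (hw : w ≠ 0) (huu : Cfsg.hermForm 3 F q u u = 0)
    (hww : Cfsg.hermForm 3 F q w w = 0) (hgu : act g u = u) (hgw : act g w = w) : ∃ a : F, w = a • u := by
  classical
  by_contra hne
  push Not at hne
  let S := Submodule.span F {u, w}
  have hS : Module.finrank F S = 2 := by
    have hli : LinearIndependent F ![u, w] :=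
      (LinearIndependent.pair_iff' hu).2 fun a h => hne a h.symm
    have e : S = Submodule.span F (Set.range ![u, w]) := by
      simp [S, Matrix.range_cons, Matrix.range_empty, Set.pair_comm]
    rw [e, finrank_span_eq_card hli, Fintype.card_fin]
  have hperp := SUStab.finrank_perp hF S
  have huw : Cfsg.hermForm 3 F q u w ≠ 0 := by
    intro h
    have hle : S ≤ SUStab.perp hF S := by
      intro x hx
      rw [SUStab.mem_perp hF]
      intro y hy
      obtain ⟨a, b, rfl⟩ := Submodule.mem_span_pair.1 hx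
      obtain ⟨c, d, rfl⟩ := Submodule.mem_span_pair.1 hy
      simp [form_add_left, form_add_right hF, form_smul_left, form_smul_right, huu, hww, h, form_eq_zero_symm hF h]
    have := Submodule.finrank_mono hle
    omega
  have hwu : Cfsg.hermForm 3 F q w u ≠ 0 := fun h => huw (form_eq_zero_symm hF h)
  apply hg
  refine SUSimple.toG_injective (FormMaxSL.gl_ext fun x => ?_)
  rw [map_one, Units.val_one, Matrix.one_mulVec]
  show act g x = x
  obtain ⟨r, hr⟩ : ∃ r, r = x - (Cfsg.hermForm 3 F q x w / Cfsg.hermForm 3 F q u w) • u -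
      (Cfsg.hermForm 3 F q x u / Cfsg.hermForm 3 F q w u) • w := ⟨_, rfl⟩
  have hrS : r ∈ SUStab.perp hF S := by
    rw [SUStab.mem_perp hF]
    intro y hy
    obtain ⟨c, d, rfl⟩ := Submodule.mem_span_pair.1 hy
    rw [form_add_right hF, form_smul_right, form_smul_right, hr, form_sub_left, form_sub_left, form_sub_left,
      form_sub_left, form_smul_left, form_smul_left, form_smul_left, form_smul_left, huu, hww,
      div_mul_cancel₀ _ huw, div_mul_cancel₀ _ hwu]
    ring
  have hgr : act g r = r := by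
    by_cases hr0 : r = 0
    · rw [hr0]; exact Matrix.mulVec_zero _
    have hgrS : act g r ∈ SUStab.perp hF S := by
      rw [SUStab.mem_perp hF]
      intro y hy
      obtain ⟨c, d, rfl⟩ := Submodule.mem_span_pair.1 hy
      rw [show c • u + d • w = act g (c • u + d • w) by rw [act_add, act_smul, act_smul, hgu, hgw], form_act]
      exact (SUStab.mem_perp hF).1 hrS _ hy
    have h1 : Module.finrank F (SUStab.perp hF S) = 1 := by omega
    obtain ⟨a, ha⟩ := (finrank_eq_one_iff_of_nonzero' ⟨r, hrS⟩ (fun h => hr0 (congrArg Subtype.val h))).1 h1 ⟨_, hgrS⟩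
    exact fixes_of_eigen hk hr0 (congrArg Subtype.val ha).symm
  have hx : x = r + (Cfsg.hermForm 3 F q x w / Cfsg.hermForm 3 F q u w) • u +
      (Cfsg.hermForm 3 F q x u / Cfsg.hermForm 3 F q w u) • w := by rw [hr]; abel
  rw [hx, act_add, act_add, act_smul, act_smul, hgr, hgu, hgw]

theorem fixer_pgroup (hF : Fintype.card F = q ^ 2) {u : 𝐕} (hu : u ≠ 0)
    (huu : Cfsg.hermForm 3 F q u u = 0) {g : 𝐆} (hgu : act g u = u) : g ^ p ^ 2 = 1 := by
  classical
  obtain ⟨w, hww, huw⟩ := SUSimple.exists_partner hF hu huu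
  have hwu : Cfsg.hermForm 3 F q w u = 1 := by rw [← form_comm hF u w, huw, one_pow]
  obtain ⟨e, heK, he⟩ := SUStab.exists_aniso_perp hF (W := Submodule.span F {u, w}) (fun x hx hxp => by
      obtain ⟨a, b, rfl⟩ := Submodule.mem_span_pair.1 hx
      have h1 := (SUStab.mem_perp hF).1 hxp u (Submodule.subset_span (by simp))
      have h2 := (SUStab.mem_perp hF).1 hxp w (Submodule.subset_span (by simp))
      simp [form_add_left, form_smul_left, huu, hww, huw, hwu] at h1 h2
      simp [h1, h2]) _ le_rfl (by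
      have h1 := SUStab.finrank_perp hF (Submodule.span F {u, w})
      have h2 := FormMaxSL.finrank_pair_le u w
      omega)
  have heu := (SUStab.mem_perp hF).1 heK u (Submodule.subset_span (by simp))
  have hew := (SUStab.mem_perp hF).1 heK w (Submodule.subset_span (by simp))
  have hue := form_eq_zero_symm hF heu
  have hwe := form_eq_zero_symm hF hew
  obtain ⟨B, hB⟩ : ∃ B : Matrix (Fin 3) (Fin 3) F, B = Matrix.of fun i j => ![u, e, w] j i := ⟨_, rfl⟩
  have hBv : ∀ c : 𝐕, B *ᵥ c = c 0 • u + c 1 • e + c 2 • w := fun c => by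
    funext i
    simp [hB, Matrix.mulVec, dotProduct, Fin.sum_univ_three, mul_comm]
  have hBdet : B.det ≠ 0 := fun h => by
    obtain ⟨c, hc0, hc⟩ := Matrix.exists_mulVec_eq_zero_iff.2 h
    rw [hBv] at hc
    have h0 := congrArg (fun v => Cfsg.hermForm 3 F q v w) hc
    have h1 := congrArg (fun v => Cfsg.hermForm 3 F q v e) hc
    have h2 := congrArg (fun v => Cfsg.hermForm 3 F q v u) hc
    simp [form_add_left, form_smul_left, huu, hww, huw, hwu, heu, hew, hue, hwe, he, form_zero_left] at h0 h1 h2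
    exact hc0 (funext fun i => by fin_cases i <;> simp [h0, h1, h2])
  have hdec : ∀ x : 𝐕, ∃ a b c : F, x = a • u + b • e + c • w := fun x => by
    have hU : IsUnit B := (Matrix.isUnit_iff_isUnit_det B).2 (isUnit_iff_ne_zero.2 hBdet)
    obtain ⟨c, hc⟩ := Matrix.mulVec_surjective_iff_isUnit.2 hU x
    exact ⟨c 0, c 1, c 2, by rw [← hBv, hc]⟩
  obtain ⟨a₁, ν, c₁, hge⟩ := hdec (act g e)
  obtain ⟨a₂, b₂, c₂, hgw⟩ := hdec (act g w)
  have hc₁ : c₁ = 0 := by
    have h := form_act g e u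
    rw [hgu, hge, heu] at h
    simpa [form_add_left, form_smul_left, huu, heu, hwu] using h
  have hc₂ : c₂ = 1 := by
    have h := form_act g w u
    rw [hgu, hgw, hwu] at h
    simpa [form_add_left, form_smul_left, huu, heu, hwu] using h
  obtain ⟨T, hT⟩ : ∃ T : Matrix (Fin 3) (Fin 3) F, T = !![1, a₁, a₂; 0, ν, b₂; 0, 0, 1] := ⟨_, rfl⟩
  obtain ⟨A, hA⟩ : ∃ A : Matrix (Fin 3) (Fin 3) F, A = (toG g : Matrix (Fin 3) (Fin 3) F) := ⟨_, rfl⟩
  have hAB : A * B = B * T := by
    refine Matrix.ext_of_mulVec_single fun i => ?_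
    rw [← Matrix.mulVec_mulVec, ← Matrix.mulVec_mulVec, hBv, hBv, hA]
    show act g _ = _
    rw [act_add, act_add, act_smul, act_smul, act_smul, hgu, hge, hgw, hc₁, hc₂]
    fin_cases i <;> simp [hT, Matrix.mulVec, dotProduct, Fin.sum_univ_three]
  have hν : ν = 1 := by
    have h := congrArg Matrix.det hAB
    rw [Matrix.det_mul, Matrix.det_mul, hA, show ((toG g : GL (Fin 3) F) : Matrix (Fin 3) (Fin 3) F).det = 1 from g.1.2,
      one_mul, show T.det = ν by rw [hT, Matrix.det_fin_three]; simp] at h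
    exact mul_left_cancel₀ hBdet (by linear_combination -h)
  have hT3 : (T - 1) ^ 3 = 0 := by
    rw [hT, hν]
    ext i j
    fin_cases i <;> fin_cases j <;> simp [pow_three, Matrix.mul_apply, Fin.sum_univ_three]
  have hA3 : (A - 1) ^ 3 = 0 := by
    have h1 : (A - 1) * B = B * (T - 1) := by rw [sub_mul, mul_sub, hAB, one_mul, mul_one]
    have h2 : (A - 1) ^ 3 * B = B * (T - 1) ^ 3 := (SemiconjBy.pow_right (show SemiconjBy B (T - 1) (A - 1) from h1.symm) 3).symm
    rw [hT3, mul_zero] at h2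
    have hU : IsUnit B := (Matrix.isUnit_iff_isUnit_det B).2 (isUnit_iff_ne_zero.2 hBdet)
    exact hU.mul_left_eq_zero.1 h2
  refine SUSimple.toG_injective (Units.ext ?_)
  rw [map_pow, Units.val_pow_eq_pow_val, map_one, Units.val_one, ← hA]
  have hp := (Fact.out : p.Prime)
  have h4 : (A - 1) ^ p ^ 2 = 0 := pow_eq_zero_of_le (by have := hp.two_le; nlinarith) hA3
  rwa [sub_pow_char_pow_of_commute _ _ (Commute.one_right _), one_pow, sub_eq_zero] at h4

open CfsgLib.Fus.Qd in
theorem main (hF : Fintype.card F = q ^ 2) (hp : p ≠ 2) :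
    ¬ Cfsg.Involves ↥(Cfsg.qd p) (Cfsg.PSU 3 F q) := by
  classical
  rintro ⟨K, R, hR, ⟨e⟩⟩
  haveI := hR
  let L : Subgroup 𝐆 := K.comap (QuotientGroup.mk' _)
  let ψ₀ : L →* K := ((QuotientGroup.mk' (Subgroup.center 𝐆)).comp L.subtype).codRestrict K fun x => x.2
  have hψ₀ : Function.Surjective ψ₀ := fun y => by
    obtain ⟨x, hx⟩ := QuotientGroup.mk'_surjective (Subgroup.center 𝐆) y.1
    exact ⟨⟨x, show QuotientGroup.mk' _ x ∈ K by rw [hx]; exact y.2⟩, Subtype.ext hx⟩
  let ψ : L →* ↥(Cfsg.qd p) := e.toMonoidHom.comp ((QuotientGroup.mk' (R.subgroupOf K)).comp ψ₀)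
  have hψ : Function.Surjective ψ := e.surjective.comp ((QuotientGroup.mk'_surjective _).comp hψ₀)
  haveI := trans_normal (p := p)
  let L₁ : Subgroup L := (Fus.Qd.trans (p := p)).comap ψ
  have hV : IsPGroup p ↥(Fus.Qd.trans (p := p)) := IsPGroup.of_card card_trans
  obtain ⟨P⟩ : Nonempty (Sylow p L₁) := inferInstance
  let P₁ : Subgroup L := (P : Subgroup L₁).map L₁.subtype
  have himg : P₁.map ψ = Fus.Qd.trans (p := p) := by
    let ψ₁ : L₁ →* Fus.Qd.trans (p := p) := (ψ.comp L₁.subtype).codRestrict _ fun x => x.2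
    have hψ₁ : Function.Surjective ψ₁ := fun y => by
      obtain ⟨x, hx⟩ := hψ y.1
      exact ⟨⟨x, show ψ x ∈ Fus.Qd.trans by rw [hx]; exact y.2⟩, Subtype.ext hx⟩
    let Q := P.mapSurjective (f := ψ₁) hψ₁
    have hQ : (Q : Subgroup (Fus.Qd.trans (p := p))) = ⊤ :=
      Q.is_maximal' (hV.to_subgroup ⊤) le_top |>.symm
    refine le_antisymm ?_ fun y hy => ?_
    · rintro _ ⟨_, ⟨x, -, rfl⟩, rfl⟩
      exact x.2
    · have h1 : (⟨y, hy⟩ : Fus.Qd.trans (p := p)) ∈ (Q : Subgroup (Fus.Qd.trans (p := p))) := hQ ▸ Subgroup.mem_top _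
      obtain ⟨x, hx, hxy⟩ := h1
      exact ⟨x.1, ⟨x, hx, rfl⟩, congrArg Subtype.val hxy⟩
  let M : Subgroup L := Subgroup.normalizer (P₁ : Set L)
  have hM : M.map ψ = ⊤ := by
    have h1 : M ⊔ L₁ = ⊤ := Sylow.normalizer_sup_eq_top P
    have h2 := congrArg (Subgroup.map ψ) h1
    rw [Subgroup.map_sup, Subgroup.map_top_of_surjective _ hψ, Subgroup.map_comap_eq_self_of_surjective hψ,
      ← himg, sup_eq_left.2 (Subgroup.map_mono (f := ψ) (show P₁ ≤ M from Subgroup.le_normalizer))] at h2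
    exact h2
  let P₂ : Subgroup 𝐆 := P₁.map L.subtype
  have hP₂ : IsPGroup p P₂ := ((P.2.map L₁.subtype).map L.subtype)
  have hP₂ne : P₂ ≠ ⊥ := by
    intro h
    have h1 : P₁ = ⊥ := (Subgroup.map_eq_bot_iff_of_injective _ L.subtype_injective).1 h
    rw [h1, Subgroup.map_bot] at himg
    have h2 := card_trans (p := p)
    rw [← himg, Subgroup.card_bot] at h2
    have := Nat.one_lt_pow two_ne_zero (Fact.out : p.Prime).one_lt
    omega
  obtain ⟨u, hu, huu, hufix⟩ := exists_fixed_iso hF P₂ hP₂ hP₂ne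
  obtain ⟨g₀, hg₀, hg₀1⟩ : ∃ g ∈ P₂, g ≠ 1 := by
    by_contra h
    push Not at h
    exact hP₂ne (P₂.eq_bot_iff_forall.2 h)
  obtain ⟨k, hk⟩ := hP₂ ⟨g₀, hg₀⟩
  have hk' : g₀ ^ p ^ k = 1 := congrArg Subtype.val hk
  have hline : ∀ m : M, ∃ a : F, act (m.1.1 : 𝐆) u = a • u := by
    intro m
    have hfix : ∀ g ∈ P₂, act g (act (m.1.1 : 𝐆) u) = act (m.1.1 : 𝐆) u := by
      rintro _ ⟨x, hx, rfl⟩
      have h1 : (m : L)⁻¹ * x * (m : L) ∈ P₁ := by
        have := (Subgroup.mem_normalizer_iff.1 (inv_mem m.2) x).1 hx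
        rwa [inv_inv] at this
      rw [← act_mul, show (L.subtype x : 𝐆) * m.1.1 = m.1.1 * (((m : L)⁻¹ * x * (m : L) : L) : 𝐆) by
        simp only [Subgroup.coe_subtype, Subgroup.coe_mul, Subgroup.coe_inv]; group, act_mul,
        hufix (((m : L)⁻¹ * x * (m : L) : L) : 𝐆) ⟨_, h1, rfl⟩]
    exact unique_fixed hF hk' hg₀1 hu (SUSimple.act_ne_zero _ hu) huu (by rw [form_act]; exact huu)
      (hufix g₀ hg₀) (hfix g₀ hg₀)
  choose lam hlam using hline
  have hlam0 : ∀ m, lam m ≠ 0 := fun m h => SUSimple.act_ne_zero (m.1.1 : 𝐆) hu (by rw [hlam, h, zero_smul])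
  let Λ : M →* Fˣ := MonoidHom.mk' (fun m => Units.mk0 (lam m) (hlam0 m)) fun a b => Units.ext (by
    refine smul_left_injective F hu ?_
    show lam (a * b) • u = (lam a * lam b) • u
    rw [← hlam, Subgroup.coe_mul, Subgroup.coe_mul, act_mul, hlam, act_smul, hlam, smul_smul, mul_comm])
  have hker : IsPGroup p Λ.ker := fun m => ⟨2, by
    refine Subtype.ext (Subtype.ext (Subtype.ext ?_))
    have hm : lam m.1 = 1 := congrArg Units.val m.2
    exact fixer_pgroup hF hu huu (by rw [hlam, hm, one_smul])⟩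
  let N : Subgroup ↥(Cfsg.qd p) := Λ.ker.map (ψ.comp M.subtype)
  have hN : IsPGroup p N := hker.map _
  have hmem : ∀ x : ↥(Cfsg.qd p), x ^ p = 1 → x ∈ N := by
    intro x hx
    obtain ⟨m, hm, hmx⟩ : x ∈ M.map ψ := hM ▸ Subgroup.mem_top x
    obtain ⟨f, -, hf⟩ := FiniteField.card F p
    have h1 : x ^ (Nat.card Fˣ) ∈ N :=
      ⟨⟨m, hm⟩ ^ Nat.card Fˣ, by show Λ (_ ^ _) = 1; rw [map_pow, pow_card_eq_one'],
        by rw [map_pow]; exact congrArg (· ^ Nat.card Fˣ) hmx⟩
    have hp' := (Fact.out : p.Prime)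
    have hco : Nat.Coprime (Nat.card Fˣ) p := by
      refine Nat.Coprime.symm ((hp'.coprime_iff_not_dvd).2 ?_)
      rw [Nat.card_eq_fintype_card, Fintype.card_units, hf]
      intro hd
      have h2 : p ∣ p ^ (f : ℕ) := dvd_pow_self p f.ne_zero
      have h3 : 1 ≤ p ^ (f : ℕ) := Nat.one_le_pow _ _ hp'.pos
      have h4 := Nat.dvd_sub h2 hd
      rw [Nat.sub_sub_self h3] at h4
      exact hp'.not_dvd_one h4
    obtain ⟨b, hb⟩ := Nat.exists_mul_mod_eq_one_of_coprime hco hp'.one_lt
    have h5 : (x ^ Nat.card Fˣ) ^ b = x := by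
      rw [← pow_mul, ← pow_mod_orderOf]
      rcases (Nat.dvd_prime hp').1 (orderOf_dvd_of_pow_eq_one hx) with h | h
      · rw [h, Nat.mod_one, pow_zero]; exact (orderOf_eq_one_iff.1 h).symm
      · rw [h, hb.2, pow_one]
    rw [← h5]
    exact pow_mem h1 b
  have hup : ∀ s : ZMod p, up s ^ p = 1 := fun s => by
    have : ∀ n : ℕ, up s ^ n = up ((n : ZMod p) * s) := fun n => by
      induction n with
      | zero => rw [pow_zero, Nat.cast_zero, zero_mul]; exact mk_one.symm
      | succ n ih => rw [pow_succ, ih, up_mul]; congr 1; push_cast; ring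
    rw [this, ZMod.natCast_self, zero_mul]; exact mk_one
  have hlow : ∀ s : ZMod p, low s ^ p = 1 := fun s => by
    have : ∀ n : ℕ, low s ^ n = low ((n : ZMod p) * s) := fun n => by
      induction n with
      | zero => rw [pow_zero, Nat.cast_zero, zero_mul]; exact mk_one.symm
      | succ n ih =>
        rw [pow_succ, ih, low, low, low, mk_mul]
        exact mk_congr (by ring) (by ring) (by push_cast; ring) (by ring) (by ring) (by ring)
    rw [this, ZMod.natCast_self, zero_mul]; exact mk_one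
  have hzN : z (p := p) ∈ N := by
    rw [z_eq]
    have hu' := hmem _ (hup 1)
    have hl' := hmem _ (hlow (-1))
    exact mul_mem (mul_mem (mul_mem hu' hl') hu') (mul_mem (mul_mem hu' hl') hu')
  obtain ⟨j, hj⟩ := hN ⟨z, hzN⟩
  have hz1 : z (p := p) = 1 := by
    have h1 : z (p := p) ^ p ^ j = 1 := congrArg Subtype.val hj
    have h2 : orderOf (z (p := p)) ∣ 2 := orderOf_dvd_of_pow_eq_one (by rw [pow_two, z_mul_z])
    have h3 := orderOf_dvd_of_pow_eq_one h1
    exact orderOf_eq_one_iff.1 (Nat.eq_one_of_dvd_coprimes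
      (Nat.Coprime.pow_right j ((Nat.coprime_primes Nat.prime_two Fact.out).2 (Ne.symm hp))) h2 h3)
  have h := congrArg (fun M : ↥(Cfsg.qd p) => M.1.1 0 0) hz1
  simp [z, mk] at h
  haveI : Fact (2 < p) := ⟨lt_of_le_of_ne (Fact.out : p.Prime).two_le (Ne.symm hp)⟩
  exact ZMod.neg_one_ne_one h

end CfsgLib.Lie.SUThreeQd
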