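import Cfsg.Agent.Lie.SUSimple
import Cfsg.Prelude.Def_LieRecognition
import Mathlib.Algebra.CharP.Two
import Mathlib.GroupTheory.Sylow
import Mathlib.RingTheory.IntegralDomain

/-!
Sylow 2-subgroups of three-dimensional unitary groups in characteristic two.
-/

set_option autoImplicit false
set_option linter.unusedSimpArgs false
set_option linter.unusedSectionVars false

namespace CfsgLib.Lie.SUThreeSylow

open Matrix
open CfsgLib.Lie.Herm (form_add_left form_add_right form_smul_left form_smul_right form_comm)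
open CfsgLib.Lie.SUFull (form_eq_zero_symm form_zero_left)
open Cfsg.Agent.S0781 (eich eich_mulVec eich_form eich_det)
open scoped commutatorElement

attribute [local instance] SUSimple.ptAction

variable {F : Type*} [Field F] [Fintype F] [CharP F 2] {q : ℕ}

/-- The model of the Sylow 2-subgroup. -/
@[ext]
structure U (F : Type*) [Field F] (q : ℕ) where
  a : F
  b : F
  h : b + b ^ q = a * a ^ q

section
variable [hF : Fact (Fintype.card F = q ^ 2)]

theorem addq (x y : F) : (x + y) ^ q = x ^ q + y ^ q := Herm.add_pow_q hF.out x y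
theorem qq (x : F) : (x ^ q) ^ q = x := Herm.pow_pow_q hF.out x
variable (F) in
include hF in
theorem q0 : q ≠ 0 := by have := Herm.two_le hF.out; omega

instance : Group (U F q) where
  one := ⟨0, 0, by simp [zero_pow (q0 F (q := q))]⟩
  mul x y := ⟨x.a + y.a, x.b + y.b + y.a * x.a ^ q, by
    rw [addq, addq, addq, mul_pow, qq]; linear_combination x.h + y.h⟩
  inv x := ⟨x.a, x.b + x.a * x.a ^ q, by
    rw [addq, mul_pow, qq]; linear_combination x.h + CharTwo.add_self_eq_zero (x.a * x.a ^ q)⟩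
  mul_assoc x y z := U.ext (add_assoc _ _ _) (by
    show (x.b + y.b + y.a * x.a ^ q) + z.b + z.a * (x.a + y.a) ^ q =
      x.b + (y.b + z.b + z.a * y.a ^ q) + (y.a + z.a) * x.a ^ q
    rw [addq]; ring)
  one_mul x := U.ext (zero_add _) (by
    show 0 + x.b + x.a * (0 : F) ^ q = x.b
    rw [zero_pow (q0 F (q := q)), mul_zero, add_zero, zero_add])
  mul_one x := U.ext (add_zero _) (by
    show x.b + 0 + 0 * x.a ^ q = x.b
    ring)
  inv_mul_cancel x := U.ext (CharTwo.add_self_eq_zero _) (by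
    show x.b + x.a * x.a ^ q + x.b + x.a * x.a ^ q = 0
    linear_combination CharTwo.add_self_eq_zero (x.b + x.a * x.a ^ q))

theorem mul_a (x y : U F q) : (x * y).a = x.a + y.a := rfl
theorem mul_b (x y : U F q) : (x * y).b = x.b + y.b + y.a * x.a ^ q := rfl
theorem inv_a (x : U F q) : x⁻¹.a = x.a := rfl
theorem inv_b (x : U F q) : x⁻¹.b = x.b + x.a * x.a ^ q := rfl
theorem one_a : (1 : U F q).a = 0 := rfl
theorem one_b : (1 : U F q).b = 0 := rfl

instance : Finite (U F q) :=
  Finite.of_injective (fun x : U F q => (x.a, x.b)) fun x y h => by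
    simp only [Prod.mk.injEq] at h; exact U.ext h.1 h.2

theorem exists_fixed_sum {c : F} (hc : c ^ q = c) : ∃ μ : F, μ + μ ^ q = c := by
  obtain ⟨μ, hμ⟩ := Witt.exists_trace (Herm.conj hF.out) (Herm.conj_ne_id hF.out) (Herm.conj_conj hF.out) c
    (by rw [Herm.conj_apply]; exact hc)
  exact ⟨μ, by rw [Herm.conj_apply] at hμ; linear_combination hμ⟩

theorem exists_mk (a : F) : ∃ x : U F q, x.a = a := by
  obtain ⟨μ, hμ⟩ := exists_fixed_sum (F := F) (q := q) (c := a * a ^ q) (by rw [mul_pow, qq, mul_comm])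
  exact ⟨⟨a, μ, hμ⟩, rfl⟩

theorem card_fixed : Nat.card {c : F // c ^ q = c} = q := by
  classical
  have h := Herm.card_fixed_units hF.out
  rw [Nat.card_eq_fintype_card, Fintype.card_subtype] at h ⊢
  have e : (Finset.univ.filter fun c : F => c ^ q = c) =
      insert 0 (Finset.univ.filter fun c : F => c ≠ 0 ∧ c ^ q = c) := by
    ext c
    by_cases hc : c = 0
    · simp [hc, zero_pow (q0 F (q := q))]
    · simp [hc]
  rw [e, Finset.card_insert_of_notMem (by simp), h]
  have := Herm.two_le hF.out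
  omega

theorem card_U : Nat.card (U F q) = q ^ 3 := by
  choose f hf using exists_mk (F := F) (q := q)
  have e : U F q ≃ F × {c : F // c ^ q = c} :=
    { toFun := fun x => (x.a, ⟨x.b + (f x.a).b, by
        have h1 := x.h; have h2 := (f x.a).h; rw [hf] at h2
        rw [addq]
        linear_combination h1 + h2 - (x.b + (f x.a).b) * (CharTwo.two_eq_zero (R := F))
          + x.a * x.a ^ q * (CharTwo.two_eq_zero (R := F))⟩)
      invFun := fun p => ⟨p.1, p.2.1 + (f p.1).b, by
        have h2 := (f p.1).h; rw [hf] at h2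
        rw [addq, p.2.2]
        linear_combination h2 + p.2.1 * (CharTwo.two_eq_zero (R := F))⟩
      left_inv := fun x => U.ext rfl (by simp [add_assoc, CharTwo.add_self_eq_zero])
      right_inv := fun p => by simp [add_assoc, CharTwo.add_self_eq_zero] }
  rw [Nat.card_congr e, Nat.card_prod, card_fixed, Nat.card_eq_fintype_card, hF.out]
  ring

theorem sq_eq (x : U F q) : (x * x).a = 0 ∧ (x * x).b = x.a * x.a ^ q :=
  ⟨CharTwo.add_self_eq_zero _, by rw [mul_b, CharTwo.add_self_eq_zero, zero_add]⟩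

theorem inv_iff {x : U F q} : x * x = 1 ↔ x.a = 0 := by
  refine ⟨fun h => ?_, fun h => U.ext (by rw [mul_a, h, add_zero]; rfl) (by rw [(sq_eq x).2, h, zero_mul]; rfl)⟩
  have := congrArg U.b h
  rw [(sq_eq x).2, one_b, mul_eq_zero] at this
  exact this.elim id fun h => (pow_eq_zero_iff (q0 F (q := q))).1 h

theorem fixed_of_a {x : U F q} (h : x.a = 0) : x.b ^ q = x.b := by
  have := x.h
  rw [h, zero_mul] at this
  linear_combination this - x.b * (CharTwo.two_eq_zero (R := F))

theorem mem_center {x : U F q} : x ∈ Subgroup.center (U F q) ↔ x.a = 0 := by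
  rw [Subgroup.mem_center_iff]
  refine ⟨fun h => ?_, fun h y => U.ext (add_comm _ _) (by
    rw [mul_b, mul_b, h, zero_mul, zero_pow (q0 F (q := q)), mul_zero]; ring)⟩
  have key : ∀ a : F, x.a * a ^ q = a * x.a ^ q := fun a => by
    obtain ⟨y, rfl⟩ := exists_mk (q := q) a
    have := congrArg U.b (h y)
    rw [mul_b, mul_b] at this
    linear_combination this
  by_contra hx
  refine Herm.conj_ne_id hF.out (RingHom.ext fun a => mul_left_cancel₀ hx ?_)
  have h1 := key 1
  rw [one_pow, mul_one, one_mul] at h1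
  rw [Herm.conj_apply, RingHom.id_apply, key a, ← h1, mul_comm]

theorem card_center : Nat.card (Subgroup.center (U F q)) = q := by
  refine Eq.trans ?_ (card_fixed (F := F) (q := q))
  exact Nat.card_congr
    { toFun := fun x => ⟨x.1.b, fixed_of_a (mem_center.1 x.2)⟩
      invFun := fun c => ⟨⟨0, c.1, by rw [c.2, zero_mul, CharTwo.add_self_eq_zero]⟩, mem_center.2 rfl⟩
      left_inv := fun x => Subtype.ext (U.ext (mem_center.1 x.2).symm rfl)
      right_inv := fun c => rfl }

theorem comm_a (x y : U F q) : ⁅x, y⁆.a = 0 := by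
  rw [commutatorElement_def, mul_a, mul_a, mul_a, inv_a, inv_a]
  linear_combination (x.a + y.a) * (CharTwo.two_eq_zero (R := F))

theorem center_le_commutator {z : U F q} (hz : z.a = 0) : ∃ x y : U F q, ⁅x, y⁆ = z := by
  obtain ⟨μ, hμ⟩ := exists_fixed_sum (F := F) (q := q) (fixed_of_a hz)
  obtain ⟨x, hx⟩ := exists_mk (F := F) (q := q) 1
  obtain ⟨y, hy⟩ := exists_mk (F := F) (q := q) μ
  refine ⟨x, y, U.ext ((comm_a x y).trans hz.symm) ?_⟩
  simp only [commutatorElement_def, mul_b, mul_a, inv_a, inv_b, hx, hy, addq, one_pow]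
  linear_combination hμ + (x.b + y.b + 1 + μ + μ * μ ^ q) * (CharTwo.two_eq_zero (R := F))

theorem exists_noncomm : ∃ x y : U F q, x * y ≠ y * x := by
  by_contra h
  push Not at h
  obtain ⟨x, hx⟩ := exists_mk (F := F) (q := q) 1
  have := mem_center.1 (Subgroup.mem_center_iff.2 fun y => h y x)
  exact one_ne_zero (hx.symm.trans this)

/-- The torus automorphism. -/
def tau (t : F) (ht : t ^ q = t) (ht0 : t ≠ 0) : U F q ≃* U F q where
  toFun x := ⟨t * x.a, t ^ 2 * x.b, by
    rw [mul_pow, mul_pow, ← pow_mul, mul_comm 2 q, pow_mul, ht]; linear_combination t ^ 2 * x.h⟩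
  invFun x := ⟨t⁻¹ * x.a, (t⁻¹) ^ 2 * x.b, by
    rw [mul_pow, mul_pow, ← pow_mul, mul_comm 2 q, pow_mul, inv_pow t q, ht]
    linear_combination (t⁻¹) ^ 2 * x.h⟩
  left_inv x := U.ext (inv_mul_cancel_left₀ ht0 _) (by
    show (t⁻¹) ^ 2 * (t ^ 2 * x.b) = x.b
    field_simp)
  right_inv x := U.ext (mul_inv_cancel_left₀ ht0 _) (by
    show t ^ 2 * ((t⁻¹) ^ 2 * x.b) = x.b
    field_simp)
  map_mul' x y := U.ext (mul_add _ _ _) (by
    show t ^ 2 * (x.b + y.b + y.a * x.a ^ q) = t ^ 2 * x.b + t ^ 2 * y.b + t * y.a * (t * x.a) ^ q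
    rw [mul_pow, ht]; ring)

/-- fixed units -/
abbrev FU (F : Type*) [Field F] (q : ℕ) : Subgroup Fˣ := (powMonoidHom (q - 1) : Fˣ →* Fˣ).ker

theorem mem_FU {t : Fˣ} : t ∈ FU F q ↔ (t : F) ^ q = t := by
  rw [MonoidHom.mem_ker, powMonoidHom_apply, Units.ext_iff, Units.val_pow_eq_pow_val, Units.val_one]
  conv_rhs => rw [show q = q - 1 + 1 by have := q0 F (q := q); omega, pow_succ]
  exact ⟨fun h => by rw [h, one_mul], fun h => mul_right_cancel₀ t.ne_zero (h.trans (one_mul _).symm)⟩

/-- torus homomorphism -/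
def tauHom : FU F q →* MulAut (U F q) where
  toFun t := tau ((t : Fˣ) : F) (mem_FU.1 t.2) (Units.ne_zero _)
  map_one' := MulEquiv.ext fun x => U.ext (one_mul _) (by
    show (1 : F) ^ 2 * x.b = x.b
    rw [one_pow, one_mul])
  map_mul' s t := MulEquiv.ext fun x => U.ext (mul_assoc _ _ _) (by
    show (((s : Fˣ) : F) * ((t : Fˣ) : F)) ^ 2 * x.b = ((s : Fˣ) : F) ^ 2 * (((t : Fˣ) : F) ^ 2 * x.b)
    ring)

theorem tauHom_apply (t : FU F q) (x : U F q) :
    (tauHom t x).a = ((t : Fˣ) : F) * x.a ∧ (tauHom t x).b = ((t : Fˣ) : F) ^ 2 * x.b := ⟨rfl, rfl⟩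

theorem isSuzuki (hq4 : 4 ≤ q) (hp : IsPGroup 2 (U F q)) : Cfsg.IsSuzukiTwoGroup (U F q) := by
  refine ⟨inferInstance, hp, exists_noncomm, ?_, (tauHom (F := F) (q := q)).range,
    isCyclic_of_surjective _ (tauHom (F := F) (q := q)).rangeRestrict_surjective, ?_⟩
  · obtain ⟨⟨c, hc0, hc⟩, hne⟩ : ∃ c : {c : F // c ≠ 0 ∧ c ^ q = c}, c.1 ≠ 1 := by
      by_contra h
      push Not at h
      have : Subsingleton {c : F // c ≠ 0 ∧ c ^ q = c} := ⟨fun a b => Subtype.ext ((h a).trans (h b).symm)⟩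
      have := Finite.card_le_one_iff_subsingleton.2 this
      rw [Herm.card_fixed_units hF.out] at this
      omega
    refine ⟨⟨0, 1, by rw [one_pow, zero_mul, CharTwo.add_self_eq_zero]⟩,
      ⟨0, c, by rw [hc, zero_mul, CharTwo.add_self_eq_zero]⟩, fun h => hne (congrArg U.b h).symm,
      fun h => one_ne_zero (congrArg U.b h), inv_iff.2 rfl, fun h => hc0 (congrArg U.b h), inv_iff.2 rfl⟩
  · intro x y hx hxx hy hyy
    have hxa := inv_iff.1 hxx
    have hya := inv_iff.1 hyy
    have hxb : x.b ≠ 0 := fun h => hx (U.ext hxa h)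
    have hyb : y.b ≠ 0 := fun h => hy (U.ext hya h)
    haveI : Fact (Nat.Prime 2) := ⟨Nat.prime_two⟩
    obtain ⟨t, ht⟩ := (frobenius_inj F 2).bijective_of_finite.2 (y.b / x.b)
    rw [frobenius_def] at ht
    have htq : t ^ q = t := frobenius_inj F 2 (by
      rw [frobenius_def, frobenius_def, ← pow_mul, mul_comm, pow_mul, ht, div_pow, fixed_of_a hya,
        fixed_of_a hxa])
    have ht0 : t ≠ 0 := fun h => by rw [h, zero_pow two_ne_zero] at ht; exact (div_ne_zero hyb hxb) ht.symm
    refine ⟨⟨tauHom ⟨Units.mk0 t ht0, mem_FU.2 htq⟩, ⟨_, rfl⟩⟩, ?_, ?_⟩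
    · refine U.ext ?_ ?_
      · show t * x.a = y.a
        rw [hxa, hya, mul_zero]
      · show t ^ 2 * x.b = y.b
        rw [ht, div_mul_cancel₀ _ hxb]
    · rintro ⟨_, s, rfl⟩ hs
      have h1 : ((s : Fˣ) : F) ^ 2 * x.b = y.b := congrArg U.b hs
      have h2 : ((s : Fˣ) : F) = t := frobenius_inj F 2 (by
        rw [frobenius_def, frobenius_def, ht, ← h1, mul_div_cancel_right₀ _ hxb])
      exact Subtype.ext (congrArg tauHom (Subtype.ext (Units.ext h2)))

/-- A hyperbolic pair with a unit vector orthogonal to it. -/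
theorem exists_basis : ∃ f g e : Fin 3 → F, Cfsg.hermForm 3 F q f f = 0 ∧ Cfsg.hermForm 3 F q g g = 0 ∧
    Cfsg.hermForm 3 F q f g = 1 ∧ Cfsg.hermForm 3 F q g f = 1 ∧ Cfsg.hermForm 3 F q e f = 0 ∧
    Cfsg.hermForm 3 F q e g = 0 ∧ Cfsg.hermForm 3 F q e e = 1 ∧ g ≠ 0 := by
  obtain ⟨f, -, hf0, hf⟩ := SUStab.exists_iso hF.out (⊤ : Submodule F (Fin 3 → F)) (by
    rw [finrank_top, Module.finrank_fin_fun]; omega)
  obtain ⟨g, hg, hfg⟩ := SUSimple.exists_partner hF.out hf0 hf
  have hgf : Cfsg.hermForm 3 F q g f = 1 := by rw [← form_comm hF.out f g, hfg, one_pow]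
  obtain ⟨e, heK, he⟩ := SUStab.exists_aniso_perp hF.out (W := Submodule.span F {f, g}) (fun x hx hxp => by
      obtain ⟨a, b, rfl⟩ := Submodule.mem_span_pair.1 hx
      have h1 := (SUStab.mem_perp hF.out).1 hxp f (Submodule.subset_span (by simp))
      have h2 := (SUStab.mem_perp hF.out).1 hxp g (Submodule.subset_span (by simp))
      simp [form_add_left, form_smul_left, hf, hg, hfg, hgf] at h1 h2
      simp [h1, h2]) _ le_rfl (by
      have h1 := SUStab.finrank_perp hF.out (Submodule.span F {f, g})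
      have h2 := FormMaxSL.finrank_pair_le f g
      omega)
  obtain ⟨r, hr⟩ := SUStab.exists_norm' hF.out (1 / Cfsg.hermForm 3 F q e e) (by
    rw [div_pow, one_pow, form_comm hF.out])
  refine ⟨f, g, r • e, hf, hg, hfg, hgf, ?_, ?_, ?_, ?_⟩
  · rw [form_smul_left, (SUStab.mem_perp hF.out).1 heK f (Submodule.subset_span (by simp)), mul_zero]
  · rw [form_smul_left, (SUStab.mem_perp hF.out).1 heK g (Submodule.subset_span (by simp)), mul_zero]
  · rw [form_smul_left, form_smul_right, ← mul_assoc, hr, div_mul_cancel₀ _ he]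
  · rintro rfl
    exact zero_ne_one ((form_zero_left f).symm.trans hgf)

theorem exists_embedding (hq : 3 ≤ q) :
    ∃ ψ : U F q →* Cfsg.PSU 3 F q, Function.Injective ψ := by
  obtain ⟨f, g, e, hf, hg, hfg, hgf, hef, heg, hee, hg0⟩ := exists_basis (F := F) (q := q)
  haveI : Nonempty (Fin 3) := ⟨0⟩
  have hfe : Cfsg.hermForm 3 F q f e = 0 := form_eq_zero_symm hF.out hef
  have hge : Cfsg.hermForm 3 F q g e = 0 := form_eq_zero_symm hF.out heg
  have hz : ∀ a : F, Cfsg.hermForm 3 F q (a • e) f = 0 := fun a => by rw [form_smul_left, hef, mul_zero]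
  have hc : ∀ x : U F q, x.b + x.b ^ q + Cfsg.hermForm 3 F q (x.a • e) (x.a • e) = 0 := fun x => by
    rw [form_smul_left, form_smul_right, hee, mul_one]
    linear_combination x.h + x.a * x.a ^ q * (CharTwo.two_eq_zero (R := F))
  choose El hEl using fun x : U F q => Cfsg.Agent.S0781.exists_el hF.out hf (hz x.a) (hc x)
  have hv : ∀ (x : U F q) (w : Fin 3 → F), SUSimple.act (El x) w = w + (Cfsg.hermForm 3 F q w f) • (x.a • e) +
      (x.b * Cfsg.hermForm 3 F q w f - Cfsg.hermForm 3 F q w (x.a • e)) • f := fun x w => by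
    show ((El x : Matrix.SpecialLinearGroup (Fin 3) F) : Matrix (Fin 3) (Fin 3) F) *ᵥ w = _
    rw [hEl, eich_mulVec]
  let φ : U F q →* Cfsg.SU 3 F q := MonoidHom.mk' El fun x y => by
    refine SUSimple.toG_injective (FormMaxSL.gl_ext fun w => ?_)
    rw [map_mul, Units.val_mul, ← Matrix.mulVec_mulVec]
    show SUSimple.act (El (x * y)) w = SUSimple.act (El x) (SUSimple.act (El y) w)
    simp only [hv, form_add_left, form_smul_left, form_smul_right, hf, hef, hee, hfe, mul_a, mul_b, add_smul,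
      mul_zero, add_zero, form_add_right hF.out, mul_one, CharTwo.sub_eq_add]
    module
  refine ⟨(QuotientGroup.mk' _).comp φ, (injective_iff_map_eq_one _).2 fun x hx => ?_⟩
  have h1 : φ x ∈ (MulAction.toPermHom (Cfsg.SU 3 F q) (SUSimple.Pt 3 F q)).ker := by
    rw [SUSimple.ker_toPerm hF.out le_rfl (fun h => by omega)]
    exact (QuotientGroup.eq_one_iff _).1 hx
  have h2 := congrArg Subtype.val (Equiv.Perm.ext_iff.1 h1 (SUSimple.pt g hg0 hg))
  change SUSimple.toG (φ x) • Projectivization.mk F g hg0 = Projectivization.mk F g hg0 at h2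
  rw [Projectivization.smul_mk, Projectivization.mk_eq_mk_iff'] at h2
  obtain ⟨c, hc'⟩ := h2
  have h3 : c • g = SUSimple.act (El x) g := hc'
  rw [hv, hgf, form_smul_right, hge, mul_zero, sub_zero, mul_one, one_smul] at h3
  have ha := congrArg (fun w => Cfsg.hermForm 3 F q w e) h3
  simp [form_add_left, form_smul_left, hge, hee, hfe] at ha
  have hb := congrArg (fun w => Cfsg.hermForm 3 F q w g) h3
  simp [form_add_left, form_smul_left, hg, heg, hfg] at hb
  exact U.ext ha.symm hb.symm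

theorem exists_iso {n : ℕ} (hn : 2 ≤ n) (hq : q = 2 ^ n) (S : Sylow 2 (Cfsg.PSU 3 F q)) :
    Nonempty (↥(S : Subgroup (Cfsg.PSU 3 F q)) ≃* U F q) := by
  haveI : Fact (Nat.Prime 2) := ⟨Nat.prime_two⟩
  have h4 : 4 ≤ q := by
    rw [hq]
    exact (show 4 = 2 ^ 2 by norm_num) ▸ Nat.pow_le_pow_right two_pos hn
  obtain ⟨ψ, hψ⟩ := exists_embedding (F := F) (q := q) (by omega)
  have hfac : (Nat.card (Cfsg.PSU 3 F q)).factorization 2 = 3 * n := by
    have h := Unitary.card_PSU (n := 3) hF.out (by omega)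
    rw [Herm.card_GU hF.out] at h
    simp only [Finset.prod_range_succ, Finset.prod_range_zero, one_mul] at h
    norm_num at h
    have hev : Even q := by rw [hq, Nat.even_pow]; exact ⟨even_two, by omega⟩
    have hg : Odd (Nat.gcd 3 (q + 1)) := by
      rcases (Nat.dvd_prime Nat.prime_three).1 (Nat.gcd_dvd_left 3 (q + 1)) with h' | h' <;> rw [h'] <;> decide
    have hodd : Odd (Nat.gcd 3 (q + 1) * (q + 1)) := hg.mul hev.add_one
    have hodd2 : Odd ((q + 1) * (q ^ 2 - 1) * (q ^ 3 + 1)) := by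
      refine (hev.add_one.mul ?_).mul ((hev.pow_of_ne_zero (by omega)).add_one)
      exact Nat.Even.sub_odd (Nat.one_le_pow _ _ (by omega)) (hev.pow_of_ne_zero (by omega)) odd_one
    have h0 : Nat.card (Cfsg.PSU 3 F q) ≠ 0 := Nat.card_pos.ne'
    have h' := congrArg (fun m => m.factorization 2) h
    rw [← mul_assoc, Nat.factorization_mul (Nat.pos_of_ne_zero (fun e => by rw [e] at hodd; simp at hodd)).ne' h0,
      Nat.factorization_mul (pow_ne_zero _ (by omega)) (fun e => by rw [e] at hodd2; simp at hodd2),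
      Finsupp.add_apply, Finsupp.add_apply,
      Nat.factorization_eq_zero_of_not_dvd (fun d => (Nat.not_even_iff_odd.2 hodd) (even_iff_two_dvd.2 d)),
      Nat.factorization_eq_zero_of_not_dvd (fun d => (Nat.not_even_iff_odd.2 hodd2) (even_iff_two_dvd.2 d)),
      zero_add, add_zero, hq, ← pow_mul, Nat.Prime.factorization_pow Nat.prime_two] at h'
    subst hq
    simpa [mul_comm] using h'
  have hcard : Nat.card ψ.range = 2 ^ (Nat.card (Cfsg.PSU 3 F q)).factorization 2 := by
    rw [← Nat.card_congr (MonoidHom.ofInjective hψ).toEquiv, card_U, hfac, hq, ← pow_mul, mul_comm]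
  let P : Sylow 2 (Cfsg.PSU 3 F q) := Sylow.ofCard ψ.range hcard
  exact ⟨(Sylow.equiv S P).trans (MonoidHom.ofInjective hψ).symm⟩

end

end CfsgLib.Lie.SUThreeSylow
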