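import Cfsg.Agent.Lie.SUThreeSylow

/-!
Transferring properties of the model of the Sylow 2-subgroup of PSU3.
-/

set_option autoImplicit false

namespace CfsgLib.Lie.SUThreeSylow

theorem mem_center_congr {P P' : Type*} [Group P] [Group P'] (e : P ≃* P') (x : P) :
    x ∈ Subgroup.center P ↔ e x ∈ Subgroup.center P' := by
  rw [Subgroup.mem_center_iff, Subgroup.mem_center_iff]
  refine ⟨fun h g => e.symm.injective (by simpa using h (e.symm g)), fun h g => e.injective ?_⟩
  rw [map_mul, map_mul, h]

theorem card_center_congr {P P' : Type*} [Group P] [Group P'] (e : P ≃* P') :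
    Nat.card (Subgroup.center P) = Nat.card (Subgroup.center P') :=
  Nat.card_congr (Equiv.subtypeEquiv e.toEquiv (mem_center_congr e))

theorem isSuzuki_congr {P P' : Type*} [Group P] [Group P'] (e : P ≃* P') (h : Cfsg.IsSuzukiTwoGroup P') :
    Cfsg.IsSuzukiTwoGroup P := by
  obtain ⟨hf, hp, ⟨a, b, hab⟩, ⟨c, d, hcd, hc, hcc, hd, hdd⟩, K, hK, hreg⟩ := h
  have he1 : ∀ x, e x = 1 → x = 1 := fun x hx => e.injective (hx.trans (map_one e).symm)
  refine ⟨Finite.of_equiv _ e.symm.toEquiv, hp.of_equiv e.symm, ⟨e.symm a, e.symm b, fun h => hab (by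
    simpa using congrArg e h)⟩, ⟨e.symm c, e.symm d, fun h => hcd (e.symm.injective h),
    fun h => hc (by simpa using congrArg e h), by rw [← map_mul, hcc, map_one],
    fun h => hd (by simpa using congrArg e h), by rw [← map_mul, hdd, map_one]⟩,
    K.map (MulAut.congr e.symm).toMonoidHom, ?_, ?_⟩
  · exact isCyclic_of_surjective _ (K.equivMapOfInjective _ (MulAut.congr e.symm).injective).surjective
  · intro x y hx hxx hy hyy
    obtain ⟨k, hk, huniq⟩ := hreg (e x) (e y) (fun h => hx (he1 x h)) (by rw [← map_mul, hxx, map_one])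
      (fun h => hy (he1 y h)) (by rw [← map_mul, hyy, map_one])
    refine ⟨⟨_, k.1, k.2, rfl⟩, ?_, ?_⟩
    · show e.symm (k.1 (e x)) = y
      rw [hk, MulEquiv.symm_apply_apply]
    · rintro ⟨_, m, hm, rfl⟩ hmx
      have h1 : m (e x) = e y := by
        rw [← show e.symm (m (e x)) = y from hmx, MulEquiv.apply_symm_apply]
      exact Subtype.ext (congrArg (MulAut.congr e.symm).toMonoidHom (congrArg Subtype.val (huniq ⟨m, hm⟩ h1)))

end CfsgLib.Lie.SUThreeSylow
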