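import Cfsg.Agent.Lie.SUSimple
import Cfsg.Prelude.Def_ClassicalGeometry

/-!
Conjugacy of transvections in SU.
-/

set_option autoImplicit false
set_option linter.unusedSimpArgs false
set_option linter.unusedSectionVars false

namespace CfsgLib.Lie.SUSimple

open Matrix
open CfsgLib.Lie.Herm (form_add_left form_add_right form_smul_left form_smul_right form_comm mem_GU)
open CfsgLib.Lie.SUGen (tu tu_mulVec tu_smul conj_tu Tz)
open CfsgLib.Lie.SUFull (form_zero_left)

variable {F : Type*} [Field F] [Fintype F] {q n : ℕ} (hF : Fintype.card F = q ^ 2)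

include hF in
theorem transvection_eq (t : GL (Fin n) F) (ht : t ∈ Cfsg.GU n F q)
    (htv : Cfsg.IsTransvection (t : Matrix (Fin n) (Fin n) F)) :
    ∃ (v : Fin n → F) (c : F), v ≠ 0 ∧ Cfsg.hermForm n F q v v = 0 ∧ Tz q c ∧ c ≠ 0 ∧ t = tu q v c := by
  obtain ⟨hrank, hsq⟩ := htv
  obtain ⟨N, hN⟩ : ∃ N, N = Matrix.mulVecLin ((t : Matrix (Fin n) (Fin n) F) - 1) := ⟨_, rfl⟩
  have hNx : ∀ x, (t : Matrix (Fin n) (Fin n) F) *ᵥ x = x + N x := fun x => by
    simp [hN, Matrix.sub_mulVec]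
  have hdim : Module.finrank F (LinearMap.range N) = 1 := by rw [hN]; exact hrank
  obtain ⟨⟨v, hv⟩, hv0, hspan⟩ := finrank_eq_one_iff'.1 hdim
  have hv0' : v ≠ 0 := fun h => hv0 (Subtype.ext h)
  obtain ⟨ψ, hψv, -⟩ := Witt.exists_dual (H := (⊥ : Submodule F (Fin n → F))) (x := v) (by simpa using hv0')
  obtain ⟨φ, hφd⟩ : ∃ φ : (Fin n → F) →ₗ[F] F, φ = ψ ∘ₗ N := ⟨_, rfl⟩
  have hφ : ∀ x, N x = φ x • v := fun x => by
    obtain ⟨a, ha⟩ := hspan ⟨N x, LinearMap.mem_range_self N x⟩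
    have ha' : a • v = N x := congrArg Subtype.val ha
    rw [hφd, LinearMap.comp_apply, ← ha', map_smul, hψv, smul_eq_mul, mul_one]
  have hφv : φ v = 0 := by
    obtain ⟨x₀, hx₀⟩ := hv
    have h1 : N (N x₀) = 0 := by
      rw [hN]; simp only [Matrix.mulVecLin_apply, Matrix.mulVec_mulVec, hsq, Matrix.zero_mulVec]
    rw [hx₀, hφ] at h1
    exact (smul_eq_zero.1 h1).resolve_right hv0'
  obtain ⟨x₁, hx₁⟩ : ∃ x, φ x ≠ 0 := by
    by_contra h
    push Not at h
    obtain ⟨x₀, hx₀⟩ := hv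
    rw [hφ, h, zero_smul] at hx₀
    exact hv0' hx₀.symm
  have hiso : ∀ x y, φ x * Cfsg.hermForm n F q v y + φ y ^ q * Cfsg.hermForm n F q x v +
      φ x * φ y ^ q * Cfsg.hermForm n F q v v = 0 := fun x y => by
    have h := mem_GU.1 ht x y
    rw [hNx, hNx, hφ, hφ, form_add_left, form_add_right hF, form_add_right hF, form_smul_left,
      form_smul_left, form_smul_right, form_smul_right] at h
    linear_combination h
  have hvv : Cfsg.hermForm n F q v v = 0 := by
    have h := hiso x₁ v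
    rw [hφv, zero_pow (by have := Herm.two_le hF; omega)] at h
    simpa [hx₁] using h
  obtain ⟨p, hp⟩ := exists_one hF hv0'
  have hpv : Cfsg.hermForm n F q p v = 1 := by rw [← form_comm hF v p, hp, one_pow]
  obtain ⟨c, hc⟩ : ∃ c, c = φ p := ⟨_, rfl⟩
  have hTz : Tz q c := by
    unfold SUGen.Tz
    have h := hiso p p
    rw [hp, hpv, hvv] at h
    rw [hc]
    linear_combination h
  have hform : ∀ x, φ x = c * Cfsg.hermForm n F q x v := fun x => by
    have h := hiso x p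
    rw [hp, hvv, ← hc] at h
    unfold SUGen.Tz at hTz
    linear_combination h - Cfsg.hermForm n F q x v * hTz
  refine ⟨v, c, hv0', hvv, hTz, fun h0 => hx₁ (by rw [hform, h0, zero_mul]),
    FormMaxSL.gl_ext fun x => ?_⟩
  rw [tu_mulVec hvv, hNx, hφ, hform]

include hF in
theorem transvection_conj (hn : 3 ≤ n) (s t : Cfsg.SU n F q)
    (hs : Cfsg.IsTransvection ((toG s : GL (Fin n) F) : Matrix (Fin n) (Fin n) F))
    (ht : Cfsg.IsTransvection ((toG t : GL (Fin n) F) : Matrix (Fin n) (Fin n) F)) : IsConj s t := by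
  obtain ⟨v, c, hv, hvv, hc, hc0, hs'⟩ := transvection_eq hF _ (toG_mem s) hs
  obtain ⟨w, d, hw, hww, hd, hd0, ht'⟩ := transvection_eq hF _ (toG_mem t) ht
  obtain ⟨a, ha⟩ := SUStab.exists_norm' hF (d / c) (by
    unfold SUGen.Tz at hc hd
    rw [div_pow, eq_neg_of_add_eq_zero_left hc, eq_neg_of_add_eq_zero_left hd, neg_div_neg_eq])
  have ha0 : a ≠ 0 := fun h => by
    rw [h, zero_mul] at ha
    exact div_ne_zero hd0 hc0 ha.symm
  have haw : Cfsg.hermForm n F q (a • w) (a • w) = 0 := by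
    rw [form_smul_left, form_smul_right, hww, mul_zero, mul_zero]
  obtain ⟨p, hp, hvp⟩ := exists_partner hF hv hvv
  obtain ⟨p', hp', hwp⟩ := exists_partner hF (smul_ne_zero ha0 hw) haw
  obtain ⟨g, hg, -⟩ := move_pair hF hn hvv hp hvp haw hp' hwp
  refine isConj_iff.2 ⟨g, toG_injective ?_⟩
  rw [map_mul, map_mul, map_inv, hs', ht', conj_tu (toG_mem g) hvv,
    show (toG g : Matrix (Fin n) (Fin n) F) *ᵥ v = a • w from hg, tu_smul hF hww, ha, div_mul_cancel₀ _ hc0]

end CfsgLib.Lie.SUSimple
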