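import Mathlib

/-!
An affine group with a second-maximal counterexample.
-/

set_option autoImplicit false
set_option linter.unusedSectionVars false

namespace CfsgLib.Lie.SecondMax

variable {K : Type} [Field K]

/-- The multiplication action of a subgroup of the units on the translation group. -/
def scaleHom (L : Subgroup Kˣ) : L →* MulAut (Multiplicative K) where
  toFun a :=
    { toFun := fun v => Multiplicative.ofAdd ((a.1 : K) * v.toAdd)
      invFun := fun v => Multiplicative.ofAdd (((a⁻¹ : L).1 : K) * v.toAdd)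
      left_inv := fun v => by simp
      right_inv := fun v => by simp
      map_mul' := fun v w => by simp [mul_add] }
  map_one' := by ext v; simp
  map_mul' a b := by ext v; simp [mul_assoc]

theorem scaleHom_apply (L : Subgroup Kˣ) (a : L) (v : Multiplicative K) :
    scaleHom L a v = Multiplicative.ofAdd ((a.1 : K) * v.toAdd) := rfl

/-- No invariant additive subgroup other than the trivial ones. -/
def Irr (L : Subgroup Kˣ) : Prop :=
  ∀ W : AddSubgroup K, (∀ a ∈ L, ∀ w ∈ W, (a : K) * w ∈ W) → W = ⊥ ∨ W = ⊤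

theorem irr_top : Irr (⊤ : Subgroup Kˣ) := by
  intro W hW
  refine or_iff_not_imp_left.2 fun hne => ?_
  obtain ⟨w, hw, hw0⟩ := (AddSubgroup.bot_or_exists_ne_zero W).resolve_left hne
  rw [eq_top_iff]
  intro x _
  by_cases hx : x = 0
  · rw [hx]; exact zero_mem W
  · have := hW (Units.mk0 (x * w⁻¹) (mul_ne_zero hx (inv_ne_zero hw0))) trivial w hw
    rwa [Units.val_mk0, mul_assoc, inv_mul_cancel₀ hw0, mul_one] at this

theorem exists_example [Finite K] (p d : ℕ) (hp : p.Prime) (hd : 2 ≤ d) (hcard : Nat.card K = p ^ d)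
    [CharP K p] :
    ∃ (G : Type) (_ : Group G) (_ : Finite G) (M H K : Subgroup G), IsCoatom M ∧ M.index = p ^ d ∧ H ≤ M ∧
      IsCoatom (H.subgroupOf M) ∧ IsCoatom K ∧ H ≤ K ∧ ¬ IsCoatom (H.subgroupOf K) := by
  classical
  have := Fact.mk hp
  obtain ⟨L, hL, hmin⟩ : ∃ L : Subgroup Kˣ, Irr L ∧ ∀ L' : Subgroup Kˣ, L' < L → ¬ Irr L' := by
    obtain ⟨L, hL⟩ := Set.Finite.exists_minimal (Set.toFinite {L : Subgroup Kˣ | Irr L}) ⟨⊤, irr_top⟩
    exact ⟨L, hL.1, fun L' h h' => h.not_ge (hL.2 h' h.le)⟩
  have hLne : L ≠ ⊥ := by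
    intro h
    subst h
    have h1 : AddSubgroup.zmultiples (1 : K) = ⊥ ∨ AddSubgroup.zmultiples (1 : K) = ⊤ := hL _ (by
      intro a ha w hw
      rw [Subgroup.mem_bot.1 ha, Units.val_one, one_mul]; exact hw)
    rcases h1 with h | h
    · exact one_ne_zero (AddSubgroup.zmultiples_eq_bot.1 h)
    · have h2 := Nat.card_zmultiples (1 : K)
      rw [h, AddSubgroup.card_top, hcard, CharP.eq K (CharP.addOrderOf_one K) (inferInstance : CharP K p)] at h2
      have h3 := Nat.pow_lt_pow_right hp.one_lt (show 1 < d by omega)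
      rw [pow_one, h2] at h3
      exact lt_irrefl _ h3
  have : Nontrivial L := (Subgroup.nontrivial_iff_ne_bot L).2 hLne
  obtain ⟨H0, hH0, -⟩ := (eq_top_or_exists_le_coatom (⊥ : Subgroup L)).resolve_left bot_ne_top
  obtain ⟨W, hW, hWbot, hWtop⟩ : ∃ W : AddSubgroup K, (∀ a ∈ H0, ∀ w ∈ W, ((a : L).1 : K) * w ∈ W) ∧
      W ≠ ⊥ ∧ W ≠ ⊤ := by
    have h := hmin (H0.map L.subtype) (lt_of_le_of_ne (Subgroup.map_subtype_le H0) fun h => hH0.1 (by
      rw [eq_top_iff]
      intro x _
      have hx : (x : Kˣ) ∈ H0.map L.subtype := h.symm ▸ x.2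
      obtain ⟨y, hy, hyx⟩ := hx
      exact (show y = x from Subtype.ext hyx) ▸ hy))
    rw [Irr] at h
    push Not at h
    obtain ⟨W, hW, h1, h2⟩ := h
    exact ⟨W, fun a ha w hw => hW a.1 ⟨a, ha, rfl⟩ w hw, h1, h2⟩
  let G := Multiplicative K ⋊[scaleHom L] L
  let inl : Multiplicative K →* G := SemidirectProduct.inl
  let inr : L →* G := SemidirectProduct.inr
  let pr : G →* L := SemidirectProduct.rightHom
  have hfin : Finite G := Finite.of_equiv _ SemidirectProduct.equivProd.symm
  let Kg : Subgroup G := H0.comap pr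
  let Hg : Subgroup G := H0.map inr
  have hHK : Hg ≤ Kg := by
    rintro _ ⟨a, ha, rfl⟩
    exact ha
  refine ⟨G, inferInstance, hfin, inr.range, Hg, Kg, ⟨?_, ?_⟩, ?_, ?_, ?_, ?_, hHK, ?_⟩
  · -- M is proper
    intro h
    have : inl (Multiplicative.ofAdd 1) ∈ inr.range := h ▸ Subgroup.mem_top _
    obtain ⟨a, ha⟩ := this
    have := congrArg (fun g : G => g.left) ha
    simp only [inl, inr, SemidirectProduct.left_inr, SemidirectProduct.left_inl] at this
    exact zero_ne_one (congrArg Multiplicative.toAdd this)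
  · -- M is maximal
    intro S hS
    let W' : AddSubgroup K :=
      { carrier := {v | inl (Multiplicative.ofAdd v) ∈ S}
        zero_mem' := by
          change inl (Multiplicative.ofAdd 0) ∈ S
          rw [ofAdd_zero, map_one]; exact one_mem S
        add_mem' := fun {a b} ha hb => by
          change inl (Multiplicative.ofAdd (a + b)) ∈ S
          rw [ofAdd_add, map_mul]; exact mul_mem ha hb
        neg_mem' := fun {a} ha => by
          change inl (Multiplicative.ofAdd (-a)) ∈ S
          rw [ofAdd_neg, map_inv]; exact inv_mem ha }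
    have hinr : ∀ a : L, inr a ∈ S := fun a => hS.le ⟨a, rfl⟩
    have hinv : ∀ a ∈ L, ∀ w ∈ W', (a : K) * w ∈ W' := by
      intro a ha w hw
      change inl (scaleHom L ⟨a, ha⟩ (Multiplicative.ofAdd w)) ∈ S
      rw [SemidirectProduct.inl_aut]
      exact mul_mem (mul_mem (hinr _) hw) (by rw [map_inv]; exact inv_mem (hinr _))
    have hdec : ∀ g : G, inl g.left * inr g.right = g := SemidirectProduct.inl_left_mul_inr_right
    rcases hL W' hinv with h | h
    · exfalso
      obtain ⟨g, hgS, hgM⟩ := SetLike.exists_of_lt hS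
      have hl : inl g.left ∈ S := by
        have := mul_mem hgS (inv_mem (hinr g.right))
        rwa [show g * (inr g.right)⁻¹ = inl g.left from mul_inv_eq_of_eq_mul (hdec g).symm] at this
      have : g.left.toAdd ∈ (⊥ : AddSubgroup K) := h ▸ hl
      rw [AddSubgroup.mem_bot] at this
      refine hgM ⟨g.right, ?_⟩
      conv_rhs => rw [← hdec g, show g.left = 1 from this, map_one, one_mul]
    · rw [eq_top_iff]
      intro g _
      rw [← hdec g]
      exact mul_mem (show g.left.toAdd ∈ W' from h ▸ AddSubgroup.mem_top _) (hinr _)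
  · -- index
    have h := Subgroup.card_mul_index inr.range
    rw [← Nat.card_congr (MonoidHom.ofInjective SemidirectProduct.inr_injective).toEquiv,
      SemidirectProduct.card, mul_comm (Nat.card (Multiplicative K))] at h
    have := Nat.eq_of_mul_eq_mul_left Nat.card_pos h
    rw [this]
    exact (Nat.card_congr Multiplicative.toAdd).trans hcard
  · exact Subgroup.map_le_range _ H0
  · -- H maximal in M
    have hinj : Function.Injective inr := SemidirectProduct.inr_injective
    let e := MonoidHom.ofInjective hinj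
    have he : H0.map (e : L →* inr.range) = Hg.subgroupOf inr.range := by
      ext x
      constructor
      · rintro ⟨a, ha, rfl⟩
        exact ⟨a, ha, rfl⟩
      · rintro ⟨a, ha, hax⟩
        exact ⟨a, ha, Subtype.ext hax⟩
    rw [← he]
    exact (OrderIso.isCoatom_iff (MulEquiv.mapSubgroup e) H0).2 hH0
  · -- K maximal
    exact Subgroup.isCoatom_comap_of_surjective SemidirectProduct.rightHom_surjective hH0
  · -- H is not maximal in K
    intro hco
    let T : Subgroup G :=
      { carrier := {g | g.left.toAdd ∈ W ∧ g.right ∈ H0}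
        one_mem' := ⟨by simp, one_mem H0⟩
        mul_mem' := fun {a b} ha hb => ⟨by
          rw [SemidirectProduct.mul_left, toAdd_mul, scaleHom_apply, toAdd_ofAdd]
          exact add_mem ha.1 (hW _ ha.2 _ hb.1), mul_mem ha.2 hb.2⟩
        inv_mem' := fun {a} ha => ⟨by
          rw [SemidirectProduct.inv_left, scaleHom_apply, toAdd_ofAdd, toAdd_inv]
          exact hW _ (inv_mem ha.2) _ (neg_mem ha.1), inv_mem ha.2⟩ }
    obtain ⟨w, hw, hw0⟩ := (AddSubgroup.bot_or_exists_ne_zero W).resolve_left hWbot
    have hTK : T ≤ Kg := fun g hg => hg.2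
    have hlt : Hg.subgroupOf Kg < T.subgroupOf Kg := by
      refine lt_of_le_not_ge ?_ ?_
      · intro x hx
        obtain ⟨a, ha, hax⟩ := hx
        change (x : G) ∈ T
        rw [← show inr a = (x : G) from hax]
        exact ⟨zero_mem W, ha⟩
      · intro hle
        have hmem : inl (Multiplicative.ofAdd w) ∈ T := ⟨hw, one_mem H0⟩
        obtain ⟨a, ha, hax⟩ := hle (show (⟨_, hTK hmem⟩ : Kg) ∈ T.subgroupOf Kg from hmem)
        have := congrArg (fun g : G => g.left) hax
        simp only [inl, inr] at this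
        exact hw0 (congrArg Multiplicative.toAdd (this : (1 : Multiplicative K) = Multiplicative.ofAdd w)).symm
    have htop := hco.2 _ hlt
    refine hWtop ?_
    rw [eq_top_iff]
    intro v _
    have hv : inl (Multiplicative.ofAdd v) ∈ Kg := by
      change pr (inl _) ∈ H0
      exact one_mem H0
    have : (⟨_, hv⟩ : Kg) ∈ T.subgroupOf Kg := htop ▸ Subgroup.mem_top _
    exact this.1

end CfsgLib.Lie.SecondMax
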