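import Mathlib.GroupTheory.Sylow
import Mathlib.GroupTheory.Transfer
import Mathlib.Tactic.NormNum.Prime
import Mathlib.GroupTheory.GroupAction.Quotient
import Mathlib.GroupTheory.Subgroup.Simple
import Mathlib.GroupTheory.Perm.Basic

/-!
Simple groups of order 168 are all isomorphic: they act on their eight Sylow 7-subgroups in one standard way.
-/

set_option autoImplicit false
set_option linter.unusedSectionVars false
set_option linter.unusedSimpArgs false

namespace CfsgLib.Lie.SimpleOrder168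

/-- the affine maps of the seven finite points, fixing the point 7 -/
def nf (j k : ℕ) (i : Fin 8) : Fin 8 := if i = 7 then 7 else ⟨(2 ^ k * i.1 + j) % 7, by omega⟩

/-- the standard involution `i ↦ -1/i` -/
def t0 : Fin 8 → Fin 8 := ![7, 6, 3, 2, 5, 4, 1, 0]

/-- the candidates for an element swapping 7 and 0 and normalising the stabiliser -/
def cand (s : ℕ) (a b : Fin 8) : Fin 8 → Fin 8 :=
  ![7, a, nf 0 s a, b, nf 0 (2 * s) a, nf 0 (2 * s) b, nf 0 s b, 0]

theorem cand_ok : ∀ a b : Fin 8, (∀ u v, cand 2 a b u = cand 2 a b v → u = v) →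
    (∃ i : Fin 7, ∃ j : Fin 7, ∃ k : Fin 3, ∀ u, cand 2 a b (nf 1 0 (cand 2 a b u)) =
      nf i.1 0 (cand 2 a b (nf j.1 k.1 u))) →
    ∃ j : Fin 7, ∃ k : Fin 3, ∀ u, cand 2 a b u = t0 (nf j.1 k.1 u) := by decide +kernel

theorem fixed_two : ∀ u : Fin 8, nf 0 1 u = u → u = 7 ∨ u = 0 := by decide +kernel

/-- the standard permutations -/
def Std (σ : Fin 8 → Fin 8) : Prop :=
  (∃ j k : ℕ, σ = nf j k) ∨ ∃ i j k : ℕ, σ = nf i 0 ∘ t0 ∘ nf j k

theorem nf_comp : ∀ j k j' k' : ℕ, ∃ j'' k'' : ℕ, nf j k ∘ nf j' k' = nf j'' k'' := fun j k j' k' => by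
  refine ⟨2 ^ k * j' + j, k + k', funext fun i => ?_⟩
  unfold nf
  simp only [Function.comp_apply]
  by_cases h : i = 7
  · simp [h]
  · simp only [if_neg h]
    have hne : (⟨(2 ^ k' * i.1 + j') % 7, by omega⟩ : Fin 8) ≠ 7 := fun e => by
      have := congrArg Fin.val e
      simp at this
      omega
    rw [if_neg hne]
    refine Fin.ext ?_
    show (2 ^ k * ((2 ^ k' * i.1 + j') % 7) + j) % 7 = (2 ^ (k + k') * i.1 + (2 ^ k * j' + j)) % 7
    rw [Nat.add_mod, Nat.mul_mod, Nat.mod_mod, ← Nat.mul_mod, ← Nat.add_mod, pow_add]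
    congr 1
    ring

variable {G : Type*} [Group G] [Finite G]

theorem card_sylow_seven [IsSimpleGroup G] [Fact (Nat.Prime 7)] (h : Nat.card G = 168) : Nat.card (Sylow 7 G) = 8 := by
  obtain ⟨P⟩ : Nonempty (Sylow 7 G) := inferInstance
  have hP : Nat.card (P : Subgroup G) = 7 := by
    rw [P.card_eq_multiplicity, h]
    have : (168 : ℕ).factorization 7 = 1 := by
      rw [show (168 : ℕ) = 24 * 7 by norm_num, Nat.factorization_mul (by norm_num) (by norm_num),
        Finsupp.add_apply, Nat.factorization_eq_zero_of_not_dvd (by norm_num),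
        Nat.Prime.factorization_self (show Nat.Prime 7 by norm_num)]
    rw [this, pow_one]
  have hidx : (P : Subgroup G).index = 24 := by
    have := (P : Subgroup G).card_mul_index
    rw [hP, h] at this
    omega
  have h1 : Nat.card (Sylow 7 G) ∣ 24 := hidx ▸ P.card_dvd_index
  have h2 := card_sylow_modEq_one 7 G
  obtain ⟨m, hm⟩ : ∃ m, Nat.card (Sylow 7 G) = m := ⟨_, rfl⟩
  rw [hm] at h1 h2 ⊢
  have hfin : ∀ k ∈ Nat.divisors 24, k % 7 = 1 → k = 1 ∨ k = 8 := by decide +kernel
  rcases hfin m (Nat.mem_divisors.2 ⟨h1, by norm_num⟩) h2 with e | e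
  · exfalso
    rw [e] at hm
    haveI : Subsingleton (Sylow 7 G) := (Nat.card_eq_one_iff_unique.1 hm).1
    haveI : (P : Subgroup G).Normal := P.normal_of_subsingleton
    rcases (Subgroup.Normal.eq_bot_or_eq_top (H := (P : Subgroup G)) inferInstance) with e | e <;>
      rw [e] at hP <;> simp [h] at hP
  · exact e

theorem standard [IsSimpleGroup G] (h : Nat.card G = 168) :
    ∃ f : G →* Equiv.Perm (Fin 8), Function.Injective f ∧ ∀ σ : Equiv.Perm (Fin 8), σ ∈ f.range ↔ Std σ := by
  haveI : Fact (Nat.Prime 7) := ⟨by norm_num⟩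
  haveI : Fact (Nat.Prime 3) := ⟨Nat.prime_three⟩
  classical
  have h8 := card_sylow_seven h
  obtain ⟨P⟩ : Nonempty (Sylow 7 G) := inferInstance
  have hP : Nat.card (P : Subgroup G) = 7 := by
    rw [P.card_eq_multiplicity, h]
    have : (168 : ℕ).factorization 7 = 1 := by
      rw [show (168 : ℕ) = 24 * 7 by norm_num, Nat.factorization_mul (by norm_num) (by norm_num),
        Finsupp.add_apply, Nat.factorization_eq_zero_of_not_dvd (by norm_num),
        Nat.Prime.factorization_self (show Nat.Prime 7 by norm_num)]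
    rw [this, pow_one]
  haveI : IsCyclic (P : Subgroup G) := isCyclic_of_prime_card hP
  obtain ⟨a₀, ha₀⟩ := IsCyclic.exists_ofOrder_eq_natCard (α := (P : Subgroup G))
  obtain ⟨a, ha⟩ : ∃ a : G, a = a₀ := ⟨_, rfl⟩
  have hao : orderOf a = 7 := by rw [ha, Subgroup.orderOf_coe, ha₀, hP]
  have haP : a ∈ (P : Subgroup G) := ha ▸ a₀.2
  have hPa : Subgroup.zpowers a = (P : Subgroup G) :=
    Subgroup.eq_of_le_of_card_ge (Subgroup.zpowers_le.2 haP) (by rw [Nat.card_zpowers, hao, hP])
  -- a fixes only P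
  have hfix : ∀ (i : ℤ) (Q : Sylow 7 G), a ^ i • Q = Q → Q = P ∨ a ^ i = 1 := by
    intro i Q hQ
    by_cases h1 : a ^ i = 1
    · exact Or.inr h1
    left
    have hmem : a ^ i ∈ (P : Subgroup G) ⊓ Subgroup.normalizer ((Q : Subgroup G) : Set G) :=
      Subgroup.mem_inf.2 ⟨zpow_mem haP i, Sylow.smul_eq_iff_mem_normalizer.1 hQ⟩
    replace hmem : a ^ i ∈ (P : Subgroup G) ⊓ (Q : Subgroup G) := (IsPGroup.inf_normalizer_sylow P.isPGroup' Q).le hmem
    by_contra hne
    have hlt : (P : Subgroup G) ⊓ (Q : Subgroup G) = ⊥ := by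
      have hd := Subgroup.card_dvd_of_le (inf_le_left : (P : Subgroup G) ⊓ (Q : Subgroup G) ≤ P)
      rw [hP] at hd
      rcases (Nat.dvd_prime (Fact.out)).1 hd with e | e
      · exact Subgroup.eq_bot_of_card_eq _ e
      · exfalso
        refine hne (Sylow.ext ?_)
        have hle : (P : Subgroup G) ≤ (Q : Subgroup G) :=
          (Subgroup.eq_of_le_of_card_ge inf_le_left (by rw [e, hP])).ge.trans inf_le_right
        exact P.3 Q.isPGroup' hle
    rw [hlt, Subgroup.mem_bot] at hmem
    exact h1 hmem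
  -- an element of order three in the normaliser
  have hN : Nat.card (MulAction.stabilizer G P) = 21 := by
    have h1 := (MulAction.stabilizer G P).card_mul_index
    rw [MulAction.index_stabilizer, MulAction.orbit_eq_univ, Set.ncard_univ, h8, h] at h1
    omega
  obtain ⟨b₀, hb₀⟩ := exists_prime_orderOf_dvd_card' (G := MulAction.stabilizer G P) 3 (by rw [hN]; norm_num)
  have hb₀o : orderOf (b₀ : G) = 3 := by rw [Subgroup.orderOf_coe, hb₀]
  have hinj : Function.Injective (MulAction.toPermHom G (Sylow 7 G)) := by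
    rw [← MonoidHom.ker_eq_bot_iff]
    refine (Subgroup.Normal.eq_bot_or_eq_top inferInstance).resolve_right fun e => ?_
    have hst : MulAction.stabilizer G P = ⊤ := by
      rw [eq_top_iff]
      intro g _
      have h1 : g ∈ (MulAction.toPermHom G (Sylow 7 G)).ker := e ▸ Subgroup.mem_top g
      exact congrArg (fun σ : Equiv.Perm (Sylow 7 G) => σ P) (MonoidHom.mem_ker.1 h1)
    rw [hst, Subgroup.card_top, h] at hN
    omega
  obtain ⟨b, Q₀, hQ₀, hbP, hbQ, hbo, hba⟩ : ∃ (b : G) (Q₀ : Sylow 7 G), Q₀ ≠ P ∧ b • P = P ∧ b • Q₀ = Q₀ ∧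
      orderOf b = 3 ∧ b * a * b⁻¹ = a ^ 2 := by
    obtain ⟨r, hr⟩ : ∃ r : ℕ, (b₀ : G) * a * (b₀ : G)⁻¹ = a ^ r := by
      have hn := Sylow.smul_eq_iff_mem_normalizer.1 (b₀.2 : (b₀ : G) • P = P)
      have hm : (b₀ : G) * a * (b₀ : G)⁻¹ ∈ Subgroup.zpowers a := hPa.symm ▸ (Subgroup.mem_normalizer_iff.1 hn a).1 haP
      obtain ⟨r, hr⟩ := (mem_powers_iff_mem_zpowers (x := a)).2 hm
      exact ⟨r, hr.symm⟩
    have hpow : ∀ m : ℕ, (b₀ : G) ^ m * a * ((b₀ : G) ^ m)⁻¹ = a ^ (r ^ m) := by
      intro m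
      induction m with
      | zero => simp
      | succ m ih =>
        rw [pow_succ', show (b₀ : G) * (b₀ : G) ^ m * a * ((b₀ : G) * (b₀ : G) ^ m)⁻¹ =
          (b₀ : G) * ((b₀ : G) ^ m * a * ((b₀ : G) ^ m)⁻¹) * (b₀ : G)⁻¹ by group, ih, ← conj_pow, hr, ← pow_mul,
          pow_succ']
    have h3 := hpow 3
    rw [← hb₀o, pow_orderOf_eq_one, one_mul, inv_one, mul_one, hb₀o] at h3
    have h3' : a ^ 1 = a ^ r ^ 3 := by rw [pow_one]; exact h3
    rw [pow_eq_pow_iff_modEq, hao, Nat.ModEq, Nat.pow_mod] at h3'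
    -- a fixed point other than P
    obtain ⟨Q₀, hQ₀, hbQ⟩ : ∃ Q₀ : Sylow 7 G, Q₀ ≠ P ∧ (b₀ : G) • Q₀ = Q₀ := by
      let B : Subgroup G := Subgroup.zpowers (b₀ : G)
      have hB : IsPGroup 3 B := IsPGroup.of_card (n := 1) (by rw [Nat.card_zpowers, hb₀o, pow_one])
      haveI : Fintype (Sylow 7 G) := Fintype.ofFinite _
      have hc := hB.card_modEq_card_fixedPoints (Sylow 7 G)
      rw [h8] at hc
      have h2 : 2 ≤ Nat.card (MulAction.fixedPoints B (Sylow 7 G)) := by
        have := Nat.ModEq.symm hc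
        rw [Nat.ModEq] at this
        omega
      have hPf : P ∈ MulAction.fixedPoints B (Sylow 7 G) := by
        rintro ⟨g, hg⟩
        have hg' : g ∈ MulAction.stabilizer G P := (Subgroup.zpowers_le.2 b₀.2) hg
        exact hg'
      haveI : Nontrivial (MulAction.fixedPoints B (Sylow 7 G)) := Finite.one_lt_card_iff_nontrivial.1 (by omega)
      obtain ⟨Q, hQ⟩ := exists_ne (⟨P, hPf⟩ : MulAction.fixedPoints B (Sylow 7 G))
      exact ⟨Q.1, fun e => hQ (Subtype.ext e), Q.2 ⟨_, Subgroup.mem_zpowers _⟩⟩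
    have hrne : r % 7 ≠ 1 := by
      intro e
      have hcomm : (b₀ : G) * a = a * b₀ := by
        rw [← mul_inv_eq_iff_eq_mul, hr, ← pow_mod_orderOf, hao, e, pow_one]
      have hb1 : (b₀ : G) = 1 := by
        refine hinj (Equiv.ext fun Q => ?_)
        show (b₀ : G) • Q = (1 : G) • Q
        rw [one_smul]
        by_cases hQ : Q = P
        · rw [hQ]; exact b₀.2
        · have hsur : ∃ i : Fin 7, a ^ (i : ℕ) • Q₀ = Q := by
            have hbij : Function.Bijective (fun o : Option (Fin 7) => o.elim P fun i => a ^ (i : ℕ) • Q₀) := by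
              refine (Nat.bijective_iff_injective_and_card _).2 ⟨?_, by rw [Finite.card_option, Nat.card_fin, h8]⟩
              have hne : ∀ i : ℕ, a ^ i • Q₀ ≠ P := fun i e' => hQ₀ (by
                have h1 : (a ^ i)⁻¹ • P = P := inv_smul_eq_iff.2 (Sylow.smul_eq_iff_mem_normalizer.2
                  (Subgroup.le_normalizer (pow_mem haP i))).symm
                rw [← inv_smul_smul (a ^ i) Q₀, e', h1])
              rintro (_ | i) (_ | j) e'
              · rfl
              · exact absurd e'.symm (hne _)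
              · exact absurd e' (hne _)
              · have h1 : a ^ ((i : ℤ) - j) • Q₀ = Q₀ := by
                  rw [zpow_sub, zpow_natCast, zpow_natCast, (Commute.pow_pow_self a i j).inv_right.eq, mul_smul,
                    show a ^ (i : ℕ) • Q₀ = a ^ (j : ℕ) • Q₀ from e', inv_smul_smul]
                rcases hfix _ _ h1 with h2 | h2
                · exact absurd h2 hQ₀
                · rw [← orderOf_dvd_iff_zpow_eq_one, hao] at h2
                  congr 1; exact Fin.ext (by omega)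
            obtain ⟨o, ho⟩ := hbij.2 Q
            rcases o with _ | i
            · exact absurd ho.symm hQ
            · exact ⟨i, ho⟩
          obtain ⟨i, rfl⟩ := hsur
          rw [← mul_smul, (Commute.pow_right (show Commute (b₀ : G) a from hcomm) i).eq, mul_smul, hbQ]
      rw [hb1, orderOf_one] at hb₀o
      omega
    have hr24 : r % 7 = 2 ∨ r % 7 = 4 := by
      have : r % 7 < 7 := Nat.mod_lt _ (by norm_num)
      interval_cases hrr : r % 7 <;> first | omega | (norm_num at h3' hrne)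
    rcases hr24 with e | e
    · exact ⟨b₀, Q₀, hQ₀, b₀.2, hbQ, hb₀o, by rw [hr, ← pow_mod_orderOf, hao, e]⟩
    · refine ⟨(b₀ : G) * b₀, Q₀, hQ₀, by rw [mul_smul, show (b₀ : G) • P = P from b₀.2, b₀.2], by rw [mul_smul, hbQ, hbQ], ?_, ?_⟩
      · rw [← pow_two, orderOf_pow' _ two_ne_zero, hb₀o]; rfl
      · rw [← pow_two, hpow 2, ← pow_mod_orderOf, hao, Nat.pow_mod, e]
  -- labelling
  have hne : ∀ i : ℕ, a ^ i • Q₀ ≠ P := fun i e' => hQ₀ (by
    have h1 : (a ^ i)⁻¹ • P = P := inv_smul_eq_iff.2 (Sylow.smul_eq_iff_mem_normalizer.2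
      (Subgroup.le_normalizer (pow_mem haP i))).symm
    rw [← inv_smul_smul (a ^ i) Q₀, e', h1])
  have hbij : Function.Bijective (fun i : Fin 8 => if i = 7 then P else a ^ (i : ℕ) • Q₀) := by
    refine (Nat.bijective_iff_injective_and_card _).2 ⟨?_, by rw [Nat.card_fin, h8]⟩
    intro i j e
    dsimp only at e
    by_cases hi : i = 7 <;> by_cases hj : j = 7
    · rw [hi, hj]
    · rw [if_pos hi, if_neg hj] at e; exact absurd e.symm (hne _)
    · rw [if_neg hi, if_pos hj] at e; exact absurd e (hne _)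
    · rw [if_neg hi, if_neg hj] at e
      have h1 : a ^ ((i : ℤ) - j) • Q₀ = Q₀ := by
        rw [zpow_sub, zpow_natCast, zpow_natCast, (Commute.pow_pow_self a i j).inv_right.eq, mul_smul, e, inv_smul_smul]
      rcases hfix _ _ h1 with h2 | h2
      · exact absurd h2 hQ₀
      · rw [← orderOf_dvd_iff_zpow_eq_one, hao] at h2
        have : (i : ℕ) ≠ 7 := fun e => hi (Fin.ext e)
        have : (j : ℕ) ≠ 7 := fun e => hj (Fin.ext e)
        exact Fin.ext (by omega)
  let e := Equiv.ofBijective _ hbij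
  have he : ∀ i : Fin 8, e i = if i = 7 then P else a ^ (i : ℕ) • Q₀ := fun i => rfl
  let f : G →* Equiv.Perm (Fin 8) := e.symm.permCongrHom.toMonoidHom.comp (MulAction.toPermHom G (Sylow 7 G))
  have hf : ∀ g i, e (f g i) = g • e i := fun g i => e.apply_symm_apply _
  have hfinj : Function.Injective f := e.symm.permCongrHom.injective.comp hinj
  have haQ : ∀ m : ℕ, a ^ (m % 7) • Q₀ = a ^ m • Q₀ := fun m =>
    congrArg (· • Q₀) (by rw [pow_eq_pow_iff_modEq, hao]; exact Nat.mod_modEq m 7)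
  have hnf7 : ∀ j k, nf j k 7 = 7 := fun j k => by simp [nf]
  have hfab : ∀ j k : ℕ, ⇑(f (a ^ j * b ^ k)) = nf j k := by
    intro j k
    funext i
    apply e.injective
    rw [hf]
    by_cases hi : i = 7
    · rw [hi, hnf7, he, if_pos rfl, mul_smul]
      have hbk : b ^ k • P = P := (MulAction.stabilizer G P).pow_mem hbP k
      rw [hbk]
      exact Sylow.smul_eq_iff_mem_normalizer.2 (Subgroup.le_normalizer (pow_mem haP j))
    · have hb_conj : ∀ k : ℕ, b ^ k * a * (b ^ k)⁻¹ = a ^ (2 ^ k) := by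
        intro k
        induction k with
        | zero => simp
        | succ k ih =>
          rw [pow_succ', show b * b ^ k * a * (b * b ^ k)⁻¹ = b * (b ^ k * a * (b ^ k)⁻¹) * b⁻¹ by group,
            ih, ← conj_pow, hba, ← pow_mul, ← pow_succ']
      have hbk : b ^ k • Q₀ = Q₀ := (MulAction.stabilizer G Q₀).pow_mem hbQ k
      have hbi : b ^ k * a ^ (i : ℕ) = a ^ (2 ^ k * (i : ℕ)) * b ^ k := by
        rw [← mul_inv_eq_iff_eq_mul, ← conj_pow, hb_conj, ← pow_mul]
      rw [he, if_neg hi, ← mul_smul, mul_assoc, hbi, ← mul_assoc, ← pow_add, mul_smul, hbk, he]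
      unfold nf
      rw [if_neg hi, if_neg (fun e' => by have := congrArg Fin.val e'; simp at this; omega)]
      show _ = a ^ ((2 ^ k * i.1 + j) % 7) • Q₀
      rw [haQ, add_comm]
  have hf7 : ∀ g : G, f g 7 = 7 ↔ g • P = P := fun g => by
    rw [← e.injective.eq_iff, hf, he, if_pos rfl]
  have hstab : ∀ g : G, f g 7 = 7 → ∃ j k : ℕ, g = a ^ j * b ^ k := by
    intro g hg
    obtain ⟨j, hj⟩ : ∃ j : ℕ, g • Q₀ = a ^ j • Q₀ := by
      obtain ⟨i, hi⟩ := hbij.2 (g • Q₀)
      dsimp only at hi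
      by_cases h7 : i = 7
      · rw [if_pos h7] at hi
        exfalso
        refine hQ₀ ?_
        rw [← smul_left_cancel_iff g, ← hi, (hf7 g).1 hg]
      · rw [if_neg h7] at hi; exact ⟨i, hi.symm⟩
    have h3 : Nat.card ((MulAction.stabilizer G Q₀).subgroupOf (MulAction.stabilizer G P)) = 3 := by
      have h1 := ((MulAction.stabilizer G Q₀).subgroupOf (MulAction.stabilizer G P)).card_mul_index
      have horb : ((MulAction.stabilizer G Q₀).subgroupOf (MulAction.stabilizer G P)).index = 7 := by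
        rw [show (MulAction.stabilizer G Q₀).subgroupOf (MulAction.stabilizer G P) =
          MulAction.stabilizer (MulAction.stabilizer G P) Q₀ from rfl, MulAction.index_stabilizer]
        have hset : MulAction.orbit (MulAction.stabilizer G P) Q₀ = {P}ᶜ := by
          ext Q
          constructor
          · rintro ⟨s, rfl⟩ hh
            exact hQ₀ ((smul_left_cancel_iff (s : G)).1 ((show (s : G) • Q₀ = P from hh).trans s.2.symm))
          · intro hQ
            obtain ⟨i, rfl⟩ := e.surjective Q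
            rw [he] at hQ ⊢
            by_cases h7 : i = 7
            · rw [if_pos h7] at hQ; exact absurd rfl hQ
            · rw [if_neg h7]
              exact ⟨⟨a ^ (i : ℕ), Sylow.smul_eq_iff_mem_normalizer.2 (Subgroup.le_normalizer (pow_mem haP _))⟩, rfl⟩
        rw [hset, Set.ncard_compl, h8, Set.ncard_singleton]
      rw [horb, hN] at h1
      omega
    have hmem : (a ^ j)⁻¹ * g ∈ MulAction.stabilizer G P :=
      mul_mem (inv_mem (Sylow.smul_eq_iff_mem_normalizer.2 (Subgroup.le_normalizer (pow_mem haP j)))) ((hf7 g).1 hg)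
    obtain ⟨bs, hbs⟩ : ∃ bs : MulAction.stabilizer G P, (bs : G) = b := ⟨⟨b, hbP⟩, rfl⟩
    have hB : Subgroup.zpowers bs = (MulAction.stabilizer G Q₀).subgroupOf (MulAction.stabilizer G P) :=
      Subgroup.eq_of_le_of_card_ge (Subgroup.zpowers_le.2 (show (bs : G) • Q₀ = Q₀ by rw [hbs]; exact hbQ))
        (by rw [h3, Nat.card_zpowers, ← Subgroup.orderOf_coe, hbs, hbo])
    obtain ⟨gs, hgs⟩ : ∃ gs : MulAction.stabilizer G P, (gs : G) = (a ^ j)⁻¹ * g := ⟨⟨_, hmem⟩, rfl⟩
    have hk : gs ∈ Subgroup.zpowers bs := by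
      rw [hB]
      show (gs : G) • Q₀ = Q₀
      rw [hgs, mul_smul, hj, inv_smul_smul]
    obtain ⟨k, hk⟩ := (mem_powers_iff_mem_zpowers (x := bs)).2 hk
    refine ⟨j, k, ?_⟩
    have := congrArg Subtype.val hk
    simp only [SubmonoidClass.coe_pow, hbs, hgs] at this
    rw [this, mul_inv_cancel_left]
  have he0 : e 0 = Q₀ := by simp [he]
  have he7 : e 7 = P := by simp [he]
  obtain ⟨t, ht7, ht0⟩ : ∃ t : G, f t 7 = 0 ∧ f t 0 = 7 := by
    obtain ⟨g, hg⟩ := MulAction.exists_smul_eq G P Q₀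
    obtain ⟨i, hi⟩ := e.surjective (g⁻¹ • P)
    have hgi : g • e i = P := by rw [hi, smul_inv_smul]
    have hi7 : i ≠ 7 := fun e' => by
      rw [e', he7, hg] at hgi
      exact hQ₀ hgi
    rw [he, if_neg hi7] at hgi
    refine ⟨g * a ^ (i : ℕ), e.injective ?_, e.injective ?_⟩
    · rw [hf, he7, mul_smul, Sylow.smul_eq_iff_mem_normalizer.2 (Subgroup.le_normalizer (pow_mem haP _)), hg, he0]
    · rw [hf, he0, mul_smul, he7, hgi]
  have hconjpair : f (t * b * t⁻¹) 7 = 7 ∧ f (t * b * t⁻¹) 0 = 0 := by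
    have hb' := hfab 0 1
    simp only [pow_zero, one_mul, pow_one] at hb'
    have ht7' : (f t)⁻¹ 7 = 0 := Equiv.Perm.inv_eq_iff_eq.2 ht0.symm
    have ht0' : (f t)⁻¹ 0 = 7 := Equiv.Perm.inv_eq_iff_eq.2 ht7.symm
    rw [map_mul, map_mul, map_inv]
    simp only [Equiv.Perm.coe_mul, Function.comp_apply, ht7', ht0', hb']
    exact ⟨ht0, ht7⟩
  obtain ⟨s, hs0, hs⟩ : ∃ s : Fin 3, 0 < s.1 ∧ t * b * t⁻¹ = b ^ s.1 := by
    obtain ⟨j, k, hjk⟩ := hstab _ hconjpair.1
    have h0 := hconjpair.2
    rw [hjk, hfab] at h0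
    have hj7 : j % 7 = 0 := by
      have := congrArg Fin.val h0
      simpa [nf] using this
    have hbk : t * b * t⁻¹ = b ^ (k % 3) := by
      rw [hjk, ← pow_mod_orderOf a, hao, hj7, pow_zero, one_mul, ← hbo, pow_mod_orderOf]
    refine ⟨⟨k % 3, by omega⟩, Nat.pos_of_ne_zero fun e' => ?_, hbk⟩
    simp only at e'
    rw [e', pow_zero, mul_inv_eq_one, mul_eq_left] at hbk
    rw [hbk, orderOf_one] at hbo
    omega
  have hs2 : s.1 = 2 := by
    by_contra hne'
    have hs1 : s.1 = 1 := by omega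
    rw [hs1, pow_one] at hs
    haveI : Fact (Nat.Prime 3) := ⟨Nat.prime_three⟩
    have hBc : Nat.card (Subgroup.zpowers b) = 3 ^ (Nat.card G).factorization 3 := by
      rw [Nat.card_zpowers, hbo, h]
      have : (168 : ℕ).factorization 3 = 1 := by
        rw [show (168 : ℕ) = 56 * 3 by norm_num, Nat.factorization_mul (by norm_num) (by norm_num),
          Finsupp.add_apply, Nat.factorization_eq_zero_of_not_dvd (by norm_num),
          Nat.Prime.factorization_self Nat.prime_three]
      rw [this, pow_one]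
    obtain ⟨B, hB⟩ : ∃ B : Sylow 3 G, B = Sylow.ofCard (Subgroup.zpowers b) hBc := ⟨_, rfl⟩
    have hBe : (B : Subgroup G) = Subgroup.zpowers b := by rw [hB]; rfl
    have hcb : ∀ g : G, (∀ z ∈ Subgroup.zpowers b, g * z * g⁻¹ ∈ Subgroup.zpowers b) → g * b = b * g := by
      have hb' := hfab 0 1
      simp only [pow_zero, one_mul, pow_one] at hb'
      have hfx : ∀ g : G, (∀ z ∈ Subgroup.zpowers b, g * z * g⁻¹ ∈ Subgroup.zpowers b) → ∀ u, nf 0 1 u = u →
          nf 0 1 (f g u) = f g u := by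
        intro g hg u hu
        obtain ⟨m, hm⟩ := hg b (Subgroup.mem_zpowers b)
        have hbu : f b u = u := by rw [hb']; exact hu
        have hgb : f (g * b * g⁻¹) (f g u) = f g u := by
          rw [← Equiv.Perm.mul_apply, ← map_mul, inv_mul_cancel_right, map_mul, Equiv.Perm.mul_apply, hbu]
        rw [← hb']
        -- b is a power of its conjugate
        have hmem : b ∈ Subgroup.zpowers (g * b * g⁻¹) := by
          have hle : Subgroup.zpowers (g * b * g⁻¹) ≤ Subgroup.zpowers b := Subgroup.zpowers_le.2 ⟨m, hm⟩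
          have hcard : Nat.card (Subgroup.zpowers b) ≤ Nat.card (Subgroup.zpowers (g * b * g⁻¹)) := by
            rw [Nat.card_zpowers, Nat.card_zpowers, ← MulAut.conj_apply g b, MulEquiv.orderOf_eq]
          rw [Subgroup.eq_of_le_of_card_ge hle hcard]
          exact Subgroup.mem_zpowers b
        obtain ⟨l, hl⟩ := (mem_powers_iff_mem_zpowers (x := g * b * g⁻¹)).2 hmem
        have hp : ∀ l : ℕ, f ((g * b * g⁻¹) ^ l) (f g u) = f g u := by
          intro l
          induction l with
          | zero => simp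
          | succ l ih => rw [pow_succ, map_mul, Equiv.Perm.mul_apply, hgb, ih]
        have := hp l
        simp only at hl
        rw [hl] at this
        exact this
      have hin : ∀ g : G, (∀ z ∈ Subgroup.zpowers b, g * z * g⁻¹ ∈ Subgroup.zpowers b) → f g 7 = 7 → g * b = b * g := by
        intro g hg h7
        obtain ⟨j, k, rfl⟩ := hstab g h7
        have h0 := fixed_two _ (hfx _ hg 0 (by decide))
        rw [hfab] at h0
        rcases h0 with h0 | h0
        · exfalso
          have := congrArg Fin.val h0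
          simp [nf] at this
          omega
        · have hj7 : j % 7 = 0 := by
            have := congrArg Fin.val h0
            simpa [nf] using this
          rw [← pow_mod_orderOf a, hao, hj7, pow_zero, one_mul, ← pow_succ, ← pow_succ']
      intro g hg
      rcases fixed_two _ (hfx g hg 7 (by decide)) with h7 | h7
      · exact hin g hg h7
      · have htb : t * b = b * t := mul_inv_eq_iff_eq_mul.1 hs
        have hti : ∀ z ∈ Subgroup.zpowers b, t⁻¹ * z * t = z := by
          rintro z ⟨m, rfl⟩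
          have hc : Commute t (b ^ m) := (show Commute t b from htb).zpow_right m
          rw [mul_assoc, ← hc.eq, inv_mul_cancel_left]
        have h := hin (t⁻¹ * g) (fun z hz => by
            rw [show t⁻¹ * g * z * (t⁻¹ * g)⁻¹ = t⁻¹ * (g * z * g⁻¹) * t by group, hti _ (hg z hz)]
            exact hg z hz) (by
            rw [map_mul, map_inv, Equiv.Perm.mul_apply, h7, Equiv.Perm.inv_eq_iff_eq, ht7])
        calc g * b = t * (t⁻¹ * g * b) := by group
          _ = t * (b * (t⁻¹ * g)) := by rw [h]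
          _ = b * g := by rw [← mul_assoc, htb]; group
    have hNC : Subgroup.normalizer ((B : Subgroup G) : Set G) ≤ Subgroup.centralizer (B : Set G) := by
      intro g hg
      rw [hBe] at hg
      have hg' : ∀ z ∈ Subgroup.zpowers b, g * z * g⁻¹ ∈ Subgroup.zpowers b := fun z hz =>
        (Subgroup.mem_normalizer_iff.1 hg z).1 hz
      refine Subgroup.mem_centralizer_iff.2 fun z hz => ?_
      have hz' : z ∈ Subgroup.zpowers b := hBe ▸ hz
      obtain ⟨m, rfl⟩ := hz'
      exact ((show Commute g b from hcb g hg').zpow_right m).eq.symm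
    have hcompl := MonoidHom.ker_transferSylow_isComplement' B hNC
    have hc := hcompl.card_mul
    have hB3 : Nat.card (B : Subgroup G) = 3 := by rw [hBe, Nat.card_zpowers, hbo]
    rw [hB3, h] at hc
    rcases (Subgroup.Normal.eq_bot_or_eq_top (H := (MonoidHom.transferSylow B hNC).ker) inferInstance) with e' | e' <;>
      rw [e'] at hc <;> simp [h] at hc
  have hshift : ∀ u, f t (nf 0 1 u) = nf 0 s.1 (f t u) := by
    intro u
    have hb' := hfab 0 1
    have hbs := hfab 0 s.1
    simp only [pow_zero, one_mul, pow_one] at hb' hbs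
    rw [← hb', ← hbs, ← Equiv.Perm.mul_apply, ← Equiv.Perm.mul_apply, ← map_mul, ← map_mul, ← hs, inv_mul_cancel_right]
  have hshift2 : ∀ u, f t (nf 0 2 u) = nf 0 (2 * s.1) (f t u) := by
    intro u
    have e1 : ∀ (k l : ℕ) v, nf 0 k (nf 0 l v) = nf 0 (k + l) v := fun k l v => by
      have h1 := hfab 0 k
      have h2' := hfab 0 l
      have h3 := hfab 0 (k + l)
      simp only [pow_zero, one_mul] at h1 h2' h3
      rw [← h1, ← h2', ← h3, ← Equiv.Perm.mul_apply, ← map_mul, ← pow_add]
    rw [← e1 1 1, hshift, hshift, e1, two_mul]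
  obtain ⟨c, hcdef⟩ : ∃ c, c = cand s.1 (f t 1) (f t 3) := ⟨_, rfl⟩
  have htc : ⇑(f t) = c := by
    funext u
    rw [hcdef]
    fin_cases u
    · exact ht0
    · rfl
    · exact (show f t (nf 0 1 1) = _ from hshift 1)
    · rfl
    · exact (show f t (nf 0 2 1) = _ from hshift2 1)
    · exact (show f t (nf 0 2 3) = _ from hshift2 3)
    · exact (show f t (nf 0 1 3) = _ from hshift 3)
    · exact ht7
  have hfirst : ∀ g : G, f g 7 ≠ 7 → ∃ i j k : ℕ, i < 7 ∧ g = a ^ i * t * (a ^ j * b ^ k) := by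
    intro g hg
    have hlt : (f g 7).1 < 7 := by
      have : (f g 7).1 ≠ 7 := fun e' => hg (Fin.ext e')
      omega
    obtain ⟨j, k, hjk⟩ := hstab ((a ^ (f g 7).1 * t)⁻¹ * g) (by
      rw [map_mul, map_inv, Equiv.Perm.coe_mul, Function.comp_apply, Equiv.Perm.inv_eq_iff_eq, map_mul,
        Equiv.Perm.coe_mul, Function.comp_apply, ht7]
      have h1 := hfab (f g 7).1 0
      rw [pow_zero, mul_one] at h1
      rw [h1]
      refine Fin.ext ?_
      show (f g 7).1 = (2 ^ 0 * 0 + (f g 7).1) % 7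
      omega)
    exact ⟨_, j, k, hlt, by rw [← hjk, mul_inv_cancel_left]⟩
  have hnm : ∀ j k, nf j k = nf (j % 7) (k % 3) := fun j k => by
    rw [← hfab, ← hfab, ← pow_mod_orderOf a j, hao, ← pow_mod_orderOf b k, hbo]
  have hcok : ∃ j k : ℕ, c = t0 ∘ nf j k := by
    have hcinj : ∀ u v, c u = c v → u = v := fun u v huv => (f t).injective (by rw [htc]; exact huv)
    have ha1 := hfab 1 0
    rw [pow_one, pow_zero, mul_one] at ha1
    have hne7 : f (t * a * t) 7 ≠ 7 := by
      rw [map_mul, map_mul, Equiv.Perm.coe_mul, Equiv.Perm.coe_mul]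
      simp only [Function.comp_apply]
      rw [ht7, ha1, ← ht0]
      intro e'
      have := congrArg Fin.val ((f t).injective e')
      simp [nf] at this
    obtain ⟨i, j, k, hi, hijk⟩ := hfirst _ hne7
    have hfun : ∀ u, c (nf 1 0 (c u)) = nf i 0 (c (nf (j % 7) (k % 3) u)) := by
      intro u
      have h1 := congrArg (fun g : G => f g u) hijk
      simp only [map_mul, Equiv.Perm.coe_mul, Function.comp_apply] at h1
      have hai := hfab i 0
      rw [pow_zero, mul_one] at hai
      have hjk := hfab j k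
      rw [map_mul, Equiv.Perm.coe_mul] at hjk
      have hjk' := congrFun hjk u
      simp only [Function.comp_apply] at hjk'
      rw [← htc, ← hnm, ← hjk', ← ha1, ← hai]
      exact h1
    rw [hcdef, hs2] at hcinj hfun ⊢
    obtain ⟨j', k', hh⟩ := cand_ok _ _ hcinj
      ⟨⟨i, hi⟩, ⟨j % 7, Nat.mod_lt _ (by norm_num)⟩, ⟨k % 3, Nat.mod_lt _ (by norm_num)⟩, hfun⟩
    exact ⟨j', k', funext hh⟩
  obtain ⟨j₀, k₀, hc0⟩ := hcok
  refine ⟨f, hfinj, fun σ => ⟨?_, ?_⟩⟩
  · rintro ⟨g, rfl⟩
    by_cases hg : f g 7 = 7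
    · obtain ⟨j, k, rfl⟩ := hstab g hg
      exact Or.inl ⟨j, k, hfab j k⟩
    · obtain ⟨i, j, k, -, rfl⟩ := hfirst g hg
      obtain ⟨j', k', hjk'⟩ := nf_comp j₀ k₀ j k
      refine Or.inr ⟨i, j', k', ?_⟩
      have hai := hfab i 0
      rw [pow_zero, mul_one] at hai
      rw [map_mul, map_mul, Equiv.Perm.coe_mul, Equiv.Perm.coe_mul, hai, htc, hfab, hc0, ← hjk']
      rfl
  · intro hσ
    have hT : ∃ g : G, ⇑(f g) = t0 := by
      refine ⟨t * (a ^ j₀ * b ^ k₀)⁻¹, ?_⟩
      rw [map_mul, map_inv, Equiv.Perm.coe_mul, htc, hc0]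
      funext u
      simp only [Function.comp_apply]
      rw [← hfab, ← Equiv.Perm.mul_apply, mul_inv_cancel, Equiv.Perm.one_apply]
    rcases hσ with ⟨j, k, hjk⟩ | ⟨i, j, k, hijk⟩
    · exact ⟨a ^ j * b ^ k, Equiv.coe_fn_injective ((hfab j k).trans hjk.symm)⟩
    · obtain ⟨g, hg⟩ := hT
      refine ⟨a ^ i * g * (a ^ j * b ^ k), Equiv.coe_fn_injective ?_⟩
      have hai := hfab i 0
      rw [pow_zero, mul_one] at hai
      refine Eq.trans ?_ hijk.symm
      show ⇑(f (a ^ i * g * (a ^ j * b ^ k))) = _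
      rw [map_mul, map_mul, Equiv.Perm.coe_mul, Equiv.Perm.coe_mul, hai, hg, hfab]
      rfl

theorem iso {H : Type*} [Group H] [Finite H] [IsSimpleGroup G] [IsSimpleGroup H] (hG : Nat.card G = 168)
    (hH : Nat.card H = 168) : Nonempty (G ≃* H) := by
  obtain ⟨f, hf, hfS⟩ := standard hG
  obtain ⟨g, hg, hgS⟩ := standard hH
  have he : f.range = g.range := Subgroup.ext fun σ => (hfS σ).trans (hgS σ).symm
  exact ⟨(MonoidHom.ofInjective hf).trans ((MulEquiv.subgroupCongr he).trans (MonoidHom.ofInjective hg).symm)⟩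

end CfsgLib.Lie.SimpleOrder168
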