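import Mathlib

/-!
Singer cycles meet their conjugates in subfield groups.
-/

set_option autoImplicit false

namespace CfsgLib.Lie.Singer

variable {F K : Type*} [Field F] [Fintype F] [Field K] [Fintype K] [Algebra F K]

/-- The Singer group. -/
abbrev M (F K : Type*) [Field F] [Field K] [Algebra F K] : Subgroup (Module.End F K)ˣ :=
  (Units.map ((Algebra.lmul F K : K →ₐ[F] Module.End F K) : K →* Module.End F K)).range

theorem inter_conj (n : ℕ) (hdim : Module.finrank F K = n) (g : (Module.End F K)ˣ)
    (hg : (M F K).map (MulAut.conj g).toMonoidHom ≠ M F K) :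
    ∃ r : ℕ, 1 ≤ r ∧ r ∣ n ∧ r < n ∧
      Nat.card ↥((M F K).map (MulAut.conj g).toMonoidHom ⊓ M F K) ∣ Fintype.card F ^ r - 1 := by
  classical
  set M' := (M F K).map (MulAut.conj g).toMonoidHom with hM'
  let L0 : Subalgebra F K := (Subalgebra.centralizer F
    ((fun u : (Module.End F K)ˣ => (u : Module.End F K)) '' (M' : Set (Module.End F K)ˣ))).comap
      (Algebra.lmul F K)
  let L : IntermediateField F K := L0.toIntermediateField fun x hx => by
    by_cases h0 : x = 0
    · rw [h0, inv_zero]; exact zero_mem _
    have hpow : x⁻¹ = x ^ (Fintype.card K - 2) := by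
      refine inv_eq_of_mul_eq_one_right ?_
      rw [← pow_succ', show Fintype.card K - 2 + 1 = Fintype.card K - 1 by
        have := Fintype.one_lt_card (α := K); omega, FiniteField.pow_card_sub_one_eq_one x h0]
    rw [hpow]; exact pow_mem hx _
  have hcomm : ∀ a ∈ M', ∀ b ∈ M', a * b = b * a := by
    rintro _ ⟨a, ⟨x, rfl⟩, rfl⟩ _ ⟨b, ⟨y, rfl⟩, rfl⟩
    rw [← map_mul, ← map_mul, ← map_mul, ← map_mul, mul_comm]
  have hL : L ≠ ⊤ := by
    intro htop
    refine hg (Subgroup.eq_of_le_of_card_ge ?_ ?_)
    · intro u hu
      have hlin : ∀ x y : K, (u : Module.End F K) (x * y) = x * (u : Module.End F K) y := by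
        intro x y
        have hx : x ∈ L := htop ▸ IntermediateField.mem_top
        exact LinearMap.congr_fun (hx (u : Module.End F K) ⟨u, hu, rfl⟩) y
      have h1 : (u : Module.End F K) 1 ≠ 0 := by
        intro h0
        have h2 := LinearMap.congr_fun (u.inv_mul) 1
        simp only [Module.End.mul_apply, h0, map_zero, Module.End.one_apply] at h2
        exact zero_ne_one h2
      refine ⟨Units.mk0 _ h1, Units.ext (LinearMap.ext fun y => ?_)⟩
      have := hlin y 1
      rw [mul_one] at this
      change (u : Module.End F K) 1 * y = (u : Module.End F K) y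
      rw [this, mul_comm]
    · rw [hM', Subgroup.card_map_of_injective (MulAut.conj g).injective]
  have hr : Module.finrank F L * Module.finrank L K = n := hdim ▸ Module.finrank_mul_finrank F L K
  have hrpos : 0 < Module.finrank F L := Module.finrank_pos
  refine ⟨Module.finrank F L, hrpos, ⟨_, hr.symm⟩, ?_, ?_⟩
  · refine lt_of_le_of_ne (hdim ▸ Submodule.finrank_le L.toSubalgebra.toSubmodule) fun he => hL ?_
    exact IntermediateField.eq_of_le_of_finrank_eq le_top (by rw [he, IntermediateField.finrank_top', hdim])
  · let φ : ↥(M' ⊓ M F K) →* Lˣ :=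
      { toFun := fun u => Units.mk0 ⟨(u.1 : Module.End F K) 1, by
            obtain ⟨⟨v, hv⟩, hu⟩ := (⟨u.2.2, u.2.1⟩ : u.1 ∈ M F K ∧ u.1 ∈ M')
            rintro _ ⟨w, hw, rfl⟩
            have h := congrArg Units.val (hcomm _ hw _ hu)
            have hv' : (u.1 : Module.End F K) = Algebra.lmul F K (v : K) := by rw [← hv]; rfl
            rw [hv'] at ⊢
            rw [show (Algebra.lmul F K (v : K)) 1 = (v : K) from mul_one _]
            simpa [hv'] using h⟩ (by
            obtain ⟨v, hv⟩ := u.2.2
            intro h0
            have h0' : (u.1 : Module.End F K) 1 = 0 := congrArg Subtype.val h0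
            rw [← hv] at h0'
            exact v.ne_zero (by simp at h0'))
        map_one' := Units.ext (Subtype.ext rfl)
        map_mul' := fun u w => Units.ext (Subtype.ext (by
          obtain ⟨v, hv⟩ := u.2.2
          change (u.1 : Module.End F K) ((w.1 : Module.End F K) 1) = (u.1 : Module.End F K) 1 * (w.1 : Module.End F K) 1
          rw [← hv]
          simp)) }
    have hφ : Function.Injective φ := by
      intro u w h
      obtain ⟨v, hv⟩ := u.2.2
      obtain ⟨z, hz⟩ := w.2.2
      have h' : (u.1 : Module.End F K) 1 = (w.1 : Module.End F K) 1 :=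
        congrArg (fun x : Lˣ => ((x : L) : K)) h
      refine Subtype.ext ?_
      rw [← hv, ← hz] at h' ⊢
      simp at h'
      rw [Units.ext h']
    have := Subgroup.card_dvd_of_injective φ hφ
    rwa [Nat.card_units, Module.natCard_eq_pow_finrank (K := F) (V := L),
      Nat.card_eq_fintype_card (α := F)] at this

end CfsgLib.Lie.Singer
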