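import Cfsg.Agent.Lie.SpParabolic
import Cfsg.Agent.Lie.Herm
import Mathlib.Algebra.QuadraticAlgebra.Basic

/-!
The centraliser of a fixed-point-free element of order three in a symplectic group is a unitary group.
-/

set_option autoImplicit false
set_option linter.unusedSimpArgs false
set_option linter.unusedSectionVars false
set_option linter.style.haveILetI false

namespace CfsgLib.Lie.SpCentThree

open Matrix CfsgLib.Lie.Sp

variable {F : Type*} [Field F]

/-- the quadratic extension by a cube root of one -/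
abbrev Q3 (F : Type*) [Field F] := QuadraticAlgebra F (-1 : F) (-1 : F)

/-- the matrix of a linear equivalence -/
noncomputable def glOf {K : Type*} [Field K] {n : ℕ} (e : (Fin n → K) ≃ₗ[K] (Fin n → K)) : GL (Fin n) K :=
  Matrix.GeneralLinearGroup.toLin.symm (LinearMap.GeneralLinearGroup.ofLinearEquiv e)

theorem glOf_mulVec {K : Type*} [Field K] {n : ℕ} (e : (Fin n → K) ≃ₗ[K] (Fin n → K)) (x : Fin n → K) :
    (glOf e : Matrix (Fin n) (Fin n) K) *ᵥ x = e x := by
  simp [glOf, Matrix.GeneralLinearGroup.toLin, LinearMap.toMatrixAlgEquiv', LinearMap.toMatrix'_mulVec]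

theorem card_centralizer [Fintype F] {q : ℕ} (hF : Fintype.card F = q) (hq : q % 3 = 2) {m : ℕ}
    (x : G m F) (hx3 : x ^ 3 = 1) (hfpf : IsUnit ((x : Matrix (Fin m ⊕ Fin m) (Fin m ⊕ Fin m) F) - 1)) :
    Nat.card (Subgroup.centralizer ({x} : Set (G m F))) =
      q ^ (m * (m - 1) / 2) * ∏ i ∈ Finset.range m, (if Even i then q ^ (i + 1) + 1 else q ^ (i + 1) - 1) := by
  classical
  have h3F : (3 : F) ≠ 0 := fun h => by
    have h0 : (q : F) = 0 := hF ▸ FiniteField.cast_card_eq_zero F
    rw [show q = 3 * (q / 3) + 2 by omega, Nat.cast_add, Nat.cast_mul] at h0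
    simp only [Nat.cast_ofNat, h, zero_mul, zero_add] at h0
    exact one_ne_zero (α := F) (by linear_combination h - h0)
  haveI : Fact (∀ r : F, r ^ 2 ≠ (-1 : F) + (-1 : F) * r) := ⟨fun r hr => by
    have h3 : r ^ 3 = 1 := by linear_combination (r - 1) * hr
    have h1 : r ≠ 1 := fun h => h3F (by subst h; linear_combination hr)
    have ho : orderOf r = 3 := orderOf_eq_prime (hp := ⟨Nat.prime_three⟩) h3 h1
    have hr0 : r ≠ 0 := fun h => by subst h; simp at h3
    have := orderOf_dvd_of_pow_eq_one (FiniteField.pow_card_sub_one_eq_one r hr0)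
    rw [ho, hF] at this
    omega⟩
  haveI : Fintype (Q3 F) := Fintype.ofEquiv (F × F) (QuadraticAlgebra.equivProd _ _).symm
  have hK : Fintype.card (Q3 F) = q ^ 2 := by
    rw [Fintype.card_congr (QuadraticAlgebra.equivProd (-1 : F) (-1 : F)), Fintype.card_prod, hF, sq]
  have hσ : ∀ z : Q3 F, Herm.conj hK z = ⟨z.re - z.im, -z.im⟩ := by
    intro z
    have hz : z = algebraMap F (Q3 F) z.re + algebraMap F (Q3 F) z.im * ⟨0, 1⟩ := by
      ext <;> simp
    have hfix : ∀ a : F, Herm.conj hK (algebraMap F (Q3 F) a) = algebraMap F (Q3 F) a := fun a => by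
      rw [Herm.conj_apply, ← map_pow, ← hF, FiniteField.pow_card]
    have hw2 : (⟨0, 1⟩ : Q3 F) ^ 2 = ⟨-1, -1⟩ := by rw [pow_two]; ext <;> simp
    have hw3 : (⟨0, 1⟩ : Q3 F) ^ 3 = 1 := by rw [pow_succ, hw2]; ext <;> simp <;> rfl
    have hw : Herm.conj hK (⟨0, 1⟩ : Q3 F) = ⟨-1, -1⟩ := by
      rw [Herm.conj_apply, ← Nat.div_add_mod q 3, hq, pow_add, pow_mul, hw3, one_pow, one_mul, hw2]
    conv_lhs => rw [hz, map_add, map_mul, hfix, hfix, hw]
    ext <;> simp <;> ring
  have hσq : ∀ z : Q3 F, Herm.conj hK z = z ^ q := fun z => rfl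
  let T : V m F →ₗ[F] V m F := Matrix.mulVecLin (x : Matrix (Fin m ⊕ Fin m) (Fin m ⊕ Fin m) F)
  have hTact : ∀ v, T v = act x v := fun v => rfl
  have hT2 : ∀ v, T (T v) = -v - T v := by
    intro v
    have h3 : T (T (T v)) = v := by
      rw [hTact, hTact, hTact, ← act_mul, ← act_mul, ← pow_three', hx3, act_one]
    have hinj := Matrix.mulVec_injective_of_isUnit hfpf
    have h0 : T (T v) + T v + v = 0 := hinj (by
      rw [Matrix.mulVec_zero, Matrix.sub_mulVec, Matrix.one_mulVec]
      show T (T (T v) + T v + v) - (T (T v) + T v + v) = 0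
      rw [map_add, map_add, h3]; abel)
    rw [← sub_eq_zero, ← h0]; abel
  have hBT : ∀ u w, bf m F (T u) w = -bf m F u (T w) - bf m F u w := by
    intro u w
    have h : bf m F (T u) w = bf m F u (T (T w)) := by
      conv_lhs => rw [show w = T (T (T w)) by
        rw [hTact, hTact, hTact, ← act_mul, ← act_mul, ← pow_three', hx3, act_one]]
      exact bf_act x _ _
    rw [h, hT2, map_sub, map_neg]; ring
  let φ : Q3 F →ₐ[F] Module.End F (V m F) := QuadraticAlgebra.lift ⟨T, LinearMap.ext fun v => by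
    show T (T v) = ((-1 : F) • (1 : Module.End F (V m F)) + (-1 : F) • T) v
    rw [hT2]
    simp [sub_eq_add_neg]⟩
  letI : Module (Q3 F) (V m F) := Module.compHom _ φ.toRingHom
  have hsm : ∀ (k : Q3 F) (v : V m F), k • v = k.re • v + k.im • T v := fun k v => by
    show φ k v = _
    simp [φ]
  haveI : Module.Finite (Q3 F) (V m F) := Module.Finite.of_finite
  have hd : Module.finrank (Q3 F) (V m F) = m := by
    have h := Module.natCard_eq_pow_finrank (K := Q3 F) (V := V m F)
    rw [Nat.card_fun, Nat.card_eq_fintype_card, Nat.card_eq_fintype_card, Nat.card_eq_fintype_card, hK, hF,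
      Fintype.card_sum, Fintype.card_fin, ← pow_mul] at h
    have := Nat.pow_right_injective (show 2 ≤ q by omega) h
    omega
  let H : V m F →ₛₗ[Herm.conj hK] V m F →ₗ[Q3 F] Q3 F :=
    LinearMap.mk₂'ₛₗ (Herm.conj hK) (RingHom.id (Q3 F))
      (fun u v => ⟨bf m F u (T v) + bf m F u v, bf m F u v⟩)
      (fun a b v => by ext <;> simp <;> ring)
      (fun k u v => by
        rw [hσ, hsm]
        ext <;> simp [hBT, hT2] <;> ring)
      (fun u a b => by ext <;> simp <;> ring)
      (fun k u v => by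
        rw [RingHom.id_apply, hsm]
        ext <;> simp [hBT, hT2] <;> ring)
  have hH : ∀ u v, H u v = ⟨bf m F u (T v) + bf m F u v, bf m F u v⟩ := fun u v => rfl
  have hS : ∀ u v, Herm.conj hK (H u v) = H v u := by
    intro u v
    rw [hσ, hH, hH]
    have e1 : bf m F v (T u) = bf m F u (T v) + bf m F u v := by
      rw [bf_swap, hBT]; ring
    ext <;> simp [e1, bf_swap u v] <;> ring
  have hsep : H.SeparatingLeft := fun u hu => SpParabolic.sep u fun v => congrArg QuadraticAlgebra.im (hu v)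
  have hσne : ∃ a, Herm.conj hK a ≠ a := by
    by_contra h
    push Not at h
    exact Herm.conj_ne_id hK (RingHom.ext h)
  obtain ⟨e, he⟩ := OrthBasis.exists_orthonormal H hS hsep (OrthBasis.hpol_herm H hσne hS)
    (fun c hc0 hc => by obtain ⟨a, -, ha⟩ := Herm.exists_norm hK c hc0 hc; exact ⟨a, ha⟩) m (le_of_eq hd.symm)
  have hli : LinearIndependent (Q3 F) e :=
    OrthBasis.indep H (fun i j h => by rw [he, if_neg h]) (fun i => by rw [he, if_pos rfl]; exact one_ne_zero)
  let bas : Module.Basis (Fin m) (Q3 F) (V m F) := Module.Basis.mk hli (Eq.ge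
    (hli.span_eq_top_of_card_eq_finrank' (by rw [Fintype.card_fin, hd])))
  let Φ : (Fin m → Q3 F) ≃ₗ[Q3 F] V m F := bas.equivFun.symm
  have hΦ : ∀ c d, H (Φ c) (Φ d) = Cfsg.hermForm m (Q3 F) q d c := by
    intro c d
    simp only [Φ, Module.Basis.equivFun_symm_apply, bas, Module.Basis.mk_apply]
    rw [map_sum, Cfsg.hermForm]
    refine Finset.sum_congr rfl fun i _ => ?_
    rw [map_smul, map_sum, LinearMap.sum_apply, Finset.sum_eq_single i
      (fun j _ hj => by rw [LinearMap.map_smulₛₗ, LinearMap.smul_apply, he, if_neg hj, smul_zero])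
      (fun h => absurd (Finset.mem_univ i) h), LinearMap.map_smulₛₗ, LinearMap.smul_apply, he, if_pos rfl,
      smul_eq_mul, smul_eq_mul, mul_one, ← hσq]
  have hcomm : ∀ g : Subgroup.centralizer ({x} : Set (G m F)), ∀ v, act g.1 (T v) = T (act g.1 v) := fun g v => by
    rw [hTact, hTact, ← act_mul, ← act_mul, Subgroup.mem_centralizer_singleton_iff.1 g.2]
  have hact : ∀ g : Subgroup.centralizer ({x} : Set (G m F)), ∀ (k : Q3 F) v, act g.1 (k • v) = k • act g.1 v :=
    fun g k v => by rw [hsm, hsm, act_add, act_smul, act_smul, hcomm]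
  let eK : Subgroup.centralizer ({x} : Set (G m F)) → (V m F ≃ₗ[Q3 F] V m F) := fun g =>
    { toFun := act g.1
      invFun := act g.1⁻¹
      map_add' := act_add g.1
      map_smul' := hact g
      left_inv := act_inv_act g.1
      right_inv := act_act_inv g.1 }
  have hgH : ∀ g : Subgroup.centralizer ({x} : Set (G m F)), ∀ u v, H (act g.1 u) (act g.1 v) = H u v := fun g u v => by
    rw [hH, hH, ← hcomm g, bf_act, bf_act]
  let f : Subgroup.centralizer ({x} : Set (G m F)) → Cfsg.GU m (Q3 F) q := fun g =>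
    ⟨glOf (Φ.trans ((eK g).trans Φ.symm)), Herm.mem_GU.2 fun u v => by
      rw [glOf_mulVec, glOf_mulVec, ← hΦ, ← hΦ]
      simp only [LinearEquiv.trans_apply, LinearEquiv.apply_symm_apply]
      exact hgH g _ _⟩
  rw [← Herm.card_GU hK]
  refine Nat.card_eq_of_bijective f ⟨fun g g' h => Subtype.ext (act_ext fun v => ?_), fun h => ?_⟩
  · have h1 := congrArg (fun t : Cfsg.GU m (Q3 F) q => ((t : GL (Fin m) (Q3 F)) : Matrix (Fin m) (Fin m) (Q3 F)) *ᵥ Φ.symm v) h
    simp only [f, glOf_mulVec, LinearEquiv.trans_apply, LinearEquiv.apply_symm_apply] at h1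
    exact Φ.symm.injective h1
  · let L : V m F →ₗ[Q3 F] V m F := Φ.toLinearMap ∘ₗ
      (Matrix.mulVecLin ((h : GL (Fin m) (Q3 F)) : Matrix (Fin m) (Fin m) (Q3 F))) ∘ₗ Φ.symm.toLinearMap
    have hC : ∀ (a : F) (v : V m F), a • v = (⟨a, 0⟩ : Q3 F) • v := fun a v => by rw [hsm]; simp
    let L' : V m F →ₗ[F] V m F :=
      { toFun := L
        map_add' := map_add L
        map_smul' := fun a v => by rw [RingHom.id_apply, hC, hC, map_smul] }
    have hHL : ∀ u v, H (L u) (L v) = H u v := fun u v => by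
      have h1 := Herm.mem_GU.1 h.2 (Φ.symm v) (Φ.symm u)
      rw [← hΦ, ← hΦ, Φ.apply_symm_apply, Φ.apply_symm_apply] at h1
      exact h1
    have hA : LinearMap.toMatrix' L' ∈ Matrix.symplecticGroup (Fin m) F := mem_iff_bf.2 fun u v => by
      rw [LinearMap.toMatrix'_mulVec, LinearMap.toMatrix'_mulVec]
      exact congrArg QuadraticAlgebra.im (hHL u v)
    let g : G m F := ⟨_, hA⟩
    have hg : ∀ v, act g v = L v := fun v => LinearMap.toMatrix'_mulVec _ _
    have hw : ∀ v, T v = (⟨0, 1⟩ : Q3 F) • v := fun v => by rw [hsm]; simp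
    have hgc : g ∈ Subgroup.centralizer ({x} : Set (G m F)) := Subgroup.mem_centralizer_singleton_iff.2
      (act_ext fun v => by rw [act_mul, act_mul, hg, hg, ← hTact, ← hTact, hw, hw, map_smul])
    refine ⟨⟨g, hgc⟩, Subtype.ext (Units.ext (Matrix.ext_iff_mulVec.2 fun c => ?_))⟩
    show (glOf (Φ.trans ((eK ⟨g, hgc⟩).trans Φ.symm)) : GL (Fin m) (Q3 F)).val *ᵥ c = _
    rw [glOf_mulVec]
    show Φ.symm (act g (Φ c)) = _
    rw [hg]
    simp [L]

end CfsgLib.Lie.SpCentThree
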