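import Cfsg.Agent.Lie.OrthMaxSp
import Cfsg.Agent.Lie.OrthBasis
import Cfsg.Agent.Lie.NonMax

/-!
Maximal subgroups of the symplectic group containing transvection groups: full centres,
orthogonal decompositions, non-degenerate subspaces, totally isotropic subspaces.
-/

set_option autoImplicit false
set_option linter.unusedSimpArgs false
set_option linter.unusedSectionVars false

namespace CfsgLib.Lie.SpMax

open Matrix
open CfsgLib.Lie.OrthMaxSp (tvGL tvGL_mulVec tvGL_mem tvGL_smul tvGL_zero_vec conj_tvGL mem_spGL)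

variable {m : ℕ} {F : Type*} [Field F]

/-- the vectors whose full transvection group lies in `M` -/
def Full (M : Subgroup (GL (Fin m ⊕ Fin m) F)) : Set (Sp.V m F) := {w | ∀ c, tvGL w c ∈ M}

variable {M : Subgroup (GL (Fin m ⊕ Fin m) F)}

theorem full_zero : (0 : Sp.V m F) ∈ Full M := fun c => by rw [tvGL_zero_vec]; exact M.one_mem

theorem full_smul {w : Sp.V m F} (hw : w ∈ Full M) (a : F) : a • w ∈ Full M := fun c => by
  rw [tvGL_smul]; exact hw _

theorem full_map {g : GL (Fin m ⊕ Fin m) F} (hg : g ∈ M) (hgS : g ∈ Cfsg.spGL m F) {w : Sp.V m F}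
    (hw : w ∈ Full M) : (g : Matrix (Fin m ⊕ Fin m) (Fin m ⊕ Fin m) F) *ᵥ w ∈ Full M := fun c => by
  rw [← conj_tvGL hgS]; exact M.mul_mem (M.mul_mem hg (hw c)) (M.inv_mem hg)

/-- the basic move -/
theorem full_move {w a : Sp.V m F} (hw : w ∈ Full M) (ha : a ∈ Full M)
    (h : Sp.bf m F w a ≠ 0) (c : F) : w + c • a ∈ Full M := by
  have h1 := full_map (ha (c / Sp.bf m F w a)) (tvGL_mem _ _) hw
  rwa [tvGL_mulVec, div_mul_cancel₀ _ h] at h1

theorem full_sub {w a : Sp.V m F} (hw : w ∈ Full M) (ha : a ∈ Full M)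
    (h : Sp.bf m F w a ≠ 0) : w - a ∈ Full M := by
  have h1 := full_move hw ha h (-1)
  rwa [neg_one_smul, ← sub_eq_add_neg] at h1

theorem le_of_full (h : ∀ w : Sp.V m F, w ∈ Full M) : Cfsg.spGL m F ≤ M :=
  OrthMaxSp.spGL_le_of_tvGL_mem M fun w c => h w c

/-- In a subspace on which two functionals are nonzero, some vector avoids both kernels. -/
theorem exists_both (W : Submodule F (Sp.V m F)) {u u' : Sp.V m F}
    (hu : ∃ z ∈ W, Sp.bf m F u z ≠ 0) (hu' : ∃ z ∈ W, Sp.bf m F u' z ≠ 0) :
    ∃ z ∈ W, Sp.bf m F u z ≠ 0 ∧ Sp.bf m F u' z ≠ 0 := by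
  obtain ⟨z, hz, h⟩ := hu
  obtain ⟨z', hz', h'⟩ := hu'
  by_cases h1 : Sp.bf m F u' z = 0
  · by_cases h2 : Sp.bf m F u z' = 0
    · refine ⟨z + z', W.add_mem hz hz', ?_, ?_⟩
      · rw [map_add, h2, add_zero]; exact h
      · rw [map_add, h1, zero_add]; exact h'
    · exact ⟨z', hz', h2, h'⟩
  · exact ⟨z, hz, h, h1⟩

/-- Transitivity of the transvections with centre in a non-degenerate full subspace. -/
theorem full_replace (W : Submodule F (Sp.V m F)) (hnd : ∀ w ∈ W, w ≠ 0 → ∃ z ∈ W, Sp.bf m F w z ≠ 0)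
    (hW : ∀ w ∈ W, w ∈ Full M) {x x' rest : Sp.V m F} (hx : x ∈ W) (hx' : x' ∈ W) (hx0 : x ≠ 0)
    (hx'0 : x' ≠ 0) (hrest : ∀ z ∈ W, Sp.bf m F rest z = 0) (h : x + rest ∈ Full M) :
    x' + rest ∈ Full M := by
  have key : ∀ a b : Sp.V m F, a ∈ W → b ∈ W → Sp.bf m F a b ≠ 0 → a + rest ∈ Full M →
      b + rest ∈ Full M := by
    intro a b ha hb hab hf
    have hne : Sp.bf m F (a + rest) (b - a) ≠ 0 := by
      rw [map_add, LinearMap.add_apply, hrest _ (W.sub_mem hb ha), add_zero, map_sub, Sp.bf_self,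
        sub_zero]
      exact hab
    have := full_move hf (hW _ (W.sub_mem hb ha)) hne 1
    rw [one_smul] at this
    convert this using 1
    abel
  obtain ⟨z, hz, h1, h2⟩ := exists_both W (hnd x hx hx0) (hnd x' hx' hx'0)
  refine key z x' hz hx' ?_ (key x z hx hz h1 h)
  rwa [Sp.bf_swap, neg_ne_zero]

section Blocks

variable {t k : ℕ} {D : Fin t → Submodule F (Sp.V m F)}

/-- Two non-degenerate alternating spaces of the same dimension are isometric. -/
theorem exists_isometry {a b : Submodule F (Sp.V m F)}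
    (ha : ∀ w ∈ a, w ≠ 0 → ∃ z ∈ a, Sp.bf m F w z ≠ 0)
    (hb : ∀ w ∈ b, w ≠ 0 → ∃ z ∈ b, Sp.bf m F w z ≠ 0)
    (h : Module.finrank F a = Module.finrank F b) :
    ∃ θ : a ≃ₗ[F] b, ∀ x y : a, Sp.bf m F (θ x : Sp.V m F) (θ y : Sp.V m F) =
      Sp.bf m F (x : Sp.V m F) (y : Sp.V m F) := by
  obtain ⟨p, r, e, he1, he2, he3, he4⟩ := OrthBasis.exists_symplectic
    ((Sp.bf m F).compl₁₂ a.subtype a.subtype) (fun x => Sp.bf_self _)
  obtain ⟨p', r', e', he1', he2', he3', he4'⟩ := OrthBasis.exists_symplectic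
    ((Sp.bf m F).compl₁₂ b.subtype b.subtype) (fun x => Sp.bf_self _)
  have hr : r = 0 := by
    rcases Nat.eq_zero_or_pos r with h0 | h0
    · exact h0
    exfalso
    obtain ⟨z, hz, hz'⟩ := ha _ (e (.inr ⟨0, h0⟩)).2
      (fun h9 => e.ne_zero _ (Subtype.ext h9))
    exact hz' (he4 ⟨0, h0⟩ ⟨z, hz⟩)
  have hr' : r' = 0 := by
    rcases Nat.eq_zero_or_pos r' with h0 | h0
    · exact h0
    exfalso
    obtain ⟨z, hz, hz'⟩ := hb _ (e' (.inr ⟨0, h0⟩)).2
      (fun h9 => e'.ne_zero _ (Subtype.ext h9))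
    exact hz' (he4' ⟨0, h0⟩ ⟨z, hz⟩)
  subst hr; subst hr'
  rw [Module.finrank_eq_card_basis e, Module.finrank_eq_card_basis e'] at h
  simp only [Fintype.card_sum, Fintype.card_fin] at h
  have hpp : p' = p := by omega
  subst hpp
  refine ⟨e.equiv e' (Equiv.refl _), fun x y => ?_⟩
  let L := (e.equiv e' (Equiv.refl _)).toLinearMap
  have key : ((Sp.bf m F).compl₁₂ b.subtype b.subtype).compl₁₂ L L =
      (Sp.bf m F).compl₁₂ a.subtype a.subtype := by
    refine LinearMap.ext_basis e e fun i j => ?_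
    simp only [LinearMap.compl₁₂_apply, L, LinearEquiv.coe_coe, Module.Basis.equiv_apply,
      Equiv.refl_apply]
    simp only [LinearMap.compl₁₂_apply] at he1 he2 he3 he1' he2' he3'
    rcases i with (i | i) | i
    · rcases j with (j | j) | j
      · rw [he2, he2']
      · rw [he1, he1']
      · exact j.elim0
    · rcases j with (j | j) | j
      · rw [Sp.bf_swap, he1' j i, Sp.bf_swap (a.subtype (e (Sum.inl (Sum.inl j)))), he1 j i]
      · rw [he3, he3']
      · exact j.elim0
    · exact i.elim0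
  exact LinearMap.congr_fun (LinearMap.congr_fun key x) y

theorem blocks_maximal [Finite F] (hD : Cfsg.Geo.IsNondegenerateMDecomposition (Cfsg.sympForm m F) k D)
    (hex : ¬ (k = 2 ∧ Nat.card F = 2)) :
    Cfsg.Geo.IsMaximalIn (Cfsg.spGL m F) (Cfsg.Geo.decompositionStabilizer D ⊓ Cfsg.spGL m F) := by
  classical
  haveI : Fintype F := Fintype.ofFinite F
  have hi := hD.decomp.indep
  have ht := hD.decomp.iSup_eq_top
  have h2t := hD.decomp.two_le
  have horth : ∀ i j, i ≠ j → ∀ u ∈ D i, ∀ v ∈ D j, Sp.bf m F u v = 0 := fun i j hij u hu v hv => by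
    rw [Sp.bf_eq]; exact hD.orthogonal i j hij u hu v hv
  have hnd : ∀ i, ∀ w ∈ D i, w ≠ 0 → ∃ z ∈ D i, Sp.bf m F w z ≠ 0 := fun i w hw hw0 => by
    obtain ⟨z, hz, hz'⟩ := (hD.nondegenerate i w hw hw0).2
    exact ⟨z, hz, by rwa [Sp.bf_eq]⟩
  have hne : ∀ i, ∃ x, x ∈ D i ∧ x ≠ 0 := fun i => by
    obtain ⟨x, hx, hx0⟩ := Submodule.exists_mem_ne_zero_of_ne_bot (p := D i) (by
      intro h
      have h1 := hD.decomp.finrank_eq i
      rw [h, finrank_bot] at h1
      exact absurd h1.symm hD.decomp.pos.ne')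
    exact ⟨x, hx, hx0⟩
  let C : Sp.V m F → Fin t → Sp.V m F := fun v i => (NonMax.cmp hi ht v i : Sp.V m F)
  have hCmem : ∀ v i, C v i ∈ D i := fun v i => (NonMax.cmp hi ht v i).2
  have hCsum : ∀ v, ∑ i, C v i = v := fun v => NonMax.sum_cmp hi ht v
  have hCof : ∀ v i, v ∈ D i → ∀ j, C v j = if j = i then v else 0 := fun v i hv j =>
    NonMax.cmp_of_mem hi ht hv j
  have hCadd : ∀ u v i, C (u + v) i = C u i + C v i := fun u v i => by simp [C]
  have hCsmul : ∀ (a : F) v i, C (a • v) i = a • C v i := fun a v i => by simp [C]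
  have hbfC : ∀ u (i : Fin t), ∀ z ∈ D i, Sp.bf m F u z = Sp.bf m F (C u i) z := by
    intro u i z hz
    conv_lhs => rw [← hCsum u]
    rw [map_sum, LinearMap.sum_apply]
    exact Finset.sum_eq_single i (fun j _ hj => horth j i hj _ (hCmem u j) z hz) (by simp)
  -- block transvections stabilise the decomposition
  have hblock : ∀ i, ∀ a ∈ D i, ∀ c, tvGL a c ∈ Cfsg.Geo.decompositionStabilizer D ⊓ Cfsg.spGL m F := by
    intro i a ha c
    refine ⟨⟨1, fun j => ?_⟩, tvGL_mem a c⟩
    rw [Equiv.Perm.coe_one, id_eq]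
    have hle : (D j).map (Matrix.toLin' ((tvGL a c : GL _ F) : Matrix (Fin m ⊕ Fin m) (Fin m ⊕ Fin m) F)) ≤ D j := by
      rintro _ ⟨x, hx, rfl⟩
      rw [Matrix.toLin'_apply, tvGL_mulVec]
      by_cases hji : j = i
      · subst hji; exact (D j).add_mem hx ((D j).smul_mem _ ha)
      · rw [horth j i hji x hx a ha, mul_zero, zero_smul, add_zero]; exact hx
    refine Submodule.eq_of_le_of_finrank_le hle (le_of_eq ?_)
    refine (Submodule.equivMapOfInjective _ ?_ _).finrank_eq
    intro v w hvw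
    have := congrArg (fun z => (((tvGL a c)⁻¹ : GL (Fin m ⊕ Fin m) F) : Matrix (Fin m ⊕ Fin m) (Fin m ⊕ Fin m) F) *ᵥ z) hvw
    simpa [Matrix.mulVec_mulVec, ← Units.val_mul] using this
  -- swaps of two blocks
  have hswap : ∀ a b : Fin t, a ≠ b → ∃ h ∈ Cfsg.Geo.decompositionStabilizer D ⊓ Cfsg.spGL m F,
      ∀ i, (D i).map (Matrix.toLin' (h : Matrix (Fin m ⊕ Fin m) (Fin m ⊕ Fin m) F)) =
        D (Equiv.swap a b i) := by
    intro a b hab
    obtain ⟨θ, hθ⟩ := exists_isometry (hnd a) (hnd b)
      (by rw [hD.decomp.finrank_eq, hD.decomp.finrank_eq])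
    let P : ∀ i, (D i) →ₗ[F] Sp.V m F := fun i =>
      if h : i = a then (D b).subtype ∘ₗ θ.toLinearMap ∘ₗ (LinearEquiv.ofEq _ _ (h ▸ rfl)).toLinearMap
      else if h' : i = b then (D a).subtype ∘ₗ θ.symm.toLinearMap ∘ₗ (LinearEquiv.ofEq _ _ (h' ▸ rfl)).toLinearMap
      else (D i).subtype
    let L : Sp.V m F →ₗ[F] Sp.V m F :=
      ∑ i, P i ∘ₗ LinearMap.proj i ∘ₗ (NonMax.cmp hi ht).toLinearMap
    have hPa : ∀ x : D a, P a x = θ x := fun x => by simp [P]
    have hPb : ∀ x : D b, P b x = θ.symm x := fun x => by simp [P, hab.symm]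
    have hPo : ∀ i, i ≠ a → i ≠ b → ∀ x : D i, P i x = x := fun i h1 h2 x => by simp [P, h1, h2]
    have hPmem : ∀ i (x : D i), P i x ∈ D (Equiv.swap a b i) := by
      intro i x
      by_cases h1 : i = a
      · subst h1; rw [hPa, Equiv.swap_apply_left]; exact (θ x).2
      · by_cases h2 : i = b
        · subst h2; rw [hPb, Equiv.swap_apply_right]; exact (θ.symm x).2
        · rw [hPo i h1 h2, Equiv.swap_apply_of_ne_of_ne h1 h2]; exact x.2
    have hPbf : ∀ i (x y : D i), Sp.bf m F (P i x) (P i y) = Sp.bf m F (x : Sp.V m F) y := by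
      intro i x y
      by_cases h1 : i = a
      · subst h1; rw [hPa, hPa, hθ]
      · by_cases h2 : i = b
        · subst h2; rw [hPb, hPb]
          conv_rhs => rw [← θ.apply_symm_apply x, ← θ.apply_symm_apply y, hθ]
        · rw [hPo i h1 h2, hPo i h1 h2]
    have hLiso : ∀ u v, Sp.bf m F (L u) (L v) = Sp.bf m F u v := by
      intro u v
      have e1 : ∀ w, L w = ∑ i, P i (NonMax.cmp hi ht w i) := fun w => by simp [L]
      rw [e1, e1]
      conv_rhs => rw [← hCsum u, ← hCsum v]
      simp only [map_sum, LinearMap.sum_apply]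
      refine Finset.sum_congr rfl fun j _ => Finset.sum_congr rfl fun i _ => ?_
      by_cases hij : i = j
      · subst hij; exact hPbf i _ _
      · rw [horth i j hij _ (hCmem u i) _ (hCmem v j),
          horth _ _ (fun h => hij ((Equiv.swap a b).injective h)) _ (hPmem i _) _ (hPmem j _)]
    have hLinj : Function.Injective L := by
      rw [← LinearMap.ker_eq_bot, Submodule.eq_bot_iff]
      intro v hv
      by_contra hv0
      obtain ⟨z, hz⟩ := Sp.exists_bf_eq_one hv0
      rw [← hLiso, LinearMap.mem_ker.1 hv, map_zero, LinearMap.zero_apply] at hz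
      exact zero_ne_one hz
    let e := LinearEquiv.ofInjectiveEndo L hLinj
    have hunit : IsUnit (LinearMap.toMatrix' L) :=
      IsUnit.of_mul_eq_one (LinearMap.toMatrix' e.symm.toLinearMap) (by
        rw [← LinearMap.toMatrix'_comp,
          show L = e.toLinearMap from LinearMap.ext fun x => rfl]
        simp)
    have hmv : ∀ x, (hunit.unit : Matrix (Fin m ⊕ Fin m) (Fin m ⊕ Fin m) F) *ᵥ x = L x := fun x => by
      rw [IsUnit.unit_spec, LinearMap.toMatrix'_mulVec]
    have hmap : ∀ i, (D i).map (Matrix.toLin' (hunit.unit : Matrix (Fin m ⊕ Fin m) (Fin m ⊕ Fin m) F)) =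
        D (Equiv.swap a b i) := by
      intro i
      refine Submodule.eq_of_le_of_finrank_le ?_ (le_of_eq ?_)
      · rintro _ ⟨x, hx, rfl⟩
        rw [Matrix.toLin'_apply, hmv]
        have : L x = P i ⟨x, hx⟩ := by
          simp only [L, LinearMap.coe_sum, Finset.sum_apply, LinearMap.comp_apply,
            LinearMap.proj_apply, LinearEquiv.coe_coe]
          rw [Finset.sum_eq_single i]
          · congr 1; exact Subtype.ext (by simpa using hCof x i hx i)
          · intro j _ hj
            have : NonMax.cmp hi ht x j = 0 := Subtype.ext (by simpa [hj, C] using hCof x i hx j)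
            rw [this, map_zero]
          · simp
        rw [this]; exact hPmem i _
      · rw [hD.decomp.finrank_eq]
        refine Eq.trans ?_ (Submodule.equivMapOfInjective _ ?_ _).finrank_eq
        · exact (hD.decomp.finrank_eq i).symm
        intro v w hvw
        rw [Matrix.toLin'_apply, Matrix.toLin'_apply, hmv, hmv] at hvw
        exact hLinj hvw
    exact ⟨hunit.unit, ⟨⟨_, hmap⟩, mem_spGL.2 fun u v => by rw [hmv, hmv, hLiso]⟩, hmap⟩
  refine ⟨lt_of_le_of_ne inf_le_right ?_, ?_⟩
  · -- strictness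
    intro heq
    let a : Fin t := ⟨0, by omega⟩
    let b : Fin t := ⟨1, by omega⟩
    have hab : a ≠ b := by simp [a, b]
    obtain ⟨x, hx, hx0⟩ := hne a
    obtain ⟨y, hy, hy0⟩ := hne b
    obtain ⟨z, hz, hxz⟩ := hnd a x hx hx0
    obtain ⟨σ, hσ⟩ := ((le_of_eq heq.symm) (tvGL_mem (x + y) 1)).1
    have hzmem : (tvGL (x + y) 1 : Matrix (Fin m ⊕ Fin m) (Fin m ⊕ Fin m) F) *ᵥ z ∈ D (σ a) := by
      rw [← hσ a, ← Matrix.toLin'_apply]
      exact Submodule.mem_map_of_mem hz
    rw [tvGL_mulVec, one_mul, map_add, horth a b hab z hz y hy, add_zero] at hzmem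
    set s := Sp.bf m F z x with hs
    have hs0 : s ≠ 0 := by rw [hs, Sp.bf_swap, neg_ne_zero]; exact hxz
    have h1 := hCof _ (σ a) hzmem b
    rw [hCadd, hCof z a hz b, if_neg hab.symm, zero_add, hCsmul, hCadd, hCof x a hx b,
      if_neg hab.symm, zero_add, hCof y b hy b, if_pos rfl] at h1
    by_cases h2 : b = σ a
    · rw [← h2] at hzmem
      have h3 := hCof _ b hzmem a
      rw [if_neg hab, hCadd, hCof z a hz a, if_pos rfl, hCsmul, hCadd, hCof x a hx a, if_pos rfl,
        hCof y b hy a, if_neg hab, add_zero] at h3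
      have h4 := congrArg (fun v => Sp.bf m F v x) h3
      simp only [map_add, map_smul, LinearMap.add_apply, LinearMap.smul_apply, Sp.bf_self,
        smul_zero, add_zero, map_zero, LinearMap.zero_apply] at h4
      exact hs0 h4
    · rw [if_neg h2] at h1
      exact (smul_ne_zero hs0 hy0) h1
  intro M hHM hMS
  by_cases hMH : M ≤ Cfsg.Geo.decompositionStabilizer D ⊓ Cfsg.spGL m F
  · exact Or.inl (le_antisymm hMH hHM)
  right
  refine le_antisymm hMS (le_of_full ?_)
  obtain ⟨g, hgM, hgH⟩ := SetLike.not_le_iff_exists.1 hMH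
  have hgS := hMS hgM
  have hDfull : ∀ i, ∀ w ∈ D i, w ∈ Full M := fun i w hw c => hHM (hblock i w hw c)
  -- a full vector with two nonzero components
  obtain ⟨u, hu, j, l, hjl, huj, hul⟩ : ∃ u ∈ Full M, ∃ j l, j ≠ l ∧ C u j ≠ 0 ∧ C u l ≠ 0 := by
    by_contra hcon
    push Not at hcon
    apply hgH
    refine ⟨?_, hgS⟩
    let G := Matrix.toLin' (g : Matrix (Fin m ⊕ Fin m) (Fin m ⊕ Fin m) F)
    have hGinj : Function.Injective G := fun v w hvw => by
      have := congrArg (fun z => ((g⁻¹ : GL (Fin m ⊕ Fin m) F) : Matrix (Fin m ⊕ Fin m) (Fin m ⊕ Fin m) F) *ᵥ z) hvw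
      simpa [G, Matrix.mulVec_mulVec, ← Units.val_mul] using this
    have hone : ∀ i, ∀ w ∈ D i, w ≠ 0 → ∃ j, G w ∈ D j ∧ C (G w) j ≠ 0 := by
      intro i w hw hw0
      have hG : G w ∈ Full M := by
        simp only [G, Matrix.toLin'_apply]; exact full_map hgM hgS (hDfull i w hw)
      have hGne : G w ≠ 0 := fun h => hw0 (hGinj (by rw [h, map_zero]))
      obtain ⟨j, hj⟩ : ∃ j, C (G w) j ≠ 0 := by
        by_contra h
        push Not at h
        apply hGne
        rw [← hCsum (G w)]
        simp [h]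
      refine ⟨j, ?_, hj⟩
      rw [← hCsum (G w), Finset.sum_eq_single j (fun l _ hl => hcon _ hG j l hl.symm hj) (by simp)]
      exact hCmem _ _
    choose π hπ using fun i => hone i _ (hne i).choose_spec.1 (hne i).choose_spec.2
    have hmap : ∀ i, (D i).map G = D (π i) := by
      intro i
      refine Submodule.eq_of_le_of_finrank_le ?_ (le_of_eq ?_)
      · rintro _ ⟨w, hw, rfl⟩
        set e := (hne i).choose with he
        by_cases hw0 : w = 0
        · subst hw0; rw [map_zero]; exact zero_mem _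
        obtain ⟨j, hj, hjne⟩ := hone i w hw hw0
        by_cases hjp : j = π i
        · exact hjp ▸ hj
        exfalso
        by_cases hsum : w + e = 0
        · have hwe : w = -e := eq_neg_of_add_eq_zero_left hsum
          rw [hwe, map_neg, Submodule.neg_mem_iff] at hj
          exact (hπ i).2 (by rw [hCof _ j hj, if_neg (Ne.symm hjp)])
        obtain ⟨l, hl, hlne⟩ := hone i (w + e) ((D i).add_mem hw (hne i).choose_spec.1) hsum
        by_cases hlj : l = j
        · have h1 : C (G (w + e)) (π i) = 0 := by rw [hCof _ l hl, if_neg (by rw [hlj]; exact Ne.symm hjp)]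
          rw [map_add, hCadd, hCof _ j hj (π i), if_neg (Ne.symm hjp), zero_add] at h1
          exact (hπ i).2 h1
        · have h1 : C (G (w + e)) j = 0 := by rw [hCof _ l hl, if_neg (Ne.symm hlj)]
          rw [map_add, hCadd, hCof _ (π i) (hπ i).1 j, if_neg hjp, add_zero] at h1
          exact hjne h1
      · rw [hD.decomp.finrank_eq, ← (Submodule.equivMapOfInjective G hGinj _).finrank_eq,
          hD.decomp.finrank_eq]
    have hπinj : Function.Injective π := by
      intro a b hab
      by_contra hne'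
      obtain ⟨x, hx, hx0⟩ := hne a
      have h1 : (D a).map G = (D b).map G := by rw [hmap, hmap, hab]
      have h2 : x ∈ D b := (Submodule.map_injective_of_injective hGinj h1) ▸ hx
      have h3 := hCof x b h2 a
      rw [hCof x a hx a, if_pos rfl, if_neg hne'] at h3
      exact hx0 h3
    exact ⟨Equiv.ofBijective π hπinj.bijective_of_finite, fun i => hmap i⟩
  -- replace one component
  have hrepl : ∀ u ∈ Full M, ∀ i, C u i ≠ 0 → ∀ x ∈ D i, x ≠ 0 → u - C u i + x ∈ Full M := by
    intro u hu i hui x hx hx0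
    have hrest : ∀ z ∈ D i, Sp.bf m F (u - C u i) z = 0 := fun z hz => by
      rw [map_sub, LinearMap.sub_apply, ← hbfC u i z hz, sub_self]
    have := full_replace (M := M) (D i) (hnd i) (hDfull i) (hCmem u i) hx hui hx0 hrest
      (by rwa [add_sub_cancel])
    rwa [add_comm] at this
  have hC0 : ∀ i, C 0 i = 0 := fun i => by simp [C]
  -- two independent changes with nonzero pairing
  obtain ⟨x, hx, hx0, y, hy, hy0, hxj, hyl, hpair⟩ : ∃ x ∈ D j, x ≠ 0 ∧ ∃ y ∈ D l, y ≠ 0 ∧
      x ≠ C u j ∧ y ≠ C u l ∧ Sp.bf m F (C u j) x + Sp.bf m F (C u l) y ≠ 0 := by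
    obtain ⟨x, hx, hxne⟩ := hnd j _ (hCmem u j) huj
    have hx0 : x ≠ 0 := fun h => hxne (by rw [h, map_zero])
    have hxj : x ≠ C u j := fun h => hxne (by rw [h, Sp.bf_self])
    obtain ⟨y, hy, hy0, hyl, hy'⟩ : ∃ y ∈ D l, y ≠ 0 ∧ y ≠ C u l ∧ Sp.bf m F (C u l) y = 0 := by
      by_cases hq : ∃ a : F, a ≠ 0 ∧ a ≠ 1
      · obtain ⟨a, ha0, ha1⟩ := hq
        refine ⟨a • C u l, (D l).smul_mem _ (hCmem u l), smul_ne_zero ha0 hul, fun h => ?_, by
          rw [map_smul, Sp.bf_self, smul_zero]⟩
        have h9 : (a - 1) • C u l = 0 := by rw [sub_smul, one_smul, h, sub_self]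
        rcases smul_eq_zero.1 h9 with h8 | h8
        · exact ha1 (sub_eq_zero.1 h8)
        · exact hul h8
      · push Not at hq
        have hq2 : Nat.card F = 2 := by
          have hu : (Finset.univ : Finset F) = {0, 1} := by
            ext a
            simp only [Finset.mem_univ, Finset.mem_insert, Finset.mem_singleton, true_iff]
            exact or_iff_not_imp_left.2 (hq a)
          rw [Nat.card_eq_fintype_card, ← Finset.card_univ, hu, Finset.card_pair zero_ne_one]
        have hk2 : k ≠ 2 := fun h => hex ⟨h, hq2⟩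
        let K := LinearMap.ker ((Sp.bf m F (C u l)) ∘ₗ (D l).subtype)
        have hK : ¬ (K.map (D l).subtype) ≤ Submodule.span F {C u l} := by
          intro hle
          have h1 := Submodule.finrank_mono hle
          rw [finrank_span_singleton hul,
            ← (Submodule.equivMapOfInjective _ (Submodule.injective_subtype _) K).finrank_eq] at h1
          have h2 := ((Sp.bf m F (C u l)) ∘ₗ (D l).subtype).finrank_range_add_finrank_ker
          have h3 := Submodule.finrank_le (LinearMap.range ((Sp.bf m F (C u l)) ∘ₗ (D l).subtype))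
          rw [Module.finrank_self] at h3
          rw [hD.decomp.finrank_eq] at h2
          have hk1 : k ≠ 1 := by
            intro hk
            obtain ⟨z, hz, hz'⟩ := hnd l _ (hCmem u l) hul
            obtain ⟨a, ha⟩ := exists_smul_eq_of_finrank_eq_one
              (hk ▸ hD.decomp.finrank_eq l) (x := ⟨C u l, hCmem u l⟩)
              (fun h => hul (congrArg Subtype.val h)) ⟨z, hz⟩
            apply hz'
            rw [show z = a • C u l from (congrArg Subtype.val ha).symm, map_smul, Sp.bf_self,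
              smul_zero]
          change Module.finrank F K ≤ 1 at h1
          have := hD.decomp.pos
          change _ + Module.finrank F K = k at h2
          omega
        obtain ⟨y, hyK, hyn⟩ := SetLike.not_le_iff_exists.1 hK
        obtain ⟨y', hy', rfl⟩ := hyK
        refine ⟨(D l).subtype y', y'.2, fun h => hyn ?_, fun h => hyn ?_, LinearMap.mem_ker.1 hy'⟩
        · rw [h]; exact zero_mem _
        · rw [h]; exact Submodule.mem_span_singleton_self _
    exact ⟨x, hx, hx0, y, hy, hy0, hxj, hyl, by rw [hy', add_zero]; exact hxne⟩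
  -- full vectors on exactly two blocks
  have hpair2 : ∀ p ∈ D j, p ≠ 0 → ∀ r ∈ D l, r ≠ 0 → p + r ∈ Full M := by
    have h1 := hrepl u hu j huj x hx hx0
    have hl' : C (u - C u j + x) l = C u l := by
      rw [hCadd, sub_eq_add_neg, hCadd, hCof x j hx l, if_neg hjl.symm, ← neg_one_smul F (C u j),
        hCsmul, hCof _ j (hCmem u j) l, if_neg hjl.symm, smul_zero, add_zero, add_zero]
    have h2 := hrepl _ h1 l (by rw [hl']; exact hul) y hy hy0
    rw [hl'] at h2
    have hd : u - (u - C u j + x - C u l + y) = (C u j - x) + (C u l - y) := by abel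
    have hne' : Sp.bf m F u (u - C u j + x - C u l + y) ≠ 0 := by
      simp only [map_add, map_sub, LinearMap.add_apply, LinearMap.sub_apply, Sp.bf_self]
      rw [hbfC u j (C u j) (hCmem u j), hbfC u l (C u l) (hCmem u l), Sp.bf_self, Sp.bf_self,
        hbfC u j x hx, hbfC u l y hy]
      simpa using hpair
    have h3 := full_sub hu h2 hne'
    rw [hd] at h3
    intro p hp hp0 r hr hr0
    have e1 : C ((C u j - x) + (C u l - y)) j = C u j - x := by
      rw [hCadd, hCof _ j ((D j).sub_mem (hCmem u j) hx) j, if_pos rfl,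
        hCof _ l ((D l).sub_mem (hCmem u l) hy) j, if_neg hjl, add_zero]
    have h4 := hrepl _ h3 j (by rw [e1, sub_ne_zero]; exact hxj.symm) p hp hp0
    rw [e1, add_sub_cancel_left] at h4
    have e2 : C ((C u l - y) + p) l = C u l - y := by
      rw [hCadd, hCof _ l ((D l).sub_mem (hCmem u l) hy) l, if_pos rfl, hCof p j hp l,
        if_neg hjl.symm, add_zero]
    have h5 := hrepl _ h4 l (by rw [e2, sub_ne_zero]; exact hyl.symm) r hr hr0
    rwa [e2, add_sub_cancel_left] at h5
  -- all pairs of blocks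
  have hall2 : ∀ a b, a ≠ b → ∀ p ∈ D a, p ≠ 0 → ∀ r ∈ D b, r ≠ 0 → p + r ∈ Full M := by
    let R : Fin t → Fin t → Prop := fun a b =>
      ∀ p ∈ D a, p ≠ 0 → ∀ r ∈ D b, r ≠ 0 → p + r ∈ Full M
    have hRswap : ∀ a b a' b' (e f : Fin t), e ≠ f → R a b → Equiv.swap e f a = a' →
        Equiv.swap e f b = b' → R a' b' := by
      intro a b a' b' e f hef hR ha hb p hp hp0 r hr hr0
      obtain ⟨h, hhH, hh⟩ := hswap e f hef
      rw [← ha, ← hh a] at hp
      rw [← hb, ← hh b] at hr
      obtain ⟨p', hp', rfl⟩ := hp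
      obtain ⟨r', hr', rfl⟩ := hr
      have hp'0 : p' ≠ 0 := fun h => hp0 (by rw [h, map_zero])
      have hr'0 : r' ≠ 0 := fun h => hr0 (by rw [h, map_zero])
      have := full_map (hHM hhH) hhH.2 (hR p' hp' hp'0 r' hr' hr'0)
      rwa [Matrix.mulVec_add] at this
    have hRsymm : ∀ a b, R a b → R b a := fun a b h p hp hp0 r hr hr0 => by
      rw [add_comm]; exact h r hr hr0 p hp hp0
    have hfirst : ∀ b, b ≠ j → R j b := by
      intro b hbj
      by_cases hbl : b = l
      · subst hbl; exact hpair2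
      · exact hRswap j l j b l b (Ne.symm hbl) hpair2
          (Equiv.swap_apply_of_ne_of_ne hjl (Ne.symm hbj)) (Equiv.swap_apply_left _ _)
    intro a b hab
    by_cases haj : a = j
    · subst haj; exact hfirst b (Ne.symm hab)
    · by_cases hbj : b = j
      · subst hbj; exact hRsymm _ _ (hfirst a hab)
      · exact hRswap j b a b j a (Ne.symm haj) (hfirst b hbj) (Equiv.swap_apply_left _ _)
          (Equiv.swap_apply_of_ne_of_ne hbj (Ne.symm hab))
  -- induction on the support
  suffices hind : ∀ N, ∀ v : Sp.V m F, (Finset.univ.filter fun i => C v i ≠ 0).card ≤ N → v ∈ Full M from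
    fun v => hind _ v le_rfl
  intro N
  induction N with
  | zero =>
    intro v hv
    have : v = 0 := by
      rw [← hCsum v]
      refine Finset.sum_eq_zero fun i _ => ?_
      by_contra h
      have : 0 < (Finset.univ.filter fun i => C v i ≠ 0).card :=
        Finset.card_pos.2 ⟨i, Finset.mem_filter.2 ⟨Finset.mem_univ i, h⟩⟩
      omega
    rw [this]; exact full_zero
  | succ N ih =>
    intro v hv
    by_cases hone : ∃ a, ∀ i, i ≠ a → C v i = 0
    · obtain ⟨a, ha⟩ := hone
      apply hDfull a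
      rw [← hCsum v, Finset.sum_eq_single a (fun i _ hi => ha i hi) (by simp)]
      exact hCmem v a
    push Not at hone
    obtain ⟨a, -⟩ : ∃ a : Fin t, True := ⟨⟨0, by omega⟩, trivial⟩
    obtain ⟨a, -, hva⟩ := hone a
    obtain ⟨b, hba, hvb⟩ := hone a
    obtain ⟨z, hz, hz'⟩ := hnd b _ (hCmem v b) hvb
    have hz0 : z ≠ 0 := fun h => hz' (by rw [h, map_zero])
    have hzb : C v b - z ≠ 0 := fun h => hz' (by rw [← sub_eq_zero.1 h, Sp.bf_self])
    obtain ⟨y, hy⟩ : ∃ y, y = v - C v a - z := ⟨_, rfl⟩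
    have hyC : ∀ i, C y i = if i = a then 0 else if i = b then C v b - z else C v i := by
      intro i
      have : C y i = C v i - C (C v a) i - C z i := by
        rw [hy]; simp only [C, map_sub, Pi.sub_apply, Submodule.coe_sub]
      rw [this, hCof _ a (hCmem v a) i, hCof z b hz i]
      by_cases h1 : i = a
      · subst h1; simp [hba.symm]
      · by_cases h2 : i = b
        · subst h2; simp [h1]
        · simp [h1, h2]
    have hyF : y ∈ Full M := by
      refine ih y ?_
      have hsub : (Finset.univ.filter fun i => C y i ≠ 0) ⊆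
          (Finset.univ.filter fun i => C v i ≠ 0).erase a := by
        intro i hi
        rw [Finset.mem_filter, hyC] at hi
        rw [Finset.mem_erase, Finset.mem_filter]
        by_cases h1 : i = a
        · subst h1; simp at hi
        · refine ⟨h1, Finset.mem_univ i, ?_⟩
          by_cases h2 : i = b
          · subst h2; exact hvb
          · simpa [h1, h2] using hi.2
      have h9 := Finset.card_le_card hsub
      rw [Finset.card_erase_of_mem (Finset.mem_filter.2 ⟨Finset.mem_univ a, hva⟩)] at h9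
      omega
    have hpr := hall2 a b hba.symm _ (hCmem v a) hva z hz hz0
    have hb' : Sp.bf m F y (C v a + z) ≠ 0 := by
      rw [map_add, hbfC y a _ (hCmem v a), hbfC y b z hz, hyC a, hyC b, if_pos rfl,
        map_zero, LinearMap.zero_apply, zero_add, if_neg hba, if_pos rfl, map_sub,
        LinearMap.sub_apply, Sp.bf_self, sub_zero]
      exact hz'
    have := full_move hyF hpr hb' 1
    rw [one_smul] at this
    convert this using 1
    rw [hy]; abel

end Blocks

end CfsgLib.Lie.SpMax
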