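import Cfsg.Agent.Lie.SpMax

/-!
Stabilisers of non-degenerate and of totally isotropic subspaces are maximal in the symplectic group.
-/

set_option autoImplicit false
set_option linter.unusedSimpArgs false
set_option linter.unusedSectionVars false

namespace CfsgLib.Lie.SpMax

open Matrix
open CfsgLib.Lie.OrthMaxSp (tvGL tvGL_mulVec tvGL_mem tvGL_smul tvGL_zero_vec conj_tvGL mem_spGL)

variable {m : ℕ} {F : Type*} [Field F]

theorem bf_nondeg : (Sp.bf m F).Nondegenerate := by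
  constructor
  · intro u hu
    by_contra h0
    obtain ⟨v, hv⟩ := Sp.exists_bf_eq_one h0
    exact one_ne_zero (hv.symm.trans (hu v))
  · intro u hu
    by_contra h0
    obtain ⟨v, hv⟩ := Sp.exists_bf_eq_one h0
    have := hu v
    rw [Sp.bf_swap, hv, neg_eq_zero] at this
    exact one_ne_zero this

/-- the orthogonal space -/
noncomputable def perp (W : Submodule F (Sp.V m F)) : Submodule F (Sp.V m F) :=
  ⨅ w ∈ W, LinearMap.ker (Sp.bf m F w)

theorem mem_perp {W : Submodule F (Sp.V m F)} {x : Sp.V m F} :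
    x ∈ perp W ↔ ∀ w ∈ W, Sp.bf m F w x = 0 := by simp [perp]

theorem mem_of_perp_perp {W : Submodule F (Sp.V m F)} {x : Sp.V m F}
    (h : ∀ y ∈ perp W, Sp.bf m F x y = 0) : x ∈ W := by
  by_contra hx
  obtain ⟨ψ, hψx, hψ⟩ := Submodule.exists_dual_map_eq_bot_of_notMem hx inferInstance
  obtain ⟨y, hy⟩ := Quad.exists_rep (Sp.bf m F) bf_nondeg ψ
  refine hψx ?_
  rw [← hy]
  refine h y (mem_perp.2 fun w hw => ?_)
  have : ψ w ∈ W.map ψ := Submodule.mem_map_of_mem hw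
  rw [hψ] at this
  rw [hy]
  simpa using this

theorem map_eq_of_le {g : GL (Fin m ⊕ Fin m) F} {W : Submodule F (Sp.V m F)}
    (h : ∀ w ∈ W, (g : Matrix (Fin m ⊕ Fin m) (Fin m ⊕ Fin m) F) *ᵥ w ∈ W) (v : Sp.V m F) :
    v ∈ W ↔ (g : Matrix (Fin m ⊕ Fin m) (Fin m ⊕ Fin m) F) *ᵥ v ∈ W := by
  refine ⟨h v, fun hv => ?_⟩
  let G := Matrix.toLin' (g : Matrix (Fin m ⊕ Fin m) (Fin m ⊕ Fin m) F)
  have hGinj : Function.Injective G := fun v w hvw => by
    have := congrArg (fun z => ((g⁻¹ : GL (Fin m ⊕ Fin m) F) :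
      Matrix (Fin m ⊕ Fin m) (Fin m ⊕ Fin m) F) *ᵥ z) hvw
    simpa [G, Matrix.mulVec_mulVec, ← Units.val_mul] using this
  have heq : W.map G = W := Submodule.eq_of_le_of_finrank_le
    (by rintro _ ⟨w, hw, rfl⟩; simpa [G] using h w hw)
    (le_of_eq (Submodule.equivMapOfInjective G hGinj W).finrank_eq)
  rw [← heq] at hv
  obtain ⟨w, hw, hwv⟩ := hv
  have : w = v := hGinj (by rw [hwv, Matrix.toLin'_apply])
  exact this ▸ hw

theorem mem_stab {g : GL (Fin m ⊕ Fin m) F} {W : Submodule F (Sp.V m F)} :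
    g ∈ Cfsg.Geo.subspaceStabilizer W ↔
      ∀ v, v ∈ W ↔ (g : Matrix (Fin m ⊕ Fin m) (Fin m ⊕ Fin m) F) *ᵥ v ∈ W := Iff.rfl

theorem tv_mem_stab {W : Submodule F (Sp.V m F)} {a : Sp.V m F}
    (h : a ∈ W ∨ ∀ w ∈ W, Sp.bf m F w a = 0) (c : F) :
    tvGL a c ∈ Cfsg.Geo.subspaceStabilizer W ⊓ Cfsg.spGL m F := by
  refine ⟨mem_stab.2 (map_eq_of_le fun w hw => ?_), tvGL_mem a c⟩
  rw [tvGL_mulVec]
  rcases h with ha | ha
  · exact W.add_mem hw (W.smul_mem _ ha)
  · rw [ha w hw, mul_zero, zero_smul, add_zero]; exact hw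

theorem isotropic_maximal [Finite F] (W : Submodule F (Sp.V m F)) (hW0 : W ≠ ⊥)
    (hW : ∀ u ∈ W, ∀ v ∈ W, Sp.bf m F u v = 0) :
    Cfsg.Geo.IsMaximalIn (Cfsg.spGL m F) (Cfsg.Geo.subspaceStabilizer W ⊓ Cfsg.spGL m F) := by
  obtain ⟨w0, hw0, hw00⟩ := Submodule.exists_mem_ne_zero_of_ne_bot hW0
  obtain ⟨y0, hy0⟩ := Sp.exists_bf_eq_one hw00
  have hy0W : y0 ∉ perp W := fun h => one_ne_zero (hy0.symm.trans (mem_perp.1 h w0 hw0))
  have hWp : W ≤ perp W := fun x hx => mem_perp.2 fun w hw => hW w hw x hx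
  refine ⟨lt_of_le_of_ne inf_le_right fun heq => ?_, fun M hHM hMS => ?_⟩
  · have hs := ((le_of_eq heq.symm) (tvGL_mem y0 1)).1
    have := (mem_stab.1 hs w0).1 hw0
    rw [tvGL_mulVec, hy0, one_mul, one_smul, Submodule.add_mem_iff_right _ hw0] at this
    exact hy0W (hWp this)
  by_cases hMH : M ≤ Cfsg.Geo.subspaceStabilizer W ⊓ Cfsg.spGL m F
  · exact Or.inl (le_antisymm hMH hHM)
  right
  refine le_antisymm hMS (le_of_full ?_)
  obtain ⟨g, hgM, hgH⟩ := SetLike.not_le_iff_exists.1 hMH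
  have hgS := hMS hgM
  have hPfull : ∀ a ∈ perp W, a ∈ Full M := fun a ha c =>
    hHM (tv_mem_stab (Or.inr (mem_perp.1 ha)) c)
  obtain ⟨u, hu, huW⟩ : ∃ u ∈ Full M, u ∉ perp W := by
    by_contra hcon
    push Not at hcon
    refine hgH ⟨mem_stab.2 (map_eq_of_le fun w hw => mem_of_perp_perp fun y hy => ?_), hgS⟩
    obtain ⟨y', rfl⟩ : ∃ y', (g : Matrix (Fin m ⊕ Fin m) (Fin m ⊕ Fin m) F) *ᵥ y' = y :=
      ⟨((g⁻¹ : GL (Fin m ⊕ Fin m) F) : Matrix (Fin m ⊕ Fin m) (Fin m ⊕ Fin m) F) *ᵥ y, by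
        rw [Matrix.mulVec_mulVec, ← Units.val_mul, mul_inv_cancel, Units.val_one, Matrix.one_mulVec]⟩
    rw [mem_spGL.1 hgS]
    refine mem_perp.1 ((map_eq_of_le (W := perp W) fun a ha =>
      hcon _ (full_map hgM hgS (hPfull a ha))) y' |>.2 hy) w hw
  have hcoset : ∀ v, v ∈ Full M → v ∉ perp W → ∀ a ∈ perp W, v + a ∈ Full M := by
    intro v hv hvW a ha
    by_cases hva : Sp.bf m F v a = 0
    · obtain ⟨b, hb, hvb⟩ : ∃ b ∈ W, Sp.bf m F b v ≠ 0 := by
        by_contra h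
        push Not at h
        exact hvW (mem_perp.2 h)
      have hvb' : Sp.bf m F v b ≠ 0 := by rwa [Sp.bf_swap, neg_ne_zero]
      have h1 := full_move hv (hPfull b (hWp hb)) hvb' 1
      rw [one_smul] at h1
      have h2 : Sp.bf m F (v + b) (a - b) ≠ 0 := by
        simp only [map_add, map_sub, LinearMap.add_apply, hva, Sp.bf_self]
        rw [(mem_perp.1 ha b hb)]
        simpa using hvb'
      have h3 := full_move h1 (hPfull _ ((perp W).sub_mem ha (hWp hb))) h2 1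
      rw [one_smul] at h3
      convert h3 using 1
      abel
    · have h1 := full_move hv (hPfull a ha) hva 1
      rwa [one_smul] at h1
  intro v
  by_cases hvW : v ∈ perp W
  · exact hPfull v hvW
  -- move `u` into the coset of `v`
  obtain ⟨b, hb, hub, hvb⟩ := exists_both W (u := u) (u' := v) (by
    by_contra h; push Not at h
    exact huW (mem_perp.2 fun w hw => by rw [Sp.bf_swap, h w hw, neg_zero])) (by
    by_contra h; push Not at h
    exact hvW (mem_perp.2 fun w hw => by rw [Sp.bf_swap, h w hw, neg_zero]))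
  obtain ⟨φ, hφ⟩ : ∃ φ : W →ₗ[F] F, φ = (Sp.bf m F v) ∘ₗ W.subtype := ⟨_, rfl⟩
  obtain ⟨ψ, hψ⟩ : ∃ ψ : W →ₗ[F] F, ψ = (Sp.bf m F u) ∘ₗ W.subtype := ⟨_, rfl⟩
  have hφb : φ ⟨b, hb⟩ ≠ 0 := by rw [hφ]; exact hvb
  have hψb : ψ ⟨b, hb⟩ ≠ 0 := by rw [hψ]; exact hub
  let α : W →ₗ[F] W := LinearMap.id + ((φ ⟨b, hb⟩)⁻¹ • (ψ - φ)).smulRight ⟨b, hb⟩
  have hαφ : ∀ x, φ (α x) = ψ x := fun x => by
    simp only [α, LinearMap.add_apply, LinearMap.id_apply, LinearMap.smulRight_apply,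
      LinearMap.smul_apply, LinearMap.sub_apply, map_add, map_smul, smul_eq_mul]
    field_simp
    ring
  have hαinj : Function.Injective α := by
    rw [← LinearMap.ker_eq_bot, Submodule.eq_bot_iff]
    intro x hx
    rw [LinearMap.mem_ker] at hx
    have h1 : ψ x = 0 := by rw [← hαφ, hx, map_zero]
    set s := (φ ⟨b, hb⟩)⁻¹ * (ψ x - φ x) with hs
    have h2 : x + s • (⟨b, hb⟩ : W) = 0 := by simpa [α, hs] using hx
    have h3 := congrArg ψ h2
    rw [map_add, map_smul, h1, zero_add, map_zero, smul_eq_mul] at h3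
    rw [(mul_eq_zero.1 h3).resolve_right hψb, zero_smul, add_zero] at h2
    exact h2
  obtain ⟨t, ht, htX⟩ := Witt.witt_alternating (Sp.bf m F) Sp.bf_self bf_nondeg.1 W
    (W.subtype ∘ₗ α) (fun x y h => hαinj (Subtype.ext h)) (fun x y => by
      rw [hW _ x.2 _ y.2]; exact hW _ (α x).2 _ (α y).2)
  have hunit : IsUnit (LinearMap.toMatrix' t.toLinearMap) :=
    IsUnit.of_mul_eq_one (LinearMap.toMatrix' t.symm.toLinearMap) (by
      rw [← LinearMap.toMatrix'_comp]; simp)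
  have hmv : ∀ x, (hunit.unit : Matrix (Fin m ⊕ Fin m) (Fin m ⊕ Fin m) F) *ᵥ x = t x := fun x => by
    rw [IsUnit.unit_spec, LinearMap.toMatrix'_mulVec]; rfl
  have hH : hunit.unit ∈ Cfsg.Geo.subspaceStabilizer W ⊓ Cfsg.spGL m F :=
    ⟨mem_stab.2 (map_eq_of_le fun x hx => by
      rw [hmv, htX ⟨x, hx⟩]; exact (α ⟨x, hx⟩).2),
      mem_spGL.2 fun x y => by rw [hmv, hmv, ht]⟩
  have htu := full_map (hHM hH) hH.2 hu
  rw [hmv] at htu
  have hdiff : t u - v ∈ perp W := by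
    refine mem_perp.2 fun w hw => ?_
    have hαsurj := (LinearMap.injective_iff_surjective.1 hαinj) ⟨w, hw⟩
    obtain ⟨x, hx⟩ := hαsurj
    have e : w = t (x : Sp.V m F) := by rw [htX x, LinearMap.comp_apply, hx]; rfl
    have e2 := hαφ x
    rw [hx, hφ, hψ] at e2
    change Sp.bf m F v w = Sp.bf m F u x at e2
    rw [map_sub, Sp.bf_swap v w, e2, e, ht, Sp.bf_swap u x]
    ring
  have htuW : t u ∉ perp W := fun h => hvW (by
    have := (perp W).sub_mem h hdiff
    rwa [sub_sub_cancel] at this)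
  have := hcoset _ htu htuW _ ((perp W).neg_mem hdiff)
  rwa [neg_sub, add_sub_cancel] at this

theorem nondeg_maximal [Finite F] (W : Submodule F (Sp.V m F)) (hW0 : W ≠ ⊥)
    (hW : ∀ w ∈ W, w ≠ 0 → ∃ z ∈ W, Sp.bf m F w z ≠ 0) (hdim : Module.finrank F W < m) :
    Cfsg.Geo.IsMaximalIn (Cfsg.spGL m F) (Cfsg.Geo.subspaceStabilizer W ⊓ Cfsg.spGL m F) := by
  have hdec : ∀ v, ∃ a ∈ W, v - a ∈ perp W := by
    intro v
    have hnd : ((Sp.bf m F).compl₁₂ W.subtype W.subtype).Nondegenerate := by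
      constructor
      · intro w hw
        by_contra h
        obtain ⟨z, hz, hz'⟩ := hW w w.2 (fun h9 => h (Subtype.ext h9))
        exact hz' (hw ⟨z, hz⟩)
      · intro w hw
        by_contra h
        obtain ⟨z, hz, hz'⟩ := hW w w.2 (fun h9 => h (Subtype.ext h9))
        refine hz' ?_
        rw [Sp.bf_swap]
        exact neg_eq_zero.2 (hw ⟨z, hz⟩)
    obtain ⟨a, ha⟩ := Quad.exists_rep _ hnd (((Sp.bf m F).flip v) ∘ₗ W.subtype)
    refine ⟨a, a.2, mem_perp.2 fun w hw => ?_⟩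
    have := ha ⟨w, hw⟩
    simp only [LinearMap.compl₁₂_apply, LinearMap.comp_apply, LinearMap.flip_apply,
      Submodule.subtype_apply] at this
    rw [map_sub, this, sub_self]
  have hdisj : ∀ x ∈ W, x ∈ perp W → x = 0 := by
    intro x hx hxp
    by_contra h
    obtain ⟨z, hz, hz'⟩ := hW x hx h
    rw [Sp.bf_swap, mem_perp.1 hxp z hz, neg_zero] at hz'
    exact hz' rfl
  have hPnd : ∀ b ∈ perp W, b ≠ 0 → ∃ z ∈ perp W, Sp.bf m F b z ≠ 0 := by
    intro b hb hb0
    obtain ⟨v, hv⟩ := Sp.exists_bf_eq_one hb0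
    obtain ⟨a, ha, hva⟩ := hdec v
    refine ⟨v - a, hva, ?_⟩
    rw [map_sub, Sp.bf_swap a b, mem_perp.1 hb a ha, neg_zero, sub_zero, hv]
    exact one_ne_zero
  have hdimP : Module.finrank F W < Module.finrank F (perp W) := by
    have h1 : W ⊔ perp W = ⊤ := by
      refine Submodule.eq_top_iff'.2 fun v => ?_
      obtain ⟨a, ha, hva⟩ := hdec v
      have := Submodule.add_mem_sup ha hva
      rwa [add_sub_cancel] at this
    have h2 := Submodule.finrank_sup_add_finrank_inf_eq W (perp W)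
    rw [h1, show W ⊓ perp W = ⊥ from (Submodule.eq_bot_iff _).2 fun x hx => hdisj x hx.1 hx.2,
      finrank_top, finrank_bot, Module.finrank_fintype_fun_eq_card, Fintype.card_sum,
      Fintype.card_fin] at h2
    omega
  have hP0 : perp W ≠ ⊥ := fun h => by rw [h, finrank_bot] at hdimP; omega
  obtain ⟨x0, hx0, hx00⟩ := Submodule.exists_mem_ne_zero_of_ne_bot hW0
  obtain ⟨y0, hy0, hy00⟩ := Submodule.exists_mem_ne_zero_of_ne_bot hP0
  refine ⟨lt_of_le_of_ne inf_le_right fun heq => ?_, fun M hHM hMS => ?_⟩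
  · have hs := ((le_of_eq heq.symm) (tvGL_mem (x0 + y0) 1)).1
    obtain ⟨z, hz, hxz⟩ := hW x0 hx0 hx00
    have := (mem_stab.1 hs z).1 hz
    rw [tvGL_mulVec, one_mul, Submodule.add_mem_iff_right _ hz, map_add,
      mem_perp.1 hy0 z hz, add_zero] at this
    have hne : Sp.bf m F z x0 ≠ 0 := by rwa [Sp.bf_swap, neg_ne_zero]
    rw [Submodule.smul_mem_iff _ hne, Submodule.add_mem_iff_right _ hx0] at this
    exact hy00 (hdisj y0 this hy0)
  by_cases hMH : M ≤ Cfsg.Geo.subspaceStabilizer W ⊓ Cfsg.spGL m F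
  · exact Or.inl (le_antisymm hMH hHM)
  right
  refine le_antisymm hMS (le_of_full ?_)
  obtain ⟨g, hgM, hgH⟩ := SetLike.not_le_iff_exists.1 hMH
  have hgS := hMS hgM
  have hWfull : ∀ a ∈ W, a ∈ Full M := fun a ha c => hHM (tv_mem_stab (Or.inl ha) c)
  have hPfull : ∀ a ∈ perp W, a ∈ Full M := fun a ha c =>
    hHM (tv_mem_stab (Or.inr (mem_perp.1 ha)) c)
  obtain ⟨u, hu, huW, huP⟩ : ∃ u ∈ Full M, u ∉ W ∧ u ∉ perp W := by
    by_contra hcon
    push Not at hcon
    let G := Matrix.toLin' (g : Matrix (Fin m ⊕ Fin m) (Fin m ⊕ Fin m) F)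
    have hGinj : Function.Injective G := fun v w hvw => by
      have := congrArg (fun z => ((g⁻¹ : GL (Fin m ⊕ Fin m) F) :
        Matrix (Fin m ⊕ Fin m) (Fin m ⊕ Fin m) F) *ᵥ z) hvw
      simpa [G, Matrix.mulVec_mulVec, ← Units.val_mul] using this
    have himg : ∀ a ∈ perp W, G a ∈ W ∨ G a ∈ perp W := by
      intro a ha
      have : G a ∈ Full M := by
        simp only [G, Matrix.toLin'_apply]; exact full_map hgM hgS (hPfull a ha)
      exact or_iff_not_imp_left.2 (hcon _ this)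
    have hPP : ∀ a ∈ perp W, G a ∈ perp W := by
      intro a ha
      by_contra hna
      have haW := (himg a ha).resolve_right hna
      have hall : (perp W).map G ≤ W := by
        rintro _ ⟨b, hb, rfl⟩
        rcases himg b hb with h | h
        · exact h
        · rcases himg (a + b) ((perp W).add_mem ha hb) with h' | h'
          · rw [map_add, Submodule.add_mem_iff_right _ haW] at h'; exact h'
          · rw [map_add] at h'
            exact absurd ((Submodule.add_mem_iff_left _ h).1 h') hna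
      have h1 := Submodule.finrank_mono hall
      have h2 : Module.finrank F ((perp W).map G) = Module.finrank F (perp W) :=
        (Submodule.equivMapOfInjective G hGinj (perp W)).finrank_eq.symm
      exact absurd (h2.symm.le.trans h1) (Nat.not_le.2 hdimP)
    refine hgH ⟨mem_stab.2 (map_eq_of_le fun w hw => mem_of_perp_perp fun y hy => ?_), hgS⟩
    obtain ⟨y', rfl⟩ : ∃ y', (g : Matrix (Fin m ⊕ Fin m) (Fin m ⊕ Fin m) F) *ᵥ y' = y :=
      ⟨((g⁻¹ : GL (Fin m ⊕ Fin m) F) : Matrix (Fin m ⊕ Fin m) (Fin m ⊕ Fin m) F) *ᵥ y, by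
        rw [Matrix.mulVec_mulVec, ← Units.val_mul, mul_inv_cancel, Units.val_one, Matrix.one_mulVec]⟩
    rw [mem_spGL.1 hgS]
    exact mem_perp.1 ((map_eq_of_le (W := perp W) fun a ha => by
      have := hPP a ha; rwa [Matrix.toLin'_apply] at this) y' |>.2 hy) w hw
  intro v
  obtain ⟨a, ha, hua⟩ := hdec u
  obtain ⟨a', ha', hva⟩ := hdec v
  by_cases h1 : a' = 0
  · rw [h1, sub_zero] at hva; exact hPfull v hva
  by_cases h2 : v - a' = 0
  · rw [sub_eq_zero] at h2; exact hWfull v (h2 ▸ ha')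
  have ha0 : a ≠ 0 := fun h => huP (by rwa [h, sub_zero] at hua)
  have hua0 : u - a ≠ 0 := fun h => huW (by rw [sub_eq_zero] at h; exact h ▸ ha)
  have hrest : ∀ b ∈ perp W, ∀ z ∈ W, Sp.bf m F b z = 0 := fun b hb z hz => by
    rw [Sp.bf_swap, mem_perp.1 hb z hz, neg_zero]
  have s1 := full_replace (M := M) W hW hWfull ha ha' ha0 h1 (hrest _ hua) (by rwa [add_sub_cancel])
  rw [add_comm] at s1
  have s2 := full_replace (M := M) (perp W) hPnd hPfull hua hva hua0 h2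
    (fun z hz => mem_perp.1 hz a' ha') s1
  rwa [sub_add_cancel] at s2

end CfsgLib.Lie.SpMax
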