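import Cfsg.Agent.Lie.SpSemiConj
import Cfsg.Agent.Misc.RegularClasses

/-!
Centralisers of regular unipotent elements of the symplectic group in odd characteristic.
-/

set_option autoImplicit false
set_option linter.unusedSectionVars false
set_option linter.unusedSimpArgs false

namespace CfsgLib.Lie.SpRegularCent

open Matrix Module SpSemiConj CfsgLib.MiscRegularClasses

variable {F : Type*} [Field F] {m : ℕ}

local notation "Idx" => (Fin m ⊕ Fin m)

theorem powers {Y : Matrix Idx Idx F} (hm : 1 ≤ m) (h0 : Y ^ (2 * m) = 0) (hr : Y.rank = 2 * m - 1) :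
    (∀ a : Fin (m + m) → F, ∑ i : Fin (m + m), a i • Y ^ (i : ℕ) = 0 → a = 0) ∧
      ∀ g : Matrix Idx Idx F, g * Y = Y * g → ∃ a : Fin (m + m) → F, g = ∑ i : Fin (m + m), a i • Y ^ (i : ℕ) := by
  classical
  let E := Matrix.reindexAlgEquiv F F (finSumFinEquiv (m := m) (n := m))
  obtain ⟨v, b, hb⟩ := exists_cyclic (N := E Y) (by omega)
    (by rw [← map_pow, pow_eq_zero_of_le (by omega) h0, map_zero])
    (by rw [Matrix.coe_reindexAlgEquiv, Matrix.rank_reindex, hr]; omega)
  constructor
  · intro a ha
    have h1 := congrArg (fun X => E X *ᵥ v) ha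
    simp only [map_sum, map_smul, map_pow, map_zero, Matrix.sum_mulVec, Matrix.smul_mulVec, ← hb,
      Matrix.zero_mulVec] at h1
    exact funext fun i => Fintype.linearIndependent_iff.1 b.linearIndependent a h1 i
  · intro g hg
    refine ⟨fun i => b.repr (E g *ᵥ v) i, E.injective (Matrix.toLin'.injective (b.ext fun k => ?_))⟩
    have hgp : ∀ j : ℕ, E g * E Y ^ j = E Y ^ j * E g := fun j =>
      (Commute.pow_right (show Commute (E g) (E Y) by
        show _ * _ = _ * _
        rw [← map_mul, ← map_mul, hg]) j).eq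
    rw [Matrix.toLin'_apply, Matrix.toLin'_apply, hb, Matrix.mulVec_mulVec, hgp, ← Matrix.mulVec_mulVec]
    conv_lhs => rw [← b.sum_repr (E g *ᵥ v)]
    rw [Matrix.mulVec_sum, Matrix.mulVec_mulVec, map_sum, Finset.sum_mul, Matrix.sum_mulVec]
    refine Finset.sum_congr rfl fun i _ => ?_
    rw [map_smul, map_pow, Matrix.mulVec_smul, hb, Matrix.mulVec_mulVec, smul_mul_assoc, Matrix.smul_mulVec, ← pow_add,
      ← pow_add, add_comm (k : ℕ)]

variable [Fintype F]

theorem card_centralizer {q : ℕ} (hF : Fintype.card F = q) (hq : Odd q) (hm : 1 ≤ m)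
    (u : Matrix.symplecticGroup (Fin m) F) (hnil : ((u : Matrix Idx Idx F) - 1) ^ (2 * m) = 0)
    (hreg : ((u : Matrix Idx Idx F) - 1).rank = 2 * m - 1) :
    Nat.card ↥(Subgroup.centralizer ({u} : Set ↥(Matrix.symplecticGroup (Fin m) F))) = 2 * q ^ m := by
  classical
  have h2 : (2 : F) ≠ 0 := by
    intro h
    obtain ⟨k, hp, hk⟩ := FiniteField.card F (ringChar F)
    have h2' : ((2 : ℕ) : F) = 0 := by exact_mod_cast h
    have := (Nat.prime_dvd_prime_iff_eq hp Nat.prime_two).1 ((ringChar.spec F 2).1 h2')
    rw [hF, this] at hk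
    rw [hk] at hq
    exact Nat.not_even_iff_odd.2 hq (Nat.even_pow.2 ⟨even_two, k.ne_zero⟩)
  obtain ⟨A, hA⟩ : ∃ A : Matrix Idx Idx F, A = u := ⟨_, rfl⟩
  rw [← hA] at hnil hreg
  have hAS : tau A * A = 1 := hA ▸ tau_mem u.2
  have hAS' : A * tau A = 1 := mul_eq_one_comm.1 hAS
  obtain ⟨Y, hY⟩ : ∃ Y, Y = A - tau A := ⟨_, rfl⟩
  have hneg : ∀ X : Matrix Idx Idx F, tau (-X) = -tau X := fun X => by
    rw [← neg_one_smul F X, tau_smul, neg_one_smul]
  have hτY : tau Y = -Y := by rw [hY, sub_eq_add_neg, tau_add, hneg, tau_tau]; abel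
  have hfac : Y = (tau A * (A + 1)) * (A - 1) := by
    rw [hY, mul_assoc, add_mul, mul_sub, one_mul, mul_one, show A * A - A + (A - 1) = A * A - 1 by abel, mul_sub,
      ← mul_assoc, hAS, one_mul, mul_one]
  have hcA : Commute A (tau A) := hAS'.trans hAS.symm
  have hun : IsUnit (A + 1) := by
    have h1 : A + 1 = algebraMap F (Matrix Idx Idx F) 2 + (A - 1) := by
      rw [map_ofNat, ← one_add_one_eq_two]; abel
    rw [h1]
    exact IsNilpotent.isUnit_add_left_of_commute ⟨_, hnil⟩ ((isUnit_iff_ne_zero.2 h2).map _)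
      (Algebra.commutes _ _).symm
  have hunit : IsUnit (tau A * (A + 1)) := (IsUnit.of_mul_eq_one A hAS).mul hun
  have hY0 : Y ^ (2 * m) = 0 := by
    have hc : Commute (tau A * (A + 1)) (A - 1) :=
      (Commute.mul_left ((hcA.symm).sub_right (Commute.one_right _))
        (((Commute.refl A).add_left (Commute.one_left _)).sub_right (Commute.one_right _)))
    rw [hfac, hc.mul_pow, hnil, mul_zero]
  have hYr : Y.rank = 2 * m - 1 := by
    rw [hfac, Matrix.rank_mul_eq_right_of_isUnit_det _ _ ((Matrix.isUnit_iff_isUnit_det _).1 hunit), hreg]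
  obtain ⟨hind, hspan⟩ := powers hm hY0 hYr
  -- the odd part
  obtain ⟨Z, hZ⟩ : ∃ Z : (Fin m → F) → Matrix Idx Idx F, ∀ b, Z b = ∑ j : Fin m, b j • Y ^ (2 * (j : ℕ) + 1) :=
    ⟨_, fun _ => rfl⟩
  have hτp : ∀ k, tau (Y ^ k) = (-Y) ^ k := fun k => by
    induction k with
    | zero => rw [pow_zero, pow_zero, tau_one]
    | succ k ih => rw [pow_succ', tau_mul, ih, hτY, ← pow_succ]
  let tauHom : Matrix Idx Idx F →+ Matrix Idx Idx F := AddMonoidHom.mk' (tau (K := F) (m := m)) tau_add
  have hτsum : ∀ {ι : Type} (s : Finset ι) (f : ι → Matrix Idx Idx F), tau (∑ i ∈ s, f i) = ∑ i ∈ s, tau (f i) := by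
    intro ι s f
    exact map_sum tauHom f s
  have hτZ : ∀ b, tau (Z b) = -Z b := fun b => by
    rw [hZ, hτsum, ← Finset.sum_neg_distrib]
    refine Finset.sum_congr rfl fun j _ => ?_
    rw [tau_smul, hτp, Odd.neg_pow (odd_two_mul_add_one _), smul_neg]
  have hZnil : ∀ b, IsNilpotent (Z b) := fun b => by
    rw [hZ, show (∑ j : Fin m, b j • Y ^ (2 * (j : ℕ) + 1)) = Y * ∑ j : Fin m, b j • Y ^ (2 * (j : ℕ)) by
      rw [Finset.mul_sum]; exact Finset.sum_congr rfl fun j _ => by rw [mul_smul_comm, ← pow_succ']]
    exact Commute.isNilpotent_mul_right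
      (Commute.sum_right _ _ _ fun j _ => ((Commute.refl Y).pow_right _).smul_right _) ⟨_, hY0⟩
  have hYA : Commute Y A := by rw [hY]; exact (Commute.refl A).sub_left hcA.symm
  have hZA : ∀ b, Commute (Z b) A := fun b => by
    rw [hZ]; exact Commute.sum_left _ _ _ fun j _ => (hYA.pow_left _).smul_left _
  have hpY : ∀ g : Matrix Idx Idx F, g * A = A * g → g * Y = Y * g := fun g hg => by
    have h1 : g * tau A = tau A * g := by
      calc g * tau A = tau A * A * g * tau A := by rw [hAS, one_mul]
        _ = tau A * g * (A * tau A) := by simp only [mul_assoc]; rw [← mul_assoc A g, ← hg, mul_assoc]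
        _ = tau A * g := by rw [hAS', mul_one]
    rw [hY, mul_sub, sub_mul, hg, h1]
  have hodd : ∀ X : Matrix Idx Idx F, X * A = A * X → tau X = -X → ∃ b, X = Z b := by
    intro X hXA hτX
    obtain ⟨a, ha⟩ := hspan X (hpY X hXA)
    refine ⟨fun j => a ⟨2 * (j : ℕ) + 1, by omega⟩, ?_⟩
    have h0 : ∀ i : Fin (m + m), Even (i : ℕ) → a i = 0 := by
      have h1 : ∑ i : Fin (m + m), (a i * ((-1) ^ (i : ℕ) + 1)) • Y ^ (i : ℕ) = 0 := by
        have h2 : tau X + X = 0 := by rw [hτX, neg_add_cancel]
        rw [ha, hτsum, ← Finset.sum_add_distrib] at h2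
        rw [← h2]
        refine Finset.sum_congr rfl fun i _ => ?_
        rw [tau_smul, hτp, ← neg_one_smul F Y, smul_pow, mul_add, mul_one, add_smul, mul_smul]
      intro i hi
      have h3 := congrFun (hind _ h1) i
      simp only [Pi.zero_apply, hi.neg_one_pow, one_add_one_eq_two, mul_eq_zero, h2, or_false] at h3
      exact h3
    rw [hZ, ha]
    let emb : Fin m → Fin (m + m) := fun j => ⟨2 * (j : ℕ) + 1, by omega⟩
    have hinj : Function.Injective emb := fun i j h => Fin.ext (by
      have := congrArg Fin.val h; simp only [emb] at this; omega)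
    rw [← Finset.sum_image (f := fun i : Fin (m + m) => a i • Y ^ (i : ℕ)) (g := emb) fun i _ j _ h => hinj h]
    refine (Finset.sum_subset (Finset.subset_univ _) fun i _ hi => ?_).symm
    have hev : Even (i : ℕ) := by
      by_contra hne
      obtain ⟨j, hj⟩ := Nat.not_even_iff_odd.1 hne
      exact hi (Finset.mem_image.2 ⟨⟨j, by omega⟩, Finset.mem_univ _, Fin.ext hj.symm⟩)
    rw [h0 i hev, zero_smul]
  -- Cayley transform
  have hU : ∀ b, IsUnit (1 - Z b) := fun b => (hZnil b).isUnit_one_sub
  let C := Subgroup.centralizer ({u} : Set ↥(Matrix.symplecticGroup (Fin m) F))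
  have hmk : ∀ (b : Fin m → F) (s : {x : F // x * x = 1}), ∃ g : C,
      ((g : Matrix.symplecticGroup (Fin m) F) : Matrix Idx Idx F) * (1 - Z b) = s.1 • (1 + Z b) := by
    intro b s
    obtain ⟨w, hw⟩ := hU b
    obtain ⟨g, hg⟩ : ∃ g, g = s.1 • ((1 + Z b) * ((w⁻¹ : GL Idx F) : Matrix Idx Idx F)) := ⟨_, rfl⟩
    have hgw : g * (1 - Z b) = s.1 • (1 + Z b) := by
      rw [hg, ← hw, Matrix.smul_mul, mul_assoc, Units.inv_mul, mul_one]
    have hc : Commute (1 + Z b) (1 - Z b) :=
      ((Commute.one_right _).sub_right ((Commute.one_left _).add_left (Commute.refl _)))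
    have hτg : tau g * g = 1 := by
      have h3 : (1 + Z b) * tau g = s.1 • (1 - Z b) := by
        have h4 := congrArg tau hgw
        rw [tau_mul, tau_smul, tau_add, tau_one, hτZ, sub_eq_add_neg, tau_add, tau_one, hneg, hτZ, neg_neg] at h4
        rw [h4, ← sub_eq_add_neg]
      have hp : IsUnit (1 + Z b) := (hZnil b).isUnit_one_add
      refine (hp.mul_left_cancel ?_)
      refine ((hU b).mul_right_cancel ?_)
      calc (1 + Z b) * (tau g * g) * (1 - Z b) = ((1 + Z b) * tau g) * (g * (1 - Z b)) := by simp only [mul_assoc]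
        _ = (1 + Z b) * 1 * (1 - Z b) := by
          rw [h3, hgw, Matrix.smul_mul, Matrix.mul_smul, smul_smul, s.2, one_smul, mul_one, hc.eq]
    have hgA : g * A = A * g := by
      rw [hg]
      refine (((Commute.one_left A).add_left (hZA b)).mul_left ?_).smul_left _
      exact Commute.units_inv_left (show Commute (w : Matrix Idx Idx F) A by
        rw [hw]; exact (Commute.one_left A).sub_left (hZA b))
    refine ⟨⟨⟨g, mem_of_tau hτg⟩, Subgroup.mem_centralizer_singleton_iff.2 (Subtype.ext ?_)⟩, hgw⟩
    show g * (u : Matrix Idx Idx F) = (u : Matrix Idx Idx F) * g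
    rw [← hA, hgA]
  choose f hf using hmk
  have hbij : Function.Bijective fun p : (Fin m → F) × {x : F // x * x = 1} => f p.1 p.2 := by
    haveI : Nonempty (Fin m ⊕ Fin m) := ⟨Sum.inl ⟨0, hm⟩⟩
    constructor
    · rintro ⟨b, s⟩ ⟨b', s'⟩ h
      have h' : f b s = f b' s' := h
      have e1 := hf b s
      have e2 := hf b' s'
      rw [← h'] at e2
      obtain ⟨G, hG⟩ : ∃ G, G = ((f b s : Matrix.symplecticGroup (Fin m) F) : Matrix Idx Idx F) := ⟨_, rfl⟩
      rw [← hG] at e1 e2
      have k1 : G - s.1 • 1 = (G + s.1 • 1) * Z b := by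
        rw [mul_sub, mul_one] at e1
        rw [add_mul, Matrix.smul_mul, one_mul]
        rw [smul_add] at e1
        linear_combination (norm := abel) e1
      have k2 : G - s'.1 • 1 = (G + s'.1 • 1) * Z b' := by
        rw [mul_sub, mul_one] at e2
        rw [add_mul, Matrix.smul_mul, one_mul]
        rw [smul_add] at e2
        linear_combination (norm := abel) e2
      have hu1 : IsUnit (G + s.1 • 1) := by
        refine (IsUnit.mul_iff.1 (show IsUnit ((G + s.1 • 1) * (1 - Z b)) from ?_)).1
        rw [add_mul, e1, Matrix.smul_mul, one_mul, ← smul_add, show (1 + Z b) + (1 - Z b) = (2 : F) • (1 : Matrix Idx Idx F) by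
          rw [two_smul]; abel, smul_smul, ← Algebra.algebraMap_eq_smul_one]
        exact (isUnit_iff_ne_zero.2 (mul_ne_zero (fun h0 => by
          have := s.2; rw [h0] at this; simp at this) h2)).map _
      have hs : s = s' := by
        refine Subtype.ext ?_
        rcases mul_self_eq_one_iff.1 s.2 with a | a <;> rcases mul_self_eq_one_iff.1 s'.2 with a' | a'
        · rw [a, a']
        · exfalso
          rw [a', neg_one_smul, sub_neg_eq_add, ← sub_eq_add_neg] at k2
          rw [a, one_smul] at k1 hu1
          rw [k2] at hu1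
          exact not_isUnit_zero (show IsUnit (0 : Matrix Idx Idx F) by
            obtain ⟨j, hj⟩ := hZnil b'
            have hcomm : Commute (G - 1) (Z b') := by
              refine Commute.sub_left ?_ (Commute.one_left _)
              obtain ⟨a0, ha0⟩ := hspan G (hpY G (by
                have := congrArg Subtype.val (Subgroup.mem_centralizer_singleton_iff.1 (f b s).2)
                rw [hG, hA]; exact this))
              rw [ha0, hZ]
              exact Commute.sum_left _ _ _ fun i _ => Commute.smul_left (Commute.sum_right _ _ _ fun l _ =>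
                (((Commute.refl Y).pow_pow _ _)).smul_right _) _
            have := hu1.pow j
            rwa [hcomm.mul_pow, hj, mul_zero] at this)
        · exfalso
          rw [a, neg_one_smul, sub_neg_eq_add, ← sub_eq_add_neg] at k1
          rw [a', one_smul] at k2
          rw [a, neg_one_smul, ← sub_eq_add_neg] at hu1
          rw [k2] at hu1
          exact not_isUnit_zero (show IsUnit (0 : Matrix Idx Idx F) by
            obtain ⟨j, hj⟩ := hZnil b'
            have hcomm : Commute (G + 1) (Z b') := by
              refine Commute.add_left ?_ (Commute.one_left _)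
              obtain ⟨a0, ha0⟩ := hspan G (hpY G (by
                have := congrArg Subtype.val (Subgroup.mem_centralizer_singleton_iff.1 (f b s).2)
                rw [hG, hA]; exact this))
              rw [ha0, hZ]
              exact Commute.sum_left _ _ _ fun i _ => Commute.smul_left (Commute.sum_right _ _ _ fun l _ =>
                (((Commute.refl Y).pow_pow _ _)).smul_right _) _
            have := hu1.pow j
            rwa [hcomm.mul_pow, hj, mul_zero] at this)
        · rw [a, a']
      subst hs
      have hZ' : Z b = Z b' := hu1.mul_left_cancel (k1.symm.trans k2)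
      refine Prod.ext ?_ rfl
      have hext : (fun i : Fin (m + m) => if h : (i : ℕ) % 2 = 1 then b ⟨(i : ℕ) / 2, by omega⟩ - b' ⟨(i : ℕ) / 2, by omega⟩ else 0) = 0 := by
        refine hind _ ?_
        have h9 : Z b - Z b' = 0 := sub_eq_zero.2 hZ'
        rw [hZ, hZ, ← Finset.sum_sub_distrib] at h9
        rw [← h9]
        let emb : Fin m → Fin (m + m) := fun j => ⟨2 * (j : ℕ) + 1, by omega⟩
        have hinj : Function.Injective emb := fun i j h => Fin.ext (by
          have := congrArg Fin.val h; simp only [emb] at this; omega)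
        rw [← Finset.sum_subset (Finset.subset_univ (Finset.univ.image emb)) fun i _ hi => ?_,
          Finset.sum_image fun i _ j _ h => hinj h]
        · refine Finset.sum_congr rfl fun j _ => ?_
          rw [dif_pos (show (2 * (j : ℕ) + 1) % 2 = 1 by omega), sub_smul]
          congr 3 <;> exact Fin.ext (show (2 * (j : ℕ) + 1) / 2 = j by omega)
        · rw [dif_neg fun h => hi (Finset.mem_image.2 ⟨⟨(i : ℕ) / 2, by omega⟩, Finset.mem_univ _, Fin.ext (by
            show 2 * ((i : ℕ) / 2) + 1 = i; omega)⟩), zero_smul]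
      funext j
      have := congrFun hext ⟨2 * (j : ℕ) + 1, by omega⟩
      simp only [Pi.zero_apply] at this
      rw [dif_pos (by omega)] at this
      have hj : (⟨(2 * (j : ℕ) + 1) / 2, by omega⟩ : Fin m) = j := Fin.ext (show (2 * (j : ℕ) + 1) / 2 = j by omega)
      rw [hj] at this
      exact sub_eq_zero.1 this
    · intro g
      obtain ⟨G, hG⟩ : ∃ G, G = ((g : Matrix.symplecticGroup (Fin m) F) : Matrix Idx Idx F) := ⟨_, rfl⟩
      have hGA : G * A = A * G := by
        have := congrArg Subtype.val (Subgroup.mem_centralizer_singleton_iff.1 g.2)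
        rw [hG, hA]; exact this
      have hGS : tau G * G = 1 := hG ▸ tau_mem g.1.2
      obtain ⟨a, ha⟩ := hspan G (hpY G hGA)
      have hnilpart : IsNilpotent (G - a ⟨0, by omega⟩ • 1) := by
        rw [ha, ← Finset.add_sum_erase _ _ (Finset.mem_univ (⟨0, by omega⟩ : Fin (m + m))), pow_zero, add_sub_cancel_left]
        rw [show (∑ i ∈ Finset.univ.erase (⟨0, by omega⟩ : Fin (m + m)), a i • Y ^ (i : ℕ)) =
          Y * ∑ i ∈ Finset.univ.erase (⟨0, by omega⟩ : Fin (m + m)), a i • Y ^ ((i : ℕ) - 1) by
          rw [Finset.mul_sum]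
          refine Finset.sum_congr rfl fun i hi => ?_
          have : (i : ℕ) ≠ 0 := fun h => (Finset.ne_of_mem_erase hi) (Fin.ext h)
          rw [mul_smul_comm, ← pow_succ', Nat.sub_add_cancel (by omega)]]
        exact Commute.isNilpotent_mul_right
          (Commute.sum_right _ _ _ fun j _ => ((Commute.refl Y).pow_right _).smul_right _) ⟨_, hY0⟩
      obtain ⟨c, hc⟩ : ∃ c, c = a ⟨0, by omega⟩ := ⟨_, rfl⟩
      rw [← hc] at hnilpart
      obtain ⟨M, hMd⟩ : ∃ M, M = G - c • 1 := ⟨_, rfl⟩
      rw [← hMd] at hnilpart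
      have hMA : Commute M A := by rw [hMd]; exact Commute.sub_left hGA ((Commute.one_left _).smul_left _)
      have hGY : Commute G Y := hpY G hGA
      have hMτ : Commute M (tau M) := by
        have h1 : Commute M Y := by rw [hMd]; exact Commute.sub_left hGY ((Commute.one_left _).smul_left _)
        obtain ⟨a', ha'⟩ := hspan M h1.eq
        rw [ha', hτsum]
        refine Commute.sum_left _ _ _ fun i _ => Commute.smul_left (Commute.sum_right _ _ _ fun j _ => ?_) _
        rw [tau_smul, hτp]
        exact (((Commute.refl Y).neg_right).pow_pow _ _).smul_right _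
      have hcc : c * c = 1 := by
        have hG' : G = c • 1 + M := by rw [hMd, add_sub_cancel]
        rw [hG', tau_add, tau_smul, tau_one, add_mul, mul_add, mul_add] at hGS
        simp only [Matrix.smul_mul, Matrix.mul_smul, one_mul, mul_one, smul_smul] at hGS
        have hτnil : IsNilpotent (tau M) := by
          obtain ⟨j, hj⟩ := hnilpart
          refine ⟨j, ?_⟩
          have : ∀ l, tau M ^ l = tau (M ^ l) := fun l => by
            induction l with
            | zero => rw [pow_zero, pow_zero, tau_one]
            | succ l ih => rw [pow_succ, ih, ← tau_mul, ← pow_succ']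
          rw [this, hj, tau_zero]
        have hn1 : IsNilpotent ((c * c - 1) • (1 : Matrix Idx Idx F)) := by
          have e : (c * c - 1) • (1 : Matrix Idx Idx F) = -(c • M + (c • tau M + tau M * M)) := by
            rw [sub_smul, one_smul]
            linear_combination (norm := abel) hGS
          rw [e]
          refine IsNilpotent.neg ?_
          refine Commute.isNilpotent_add ?_ (hnilpart.smul c) (Commute.isNilpotent_add ?_ (hτnil.smul c)
            (hMτ.symm.isNilpotent_mul_left hnilpart))
          · exact ((hMτ.smul_right _).add_right (hMτ.mul_right (Commute.refl M))).smul_left _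
          · exact (((Commute.refl (tau M)).mul_right hMτ.symm)).smul_left _
        rw [← Algebra.algebraMap_eq_smul_one, IsNilpotent.map_iff (algebraMap F (Matrix Idx Idx F)).injective,
          isNilpotent_iff_eq_zero, sub_eq_zero] at hn1
        exact hn1
      obtain ⟨w, hw⟩ : ∃ w : GL Idx F, (w : Matrix Idx Idx F) = G + c • 1 := by
        refine ⟨IsUnit.unit (?_ : IsUnit (G + c • 1)), rfl⟩
        rw [show G + c • 1 = algebraMap F (Matrix Idx Idx F) (2 * c) + M by
          rw [hMd, Algebra.algebraMap_eq_smul_one, two_mul, add_smul]; abel]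
        exact hnilpart.isUnit_add_left_of_commute ((isUnit_iff_ne_zero.2 (mul_ne_zero h2 fun h0 => by
          rw [h0] at hcc; simp at hcc)).map _) (Algebra.commutes _ _).symm
      obtain ⟨X, hX⟩ : ∃ X, X = (G - c • 1) * ((w⁻¹ : GL Idx F) : Matrix Idx Idx F) := ⟨_, rfl⟩
      have hwG : Commute (w : Matrix Idx Idx F) G := by rw [hw]; exact (Commute.refl G).add_left ((Commute.one_left _).smul_left _)
      have hXw : X * (G + c • 1) = G - c • 1 := by rw [hX, ← hw, mul_assoc, Units.inv_mul, mul_one]
      have hXA : X * A = A * X := by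
        rw [hX]
        refine Commute.mul_left (hMd ▸ hMA) ?_
        exact Commute.units_inv_left (show Commute (w : Matrix Idx Idx F) A by
          rw [hw]; exact Commute.add_left hGA ((Commute.one_left _).smul_left _))
      have hXG : Commute X G := by
        rw [hX]
        exact Commute.mul_left ((Commute.refl G).sub_left ((Commute.one_left _).smul_left _)) (Commute.units_inv_left hwG)
      have hτX : tau X = -X := by
        have e1 := congrArg tau hXw
        rw [tau_mul, tau_add, tau_smul, tau_one, sub_eq_add_neg, tau_add, hneg, tau_smul, tau_one] at e1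
        have e2 : (tau G + c • 1) * G = c • (G + c • 1) := by
          rw [add_mul, hGS, Matrix.smul_mul, one_mul, smul_add, smul_smul, hcc, one_smul, add_comm]
        have e3 : (tau G + -(c • 1)) * G = -(c • (G - c • 1)) := by
          rw [add_mul, hGS, neg_mul, Matrix.smul_mul, one_mul, smul_sub, smul_smul, hcc, one_smul]; abel
        have hXY : Commute X Y := hpY X hXA
        have hτXG : Commute (tau X) G := by
          obtain ⟨a', ha'⟩ := hspan X hXY.eq
          rw [ha', hτsum]
          refine Commute.sum_left _ _ _ fun i _ => ?_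
          rw [tau_smul, hτp]
          exact ((hGY.symm.neg_left).pow_left _).smul_left _
        have e4 : (G + c • 1) * (c • tau X) = (G + c • 1) * (c • -X) := by
          have e5 := congrArg (· * G) e1
          skip
          rw [mul_assoc, hτXG.eq, ← mul_assoc, e2, e3, Matrix.smul_mul, ← hXw] at e5
          rw [Matrix.mul_smul, e5, (hXG.add_right ((Commute.one_right _).smul_right _)).eq, smul_neg, mul_neg,
            Matrix.mul_smul]
        rw [← hw] at e4
        have e6 := congrArg (fun z => c • z) (w.isUnit.mul_left_cancel e4)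
        simpa [smul_smul, hcc] using e6
      obtain ⟨b, hb⟩ := hodd X hXA hτX
      refine ⟨(b, ⟨c, hcc⟩), Subtype.ext (Subtype.ext ?_)⟩
      refine (hU b).mul_right_cancel ?_
      rw [hf b ⟨c, hcc⟩, ← hG, ← hb, mul_sub, mul_one, ← hXG.eq, smul_add]
      rw [mul_add, Matrix.mul_smul, mul_one] at hXw
      linear_combination (norm := abel) hXw
  rw [← Nat.card_eq_of_bijective _ hbij, Nat.card_prod, mul_comm]
  congr 1
  · have e : {x : F // x * x = 1} ≃ ({1, -1} : Finset F) := Equiv.subtypeEquivRight fun x => by
      rw [mul_self_eq_one_iff, Finset.mem_insert, Finset.mem_singleton]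
    rw [Nat.card_congr e, Nat.card_eq_fintype_card, Fintype.card_coe, Finset.card_pair]
    intro h
    exact h2 (by linear_combination h)
  · rw [Nat.card_fun, Nat.card_eq_fintype_card (α := F), Nat.card_eq_fintype_card (α := Fin m), hF, Fintype.card_fin]

end CfsgLib.Lie.SpRegularCent
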