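import Cfsg.Agent.Lie.SpRegularCent

/-!
Regular unipotent classes of the symplectic group in odd characteristic.
-/

set_option autoImplicit false
set_option linter.unusedSectionVars false
set_option linter.unusedSimpArgs false

namespace CfsgLib.Lie.SpRegularClasses

open Matrix Module SpSemiConj

variable {F : Type*} [Field F] {m : ℕ}

local notation "Idx" => (Fin m ⊕ Fin m)

theorem exists_regular (hm : 1 ≤ m) : ∃ u : Matrix.symplecticGroup (Fin m) F,
    ((u : Matrix Idx Idx F) - 1) ^ (2 * m) = 0 ∧ ((u : Matrix Idx Idx F) - 1).rank = 2 * m - 1 := by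
  classical
  obtain ⟨N, hN⟩ : ∃ N : Matrix (Fin m) (Fin m) F, N = Matrix.of (fun (i j : Fin m) => if (i : ℕ) + 1 = (j : ℕ) then (1 : F) else 0) := ⟨_, rfl⟩
  have hpow : ∀ k, ∀ i j : Fin m, (j : ℕ) < i + k → (N ^ k) i j = 0 := by
    intro k
    induction k with
    | zero => intro i j h; rw [pow_zero, Matrix.one_apply_ne]; exact fun e => by subst e; omega
    | succ k ih =>
      intro i j h
      rw [pow_succ, Matrix.mul_apply]
      refine Finset.sum_eq_zero fun l _ => ?_
      by_cases hl : (l : ℕ) < i + k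
      · rw [ih i l hl, zero_mul]
      · rw [hN, Matrix.of_apply, if_neg (by omega), mul_zero]
  have hnil : N ^ m = 0 := Matrix.ext fun i j => hpow m i j (by omega)
  obtain ⟨B, hB, hBn⟩ : ∃ B : Matrix (Fin m) (Fin m) F, (1 + N)ᵀ * B = 1 ∧ Commute B (1 + Nᵀ) := by
    obtain ⟨w, hw⟩ := (show IsNilpotent Nᵀ from ⟨m, by rw [← Matrix.transpose_pow, hnil, Matrix.transpose_zero]⟩).isUnit_one_add
    refine ⟨((w⁻¹ : GL (Fin m) F) : Matrix (Fin m) (Fin m) F), ?_, ?_⟩
    · rw [Matrix.transpose_add, Matrix.transpose_one, ← hw, Units.mul_inv]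
    · rw [← hw]; exact (Commute.refl (w : Matrix (Fin m) (Fin m) F)).units_inv_left
  have hB2 : B * (1 + N)ᵀ = 1 := mul_eq_one_comm.1 hB
  have hBT : Bᵀ * (1 + N) = 1 := by
    have := congrArg Matrix.transpose hB
    rwa [Matrix.transpose_mul, Matrix.transpose_transpose, Matrix.transpose_one] at this
  obtain ⟨S, hS⟩ : ∃ S : Matrix (Fin m) (Fin m) F, S = Matrix.diagonal (Pi.single ⟨m - 1, by omega⟩ 1) := ⟨_, rfl⟩
  have hST : Sᵀ = S := by rw [hS, Matrix.diagonal_transpose]
  obtain ⟨g, hg⟩ : ∃ g : Matrix Idx Idx F, g = Matrix.fromBlocks (1 + N) ((1 + N) * S) 0 B := ⟨_, rfl⟩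
  have hmem : g ∈ Matrix.symplecticGroup (Fin m) F := by
    rw [SymplecticGroup.mem_iff', hg, Matrix.J, Matrix.fromBlocks_transpose, Matrix.fromBlocks_multiply,
      Matrix.fromBlocks_multiply, Matrix.transpose_mul, hST, Matrix.transpose_zero]
    simp only [Matrix.mul_zero, Matrix.zero_mul, Matrix.mul_one, Matrix.mul_neg, Matrix.neg_mul, add_zero, zero_add,
      neg_zero]
    rw [hB, Matrix.mul_assoc S, hB, Matrix.mul_one, hBT, ← Matrix.mul_assoc Bᵀ, hBT, Matrix.one_mul]
    congr 1
    abel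
  have hg1 : g - 1 = Matrix.fromBlocks N ((1 + N) * S) 0 (B - 1) := by
    rw [hg]
    ext (i | i) (j | j) <;> simp [Matrix.one_apply]
  have hBnil : (B - 1) ^ m = 0 := by
    have e : B - 1 = B * (-Nᵀ) := by
      rw [show -Nᵀ = 1 - (1 + N)ᵀ by rw [Matrix.transpose_add, Matrix.transpose_one]; abel, mul_sub, hB2, mul_one]
    have hc : Commute B (-Nᵀ) := by
      rw [show -Nᵀ = 1 - (1 + Nᵀ) by abel]
      exact (Commute.one_right B).sub_right hBn
    rw [e, hc.mul_pow, neg_pow, ← Matrix.transpose_pow, hnil, Matrix.transpose_zero, mul_zero, mul_zero]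
  refine ⟨⟨g, hmem⟩, ?_, ?_⟩
  · show (g - 1) ^ (2 * m) = 0
    have hblock : ∀ k, ∃ X, (g - 1) ^ k = Matrix.fromBlocks (N ^ k) X 0 ((B - 1) ^ k) := fun k => by
      induction k with
      | zero => exact ⟨0, by rw [pow_zero, pow_zero, pow_zero, Matrix.fromBlocks_one]⟩
      | succ k ih =>
        obtain ⟨X, hX⟩ := ih
        refine ⟨N ^ k * ((1 + N) * S) + X * (B - 1), ?_⟩
        rw [pow_succ, hX, hg1, Matrix.fromBlocks_multiply, pow_succ, pow_succ]
        simp only [Matrix.mul_zero, Matrix.zero_mul, add_zero, zero_add]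
    obtain ⟨X, hX⟩ := hblock m
    rw [two_mul, pow_add, hX, hnil, hBnil, Matrix.fromBlocks_multiply]
    simp only [Matrix.mul_zero, Matrix.zero_mul, add_zero, zero_add, Matrix.fromBlocks_zero]
  · show (g - 1).rank = 2 * m - 1
    let z : Fin m := ⟨0, hm⟩
    have hNv : ∀ (v : Fin m → F) (i : Fin m), (N *ᵥ v) i = if h : (i : ℕ) + 1 < m then v ⟨(i : ℕ) + 1, h⟩ else 0 := by
      intro v i
      simp only [hN, Matrix.mulVec, dotProduct, Matrix.of_apply, ite_mul, one_mul, zero_mul]
      by_cases h : (i : ℕ) + 1 < m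
      · rw [dif_pos h, Finset.sum_eq_single ⟨(i : ℕ) + 1, h⟩ (fun b _ hb => if_neg fun e => hb (Fin.ext e.symm)) (by simp),
          if_pos rfl]
      · rw [dif_neg h]
        exact Finset.sum_eq_zero fun b _ => if_neg (by omega)
    have hker : LinearMap.ker (g - 1).mulVecLin = Submodule.span F {(Pi.single (Sum.inl z) 1 : Idx → F)} := by
      refine le_antisymm (fun x hx => ?_) ?_
      · rw [LinearMap.mem_ker, Matrix.mulVecLin_apply, hg1, Matrix.fromBlocks_mulVec] at hx
        have hx1 := congrFun hx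
        obtain ⟨v, hv⟩ : ∃ v, v = x ∘ Sum.inl := ⟨_, rfl⟩
        obtain ⟨w, hw⟩ : ∃ w, w = x ∘ Sum.inr := ⟨_, rfl⟩
        rw [← hv, ← hw, Matrix.zero_mulVec, zero_add] at hx1
        have hw2 : Nᵀ *ᵥ w = 0 := by
          have h3 : (B - 1) *ᵥ w = 0 := funext fun i => hx1 (Sum.inr i)
          have h4 := congrArg (fun y => (1 + N)ᵀ *ᵥ y) h3
          rw [Matrix.mulVec_mulVec, mul_sub, hB, mul_one, Matrix.mulVec_zero, Matrix.transpose_add,
            Matrix.transpose_one] at h4
          rw [show (1 : Matrix (Fin m) (Fin m) F) - (1 + Nᵀ) = -Nᵀ by abel, Matrix.neg_mulVec, neg_eq_zero] at h4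
          exact h4
        have hwlow : ∀ i : Fin m, (i : ℕ) + 1 < m → w i = 0 := fun i h => by
          have h5 := congrFun hw2 ⟨(i : ℕ) + 1, h⟩
          simp only [hN, Matrix.mulVec, dotProduct, Matrix.transpose_apply, Matrix.of_apply, ite_mul, one_mul, zero_mul,
            Pi.zero_apply] at h5
          rwa [Finset.sum_eq_single i (fun b _ hb => if_neg fun e => hb (Fin.ext (Nat.succ_injective e))) (by simp),
            if_pos rfl] at h5
        have hSw : S *ᵥ w = w := funext fun i => by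
          rw [hS, Matrix.mulVec_diagonal]
          by_cases h : i = ⟨m - 1, by omega⟩
          · rw [h, Pi.single_eq_same, one_mul]
          · rw [Pi.single_eq_of_ne h, zero_mul, hwlow i]
            have hne : (i : ℕ) ≠ m - 1 := fun e => h (Fin.ext e)
            have := i.isLt
            omega
        have h1 : ∀ i, (N *ᵥ v) i + (w i + (N *ᵥ w) i) = 0 := fun i => by
          have := hx1 (Sum.inl i)
          rwa [Sum.elim_inl, ← Matrix.mulVec_mulVec, hSw, Matrix.add_mulVec, Matrix.one_mulVec] at this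
        have hw0 : w = 0 := funext fun i => by
          by_cases h : (i : ℕ) + 1 < m
          · exact hwlow i h
          · have := h1 i
            rw [hNv, hNv, dif_neg h, dif_neg h, zero_add, add_zero] at this
            exact this
        refine Submodule.mem_span_singleton.2 ⟨v z, funext fun i => ?_⟩
        rcases i with i | i
        · rcases Nat.eq_zero_or_pos (i : ℕ) with h | h
          · obtain rfl : i = z := Fin.ext h
            simp [hv]
          · have := h1 ⟨(i : ℕ) - 1, by omega⟩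
            rw [hw0, Matrix.mulVec_zero, Pi.zero_apply, zero_add, add_zero, hNv, dif_pos (show (i : ℕ) - 1 + 1 < m by omega)] at this
            have e : (⟨(i : ℕ) - 1 + 1, by omega⟩ : Fin m) = i := Fin.ext (show (i : ℕ) - 1 + 1 = i by omega)
            rw [e, hv] at this
            have hne : (Sum.inl i : Idx) ≠ Sum.inl z := fun e' => by
              have := congrArg Fin.val (Sum.inl.inj e'); simp [z] at this; omega
            simp only [Pi.smul_apply, Pi.single_eq_of_ne hne, smul_zero]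
            exact this.symm
        · have := congrFun hw0 i
          rw [hw] at this
          simp only [Pi.smul_apply, Pi.single_eq_of_ne Sum.inr_ne_inl, smul_zero]
          exact this.symm
      · rw [Submodule.span_le, Set.singleton_subset_iff, SetLike.mem_coe, LinearMap.mem_ker, Matrix.mulVecLin_apply,
          Matrix.mulVec_single_one]
        funext i
        rcases i with i | i <;> simp [hg1, hN, z]
    have := LinearMap.finrank_range_add_finrank_ker (g - 1).mulVecLin
    rw [hker, finrank_span_singleton (by simp), Module.finrank_pi, Fintype.card_sum, Fintype.card_fin] at this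
    show finrank F (LinearMap.range (g - 1).mulVecLin) = 2 * m - 1
    omega

variable [Fintype F]

theorem card_classes {q : ℕ} (hF : Fintype.card F = q) (hq : Odd q) (hm : 1 ≤ m) :
    Nat.card {C : ConjClasses ↥(Matrix.symplecticGroup (Fin m) F) // ∃ u : Matrix.symplecticGroup (Fin m) F,
      ConjClasses.mk u = C ∧ ((u : Matrix Idx Idx F) - 1) ^ (2 * m) = 0 ∧ ((u : Matrix Idx Idx F) - 1).rank = 2 * m - 1} = 2 := by
  classical
  haveI : Nonempty (Fin m ⊕ Fin m) := ⟨Sum.inl ⟨0, hm⟩⟩
  obtain ⟨p, hchar⟩ := CharP.exists F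
  obtain ⟨k, hp, hk⟩ := FiniteField.card F p
  have hpodd : Odd p := by
    rw [hF] at hk; rw [hk] at hq
    exact (Nat.odd_pow_iff k.ne_zero).1 hq
  haveI := Fact.mk hp
  have hF2 : ringChar F ≠ 2 := by
    rw [ringChar.eq F p]; rintro rfl; exact Nat.not_even_iff_odd.2 hpodd even_two
  obtain ⟨t, ht⟩ := FiniteField.exists_nonsquare hF2
  have ht0 : t ≠ 0 := fun h => ht (h ▸ ⟨0, by rw [mul_zero]⟩)
  obtain ⟨u0, h01, h02⟩ := exists_regular (F := F) hm
  obtain ⟨A, hA⟩ : ∃ A : Matrix Idx Idx F, A = u0 := ⟨_, rfl⟩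
  rw [← hA] at h01 h02
  have hAS : tau A * A = 1 := hA ▸ tau_mem u0.2
  have hAS' : A * tau A = 1 := mul_eq_one_comm.1 hAS
  obtain ⟨hind, hspan⟩ := SpRegularCent.powers hm h01 h02
  -- scalar part of an element of the commutant
  have hdec : ∀ g : Matrix Idx Idx F, g * A = A * g → ∃ c : F, IsNilpotent (g - c • 1) := by
    intro g hg
    obtain ⟨a, ha⟩ := hspan g (by rw [mul_sub, sub_mul, hg, mul_one, one_mul])
    refine ⟨a ⟨0, by omega⟩, ?_⟩
    rw [ha, ← Finset.add_sum_erase _ _ (Finset.mem_univ (⟨0, by omega⟩ : Fin (m + m))), pow_zero, add_sub_cancel_left]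
    rw [show (∑ i ∈ Finset.univ.erase (⟨0, by omega⟩ : Fin (m + m)), a i • (A - 1) ^ (i : ℕ)) =
      (A - 1) * ∑ i ∈ Finset.univ.erase (⟨0, by omega⟩ : Fin (m + m)), a i • (A - 1) ^ ((i : ℕ) - 1) by
      rw [Finset.mul_sum]
      refine Finset.sum_congr rfl fun i hi => ?_
      have : (i : ℕ) ≠ 0 := fun h => (Finset.ne_of_mem_erase hi) (Fin.ext h)
      rw [mul_smul_comm, ← pow_succ', Nat.sub_add_cancel (by omega)]]
    exact Commute.isNilpotent_mul_right
      (Commute.sum_right _ _ _ fun j _ => ((Commute.refl (A - 1)).pow_right _).smul_right _) ⟨_, h01⟩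
  have hτpow : ∀ (X : Matrix Idx Idx F) l, tau X ^ l = tau (X ^ l) := fun X l => by
    induction l with
    | zero => rw [pow_zero, pow_zero, tau_one]
    | succ l ih => rw [pow_succ, ih, ← tau_mul, ← pow_succ']
  have hcommτ : ∀ g : Matrix Idx Idx F, g * A = A * g → tau g * A = A * tau g := by
    intro g hg
    have h1 : tau A * tau g = tau g * tau A := by rw [← tau_mul, hg, tau_mul]
    calc tau g * A = A * (tau A * tau g) * A := by rw [← mul_assoc A, hAS', one_mul]
      _ = A * tau g * (tau A * A) := by rw [h1]; simp only [mul_assoc]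
      _ = A * tau g := by rw [hAS, mul_one]
  have hcomm2 : ∀ g g' : Matrix Idx Idx F, g * A = A * g → g' * A = A * g' → Commute g g' := by
    intro g g' hg hg'
    obtain ⟨a, ha⟩ := hspan g (by rw [mul_sub, sub_mul, hg, mul_one, one_mul])
    rw [ha]
    exact Commute.sum_left _ _ _ fun i _ => (Commute.pow_left (show Commute (A - 1) g' from
      (Commute.sub_left hg'.symm (Commute.one_left _))) _).smul_left _
  obtain ⟨Dd, hDd⟩ : ∃ Dd : F → Matrix Idx Idx F, ∀ s, Dd s = Matrix.fromBlocks (s • 1) 0 0 1 := ⟨_, fun _ => rfl⟩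
  have hDmul : ∀ s s', Dd s * Dd s' = Dd (s * s') := fun s s' => by
    rw [hDd, hDd, hDd, Matrix.fromBlocks_multiply]; simp [smul_smul, mul_comm]
  have hD1 : Dd 1 = 1 := by rw [hDd, one_smul, Matrix.fromBlocks_one]
  have hDτ : ∀ s, tau (Dd s) * Dd s = s • 1 := fun s => by
    rw [hDd, tau, Matrix.fromBlocks_transpose, Matrix.J, Matrix.fromBlocks_multiply, Matrix.fromBlocks_multiply,
      Matrix.fromBlocks_neg, Matrix.fromBlocks_multiply, ← Matrix.fromBlocks_one, Matrix.fromBlocks_smul]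
    simp
  let D : Fˣ → GL Idx F := fun s => ⟨Dd (s : F), Dd ((s⁻¹ : Fˣ) : F),
    by rw [hDmul, Units.mul_inv, hD1], by rw [hDmul, Units.inv_mul, hD1]⟩
  have hDv : ∀ s, (D s : Matrix Idx Idx F) = Dd (s : F) := fun _ => rfl
  -- the two representatives
  obtain ⟨T, hT⟩ : ∃ T : Fˣ, (T : F) = t := ⟨Units.mk0 t ht0, rfl⟩
  let cjM : Fˣ → Matrix Idx Idx F := fun s => (D s : Matrix Idx Idx F) * A * (((D s)⁻¹ : GL Idx F) : Matrix Idx Idx F)
  have hcj : ∀ s, cjM s ∈ Matrix.symplecticGroup (Fin m) F := by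
    intro s
    refine mem_of_tau ?_
    have h1 : tau (D s : Matrix Idx Idx F) * (D s : Matrix Idx Idx F) = (s : F) • 1 := by rw [hDv, hDτ]
    have h2 : tau (((D s)⁻¹ : GL Idx F) : Matrix Idx Idx F) * tau (D s : Matrix Idx Idx F) = 1 := by
      rw [← tau_mul, Units.mul_inv, tau_one]
    show tau ((D s : Matrix Idx Idx F) * A * (((D s)⁻¹ : GL Idx F) : Matrix Idx Idx F)) * ((D s : Matrix Idx Idx F) * A * (((D s)⁻¹ : GL Idx F) : Matrix Idx Idx F)) = 1
    rw [tau_mul, tau_mul]
    calc _ = tau (((D s)⁻¹ : GL Idx F) : Matrix Idx Idx F) * tau A * (tau (D s : Matrix Idx Idx F) * (D s : Matrix Idx Idx F)) *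
          A * (((D s)⁻¹ : GL Idx F) : Matrix Idx Idx F) := by simp only [mul_assoc]
      _ = (s : F) • (tau (((D s)⁻¹ : GL Idx F) : Matrix Idx Idx F) * ((D s)⁻¹ : GL Idx F)) := by
        rw [h1, Matrix.mul_smul, mul_one, Matrix.smul_mul, Matrix.smul_mul, mul_assoc (tau _) (tau A), hAS, mul_one]
      _ = 1 := by
        have h4 : tau (((D s)⁻¹ : GL Idx F) : Matrix Idx Idx F) * (((D s)⁻¹ : GL Idx F) : Matrix Idx Idx F) = ((s⁻¹ : Fˣ) : F) • 1 :=
          hDτ ((s⁻¹ : Fˣ) : F)
        rw [h4, smul_smul, Units.mul_inv, one_smul]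
  have hreg : ∀ s, (cjM s - 1) ^ (2 * m) = 0 ∧ (cjM s - 1).rank = 2 * m - 1 := by
    intro s
    have e : cjM s - 1 = (D s : Matrix Idx Idx F) * (A - 1) * (((D s)⁻¹ : GL Idx F) : Matrix Idx Idx F) := by
      rw [mul_sub, mul_one, sub_mul, Units.mul_inv]
    rw [e]
    refine ⟨?_, ?_⟩
    · rw [Units.conj_pow, h01, mul_zero, zero_mul]
    · rw [Matrix.rank_mul_eq_left_of_isUnit_det _ _ ((Matrix.isUnit_iff_isUnit_det _).1 (Units.isUnit _)),
        Matrix.rank_mul_eq_right_of_isUnit_det _ _ ((Matrix.isUnit_iff_isUnit_det _).1 (Units.isUnit _)), h02]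
  let rep : Bool → {C : ConjClasses ↥(Matrix.symplecticGroup (Fin m) F) // ∃ u : Matrix.symplecticGroup (Fin m) F,
      ConjClasses.mk u = C ∧ ((u : Matrix Idx Idx F) - 1) ^ (2 * m) = 0 ∧ ((u : Matrix Idx Idx F) - 1).rank = 2 * m - 1} :=
    fun b => ⟨ConjClasses.mk ⟨cjM (if b then T else 1), hcj _⟩, _, rfl, hreg _⟩
  have hD1' : D 1 = 1 := Units.ext (by rw [hDv, Units.val_one, hD1, Units.val_one])
  have hdistinct : ¬ IsConj (⟨cjM 1, hcj 1⟩ : Matrix.symplecticGroup (Fin m) F) ⟨cjM T, hcj T⟩ := by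
    intro hcon
    obtain ⟨y, hy⟩ := isConj_iff.1 hcon
    rw [mul_inv_eq_iff_eq_mul] at hy
    have hy' : (y : Matrix Idx Idx F) * A = (D T : Matrix Idx Idx F) * A * (((D T)⁻¹ : GL Idx F) : Matrix Idx Idx F) * y := by
      have := congrArg Subtype.val hy
      simp only [Submonoid.coe_mul, cjM, hD1', Units.val_one, inv_one, one_mul, mul_one] at this
      exact this
    obtain ⟨r, hr⟩ : ∃ r, r = ((D T)⁻¹ : GL Idx F).1 * (y : Matrix Idx Idx F) := ⟨_, rfl⟩
    have hrA : r * A = A * r := by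
      rw [hr, mul_assoc, hy', ← mul_assoc, ← mul_assoc, ← mul_assoc, Units.inv_mul, one_mul, mul_assoc]
    have hrr : tau r * r = ((T⁻¹ : Fˣ) : F) • 1 := by
      rw [hr, tau_mul, mul_assoc, ← mul_assoc (tau ((D T)⁻¹ : GL Idx F).1), show tau ((D T)⁻¹ : GL Idx F).1 *
        ((D T)⁻¹ : GL Idx F).1 = ((T⁻¹ : Fˣ) : F) • 1 from hDτ _, Matrix.smul_mul, one_mul, Matrix.mul_smul, tau_mem y.2]
    obtain ⟨c, hc⟩ := hdec r hrA
    obtain ⟨M, hM⟩ : ∃ M, M = r - c • 1 := ⟨_, rfl⟩
    rw [← hM] at hc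
    have hτM : IsNilpotent (tau M) := by
      obtain ⟨j, hj⟩ := hc
      exact ⟨j, by rw [hτpow, hj, tau_zero]⟩
    have hMA : M * A = A * M := by
      rw [hM, sub_mul, mul_sub, hrA, Matrix.smul_mul, Matrix.mul_smul, one_mul, mul_one]
    have hcm : Commute M (tau M) := hcomm2 _ _ hMA (hcommτ M hMA)
    rw [show r = c • 1 + M by rw [hM, add_sub_cancel], tau_add, tau_smul, tau_one, add_mul, mul_add, mul_add] at hrr
    simp only [Matrix.smul_mul, Matrix.mul_smul, one_mul, mul_one, smul_smul] at hrr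
    have hn1 : IsNilpotent ((c * c - ((T⁻¹ : Fˣ) : F)) • (1 : Matrix Idx Idx F)) := by
      have e : (c * c - ((T⁻¹ : Fˣ) : F)) • (1 : Matrix Idx Idx F) = -(c • M + (c • tau M + tau M * M)) := by
        rw [sub_smul]
        linear_combination (norm := abel) hrr
      rw [e]
      refine IsNilpotent.neg (Commute.isNilpotent_add ?_ (hc.smul c) (Commute.isNilpotent_add ?_ (hτM.smul c)
        (hcm.symm.isNilpotent_mul_left hc)))
      · exact ((hcm.smul_right _).add_right (hcm.mul_right (Commute.refl M))).smul_left _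
      · exact (((Commute.refl (tau M)).mul_right hcm.symm)).smul_left _
    rw [← Algebra.algebraMap_eq_smul_one, IsNilpotent.map_iff (algebraMap F (Matrix Idx Idx F)).injective,
      isNilpotent_iff_eq_zero, sub_eq_zero] at hn1
    refine ht ⟨c⁻¹, ?_⟩
    rw [← mul_inv, hn1, ← hT, Units.val_inv_eq_inv_val, inv_inv]
  have hbij : Function.Bijective rep := by
    constructor
    · intro b b' h
      have h' := ConjClasses.mk_eq_mk_iff_isConj.1 (congrArg Subtype.val h)
      cases b <;> cases b'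
      · rfl
      · exact absurd h' hdistinct
      · exact absurd h'.symm hdistinct
      · rfl
    · rintro ⟨-, u, rfl, h1, h2⟩
      -- conjugate in GL
      let E := Matrix.reindexAlgEquiv F F (finSumFinEquiv (m := m) (n := m))
      let φ : Matrix.symplecticGroup (Fin m) F →* GL (Fin (m + m)) F :=
        (E.toMonoidHom.comp (Matrix.symplecticGroup (Fin m) F).subtype).toHomUnits
      have hreg' : ∀ v : Matrix.symplecticGroup (Fin m) F, ((v : Matrix Idx Idx F) - 1) ^ (2 * m) = 0 →
          ((v : Matrix Idx Idx F) - 1).rank = 2 * m - 1 →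
          ((φ v : Matrix (Fin (m + m)) (Fin (m + m)) F) - 1) ^ (m + m) = 0 ∧
            ((φ v : Matrix (Fin (m + m)) (Fin (m + m)) F) - 1).rank = m + m - 1 := by
        intro v h1 h2
        have e : (φ v : Matrix (Fin (m + m)) (Fin (m + m)) F) - 1 = E ((v : Matrix Idx Idx F) - 1) := by
          rw [map_sub, map_one]; rfl
        rw [e]
        refine ⟨by rw [← map_pow, pow_eq_zero_of_le (by omega) h1, map_zero], ?_⟩
        rw [Matrix.coe_reindexAlgEquiv, Matrix.rank_reindex, h2]
        omega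
      obtain ⟨a1, a2⟩ := hreg' u0 (hA ▸ h01) (hA ▸ h02)
      obtain ⟨b1, b2⟩ := hreg' u h1 h2
      obtain ⟨x0, hx0⟩ := CfsgLib.MiscRegularClasses.exists_conj (by omega) a1 a2 b1 b2
      let x : GL Idx F := Units.map E.symm.toMonoidHom x0
      have hxA : (x : Matrix Idx Idx F) * A = (u : Matrix Idx Idx F) * x := by
        rw [mul_inv_eq_iff_eq_mul] at hx0
        have h3 := congrArg (fun z : GL (Fin (m + m)) F => E.symm (z : Matrix (Fin (m + m)) (Fin (m + m)) F)) hx0
        simp only [Units.val_mul, map_mul] at h3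
        rw [show E.symm ((φ u0 : GL (Fin (m + m)) F) : Matrix (Fin (m + m)) (Fin (m + m)) F) = A from
          (E.symm_apply_apply _).trans hA.symm, show E.symm ((φ u : GL (Fin (m + m)) F) : Matrix (Fin (m + m)) (Fin (m + m)) F) = u from
          E.symm_apply_apply _] at h3
        exact h3
      obtain ⟨a, ha⟩ : ∃ a, a = tau (x : Matrix Idx Idx F) * x := ⟨_, rfl⟩
      have huS := tau_mem u.2
      have haA : a * A = A * a := by
        have h4 : tau A * tau (x : Matrix Idx Idx F) = tau (x : Matrix Idx Idx F) * tau (u : Matrix Idx Idx F) := by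
          rw [← tau_mul, hxA, tau_mul]
        calc a * A = 1 * (tau (x : Matrix Idx Idx F) * (x * A)) := by rw [one_mul, ha, mul_assoc]
          _ = A * (tau A * tau (x : Matrix Idx Idx F)) * ((u : Matrix Idx Idx F) * x) := by
            rw [← hAS', hxA]; simp only [mul_assoc]
          _ = A * (tau (x : Matrix Idx Idx F) * (tau (u : Matrix Idx Idx F) * u) * x) := by
            rw [h4]; simp only [mul_assoc]
          _ = A * a := by rw [huS, mul_one, ha]
      have haS : tau a = a := by rw [ha, tau_mul, tau_tau]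
      obtain ⟨c, hc⟩ := hdec a haA
      have hau : IsUnit a := by
        rw [ha]
        refine IsUnit.mul ?_ x.isUnit
        exact IsUnit.of_mul_eq_one (tau ((x⁻¹ : GL Idx F) : Matrix Idx Idx F)) (by
          rw [← tau_mul, ← Units.val_mul, inv_mul_cancel, Units.val_one, tau_one])
      have hc0 : c ≠ 0 := by
        rintro rfl
        rw [zero_smul, sub_zero] at hc
        exact not_isUnit_zero (M₀ := Matrix Idx Idx F) (by obtain ⟨j, hj⟩ := hc; exact hj ▸ hau.pow j)
      obtain ⟨b, s, hs, hs0⟩ : ∃ (b : Bool) (s : F), c = ((if b then T else 1 : Fˣ) : F) * (s * s) ∧ s ≠ 0 := by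
        by_cases hsq : IsSquare c
        · obtain ⟨s, hs⟩ := hsq
          exact ⟨false, s, by simp [hs], fun h => hc0 (by rw [hs, h, mul_zero])⟩
        · obtain ⟨s, hs⟩ : IsSquare (c / t) := by
            have h5 := FiniteField.pow_dichotomy hF2 hc0
            have h6 := FiniteField.pow_dichotomy hF2 ht0
            rw [FiniteField.isSquare_iff hF2 (div_ne_zero hc0 ht0), div_pow]
            rw [FiniteField.isSquare_iff hF2 hc0] at hsq
            rw [FiniteField.isSquare_iff hF2 ht0] at ht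
            rw [h5.resolve_left hsq, h6.resolve_left ht, neg_div_neg_eq, one_div_one]
          refine ⟨true, s, ?_, fun h => ?_⟩
          · simp only [if_true, hT, ← hs, mul_div_cancel₀ c ht0]
          · rw [h, mul_zero, div_eq_zero_iff] at hs; exact hs.elim hc0 ht0
      obtain ⟨e, hed⟩ : ∃ e : Fˣ, e = if b then T else 1 := ⟨_, rfl⟩
      rw [← hed] at hs
      obtain ⟨U, hU⟩ : ∃ U, U = c⁻¹ • a := ⟨_, rfl⟩
      have hU1 : IsNilpotent (U - 1) := by
        rw [show U - 1 = c⁻¹ • (a - c • 1) by rw [hU, smul_sub, smul_smul, inv_mul_cancel₀ hc0, one_smul]]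
        exact hc.smul _
      obtain ⟨j, hj⟩ := hU1
      haveI : CharP (Matrix Idx Idx F) p := Matrix.charP p
      have hUp : U ^ (p ^ j) = 1 := by
        have h7 := pow_eq_zero_of_le (Nat.lt_pow_self (n := j) hp.one_lt).le hj
        rwa [sub_pow_char_pow_of_commute p j (Commute.one_right U), one_pow, sub_eq_zero] at h7
      obtain ⟨l, hl⟩ : Odd (p ^ j) := hpodd.pow
      obtain ⟨r, hr⟩ : ∃ r, r = s • U ^ (l + 1) := ⟨_, rfl⟩
      have hUA : U * A = A * U := by rw [hU, Matrix.smul_mul, Matrix.mul_smul, haA]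
      have hrA : r * A = A * r := by
        rw [hr, Matrix.smul_mul, Matrix.mul_smul, ((show Commute U A from hUA).pow_left _).eq]
      have hrr : tau r * r = ((e⁻¹ : Fˣ) : F) • a := by
        have hUτ : tau (U ^ (l + 1)) = U ^ (l + 1) := by rw [← hτpow, hU, tau_smul, haS]
        rw [hr, tau_smul, hUτ, Matrix.smul_mul, Matrix.mul_smul, smul_smul, ← pow_add,
          show l + 1 + (l + 1) = (2 * l + 1) + 1 by ring, ← hl, pow_succ, hUp, one_mul, hU, smul_smul]
        congr 1
        rw [hs, Units.val_inv_eq_inv_val]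
        field_simp
      have hru : IsUnit r := by
        have hUu : IsUnit U := IsUnit.of_pow_eq_one hUp (pow_ne_zero _ hp.ne_zero)
        rw [hr, Algebra.smul_def]
        exact ((isUnit_iff_ne_zero.2 hs0).map _).mul (hUu.pow _)
      obtain ⟨R, hR⟩ := hru
      obtain ⟨y, hy⟩ : ∃ y : GL Idx F, y = x * R⁻¹ * (D e)⁻¹ := ⟨_, rfl⟩
      have hyS : tau (y : Matrix Idx Idx F) * y = 1 := by
        have h1 : tau (((R⁻¹ : GL Idx F)) : Matrix Idx Idx F) * a * ((R⁻¹ : GL Idx F) : Matrix Idx Idx F) = (e : F) • 1 := by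
          have : a = (e : F) • (tau (R : Matrix Idx Idx F) * R) := by
            rw [hR, hrr, smul_smul, Units.mul_inv, one_smul]
          rw [this, Matrix.mul_smul, Matrix.smul_mul, ← mul_assoc, ← tau_mul, Units.mul_inv, tau_one, one_mul, Units.mul_inv]
        rw [hy, Units.val_mul, Units.val_mul, tau_mul, tau_mul]
        calc _ = tau (((D e)⁻¹ : GL Idx F) : Matrix Idx Idx F) * (tau (((R⁻¹ : GL Idx F)) : Matrix Idx Idx F) *
              (tau (x : Matrix Idx Idx F) * x) * ((R⁻¹ : GL Idx F) : Matrix Idx Idx F)) * (((D e)⁻¹ : GL Idx F) : Matrix Idx Idx F) := by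
              simp only [mul_assoc]
          _ = 1 := by
              rw [← ha, h1, Matrix.mul_smul, mul_one, Matrix.smul_mul,
                show tau (((D e)⁻¹ : GL Idx F) : Matrix Idx Idx F) * (((D e)⁻¹ : GL Idx F) : Matrix Idx Idx F) = ((e⁻¹ : Fˣ) : F) • 1 from hDτ _,
                smul_smul, Units.mul_inv, one_smul]
      refine ⟨b, Subtype.ext (ConjClasses.mk_eq_mk_iff_isConj.2 (isConj_iff.2 ⟨⟨(y : Matrix Idx Idx F), mem_of_tau hyS⟩, ?_⟩))⟩
      rw [mul_inv_eq_iff_eq_mul]
      refine Subtype.ext ?_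
      show (y : Matrix Idx Idx F) * cjM (if b then T else 1) = (u : Matrix Idx Idx F) * y
      rw [← hed, hy, Units.val_mul, Units.val_mul]
      have hRA : ((R⁻¹ : GL Idx F) : Matrix Idx Idx F) * A = A * ((R⁻¹ : GL Idx F) : Matrix Idx Idx F) :=
        Commute.units_inv_left (show Commute (R : Matrix Idx Idx F) A by rw [hR]; exact hrA)
      calc _ = (x : Matrix Idx Idx F) * ((R⁻¹ : GL Idx F) : Matrix Idx Idx F) * ((((D e)⁻¹ : GL Idx F) : Matrix Idx Idx F) *
            (D e : Matrix Idx Idx F)) * A * (((D e)⁻¹ : GL Idx F) : Matrix Idx Idx F) := by simp only [cjM, mul_assoc]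
        _ = (x : Matrix Idx Idx F) * A * ((R⁻¹ : GL Idx F) : Matrix Idx Idx F) * (((D e)⁻¹ : GL Idx F) : Matrix Idx Idx F) := by
            rw [Units.inv_mul, mul_one, mul_assoc (x : Matrix Idx Idx F), hRA, ← mul_assoc (x : Matrix Idx Idx F)]
        _ = _ := by rw [hxA]; simp only [mul_assoc]
  rw [← Nat.card_eq_of_bijective rep hbij]
  simp

end CfsgLib.Lie.SpRegularClasses
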