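import Cfsg.Agent.Misc.Semisimple
import Cfsg.Agent.Lie.UnitaryConj
import Cfsg.Agent.Lie.OrthBasis
import Mathlib.LinearAlgebra.SymplecticGroup

/-!
Conjugacy of semisimple elements of the symplectic group is controlled by the general linear group.
-/

set_option autoImplicit false
set_option linter.unusedSectionVars false
set_option linter.unusedSimpArgs false
set_option linter.style.haveILetI false

namespace CfsgLib.Lie.SpSemiConj

open Matrix Module

variable {K : Type*} [Field K] {m : ℕ}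

local notation "Idx" => (Fin m ⊕ Fin m)
local notation "JJ" => (Matrix.J (Fin m) K)

/-- the adjoint for the symplectic form -/
def tau (X : Matrix Idx Idx K) : Matrix Idx Idx K := -(JJ * Xᵀ * JJ)

theorem JJ_mul : JJ * JJ = -1 := Matrix.J_squared _ _

theorem tau_mul (X Y : Matrix Idx Idx K) : tau (X * Y) = tau Y * tau X := by
  rw [tau, tau, tau, neg_mul_neg, Matrix.transpose_mul]
  simp only [mul_assoc, ← mul_assoc JJ JJ, JJ_mul, neg_one_mul, mul_neg]

theorem tau_tau (X : Matrix Idx Idx K) : tau (tau X) = X := by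
  rw [tau, tau, Matrix.transpose_neg, Matrix.transpose_mul, Matrix.transpose_mul, Matrix.transpose_transpose,
    Matrix.J_transpose]
  simp only [mul_neg, neg_mul, neg_neg, mul_assoc, JJ_mul, mul_one]
  rw [← mul_assoc, JJ_mul, neg_one_mul, neg_neg]

theorem tau_one : tau (1 : Matrix Idx Idx K) = 1 := by
  rw [tau, Matrix.transpose_one, mul_one, JJ_mul, neg_neg]

theorem tau_add (X Y : Matrix Idx Idx K) : tau (X + Y) = tau X + tau Y := by
  rw [tau, tau, tau, Matrix.transpose_add, mul_add, add_mul]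
  abel

theorem tau_zero : tau (0 : Matrix Idx Idx K) = 0 := by
  rw [tau, Matrix.transpose_zero, mul_zero, zero_mul, neg_zero]

theorem tau_smul (c : K) (X : Matrix Idx Idx K) : tau (c • X) = c • tau X := by
  rw [tau, tau, Matrix.transpose_smul, Matrix.mul_smul, Matrix.smul_mul, smul_neg]

theorem tau_algebraMap (c : K) : tau (algebraMap K (Matrix Idx Idx K) c) = algebraMap K _ c := by
  rw [Algebra.algebraMap_eq_smul_one, tau_smul, tau_one]

theorem J_tau (X : Matrix Idx Idx K) : JJ * tau X = Xᵀ * JJ := by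
  rw [tau, mul_neg, ← mul_assoc, ← mul_assoc, JJ_mul, neg_one_mul, neg_mul, neg_neg]

theorem tau_mem {A : Matrix Idx Idx K} (h : A ∈ Matrix.symplecticGroup (Fin m) K) : tau A * A = 1 := by
  rw [tau, neg_mul]
  exact SymplecticGroup.inv_left_mul_aux h

theorem mem_of_tau {A : Matrix Idx Idx K} (h : tau A * A = 1) : A ∈ Matrix.symplecticGroup (Fin m) K := by
  rw [SymplecticGroup.mem_iff', ← J_tau, mul_assoc, h, mul_one]

theorem J_alt (u : Idx → K) : u ⬝ᵥ (JJ *ᵥ u) = 0 := by
  rw [Matrix.J, Matrix.fromBlocks_mulVec]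
  simp [dotProduct, Fintype.sum_sum_type, Matrix.neg_mulVec, Finset.sum_neg_distrib, mul_comm]

theorem exists_basis {f M : Matrix Idx Idx K} (hf : f * f = f) (hfM : fᵀ * M = M * f) (hM : IsUnit M)
    (halt : ∀ u, u ⬝ᵥ (M *ᵥ u) = 0) :
    ∃ (k : ℕ) (b : Basis ((Fin k ⊕ Fin k) ⊕ Fin 0) K (LinearMap.range f.mulVecLin)),
      (∀ i j : Fin k, (b (.inl (.inl i)) : Idx → K) ⬝ᵥ (M *ᵥ (b (.inl (.inr j)) : Idx → K)) = if i = j then 1 else 0) ∧
      (∀ i j : Fin k, (b (.inl (.inl i)) : Idx → K) ⬝ᵥ (M *ᵥ (b (.inl (.inl j)) : Idx → K)) = 0) ∧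
      (∀ i j : Fin k, (b (.inl (.inr i)) : Idx → K) ⬝ᵥ (M *ᵥ (b (.inl (.inr j)) : Idx → K)) = 0) := by
  classical
  let W := LinearMap.range f.mulVecLin
  let B : LinearMap.BilinForm K W := LinearMap.mk₂ K (fun u v => (u : Idx → K) ⬝ᵥ (M *ᵥ (v : Idx → K)))
    (fun a b v => by simp [add_dotProduct]) (fun c u v => by simp [smul_dotProduct])
    (fun u a b => by simp [Matrix.mulVec_add, dotProduct_add]) (fun c u v => by simp [Matrix.mulVec_smul, dotProduct_smul])
  obtain ⟨k, r, b, h1, h2, h3, h4⟩ := OrthBasis.exists_symplectic B (fun v => halt v)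
  have hr : r = 0 := by
    by_contra hr
    have hj : 0 < r := Nat.pos_of_ne_zero hr
    apply b.ne_zero (Sum.inr ⟨0, hj⟩)
    obtain ⟨w, hwd⟩ : ∃ w : Idx → K, w = (b (Sum.inr ⟨0, hj⟩) : Idx → K) := ⟨_, rfl⟩
    have hfix : f *ᵥ w = w := by
      obtain ⟨u, hu⟩ := (b (Sum.inr ⟨0, hj⟩)).2
      rw [hwd, ← hu, Matrix.mulVecLin_apply, Matrix.mulVec_mulVec, hf]
    have hw : w ᵥ* M = 0 := funext fun i => by
      have h := h4 ⟨0, hj⟩ ⟨f *ᵥ Pi.single i 1, ⟨_, rfl⟩⟩
      change (b (Sum.inr ⟨0, hj⟩) : Idx → K) ⬝ᵥ (M *ᵥ (f *ᵥ Pi.single i 1)) = 0 at h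
      rw [← hwd, Matrix.mulVec_mulVec, ← hfM, ← Matrix.mulVec_mulVec, Matrix.dotProduct_mulVec,
        Matrix.vecMul_transpose, hfix, Matrix.dotProduct_mulVec, dotProduct_single_one] at h
      exact h
    obtain ⟨u, rfl⟩ := hM
    have := congrArg (fun z => z ᵥ* ((u⁻¹ : (Matrix Idx Idx K)ˣ) : Matrix Idx Idx K)) hw
    simp only [Matrix.vecMul_vecMul, u.mul_inv, Matrix.vecMul_one, Matrix.zero_vecMul] at this
    exact Subtype.ext (hwd.symm.trans this)
  subst hr
  exact ⟨k, b, h1, h2, h3⟩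

theorem piece {f : Matrix Idx Idx K} (hf : f * f = f) (hτ : tau f = f) (x : GL Idx K)
    (hc : tau (x : Matrix Idx Idx K) * x * f = f * (tau (x : Matrix Idx Idx K) * x)) :
    ∃ y : Matrix Idx Idx K, y * f = f * y ∧ f * (tau y * y) = f * (tau (x : Matrix Idx Idx K) * x) := by
  classical
  have hfJ : fᵀ * JJ = JJ * f := by rw [← J_tau, hτ]
  have hJ : IsUnit (JJ : Matrix Idx Idx K) := (Matrix.isUnit_iff_isUnit_det _).2 (Matrix.isUnit_det_J _ _)
  obtain ⟨a, ha⟩ : ∃ a, a = tau (x : Matrix Idx Idx K) * x := ⟨_, rfl⟩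
  have hJa : JJ * a = (x : Matrix Idx Idx K)ᵀ * JJ * x := by rw [ha, ← mul_assoc, J_tau]
  obtain ⟨k0, b0, p1, p2, p3⟩ := exists_basis hf hfJ hJ J_alt
  obtain ⟨k1, b1, r1, r2, r3⟩ := exists_basis hf (M := JJ * a)
    (by rw [← mul_assoc, hfJ, mul_assoc, mul_assoc, ha, hc])
    (by rw [hJa]; exact (((Matrix.isUnit_transpose _).2 x.isUnit).mul hJ).mul x.isUnit)
    (fun u => by
      rw [hJa, ← Matrix.mulVec_mulVec, ← Matrix.mulVec_mulVec, Matrix.dotProduct_mulVec, Matrix.vecMul_transpose]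
      exact J_alt _)
  obtain rfl : k0 = k1 := by
    have h0 := Module.finrank_eq_card_basis b0
    rw [Module.finrank_eq_card_basis b1] at h0
    simp at h0
    omega
  obtain ⟨Z, hZ⟩ : ∃ Z, Z = b1.equiv b0 (Equiv.refl _) := ⟨_, rfl⟩
  let F0 : (Idx → K) →ₗ[K] LinearMap.range f.mulVecLin := f.mulVecLin.rangeRestrict
  let L : (Idx → K) →ₗ[K] (Idx → K) :=
    (LinearMap.range f.mulVecLin).subtype.comp (Z.toLinearMap.comp F0) + (1 - f).mulVecLin
  obtain ⟨y, hy⟩ : ∃ y, y = LinearMap.toMatrix' L := ⟨_, rfl⟩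
  have hyv : ∀ v, y *ᵥ v = (Z (F0 v) : Idx → K) + (1 - f) *ᵥ v := fun v => by
    rw [hy, LinearMap.toMatrix'_mulVec]; rfl
  have hF0 : ∀ v, (F0 v : Idx → K) = f *ᵥ v := fun v => rfl
  have hfix : ∀ w : LinearMap.range f.mulVecLin, f *ᵥ (w : Idx → K) = w := by
    rintro ⟨w, u, rfl⟩
    show f *ᵥ (f *ᵥ u) = f *ᵥ u
    rw [Matrix.mulVec_mulVec, hf]
  have hfy : ∀ v, f *ᵥ (y *ᵥ v) = (Z (F0 v) : Idx → K) := fun v => by
    rw [hyv, Matrix.mulVec_add, hfix, Matrix.mulVec_mulVec, mul_sub, hf, mul_one, sub_self, Matrix.zero_mulVec, add_zero]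
  have hyf : y * f = f * y := by
    refine Matrix.ext_of_mulVec_single fun i => ?_
    rw [← Matrix.mulVec_mulVec, ← Matrix.mulVec_mulVec, hfy, hyv, Matrix.mulVec_mulVec, sub_mul, one_mul, hf,
      sub_self, Matrix.zero_mulVec, add_zero]
    congr 2
    exact Subtype.ext (by rw [hF0, hF0, Matrix.mulVec_mulVec, hf])
  refine ⟨y, hyf, ?_⟩
  have hiso : ∀ u v : LinearMap.range f.mulVecLin,
      (Z u : Idx → K) ⬝ᵥ (JJ *ᵥ (Z v : Idx → K)) = (u : Idx → K) ⬝ᵥ ((JJ * a) *ᵥ (v : Idx → K)) := by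
    let W := LinearMap.range f.mulVecLin
    let B1 : LinearMap.BilinForm K W := LinearMap.mk₂ K (fun u v => (u : Idx → K) ⬝ᵥ ((JJ * a) *ᵥ (v : Idx → K)))
      (fun a b v => by simp [add_dotProduct]) (fun c u v => by simp [smul_dotProduct])
      (fun u a b => by simp [Matrix.mulVec_add, dotProduct_add]) (fun c u v => by simp [Matrix.mulVec_smul, dotProduct_smul])
    let B0 : LinearMap.BilinForm K W := LinearMap.mk₂ K (fun u v => (Z u : Idx → K) ⬝ᵥ (JJ *ᵥ (Z v : Idx → K)))
      (fun a b v => by simp [add_dotProduct]) (fun c u v => by simp [smul_dotProduct])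
      (fun u a b => by simp [Matrix.mulVec_add, dotProduct_add]) (fun c u v => by simp [Matrix.mulVec_smul, dotProduct_smul])
    have hskew : ∀ (M : Matrix Idx Idx K), (∀ u, u ⬝ᵥ (M *ᵥ u) = 0) → ∀ u v, u ⬝ᵥ (M *ᵥ v) = - (v ⬝ᵥ (M *ᵥ u)) := by
      intro M h u v
      have h' := h (u + v)
      simp only [Matrix.mulVec_add, dotProduct_add, add_dotProduct, h] at h'
      linear_combination h'
    have e : B0 = B1 := by
      refine b1.ext fun i => b1.ext fun j => ?_
      show (Z (b1 i) : Idx → K) ⬝ᵥ (JJ *ᵥ (Z (b1 j) : Idx → K)) = (b1 i : Idx → K) ⬝ᵥ ((JJ * a) *ᵥ (b1 j : Idx → K))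
      rw [hZ, Basis.equiv_apply, Basis.equiv_apply, Equiv.refl_apply, Equiv.refl_apply]
      rcases i with (i | i) | i
      · rcases j with (j | j) | j
        · rw [p2, r2]
        · rw [p1, r1]
        · exact j.elim0
      · rcases j with (j | j) | j
        · rw [hskew _ J_alt, p1, hskew (JJ * a) (fun u => by
            rw [hJa, ← Matrix.mulVec_mulVec, ← Matrix.mulVec_mulVec, Matrix.dotProduct_mulVec, Matrix.vecMul_transpose]
            exact J_alt _), r1]
        · rw [p3, r3]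
        · exact j.elim0
      · exact i.elim0
    exact fun u v => LinearMap.congr_fun (LinearMap.congr_fun e u) v
  refine hJ.mul_left_cancel (Matrix.ext fun i j => ?_)
  have e1 : JJ * (f * (tau y * y)) = (f * y)ᵀ * JJ * (f * y) := by
    rw [← J_tau, tau_mul, hτ, mul_assoc JJ, mul_assoc (tau y) f, ← mul_assoc f f, hf, ← hyf, ← mul_assoc (tau y),
      ← mul_assoc f]
    congr 1
    have h5 := congrArg tau hyf
    rw [tau_mul, tau_mul, hτ] at h5
    rw [mul_assoc (tau y), hyf, ← mul_assoc (tau y), ← h5]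
  have e2 : JJ * (f * a) = fᵀ * (JJ * a) * f := by
    rw [← mul_assoc fᵀ, hfJ, mul_assoc JJ f a, mul_assoc, mul_assoc f a, ha, hc, ← mul_assoc f f, hf]
  rw [← ha, e1, e2]
  have h6 := hiso (F0 (Pi.single i 1)) (F0 (Pi.single j 1))
  have ent : ∀ (A M : Matrix Idx Idx K), (A *ᵥ Pi.single i 1) ⬝ᵥ (M *ᵥ (A *ᵥ Pi.single j 1)) = (Aᵀ * M * A) i j := by
    intro A M
    rw [Matrix.mulVec_mulVec, Matrix.mulVec_single_one, Matrix.mulVec_single_one, mul_assoc]
    rfl
  have hm : ∀ v, f *ᵥ (y *ᵥ v) = (f * y) *ᵥ v := fun v => Matrix.mulVec_mulVec _ _ _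
  rw [← hfy, ← hfy, hF0, hF0, hm, hm, ent, ent] at h6
  exact h6

variable [Fintype K]

theorem isConj_iff' {p : ℕ} [Fact p.Prime] [CharP K p] (A B : Matrix.symplecticGroup (Fin m) K)
    (hA : (orderOf A).Coprime p) :
    IsConj A B ↔ IsConj (A : Matrix Idx Idx K) (B : Matrix Idx Idx K) := by
  classical
  refine ⟨fun h => MonoidHom.map_isConj (Matrix.symplecticGroup (Fin m) K).subtype h, fun h => ?_⟩
  rcases Nat.eq_zero_or_pos m with rfl | hm
  · rw [Subsingleton.elim A B]
  haveI : Nonempty (Fin m ⊕ Fin m) := ⟨Sum.inl ⟨0, hm⟩⟩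
  obtain ⟨x, hx⟩ := h
  obtain ⟨g, hg⟩ : ∃ g : Matrix Idx Idx K, g = (A : Matrix Idx Idx K) := ⟨_, rfl⟩
  obtain ⟨h', hh'⟩ : ∃ h' : Matrix Idx Idx K, h' = (B : Matrix Idx Idx K) := ⟨_, rfl⟩
  have hxg : (x : Matrix Idx Idx K) * g = h' * x := by rw [hg, hh']; exact hx
  have hgS : tau g * g = 1 := hg ▸ tau_mem A.2
  have hgS' : g * tau g = 1 := mul_eq_one_comm.1 hgS
  have hhS : tau h' * h' = 1 := hh' ▸ tau_mem B.2
  obtain ⟨N, hN⟩ : ∃ N, N = orderOf A := ⟨_, rfl⟩
  have hN0 : 0 < N := hN ▸ orderOf_pos A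
  have hgN : g ^ N = 1 := by rw [hg, hN, ← SubmonoidClass.coe_pow, pow_orderOf_eq_one, OneMemClass.coe_one]
  have hτg : tau g = g ^ (N - 1) := by
    calc tau g = tau g * g ^ N := by rw [hgN, mul_one]
      _ = g ^ (N - 1) := by rw [← Nat.sub_add_cancel hN0, pow_succ', ← mul_assoc, hgS, one_mul, Nat.add_sub_cancel]
  obtain ⟨a, ha⟩ : ∃ a, a = tau (x : Matrix Idx Idx K) * x := ⟨_, rfl⟩
  have hag : Commute a g := by
    have h2 : tau g * tau (x : Matrix Idx Idx K) = tau (x : Matrix Idx Idx K) * tau h' := by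
      rw [← tau_mul, hxg, tau_mul]
    calc a * g = 1 * (tau (x : Matrix Idx Idx K) * (x * g)) := by rw [one_mul, ha, mul_assoc]
      _ = g * (tau g * tau (x : Matrix Idx Idx K)) * (h' * x) := by
        rw [← hgS', hxg]; simp only [mul_assoc]
      _ = g * (tau (x : Matrix Idx Idx K) * (tau h' * h') * x) := by
        rw [h2]; simp only [mul_assoc]
      _ = g * a := by rw [hhS, mul_one, ha]
  have haS : tau a = a := by rw [ha, tau_mul, tau_tau]
  let R := Algebra.adjoin K ({g, a} : Set (Matrix Idx Idx K))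
  haveI hRc : IsMulCommutative R := Algebra.isMulCommutative_adjoin K (by
    rintro u (rfl | rfl) v (rfl | rfl)
    · rfl
    · exact hag.eq.symm
    · exact hag.eq
    · rfl)
  letI : CommRing R := { (inferInstance : Ring R) with mul_comm := hRc.is_comm.comm }
  haveI : Finite R := Subtype.finite
  have hgR : g ∈ R := Algebra.subset_adjoin (Or.inl rfl)
  have haR : a ∈ R := Algebra.subset_adjoin (Or.inr rfl)
  have hR : ∀ X ∈ R, tau X ∈ R := by
    intro X hX
    induction hX using Algebra.adjoin_induction with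
    | mem X hX =>
      rcases hX with rfl | rfl
      · rw [hτg]; exact R.pow_mem hgR _
      · rw [haS]; exact haR
    | algebraMap c => rw [tau_algebraMap]; exact R.algebraMap_mem c
    | add X Y _ _ h1 h2 => rw [tau_add]; exact R.add_mem h1 h2
    | mul X Y _ _ h1 h2 => rw [tau_mul]; exact R.mul_mem h2 h1
  let σ : R →+* R :=
    { toFun := fun X => ⟨tau X.1, hR X.1 X.2⟩
      map_one' := Subtype.ext tau_one
      map_mul' := fun X Y => Subtype.ext (by
        show tau (X.1 * Y.1) = tau X.1 * tau Y.1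
        rw [tau_mul]
        exact congrArg Subtype.val (mul_comm (⟨_, hR Y.1 Y.2⟩ : R) ⟨_, hR X.1 X.2⟩))
      map_zero' := Subtype.ext tau_zero
      map_add' := fun X Y => Subtype.ext (tau_add X.1 Y.1) }
  have hσσ : ∀ X, σ (σ X) = X := fun X => Subtype.ext (tau_tau X.1)
  obtain ⟨G, hG⟩ : ∃ G : R, G = ⟨g, hgR⟩ := ⟨_, rfl⟩
  obtain ⟨A', hA'⟩ : ∃ A' : R, A' = ⟨a, haR⟩ := ⟨_, rfl⟩
  have hσG : σ G * G = 1 := Subtype.ext (by rw [hG]; exact hgS)
  obtain ⟨k, hk, hid⟩ := UnitaryConj.exists_idem ((G - σ G) * (G - σ G))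
  obtain ⟨e, he⟩ : ∃ e, e = ((G - σ G) * (G - σ G)) ^ k := ⟨_, rfl⟩
  rw [← he] at hid
  have hσe : σ e = e := by rw [he, map_pow, map_mul, map_sub, hσσ]; ring_nf
  have hne1 : (1 - e) * (G * G) = 1 - e := by
    have hnil : ((1 - e) * (G * G) + e - 1) ^ (2 * k) = 0 := by
      have h1 : (1 - e) * (G * G) + e - 1 = (1 - e) * ((G - σ G) * G) := by linear_combination (1 - e) * hσG
      rw [h1, mul_pow, mul_pow, show (G - σ G) ^ (2 * k) = e by rw [he, pow_mul, sq],
        show (1 - e) ^ (2 * k) = 1 - e from IsIdempotentElem.pow_eq (IsIdempotentElem.one_sub hid) (by omega)]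
      linear_combination (-G ^ (2 * k)) * hid
    obtain ⟨u, hu⟩ : ∃ u, u = (1 - e) * (G * G) + e := ⟨_, rfl⟩
    rw [← hu] at hnil
    have hu1 : u ^ (p ^ (2 * k)) = 1 := by
      haveI : CharP R p := charP_of_injective_algebraMap (R := K) (A := R) (fun s t hst =>
        (algebraMap K (Matrix Idx Idx K)).injective (congrArg Subtype.val hst)) p
      have h2 := pow_eq_zero_of_le (Nat.lt_pow_self (n := 2 * k) (Fact.out : p.Prime).one_lt).le hnil
      rwa [sub_pow_char_pow, one_pow, sub_eq_zero] at h2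
    have hu2 : u ^ N = 1 := by
      have : ∀ j, u ^ j = (1 - e) * (G * G) ^ j + e := fun j => by
        induction j with
        | zero => rw [pow_zero, pow_zero]; ring
        | succ j ih =>
          rw [pow_succ, ih, hu, pow_succ]
          linear_combination ((G * G) ^ j * (G * G) - (G * G) ^ j - G * G + 1) * hid
      rw [this, mul_pow, show G ^ N = 1 from Subtype.ext (by rw [hG]; exact hgN)]
      ring
    have hu3 : u = 1 := by
      have := pow_gcd_eq_one.2 ⟨hu2, hu1⟩
      rwa [Nat.Coprime.gcd_eq_one (Nat.Coprime.pow_right _ (hN ▸ hA)), pow_one] at this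
    linear_combination hu.symm.trans hu3
  -- the part where g - g⁻¹ is invertible
  obtain ⟨r, hr⟩ : ∃ r : R, e * (σ r * r) = e * A' := by
    let I : Ideal R := Ideal.span {1 - e}
    have hI : I ≤ RingHom.ker ((Ideal.Quotient.mk I).comp σ) := by
      rw [Ideal.span_le, Set.singleton_subset_iff, SetLike.mem_coe, RingHom.mem_ker, RingHom.comp_apply, map_sub,
        map_one, hσe, Ideal.Quotient.eq_zero_iff_mem]
      exact Ideal.subset_span rfl
    let σ' : R ⧸ I →+* R ⧸ I := Ideal.Quotient.lift I ((Ideal.Quotient.mk I).comp σ) hI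
    haveI : Finite (R ⧸ I) := Finite.of_surjective _ Ideal.Quotient.mk_surjective
    have hσ' : ∀ X, σ' (Ideal.Quotient.mk I X) = Ideal.Quotient.mk I (σ X) := fun X => rfl
    have he1 : Ideal.Quotient.mk I e = 1 := by
      rw [← map_one (Ideal.Quotient.mk I), Ideal.Quotient.eq, show e - 1 = -(1 - e) by ring]
      exact I.neg_mem (Ideal.subset_span rfl)
    have hω : IsUnit (Ideal.Quotient.mk I G - σ' (Ideal.Quotient.mk I G)) := by
      rw [hσ', ← map_sub]
      refine IsUnit.of_pow_eq_one (n := 2 * k) ?_ (by omega)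
      rw [← map_pow, pow_mul, sq, ← he, he1]
    have hau : IsUnit A' := by
      have hinj : Function.Injective fun r : R => A' * r := by
        intro s t hst
        have hu : IsUnit a := by
          rw [ha]
          refine IsUnit.mul ?_ x.isUnit
          exact IsUnit.of_mul_eq_one (tau ((x⁻¹ : GL Idx K) : Matrix Idx Idx K)) (by
            rw [← tau_mul, ← Units.val_mul, inv_mul_cancel, Units.val_one, tau_one])
        have hst' := congrArg Subtype.val hst
        rw [hA'] at hst'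
        exact Subtype.ext (hu.mul_left_cancel hst')
      obtain ⟨s, hs⟩ := Finite.surjective_of_injective hinj 1
      exact IsUnit.of_mul_eq_one s hs
    obtain ⟨y, hy⟩ := UnitaryConj.norm_surj σ' (fun X => by
        obtain ⟨X, rfl⟩ := Ideal.Quotient.mk_surjective X
        rw [hσ', hσ', hσσ]) _ hω (hau.map (Ideal.Quotient.mk I)).unit (by
        rw [IsUnit.unit_spec, hσ']
        congr 1
        exact Subtype.ext (by rw [hA']; exact haS))
    obtain ⟨r, hr⟩ := Ideal.Quotient.mk_surjective (y : R ⧸ I)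
    rw [← hr, hσ', ← map_mul, IsUnit.unit_spec, Ideal.Quotient.eq, Ideal.mem_span_singleton'] at hy
    obtain ⟨c, hc⟩ := hy
    exact ⟨r, by linear_combination -e * hc - c * hid⟩
  -- split the rest by eigenvalue
  obtain ⟨f1, f2, hf1, hf2, hf12, hsum, hs1, hs2, hσ1, hσ2⟩ : ∃ f1 f2 : R, f1 * f1 = f1 ∧ f2 * f2 = f2 ∧ f1 * f2 = 0 ∧
      f1 + f2 = 1 - e ∧ (∃ s : K, f1 * G = s • f1) ∧ (∃ s : K, f2 * G = s • f2) ∧ σ f1 = f1 ∧ σ f2 = f2 := by
    have hsGfix : (1 - e) * σ G = (1 - e) * G := by linear_combination -(σ G) * hne1 + (1 - e) * G * hσG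
    by_cases h2 : (2 : K) = 0
    · refine ⟨1 - e, 0, by linear_combination hid, by ring, by ring, add_zero _, ⟨1, ?_⟩, ⟨1, by rw [zero_mul, smul_zero]⟩,
        by rw [map_sub, map_one, hσe], map_zero _⟩
      rw [one_smul]
      have h20 : (2 : R) = 0 := by
        have := congrArg (algebraMap K R) h2
        rwa [map_ofNat, map_zero] at this
      have hp : p = 2 := by
        have h2' : ((2 : ℕ) : K) = 0 := by exact_mod_cast h2
        exact ((Nat.prime_dvd_prime_iff_eq Fact.out Nat.prime_two).1 ((CharP.cast_eq_zero_iff K p 2).1 h2'))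
      obtain ⟨u, hu⟩ : ∃ u, u = (1 - e) * G + e := ⟨_, rfl⟩
      have hu1 : u ^ 2 = 1 := by
        rw [hu]
        linear_combination (1 - e) * hne1 + ((1 - e) * G * e + e * e - e) * h20
      have hu2 : u ^ N = 1 := by
        have : ∀ j, u ^ j = (1 - e) * G ^ j + e := fun j => by
          induction j with
          | zero => rw [pow_zero, pow_zero]; ring
          | succ j ih => rw [pow_succ, ih, hu, pow_succ]; linear_combination (G ^ j * G - G ^ j - G + 1) * hid
        rw [this, show G ^ N = 1 from Subtype.ext (by rw [hG]; exact hgN)]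
        ring
      have hu3 : u = 1 := by
        have := pow_gcd_eq_one.2 ⟨hu2, hu1⟩
        rwa [Nat.Coprime.gcd_eq_one (hN ▸ hp ▸ hA), pow_one] at this
      linear_combination hu.symm.trans hu3
    · obtain ⟨c, hc⟩ : ∃ c : R, c * 2 = 1 := ⟨algebraMap K R 2⁻¹, by
        rw [← map_ofNat (algebraMap K R) 2, ← map_mul, inv_mul_cancel₀ h2, map_one]⟩
      have hσc : σ c = c := by
        have h3 := congrArg σ hc
        rw [map_mul, map_ofNat, map_one] at h3
        linear_combination c * h3 - σ c * hc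
      refine ⟨(1 - e) * (c * (1 + G)), (1 - e) * (c * (1 - G)), ?_, ?_, ?_, ?_, ⟨1, ?_⟩, ⟨-1, ?_⟩, ?_, ?_⟩
      · linear_combination c * c * (1 + G) * (1 + G) * hid + c * c * hne1 + (1 - e) * c * (1 + G) * hc
      · linear_combination c * c * (1 - G) * (1 - G) * hid + c * c * hne1 + (1 - e) * c * (1 - G) * hc
      · linear_combination c * c * (1 + G) * (1 - G) * hid - c * c * hne1
      · linear_combination (1 - e) * hc
      · rw [one_smul]; linear_combination c * hne1
      · rw [neg_one_smul]; linear_combination -c * hne1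
      · rw [map_mul, map_mul, map_add, map_sub, map_one, hσe, hσc]; linear_combination c * hsGfix
      · rw [map_mul, map_mul, map_sub, map_sub, map_one, hσe, hσc]; linear_combination -c * hsGfix
  have hco : ∀ u v : R, (u : Matrix Idx Idx K) * v = v * u := fun u v => congrArg Subtype.val (mul_comm u v)
  have hpc : ∀ f : R, f * f = f → σ f = f → (∃ s : K, f * G = s • f) → ∃ y : Matrix Idx Idx K,
      y * f = f * y ∧ (f : Matrix Idx Idx K) * (tau y * y) = f * a ∧ (f : Matrix Idx Idx K) * y * g = g * (f * y) := by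
    intro f h1 h2 hs
    obtain ⟨s, hs⟩ := hs
    obtain ⟨y, hy1, hy2⟩ := piece (f := (f : Matrix Idx Idx K)) (congrArg Subtype.val h1) (congrArg Subtype.val h2) x (by
      rw [← ha]
      exact hco ⟨a, haR⟩ f)
    refine ⟨y, hy1, by rw [hy2, ha], ?_⟩
    have hs' : (f : Matrix Idx Idx K) * g = s • (f : Matrix Idx Idx K) := by
      have := congrArg Subtype.val hs
      rw [hG] at this
      exact this
    rw [← hy1, mul_assoc, hs', Matrix.mul_smul, hy1, ← mul_assoc g, hco ⟨g, hgR⟩ f]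
    show _ = (f : Matrix Idx Idx K) * g * y
    rw [hs', Matrix.smul_mul]
  obtain ⟨y1, a1, b1, c1⟩ := hpc f1 hf1 hσ1 hs1
  obtain ⟨y2, a2, b2, c2⟩ := hpc f2 hf2 hσ2 hs2
  obtain ⟨Y, hY⟩ : ∃ Y, Y = (e : Matrix Idx Idx K) * r + f1 * y1 + f2 * y2 := ⟨_, rfl⟩
  have hYg : Y * g = g * Y := by
    rw [hY, add_mul, add_mul, mul_add, mul_add, c1, c2]
    congr 2
    exact congrArg Subtype.val (mul_comm (e * r) ⟨g, hgR⟩)
  have hYY : tau Y * Y = a := by
    have z : ∀ u v : R, u * v = 0 → ∀ X Z : Matrix Idx Idx K, X * u * ((v : Matrix Idx Idx K) * Z) = 0 := fun u v h X Z => by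
      rw [mul_assoc X, ← mul_assoc (u : Matrix Idx Idx K), show (u : Matrix Idx Idx K) * v = 0 from congrArg Subtype.val h,
        zero_mul, mul_zero]
    have d : ∀ (u : R) (y : Matrix Idx Idx K), u * u = u → σ u = u → y * u = u * y →
        tau y * u * ((u : Matrix Idx Idx K) * y) = u * (tau y * y) := fun u y h hσ hy => by
      have h5 := congrArg tau hy
      rw [tau_mul, tau_mul, show tau (u : Matrix Idx Idx K) = u from congrArg Subtype.val hσ] at h5
      rw [mul_assoc, ← mul_assoc (u : Matrix Idx Idx K), show (u : Matrix Idx Idx K) * u = u from congrArg Subtype.val h,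
        ← mul_assoc, ← h5, mul_assoc]
    have he1' : e * f1 = 0 := by linear_combination f1 * hsum - hf1 - hf12
    have he2' : e * f2 = 0 := by linear_combination f2 * hsum - hf2 - hf12
    have hb0 : (e : Matrix Idx Idx K) * (tau (r : Matrix Idx Idx K) * r) = e * a := by
      have := congrArg Subtype.val hr
      rw [hA'] at this
      exact this
    rw [hY, tau_add, tau_add, tau_mul, tau_mul, tau_mul, show tau (e : Matrix Idx Idx K) = e from congrArg Subtype.val hσe,
      show tau (f1 : Matrix Idx Idx K) = f1 from congrArg Subtype.val hσ1,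
      show tau (f2 : Matrix Idx Idx K) = f2 from congrArg Subtype.val hσ2]
    simp only [add_mul, mul_add, z e f1 he1', z e f2 he2', z f1 e ((mul_comm f1 e).trans he1'),
      z f2 e ((mul_comm f2 e).trans he2'), z f1 f2 hf12, z f2 f1 ((mul_comm f2 f1).trans hf12), add_zero, zero_add]
    rw [d e r hid hσe (hco r e), d f1 y1 hf1 hσ1 a1, d f2 y2 hf2 hσ2 a2, hb0, b1, b2, ← add_mul, ← add_mul,
      show (e : Matrix Idx Idx K) + f1 + f2 = 1 from congrArg Subtype.val (show e + f1 + f2 = 1 by linear_combination hsum),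
      one_mul]
  have hdet : Y.det ≠ 0 := by
    intro h0
    have h1 := congrArg Matrix.det hYY
    rw [Matrix.det_mul, h0, mul_zero, ha, Matrix.det_mul] at h1
    refine mul_ne_zero ?_ ((Matrix.isUnit_iff_isUnit_det _).1 x.isUnit).ne_zero h1.symm
    refine ((Matrix.isUnit_iff_isUnit_det _).1 (IsUnit.of_mul_eq_one (tau ((x⁻¹ : GL Idx K) : Matrix Idx Idx K)) ?_)).ne_zero
    rw [← tau_mul, ← Units.val_mul, inv_mul_cancel, Units.val_one, tau_one]
  let Yu : GL Idx K := Matrix.GeneralLinearGroup.mkOfDetNeZero Y hdet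
  have hYv : (Yu : Matrix Idx Idx K) = Y := rfl
  obtain ⟨c, hc⟩ : ∃ c : Matrix Idx Idx K, c = (x * Yu⁻¹ : GL Idx K) := ⟨_, rfl⟩
  have hcS : tau c * c = 1 := by
    rw [hc, Units.val_mul, tau_mul, mul_assoc, ← mul_assoc (tau (x : Matrix Idx Idx K)), ← ha, ← hYY, ← hYv,
      mul_assoc (tau (Yu : Matrix Idx Idx K)), ← Units.val_mul, mul_inv_cancel, Units.val_one, mul_one, ← tau_mul,
      ← Units.val_mul, mul_inv_cancel, Units.val_one, tau_one]
  refine isConj_iff.2 ⟨⟨c, mem_of_tau hcS⟩, ?_⟩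
  rw [mul_inv_eq_iff_eq_mul]
  refine Subtype.ext ?_
  show c * (A : Matrix Idx Idx K) = (B : Matrix Idx Idx K) * c
  rw [hc, ← hg, ← hh', Units.val_mul, mul_assoc]
  have : ((Yu⁻¹ : GL Idx K) : Matrix Idx Idx K) * g = g * ((Yu⁻¹ : GL Idx K) : Matrix Idx Idx K) :=
    Commute.units_inv_left (show Commute (Yu : Matrix Idx Idx K) g from hYg)
  rw [this, ← mul_assoc, hxg, mul_assoc]

theorem conj_of_charpoly {p : ℕ} [Fact p.Prime] [CharP K p] (A B : Matrix.symplecticGroup (Fin m) K)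
    (hA : (orderOf A).Coprime p) (hB : (orderOf B).Coprime p)
    (hc : (A : Matrix Idx Idx K).charpoly = (B : Matrix Idx Idx K).charpoly) : IsConj A B := by
  classical
  refine (isConj_iff' A B hA).2 ?_
  let e := (Matrix.reindexAlgEquiv K K (finSumFinEquiv (m := m) (n := m))).toMonoidHom
  let φ : Matrix.symplecticGroup (Fin m) K →* GL (Fin (m + m)) K :=
    (e.comp (Matrix.symplecticGroup (Fin m) K).subtype).toHomUnits
  have hφ : ∀ a, (φ a : Matrix (Fin (m + m)) (Fin (m + m)) K) = Matrix.reindex finSumFinEquiv finSumFinEquiv (a : Matrix Idx Idx K) :=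
    fun a => rfl
  have hinj : Function.Injective φ := fun a b h => Subtype.ext ((Matrix.reindex finSumFinEquiv finSumFinEquiv).injective
    ((hφ a).symm.trans ((congrArg Units.val h).trans (hφ b))))
  obtain ⟨d, hd⟩ := CfsgLib.MiscSemi.conj_of_charpoly (p := p) (g := φ A) (h := φ B)
    (by rw [orderOf_injective φ hinj]; exact hA) (by rw [orderOf_injective φ hinj]; exact hB)
    (by rw [hφ, hφ, Matrix.charpoly_reindex, Matrix.charpoly_reindex, hc])
  let ψ := (Matrix.reindexAlgEquiv K K (finSumFinEquiv (m := m) (n := m))).symm.toMonoidHom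
  have h1 := MonoidHom.map_isConj ψ (MonoidHom.map_isConj (Units.coeHom _) (isConj_iff.2 ⟨d, hd⟩))
  have hψ : ∀ a, ψ ((φ a : GL (Fin (m + m)) K) : Matrix (Fin (m + m)) (Fin (m + m)) K) = (a : Matrix Idx Idx K) := fun a =>
    (Matrix.reindexAlgEquiv K K (finSumFinEquiv (m := m) (n := m))).symm_apply_apply _
  rw [Units.coeHom_apply, Units.coeHom_apply, hψ, hψ] at h1
  exact h1

end CfsgLib.Lie.SpSemiConj
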