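import Cfsg.Agent.Lie.SpSemiExist

/-!
The number of semisimple classes of the symplectic group.
-/

set_option autoImplicit false
set_option linter.unusedSectionVars false
set_option linter.unusedSimpArgs false

namespace CfsgLib.Lie.SpSemiCount

open Matrix Polynomial Module

variable {K : Type*} [Field K] [Fintype K]

theorem coeff_inv {N : ℕ} (A : Matrix (Fin N) (Fin N) K) (hA : A.det = 1) (i : ℕ) (hi : i ≤ N) :
    (A⁻¹).charpoly.coeff i = (-1) ^ N * A.charpoly.coeff (N - i) := by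
  have hu : IsUnit A := (Matrix.isUnit_iff_isUnit_det _).2 (by rw [hA]; exact isUnit_one)
  rw [Matrix.charpoly_inv _ hu, hA, Ring.inverse_one, map_one, mul_one, Fintype.card_fin, ← Matrix.reverse_charpoly,
    show (-1 : K[X]) ^ N = C ((-1) ^ N) by simp, Polynomial.coeff_C_mul, Polynomial.coeff_reverse,
    Matrix.charpoly_natDegree_eq_dim, Fintype.card_fin, Polynomial.revAt_le hi]

theorem card_classes {p q n : ℕ} [Fact p.Prime] [CharP K p] (hq : Fintype.card K = q) :
    Nat.card {c : ConjClasses ↥(Matrix.symplecticGroup (Fin n) K) //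
      ∃ g : ↥(Matrix.symplecticGroup (Fin n) K), ConjClasses.mk g = c ∧ (orderOf g).Coprime p} = q ^ n := by
  classical
  rcases Nat.eq_zero_or_pos n with rfl | hn
  · rw [pow_zero]
    refine Nat.card_eq_one_iff_unique.2 ⟨⟨fun a b => ?_⟩, ⟨⟨ConjClasses.mk 1, 1, rfl, by simp⟩⟩⟩
    obtain ⟨ga, ha, -⟩ := a.2
    obtain ⟨gb, hb, -⟩ := b.2
    exact Subtype.ext (by rw [← ha, ← hb, Subsingleton.elim ga gb])
  have hev : (-1 : K) ^ (n + n) = 1 := (Even.neg_one_pow ⟨n, rfl⟩)
  let σ : Fin n ⊕ Fin n ≃ Fin (n + n) := finSumFinEquiv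
  let cp : Matrix.symplecticGroup (Fin n) K → K[X] := fun g => (g : Matrix (Fin n ⊕ Fin n) (Fin n ⊕ Fin n) K).charpoly
  have hcp : ∀ g : Matrix.symplecticGroup (Fin n) K, ∃ A : Matrix (Fin (n + n)) (Fin (n + n)) K,
      A.det = 1 ∧ A.charpoly = cp g ∧ (A⁻¹).charpoly = cp g := by
    intro g
    refine ⟨Matrix.reindex σ σ (g : Matrix (Fin n ⊕ Fin n) (Fin n ⊕ Fin n) K), ?_, Matrix.charpoly_reindex σ _, ?_⟩
    · rw [Matrix.det_reindex_self]; exact SymplecticGroup.det_eq_one g.2
    · rw [Matrix.inv_reindex, Matrix.charpoly_reindex, ← SymplecticGroup.coe_inv', SymplecticGroup.coe_inv]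
      have h1 : IsUnit (Matrix.J (Fin n) K) := (Matrix.isUnit_iff_isUnit_det _).2 (Matrix.isUnit_det_J _ _)
      obtain ⟨J', hJ'⟩ := h1
      have h2 : (-Matrix.J (Fin n) K) = ((J'⁻¹ : (Matrix (Fin n ⊕ Fin n) (Fin n ⊕ Fin n) K)ˣ) : Matrix (Fin n ⊕ Fin n) (Fin n ⊕ Fin n) K) := by
        refine J'.isUnit.mul_left_cancel ?_
        rw [Units.mul_inv, hJ', Matrix.mul_neg, Matrix.J_squared, neg_neg]
      rw [h2, ← hJ', Matrix.coe_units_inv, Matrix.charpoly_units_conj', Matrix.charpoly_transpose]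
  have hpal : ∀ g i, i ≤ n + n → (cp g).coeff i = (cp g).coeff (n + n - i) := fun g i hi => by
    obtain ⟨A, hA, h1, h2⟩ := hcp g
    have := coeff_inv A hA i hi
    rwa [h1, h2, hev, one_mul] at this
  have hdeg : ∀ g, (cp g).natDegree = n + n := fun g => by
    show (Matrix.charpoly _).natDegree = _
    simp [Matrix.charpoly_natDegree_eq_dim]
  have h0 : ∀ g, (cp g).coeff 0 = 1 := fun g => by
    rw [hpal g 0 (Nat.zero_le _), Nat.sub_zero, ← hdeg g]
    exact (Matrix.charpoly_monic _)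
  let f : {c : ConjClasses ↥(Matrix.symplecticGroup (Fin n) K) // ∃ g, ConjClasses.mk g = c ∧ (orderOf g).Coprime p} →
      (Fin n → K) := fun c i => (cp c.2.choose).coeff ((i : ℕ) + 1)
  have hf : Function.Bijective f := by
    constructor
    · intro c c' e
      refine Subtype.ext ?_
      rw [← c.2.choose_spec.1, ← c'.2.choose_spec.1]
      refine ConjClasses.mk_eq_mk_iff_isConj.2 (SpSemiConj.conj_of_charpoly _ _ c.2.choose_spec.2 c'.2.choose_spec.2
        (CfsgLib.MiscSemi.coeff_ext (n := n + n) (Matrix.charpoly_monic _) (Matrix.charpoly_monic _) (hdeg _) (hdeg _)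
          fun i => ?_))
      show (cp _).coeff _ = (cp _).coeff _
      have hlow : ∀ j : ℕ, j ≤ n → (cp c.2.choose).coeff j = (cp c'.2.choose).coeff j := fun j hj => by
        rcases j with _ | j
        · rw [h0, h0]
        · exact congrFun e ⟨j, by omega⟩
      by_cases hi : (i : ℕ) ≤ n
      · exact hlow _ hi
      · rw [hpal _ _ i.2.le, hpal c'.2.choose _ i.2.le]
        exact hlow _ (by omega)
    · intro a
      let b : ℕ → K := fun i => if h : i - 1 < n then (if i = 0 then 1 else a ⟨i - 1, h⟩) else 1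
      let t : Fin (n + n) → K := fun i => b (min (i : ℕ) (n + n - i))
      obtain ⟨g, hg, hc⟩ := CfsgLib.MiscSemi.exists_semisimple (F := K) (p := p) (n := n + n) (by omega) t (by
        show b (min 0 (n + n - 0)) ≠ 0
        simp [b, hn])
      obtain ⟨A, hAd⟩ : ∃ A : Matrix (Fin (n + n)) (Fin (n + n)) K, A = g := ⟨_, rfl⟩
      have hco : ∀ i, i ≤ n + n → A.charpoly.coeff i = b (min i (n + n - i)) := by
        intro i hi
        rcases Nat.lt_or_eq_of_le hi with h | h
        · rw [hAd]; exact hc ⟨i, h⟩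
        · subst h
          have := (Matrix.charpoly_monic A).coeff_natDegree
          rw [Matrix.charpoly_natDegree_eq_dim, Fintype.card_fin] at this
          rw [this]
          simp [b, hn]
      have hdet : A.det = 1 := by
        rw [Matrix.det_eq_sign_charpoly_coeff, Fintype.card_fin, hev, one_mul, hco 0 (Nat.zero_le _)]
        simp [b, hn]
      have hinv : A⁻¹.charpoly = A.charpoly := by
        refine CfsgLib.MiscSemi.coeff_ext (n := n + n) (Matrix.charpoly_monic _) (Matrix.charpoly_monic _)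
          (by simp [Matrix.charpoly_natDegree_eq_dim]) (by simp [Matrix.charpoly_natDegree_eq_dim]) fun i => ?_
        rw [coeff_inv A hdet _ i.2.le, hev, one_mul, hco _ (Nat.sub_le _ _), hco _ i.2.le]
        congr 1
        omega
      obtain ⟨M, halt, hM, hgM⟩ := SpSemiExist.exists_form g hg (hAd ▸ hdet) (hAd ▸ hinv)
      have hnd : ∀ w, (1 : Matrix (Fin (n + n)) (Fin (n + n)) K) *ᵥ w = w →
          (∀ v, w ⬝ᵥ (M *ᵥ ((1 : Matrix (Fin (n + n)) (Fin (n + n)) K) *ᵥ v)) = 0) → w = 0 := by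
        intro w _ h
        refine hM w (funext fun i => ?_)
        have := h (Pi.single i 1)
        rw [Matrix.one_mulVec] at this
        have h' := halt (w + Pi.single i 1)
        simp only [Matrix.mulVec_add, dotProduct_add, add_dotProduct, halt, this, add_zero, zero_add,
          single_dotProduct, one_mul] at h'
        exact h'
      obtain ⟨k, hk, bb, hbb⟩ := SpSemiExist.form_basis (f := (1 : Matrix (Fin (n + n)) (Fin (n + n)) K)) (M := M)
        hnd (one_mul 1) halt
      have hkn : k = n := by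
        rw [show LinearMap.range (1 : Matrix (Fin (n + n)) (Fin (n + n)) K).mulVecLin = ⊤ by
          rw [Matrix.mulVecLin_one, LinearMap.range_id], finrank_top, Module.finrank_fin_fun] at hk
        omega
      subst hkn
      obtain ⟨X, hX⟩ : ∃ X : Matrix (Fin (k + k)) (Fin k ⊕ Fin k) K, X = Matrix.of fun i j => (bb j : Fin (k + k) → K) i :=
        ⟨_, rfl⟩
      have hXM : Xᵀ * M * X = -(Matrix.J (Fin k) K) := Matrix.ext fun i j => by
        rw [← hbb i j, hX, Matrix.mul_assoc]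
        simp only [Matrix.mul_apply, Matrix.transpose_apply, Matrix.of_apply, dotProduct, Matrix.mulVec]
      let X' : Matrix (Fin k ⊕ Fin k) (Fin k ⊕ Fin k) K := X.submatrix σ id
      have hXX' : X = X'.submatrix σ.symm id := by ext i j; simp [X']
      obtain ⟨S, hS⟩ : ∃ S : Matrix (Fin k ⊕ Fin k) (Fin k ⊕ Fin k) K,
          S = Matrix.reindex σ.symm σ.symm A := ⟨_, rfl⟩
      have hM' : ∃ M' : Matrix (Fin k ⊕ Fin k) (Fin k ⊕ Fin k) K, X'ᵀ * M' * X' = -(Matrix.J (Fin k) K) ∧ Sᵀ * M' * S = M' := by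
        refine ⟨M.submatrix σ σ, ?_, ?_⟩
        · rw [← hXM, Matrix.transpose_submatrix, Matrix.submatrix_mul_equiv, Matrix.submatrix_mul_equiv,
            Matrix.submatrix_id_id]
        · rw [hS, Matrix.reindex_apply, Equiv.symm_symm, Matrix.transpose_submatrix, Matrix.submatrix_mul_equiv,
            Matrix.submatrix_mul_equiv, hAd, hgM]
      obtain ⟨M', hM'1, hM'2⟩ := hM'
      have hXu : IsUnit X' := by
        rw [Matrix.isUnit_iff_isUnit_det, isUnit_iff_ne_zero]
        intro h0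
        have := congrArg Matrix.det hM'1
        rw [Matrix.det_mul, h0, mul_zero] at this
        exact ((Matrix.isUnit_iff_isUnit_det _).1 ((Matrix.isUnit_iff_isUnit_det _).2 (Matrix.isUnit_det_J (Fin k) K)).neg).ne_zero this.symm
      obtain ⟨u, hu⟩ := hXu
      obtain ⟨T, hT⟩ : ∃ T : Matrix (Fin k ⊕ Fin k) (Fin k ⊕ Fin k) K,
          T = ((u⁻¹ : GL (Fin k ⊕ Fin k) K) : Matrix (Fin k ⊕ Fin k) (Fin k ⊕ Fin k) K) * S * (u : Matrix (Fin k ⊕ Fin k) (Fin k ⊕ Fin k) K) :=
        ⟨_, rfl⟩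
      have hTmem : T ∈ Matrix.symplecticGroup (Fin k) K := by
        rw [SymplecticGroup.mem_iff']
        have hJ : Matrix.J (Fin k) K = -(X'ᵀ * M' * X') := by rw [hM'1, neg_neg]
        rw [hJ, Matrix.mul_neg, Matrix.neg_mul, neg_inj, hT, ← hu, Matrix.transpose_mul, Matrix.transpose_mul]
        have hc1 : (((u⁻¹ : GL (Fin k ⊕ Fin k) K) : Matrix (Fin k ⊕ Fin k) (Fin k ⊕ Fin k) K))ᵀ *
            (u : Matrix (Fin k ⊕ Fin k) (Fin k ⊕ Fin k) K)ᵀ = 1 := by
          rw [← Matrix.transpose_mul, Units.mul_inv, Matrix.transpose_one]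
        simp only [mul_assoc]
        rw [← mul_assoc (((u⁻¹ : GL (Fin k ⊕ Fin k) K) : Matrix (Fin k ⊕ Fin k) (Fin k ⊕ Fin k) K))ᵀ, hc1, one_mul,
          ← mul_assoc (u : Matrix (Fin k ⊕ Fin k) (Fin k ⊕ Fin k) K), Units.mul_inv, one_mul, ← mul_assoc M', ← mul_assoc Sᵀ,
          ← mul_assoc Sᵀ, hM'2]
      obtain ⟨s, hs⟩ : ∃ s : Matrix.symplecticGroup (Fin k) K, (s : Matrix (Fin k ⊕ Fin k) (Fin k ⊕ Fin k) K) = T := ⟨⟨T, hTmem⟩, rfl⟩
      have hso : (orderOf s).Coprime p := by
        refine hg.coprime_dvd_left (orderOf_dvd_of_pow_eq_one (Subtype.ext ?_))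
        rw [SubmonoidClass.coe_pow, hs, hT, OneMemClass.coe_one]
        rw [Units.conj_pow', hS, hAd, ← Matrix.coe_reindexAlgEquiv (R := K) (A := K), ← map_pow, ← Units.val_pow_eq_pow_val,
          pow_orderOf_eq_one, Units.val_one, map_one, mul_one, Units.inv_mul]
      have hscp : cp s = A.charpoly := by
        show (s : Matrix (Fin k ⊕ Fin k) (Fin k ⊕ Fin k) K).charpoly = _
        rw [hs, hT, Matrix.coe_units_inv, Matrix.charpoly_units_conj', hS, Matrix.charpoly_reindex]
      have hex : ∃ g' : Matrix.symplecticGroup (Fin k) K, ConjClasses.mk g' = ConjClasses.mk s ∧ (orderOf g').Coprime p :=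
        ⟨s, rfl, hso⟩
      refine ⟨⟨ConjClasses.mk s, hex⟩, funext fun i => ?_⟩
      obtain ⟨d, hd⟩ := MonoidHom.map_isConj (Matrix.symplecticGroup (Fin k) K).subtype
        (ConjClasses.mk_eq_mk_iff_isConj.1 hex.choose_spec.1.symm)
      show (cp hex.choose).coeff _ = a i
      have hcc : cp hex.choose = cp s := by
        have h1 : (hex.choose : Matrix (Fin k ⊕ Fin k) (Fin k ⊕ Fin k) K) =
            (d : Matrix (Fin k ⊕ Fin k) (Fin k ⊕ Fin k) K) * s * ((d⁻¹ : GL (Fin k ⊕ Fin k) K) : Matrix (Fin k ⊕ Fin k) (Fin k ⊕ Fin k) K) := by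
          rw [show (d : Matrix (Fin k ⊕ Fin k) (Fin k ⊕ Fin k) K) * s = hex.choose * (d : Matrix (Fin k ⊕ Fin k) (Fin k ⊕ Fin k) K) from hd,
            mul_assoc, Units.mul_inv, mul_one]
        show (hex.choose : Matrix (Fin k ⊕ Fin k) (Fin k ⊕ Fin k) K).charpoly = _
        rw [h1, Matrix.coe_units_inv, Matrix.charpoly_units_conj]
      rw [hcc, hscp, hco _ (by omega)]
      have hmin : min ((i : ℕ) + 1) (k + k - ((i : ℕ) + 1)) = (i : ℕ) + 1 := by omega
      simp [b, hmin]
  rw [Nat.card_eq_of_bijective f hf]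
  simp [hq]

end CfsgLib.Lie.SpSemiCount
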