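import Cfsg.Agent.Lie.SpSemiConj

/-!
Every self-reciprocal polynomial is the characteristic polynomial of a semisimple symplectic element; the count
of semisimple classes of the symplectic group.
-/

set_option autoImplicit false
set_option linter.unusedSectionVars false
set_option linter.unusedSimpArgs false
set_option linter.style.haveILetI false

namespace CfsgLib.Lie.SpSemiExist

open Matrix Module

variable {K : Type*} [Field K] {N : ℕ}

theorem form_basis {f M : Matrix (Fin N) (Fin N) K} (hnd : ∀ w, f *ᵥ w = w → (∀ v, w ⬝ᵥ (M *ᵥ (f *ᵥ v)) = 0) → w = 0)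
    (hf : f * f = f) (halt : ∀ u, u ⬝ᵥ (M *ᵥ u) = 0) :
    ∃ k, finrank K (LinearMap.range f.mulVecLin) = 2 * k ∧ ∃ b : Basis (Fin k ⊕ Fin k) K (LinearMap.range f.mulVecLin),
      ∀ i j, (b i : Fin N → K) ⬝ᵥ (M *ᵥ (b j : Fin N → K)) = (-(Matrix.J (Fin k) K)) i j := by
  classical
  let W := LinearMap.range f.mulVecLin
  let B : LinearMap.BilinForm K W := LinearMap.mk₂ K (fun u v => (u : Fin N → K) ⬝ᵥ (M *ᵥ (v : Fin N → K)))
    (fun a b v => by simp [add_dotProduct]) (fun c u v => by simp [smul_dotProduct])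
    (fun u a b => by simp [Matrix.mulVec_add, dotProduct_add]) (fun c u v => by simp [Matrix.mulVec_smul, dotProduct_smul])
  obtain ⟨k, r, b, h1, h2, h3, h4⟩ := OrthBasis.exists_symplectic B (fun v => halt v)
  have hr : r = 0 := by
    by_contra hr
    apply b.ne_zero (Sum.inr ⟨0, Nat.pos_of_ne_zero hr⟩)
    refine Subtype.ext (hnd _ ?_ fun v => h4 ⟨0, Nat.pos_of_ne_zero hr⟩ ⟨f *ᵥ v, ⟨_, rfl⟩⟩)
    obtain ⟨u, hu⟩ := (b (Sum.inr ⟨0, Nat.pos_of_ne_zero hr⟩)).2
    rw [← hu, Matrix.mulVecLin_apply, Matrix.mulVec_mulVec, hf]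
  subst hr
  refine ⟨k, ?_, b.reindex (Equiv.sumEmpty _ _), fun i j => ?_⟩
  · rw [Module.finrank_eq_card_basis b]; simp; omega
  rw [Basis.reindex_apply, Basis.reindex_apply]
  have hsk : ∀ u v : W, B u v = - B v u := fun u v => by
    have h := halt ((u : Fin N → K) + (v : Fin N → K))
    simp only [Matrix.mulVec_add, dotProduct_add, add_dotProduct, halt] at h
    show (u : Fin N → K) ⬝ᵥ (M *ᵥ (v : Fin N → K)) = -((v : Fin N → K) ⬝ᵥ (M *ᵥ (u : Fin N → K)))
    linear_combination h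
  show B (b ((Equiv.sumEmpty _ _).symm i)) (b ((Equiv.sumEmpty _ _).symm j)) = _
  rcases i with i | i <;> rcases j with j | j <;> simp only [Equiv.sumEmpty_symm_apply]
  · rw [show B (b (Sum.inl (Sum.inl i))) (b (Sum.inl (Sum.inl j))) = 0 from h2 i j]; simp [Matrix.J]
  · rw [show B (b (Sum.inl (Sum.inl i))) (b (Sum.inl (Sum.inr j))) = _ from h1 i j]; simp [Matrix.J, Matrix.one_apply]
  · rw [hsk, show B (b (Sum.inl (Sum.inl j))) (b (Sum.inl (Sum.inr i))) = _ from h1 j i]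
    simp [Matrix.J, Matrix.one_apply, eq_comm]
  · rw [show B (b (Sum.inl (Sum.inr i))) (b (Sum.inl (Sum.inr j))) = 0 from h3 i j]; simp [Matrix.J]

theorem alt_form {f : Matrix (Fin N) (Fin N) K} (hf : f * f = f) {k : ℕ}
    (hk : finrank K (LinearMap.range f.mulVecLin) = 2 * k) :
    ∃ Q : Matrix (Fin N) (Fin N) K, fᵀ * Q = Q ∧ Q * f = Q ∧ (∀ u, u ⬝ᵥ (Q *ᵥ u) = 0) ∧
      ∀ v, Q *ᵥ v = 0 → f *ᵥ v = 0 := by
  classical
  let φ : LinearMap.range f.mulVecLin ≃ₗ[K] (Fin k ⊕ Fin k → K) := LinearEquiv.ofFinrankEq _ _ (by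
    rw [hk, Module.finrank_pi, Fintype.card_sum, Fintype.card_fin]; omega)
  obtain ⟨L, hL⟩ : ∃ L : Matrix (Fin k ⊕ Fin k) (Fin N) K, L = LinearMap.toMatrix' (φ.toLinearMap.comp f.mulVecLin.rangeRestrict) :=
    ⟨_, rfl⟩
  have hLv : ∀ v, L *ᵥ v = φ (f.mulVecLin.rangeRestrict v) := fun v => by rw [hL, LinearMap.toMatrix'_mulVec]; rfl
  have hLf : L * f = L := Matrix.ext_of_mulVec_single fun i => by
    rw [← Matrix.mulVec_mulVec, hLv, hLv]
    congr 1
    exact Subtype.ext (by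
      show f *ᵥ (f *ᵥ Pi.single i 1) = f *ᵥ Pi.single i 1
      rw [Matrix.mulVec_mulVec, hf])
  refine ⟨Lᵀ * Matrix.J (Fin k) K * L, ?_, by rw [Matrix.mul_assoc, hLf], fun u => ?_, fun v hv => ?_⟩
  · rw [← Matrix.mul_assoc, ← Matrix.mul_assoc, ← Matrix.transpose_mul, hLf]
  · rw [← Matrix.mulVec_mulVec, ← Matrix.mulVec_mulVec, Matrix.dotProduct_mulVec, Matrix.vecMul_transpose]
    exact SpSemiConj.J_alt _
  · have h0 : L *ᵥ v = 0 := by
      by_contra hne
      obtain ⟨u, hu⟩ := φ.surjective (Matrix.J (Fin k) K *ᵥ (L *ᵥ v))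
      obtain ⟨w, hw⟩ := u.2
      have hLw : L *ᵥ w = Matrix.J (Fin k) K *ᵥ (L *ᵥ v) := by
        rw [hLv, ← hu]; congr 1; exact Subtype.ext hw
      apply hne
      funext i
      have h1 : ∀ z, (L *ᵥ z) ⬝ᵥ (Matrix.J (Fin k) K *ᵥ (L *ᵥ v)) = 0 := fun z => by
        rw [← Matrix.vecMul_transpose, ← Matrix.dotProduct_mulVec, Matrix.mulVec_mulVec, Matrix.mulVec_mulVec, hv,
          dotProduct_zero]
      obtain ⟨u', hu'⟩ := φ.surjective (Pi.single i 1)
      obtain ⟨w', hw'⟩ := u'.2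
      have h2 := h1 w'
      rw [show L *ᵥ w' = Pi.single i 1 by rw [hLv, ← hu']; congr 1; exact Subtype.ext hw', single_dotProduct,
        one_mul] at h2
      have h3 : Matrix.J (Fin k) K *ᵥ (L *ᵥ v) = 0 := by
        funext j
        obtain ⟨u'', hu''⟩ := φ.surjective (Pi.single j 1)
        obtain ⟨w'', hw''⟩ := u''.2
        have h4 := h1 w''
        rwa [show L *ᵥ w'' = Pi.single j 1 by rw [hLv, ← hu'']; congr 1; exact Subtype.ext hw'', single_dotProduct,
          one_mul] at h4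
      have h5 := congrArg (fun z => Matrix.J (Fin k) K *ᵥ z) h3
      simp only [Matrix.mulVec_mulVec, ← Matrix.mul_assoc, Matrix.mulVec_zero, Matrix.J_squared, Matrix.neg_mul, Matrix.one_mul,
        Matrix.neg_mulVec, neg_eq_zero] at h5
      exact congrFun h5 i
    rw [hLv, LinearEquiv.map_eq_zero_iff] at h0
    exact congrArg Subtype.val h0

theorem det_reflect {f : Matrix (Fin N) (Fin N) K} (hf : f * f = f) :
    (1 - f - f).det = (-1) ^ finrank K (LinearMap.range f.mulVecLin) := by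
  classical
  let W := LinearMap.range f.mulVecLin
  let W' := LinearMap.ker f.mulVecLin
  have hc : IsCompl W W' := by
    refine LinearMap.IsProj.isCompl (LinearMap.IsProj.mk (fun x => LinearMap.mem_range_self _ x) ?_)
    rintro _ ⟨u, rfl⟩
    simp only [Matrix.mulVecLin_apply, Matrix.mulVec_mulVec, hf]
  let e := Submodule.prodEquivOfIsCompl W W' hc
  have h : Matrix.toLin' (1 - f - f) = e.conj ((-(LinearMap.id : W →ₗ[K] W)).prodMap LinearMap.id) := by
    refine LinearMap.ext fun x => ?_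
    obtain ⟨y, rfl⟩ := e.surjective x
    rw [LinearEquiv.conj_apply_apply, LinearEquiv.symm_apply_apply, LinearMap.prodMap_apply, Matrix.toLin'_apply]
    show (1 - f - f) *ᵥ ((y.1 : Fin N → K) + (y.2 : Fin N → K)) = ((-y.1 : W) : Fin N → K) + (y.2 : Fin N → K)
    have h1 : f *ᵥ (y.1 : Fin N → K) = y.1 := by
      obtain ⟨u, hu⟩ := y.1.2
      rw [← hu, Matrix.mulVecLin_apply, Matrix.mulVec_mulVec, hf]
    have h2 : f *ᵥ (y.2 : Fin N → K) = 0 := y.2.2
    rw [Submodule.coe_neg, Matrix.sub_mulVec, Matrix.sub_mulVec, Matrix.one_mulVec, Matrix.mulVec_add, h1, h2]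
    abel
  rw [← LinearMap.det_toLin', h, LinearEquiv.conj_apply, LinearMap.comp_assoc, LinearMap.det_conj,
    LinearMap.det_prodMap, LinearMap.det_id, mul_one,
    show (-(LinearMap.id : W →ₗ[K] W)) = (-1 : K) • LinearMap.id from LinearMap.ext fun x => by simp, LinearMap.det_smul, LinearMap.det_id, mul_one]

theorem finrank_split {e f : Matrix (Fin N) (Fin N) K} (hs : e + f = 1) (he : e * e = e) :
    finrank K (LinearMap.range e.mulVecLin) + finrank K (LinearMap.range f.mulVecLin) = N := by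
  have hker : LinearMap.range f.mulVecLin = LinearMap.ker e.mulVecLin := by
    refine le_antisymm ?_ ?_
    · rintro _ ⟨u, rfl⟩
      rw [LinearMap.mem_ker]
      show e *ᵥ (f *ᵥ u) = 0
      rw [Matrix.mulVec_mulVec, eq_sub_of_add_eq' hs, mul_sub, mul_one, he, sub_self, Matrix.zero_mulVec]
    · intro u hu
      refine ⟨u, ?_⟩
      rw [LinearMap.mem_ker, Matrix.mulVecLin_apply] at hu
      rw [Matrix.mulVecLin_apply, eq_sub_of_add_eq' hs, Matrix.sub_mulVec, Matrix.one_mulVec, hu, sub_zero]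
  rw [hker, LinearMap.finrank_range_add_finrank_ker, Module.finrank_fin_fun]

variable [Fintype K]

theorem exists_form {p : ℕ} [Fact p.Prime] [CharP K p] {n : ℕ} (g : GL (Fin (n + n)) K) (hg : (orderOf g).Coprime p)
    (hdet : (g : Matrix (Fin (n + n)) (Fin (n + n)) K).det = 1)
    (hc : ((g : Matrix (Fin (n + n)) (Fin (n + n)) K))⁻¹.charpoly = (g : Matrix (Fin (n + n)) (Fin (n + n)) K).charpoly) :
    ∃ M : Matrix (Fin (n + n)) (Fin (n + n)) K, (∀ u, u ⬝ᵥ (M *ᵥ u) = 0) ∧ (∀ v, M *ᵥ v = 0 → v = 0) ∧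
      (g : Matrix (Fin (n + n)) (Fin (n + n)) K)ᵀ * M * g = M := by
  classical
  rcases Nat.eq_zero_or_pos n with rfl | hn
  · haveI : IsEmpty (Fin (0 + 0)) := Fin.isEmpty'
    exact ⟨0, fun u => by simp, fun v _ => Subsingleton.elim _ _, Subsingleton.elim _ _⟩
  haveI : Nonempty (Fin (n + n)) := ⟨⟨0, by omega⟩⟩
  obtain ⟨gm, hgm⟩ : ∃ gm : Matrix (Fin (n + n)) (Fin (n + n)) K, gm = g := ⟨_, rfl⟩
  rw [← hgm] at hdet ⊢
  obtain ⟨Nn, hNn⟩ : ∃ Nn, Nn = orderOf g := ⟨_, rfl⟩
  have hN0 : 0 < Nn := hNn ▸ orderOf_pos g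
  have hgN : gm ^ Nn = 1 := by rw [hgm, hNn, ← Units.val_pow_eq_pow_val, pow_orderOf_eq_one, Units.val_one]
  -- a first invariant bilinear form
  let gT : GL (Fin (n + n)) K := ⟨((g⁻¹ : GL (Fin (n + n)) K) : Matrix (Fin (n + n)) (Fin (n + n)) K)ᵀ,
    (g : Matrix (Fin (n + n)) (Fin (n + n)) K)ᵀ,
    by rw [← Matrix.transpose_mul, Units.mul_inv, Matrix.transpose_one],
    by rw [← Matrix.transpose_mul, Units.inv_mul, Matrix.transpose_one]⟩
  obtain ⟨P, hP⟩ := CfsgLib.MiscSemi.conj_of_charpoly (p := p) (g := g) (h := gT) hg (by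
      refine hg.coprime_dvd_left (orderOf_dvd_of_pow_eq_one (Units.ext ?_))
      rw [Units.val_pow_eq_pow_val]
      show (((g⁻¹ : GL (Fin (n + n)) K) : Matrix (Fin (n + n)) (Fin (n + n)) K)ᵀ) ^ orderOf g = 1
      rw [← Matrix.transpose_pow, ← Units.val_pow_eq_pow_val, inv_pow, pow_orderOf_eq_one, inv_one, Units.val_one,
        Matrix.transpose_one]) (by
      show _ = (((g⁻¹ : GL (Fin (n + n)) K) : Matrix (Fin (n + n)) (Fin (n + n)) K)ᵀ).charpoly
      rw [Matrix.charpoly_transpose, Matrix.coe_units_inv, hc])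
  obtain ⟨Pm, hPm⟩ : ∃ Pm : Matrix (Fin (n + n)) (Fin (n + n)) K, Pm = P := ⟨_, rfl⟩
  obtain ⟨Pi', hPi⟩ : ∃ Pi' : Matrix (Fin (n + n)) (Fin (n + n)) K, Pi' = ((P⁻¹ : GL (Fin (n + n)) K) : Matrix (Fin (n + n)) (Fin (n + n)) K) :=
    ⟨_, rfl⟩
  have hPP : Pm * Pi' = 1 := by rw [hPm, hPi, Units.mul_inv]
  have hPP' : Pi' * Pm = 1 := mul_eq_one_comm.1 hPP
  have hinv : gmᵀ * Pm * gm = Pm := by
    have h1 : P * g = gT * P := mul_inv_eq_iff_eq_mul.1 hP
    have h2 := congrArg Units.val h1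
    rw [Units.val_mul, Units.val_mul, ← hPm, ← hgm] at h2
    change Pm * gm = ((g⁻¹ : GL (Fin (n + n)) K) : Matrix (Fin (n + n)) (Fin (n + n)) K)ᵀ * Pm at h2
    rw [mul_assoc, h2, ← mul_assoc, ← Matrix.transpose_mul, hgm, Units.inv_mul, Matrix.transpose_one, one_mul]
  obtain ⟨Z, hZ⟩ : ∃ Z, Z = Pi' * Pmᵀ := ⟨_, rfl⟩
  have hPZ : Pm * Z = Pmᵀ := by rw [hZ, ← mul_assoc, hPP, one_mul]
  have hgi : gm * gm ^ (Nn - 1) = 1 := by rw [← pow_succ', Nat.sub_add_cancel hN0, hgN]
  have hσg : Pi' * gmᵀ * Pm = gm ^ (Nn - 1) := by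
    calc Pi' * gmᵀ * Pm = Pi' * (gmᵀ * Pm * gm) * gm ^ (Nn - 1) := by
          simp only [mul_assoc]; rw [hgi, mul_one]
      _ = gm ^ (Nn - 1) := by rw [hinv, hPP', one_mul]
  have hZg : Commute Z gm := by
    have hT : gmᵀ * Pmᵀ * gm = Pmᵀ := by
      have := congrArg Matrix.transpose hinv
      rwa [Matrix.transpose_mul, Matrix.transpose_mul, Matrix.transpose_transpose, ← mul_assoc] at this
    rw [← hPZ] at hT
    calc Z * gm = gm * (gm ^ (Nn - 1) * Z * gm) := by simp only [← mul_assoc]; rw [hgi, one_mul]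
      _ = gm * (Pi' * (gmᵀ * (Pm * Z) * gm)) := by rw [← hσg]; simp only [mul_assoc]
      _ = gm * Z := by rw [hT, ← mul_assoc Pi', hPP', one_mul]
  let R := Algebra.adjoin K ({gm, Z} : Set (Matrix (Fin (n + n)) (Fin (n + n)) K))
  haveI hRc : IsMulCommutative R := Algebra.isMulCommutative_adjoin K (by
    rintro u (rfl | rfl) v (rfl | rfl)
    · rfl
    · exact hZg.eq.symm
    · exact hZg.eq
    · rfl)
  letI : CommRing R := { (inferInstance : Ring R) with mul_comm := hRc.is_comm.comm }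
  haveI : Finite R := Subtype.finite
  have hgR : gm ∈ R := Algebra.subset_adjoin (Or.inl rfl)
  have hZR : Z ∈ R := Algebra.subset_adjoin (Or.inr rfl)
  obtain ⟨G, hG⟩ : ∃ G : R, G = ⟨gm, hgR⟩ := ⟨_, rfl⟩
  obtain ⟨ZR, hZRd⟩ : ∃ ZR : R, ZR = ⟨Z, hZR⟩ := ⟨_, rfl⟩
  obtain ⟨Zi, hZi⟩ : ∃ Zi : R, ZR * Zi = 1 := by
    refine Finite.surjective_of_injective (f := fun r : R => ZR * r) (fun s t hst => Subtype.ext ?_) 1
    have h1 := congrArg (fun r : R => Pm * (r : Matrix (Fin (n + n)) (Fin (n + n)) K)) hst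
    simp only [hZRd, MulMemClass.coe_mul, ← mul_assoc, hPZ] at h1
    exact ((Matrix.isUnit_transpose _).2 (hPm ▸ P.isUnit)).mul_left_cancel h1
  have hZim : Z * (Zi : Matrix (Fin (n + n)) (Fin (n + n)) K) = 1 := by
    have := congrArg Subtype.val hZi
    rw [hZRd] at this
    exact this
  obtain ⟨τ, hτ⟩ : ∃ τ : Matrix (Fin (n + n)) (Fin (n + n)) K → Matrix (Fin (n + n)) (Fin (n + n)) K,
      ∀ X, τ X = Pi' * Xᵀ * Pm := ⟨_, fun _ => rfl⟩
  have hτmul : ∀ X Y, τ (X * Y) = τ Y * τ X := fun X Y => by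
    rw [hτ, hτ, hτ, Matrix.transpose_mul]
    simp only [mul_assoc]
    rw [← mul_assoc Pm, hPP, one_mul]
  have hτadd : ∀ X Y, τ (X + Y) = τ X + τ Y := fun X Y => by rw [hτ, hτ, hτ, Matrix.transpose_add, mul_add, add_mul]
  have hτalg : ∀ c : K, τ (algebraMap K _ c) = algebraMap K _ c := fun c => by
    rw [hτ, Algebra.algebraMap_eq_smul_one, Matrix.transpose_smul, Matrix.transpose_one, Matrix.mul_smul, mul_one,
      Matrix.smul_mul, hPP']
  have hτZ : τ Z = Zi := by
    have hu : Z * τ Z = 1 := by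
      rw [hτ, hZ, Matrix.transpose_mul, Matrix.transpose_transpose]
      have h1 : Pmᵀ * Pi'ᵀ = 1 := by rw [← Matrix.transpose_mul, hPP', Matrix.transpose_one]
      calc Pi' * Pmᵀ * (Pi' * (Pm * Pi'ᵀ) * Pm) = Pi' * (Pmᵀ * ((Pi' * Pm) * Pi'ᵀ)) * Pm := by simp only [mul_assoc]
        _ = 1 := by rw [hPP', one_mul, h1, mul_one, hPP']
    exact left_inv_eq_right_inv (mul_eq_one_comm.1 hu) hZim
  have hττ : ∀ X, τ (τ X) = Z * X * (Zi : Matrix (Fin (n + n)) (Fin (n + n)) K) := by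
    intro X
    rw [hτ, hτ, Matrix.transpose_mul, Matrix.transpose_mul, Matrix.transpose_transpose]
    rw [show Z = Pi' * Pmᵀ from hZ, ← hτZ, hτ, hZ, Matrix.transpose_mul, Matrix.transpose_transpose]
    simp only [mul_assoc]
    rw [← mul_assoc Pi' Pm, hPP', one_mul]
  have hR : ∀ X ∈ R, τ X ∈ R ∧ τ (τ X) = X := by
    intro X hX
    induction hX using Algebra.adjoin_induction with
    | mem X hX =>
      refine ⟨?_, ?_⟩
      · rcases hX with rfl | rfl
        · rw [hτ, hσg]; exact R.pow_mem hgR _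
        · rw [hτZ]; exact Zi.2
      · rw [hττ]
        rcases hX with rfl | rfl
        · rw [hZg.eq, mul_assoc, hZim, mul_one]
        · rw [mul_assoc, hZim, mul_one]
    | algebraMap c => exact ⟨by rw [hτalg]; exact R.algebraMap_mem c, by rw [hτalg, hτalg]⟩
    | add X Y hX hY h1 h2 =>
      refine ⟨by rw [hτadd]; exact R.add_mem (h1).1 (h2).1, ?_⟩
      rw [hττ, show Z * (X + Y) = (X + Y) * Z from congrArg Subtype.val (mul_comm (⟨Z, hZR⟩ : R) ⟨X + Y, R.add_mem hX hY⟩),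
        mul_assoc, hZim, mul_one]
    | mul X Y hX hY h1 h2 =>
      refine ⟨by rw [hτmul]; exact R.mul_mem (h2).1 (h1).1, ?_⟩
      rw [hττ, show Z * (X * Y) = (X * Y) * Z from congrArg Subtype.val (mul_comm (⟨Z, hZR⟩ : R) ⟨X * Y, R.mul_mem hX hY⟩),
        mul_assoc, hZim, mul_one]
  let σ : R →+* R :=
    { toFun := fun X => ⟨τ X.1, (hR X.1 X.2).1⟩
      map_one' := Subtype.ext (by show τ 1 = 1; rw [hτ, Matrix.transpose_one, mul_one, hPP'])
      map_mul' := fun X Y => Subtype.ext (by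
        show τ (X.1 * Y.1) = τ X.1 * τ Y.1
        rw [hτmul]
        exact congrArg Subtype.val (mul_comm (⟨_, (hR Y.1 Y.2).1⟩ : R) ⟨_, (hR X.1 X.2).1⟩))
      map_zero' := Subtype.ext (by show τ 0 = 0; rw [hτ, Matrix.transpose_zero, mul_zero, zero_mul])
      map_add' := fun X Y => Subtype.ext (hτadd X.1 Y.1) }
  have hσσ : ∀ X, σ (σ X) = X := fun X => Subtype.ext (hR X.1 X.2).2
  have hPσ : ∀ X : R, Pm * (σ X : Matrix (Fin (n + n)) (Fin (n + n)) K) = (X : Matrix (Fin (n + n)) (Fin (n + n)) K)ᵀ * Pm := fun X => by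
    show Pm * τ X.1 = _
    rw [hτ, ← mul_assoc, ← mul_assoc, hPP, one_mul]
  have hdetσ : ∀ X : R, (σ X : Matrix (Fin (n + n)) (Fin (n + n)) K).det = (X : Matrix (Fin (n + n)) (Fin (n + n)) K).det := fun X => by
    show (τ X.1).det = _
    rw [hτ, Matrix.det_mul, Matrix.det_mul, Matrix.det_transpose, mul_comm Pi'.det, mul_assoc, ← Matrix.det_mul, hPP',
      Matrix.det_one, mul_one]
  have hσG : σ G * G = 1 := Subtype.ext (by
    rw [hG]
    show τ gm * gm = 1
    rw [hτ, hσg, ← pow_succ, Nat.sub_add_cancel hN0, hgN])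
  obtain ⟨k, hk, hid⟩ := UnitaryConj.exists_idem ((G - σ G) * (G - σ G))
  obtain ⟨e, he⟩ : ∃ e, e = ((G - σ G) * (G - σ G)) ^ k := ⟨_, rfl⟩
  rw [← he] at hid
  have hσe : σ e = e := by rw [he, map_pow, map_mul, map_sub, hσσ]; ring_nf
  haveI : CharP R p := charP_of_injective_algebraMap (R := K) (A := R) (fun s t hst =>
    (algebraMap K (Matrix (Fin (n + n)) (Fin (n + n)) K)).injective (congrArg Subtype.val hst)) p
  have hGN : G ^ Nn = 1 := Subtype.ext (by rw [hG]; exact hgN)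
  have hone : ∀ (H : R), H ^ Nn = 1 → (∃ j, ((1 - e) * H + e) ^ (p ^ j) = 1) → (1 - e) * H = 1 - e := by
    intro H hH ⟨j, hj⟩
    have hu : ∀ i, ((1 - e) * H + e) ^ i = (1 - e) * H ^ i + e := fun i => by
      induction i with
      | zero => rw [pow_zero, pow_zero]; ring
      | succ i ih => rw [pow_succ, ih, pow_succ]; linear_combination (H ^ i * H - H ^ i - H + 1) * hid
    have hu2 : ((1 - e) * H + e) ^ Nn = 1 := by rw [hu, hH]; ring
    have := pow_gcd_eq_one.2 ⟨hu2, hj⟩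
    rw [Nat.Coprime.gcd_eq_one (Nat.Coprime.pow_right _ (hNn ▸ hg)), pow_one] at this
    linear_combination this
  have hne1 : (1 - e) * (G * G) = 1 - e := by
    refine hone _ (by rw [mul_pow, hGN, one_mul]) ⟨2 * k, ?_⟩
    have hnil : ((1 - e) * (G * G) + e - 1) ^ (2 * k) = 0 := by
      have h1 : (1 - e) * (G * G) + e - 1 = (1 - e) * ((G - σ G) * G) := by linear_combination (1 - e) * hσG
      rw [h1, mul_pow, mul_pow, show (G - σ G) ^ (2 * k) = e by rw [he, pow_mul, sq],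
        show (1 - e) ^ (2 * k) = 1 - e from IsIdempotentElem.pow_eq (IsIdempotentElem.one_sub hid) (by omega)]
      linear_combination (-G ^ (2 * k)) * hid
    have h2 := pow_eq_zero_of_le (Nat.lt_pow_self (n := 2 * k) (Fact.out : p.Prime).one_lt).le hnil
    rwa [sub_pow_char_pow, one_pow, sub_eq_zero] at h2
  -- Hilbert 90 on the part where g - g⁻¹ is invertible
  let I : Ideal R := Ideal.span {1 - e}
  have hI : I ≤ RingHom.ker ((Ideal.Quotient.mk I).comp σ) := by
    rw [Ideal.span_le, Set.singleton_subset_iff, SetLike.mem_coe, RingHom.mem_ker, RingHom.comp_apply, map_sub,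
      map_one, hσe, Ideal.Quotient.eq_zero_iff_mem]
    exact Ideal.subset_span rfl
  let σ' : R ⧸ I →+* R ⧸ I := Ideal.Quotient.lift I ((Ideal.Quotient.mk I).comp σ) hI
  haveI : Finite (R ⧸ I) := Finite.of_surjective _ Ideal.Quotient.mk_surjective
  have hσ' : ∀ X, σ' (Ideal.Quotient.mk I X) = Ideal.Quotient.mk I (σ X) := fun X => rfl
  have he1 : Ideal.Quotient.mk I e = 1 := by
    rw [← map_one (Ideal.Quotient.mk I), Ideal.Quotient.eq, show e - 1 = -(1 - e) by ring]
    exact I.neg_mem (Ideal.subset_span rfl)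
  have hω : IsUnit (Ideal.Quotient.mk I G - σ' (Ideal.Quotient.mk I G)) := by
    rw [hσ', ← map_sub]
    refine IsUnit.of_pow_eq_one (n := 2 * k) ?_ (by omega)
    rw [← map_pow, pow_mul, sq, ← he, he1]
  have h90 : ∀ b b' : R, b * b' = 1 → σ b * b = 1 → ∃ c d : R, e * (b * σ c) = e * c ∧ e * (c * d) = e := by
    intro b b' hb hbσ
    obtain ⟨c, hc⟩ := UnitaryConj.h90_exists σ' (fun X => by
        obtain ⟨X, rfl⟩ := Ideal.Quotient.mk_surjective X
        rw [hσ', hσ', hσσ]) _ hω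
      ((IsUnit.of_mul_eq_one b' hb).map (Ideal.Quotient.mk I)).unit (by
        rw [IsUnit.unit_spec, hσ', ← map_mul, hbσ, map_one])
    obtain ⟨c', hc'⟩ := Ideal.Quotient.mk_surjective (c : R ⧸ I)
    obtain ⟨d, hd⟩ := Ideal.Quotient.mk_surjective ((c⁻¹ : (R ⧸ I)ˣ) : R ⧸ I)
    have hcd : Ideal.Quotient.mk I (c' * d) = Ideal.Quotient.mk I 1 := by rw [map_mul, hc', hd, Units.mul_inv, map_one]
    rw [Ideal.Quotient.eq, Ideal.mem_span_singleton'] at hcd
    obtain ⟨z, hz⟩ := hcd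
    rw [← hc', hσ', IsUnit.unit_spec, ← map_mul, Ideal.Quotient.eq, Ideal.mem_span_singleton'] at hc
    obtain ⟨w, hw⟩ := hc
    exact ⟨c', d, by linear_combination -e * hw - w * hid, by linear_combination -e * hz - z * hid⟩
  -- the form on e
  have hσZ : σ ZR * ZR = 1 := Subtype.ext (by
    rw [hZRd]
    show τ Z * Z = 1
    rw [hτZ]; exact mul_eq_one_comm.1 hZim)
  obtain ⟨c, d, hc, hcd⟩ := h90 ZR Zi hZi hσZ
  obtain ⟨Me, hMe⟩ : ∃ Me, Me = Pm * ((e * G * c : R) : Matrix (Fin (n + n)) (Fin (n + n)) K) - (Pm * ((e * G * c : R) : Matrix (Fin (n + n)) (Fin (n + n)) K))ᵀ := ⟨_, rfl⟩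
  have hMe2 : Me = Pm * ((e * (c * (G - σ G)) : R) : Matrix (Fin (n + n)) (Fin (n + n)) K) := by
    rw [hMe, Matrix.transpose_mul, ← hPZ, ← mul_assoc, ← hPσ, mul_assoc Pm, ← mul_sub]
    congr 1
    have : (e * G * c) - σ (e * G * c) * ZR = e * (c * (G - σ G)) := by
      rw [map_mul, map_mul, hσe]
      linear_combination (-σ G) * hc
    have := congrArg Subtype.val this
    rw [hZRd] at this
    exact this
  -- eigenvalue split of the rest
  obtain ⟨f1, f2, hf1, hf2, hf12, hsum, hs1, hs2, hσ1, hσ2, hGf⟩ : ∃ f1 f2 : R, f1 * f1 = f1 ∧ f2 * f2 = f2 ∧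
      f1 * f2 = 0 ∧ f1 + f2 = 1 - e ∧ f1 * G = f1 ∧ f2 * G = -f2 ∧ σ f1 = f1 ∧ σ f2 = f2 ∧
      ((2 : K) = 0 → f2 = 0) := by
    have hsGfix : (1 - e) * σ G = (1 - e) * G := by linear_combination -(σ G) * hne1 + (1 - e) * G * hσG
    by_cases h2 : (2 : K) = 0
    · refine ⟨1 - e, 0, by linear_combination hid, by ring, by ring, add_zero _, ?_, by ring,
        by rw [map_sub, map_one, hσe], map_zero _, fun _ => rfl⟩
      have h20 : (2 : R) = 0 := by
        have := congrArg (algebraMap K R) h2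
        rwa [map_ofNat, map_zero] at this
      have hp : p = 2 := by
        have h2' : ((2 : ℕ) : K) = 0 := by exact_mod_cast h2
        exact ((Nat.prime_dvd_prime_iff_eq Fact.out Nat.prime_two).1 ((CharP.cast_eq_zero_iff K p 2).1 h2'))
      refine hone G hGN ⟨1, ?_⟩
      rw [hp, pow_one]
      linear_combination (1 - e) * hne1 + ((1 - e) * G * e + e * e - e) * h20
    · obtain ⟨c, hc⟩ : ∃ c : R, c * 2 = 1 := ⟨algebraMap K R 2⁻¹, by
        rw [← map_ofNat (algebraMap K R) 2, ← map_mul, inv_mul_cancel₀ h2, map_one]⟩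
      have hσc : σ c = c := by
        have h3 := congrArg σ hc
        rw [map_mul, map_ofNat, map_one] at h3
        linear_combination c * h3 - σ c * hc
      refine ⟨(1 - e) * (c * (1 + G)), (1 - e) * (c * (1 - G)), ?_, ?_, ?_, ?_, ?_, ?_, ?_, ?_, fun h => absurd h h2⟩
      · linear_combination c * c * (1 + G) * (1 + G) * hid + c * c * hne1 + (1 - e) * c * (1 + G) * hc
      · linear_combination c * c * (1 - G) * (1 - G) * hid + c * c * hne1 + (1 - e) * c * (1 - G) * hc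
      · linear_combination c * c * (1 + G) * (1 - G) * hid - c * c * hne1
      · linear_combination (1 - e) * hc
      · linear_combination c * hne1
      · linear_combination -c * hne1
      · rw [map_mul, map_mul, map_add, map_one, map_sub, map_one, hσe, hσc]; linear_combination c * hsGfix
      · rw [map_mul, map_mul, map_sub, map_sub, map_one, hσe, hσc]; linear_combination -c * hsGfix
  have he1' : e * f1 = 0 := by linear_combination f1 * hsum - hf1 - hf12
  have he2' : e * f2 = 0 := by linear_combination f2 * hsum - hf2 - hf12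
  have hco : ∀ u v : R, (u : Matrix (Fin (n + n)) (Fin (n + n)) K) * v = v * u := fun u v => congrArg Subtype.val (mul_comm u v)
  have hfT : ∀ f : R, σ f = f → (f : Matrix (Fin (n + n)) (Fin (n + n)) K)ᵀ * Pm = Pm * f := fun f h => by
    rw [← hPσ, h]
  have haltMe : ∀ u, u ⬝ᵥ (Me *ᵥ u) = 0 := fun u => by
    rw [hMe, Matrix.sub_mulVec, dotProduct_sub, Matrix.dotProduct_mulVec u (_)ᵀ, Matrix.vecMul_transpose,
      dotProduct_comm (_ *ᵥ u), sub_self]
  have hMek : ∀ v, Me *ᵥ v = 0 → (e : Matrix (Fin (n + n)) (Fin (n + n)) K) *ᵥ v = 0 := by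
    intro v hv
    rw [hMe2, ← Matrix.mulVec_mulVec] at hv
    have h1 := congrArg (fun w => Pi' *ᵥ w) hv
    simp only [Matrix.mulVec_mulVec, ← mul_assoc, hPP', one_mul, Matrix.mulVec_zero] at h1
    obtain ⟨u, hu⟩ : ∃ u : R, e * c * (G - σ G) * u = e := by
      refine ⟨d * ((G - σ G) ^ (2 * k - 1)), ?_⟩
      have h2 : (G - σ G) * (G - σ G) ^ (2 * k - 1) = e := by
        rw [← pow_succ', show 2 * k - 1 + 1 = 2 * k by omega, he, pow_mul, sq]
      linear_combination (G - σ G) * (G - σ G) ^ (2 * k - 1) * hcd + e * h2 + hid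
    have h3 := congrArg (fun w => (u : Matrix (Fin (n + n)) (Fin (n + n)) K) *ᵥ w) h1
    simp only [Matrix.mulVec_mulVec, Matrix.mulVec_zero, ← MulMemClass.coe_mul] at h3
    rwa [mul_comm u, hu] at h3
  -- ranks
  obtain ⟨ke, hke, -⟩ := form_basis (f := (e : Matrix (Fin (n + n)) (Fin (n + n)) K)) (M := Me) (fun w hw h => by
      have h1 : w ᵥ* Me = 0 := funext fun i => by
        have := h (Pi.single i 1)
        rw [Matrix.mulVec_mulVec, show Me * (e : Matrix (Fin (n + n)) (Fin (n + n)) K) = Me by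
          rw [hMe2, mul_assoc, ← MulMemClass.coe_mul,
            show e * (c * (G - σ G)) * e = e * (c * (G - σ G)) by linear_combination (c * (G - σ G)) * hid],
          Matrix.dotProduct_mulVec, dotProduct_single_one] at this
        exact this
      have h2 : Me *ᵥ w = 0 := by
        have hT : Meᵀ = -Me := by rw [hMe, Matrix.transpose_sub, Matrix.transpose_transpose, neg_sub]
        rw [← Matrix.vecMul_transpose, hT, Matrix.vecMul_neg, h1, neg_zero]
      rw [← hw, hMek w h2]) (congrArg Subtype.val hid) haltMe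
  have hsum3 : finrank K (LinearMap.range (f1 : Matrix (Fin (n + n)) (Fin (n + n)) K).mulVecLin) +
      finrank K (LinearMap.range (f2 : Matrix (Fin (n + n)) (Fin (n + n)) K).mulVecLin) + 2 * ke = n + n ∧
      Even (finrank K (LinearMap.range (f2 : Matrix (Fin (n + n)) (Fin (n + n)) K).mulVecLin)) := by
    have hA := finrank_split (e := (e : Matrix (Fin (n + n)) (Fin (n + n)) K))
      (f := ((f1 + f2 : R) : Matrix (Fin (n + n)) (Fin (n + n)) K))
      (congrArg Subtype.val (show e + (f1 + f2) = 1 by linear_combination hsum)) (congrArg Subtype.val hid)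
    have hB : LinearMap.range ((f1 + f2 : R) : Matrix (Fin (n + n)) (Fin (n + n)) K).mulVecLin =
        LinearMap.range (f1 : Matrix (Fin (n + n)) (Fin (n + n)) K).mulVecLin ⊔
          LinearMap.range (f2 : Matrix (Fin (n + n)) (Fin (n + n)) K).mulVecLin := by
      refine le_antisymm ?_ (sup_le ?_ ?_)
      · rintro _ ⟨u, rfl⟩
        rw [Matrix.mulVecLin_apply, AddMemClass.coe_add, Matrix.add_mulVec]
        exact Submodule.add_mem_sup ⟨u, rfl⟩ ⟨u, rfl⟩
      · rintro _ ⟨u, rfl⟩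
        refine ⟨(f1 : Matrix (Fin (n + n)) (Fin (n + n)) K) *ᵥ u, ?_⟩
        rw [Matrix.mulVecLin_apply, Matrix.mulVecLin_apply, Matrix.mulVec_mulVec, ← MulMemClass.coe_mul,
          show (f1 + f2) * f1 = f1 by linear_combination hf1 + hf12]
      · rintro _ ⟨u, rfl⟩
        refine ⟨(f2 : Matrix (Fin (n + n)) (Fin (n + n)) K) *ᵥ u, ?_⟩
        rw [Matrix.mulVecLin_apply, Matrix.mulVecLin_apply, Matrix.mulVec_mulVec, ← MulMemClass.coe_mul,
          show (f1 + f2) * f2 = f2 by linear_combination hf2 + hf12]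
    have hC : LinearMap.range (f1 : Matrix (Fin (n + n)) (Fin (n + n)) K).mulVecLin ⊓
          LinearMap.range (f2 : Matrix (Fin (n + n)) (Fin (n + n)) K).mulVecLin = ⊥ := by
      refine eq_bot_iff.2 ?_
      rintro w ⟨⟨u, hu⟩, ⟨v, hv⟩⟩
      rw [Submodule.mem_bot]
      rw [Matrix.mulVecLin_apply] at hu hv
      have h1 : (f1 : Matrix (Fin (n + n)) (Fin (n + n)) K) *ᵥ w = w := by
        rw [← hu, Matrix.mulVec_mulVec, ← MulMemClass.coe_mul, hf1]
      rw [← h1, ← hv, Matrix.mulVec_mulVec, ← MulMemClass.coe_mul, hf12, ZeroMemClass.coe_zero, Matrix.zero_mulVec]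
    have hD := Submodule.finrank_sup_add_finrank_inf_eq
      (LinearMap.range (f1 : Matrix (Fin (n + n)) (Fin (n + n)) K).mulVecLin)
      (LinearMap.range (f2 : Matrix (Fin (n + n)) (Fin (n + n)) K).mulVecLin)
    rw [hC, finrank_bot, ← hB] at hD
    refine ⟨by omega, ?_⟩
    by_cases h2 : (2 : K) = 0
    · rw [hGf h2, ZeroMemClass.coe_zero, show (0 : Matrix (Fin (n + n)) (Fin (n + n)) K).mulVecLin = 0 from
        LinearMap.ext fun v => Matrix.zero_mulVec v, LinearMap.range_zero, finrank_bot]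
      exact ⟨0, rfl⟩
    obtain ⟨c', d', hc', hcd'⟩ := h90 G (σ G) (by rw [mul_comm]; exact hσG) hσG
    have key : G * (e * σ c' + (1 - e)) = (e * c' + (1 - e)) * (1 - f2 - f2) := by
      linear_combination hc' + hs1 + hs2 + (1 - G) * hsum + 2 * c' * he2' - 2 * he2'
    have hu : IsUnit (e * c' + (1 - e)) := by
      refine IsUnit.of_mul_eq_one (e * d' + (1 - e)) ?_
      linear_combination hcd' + (1 - c' - d' + c' * d') * hid
    have hd := congrArg (fun X : R => (X : Matrix (Fin (n + n)) (Fin (n + n)) K).det) key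
    simp only [MulMemClass.coe_mul, Matrix.det_mul, hG, hdet, one_mul] at hd
    rw [show (e * σ c' + (1 - e)) = σ (e * c' + (1 - e)) by rw [map_add, map_mul, map_sub, map_one, hσe], hdetσ] at hd
    have hne : ((e * c' + (1 - e) : R) : Matrix (Fin (n + n)) (Fin (n + n)) K).det ≠ 0 :=
      ((Matrix.isUnit_iff_isUnit_det _).1 (hu.map R.val.toRingHom)).ne_zero
    have hm := mul_left_cancel₀ hne ((mul_one _).trans hd)
    rw [AddSubgroupClass.coe_sub, AddSubgroupClass.coe_sub, OneMemClass.coe_one, det_reflect (congrArg Subtype.val hf2)] at hm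
    by_contra hodd
    rw [Nat.not_even_iff_odd.1 hodd |>.neg_one_pow] at hm
    exact h2 (by linear_combination hm)
  obtain ⟨hsum', k2, hk2⟩ := hsum3
  obtain ⟨Q2, q2a, q2b, q2c, q2d⟩ := alt_form (congrArg Subtype.val hf2) (k := k2) (hk2.trans (by omega))
  obtain ⟨Q1, q1a, q1b, q1c, q1d⟩ := alt_form (congrArg Subtype.val hf1) (k := n - k2 - ke) (by omega)
  refine ⟨Me + Q1 + Q2, fun u => ?_, fun v hv => ?_, ?_⟩
  · rw [Matrix.add_mulVec, Matrix.add_mulVec, dotProduct_add, dotProduct_add, haltMe, q1c, q2c, add_zero, add_zero]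
  · have hMeT : ∀ f : R, σ f = f → e * f = 0 → (f : Matrix (Fin (n + n)) (Fin (n + n)) K)ᵀ * Me = 0 := fun f h h' => by
      rw [hMe2, ← mul_assoc, hfT f h, mul_assoc, ← MulMemClass.coe_mul,
        show f * (e * (c * (G - σ G))) = 0 by linear_combination (c * (G - σ G)) * h', ZeroMemClass.coe_zero, mul_zero]
    have hQT : ∀ (f f' : R) (Q : Matrix (Fin (n + n)) (Fin (n + n)) K), (f' : Matrix (Fin (n + n)) (Fin (n + n)) K)ᵀ * Q = Q →
        f' * f = 0 → (f : Matrix (Fin (n + n)) (Fin (n + n)) K)ᵀ * Q = 0 := fun f f' Q h h' => by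
      rw [← h, ← mul_assoc, ← Matrix.transpose_mul, ← MulMemClass.coe_mul, h', ZeroMemClass.coe_zero,
        Matrix.transpose_zero, zero_mul]
    have a1 : Q1 *ᵥ v = 0 := by
      have := congrArg (fun w => (f1 : Matrix (Fin (n + n)) (Fin (n + n)) K)ᵀ *ᵥ w) hv
      simp only [Matrix.mulVec_mulVec, mul_add, hMeT f1 hσ1 he1', q1a, hQT f1 f2 Q2 q2a ((mul_comm f2 f1).trans hf12),
        zero_add, add_zero, Matrix.mulVec_zero] at this
      exact this
    have a2 : Q2 *ᵥ v = 0 := by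
      have := congrArg (fun w => (f2 : Matrix (Fin (n + n)) (Fin (n + n)) K)ᵀ *ᵥ w) hv
      simp only [Matrix.mulVec_mulVec, mul_add, hMeT f2 hσ2 he2', q2a, hQT f2 f1 Q1 q1a hf12,
        zero_add, add_zero, Matrix.mulVec_zero] at this
      exact this
    rw [Matrix.add_mulVec, Matrix.add_mulVec, a1, a2, add_zero, add_zero] at hv
    have h1 : ((e : Matrix (Fin (n + n)) (Fin (n + n)) K) + (f1 : Matrix (Fin (n + n)) (Fin (n + n)) K) + (f2 : Matrix (Fin (n + n)) (Fin (n + n)) K)) *ᵥ v = 0 := by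
      rw [Matrix.add_mulVec, Matrix.add_mulVec, hMek v hv, q1d v a1, q2d v a2, add_zero, add_zero]
    rwa [← AddMemClass.coe_add, ← AddMemClass.coe_add, show e + f1 + f2 = 1 by linear_combination hsum,
      OneMemClass.coe_one, Matrix.one_mulVec] at h1
  · have hq : ∀ (f : R) (s : K) (Q : Matrix (Fin (n + n)) (Fin (n + n)) K), s * s = 1 →
        (f : Matrix (Fin (n + n)) (Fin (n + n)) K) * gm = s • (f : Matrix (Fin (n + n)) (Fin (n + n)) K) →
        (f : Matrix (Fin (n + n)) (Fin (n + n)) K)ᵀ * Q = Q → Q * f = Q → gmᵀ * Q * gm = Q := fun f s Q hs hf ha hb => by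
      conv_lhs => rw [← ha, ← hb]
      simp only [← mul_assoc]
      rw [mul_assoc _ (f : Matrix (Fin (n + n)) (Fin (n + n)) K) gm, hf, ← Matrix.transpose_mul, hf, Matrix.transpose_smul,
        Matrix.mul_smul, Matrix.smul_mul, Matrix.smul_mul, smul_smul, hs, one_smul, ha, hb]
    rw [mul_add, mul_add, add_mul, add_mul, hq f1 1 Q1 (mul_one 1) (by
        rw [one_smul]; have := congrArg Subtype.val hs1; rw [hG] at this; exact this) q1a q1b,
      hq f2 (-1) Q2 (by ring) (by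
        rw [neg_one_smul]; have := congrArg Subtype.val hs2; rw [hG] at this; exact this) q2a q2b]
    congr 2
    have hG' : gm = (G : Matrix (Fin (n + n)) (Fin (n + n)) K) := by rw [hG]
    rw [hMe2, hG', ← mul_assoc, ← hPσ, mul_assoc Pm, mul_assoc Pm, ← MulMemClass.coe_mul, ← MulMemClass.coe_mul,
      show σ G * (e * (c * (G - σ G))) * G = e * (c * (G - σ G)) by linear_combination (e * (c * (G - σ G))) * hσG]

end CfsgLib.Lie.SpSemiExist
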