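import Cfsg.Agent.Lie.OrthUnit
import Cfsg.Agent.Lie.SpMax

/-!
A quadratic extension anti-selfadjoint for the alternating form: the normaliser is maximal in the symplectic
group in odd characteristic.
-/

set_option autoImplicit false
set_option linter.unusedSimpArgs false
set_option linter.unusedSectionVars false

namespace CfsgLib.Lie.SpUnit

open Matrix
open CfsgLib.Lie.OrthMaxSp (tvGL tvGL_mulVec tvGL_mem tvGL_smul tvGL_mul tvGL_zero conj_tvGL mem_spGL gl_ext)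
open CfsgLib.Lie.SpMax (Full full_smul full_map full_move full_sub full_zero)
open CfsgLib.Lie.OrthUnit (KL mem_KL self_mem J_mem finrank_KL perp_apply le_perp_KL finrank_sup_le finrank_single
  sep hyp)
open CfsgLib.Lie.OrthFull (perpW exists_rep_in)

variable {m : ℕ} {F : Type*} [Field F] [Fintype F]

/-- the setting -/
structure SCtx (J : Sp.V m F →ₗ[F] Sp.V m F) (d : F) : Prop where
  sq : ∀ x, J (J x) = d • x
  adj : ∀ x y, Sp.bf m F (J x) y = - Sp.bf m F x (J y)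
  noeig : ∀ (x : Sp.V m F) (c : F), J x = c • x → x = 0
  h2 : (2 : F) ≠ 0
  h7 : 7 ≤ m

variable {J : Sp.V m F →ₗ[F] Sp.V m F} {d : F}

/-- the norm form -/
noncomputable def hf (J : Sp.V m F →ₗ[F] Sp.V m F) : QuadraticForm F (Sp.V m F) :=
  LinearMap.BilinMap.toQuadraticMap ((Sp.bf m F).compl₂ J)

theorem hf_apply (x : Sp.V m F) : hf J x = Sp.bf m F x (J x) := rfl

namespace SCtx

variable (C : SCtx J d)
include C

theorem hf_polar (u v : Sp.V m F) : QuadraticMap.polar (⇑(hf J)) u v = 2 * Sp.bf m F u (J v) := by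
  simp only [QuadraticMap.polar, hf_apply, map_add, LinearMap.add_apply]
  rw [Sp.bf_swap (J u) v, C.adj u v]
  ring

theorem d_ne : d ≠ 0 := fun h => by
  obtain ⟨i⟩ : Nonempty (Fin m) := ⟨⟨0, by have := C.h7; omega⟩⟩
  have h1 : J (Sp.e i) = 0 := C.noeig _ 0 (by rw [C.sq, h, zero_smul, zero_smul])
  have h2 := C.noeig (Sp.e i) 0 (by rw [h1, zero_smul])
  exact one_ne_zero (α := F) (by simpa [Sp.e] using congrFun h2 (.inl i))

theorem hf_nd : (QuadraticMap.polarBilin (hf J)).Nondegenerate := by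
  have key : ∀ x : Sp.V m F, (∀ y, QuadraticMap.polar (⇑(hf J)) x y = 0) → x = 0 := by
    intro x hx
    by_contra h0
    obtain ⟨z, hz⟩ := Sp.exists_bf_eq_one h0
    have h1 := hx (d⁻¹ • J z)
    rw [C.hf_polar, map_smul, C.sq, smul_smul, inv_mul_cancel₀ C.d_ne, one_smul, hz, mul_one] at h1
    exact C.h2 h1
  refine ⟨fun x hx => key x hx, fun x hx => key x fun y => ?_⟩
  rw [QuadraticMap.polar_comm]
  exact hx y

theorem toCtx : OrthUnit.Ctx (hf J) J 0 (-d) := by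
  refine ⟨fun x => by rw [C.sq]; simp, fun x y => ?_, fun x => ?_, fun x => ?_, C.noeig, ?_⟩
  · simp only [C.hf_polar]
    rw [C.adj x (J y), C.sq, map_smul, smul_eq_mul]; ring
  · rw [hf_apply, hf_apply, C.sq, map_smul, smul_eq_mul, Sp.bf_swap x (J x)]; ring
  · rw [C.hf_polar, C.sq, map_smul, Sp.bf_self, smul_zero, mul_zero, zero_mul]
  · rw [Fintype.card_sum, Fintype.card_fin]; have := C.h7; omega

theorem bf_J (x y : Sp.V m F) : Sp.bf m F (J x) (J y) = -(d * Sp.bf m F x y) := by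
  rw [C.adj, C.sq, map_smul, smul_eq_mul]

theorem bf_symm (x y : Sp.V m F) : Sp.bf m F y (J x) = Sp.bf m F x (J y) := by
  rw [Sp.bf_swap (J x) y, C.adj, neg_neg]

theorem bf_zero {v p q : Sp.V m F} (hq : q ∈ perpW (hf J) (KL J v)) (hp : p ∈ KL J v) :
    Sp.bf m F p q = 0 ∧ Sp.bf m F p (J q) = 0 := by
  constructor
  · have h1 := perp_apply hq (C.toCtx.J_stab hp)
    rw [C.hf_polar, C.bf_J] at h1
    have h3 := (mul_eq_zero.1 h1).resolve_left C.h2
    exact (mul_eq_zero.1 (neg_eq_zero.1 h3)).resolve_left C.d_ne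
  · have h1 := perp_apply hq hp
    rw [C.hf_polar] at h1
    exact (mul_eq_zero.1 h1).resolve_left C.h2

theorem iso_KL {v p : Sp.V m F} (hv : hf J v = 0) (hp : p ∈ KL J v) : hf J p = 0 := C.toCtx.singular_KL hv hp

end SCtx

/-- the root of the extension -/
noncomputable def gv (J : Sp.V m F →ₗ[F] Sp.V m F) (d : F) (u : Sp.V m F) (c : F) : GL (Fin m ⊕ Fin m) F :=
  tvGL (J u) c * tvGL u (-(d * c))

/-- its displacement -/
noncomputable def mvS (J : Sp.V m F →ₗ[F] Sp.V m F) (d : F) (u z : Sp.V m F) : Sp.V m F :=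
  Sp.bf m F z (J u) • J u - (d * Sp.bf m F z u) • u

theorem gv_mem (u : Sp.V m F) (c : F) : gv J d u c ∈ Cfsg.spGL m F :=
  mul_mem (tvGL_mem _ _) (tvGL_mem _ _)

theorem gv_act {u : Sp.V m F} (hu : hf J u = 0) (c : F) (z : Sp.V m F) :
    (gv J d u c : Matrix (Fin m ⊕ Fin m) (Fin m ⊕ Fin m) F) *ᵥ z = z + c • mvS J d u z := by
  rw [gv, Units.val_mul, ← Matrix.mulVec_mulVec, tvGL_mulVec, tvGL_mulVec, mvS]
  rw [hf_apply] at hu
  simp only [map_add, map_smul, LinearMap.add_apply, LinearMap.smul_apply, hu, smul_eq_mul, mul_zero, add_zero]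
  match_scalars <;> ring

theorem mvS_mem (u z : Sp.V m F) : mvS J d u z ∈ KL J u :=
  sub_mem ((KL J u).smul_mem _ (J_mem u)) ((KL J u).smul_mem _ (self_mem u))

theorem gv_comm (C : SCtx J d) {u : Sp.V m F} (hu : hf J u = 0) (c : F) (z : Sp.V m F) :
    (gv J d u c : Matrix (Fin m ⊕ Fin m) (Fin m ⊕ Fin m) F) *ᵥ J z =
      J ((gv J d u c : Matrix (Fin m ⊕ Fin m) (Fin m ⊕ Fin m) F) *ᵥ z) := by
  rw [gv_act hu, gv_act hu, mvS, mvS, C.bf_J, C.adj z u]
  simp only [map_add, map_smul, map_sub, C.sq]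
  match_scalars <;> ring

theorem bf_mvS (u y : Sp.V m F) : Sp.bf m F y (mvS J d u y) =
    Sp.bf m F y (J u) * Sp.bf m F y (J u) - d * (Sp.bf m F y u * Sp.bf m F y u) := by
  rw [mvS, map_sub, map_smul, map_smul, smul_eq_mul, smul_eq_mul]; ring

theorem norm_ne (C : SCtx J d) {u y : Sp.V m F} (h : Sp.bf m F y (J u) ≠ 0 ∨ Sp.bf m F y u ≠ 0) :
    Sp.bf m F y (mvS J d u y) ≠ 0 := by
  rw [bf_mvS]
  intro h0
  by_cases hb : Sp.bf m F y u = 0
  · rw [hb, mul_zero, mul_zero, sub_zero, mul_self_eq_zero] at h0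
    exact h.elim (fun h1 => h1 h0) (fun h1 => h1 hb)
  · obtain ⟨s, hs⟩ : ∃ s, s = Sp.bf m F y (J u) / Sp.bf m F y u := ⟨_, rfl⟩
    have hd : d = s * s := by rw [hs]; field_simp; linear_combination -h0
    have h1 := C.noeig (J u + s • u) s (by rw [map_add, map_smul, C.sq, hd]; match_scalars <;> ring)
    have h2 := C.noeig u (-s) (by rw [neg_smul]; exact eq_neg_of_add_eq_zero_left h1)
    exact hb (by rw [h2, map_zero])

variable (C : SCtx J d) (M : Subgroup (GL (Fin m ⊕ Fin m) F))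

/-- the roots of the extension lie in `M` -/
def HasRoots (J : Sp.V m F →ₗ[F] Sp.V m F) (d : F) (M : Subgroup (GL (Fin m ⊕ Fin m) F)) : Prop :=
  ∀ u, hf J u = 0 → ∀ c : F, gv J d u c ∈ M

theorem gv_neg_act {u : Sp.V m F} (hu : hf J u = 0) (c : F) (z : Sp.V m F) :
    (gv J d u (-c) : Matrix (Fin m ⊕ Fin m) (Fin m ⊕ Fin m) F) *ᵥ z = z - c • mvS J d u z := by
  rw [gv_act hu, neg_smul, sub_eq_add_neg]

include C in
/-- a moved root yields a transvection -/
theorem exists_tv (hR : HasRoots J d M) (hMS : M ≤ Cfsg.spGL m F) {x y : Sp.V m F} (hx0 : x ≠ 0)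
    (hxy : Sp.bf m F x y = 0) (hy : y ∉ KL J x) (hA : ∀ s : F, tvGL y s * tvGL x (-(d * s)) ∈ M) :
    ∃ w, w ≠ 0 ∧ w ∈ Full M := by
  have hnd := C.hf_nd
  have h14 := C.toCtx.h14
  have hdx := finrank_KL (J := J) x
  obtain ⟨u1, hu1, hu1Q, hy1⟩ := sep hnd h14 (KL J x) (by omega) hy
  have hd1 := finrank_KL (J := J) u1
  have hS := finrank_sup_le (KL J x) (KL J u1)
  have hyS : y ∉ KL J x ⊔ KL J u1 := by
    intro h
    obtain ⟨k, hk, l, hl, rfl⟩ := Submodule.mem_sup.1 h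
    refine hy1 ?_
    rw [QuadraticMap.polar_add_left, perp_apply hu1 hk, QuadraticMap.polar_comm,
      perp_apply (C.toCtx.KL_perp hu1Q hl) (self_mem u1), add_zero]
  obtain ⟨u2, hu2, hu2Q, hy2, hu21⟩ : ∃ u2 ∈ perpW (hf J) (KL J x ⊔ KL J u1), hf J u2 = 0 ∧
      QuadraticMap.polar (⇑(hf J)) y u2 ≠ 0 ∧ u2 ∉ KL J u1 := by
    obtain ⟨q, hq, hqQ, hyq⟩ := sep hnd h14 _ (by omega) hyS
    by_cases hq1 : q ∈ KL J u1
    · obtain ⟨e, he, heQ, he1⟩ := C.toCtx.exists_out hnd (KL J x ⊔ KL J u1 ⊔ F ∙ y) (by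
        have := finrank_sup_le (KL J x ⊔ KL J u1) (F ∙ y)
        have := finrank_single y
        omega) (KL J u1) (by omega)
      refine ⟨q + e, fun z hz => ?_, ?_, ?_, fun h => he1 (by simpa using sub_mem h hq1)⟩
      · rw [QuadraticMap.polar_add_right, perp_apply hq hz, perp_apply he (Submodule.mem_sup_left hz), add_zero]
      · rw [OrthChar.map_add', hqQ, heQ, perp_apply he (Submodule.mem_sup_left (Submodule.mem_sup_right hq1))]
        ring
      · rwa [QuadraticMap.polar_add_right,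
          perp_apply he (Submodule.mem_sup_right (Submodule.mem_span_singleton_self y)), add_zero]
    · exact ⟨q, hq, hqQ, hyq, hq1⟩
  have hu20 : u2 ≠ 0 := fun h => hu21 (h ▸ zero_mem _)
  have hu2x : u2 ∈ perpW (hf J) (KL J x) := fun z hz => perp_apply hu2 (Submodule.mem_sup_left hz)
  have hu2u : u2 ∈ perpW (hf J) (KL J u1) := fun z hz => perp_apply hu2 (Submodule.mem_sup_right hz)
  obtain ⟨m1, hm1⟩ : ∃ m1, m1 = mvS J d u1 y := ⟨_, rfl⟩
  obtain ⟨m2, hm2⟩ : ∃ m2, m2 = mvS J d u2 y := ⟨_, rfl⟩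
  have hm1K : m1 ∈ KL J u1 := hm1 ▸ mvS_mem u1 y
  have hm2K : m2 ∈ KL J u2 := hm2 ▸ mvS_mem u2 y
  have hne : ∀ {u : Sp.V m F}, QuadraticMap.polar (⇑(hf J)) y u ≠ 0 → Sp.bf m F y (J u) ≠ 0 := fun {u} h hb =>
    h (by rw [C.hf_polar, hb, mul_zero])
  have hN1 : Sp.bf m F y m1 ≠ 0 := hm1 ▸ norm_ne C (Or.inl (hne hy1))
  have hN2 : Sp.bf m F y m2 ≠ 0 := hm2 ▸ norm_ne C (Or.inl (hne hy2))
  obtain ⟨w, hw⟩ : ∃ w, w = Sp.bf m F y m2 • m1 + (-Sp.bf m F y m1) • m2 := ⟨_, rfl⟩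
  have hyw : Sp.bf m F y w = 0 := by
    rw [hw, map_add, map_smul, map_smul, smul_eq_mul, smul_eq_mul]; ring
  have hxw : Sp.bf m F x w = 0 := by
    have h1 : ∀ {u p : Sp.V m F}, u ∈ perpW (hf J) (KL J x) → p ∈ KL J u → Sp.bf m F x p = 0 := by
      intro u p hu hp
      rw [Sp.bf_swap p x, (C.bf_zero (C.toCtx.perp_symm hu) hp).1, neg_zero]
    rw [hw, map_add, map_smul, map_smul, h1 hu1 hm1K, h1 hu2x hm2K]
    simp
  have hw0 : w ≠ 0 := by
    intro h0
    rw [hw] at h0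
    have hm10 : m1 ≠ 0 := fun h => hN1 (by rw [h, map_zero])
    have hm20 : m2 ≠ 0 := fun h => hN2 (by rw [h, map_zero])
    have h1 : m1 = (Sp.bf m F y m1 / Sp.bf m F y m2) • m2 := by
      rw [div_eq_inv_mul, ← smul_smul, eq_inv_smul_iff₀ hN2]
      rwa [neg_smul, ← sub_eq_add_neg, sub_eq_zero] at h0
    have h2 : m1 ∈ KL J u2 := h1 ▸ (KL J u2).smul_mem _ hm2K
    exact hu21 (C.toCtx.KL_le hm1K (C.toCtx.line h2 hm10))
  refine ⟨w, hw0, fun c => ?_⟩
  -- the two movers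
  have hmove : ∀ e : F, e = 1 ∨ e = -1 → ∀ s : F, tvGL (y + e • w) s * tvGL x (-(d * s)) ∈ M := by
    intro e he s
    obtain ⟨h, hh⟩ : ∃ h, h = gv J d u1 (e * Sp.bf m F y m2) * gv J d u2 (e * -Sp.bf m F y m1) := ⟨_, rfl⟩
    have hhM : h ∈ M := hh ▸ mul_mem (hR u1 hu1Q _) (hR u2 hu2Q _)
    have hfix : ∀ {u : Sp.V m F}, u ∈ perpW (hf J) (KL J x) → mvS J d u x = 0 := by
      intro u hu
      obtain ⟨h1, h2⟩ := C.bf_zero hu (self_mem x)
      rw [mvS, h1, h2]; simp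
    have hhx : (h : Matrix (Fin m ⊕ Fin m) (Fin m ⊕ Fin m) F) *ᵥ x = x := by
      rw [hh, Units.val_mul, ← Matrix.mulVec_mulVec, gv_act hu2Q, hfix hu2x, smul_zero, add_zero, gv_act hu1Q,
        hfix hu1, smul_zero, add_zero]
    have hhy : (h : Matrix (Fin m ⊕ Fin m) (Fin m ⊕ Fin m) F) *ᵥ y = y + e • w := by
      have hcross : mvS J d u1 m2 = 0 := by
        obtain ⟨h1, h2⟩ := C.bf_zero (C.toCtx.perp_symm hu2u) hm2K
        rw [mvS, h1, h2]; simp
      have hlin : mvS J d u1 (y + (e * -Sp.bf m F y m1) • m2) =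
          mvS J d u1 y + (e * -Sp.bf m F y m1) • mvS J d u1 m2 := by
        simp only [mvS, map_add, map_smul, LinearMap.add_apply, LinearMap.smul_apply, smul_eq_mul]
        match_scalars <;> ring
      rw [hh, Units.val_mul, ← Matrix.mulVec_mulVec, gv_act hu2Q, ← hm2, gv_act hu1Q, hlin, hcross, smul_zero,
        add_zero, ← hm1, hw]
      match_scalars <;> ring
    have h1 := mul_mem (mul_mem hhM (hA s)) (inv_mem hhM)
    rw [show h * (tvGL y s * tvGL x (-(d * s))) * h⁻¹ = h * tvGL y s * h⁻¹ * (h * tvGL x (-(d * s)) * h⁻¹) by group,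
      conj_tvGL (hMS hhM), conj_tvGL (hMS hhM), hhx, hhy] at h1
    exact h1
  obtain ⟨s, hs⟩ : ∃ s, 2 * s = c := ⟨c / 2, by field_simp [C.h2]⟩
  have hprod := mul_mem (mul_mem (hmove 1 (Or.inl rfl) s) (hmove (-1) (Or.inr rfl) s)) (hA (-(2 * s)))
  suffices heq : tvGL (y + (1 : F) • w) s * tvGL x (-(d * s)) * (tvGL (y + (-1 : F) • w) s * tvGL x (-(d * s))) *
      (tvGL y (-(2 * s)) * tvGL x (-(d * -(2 * s)))) = tvGL w c by rwa [heq] at hprod
  refine gl_ext fun z => ?_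
  simp only [Units.val_mul, ← Matrix.mulVec_mulVec, tvGL_mulVec]
  simp only [map_add, map_smul, map_neg, LinearMap.add_apply, LinearMap.smul_apply, LinearMap.neg_apply,
    one_smul, neg_smul, Sp.bf_self, hxy, hxw, hyw, Sp.bf_swap x y, Sp.bf_swap x w, Sp.bf_swap y w, smul_eq_mul,
    mul_zero, neg_zero, add_zero, zero_add]
  rw [← hs]
  match_scalars <;> ring

include C in
theorem step (hR : HasRoots J d M) (hMS : M ≤ Cfsg.spGL m F) {w u : Sp.V m F} (hw : w ∈ Full M)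
    (hu : hf J u = 0) (h : Sp.bf m F w (J u) ≠ 0 ∨ Sp.bf m F w u ≠ 0) : mvS J d u w ∈ Full M := by
  have h1 := full_map (hR u hu 1) (hMS (hR u hu 1)) hw
  rw [gv_act hu, one_smul] at h1
  have hne : Sp.bf m F (w + mvS J d u w) w ≠ 0 := by
    rw [map_add, LinearMap.add_apply, Sp.bf_self, zero_add, Sp.bf_swap w, neg_ne_zero]
    exact norm_ne C h
  have h2 := full_sub h1 hw hne
  rwa [add_sub_cancel_left] at h2

include C in
/-- an isotropic vector with prescribed values -/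
theorem vals {v x : Sp.V m F} (hv : v ≠ 0) (hx : x ∉ KL J v) (a1 a2 a3 a4 : F) :
    ∃ q, hf J q = 0 ∧ QuadraticMap.polar (⇑(hf J)) v q = a1 ∧ QuadraticMap.polar (⇑(hf J)) (J v) q = a2 ∧
      QuadraticMap.polar (⇑(hf J)) x q = a3 ∧ QuadraticMap.polar (⇑(hf J)) (J x) q = a4 := by
  have hnd := C.hf_nd
  have hx0 : x ≠ 0 := fun h => hx (h ▸ zero_mem _)
  have hv' : v ∉ KL J x := fun h => hx (C.toCtx.line h hv)
  have key : ∀ {v x : Sp.V m F}, v ≠ 0 → v ∉ KL J x →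
      v ∉ Submodule.span F {J v} ⊔ KL J x ∧ J v ∉ Submodule.span F {v} ⊔ KL J x := by
    intro v x hv hvx
    have hin : ∀ a b : F, a • v + b • J v ∈ KL J x → a • v + b • J v = 0 := fun a b h => by
      by_contra h0
      exact hvx (C.toCtx.KL_le h (C.toCtx.line (mem_KL.2 ⟨a, b, rfl⟩) h0))
    constructor
    · intro h
      obtain ⟨p, hp, k, hk, hpk⟩ := Submodule.mem_sup.1 h
      obtain ⟨t, rfl⟩ := Submodule.mem_span_singleton.1 hp
      have h0 := hin 1 (-t) (by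
        rw [one_smul, neg_smul, ← sub_eq_add_neg]
        nth_rewrite 1 [← hpk]
        rwa [add_sub_cancel_left])
      rw [one_smul, neg_smul, ← sub_eq_add_neg, sub_eq_zero] at h0
      rcases eq_or_ne t 0 with ht | ht
      · exact hv (by rw [h0, ht, zero_smul])
      · exact hv (C.noeig v t⁻¹ (by rw [eq_inv_smul_iff₀ ht]; exact h0.symm))
    · intro h
      obtain ⟨p, hp, k, hk, hpk⟩ := Submodule.mem_sup.1 h
      obtain ⟨t, rfl⟩ := Submodule.mem_span_singleton.1 hp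
      have h0 := hin (-t) 1 (by
        rw [one_smul, neg_smul]
        rw [show -(t • v) + J v = k by rw [← hpk, neg_add_cancel_left]]
        exact hk)
      rw [one_smul, neg_smul, neg_add_eq_zero] at h0
      exact hv (C.noeig v t h0.symm)
  obtain ⟨z1, hz1, hz1v⟩ := exists_rep_in hnd _ (key hv hv').1
  obtain ⟨z2, hz2, hz2v⟩ := exists_rep_in hnd _ (key hv hv').2
  obtain ⟨z3, hz3, hz3x⟩ := exists_rep_in hnd _ (key hx0 hx).1
  obtain ⟨z4, hz4, hz4x⟩ := exists_rep_in hnd _ (key hx0 hx).2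
  obtain ⟨p, hp⟩ : ∃ p, p = a1 • z1 + a2 • z2 + a3 • z3 + a4 • z4 := ⟨_, rfl⟩
  obtain ⟨e, he, f, hf', heQ, hfQ, hef⟩ := hyp hnd C.toCtx.h14 (KL J v ⊔ KL J x ⊔ F ∙ p) (by
    have := finrank_sup_le (KL J v ⊔ KL J x) (F ∙ p)
    have := finrank_sup_le (KL J v) (KL J x)
    have := finrank_single p
    have := finrank_KL (J := J) v
    have := finrank_KL (J := J) x
    omega)
  obtain ⟨r, hr⟩ : ∃ r, r = e + (-hf J p) • f := ⟨_, rfl⟩
  have hrp : r ∈ perpW (hf J) (KL J v ⊔ KL J x ⊔ F ∙ p) := hr ▸ add_mem he ((perpW (hf J) _).smul_mem _ hf')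
  have s1 : ∀ {z : Sp.V m F}, z ∈ KL J v → QuadraticMap.polar (⇑(hf J)) z r = 0 := fun hz =>
    perp_apply hrp (Submodule.mem_sup_left (Submodule.mem_sup_left hz))
  have s3 : ∀ {z : Sp.V m F}, z ∈ KL J x → QuadraticMap.polar (⇑(hf J)) z r = 0 := fun hz =>
    perp_apply hrp (Submodule.mem_sup_left (Submodule.mem_sup_right hz))
  have mv : v ∈ Submodule.span F {v} ⊔ KL J x := Submodule.mem_sup_left (Submodule.mem_span_singleton_self v)
  have mJv : J v ∈ Submodule.span F {J v} ⊔ KL J x := Submodule.mem_sup_left (Submodule.mem_span_singleton_self _)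
  have mx : x ∈ Submodule.span F {x} ⊔ KL J v := Submodule.mem_sup_left (Submodule.mem_span_singleton_self x)
  have mJx : J x ∈ Submodule.span F {J x} ⊔ KL J v := Submodule.mem_sup_left (Submodule.mem_span_singleton_self _)
  refine ⟨p + r, ?_, ?_, ?_, ?_, ?_⟩
  · rw [OrthChar.map_add', perp_apply hrp (Submodule.mem_sup_right (Submodule.mem_span_singleton_self p)), hr,
      OrthChar.map_add', OrthChar.map_smul', heQ, hfQ, QuadraticMap.polar_smul_right, hef]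
    simp
  · rw [QuadraticMap.polar_add_right, s1 (self_mem v), hp]
    simp only [QuadraticMap.polar_add_right, QuadraticMap.polar_smul_right, smul_eq_mul, hz1v, hz2 v mv,
      hz3 v (Submodule.mem_sup_right (self_mem v)), hz4 v (Submodule.mem_sup_right (self_mem v))]
    ring
  · rw [QuadraticMap.polar_add_right, s1 (J_mem v), hp]
    simp only [QuadraticMap.polar_add_right, QuadraticMap.polar_smul_right, smul_eq_mul, hz2v, hz1 (J v) mJv,
      hz3 (J v) (Submodule.mem_sup_right (J_mem v)), hz4 (J v) (Submodule.mem_sup_right (J_mem v))]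
    ring
  · rw [QuadraticMap.polar_add_right, s3 (self_mem x), hp]
    simp only [QuadraticMap.polar_add_right, QuadraticMap.polar_smul_right, smul_eq_mul, hz3x, hz4 x mx,
      hz1 x (Submodule.mem_sup_right (self_mem x)), hz2 x (Submodule.mem_sup_right (self_mem x))]
    ring
  · rw [QuadraticMap.polar_add_right, s3 (J_mem x), hp]
    simp only [QuadraticMap.polar_add_right, QuadraticMap.polar_smul_right, smul_eq_mul, hz4x, hz3 (J x) mJx,
      hz1 (J x) (Submodule.mem_sup_right (J_mem x)), hz2 (J x) (Submodule.mem_sup_right (J_mem x))]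
    ring

include C in
theorem all_full (hR : HasRoots J d M) (hMS : M ≤ Cfsg.spGL m F) {w : Sp.V m F} (hw0 : w ≠ 0) (hw : w ∈ Full M) :
    ∀ z, z ∈ Full M := by
  have hnd := C.hf_nd
  have h14 := C.toCtx.h14
  have h2d : 2 * d ≠ 0 := mul_ne_zero C.h2 C.d_ne
  obtain ⟨u, -, hu, hwu⟩ := sep hnd h14 ⊥ (by simp) (v := w) (by simpa using hw0)
  have hwu' : Sp.bf m F w (J u) ≠ 0 := fun h => hwu (by rw [C.hf_polar, h, mul_zero])
  obtain ⟨p, hp⟩ : ∃ p, p = mvS J d u w := ⟨_, rfl⟩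
  have hpF : p ∈ Full M := hp ▸ step C M hR hMS hw hu (Or.inl hwu')
  have hpQ : hf J p = 0 := C.iso_KL hu (hp ▸ mvS_mem u w)
  have hp0 : p ≠ 0 := fun h => norm_ne C (Or.inl hwu') (by rw [← hp, h, map_zero])
  -- isotropic neighbours
  have hiso : ∀ v ∈ Full M, ∀ q, hf J q = 0 → Sp.bf m F q (J v) = 0 → Sp.bf m F q v ≠ 0 → q ∈ Full M := by
    intro v hv q hq h0 h1
    have h1' : Sp.bf m F v q ≠ 0 := by rwa [Sp.bf_swap q v, neg_ne_zero]
    have h2 := step C M hR hMS hv hq (Or.inr h1')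
    rw [mvS, C.bf_symm, h0, zero_smul, zero_sub, ← neg_smul] at h2
    have hne : -(d * Sp.bf m F v q) ≠ 0 := neg_ne_zero.2 (mul_ne_zero C.d_ne h1')
    have h3 := full_smul h2 (-(d * Sp.bf m F v q))⁻¹
    rwa [smul_smul, inv_mul_cancel₀ hne, one_smul] at h3
  -- a hyperplane
  have hplane : ∀ v ∈ Full M, v ≠ 0 → ∀ z, z ∉ KL J v → Sp.bf m F z (J v) = 0 → Sp.bf m F z v ≠ 0 →
      z ∈ Full M := by
    intro v hv hv0 z hz h0 h1
    obtain ⟨q, hq, e1, e2, e3, e4⟩ := vals C hv0 hz 0 (-(2 * d * Sp.bf m F z v)) (hf J z) (-(2 * d))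
    rw [C.hf_polar] at e1 e2 e3 e4
    rw [C.bf_J] at e2 e4
    have q1 : Sp.bf m F q (J v) = 0 := by rw [C.bf_symm v q]; exact (mul_eq_zero.1 e1).resolve_left C.h2
    have q2 : Sp.bf m F q v = - Sp.bf m F z v := by
      rw [Sp.bf_swap v q]
      exact mul_left_cancel₀ h2d (by linear_combination e2 + 2 * 2 * d * 0)
    have q4 : Sp.bf m F z q = 1 := mul_left_cancel₀ h2d (by linear_combination -e4)
    have hqF : q ∈ Full M := hiso v hv q hq q1 (by rw [q2]; exact neg_ne_zero.2 h1)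
    have hrQ : hf J (z - q) = 0 := by
      rw [hf_apply] at hq e3 ⊢
      simp only [map_sub, LinearMap.sub_apply]
      rw [hq, C.bf_symm z q]
      linear_combination -e3
    have hrF : z - q ∈ Full M := hiso v hv _ hrQ
      (by rw [map_sub, LinearMap.sub_apply, h0, q1, sub_zero])
      (by
        rw [map_sub, LinearMap.sub_apply, q2, sub_neg_eq_add, ← two_mul]
        exact mul_ne_zero C.h2 h1)
    have h5 := full_move hrF hqF (by
      rw [map_sub, LinearMap.sub_apply, Sp.bf_self, sub_zero, q4]; exact one_ne_zero) 1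
    rwa [one_smul, sub_add_cancel] at h5
  have hgen : ∀ v ∈ Full M, v ≠ 0 → ∀ z, z ∉ KL J v → z ∈ Full M := by
    intro v hv hv0 z hz
    obtain ⟨q, hq, e1, e2, e3, e4⟩ := vals C hv0 hz 0 (2 * d) 0 (-(2 * d))
    rw [C.hf_polar] at e1 e2 e3 e4
    rw [C.bf_J] at e2 e4
    have q1 : Sp.bf m F q (J v) = 0 := by rw [C.bf_symm v q]; exact (mul_eq_zero.1 e1).resolve_left C.h2
    have q2 : Sp.bf m F q v = 1 := by
      rw [Sp.bf_swap v q]
      exact mul_left_cancel₀ h2d (by linear_combination e2)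
    have q3 : Sp.bf m F z (J q) = 0 := (mul_eq_zero.1 e3).resolve_left C.h2
    have q4 : Sp.bf m F z q = 1 := mul_left_cancel₀ h2d (by linear_combination -e4)
    have hqF : q ∈ Full M := hiso v hv q hq q1 (by rw [q2]; exact one_ne_zero)
    have hq0 : q ≠ 0 := fun h => one_ne_zero (α := F) (by rw [← q4, h, map_zero])
    refine hplane q hqF hq0 z (fun hzq => ?_) q3 (by rw [q4]; exact one_ne_zero)
    obtain ⟨a, b, rfl⟩ := mem_KL.1 hzq
    rw [map_add, LinearMap.add_apply, map_smul, map_smul, LinearMap.smul_apply, LinearMap.smul_apply, Sp.bf_self,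
      C.adj, ← hf_apply, hq] at q4
    simp at q4
  intro z
  by_cases hz : z ∈ KL J p
  swap
  · exact hgen p hpF hp0 z hz
  rcases eq_or_ne z 0 with rfl | hz0
  · exact full_zero
  obtain ⟨p2, -, -, hp2⟩ := C.toCtx.exists_out hnd ⊥ (by simp) (KL J p)
    (le_trans (finrank_KL p) (by norm_num))
  refine hgen p2 (hgen p hpF hp0 p2 hp2) (fun h => hp2 (h ▸ zero_mem _)) z fun h => hp2 ?_
  exact C.toCtx.KL_le hz (C.toCtx.line h hz0)

include C in
/-- an element not normalising the extension -/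
theorem exists_not_norm : ∃ g ∈ Cfsg.spGL m F, ¬ ∃ a b : F, ∀ x, (g : Matrix (Fin m ⊕ Fin m) (Fin m ⊕ Fin m) F) *ᵥ
    J (((g⁻¹ : GL (Fin m ⊕ Fin m) F) : Matrix (Fin m ⊕ Fin m) (Fin m ⊕ Fin m) F) *ᵥ x) = a • x + b • J x := by
  obtain ⟨v, hv⟩ : ∃ v : Sp.V m F, v ≠ 0 := by
    obtain ⟨i⟩ : Nonempty (Fin m) := ⟨⟨0, by have := C.h7; omega⟩⟩
    exact ⟨Sp.e i, fun h => one_ne_zero (α := F) (by simpa [Sp.e] using congrFun h (.inl i))⟩
  refine ⟨tvGL v 1, tvGL_mem v 1, fun ⟨a, b, hab⟩ => ?_⟩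
  have hi : ((tvGL v 1)⁻¹ : GL (Fin m ⊕ Fin m) F) = tvGL v (-1) :=
    inv_eq_of_mul_eq_one_right (by rw [tvGL_mul, add_neg_cancel, tvGL_zero])
  simp only [hi, tvGL_mulVec] at hab
  obtain ⟨x, hx, -, hxv⟩ := C.toCtx.exists_out C.hf_nd (KL J v) (le_trans (finrank_KL v) (by norm_num)) (KL J v)
    (le_trans (finrank_KL v) (by norm_num))
  have hx0 : x ≠ 0 := fun h => hxv (h ▸ zero_mem _)
  obtain ⟨e1, e2⟩ := C.bf_zero hx (self_mem v)
  have h1 := hab x
  have e1' : Sp.bf m F x v = 0 := by rw [Sp.bf_swap v x, e1, neg_zero]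
  rw [e1', mul_zero, zero_smul, add_zero, Sp.bf_swap v (J x), e2, neg_zero, mul_zero, zero_smul, add_zero] at h1
  have hb : b = 1 := by
    by_contra hb
    refine hx0 (C.noeig x ((1 - b)⁻¹ * a) ?_)
    have h2 : (1 - b) • J x = a • x := by
      rw [sub_smul, one_smul, sub_eq_iff_eq_add]
      exact h1
    rw [← smul_smul, ← h2, smul_smul, inv_mul_cancel₀ (sub_ne_zero.2 (Ne.symm hb)), one_smul]
  rw [hb, one_smul, right_eq_add, smul_eq_zero] at h1
  have ha := h1.resolve_right hx0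
  obtain ⟨z, hz⟩ := Sp.exists_bf_eq_one hv
  have h3 := hab z
  rw [ha, hb, Sp.bf_swap v z, hz, zero_smul, zero_add, one_smul, neg_mul, one_mul, neg_neg, one_smul, map_add,
    one_mul, add_assoc, add_eq_left] at h3
  refine hv (C.noeig v (-Sp.bf m F (J z + J v) v) ?_)
  rw [neg_smul]
  exact eq_neg_of_add_eq_zero_left h3

include C in
/-- a subgroup containing the roots and an element not normalising the extension is the whole group -/
theorem sp_unit_full (hR : HasRoots J d M) (hMS : M ≤ Cfsg.spGL m F) {g : GL (Fin m ⊕ Fin m) F} (hg : g ∈ M)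
    (hgn : ¬ ∃ a b : F, ∀ x, (g : Matrix (Fin m ⊕ Fin m) (Fin m ⊕ Fin m) F) *ᵥ
      J (((g⁻¹ : GL (Fin m ⊕ Fin m) F) : Matrix (Fin m ⊕ Fin m) (Fin m ⊕ Fin m) F) *ᵥ x) = a • x + b • J x) :
    Cfsg.spGL m F ≤ M := by
  obtain ⟨G, hG⟩ : ∃ G, G = (g : Matrix (Fin m ⊕ Fin m) (Fin m ⊕ Fin m) F) := ⟨_, rfl⟩
  obtain ⟨G', hG'⟩ : ∃ G', G' = ((g⁻¹ : GL (Fin m ⊕ Fin m) F) : Matrix (Fin m ⊕ Fin m) (Fin m ⊕ Fin m) F) := ⟨_, rfl⟩
  have hGG : ∀ z, G *ᵥ (G' *ᵥ z) = z := fun z => by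
    rw [hG, hG', Matrix.mulVec_mulVec, ← Units.val_mul, mul_inv_cancel, Units.val_one, Matrix.one_mulVec]
  have hGG' : ∀ z, G' *ᵥ (G *ᵥ z) = z := fun z => by
    rw [hG, hG', Matrix.mulVec_mulVec, ← Units.val_mul, inv_mul_cancel, Units.val_one, Matrix.one_mulVec]
  rw [← hG, ← hG'] at hgn
  obtain ⟨v, hv, hout⟩ : ∃ v, hf J v = 0 ∧ G *ᵥ J v ∉ KL J (G *ᵥ v) := by
    by_contra hc
    push Not at hc
    obtain ⟨φ, hφx⟩ : ∃ φ : Sp.V m F →ₗ[F] Sp.V m F, ∀ v, φ v = G' *ᵥ J (G *ᵥ v) :=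
      ⟨Matrix.toLin' G' ∘ₗ J ∘ₗ Matrix.toLin' G, fun v => by
        simp only [LinearMap.comp_apply, Matrix.toLin'_apply]⟩
    have hline : ∀ v, hf J v = 0 → φ v ∈ KL J v := by
      intro v hv
      rcases eq_or_ne v 0 with rfl | hv0
      · simp
      obtain ⟨a, b, hab⟩ := mem_KL.1 (hc v hv)
      have h1 := congrArg (fun z => G' *ᵥ z) hab
      simp only [hGG', Matrix.mulVec_add, Matrix.mulVec_smul] at h1
      have hb : b ≠ 0 := fun hb => by
        rw [hb, zero_smul, add_zero] at h1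
        exact hv0 (C.noeig v a h1.symm)
      refine mem_KL.2 ⟨-(b⁻¹ * a), b⁻¹, ?_⟩
      rw [hφx, ← h1, smul_add, smul_smul, smul_smul, inv_mul_cancel₀ hb, neg_smul, neg_add_cancel_left, one_smul]
    obtain ⟨a, b, hab⟩ := OrthUnit.line_map C.hf_nd C.toCtx φ hline
    simp only [hφx] at hab
    have h2 : ∀ y, J y = a • y + b • (G *ᵥ J (G' *ᵥ y)) := fun y => by
      have h := congrArg (fun z => G *ᵥ z) (hab (G' *ᵥ y))
      simp only [hGG, Matrix.mulVec_add, Matrix.mulVec_smul] at h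
      exact h
    by_cases hb : b = 0
    · obtain ⟨q, -, -, hq⟩ := C.toCtx.exists_out C.hf_nd ⊥ (by simp) ⊥ (by simp)
      rw [Submodule.mem_bot] at hq
      exact hq (C.noeig q a (by rw [h2 q, hb, zero_smul, add_zero]))
    · refine hgn ⟨-(b⁻¹ * a), b⁻¹, fun y => ?_⟩
      rw [h2 y, smul_add, smul_smul, smul_smul, inv_mul_cancel₀ hb, neg_smul, neg_add_cancel_left, one_smul]
  have hvv : Sp.bf m F v (J v) = 0 := hv
  obtain ⟨x, hx⟩ : ∃ x, x = G *ᵥ v := ⟨_, rfl⟩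
  obtain ⟨y, hy⟩ : ∃ y, y = G *ᵥ J v := ⟨_, rfl⟩
  have hv0 : v ≠ 0 := fun h => hout (by rw [h, map_zero, Matrix.mulVec_zero]; exact zero_mem _)
  have hx0 : x ≠ 0 := fun h => hv0 (by rw [← hGG' v, ← hx, h, Matrix.mulVec_zero])
  have hxy : Sp.bf m F x y = 0 := by
    rw [hx, hy, hG, mem_spGL.1 (hMS hg), hvv]
  rw [← hx, ← hy] at hout
  have hA : ∀ s : F, tvGL y s * tvGL x (-(d * s)) ∈ M := fun s => by
    have h1 := mul_mem (mul_mem hg (hR v hv s)) (inv_mem hg)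
    rw [gv, show g * (tvGL (J v) s * tvGL v (-(d * s))) * g⁻¹ =
      g * tvGL (J v) s * g⁻¹ * (g * tvGL v (-(d * s)) * g⁻¹) by group,
      conj_tvGL (hMS hg), conj_tvGL (hMS hg), ← hG, ← hx, ← hy] at h1
    exact h1
  obtain ⟨w, hw0, hw⟩ := exists_tv C M hR hMS hx0 hxy hout hA
  exact SpMax.le_of_full (all_full C M hR hMS hw0 hw)

end CfsgLib.Lie.SpUnit
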