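import Cfsg.Prelude.Def_GeometricClasses

/-!
Transvections separating two subspace stabilisers.
-/

set_option autoImplicit false

namespace CfsgLib.Lie.StabPair

open scoped Matrix MatrixGroups

variable {n : ℕ} {F : Type*} [Field F]

theorem exists_transvection (φ : (Fin n → F) →ₗ[F] F) (v : Fin n → F) (h : φ v = 0) :
    ∃ g ∈ Cfsg.Geo.specialLinear (Fin n) F, ∀ x, (g : Matrix (Fin n) (Fin n) F) *ᵥ x = x + φ x • v := by
  let r : Fin n → F := fun i => φ (Pi.single i 1)
  have hr : ∀ x, r ⬝ᵥ x = φ x := fun x => by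
    conv_rhs => rw [pi_eq_sum_univ' x]
    simp [dotProduct, r, map_sum, map_smul, mul_comm]
  let M : Matrix (Fin n) (Fin n) F := 1 + Matrix.vecMulVec v r
  have hd : M.det = 1 := by
    simp only [M, Matrix.vecMulVec_eq Unit]
    rw [Matrix.det_one_add_replicateCol_mul_replicateRow, hr, h, add_zero]
  refine ⟨Matrix.GeneralLinearGroup.mkOfDetNeZero M (by rw [hd]; exact one_ne_zero), Units.ext hd,
    fun x => ?_⟩
  change M *ᵥ x = _
  simp [M, Matrix.add_mulVec, Matrix.one_mulVec, Matrix.vecMulVec_mulVec, hr]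

theorem intermediate (W U : Submodule F (Fin n → F)) {g : GL (Fin n) F}
    (hg : g ∈ Cfsg.Geo.specialLinear (Fin n) F) (hgW : g ∈ Cfsg.Geo.subspaceStabilizer W)
    (hgU : g ∉ Cfsg.Geo.subspaceStabilizer U) (hW0 : W ≠ ⊥) (hW1 : W ≠ ⊤) :
    ∃ K : Subgroup (GL (Fin n) F), Cfsg.Geo.subspaceStabilizer W ⊓ Cfsg.Geo.subspaceStabilizer U ⊓
      Cfsg.Geo.specialLinear (Fin n) F < K ∧ K < Cfsg.Geo.specialLinear (Fin n) F := by
  refine ⟨Cfsg.Geo.subspaceStabilizer W ⊓ Cfsg.Geo.specialLinear (Fin n) F, ?_, ?_⟩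
  · refine lt_of_le_of_ne (inf_le_inf_right _ inf_le_left) fun he => hgU ?_
    have h := (he ▸ Subgroup.mem_inf.2 ⟨hgW, hg⟩ : g ∈ Cfsg.Geo.subspaceStabilizer W ⊓
      Cfsg.Geo.subspaceStabilizer U ⊓ Cfsg.Geo.specialLinear (Fin n) F)
    exact (Subgroup.mem_inf.1 (Subgroup.mem_inf.1 h).1).2
  · refine lt_of_le_of_ne inf_le_right fun he => ?_
    obtain ⟨x0, hx0, hx0'⟩ := Submodule.exists_mem_ne_zero_of_ne_bot hW0
    obtain ⟨v, hv⟩ : ∃ v, v ∉ W := by
      by_contra hc
      push_neg at hc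
      exact hW1 (Submodule.eq_top_iff'.2 hc)
    obtain ⟨φ, hφ, hφ0⟩ := Submodule.exists_dual_map_eq_bot_of_notMem (p := Submodule.span F {v})
      (x := x0) (fun h => by
        obtain ⟨c, hc⟩ := Submodule.mem_span_singleton.1 h
        by_cases hc0 : c = 0
        · rw [hc0, zero_smul] at hc; exact hx0' hc.symm
        · exact hv (by rw [← inv_smul_smul₀ hc0 v, hc]; exact W.smul_mem _ hx0)) inferInstance
    have hφv : φ v = 0 := by
      have : φ v ∈ (Submodule.span F {v}).map φ := ⟨v, Submodule.mem_span_singleton_self v, rfl⟩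
      rwa [hφ0, Submodule.mem_bot] at this
    obtain ⟨t, ht, ht'⟩ := exists_transvection φ v hφv
    have h1 := (Subgroup.mem_inf.1 (he.symm.le ht)).1
    have h2 := (h1 x0).1 hx0
    change (t : Matrix (Fin n) (Fin n) F) *ᵥ x0 ∈ W at h2
    rw [ht'] at h2
    have h3 : φ x0 • v ∈ W := by simpa using W.sub_mem h2 hx0
    exact hv (by simpa [smul_smul, hφ] using W.smul_mem (φ x0)⁻¹ h3)

/-- A transvection stabilising W but not U. -/
theorem exists_sep (W U : Submodule F (Fin n → F)) {v u0 : Fin n → F} (hu0 : u0 ∈ U) (hv : v ∉ U)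
    (h : u0 ∉ W ⊔ Submodule.span F {v}) :
    ∃ g ∈ Cfsg.Geo.specialLinear (Fin n) F, g ∈ Cfsg.Geo.subspaceStabilizer W ∧
      g ∉ Cfsg.Geo.subspaceStabilizer U := by
  obtain ⟨φ, hφ, hφ0⟩ := Submodule.exists_dual_map_eq_bot_of_notMem
    (p := W ⊔ Submodule.span F {v}) (x := u0) h inferInstance
  have hker : ∀ x ∈ W ⊔ Submodule.span F {v}, φ x = 0 := fun x hx => by
    have : φ x ∈ (W ⊔ Submodule.span F {v}).map φ := ⟨x, hx, rfl⟩
    rwa [hφ0, Submodule.mem_bot] at this
  obtain ⟨g, hg, hg'⟩ := exists_transvection φ v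
    (hker v (Submodule.mem_sup_right (Submodule.mem_span_singleton_self v)))
  refine ⟨g, hg, fun x => ?_, fun hU => ?_⟩
  · change x ∈ W ↔ (g : Matrix (Fin n) (Fin n) F) *ᵥ x ∈ W
    rw [hg']
    constructor
    · intro hx; rw [hker x (Submodule.mem_sup_left hx), zero_smul, add_zero]; exact hx
    · intro hx
      have hx' : φ x = 0 := by
        have h1 := hker _ (Submodule.mem_sup_left (T := Submodule.span F {v}) hx)
        rw [map_add, map_smul,
          hker v (Submodule.mem_sup_right (Submodule.mem_span_singleton_self v)), smul_zero,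
          add_zero] at h1
        exact h1
      simpa [hx'] using hx
  · have h1 := (hU u0).1 hu0
    change (g : Matrix (Fin n) (Fin n) F) *ᵥ u0 ∈ U at h1
    rw [hg'] at h1
    have h2 : φ u0 • v ∈ U := by simpa using U.sub_mem h1 hu0
    exact hv (by simpa [smul_smul, hφ] using U.smul_mem (φ u0)⁻¹ h2)

end CfsgLib.Lie.StabPair
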