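import Cfsg.Prelude.Def_GeometricClasses
import Cfsg.Agent.Lie.FormMaxSL

/-!
The subfield subgroups of prime degree are maximal in the special linear group: rational
transvections and a dihedral argument with two classes of rational involutions.
-/

set_option autoImplicit false
set_option linter.unusedSimpArgs false
set_option linter.unusedSectionVars false

namespace CfsgLib.Lie.SubfieldMax

open Matrix
open CfsgLib.Lie.FormMaxSL (tv tv_mulVec gl_ext tv_mul tv_inv tv_smul conj_tv tv_mem_SL tv_zero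
  tv_zero_vec inv_mulVec_mulVec mulVec_inv_mulVec)

variable {F : Type*} [Field F] {n : ℕ} (F₀ : Subfield F)

/-- a column vector with entries in the subfield -/
def RV (v : Fin n → F) : Prop := ∀ i, v i ∈ F₀

/-- a functional with values in the subfield on the standard basis -/
def RF (φ : (Fin n → F) →ₗ[F] F) : Prop := ∀ i, φ (Pi.single i 1) ∈ F₀

/-- a matrix with entries in the subfield -/
def RM (X : Matrix (Fin n) (Fin n) F) : Prop := ∀ i j, X i j ∈ F₀

variable {F₀}

theorem rv_single (i : Fin n) : RV F₀ (Pi.single i 1 : Fin n → F) := fun j => by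
  by_cases h : j = i
  · subst h; simp [F₀.one_mem]
  · simp [h, F₀.zero_mem]

theorem rf_proj (i : Fin n) : RF F₀ (LinearMap.proj i : (Fin n → F) →ₗ[F] F) := fun j =>
  rv_single (F₀ := F₀) j i

theorem rv_add {v w : Fin n → F} (hv : RV F₀ v) (hw : RV F₀ w) : RV F₀ (v + w) :=
  fun i => F₀.add_mem (hv i) (hw i)

theorem rv_smul {c : F} (hc : c ∈ F₀) {v : Fin n → F} (hv : RV F₀ v) : RV F₀ (c • v) :=
  fun i => F₀.mul_mem hc (hv i)

theorem rf_apply {φ : (Fin n → F) →ₗ[F] F} (hφ : RF F₀ φ) {v : Fin n → F} (hv : RV F₀ v) :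
    φ v ∈ F₀ := by
  rw [pi_eq_sum_univ' v, map_sum]
  exact F₀.sum_mem fun i _ => by rw [map_smul]; exact F₀.mul_mem (hv i) (hφ i)

theorem tv_rm {w : Fin n → F} {φ : (Fin n → F) →ₗ[F] F} (h : φ w = 0) (hw : RV F₀ w) (hφ : RF F₀ φ) :
    RM F₀ ((tv w φ : GL (Fin n) F) : Matrix (Fin n) (Fin n) F) := by
  intro i j
  have e := congrFun (tv_mulVec h (Pi.single j 1)) i
  rw [Matrix.mulVec_single_one] at e
  simp only [Matrix.col_apply, Pi.add_apply, Pi.smul_apply, smul_eq_mul] at e
  rw [e]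
  exact F₀.add_mem (rv_single j i) (F₀.mul_mem (hφ j) (hw i))

/-- the commutator of two transvections -/
theorem comm_tv {v w : Fin n → F} {φ ψ : (Fin n → F) →ₗ[F] F} (hw : φ w = 0) (hv : ψ v = 0)
    (hψw : ψ w = 0) : tv w φ * tv v ψ * (tv w φ)⁻¹ * (tv v ψ)⁻¹ = tv w (φ v • ψ) := by
  rw [tv_inv hw, tv_inv hv]
  refine gl_ext fun x => ?_
  have h1 : (-φ) w = 0 := by simp [hw]
  have h2 : (-ψ) v = 0 := by simp [hv]
  have h3 : (φ v • ψ) w = 0 := by simp [hψw]
  simp only [Units.val_mul, ← Matrix.mulVec_mulVec, tv_mulVec hw, tv_mulVec hv, tv_mulVec h1,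
    tv_mulVec h2, tv_mulVec h3]
  simp only [map_add, map_smul, LinearMap.neg_apply, LinearMap.smul_apply, smul_eq_mul, hw, hv, hψw]
  simp only [add_smul, smul_add, neg_smul, smul_neg, smul_smul, mul_zero, zero_smul, add_zero,
    zero_add, mul_neg, neg_mul, neg_neg]
  module

/-- a rational vector and a functional on which it takes the value one -/
theorem exists_dual_one {ψ : (Fin n → F) →ₗ[F] F} (hψ : RF F₀ ψ) (hψ0 : ψ ≠ 0) :
    ∃ x, RV F₀ x ∧ ψ x = 1 := by
  obtain ⟨i, hi⟩ : ∃ i, ψ (Pi.single i 1) ≠ 0 := by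
    by_contra h
    push Not at h
    apply hψ0
    refine LinearMap.pi_ext fun i a => ?_
    have e : (Pi.single i a : Fin n → F) = a • Pi.single i 1 := by
      rw [← Pi.single_smul, smul_eq_mul, mul_one]
    rw [e, map_smul, h i, smul_zero, LinearMap.zero_apply]
  exact ⟨(ψ (Pi.single i 1))⁻¹ • Pi.single i 1, rv_smul (F₀.inv_mem (hψ i)) (rv_single i),
    by rw [map_smul, smul_eq_mul, inv_mul_cancel₀ hi]⟩

theorem exists_vec_one {x : Fin n → F} (hx : RV F₀ x) (hx0 : x ≠ 0) :
    ∃ ψ : (Fin n → F) →ₗ[F] F, RF F₀ ψ ∧ ψ x = 1 := by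
  obtain ⟨i, hi⟩ : ∃ i, x i ≠ 0 := by
    by_contra h; push Not at h; exact hx0 (funext h)
  refine ⟨(x i)⁻¹ • LinearMap.proj i, fun j => ?_, by simp [hi]⟩
  rw [LinearMap.smul_apply, smul_eq_mul]
  exact F₀.mul_mem (F₀.inv_mem (hx i)) (rf_proj i j)

/-- a rational functional vanishing on two rational vectors, nonzero at a third independent one -/
theorem exists_sep {x y z : Fin n → F} (hx : RV F₀ x) (hy : RV F₀ y) (hz : RV F₀ z)
    (hyx : y ∉ Submodule.span F {x}) (hz' : z ∉ Submodule.span F {x, y}) (hx0 : x ≠ 0) :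
    ∃ θ : (Fin n → F) →ₗ[F] F, RF F₀ θ ∧ θ x = 0 ∧ θ y = 0 ∧ θ z = 1 := by
  obtain ⟨α, hα, hαx⟩ := exists_vec_one hx hx0
  -- remove the component along `x`
  have hax : ∀ v, RV F₀ v → RV F₀ (v - α v • x) := fun v hv i =>
    F₀.sub_mem (hv i) (F₀.mul_mem (rf_apply hα hv) (hx i))
  have hy1 : y - α y • x ≠ 0 := fun h => hyx (by
    rw [sub_eq_zero] at h; rw [h]; exact Submodule.smul_mem _ _ (Submodule.mem_span_singleton_self x))
  obtain ⟨β, hβ, hβy⟩ := exists_vec_one (hax y hy) hy1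
  let β' := β - β x • α
  have hβ' : RF F₀ β' := fun i => F₀.sub_mem (hβ i) (F₀.mul_mem (rf_apply hβ hx) (hα i))
  have hβ'x : β' x = 0 := by simp [β', hαx]
  have hβ'y : β' y = 1 := by
    have : β' (y - α y • x) = β' y := by rw [map_sub, map_smul, hβ'x, smul_zero, sub_zero]
    rw [← this]
    simp [β', hβy, hαx]
  let z' := (z - α z • x) - β' z • (y - α y • x)
  have hz1 : z' ≠ 0 := by
    intro h
    apply hz'
    rw [sub_eq_zero] at h
    rw [← sub_add_cancel z (α z • x), h]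
    exact add_mem (Submodule.smul_mem _ _ (sub_mem (Submodule.subset_span (by simp))
      (Submodule.smul_mem _ _ (Submodule.subset_span (by simp)))))
      (Submodule.smul_mem _ _ (Submodule.subset_span (by simp)))
  have hzr : RV F₀ z' := fun i =>
    F₀.sub_mem (hax z hz i) (F₀.mul_mem (rf_apply hβ' hz) (hax y hy i))
  obtain ⟨γ, hγ, hγz⟩ := exists_vec_one hzr hz1
  let γ1 := γ - γ x • α
  have hγ1 : RF F₀ γ1 := fun i => F₀.sub_mem (hγ i) (F₀.mul_mem (rf_apply hγ hx) (hα i))
  have hγ1x : γ1 x = 0 := by simp [γ1, hαx]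
  let θ := γ1 - γ1 y • β'
  refine ⟨θ, fun i => F₀.sub_mem (hγ1 i) (F₀.mul_mem (rf_apply hγ1 hy) (hβ' i)), by
    simp [θ, hγ1x, hβ'x], by simp [θ, hβ'y], ?_⟩
  have e1 : θ z' = θ z := by simp [z', θ, hγ1x, hβ'x, hβ'y]; try ring
  have e2 : α z' = 0 ∧ β' z' = 0 := by
    constructor <;> simp [z', hβ'x, hβ'y, hαx]
  rw [← e1]
  simp [θ, γ1, e2.1, e2.2, hγz]

/-- a rational vector outside a span of two vectors -/
theorem exists_outside (hn : 3 ≤ n) (x y : Fin n → F) :
    ∃ z : Fin n → F, RV F₀ z ∧ z ∉ Submodule.span F {x, y} := by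
  by_contra h
  push Not at h
  have htop : (⊤ : Submodule F (Fin n → F)) ≤ Submodule.span F {x, y} := by
    intro v _
    rw [pi_eq_sum_univ' v]
    exact Submodule.sum_mem _ fun i _ => Submodule.smul_mem _ _ (h _ (rv_single i))
  have h1 := Submodule.finrank_mono htop
  rw [finrank_top, Module.finrank_fintype_fun_eq_card, Fintype.card_fin] at h1
  have := FormMaxSL.finrank_pair_le x y
  omega

section

variable (hn : 5 ≤ n) (M : Subgroup (GL (Fin n) F))
  (hM0 : ∀ w φ, φ w = 0 → RV F₀ w → RF F₀ φ → tv w φ ∈ M)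
include hn hM0

/-- The scalars occurring on all rational root groups. -/
def Good (μ : F) : Prop :=
  ∀ x (ψ : (Fin n → F) →ₗ[F] F), RV F₀ x → RF F₀ ψ → ψ x = 0 → tv x (μ • ψ) ∈ M

theorem comm_mem {v w : Fin n → F} {φ ψ : (Fin n → F) →ₗ[F] F} (hw : φ w = 0) (hv : ψ v = 0)
    (hψw : ψ w = 0) (h1 : tv w φ ∈ M) (h2 : tv v ψ ∈ M) : tv w (φ v • ψ) ∈ M := by
  rw [← comm_tv hw hv hψw]
  exact M.mul_mem (M.mul_mem (M.mul_mem h1 h2) (M.inv_mem h1)) (M.inv_mem h2)

theorem comm_mem' {v w : Fin n → F} {φ ψ : (Fin n → F) →ₗ[F] F} (hw : φ w = 0) (hv : ψ v = 0)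
    (hψw : ψ w = 0) (h1 : tv w φ ∈ M) (h2 : tv v ψ ∈ M) : tv (φ v • w) ψ ∈ M := by
  rw [tv_smul hψw]; exact comm_mem hn M hM0 hw hv hψw h1 h2

/-- one rational root group element gives all -/
theorem good_of_one {μ : F} {x : Fin n → F} {ψ : (Fin n → F) →ₗ[F] F} (hx : RV F₀ x) (hx0 : x ≠ 0)
    (hψ : RF F₀ ψ) (hψ0 : ψ ≠ 0) (hψx : ψ x = 0) (h : tv x (μ • ψ) ∈ M) : Good M (F₀ := F₀) μ := by
  -- change the functional
  have hfun : ∀ {a : Fin n → F} {α θ : (Fin n → F) →ₗ[F] F}, RV F₀ a → RF F₀ α → α ≠ 0 → α a = 0 →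
      tv a (μ • α) ∈ M → RF F₀ θ → θ a = 0 → tv a (μ • θ) ∈ M := by
    intro a α θ ha hα hα0 hαa hm hθ hθa
    obtain ⟨y, hy, hy1⟩ := exists_dual_one hα hα0
    obtain ⟨c, hc⟩ : ∃ c, c = θ y := ⟨_, rfl⟩
    have hcF : c ∈ F₀ := hc ▸ rf_apply hθ hy
    have hθ' : RF F₀ (θ - c • α) := fun i => F₀.sub_mem (hθ i) (F₀.mul_mem hcF (hα i))
    have h1 := comm_mem hn M hM0 (v := y) (ψ := θ - c • α) (show (μ • α) a = 0 by simp [hαa])
      (by simp [← hc, hy1]) (by simp [hθa, hαa]) hm
      (hM0 _ _ (by simp [← hc, hy1]) hy hθ')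
    rw [LinearMap.smul_apply, smul_eq_mul, hy1, mul_one] at h1
    by_cases hc0 : c = 0
    · rwa [hc0, zero_smul, sub_zero] at h1
    · have h2 : tv a ((c * μ) • α) ∈ M := by
        -- scale through an auxiliary functional
        obtain ⟨z, hz, hzn⟩ := exists_outside (F₀ := F₀) (by omega) a y
        have ha0 : a ≠ 0 ∨ a = 0 := (em (a = 0)).symm
        rcases ha0 with ha0 | ha0
        swap
        · rw [ha0, tv_zero_vec]; exact M.one_mem
        have hya : y ∉ Submodule.span F {a} := by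
          intro h
          obtain ⟨b, rfl⟩ := Submodule.mem_span_singleton.1 h
          rw [map_smul, hαa, smul_zero] at hy1
          exact zero_ne_one hy1
        obtain ⟨β, hβ, hβa, hβy, hβz⟩ := exists_sep ha hy hz hya hzn ha0
        have h3 := comm_mem hn M hM0 (v := y) (ψ := c • β) (show (μ • α) a = 0 by simp [hαa])
          (by simp [hβy]) (by simp [hβa]) hm
          (hM0 _ _ (by simp [hβy]) hy (fun i => F₀.mul_mem hcF (hβ i)))
        rw [LinearMap.smul_apply, smul_eq_mul, hy1, mul_one] at h3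
        have h4 := comm_mem hn M hM0 (v := z - α z • y) (ψ := α)
          (show (μ • c • β) a = 0 by simp [hβa]) (by simp [hy1]) hαa h3
          (hM0 _ _ (by simp [hy1]) (fun i => F₀.sub_mem (hz i) (F₀.mul_mem (rf_apply hα hz) (hy i))) hα)
        have e : (μ • c • β) (z - α z • y) = c * μ := by
          simp [hβy, hβz]; ring
        rwa [e] at h4
      have e : μ • (θ - c • α) + (c * μ) • α = μ • θ := by
        rw [smul_sub, smul_smul, mul_comm c μ]; abel
      rw [← e, ← tv_mul (by simp [hθa, hαa]) (by simp [hαa])]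
      exact M.mul_mem h1 h2
  -- change the centre
  have hcen : ∀ {a b : Fin n → F} {α : (Fin n → F) →ₗ[F] F}, RV F₀ a → a ≠ 0 → RV F₀ b → RF F₀ α →
      α a = 0 → α b = 0 → tv a (μ • α) ∈ M → tv b (μ • α) ∈ M := by
    intro a b α ha ha0 hb hα hαa hαb hm
    by_cases hba : b ∈ Submodule.span F {a}
    · obtain ⟨s, hs⟩ := Submodule.mem_span_singleton.1 hba
      obtain ⟨γ, hγ, hγa⟩ := exists_vec_one ha ha0
      have hs0 : s ∈ F₀ := by
        have := rf_apply hγ hb
        rwa [← hs, map_smul, hγa, smul_eq_mul, mul_one] at this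
      rw [← hs, tv_smul (by simp [hαa]), smul_comm]
      by_cases hα0 : α = 0
      · rw [hα0, smul_zero, smul_zero, tv_zero]; exact M.one_mem
      exact hfun ha hα hα0 hαa hm (fun i => F₀.mul_mem hs0 (hα i)) (by simp [hαa])
    · have hb0 : b ≠ 0 := fun h => hba (h ▸ zero_mem _)
      have hab : a ∉ Submodule.span F {b} := by
        intro h'
        obtain ⟨s, hs⟩ := Submodule.mem_span_singleton.1 h'
        have hs0 : s ≠ 0 := fun h => ha0 (by rw [← hs, h, zero_smul])
        exact hba (Submodule.mem_span_singleton.2 ⟨s⁻¹, by rw [← hs, smul_smul, inv_mul_cancel₀ hs0, one_smul]⟩)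
      obtain ⟨z, hz, hzn⟩ := exists_outside (F₀ := F₀) (by omega) a b
      obtain ⟨β, hβ, hβb⟩ := exists_vec_one hb hb0
      obtain ⟨γ, hγ, hγa⟩ := exists_vec_one ha ha0
      -- a functional vanishing at `b`, one at `a`
      obtain ⟨z2, hz2, hz2n⟩ := exists_outside (F₀ := F₀) (by omega) b a
      obtain ⟨θ0, hθ0, hθ0b, hθ0z, hθ0a⟩ := exists_sep hb hz2 ha (fun h => hz2n
        (Submodule.span_mono (by simp) h)) (by
          intro h
          obtain ⟨p, q, hpq⟩ := Submodule.mem_span_pair.1 h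
          by_cases hq : q = 0
          · apply hab
            rw [← hpq, hq, zero_smul, add_zero]
            exact Submodule.smul_mem _ _ (Submodule.mem_span_singleton_self b)
          · apply hz2n
            rw [← Submodule.smul_mem_iff _ hq, ← sub_eq_iff_eq_add'.2 hpq.symm]
            exact sub_mem (Submodule.subset_span (by simp))
              (Submodule.smul_mem _ _ (Submodule.subset_span (by simp)))) hb0
      have h1 := comm_mem hn M hM0 (w := b) (v := a) (φ := θ0) (ψ := μ • α) hθ0b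
        (by simp [hαa]) (by simp [hαb]) (hM0 _ _ hθ0b hb hθ0) hm
      rwa [hθ0a, one_smul] at h1
  intro y θ hy hθ hθy
  by_cases hy0 : y = 0
  · rw [hy0, tv_zero_vec]; exact M.one_mem
  -- a functional vanishing at both centres
  obtain ⟨z, hz, hzn⟩ := exists_outside (F₀ := F₀) (by omega) x y
  by_cases hyx : y ∈ Submodule.span F {x}
  · obtain ⟨s, hs⟩ := Submodule.mem_span_singleton.1 hyx
    have hs0 : s ≠ 0 := fun h => hy0 (by rw [← hs, h, zero_smul])
    have hθx : θ x = 0 := by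
      rw [← hs, map_smul] at hθy
      exact (mul_eq_zero.1 hθy).resolve_left hs0
    exact hcen hx hx0 hy hθ hθx hθy (hfun hx hψ hψ0 hψx h hθ hθx)
  · obtain ⟨η, hη, hηx, hηy, hηz⟩ := exists_sep hx hy hz hyx hzn hx0
    have hη0 : η ≠ 0 := fun h => by simp [h] at hηz
    exact hfun hy hη hη0 hηy (hcen hx hx0 hy hη hηx hηy (hfun hx hψ hψ0 hψx h hη hηx)) hθ hθy

/-- a rational centre with an irrational functional -/
theorem good_of_centre {x : Fin n → F} {φ : (Fin n → F) →ₗ[F] F} (hx : RV F₀ x) (hx0 : x ≠ 0)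
    (hφx : φ x = 0) (h : tv x φ ∈ M) (hφ : ¬ RF F₀ φ) : ∃ μ ∉ F₀, Good M (F₀ := F₀) μ := by
  simp only [RF, not_forall] at hφ
  obtain ⟨j, hj⟩ := hφ
  obtain ⟨γ, hγ, hγx⟩ := exists_vec_one hx hx0
  set y := (Pi.single j 1 : Fin n → F) - γ (Pi.single j 1) • x with hy
  have hyr : RV F₀ y := fun i => F₀.sub_mem (rv_single j i) (F₀.mul_mem (hγ j) (hx i))
  have hφy : φ y = φ (Pi.single j 1) := by simp [hy, hφx]
  have hyn : y ∉ Submodule.span F {x} := by
    intro h'
    obtain ⟨s, hs⟩ := Submodule.mem_span_singleton.1 h'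
    apply hj
    rw [← hφy, ← hs, map_smul, hφx, smul_zero]
    exact F₀.zero_mem
  obtain ⟨z, hz, hzn⟩ := exists_outside (F₀ := F₀) (by omega) x y
  obtain ⟨θ, hθ, hθx, hθy, hθz⟩ := exists_sep hx hyr hz hyn hzn hx0
  refine ⟨φ (Pi.single j 1), hj, good_of_one hn M hM0 hx hx0 hθ
    (fun h => by simp [h] at hθz) hθx ?_⟩
  rw [← hφy]
  exact comm_mem hn M hM0 hφx hθy hθx h (hM0 _ _ hθy hyr hθ)

/-- a rational functional with an irrational centre -/
theorem good_of_axis {w : Fin n → F} {ψ : (Fin n → F) →ₗ[F] F} (hψ : RF F₀ ψ) (hψ0 : ψ ≠ 0)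
    (hψw : ψ w = 0) (h : tv w ψ ∈ M) (hw : ¬ RV F₀ w) : ∃ μ ∉ F₀, Good M (F₀ := F₀) μ := by
  simp only [RV, not_forall] at hw
  obtain ⟨j, hj⟩ := hw
  obtain ⟨v, hv, hv1⟩ := exists_dual_one hψ hψ0
  -- the functional reading the coordinate `j` on the kernel
  let χ : (Fin n → F) →ₗ[F] F := (LinearMap.proj j : (Fin n → F) →ₗ[F] F) - v j • ψ
  have hχ : RF F₀ χ := fun i => F₀.sub_mem (rf_proj j i) (F₀.mul_mem (hv j) (hψ i))
  have hχw : χ w = w j := by simp [χ, hψw]
  have hχ0 : χ ≠ 0 := fun h => hj (by rw [← hχw, h]; exact F₀.zero_mem)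
  obtain ⟨v1, hv1r, hv1χ⟩ := exists_dual_one hχ hχ0
  obtain ⟨z, hz, hzn⟩ := exists_outside (F₀ := F₀) (by omega) v v1
  -- a rational vector killed by both
  let x := (z - ψ z • v) - χ z • (v1 - ψ v1 • v)
  have hχv : χ v = 0 := by simp [χ, hv1]
  have hxr : RV F₀ x := fun i => F₀.sub_mem (F₀.sub_mem (hz i) (F₀.mul_mem (rf_apply hψ hz) (hv i)))
    (F₀.mul_mem (rf_apply hχ hz) (F₀.sub_mem (hv1r i) (F₀.mul_mem (rf_apply hψ hv1r) (hv i))))
  have hψx : ψ x = 0 := by simp [x, hv1]
  have hχx : χ x = 0 := by simp [x, hv1, hχv, hv1χ]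
  have hx0 : x ≠ 0 := by
    intro h9
    apply hzn
    rw [sub_eq_zero] at h9
    rw [← sub_add_cancel z (ψ z • v), h9]
    exact add_mem (Submodule.smul_mem _ _ (sub_mem (Submodule.subset_span (by simp))
      (Submodule.smul_mem _ _ (Submodule.subset_span (by simp)))))
      (Submodule.smul_mem _ _ (Submodule.subset_span (by simp)))
  refine ⟨w j, hj, good_of_one hn M hM0 hxr hx0 hψ hψ0 hψx ?_⟩
  have := comm_mem hn M hM0 hχx hψw hψx (hM0 _ _ hχx hxr hχ) h
  rwa [hχw] at this

/-- a transvection whose centre is killed by a rational functional -/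
theorem good_of_dep {w : Fin n → F} {φ : (Fin n → F) →ₗ[F] F} (hφw : φ w = 0) (h : tv w φ ∈ M)
    {ψ : (Fin n → F) →ₗ[F] F} (hψ : RF F₀ ψ) (hψ0 : ψ ≠ 0) (hψw : ψ w = 0)
    (hw : ∀ c : F, RV F₀ (c • w) → c = 0) (hφ0 : φ ≠ 0) : ∃ μ ∉ F₀, Good M (F₀ := F₀) μ := by
  obtain ⟨v, hv, hv1⟩ := exists_dual_one hψ hψ0
  by_cases hall : ∀ i, φ (Pi.single i 1 - ψ (Pi.single i 1) • v) = 0
  · have hφψ : φ = φ v • ψ := by
      refine LinearMap.pi_ext fun i a => ?_
      have e : (Pi.single i a : Fin n → F) = a • Pi.single i 1 := by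
        rw [← Pi.single_smul, smul_eq_mul, mul_one]
      have := hall i
      rw [map_sub, map_smul, sub_eq_zero] at this
      rw [e, map_smul, map_smul, LinearMap.smul_apply, this, smul_eq_mul, smul_eq_mul, smul_eq_mul,
        smul_eq_mul]
      ring
    rw [hφψ, ← tv_smul hψw] at h
    refine good_of_axis hn M hM0 hψ hψ0 (by rw [map_smul, hψw, smul_zero]) h fun hr => hφ0 ?_
    rw [hφψ, hw _ hr, zero_smul]
  · push Not at hall
    obtain ⟨i, hi⟩ := hall
    set x := (Pi.single i 1 : Fin n → F) - ψ (Pi.single i 1) • v with hx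
    have hxr : RV F₀ x := fun k => F₀.sub_mem (rv_single i k) (F₀.mul_mem (hψ i) (hv k))
    have hψx : ψ x = 0 := by simp [hx, hv1]
    have h1 := comm_mem' hn M hM0 hφw hψx hψw h (hM0 _ _ hψx hxr hψ)
    exact good_of_axis hn M hM0 hψ hψ0 (by rw [map_smul, hψw, smul_zero]) h1 fun hr => hi (hw _ hr)

/-- The final step: a good scalar outside the subfield gives everything. -/
theorem sl_le [Finite F] {r : ℕ} (hr : r.Prime) (hcard : Nat.card F = Nat.card F₀ ^ r)
    {μ : F} (hμ : μ ∉ F₀) (hg : Good M (F₀ := F₀) μ) : Cfsg.Geo.specialLinear (Fin n) F ≤ M := by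
  let A : Subfield F :=
    Subfield.closure ((F₀ : Set F) ∪ {μ})
  have hadd : ∀ a b, Good M (F₀ := F₀) a → Good M (F₀ := F₀) b → Good M (F₀ := F₀) (a + b) := by
    intro a b ha hb x ψ hx hψ hψx
    rw [add_smul, ← tv_mul (by simp [hψx]) (by simp [hψx])]
    exact M.mul_mem (ha x ψ hx hψ hψx) (hb x ψ hx hψ hψx)
  have hneg : ∀ a, Good M (F₀ := F₀) a → Good M (F₀ := F₀) (-a) := by
    intro a ha x ψ hx hψ hψx
    rw [show (-a) • ψ = -(a • ψ) from LinearMap.ext fun v => by simp, ← tv_inv (by simp [hψx])]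
    exact M.inv_mem (ha x ψ hx hψ hψx)
  have h0 : ∀ a, a ∈ F₀ → Good M (F₀ := F₀) a := fun a ha x ψ hx hψ hψx =>
    hM0 _ _ (by simp [hψx]) hx fun i => F₀.mul_mem ha (hψ i)
  have hmul : ∀ a b, Good M (F₀ := F₀) a → Good M (F₀ := F₀) b → Good M (F₀ := F₀) (a * b) := by
    intro a b ha hb
    -- on coordinates 0, 1, 2
    let i0 : Fin n := ⟨0, by omega⟩
    let i1 : Fin n := ⟨1, by omega⟩
    let i2 : Fin n := ⟨2, by omega⟩
    have h01 : (LinearMap.proj i1 : (Fin n → F) →ₗ[F] F) (Pi.single i0 1) = 0 := by simp [i0, i1]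
    have h12 : (LinearMap.proj i2 : (Fin n → F) →ₗ[F] F) (Pi.single i1 1) = 0 := by simp [i1, i2]
    have h02 : (LinearMap.proj i2 : (Fin n → F) →ₗ[F] F) (Pi.single i0 1) = 0 := by simp [i0, i2]
    refine good_of_one hn M hM0 (rv_single i0) (by simp) (rf_proj i2) ?_ h02 ?_
    · intro h
      have := LinearMap.congr_fun h (Pi.single i2 1)
      simp at this
    · have h1 := comm_mem hn M hM0
        (show (a • (LinearMap.proj i1 : (Fin n → F) →ₗ[F] F)) (Pi.single i0 1) = 0 by
          rw [LinearMap.smul_apply, h01, smul_zero])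
        (show (b • (LinearMap.proj i2 : (Fin n → F) →ₗ[F] F)) (Pi.single i1 1) = 0 by
          rw [LinearMap.smul_apply, h12, smul_zero])
        (by rw [LinearMap.smul_apply, h02, smul_zero])
        (ha _ _ (rv_single i0) (rf_proj i1) h01) (hb _ _ (rv_single i1) (rf_proj i2) h12)
      simpa [smul_smul] using h1
  -- closed under addition and multiplication inside a finite field
  let R : Subring F :=
    { carrier := {a | Good M (F₀ := F₀) a}
      zero_mem' := h0 0 F₀.zero_mem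
      one_mem' := h0 1 F₀.one_mem
      add_mem' := fun {a b} ha hb => hadd a b ha hb
      neg_mem' := fun {a} ha => hneg a ha
      mul_mem' := fun {a b} ha hb => hmul a b ha hb }
  have hpow : ∀ (a : F) (k : ℕ), a ∈ R → a ^ k ∈ R := fun a k ha => R.pow_mem ha k
  let L : Subfield F :=
    { R with
      inv_mem' := fun a ha => by
        haveI : Fintype F := Fintype.ofFinite F
        change a⁻¹ ∈ R
        by_cases ha0 : a = 0
        · rw [ha0, _root_.inv_zero]; exact R.zero_mem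
        have hq : 2 ≤ Fintype.card F := Fintype.one_lt_card
        have h1 : a ^ (Fintype.card F - 2) * a = 1 := by
          rw [← pow_succ, show Fintype.card F - 2 + 1 = Fintype.card F - 1 by omega,
            FiniteField.pow_card_sub_one_eq_one a ha0]
        rw [inv_eq_of_mul_eq_one_left h1]
        exact hpow a _ ha }
  have hLmem : ∀ a, a ∈ L ↔ Good M (F₀ := F₀) a := fun a => Iff.rfl
  have hle : F₀ ≤ L := fun a ha => (hLmem a).2 (h0 a ha)
  letI : Algebra F₀ L := (Subfield.inclusion hle).toAlgebra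
  haveI : IsScalarTower F₀ L F := IsScalarTower.of_algebraMap_eq fun x => rfl
  haveI : Finite F₀ := inferInstance
  have hmul' := Module.finrank_mul_finrank F₀ L F
  have hc1 : Nat.card F = Nat.card F₀ ^ Module.finrank F₀ F := Module.natCard_eq_pow_finrank
  have hc2 : Nat.card L = Nat.card F₀ ^ Module.finrank F₀ L := Module.natCard_eq_pow_finrank
  have hq0 : 2 ≤ Nat.card F₀ := Finite.one_lt_card
  have hfr : Module.finrank F₀ F = r := Nat.pow_right_injective hq0 (hc1.symm.trans hcard)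
  rw [hfr] at hmul'
  have hltop : L = ⊤ := by
    rcases hr.eq_one_or_self_of_dvd _ ⟨_, hmul'.symm⟩ with h1 | h1
    · exfalso
      rw [h1, pow_one] at hc2
      apply hμ
      have heq : (F₀ : Set F) = (L : Set F) := Set.eq_of_subset_of_ncard_le hle (by
        rw [← Nat.card_coe_set_eq, ← Nat.card_coe_set_eq]; exact le_of_eq hc2) (Set.toFinite _)
      have : μ ∈ (L : Set F) := (hLmem μ).2 hg
      rwa [← heq] at this
    · rw [eq_top_iff]
      intro a _
      rw [h1, ← hcard] at hc2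
      have heq : (L : Set F) = Set.univ := Set.eq_of_subset_of_ncard_le (Set.subset_univ _) (by
        rw [Set.ncard_univ, ← Nat.card_coe_set_eq]; exact le_of_eq hc2.symm) (Set.toFinite _)
      show a ∈ (L : Set F)
      rw [heq]; trivial
  -- all elementary transvections
  refine FormMaxSL.SL_le_of_tv_mem M ?_
  have hel : ∀ i j : Fin n, i ≠ j → ∀ a : F,
      tv (Pi.single i 1) (a • (LinearMap.proj j : (Fin n → F) →ₗ[F] F)) ∈ M := by
    intro i j hij a
    have hmem : a ∈ L := hltop ▸ Subfield.mem_top a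
    exact (hLmem a).1 hmem _ _ (rv_single i) (rf_proj j) (by simp [hij.symm])
  intro w φ hφ
  -- every transvection is in the special linear group generated by the elementary ones
  have hSL : Cfsg.Geo.specialLinear (Fin n) F ≤ M := by
    have htop : M.comap (Matrix.SpecialLinearGroup.toGL : SpecialLinearGroup (Fin n) F →* GL (Fin n) F) = ⊤ := by
      refine SLn.eq_top_of_transvection_mem _ fun i j hij c => ?_
      rw [Subgroup.mem_comap]
      convert hel i j hij c using 1
      refine gl_ext fun x => ?_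
      rw [tv_mulVec (by simp [hij.symm])]
      change ((SpecialLinearGroup.transvection hij c : SpecialLinearGroup (Fin n) F) :
        Matrix (Fin n) (Fin n) F) *ᵥ x = _
      rw [SLn.tv_coe hij c, SLn.transv_mulVec]
      simp
    intro g hg'
    have hdet : (g : Matrix (Fin n) (Fin n) F).det = 1 := by
      rw [Cfsg.Geo.specialLinear, MonoidHom.mem_ker] at hg'
      exact congrArg Units.val hg'
    obtain ⟨gs, hgs⟩ : ∃ gs : SpecialLinearGroup (Fin n) F, gs = ⟨_, hdet⟩ := ⟨_, rfl⟩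
    have hmem : gs ∈ M.comap
        (Matrix.SpecialLinearGroup.toGL : SpecialLinearGroup (Fin n) F →* GL (Fin n) F) :=
      htop ▸ Subgroup.mem_top _
    rw [Subgroup.mem_comap] at hmem
    convert hmem using 1
    exact Units.ext (by rw [hgs]; rfl)
  exact hSL (tv_mem_SL w φ)

end

end CfsgLib.Lie.SubfieldMax
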