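import Cfsg.Agent.Lie.SubfieldMax

/-!
The dihedral argument completing the maximality of subfield subgroups.
-/

set_option autoImplicit false
set_option linter.unusedSimpArgs false
set_option linter.unusedSectionVars false

namespace CfsgLib.Lie.SubfieldMax

open Matrix
open CfsgLib.Lie.FormMaxSL (tv tv_mulVec gl_ext tv_mul tv_inv tv_smul conj_tv tv_mem_SL tv_zero
  tv_zero_vec inv_mulVec_mulVec mulVec_inv_mulVec)

variable {F : Type*} [Field F] {n : ℕ} {F₀ : Subfield F}

/-- rational up to a scalar -/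
def RS (F₀ : Subfield F) (g : GL (Fin n) F) : Prop :=
  ∃ c : F, c ≠ 0 ∧ RM F₀ (c • (g : Matrix (Fin n) (Fin n) F))

theorem rm_mulVec {X : Matrix (Fin n) (Fin n) F} (hX : RM F₀ X) {v : Fin n → F} (hv : RV F₀ v) :
    RV F₀ (X *ᵥ v) := fun i => by
  show ∑ j, X i j * v j ∈ F₀
  exact F₀.sum_mem fun j _ => F₀.mul_mem (hX i j) (hv j)

theorem rm_one : RM F₀ (1 : Matrix (Fin n) (Fin n) F) := fun i j => by
  rw [Matrix.one_apply]; split
  · exact F₀.one_mem
  · exact F₀.zero_mem

theorem rm_mul {X Y : Matrix (Fin n) (Fin n) F} (hX : RM F₀ X) (hY : RM F₀ Y) : RM F₀ (X * Y) :=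
  fun i j => by
    show ∑ k, X i k * Y k j ∈ F₀
    exact F₀.sum_mem fun k _ => F₀.mul_mem (hX i k) (hY k j)

/-- the inverse of a rational matrix is rational -/
theorem rm_inv {X : Matrix (Fin n) (Fin n) F} (hX : RM F₀ X) : RM F₀ X⁻¹ := by
  let X0 : Matrix (Fin n) (Fin n) F₀ := fun i j => ⟨X i j, hX i j⟩
  have hdet : X.det ∈ F₀ := by
    have h := RingHom.map_det (F₀.subtype) X0
    have e : (F₀.subtype).mapMatrix X0 = X := rfl
    rw [e] at h
    rw [← h]; exact (X0.det).2
  have hadj : ∀ i j, X.adjugate i j ∈ F₀ := fun i j => by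
    have h := RingHom.map_adjugate (F₀.subtype) X0
    have e : (F₀.subtype).mapMatrix X0 = X := rfl
    rw [e] at h
    rw [← h]; exact (X0.adjugate i j).2
  intro i j
  rw [Matrix.inv_def, Matrix.smul_apply, Ring.inverse_eq_inv, smul_eq_mul]
  exact F₀.mul_mem (F₀.inv_mem hdet) (hadj i j)

/-- a matrix sending rational vectors into rational lines is rational up to a scalar -/
theorem rs_of_lines (g : GL (Fin n) F)
    (h : ∀ x, RV F₀ x → ∃ c : F, c ≠ 0 ∧ RV F₀ (c • ((g : Matrix (Fin n) (Fin n) F) *ᵥ x))) :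
    RS F₀ g := by
  choose c hc0 hc using fun i => h _ (rv_single (F₀ := F₀) i)
  obtain ⟨b, hb0, hb⟩ := h (fun _ => 1) (fun _ => F₀.one_mem)
  let U : Matrix (Fin n) (Fin n) F := (g : Matrix (Fin n) (Fin n) F) * Matrix.diagonal c
  have hU : RM F₀ U := fun i j => by
    have := hc j i
    rw [Matrix.mulVec_single_one] at this
    simp only [U, Matrix.mul_diagonal]
    simpa [mul_comm] using this
  have hUunit : IsUnit U.det := by
    rw [Matrix.det_mul, Matrix.det_diagonal]
    exact IsUnit.mul ((g.isUnit.map Matrix.detMonoidHom)) (IsUnit.mk0 _ (Finset.prod_ne_zero_iff.2 fun i _ => hc0 i))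
  have hsol : RV F₀ (fun i => b * (c i)⁻¹) := by
    have e : (fun i => b * (c i)⁻¹) = U⁻¹ *ᵥ (b • ((g : Matrix (Fin n) (Fin n) F) *ᵥ fun _ => (1 : F))) := by
      have e1 : U *ᵥ (fun i => b * (c i)⁻¹) = b • ((g : Matrix (Fin n) (Fin n) F) *ᵥ fun _ => (1 : F)) := by
        rw [show U = (g : Matrix (Fin n) (Fin n) F) * Matrix.diagonal c from rfl,
          ← Matrix.mulVec_mulVec, ← Matrix.mulVec_smul]
        congr 1
        funext i
        rw [Matrix.mulVec_diagonal]
        have := hc0 i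
        simp
        field_simp
      rw [← e1, Matrix.mulVec_mulVec, Matrix.nonsing_inv_mul _ hUunit, Matrix.one_mulVec]
    rw [e]
    exact rm_mulVec (rm_inv hU) hb
  refine ⟨b, hb0, fun i j => ?_⟩
  have e : (b • (g : Matrix (Fin n) (Fin n) F)) i j = (b * (c j)⁻¹) * U i j := by
    have := hc0 j
    simp only [U, Matrix.mul_diagonal, Matrix.smul_apply, smul_eq_mul]
    field_simp
  rw [e]
  exact F₀.mul_mem (hsol j) (hU i j)

variable (M : Subgroup (GL (Fin n) F))

section

variable (hn : 5 ≤ n) (hM : ∀ g ∈ Cfsg.Geo.specialLinear (Fin n) F, RS F₀ g → g ∈ M)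
include hn hM

theorem hM0 : ∀ w φ, φ w = 0 → RV F₀ w → RF F₀ φ → tv w φ ∈ M := fun w φ h hw hφ =>
  hM _ (tv_mem_SL w φ) ⟨1, one_ne_zero, by rw [one_smul]; exact tv_rm h hw hφ⟩

/-- A dependency gives a new scalar. -/
theorem dep {g : GL (Fin n) F} (hg : g ∈ M) (hgR : ¬ RS F₀ g) {x : Fin n → F}
    {ψ : (Fin n → F) →ₗ[F] F} (hx : RV F₀ x) (hx0 : x ≠ 0) (hψ : RF F₀ ψ) (hψ0 : ψ ≠ 0)
    (h : ψ ((g : Matrix (Fin n) (Fin n) F) *ᵥ x) = 0) :
    ∃ μ ∉ F₀, Good M (F₀ := F₀) μ := by
  -- the main case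
  have key : ∀ (x : Fin n → F) (ψ : (Fin n → F) →ₗ[F] F), RV F₀ x → x ≠ 0 → RF F₀ ψ → ψ ≠ 0 →
      ψ ((g : Matrix (Fin n) (Fin n) F) *ᵥ x) = 0 →
      (∀ c : F, RV F₀ (c • ((g : Matrix (Fin n) (Fin n) F) *ᵥ x)) → c = 0) →
      ∃ μ ∉ F₀, Good M (F₀ := F₀) μ := by
    intro x ψ hx hx0 hψ hψ0 h hline
    obtain ⟨y, hy, hyn⟩ := exists_outside (F₀ := F₀) (by omega) x x
    obtain ⟨z, hz, hzn⟩ := exists_outside (F₀ := F₀) (by omega) x y
    obtain ⟨χ, hχ, hχx, -, hχz⟩ := exists_sep hx hy hz (fun h => hyn (Submodule.span_mono (by simp) h)) hzn hx0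
    have hu := M.mul_mem (M.mul_mem hg (hM0 M hn hM x χ hχx hx hχ)) (M.inv_mem hg)
    rw [conj_tv g hχx] at hu
    refine good_of_dep hn M (hM0 M hn hM) (by simp [hχx]) hu hψ hψ0 h hline fun h9 => ?_
    have := LinearMap.congr_fun h9 ((g : Matrix (Fin n) (Fin n) F) *ᵥ z)
    rw [LinearMap.comp_apply, Matrix.toLin'_apply, inv_mulVec_mulVec, hχz, LinearMap.zero_apply] at this
    exact one_ne_zero this
  by_cases hline : ∀ c : F, RV F₀ (c • ((g : Matrix (Fin n) (Fin n) F) *ᵥ x)) → c = 0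
  · exact key x ψ hx hx0 hψ hψ0 h hline
  push Not at hline
  obtain ⟨c, hc, hc0⟩ := hline
  by_contra hcon
  apply hgR
  refine rs_of_lines g fun v hv => ?_
  by_contra hvline
  push Not at hvline
  -- a rational functional killing `x` and `v`
  have hvn : v ∉ Submodule.span F {x} := by
    intro h'
    obtain ⟨s, rfl⟩ := Submodule.mem_span_singleton.1 h'
    obtain ⟨γ, hγ, hγx⟩ := exists_vec_one hx hx0
    have hs : s ∈ F₀ := by
      have := rf_apply hγ hv; rwa [map_smul, hγx, smul_eq_mul, mul_one] at this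
    apply hvline c hc0
    rw [Matrix.mulVec_smul, smul_comm]
    exact rv_smul hs hc
  obtain ⟨z, hz, hzn⟩ := exists_outside (F₀ := F₀) (by omega) x v
  obtain ⟨χ, hχ, hχx, hχv, hχz⟩ := exists_sep hx hv hz hvn hzn hx0
  have hu := M.mul_mem (M.mul_mem hg (hM0 M hn hM x χ hχx hx hχ)) (M.inv_mem hg)
  rw [conj_tv g hχx] at hu
  set φ := χ ∘ₗ Matrix.toLin' ((g⁻¹ : GL (Fin n) F) : Matrix (Fin n) (Fin n) F) with hφ
  have hφx : φ ((g : Matrix (Fin n) (Fin n) F) *ᵥ x) = 0 := by simp [hφ, hχx]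
  have e : tv ((g : Matrix (Fin n) (Fin n) F) *ᵥ x) φ =
      tv (c • ((g : Matrix (Fin n) (Fin n) F) *ᵥ x)) (c⁻¹ • φ) := by
    rw [tv_smul (by simp [hφx]), smul_smul, mul_inv_cancel₀ hc0, one_smul]
  rw [e] at hu
  have hgx0 : c • ((g : Matrix (Fin n) (Fin n) F) *ᵥ x) ≠ 0 := by
    refine smul_ne_zero hc0 fun h9 => hx0 ?_
    rw [← inv_mulVec_mulVec g x, h9, Matrix.mulVec_zero]
  by_cases hφr : RF F₀ (c⁻¹ • φ)
  · apply hcon
    refine key v (c⁻¹ • φ) hv (fun h9 => hvn (h9 ▸ zero_mem _)) hφr ?_ ?_ ?_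
    · intro h9
      have := LinearMap.congr_fun h9 ((g : Matrix (Fin n) (Fin n) F) *ᵥ z)
      simp only [hφ, LinearMap.smul_apply, LinearMap.comp_apply, Matrix.toLin'_apply,
        inv_mulVec_mulVec, hχz, smul_eq_mul, mul_one, LinearMap.zero_apply] at this
      exact inv_ne_zero hc0 this
    · simp [hφ, hχv]
    · intro d hd
      by_contra hd0
      exact hvline d hd0 hd
  · exact hcon (good_of_centre hn M (hM0 M hn hM) hc hgx0 (by simp [hφx]) hu hφr)

end

/-- the row functional of a matrix -/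
theorem rf_row {X : Matrix (Fin n) (Fin n) F} (hX : RM F₀ X) (i : Fin n) :
    RF F₀ ((LinearMap.proj i : (Fin n → F) →ₗ[F] F) ∘ₗ Matrix.toLin' X) := fun j => by
  simp only [LinearMap.comp_apply, LinearMap.proj_apply, Matrix.toLin'_apply, Matrix.mulVec_single_one]
  exact hX i j

theorem rm_sub {X Y : Matrix (Fin n) (Fin n) F} (hX : RM F₀ X) (hY : RM F₀ Y) : RM F₀ (X - Y) :=
  fun i j => F₀.sub_mem (hX i j) (hY i j)

theorem rm_add {X Y : Matrix (Fin n) (Fin n) F} (hX : RM F₀ X) (hY : RM F₀ Y) : RM F₀ (X + Y) :=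
  fun i j => F₀.add_mem (hX i j) (hY i j)

/-- an element intertwining two rational involutions has a dependency -/
theorem dep_of_intertwine {X Y G : Matrix (Fin n) (Fin n) F} (hX : RM F₀ X) (hY : RM F₀ Y)
    (hX1 : X ≠ 1) (hY1 : Y ≠ -1) (hY2 : Y * Y = 1) (h : X * G = G * Y) :
    ∃ (x : Fin n → F) (ψ : (Fin n → F) →ₗ[F] F), RV F₀ x ∧ x ≠ 0 ∧ RF F₀ ψ ∧ ψ ≠ 0 ∧
      ψ (G *ᵥ x) = 0 := by
  obtain ⟨i, j0, hi⟩ : ∃ i j, (X - 1) i j ≠ 0 := by
    by_contra h9; push Not at h9
    exact hX1 (sub_eq_zero.1 (Matrix.ext fun i j => h9 i j))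
  obtain ⟨i', j, hj⟩ : ∃ i j, (Y + 1) i j ≠ 0 := by
    by_contra h9; push Not at h9
    exact hY1 (eq_neg_of_add_eq_zero_left (Matrix.ext fun i j => h9 i j))
  refine ⟨(Y + 1) *ᵥ Pi.single j 1, (LinearMap.proj i : (Fin n → F) →ₗ[F] F) ∘ₗ Matrix.toLin' (X - 1),
    rm_mulVec (rm_add hY rm_one) (rv_single j), fun h9 => hj ?_, rf_row (rm_sub hX rm_one) i,
    fun h9 => hi ?_, ?_⟩
  · have := congrFun h9 i'
    simpa [Matrix.mulVec_single_one] using this
  · have := LinearMap.congr_fun h9 (Pi.single j0 1)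
    simpa [Matrix.mulVec_single_one, Matrix.one_apply, Pi.single_apply] using this
  · have e : (X - 1) * G * (Y + 1) = 0 := by
      rw [sub_mul, one_mul, h]
      calc (G * Y - G) * (Y + 1) = G * (Y * Y) - G := by noncomm_ring
        _ = 0 := by rw [hY2, mul_one, sub_self]
    simp only [LinearMap.comp_apply, LinearMap.proj_apply, Matrix.toLin'_apply, Matrix.mulVec_mulVec,
      ← Matrix.mul_assoc, e, Matrix.zero_mulVec, Pi.zero_apply]

/-- Two classes of rational involutions. -/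
theorem exists_invols (hn : 13 ≤ n) :
    ∃ t s : GL (Fin n) F, t ∈ Cfsg.Geo.specialLinear (Fin n) F ∧ s ∈ Cfsg.Geo.specialLinear (Fin n) F ∧
      RM F₀ (t : Matrix (Fin n) (Fin n) F) ∧ RM F₀ (s : Matrix (Fin n) (Fin n) F) ∧
      t * t = 1 ∧ s * s = 1 ∧
      (t : Matrix (Fin n) (Fin n) F) ≠ 1 ∧ (t : Matrix (Fin n) (Fin n) F) ≠ -1 ∧
      (s : Matrix (Fin n) (Fin n) F) ≠ 1 ∧ (s : Matrix (Fin n) (Fin n) F) ≠ -1 ∧
      (∀ h : GL (Fin n) F, h * s * h⁻¹ ≠ t) ∧
      ((2 : F) ≠ 0 → ∀ h : GL (Fin n) F,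
        ((h * s * h⁻¹ : GL (Fin n) F) : Matrix (Fin n) (Fin n) F) ≠ -(t : Matrix (Fin n) (Fin n) F) ∧
        ((h * t * h⁻¹ : GL (Fin n) F) : Matrix (Fin n) (Fin n) F) ≠ -(t : Matrix (Fin n) (Fin n) F)) := by
  let i0 : Fin n := ⟨0, by omega⟩
  let i1 : Fin n := ⟨1, by omega⟩
  let i2 : Fin n := ⟨2, by omega⟩
  let i3 : Fin n := ⟨3, by omega⟩
  by_cases h2 : (2 : F) = 0
  · -- unipotent involutions
    let φ2 : (Fin n → F) →ₗ[F] F := LinearMap.proj i2
    let φ3 : (Fin n → F) →ₗ[F] F := LinearMap.proj i3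
    have a20 : φ2 (Pi.single i0 1) = 0 := by simp [φ2, i0, i2]
    have a21 : φ2 (Pi.single i1 1) = 0 := by simp [φ2, i1, i2]
    have a30 : φ3 (Pi.single i0 1) = 0 := by simp [φ3, i0, i3]
    have a31 : φ3 (Pi.single i1 1) = 0 := by simp [φ3, i1, i3]
    have hneg : -(1 : Matrix (Fin n) (Fin n) F) = 1 := by
      ext i j
      rw [Matrix.neg_apply]
      linear_combination -(1 : Matrix (Fin n) (Fin n) F) i j * h2
    let t := tv (Pi.single i0 (1 : F)) φ2
    let u := tv (Pi.single i1 (1 : F)) φ3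
    have hs : ∀ x, ((t * u : GL (Fin n) F) : Matrix (Fin n) (Fin n) F) *ᵥ x =
        x + φ2 x • Pi.single i0 (1 : F) + φ3 x • Pi.single i1 (1 : F) := by
      intro x
      rw [Units.val_mul, ← Matrix.mulVec_mulVec, tv_mulVec a31, tv_mulVec a20, map_add, map_smul,
        a21, smul_zero, add_zero]
      abel
    have htt : t * t = 1 := by
      rw [tv_mul a20 a20, show φ2 + φ2 = 0 from LinearMap.ext fun x => by
        simp only [LinearMap.add_apply, LinearMap.zero_apply]; linear_combination φ2 x * h2, tv_zero]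
    have hne_t : (t : Matrix (Fin n) (Fin n) F) ≠ 1 := by
      intro h
      have := congrArg (fun X : Matrix (Fin n) (Fin n) F => (X *ᵥ Pi.single i2 1) i0) h
      simp only [t, tv_mulVec a20, Matrix.one_mulVec] at this
      simp [φ2, i0, i2] at this
    have hne_s : ((t * u : GL (Fin n) F) : Matrix (Fin n) (Fin n) F) ≠ 1 := by
      intro h
      have := congrArg (fun X : Matrix (Fin n) (Fin n) F => (X *ᵥ Pi.single i2 1) i0) h
      simp only [hs, Matrix.one_mulVec] at this
      simp [φ2, φ3, i0, i1, i2, i3] at this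
    refine ⟨t, t * u, tv_mem_SL _ _, Subgroup.mul_mem _ (tv_mem_SL _ _) (tv_mem_SL _ _),
      tv_rm a20 (rv_single i0) (rf_proj i2), ?_, htt, ?_, hne_t, by rw [hneg]; exact hne_t, hne_s,
      by rw [hneg]; exact hne_s, ?_, fun h => absurd h2 h⟩
    · rw [Units.val_mul]
      exact rm_mul (tv_rm a20 (rv_single i0) (rf_proj i2)) (tv_rm a31 (rv_single i1) (rf_proj i3))
    · refine gl_ext fun x => ?_
      rw [Units.val_mul, ← Matrix.mulVec_mulVec, hs, hs, Units.val_one, Matrix.one_mulVec]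
      simp only [map_add, map_smul, a20, a21, a30, a31, smul_zero, add_zero]
      funext k
      simp only [Pi.add_apply, Pi.smul_apply, smul_eq_mul]
      linear_combination (φ2 x * (Pi.single i0 1 : Fin n → F) k + φ3 x * (Pi.single i1 1 : Fin n → F) k) * h2
    · intro h heq
      -- images of `s - 1` span two dimensions, of `t - 1` one
      have key : ∀ x, (h : Matrix (Fin n) (Fin n) F) *ᵥ
          (φ2 x • Pi.single i0 (1 : F) + φ3 x • Pi.single i1 (1 : F)) =
          φ2 ((h : Matrix (Fin n) (Fin n) F) *ᵥ x) • Pi.single i0 (1 : F) := by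
        intro x
        have := congrArg (fun g : GL (Fin n) F =>
          (g : Matrix (Fin n) (Fin n) F) *ᵥ ((h : Matrix (Fin n) (Fin n) F) *ᵥ x)) heq
        simp only [Units.val_mul (h * (t * u)), Units.val_mul h, ← Matrix.mulVec_mulVec,
          inv_mulVec_mulVec, hs] at this
        simp only [t, tv_mulVec a20, Matrix.mulVec_add] at this
        rw [add_assoc, ← Matrix.mulVec_add] at this
        exact add_left_cancel this
      have k2 := key (Pi.single i2 1)
      have k3 := key (Pi.single i3 1)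
      simp [φ2, φ3, i2, i3] at k2 k3
      have h1 : (Pi.single i0 (1 : F) : Fin n → F) =
          φ2 ((h : Matrix (Fin n) (Fin n) F) *ᵥ Pi.single i2 1) •
            (((h⁻¹ : GL (Fin n) F) : Matrix (Fin n) (Fin n) F) *ᵥ Pi.single i0 (1 : F)) := by
        rw [← Matrix.mulVec_smul]
        have := congrArg (fun v => ((h⁻¹ : GL (Fin n) F) : Matrix (Fin n) (Fin n) F) *ᵥ v) (key (Pi.single i2 1))
        have u2 : φ2 (Pi.single i2 1) = 1 := by simp [φ2]
        have u3 : φ3 (Pi.single i2 1) = 0 := by simp [φ3, i2, i3]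
        rw [u2, u3, one_smul, zero_smul, add_zero, inv_mulVec_mulVec] at this
        exact this
      have h3 : (Pi.single i1 (1 : F) : Fin n → F) =
          φ2 ((h : Matrix (Fin n) (Fin n) F) *ᵥ Pi.single i3 1) •
            (((h⁻¹ : GL (Fin n) F) : Matrix (Fin n) (Fin n) F) *ᵥ Pi.single i0 (1 : F)) := by
        rw [← Matrix.mulVec_smul]
        have := congrArg (fun v => ((h⁻¹ : GL (Fin n) F) : Matrix (Fin n) (Fin n) F) *ᵥ v) (key (Pi.single i3 1))
        have u2 : φ2 (Pi.single i3 1) = 0 := by simp [φ2, i2, i3]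
        have u3 : φ3 (Pi.single i3 1) = 1 := by simp [φ3]
        rw [u2, u3, one_smul, zero_smul, zero_add, inv_mulVec_mulVec] at this
        exact this
      have e00 := congrFun h1 i0
      have e01 := congrFun h1 i1
      have e11 := congrFun h3 i1
      simp [i0, i1] at e00 e01 e11
      rcases e01 with e | e
      · simp [e] at e00
      · simp [e] at e11
  · -- diagonal involutions
    let d : ℕ → GL (Fin n) F := fun k =>
      { val := Matrix.diagonal fun i : Fin n => if (i : ℕ) < k then -1 else 1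
        inv := Matrix.diagonal fun i : Fin n => if (i : ℕ) < k then -1 else 1
        val_inv := by
          rw [Matrix.diagonal_mul_diagonal, ← Matrix.diagonal_one]; congr 1; funext i; split <;> ring
        inv_val := by
          rw [Matrix.diagonal_mul_diagonal, ← Matrix.diagonal_one]; congr 1; funext i; split <;> ring }
    have hcard : ∀ k ≤ n, (Finset.univ.filter fun i : Fin n => (i : ℕ) < k).card = k := by
      intro k hk
      rw [show (Finset.univ.filter fun i : Fin n => (i : ℕ) < k) =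
        (Finset.univ : Finset (Fin k)).map (Fin.castLEEmb hk) from ?_]
      · simp
      ext i
      simp only [Finset.mem_filter, Finset.mem_univ, true_and, Finset.mem_map]
      exact ⟨fun h => ⟨⟨i, h⟩, rfl⟩, fun ⟨j, hj⟩ => by rw [← hj]; exact j.2⟩
    have hdet : ∀ k ≤ n, Even k → d k ∈ Cfsg.Geo.specialLinear (Fin n) F := by
      intro k hk he
      rw [Cfsg.Geo.specialLinear, MonoidHom.mem_ker]
      refine Units.ext ?_
      show (Matrix.diagonal fun i : Fin n => if (i : ℕ) < k then (-1 : F) else 1).det = 1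
      rw [Matrix.det_diagonal, Finset.prod_ite, Finset.prod_const, Finset.prod_const, one_pow, mul_one,
        hcard k hk, he.neg_one_pow]
    have hne : ∀ k, 0 < k → k < n → ((d k : GL (Fin n) F) : Matrix (Fin n) (Fin n) F) ≠ 1 ∧
        ((d k : GL (Fin n) F) : Matrix (Fin n) (Fin n) F) ≠ -1 := by
      intro k hk hkn
      constructor <;> intro h
      · have := congrFun (congrFun h i0) i0
        simp [d, i0, hk] at this
        exact h2 (by linear_combination -this)
      · have := congrFun (congrFun h ⟨k, hkn⟩) ⟨k, hkn⟩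
        simp [d] at this
        exact h2 (by linear_combination this)
    have hrm : ∀ k, RM F₀ ((d k : GL (Fin n) F) : Matrix (Fin n) (Fin n) F) := by
      intro k i j
      simp only [d, Matrix.diagonal_apply]
      split_ifs
      · exact F₀.neg_mem F₀.one_mem
      · exact F₀.one_mem
      · exact F₀.zero_mem
    have hrank : ∀ k ≤ n, (((d k : GL (Fin n) F) : Matrix (Fin n) (Fin n) F) - 1).rank = k ∧
        (-((d k : GL (Fin n) F) : Matrix (Fin n) (Fin n) F) - 1).rank = n - k := by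
      intro k hk
      classical
      have hm2 : (-1 - 1 : F) ≠ 0 := fun h => h2 (by linear_combination -h)
      constructor
      · simp only [d, ← Matrix.diagonal_one, Matrix.diagonal_sub, Matrix.rank_diagonal,
          Fintype.card_subtype]
        refine Eq.trans ?_ (hcard k hk)
        congr 1
        ext i
        by_cases h : (i : ℕ) < k <;> simp [h, hm2]
      · simp only [d, ← Matrix.diagonal_one, Matrix.diagonal_neg, Matrix.diagonal_sub,
          Matrix.rank_diagonal, Fintype.card_subtype]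
        have hcompl : (Finset.univ.filter fun i : Fin n => ¬ (i : ℕ) < k).card = n - k := by
          have h1 := Finset.card_filter_add_card_filter_not
            (s := (Finset.univ : Finset (Fin n))) (fun i : Fin n => (i : ℕ) < k)
          rw [hcard k hk, Finset.card_univ, Fintype.card_fin] at h1
          omega
        refine Eq.trans ?_ hcompl
        congr 1
        ext i
        by_cases h : (i : ℕ) < k <;> simp [h, hm2] <;> omega
    have hconj : ∀ (h : GL (Fin n) F) (k : ℕ),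
        ((((h * d k * h⁻¹ : GL (Fin n) F)) : Matrix (Fin n) (Fin n) F) - 1).rank =
          (((d k : GL (Fin n) F) : Matrix (Fin n) (Fin n) F) - 1).rank := by
      intro h k
      have e : (((h * d k * h⁻¹ : GL (Fin n) F)) : Matrix (Fin n) (Fin n) F) - 1 =
          (h : Matrix (Fin n) (Fin n) F) * (((d k : GL (Fin n) F) : Matrix (Fin n) (Fin n) F) - 1) *
            ((h⁻¹ : GL (Fin n) F) : Matrix (Fin n) (Fin n) F) := by
        rw [mul_sub, sub_mul, mul_one, ← Units.val_mul h h⁻¹, mul_inv_cancel, Units.val_one,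
          Units.val_mul, Units.val_mul]
      rw [e, Matrix.rank_mul_eq_left_of_isUnit_det _ _ ((h⁻¹).isUnit.map Matrix.detMonoidHom),
        Matrix.rank_mul_eq_right_of_isUnit_det _ _ (h.isUnit.map Matrix.detMonoidHom)]
    have hsq : ∀ k, d k * d k = 1 := fun k => Units.ext (d k).val_inv
    refine ⟨d 2, d 4, hdet 2 (by omega) (by norm_num), hdet 4 (by omega) (by decide), hrm 2, hrm 4,
      hsq 2, hsq 4, (hne 2 (by omega) (by omega)).1, (hne 2 (by omega) (by omega)).2,
      (hne 4 (by omega) (by omega)).1, (hne 4 (by omega) (by omega)).2, ?_, fun _ h => ⟨?_, ?_⟩⟩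
    · intro h heq
      have h1 := hconj h 4
      rw [heq, (hrank 2 (by omega)).1, (hrank 4 (by omega)).1] at h1
      omega
    · intro heq
      have h1 := hconj h 4
      rw [heq, (hrank 2 (by omega)).2, (hrank 4 (by omega)).1] at h1
      omega
    · intro heq
      have h1 := hconj h 2
      rw [heq, (hrank 2 (by omega)).2, (hrank 2 (by omega)).1] at h1
      omega

theorem mem_of_sq_mem [Finite F] {r : ℕ} (hr : r.Prime) (hr2 : 2 < r)
    (hcard : Nat.card F = Nat.card F₀ ^ r) {c : F} (hc : c * c ∈ F₀) : c ∈ F₀ := by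
  have hq0 : 2 ≤ Nat.card F₀ := Finite.one_lt_card
  have hc1 : Nat.card F = Nat.card F₀ ^ Module.finrank F₀ F := Module.natCard_eq_pow_finrank
  have hfr : Module.finrank F₀ F = r := Nat.pow_right_injective hq0 (hc1.symm.trans hcard)
  have hint : IsIntegral F₀ c := .of_finite F₀ c
  let p : Polynomial F₀ := Polynomial.X ^ 2 - Polynomial.C ⟨c * c, hc⟩
  have hp : p.natDegree = 2 := Polynomial.natDegree_X_pow_sub_C
  have hp0 : p ≠ 0 := fun h => by rw [h] at hp; simp at hp
  have hdvd : minpoly F₀ c ∣ p := minpoly.dvd F₀ c (by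
    simp only [p, map_sub, Polynomial.aeval_X_pow, Polynomial.aeval_C]
    show c ^ 2 - c * c = 0
    ring)
  have hle := Polynomial.natDegree_le_of_dvd hdvd hp0
  have hdiv : (minpoly F₀ c).natDegree ∣ Module.finrank F₀ F := minpoly.degree_dvd hint
  rw [hfr] at hdiv
  rcases hr.eq_one_or_self_of_dvd _ hdiv with h | h
  · obtain ⟨a, ha⟩ := minpoly.natDegree_eq_one_iff.1 h
    rw [← ha]
    exact a.2
  · omega

/-- The subfield group is maximal. -/
theorem sl_le_of_not_rs [Finite F] (hn : 13 ≤ n) {r : ℕ} (hr : r.Prime)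
    (hcard : Nat.card F = Nat.card F₀ ^ r) (M : Subgroup (GL (Fin n) F))
    (hM : ∀ g ∈ Cfsg.Geo.specialLinear (Fin n) F, RS F₀ g → g ∈ M)
    {g : GL (Fin n) F} (hg : g ∈ M) (hgR : ¬ RS F₀ g) : Cfsg.Geo.specialLinear (Fin n) F ≤ M := by
  suffices h : ∃ μ ∉ F₀, Good M (F₀ := F₀) μ by
    obtain ⟨μ, hμ, hgood⟩ := h
    exact sl_le (by omega) M (hM0 M (by omega) hM) hr hcard hμ hgood
  by_cases hrn : r < n
  · -- coordinates are dependent
    obtain ⟨x, hx, hline⟩ : ∃ x, RV F₀ x ∧ ∀ c : F, c ≠ 0 → ¬ RV F₀ (c • ((g : Matrix (Fin n) (Fin n) F) *ᵥ x)) := by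
      by_contra h
      push Not at h
      exact hgR (rs_of_lines g h)
    have hx0 : x ≠ 0 := by
      rintro rfl
      exact hline 1 one_ne_zero (by simp [RV, F₀.zero_mem])
    set w := (g : Matrix (Fin n) (Fin n) F) *ᵥ x with hw
    have hli : ¬ LinearIndependent F₀ w := by
      intro hli
      have h1 := hli.fintype_card_le_finrank
      have hq0 : 2 ≤ Nat.card F₀ := Finite.one_lt_card
      have hc1 : Nat.card F = Nat.card F₀ ^ Module.finrank F₀ F := Module.natCard_eq_pow_finrank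
      have hfr : Module.finrank F₀ F = r := Nat.pow_right_injective hq0 (hc1.symm.trans hcard)
      rw [Fintype.card_fin, hfr] at h1
      omega
    rw [Fintype.not_linearIndependent_iff] at hli
    obtain ⟨a, hasum, i, hai⟩ := hli
    let ψ : (Fin n → F) →ₗ[F] F := ∑ i, (a i : F) • (LinearMap.proj i : (Fin n → F) →ₗ[F] F)
    have hψ : RF F₀ ψ := fun j => by
      simp only [ψ, LinearMap.coe_sum, Finset.sum_apply, LinearMap.smul_apply, LinearMap.proj_apply,
        smul_eq_mul]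
      exact F₀.sum_mem fun k _ => F₀.mul_mem (a k).2 (rv_single j k)
    refine dep M (by omega) hM hg hgR hx hx0 hψ (fun h => hai ?_) ?_
    · have := LinearMap.congr_fun h (Pi.single i 1)
      simp [ψ, Pi.single_apply] at this
      exact this
    · simp only [ψ, LinearMap.coe_sum, Finset.sum_apply, LinearMap.smul_apply, LinearMap.proj_apply]
      exact hasum
  -- odd prime degree at least `n`
  have hr2 : 2 < r := by omega
  by_contra hcon
  have hdep : ∀ g ∈ M, ¬ RS F₀ g → ∀ (x : Fin n → F) (ψ : (Fin n → F) →ₗ[F] F), RV F₀ x → x ≠ 0 →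
      RF F₀ ψ → ψ ≠ 0 → ψ ((g : Matrix (Fin n) (Fin n) F) *ᵥ x) ≠ 0 := fun g hg hgR x ψ hx hx0 hψ hψ0 h =>
    hcon (dep M (by omega) hM hg hgR hx hx0 hψ hψ0 h)
  -- rationality of involutions
  have hinv : ∀ z : GL (Fin n) F, z * z = 1 → RS F₀ z → RM F₀ (z : Matrix (Fin n) (Fin n) F) := by
    rintro z hz ⟨c, hc0, hc⟩
    have h1 : RM F₀ ((c * c) • (1 : Matrix (Fin n) (Fin n) F)) := by
      have h2 := rm_mul hc hc
      rwa [smul_mul_smul_comm, ← Units.val_mul, hz, Units.val_one] at h2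
    have h2 := h1 ⟨0, by omega⟩ ⟨0, by omega⟩
    simp at h2
    have hcF := mem_of_sq_mem hr hr2 hcard h2
    intro i j
    have h3 := F₀.mul_mem (F₀.inv_mem hcF) (hc i j)
    rwa [Matrix.smul_apply, smul_eq_mul, ← mul_assoc, inv_mul_cancel₀ hc0, one_mul] at h3
  -- centralisers of rational involutions
  have hcent : ∀ z : GL (Fin n) F, RM F₀ (z : Matrix (Fin n) (Fin n) F) → z * z = 1 →
      (z : Matrix (Fin n) (Fin n) F) ≠ 1 → (z : Matrix (Fin n) (Fin n) F) ≠ -1 →
      ∀ h ∈ M, z * h = h * z → RS F₀ h := by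
    intro z hz hz2 hz1 hzm h hh hcomm
    by_contra hR
    obtain ⟨x, ψ, hx, hx0, hψ, hψ0, h0⟩ := dep_of_intertwine hz hz hz1 hzm
      (by rw [← Units.val_mul, hz2, Units.val_one])
      (show (z : Matrix (Fin n) (Fin n) F) * h = h * z by rw [← Units.val_mul, hcomm, Units.val_mul])
    exact hdep h hh hR x ψ hx hx0 hψ hψ0 h0
  obtain ⟨t, s, htS, hsS, htr, hsr, ht2, hs2, ht1, htm, hs1, hsm, hne, hne2⟩ :=
    exists_invols (F := F) (F₀ := F₀) hn
  have htM : t ∈ M := hM t htS ⟨1, one_ne_zero, by rwa [one_smul]⟩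
  have hsM : s ∈ M := hM s hsS ⟨1, one_ne_zero, by rwa [one_smul]⟩
  obtain ⟨t', ht'⟩ : ∃ t', t' = g * s * g⁻¹ := ⟨_, rfl⟩
  have ht'2 : t' * t' = 1 := by
    rw [ht']
    calc g * s * g⁻¹ * (g * s * g⁻¹) = g * (s * s) * g⁻¹ := by group
      _ = 1 := by rw [hs2, mul_one, mul_inv_cancel]
  have ht'M : t' ∈ M := ht' ▸ M.mul_mem (M.mul_mem hg hsM) (M.inv_mem hg)
  have ht'R : ¬ RS F₀ t' := by
    intro hR
    have hrm := hinv t' ht'2 hR
    have h1 : (t' : Matrix (Fin n) (Fin n) F) ≠ 1 := by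
      intro h
      apply hs1
      have h9 : t' = 1 := Units.ext h
      rw [ht', mul_inv_eq_one, mul_eq_left] at h9
      rw [h9, Units.val_one]
    obtain ⟨x, ψ, hx, hx0, hψ, hψ0, h0⟩ := dep_of_intertwine hrm hsr h1 hsm
      (by rw [← Units.val_mul, hs2, Units.val_one])
      (show (t' : Matrix (Fin n) (Fin n) F) * g = g * s by
        rw [← Units.val_mul, ← Units.val_mul, ht', inv_mul_cancel_right])
    exact hdep g hg hgR x ψ hx hx0 hψ hψ0 h0
  obtain ⟨R, hR⟩ : ∃ R, R = t * t' := ⟨_, rfl⟩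
  have hti : t⁻¹ = t := inv_eq_of_mul_eq_one_right ht2
  have ht'i : t'⁻¹ = t' := inv_eq_of_mul_eq_one_right ht'2
  have hRinv : R⁻¹ = t' * t := by rw [hR, _root_.mul_inv_rev, hti, ht'i]
  have hflipt : ∀ k : ℕ, t * R ^ k = (R ^ k)⁻¹ * t := by
    intro k
    induction k with
    | zero => simp
    | succ k ih =>
      have e : t * R = R⁻¹ * t := by
        rw [hRinv, mul_assoc, ht2, mul_one, hR, ← mul_assoc, ht2, one_mul]
      have e2 : (R ^ (k + 1))⁻¹ = (R ^ k)⁻¹ * R⁻¹ := by rw [pow_succ', _root_.mul_inv_rev]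
      rw [pow_succ, ← mul_assoc, ih, mul_assoc, e, ← mul_assoc, ← e2, pow_succ]
  have ht'eq : t' = t * R := by rw [hR, ← mul_assoc, ht2, one_mul]
  have hconj : ∀ j : ℕ, R ^ j * t' * (R ^ j)⁻¹ = R ^ (2 * j) * t' := by
    intro j
    have e : t' * (R ^ j)⁻¹ = R ^ j * t' := by
      have e1 : t * (R ^ j)⁻¹ = R ^ j * t := by
        rw [mul_inv_eq_iff_eq_mul, mul_assoc, hflipt, ← mul_assoc, mul_inv_cancel, one_mul]
      have e2 : R * (R ^ j)⁻¹ = (R ^ j)⁻¹ * R := ((Commute.self_pow R j).inv_right).eq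
      rw [ht'eq, mul_assoc, e2, ← mul_assoc, e1, mul_assoc]
    rw [mul_assoc, e, ← mul_assoc, ← pow_add, two_mul]
  haveI : Finite (GL (Fin n) F) := inferInstance
  have hm := pow_orderOf_eq_one R
  have hmpos : 0 < orderOf R := orderOf_pos R
  have htR : R * t' = t := by rw [hR, mul_assoc, ht'2, mul_one]
  rcases Nat.even_or_odd (orderOf R) with ⟨k, hk⟩ | ⟨k, hk⟩
  · -- a central involution
    rw [← two_mul] at hk
    obtain ⟨z, hz⟩ : ∃ z, z = R ^ k := ⟨_, rfl⟩
    have hz1 : z ≠ 1 := hz ▸ pow_ne_one_of_lt_orderOf (by omega) (by omega)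
    have hz2 : z * z = 1 := by rw [hz, ← pow_add, ← two_mul, ← hk, hm]
    have hzi : z⁻¹ = z := inv_eq_of_mul_eq_one_right hz2
    have hzt : t * z = z * t := by
      rw [hz, hflipt, ← hz, hzi]
    have hzt' : z * t' = t' * z := by
      rw [ht'eq, mul_assoc t, ← mul_assoc z, ← hzt, mul_assoc, hz, ← pow_succ, ← pow_succ']
    by_cases hzm : (z : Matrix (Fin n) (Fin n) F) = -1
    · have h2 : (2 : F) ≠ 0 := by
        intro h2
        apply hz1
        refine Units.ext ?_
        rw [hzm, Units.val_one]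
        ext i j
        rw [Matrix.neg_apply]
        linear_combination -(1 : Matrix (Fin n) (Fin n) F) i j * h2
      rcases Nat.even_or_odd k with ⟨l, hl⟩ | ⟨l, hl⟩
      · rw [← two_mul] at hl
        have hy : R ^ l * t * (R ^ l)⁻¹ = z * t := by
          rw [mul_assoc, hz, hl, two_mul, pow_add, mul_assoc]
          congr 1
          rw [mul_inv_eq_iff_eq_mul, mul_assoc, hflipt, ← mul_assoc, mul_inv_cancel, one_mul]
        refine ((hne2 h2) (R ^ l)).2 ?_
        rw [hy, Units.val_mul, hzm, neg_one_mul]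
      · refine ((hne2 h2) (R ^ (l + 1) * g)).1 ?_
        have : R ^ (l + 1) * g * s * (R ^ (l + 1) * g)⁻¹ = z * t := by
          rw [show R ^ (l + 1) * g * s * (R ^ (l + 1) * g)⁻¹ = R ^ (l + 1) * t' * (R ^ (l + 1))⁻¹ by
            rw [ht']; group, hconj, show 2 * (l + 1) = k + 1 by omega, pow_succ, mul_assoc, htR, hz]
        rw [this, Units.val_mul, hzm, neg_one_mul]
    · have hzM : z ∈ M := hz ▸ M.pow_mem (hR ▸ M.mul_mem htM ht'M) k
      have hzR := hinv z hz2 (hcent t htr ht2 ht1 htm z hzM hzt)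
      exact ht'R (hcent z hzR hz2 (fun h => hz1 (Units.ext h)) hzm t' ht'M hzt')
  · refine hne (R ^ (k + 1) * g) ?_
    rw [show R ^ (k + 1) * g * s * (R ^ (k + 1) * g)⁻¹ = R ^ (k + 1) * t' * (R ^ (k + 1))⁻¹ by
      rw [ht']; group, hconj, show 2 * (k + 1) = orderOf R + 1 by omega, pow_succ, hm, one_mul, htR]

end CfsgLib.Lie.SubfieldMax
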