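import Cfsg.Agent.Lie.SpMax2
import Cfsg.Agent.Lie.SubfieldMax2

/-!
The subfield subgroups of prime degree of the symplectic group, first part: transvections.
-/

set_option autoImplicit false
set_option linter.unusedSimpArgs false
set_option linter.unusedSectionVars false

namespace CfsgLib.Lie.SubfieldSp

open Matrix
open CfsgLib.Lie.OrthMaxSp (tvGL tvGL_mulVec tvGL_mem tvGL_smul tvGL_mul tvGL_zero conj_tvGL mem_spGL)

variable {m : ℕ} {F : Type*} [Field F] {F₀ : Subfield F}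

/-- inclusion of the rational vectors -/
def inc (v : Sp.V m F₀) : Sp.V m F := fun i => (v i : F)

theorem inc_add (u v : Sp.V m F₀) : inc (u + v) = inc u + inc v := rfl

theorem inc_sub (u v : Sp.V m F₀) : inc (u - v) = inc u - inc v := rfl

theorem inc_smul (a : F₀) (v : Sp.V m F₀) : inc (a • v) = (a : F) • inc v := rfl

theorem inc_zero : inc (0 : Sp.V m F₀) = 0 := rfl

theorem inc_injective : Function.Injective (inc : Sp.V m F₀ → Sp.V m F) :=
  fun _ _ h => funext fun i => Subtype.ext (congrFun h i)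

theorem inc_single (j : Fin m ⊕ Fin m) : inc (Pi.single j (1 : F₀)) = Pi.single j (1 : F) := by
  funext i
  by_cases h : i = j
  · subst h; simp [inc]
  · simp [inc, h]

theorem bf_inc (u v : Sp.V m F₀) :
    Sp.bf m F (inc u) (inc v) = ((Sp.bf m F₀ u v : F₀) : F) := by
  simp [Sp.bf_apply, inc]

/-- entries in the subfield -/
def RM (F₀ : Subfield F) (X : Matrix (Fin m ⊕ Fin m) (Fin m ⊕ Fin m) F) : Prop :=
  ∀ i j, X i j ∈ F₀

/-- rational up to a scalar -/
def RS (F₀ : Subfield F) (g : GL (Fin m ⊕ Fin m) F) : Prop :=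
  ∃ c : F, c ≠ 0 ∧ RM F₀ (c • (g : Matrix (Fin m ⊕ Fin m) (Fin m ⊕ Fin m) F))

theorem linearIndependent_cons2 {u v : Sp.V m F₀} (hu : u ≠ 0)
    (hv : v ∉ Submodule.span F₀ {u}) : LinearIndependent F₀ ![u, v] := by
  rw [LinearIndependent.pair_iff]
  intro s t h
  by_cases ht : t = 0
  · rw [ht, zero_smul, add_zero] at h
    exact ⟨(smul_eq_zero.1 h).resolve_right hu, ht⟩
  · exfalso; apply hv
    rw [← Submodule.smul_mem_iff _ ht, eq_neg_of_add_eq_zero_right h]
    exact neg_mem (Submodule.smul_mem _ _ (Submodule.mem_span_singleton_self u))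

/-- Witt's theorem for families, with the image in the symplectic group over `F`. -/
theorem exists_lift {k : ℕ} (a b : Fin k → Sp.V m F₀) (ha : LinearIndependent F₀ a)
    (hb : LinearIndependent F₀ b)
    (h : ∀ i j, Sp.bf m F₀ (a i) (a j) = Sp.bf m F₀ (b i) (b j)) :
    ∃ g ∈ Cfsg.spGL m F, RS F₀ g ∧
      ∀ i, (g : Matrix (Fin m ⊕ Fin m) (Fin m ⊕ Fin m) F) *ᵥ inc (a i) = inc (b i) := by
  let e := Module.Basis.span ha
  let φ : Submodule.span F₀ (Set.range a) →ₗ[F₀] Sp.V m F₀ := e.constr F₀ b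
  have hφ : ∀ i, φ (e i) = b i := fun i => Module.Basis.constr_basis _ _ _ _
  have hea : ∀ i, (e i : Sp.V m F₀) = a i := fun i => congrArg Subtype.val (Module.Basis.span_apply ha i)
  have hinj : Function.Injective φ := by
    rw [← LinearMap.ker_eq_bot, Submodule.eq_bot_iff]
    intro x hx
    rw [LinearMap.mem_ker, Module.Basis.constr_apply_fintype] at hx
    have := Fintype.linearIndependent_iff.1 hb _ hx
    rw [← e.sum_equivFun x]
    exact Finset.sum_eq_zero fun i _ => by rw [this i, zero_smul]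
  have hiso : ∀ x y : Submodule.span F₀ (Set.range a),
      Sp.bf m F₀ (φ x) (φ y) = Sp.bf m F₀ (x : Sp.V m F₀) (y : Sp.V m F₀) := by
    have key : (Sp.bf m F₀).compl₁₂ φ φ = (Sp.bf m F₀).compl₁₂ (Submodule.subtype _) (Submodule.subtype _) :=
      LinearMap.ext_basis e e fun i j => by simp [hφ, hea, h]
    intro x y
    exact LinearMap.congr_fun (LinearMap.congr_fun key x) y
  obtain ⟨t, ht, htX⟩ := Witt.witt_alternating (Sp.bf m F₀) Sp.bf_self SpMax.bf_nondeg.1 _ φ hinj hiso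
  let T : GL (Fin m ⊕ Fin m) F₀ :=
    { val := LinearMap.toMatrix' t.toLinearMap
      inv := LinearMap.toMatrix' t.symm.toLinearMap
      val_inv := by rw [← LinearMap.toMatrix'_comp]; simp
      inv_val := by rw [← LinearMap.toMatrix'_comp]; simp }
  let G := Matrix.GeneralLinearGroup.map (F₀.subtype : F₀ →+* F) T
  have hG : ∀ v, (G : Matrix (Fin m ⊕ Fin m) (Fin m ⊕ Fin m) F) *ᵥ inc v = inc (t v) := by
    intro v
    have e1 : (T : Matrix (Fin m ⊕ Fin m) (Fin m ⊕ Fin m) F₀) *ᵥ v = t v := LinearMap.toMatrix'_mulVec _ _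
    rw [← e1]
    funext i
    exact ((F₀.subtype).map_mulVec (T : Matrix (Fin m ⊕ Fin m) (Fin m ⊕ Fin m) F₀) v i).symm
  refine ⟨G, mem_spGL.2 fun u v => ?_, ⟨1, one_ne_zero, fun i j => by
    rw [one_smul]; exact ((T : Matrix (Fin m ⊕ Fin m) (Fin m ⊕ Fin m) F₀) i j).2⟩, fun i => ?_⟩
  · have key : (Sp.bf m F).compl₁₂ (Matrix.toLin' (G : Matrix (Fin m ⊕ Fin m) (Fin m ⊕ Fin m) F))
        (Matrix.toLin' (G : Matrix (Fin m ⊕ Fin m) (Fin m ⊕ Fin m) F)) = Sp.bf m F := by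
      refine LinearMap.ext_basis (Pi.basisFun F _) (Pi.basisFun F _) fun i j => ?_
      simp only [LinearMap.compl₁₂_apply, Pi.basisFun_apply, Matrix.toLin'_apply]
      rw [← inc_single (F₀ := F₀) i, ← inc_single (F₀ := F₀) j, hG, hG, bf_inc, bf_inc, ht]
    exact LinearMap.congr_fun (LinearMap.congr_fun key u) v
  · rw [hG]
    have := htX (e i)
    rw [hea, hφ] at this
    rw [this]

theorem subring_eq_top [Finite F] {r : ℕ} (hr : r.Prime) (hcard : Nat.card F = Nat.card F₀ ^ r)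
    (R : Subring F) (hle : ∀ a ∈ F₀, a ∈ R) {μ : F} (hμ : μ ∉ F₀) (hμR : μ ∈ R) (a : F) : a ∈ R := by
  let L : Subfield F :=
    { R with
      inv_mem' := fun a ha => by
        haveI : Fintype F := Fintype.ofFinite F
        change a⁻¹ ∈ R
        by_cases ha0 : a = 0
        · rw [ha0, _root_.inv_zero]; exact R.zero_mem
        have hq : 2 ≤ Fintype.card F := Fintype.one_lt_card
        have h1 : a ^ (Fintype.card F - 2) * a = 1 := by
          rw [← pow_succ, show Fintype.card F - 2 + 1 = Fintype.card F - 1 by omega,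
            FiniteField.pow_card_sub_one_eq_one a ha0]
        rw [inv_eq_of_mul_eq_one_left h1]
        exact R.pow_mem ha _ }
  have hLmem : ∀ a, a ∈ L ↔ a ∈ R := fun a => Iff.rfl
  have hle' : F₀ ≤ L := fun a ha => (hLmem a).2 (hle a ha)
  letI : Algebra F₀ L := (Subfield.inclusion hle').toAlgebra
  haveI : IsScalarTower F₀ L F := IsScalarTower.of_algebraMap_eq fun x => rfl
  have hmul' := Module.finrank_mul_finrank F₀ L F
  have hc1 : Nat.card F = Nat.card F₀ ^ Module.finrank F₀ F := Module.natCard_eq_pow_finrank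
  have hc2 : Nat.card L = Nat.card F₀ ^ Module.finrank F₀ L := Module.natCard_eq_pow_finrank
  have hq0 : 2 ≤ Nat.card F₀ := Finite.one_lt_card
  have hfr : Module.finrank F₀ F = r := Nat.pow_right_injective hq0 (hc1.symm.trans hcard)
  rw [hfr] at hmul'
  rcases hr.eq_one_or_self_of_dvd _ ⟨_, hmul'.symm⟩ with h1 | h1
  · exfalso
    rw [h1, pow_one] at hc2
    apply hμ
    have heq : (F₀ : Set F) = (L : Set F) := Set.eq_of_subset_of_ncard_le hle' (by
      rw [← Nat.card_coe_set_eq, ← Nat.card_coe_set_eq]; exact le_of_eq hc2) (Set.toFinite _)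
    have : μ ∈ (L : Set F) := (hLmem μ).2 hμR
    rwa [← heq] at this
  · rw [h1, ← hcard] at hc2
    have heq : (L : Set F) = Set.univ := Set.eq_of_subset_of_ncard_le (Set.subset_univ _) (by
      rw [Set.ncard_univ, ← Nat.card_coe_set_eq]; exact le_of_eq hc2.symm) (Set.toFinite _)
    refine (hLmem a).1 (show a ∈ (L : Set F) from ?_)
    rw [heq]; trivial

/-- standard tuple -/
def std (hm : 7 ≤ m) : Fin 3 → Sp.V m F₀ := fun i => Sp.e ⟨i, by omega⟩

theorem std_indep (hm : 7 ≤ m) : LinearIndependent F₀ (std (F₀ := F₀) hm) := by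
  rw [Fintype.linearIndependent_iff]
  intro g hg i
  have := congrFun hg (.inl ⟨i, by omega⟩)
  rw [Finset.sum_apply, Finset.sum_eq_single i] at this
  · simpa [std, Sp.e] using this
  · intro j _ hj
    have h9 : (⟨(i : ℕ), by omega⟩ : Fin m) ≠ ⟨j, by omega⟩ := fun h => hj (Fin.ext (Fin.mk.inj_iff.1 h).symm)
    simp [std, Sp.e, Pi.single_apply, h9]
  · simp

theorem std_orth (hm : 7 ≤ m) (i j : Fin 3) :
    Sp.bf m F₀ (std (F₀ := F₀) hm i) (std (F₀ := F₀) hm j) = 0 := by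
  simp only [std, Sp.bf_e_left]; simp [Sp.e]

/-- existence of an element moving one rational vector along another and fixing a third -/
def G3 (hm : 7 ≤ m) (M : Subgroup (GL (Fin m ⊕ Fin m) F)) {F₀ : Subfield F} (l : F) : Prop :=
  ∃ h ∈ M, (h : Matrix (Fin m ⊕ Fin m) (Fin m ⊕ Fin m) F) *ᵥ inc (std (F₀ := F₀) hm 0) = inc (std (F₀ := F₀) hm 0) ∧
    (h : Matrix (Fin m ⊕ Fin m) (Fin m ⊕ Fin m) F) *ᵥ inc (std (F₀ := F₀) hm 1) = inc (std (F₀ := F₀) hm 1) + l • inc (std (F₀ := F₀) hm 0) ∧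
    (h : Matrix (Fin m ⊕ Fin m) (Fin m ⊕ Fin m) F) *ᵥ inc (std (F₀ := F₀) hm 2) = inc (std (F₀ := F₀) hm 2)

section

variable (hm : 7 ≤ m) (M : Subgroup (GL (Fin m ⊕ Fin m) F))
  (hM : ∀ g ∈ Cfsg.spGL m F, RS F₀ g → g ∈ M) (hMS : M ≤ Cfsg.spGL m F)
include hm hM hMS

omit hMS in
/-- conjugation into another tuple -/
theorem transport {h : GL (Fin m ⊕ Fin m) F} (hh : h ∈ M) (a b : Fin 3 → Sp.V m F₀)
    (ha : LinearIndependent F₀ a) (hb : LinearIndependent F₀ b)
    (hao : ∀ i j, Sp.bf m F₀ (a i) (a j) = 0) (hbo : ∀ i j, Sp.bf m F₀ (b i) (b j) = 0)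
    (c : Fin 3 → Fin 3 → F)
    (hc : ∀ i, (h : Matrix (Fin m ⊕ Fin m) (Fin m ⊕ Fin m) F) *ᵥ inc (a i) = ∑ j, c i j • inc (a j)) :
    ∃ h' ∈ M, ∀ i, (h' : Matrix (Fin m ⊕ Fin m) (Fin m ⊕ Fin m) F) *ᵥ inc (b i) = ∑ j, c i j • inc (b j) := by
  obtain ⟨k, hk, hkR, hk'⟩ := exists_lift a b ha hb (fun i j => by rw [hao, hbo])
  refine ⟨k * h * k⁻¹, M.mul_mem (M.mul_mem (hM k hk hkR) hh) (M.inv_mem (hM k hk hkR)), fun i => ?_⟩
  rw [← hk' i, Units.val_mul, Units.val_mul, ← Matrix.mulVec_mulVec, ← Matrix.mulVec_mulVec,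
    FormMaxSL.inv_mulVec_mulVec, hc, Matrix.mulVec_sum]
  exact Finset.sum_congr rfl fun j _ => by rw [Matrix.mulVec_smul, hk']

omit hMS in
theorem G3_of {l : F} (hl : G3 hm M (F₀ := F₀) l) (u v z : Sp.V m F₀)
    (hind : LinearIndependent F₀ ![u, v, z]) (huv : Sp.bf m F₀ u v = 0) (huz : Sp.bf m F₀ u z = 0)
    (hvz : Sp.bf m F₀ v z = 0) :
    ∃ h ∈ M, (h : Matrix (Fin m ⊕ Fin m) (Fin m ⊕ Fin m) F) *ᵥ inc u = inc u ∧ (h : Matrix (Fin m ⊕ Fin m) (Fin m ⊕ Fin m) F) *ᵥ inc v = inc v + l • inc u ∧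
      (h : Matrix (Fin m ⊕ Fin m) (Fin m ⊕ Fin m) F) *ᵥ inc z = inc z := by
  obtain ⟨h, hh, h0, h1, h2⟩ := hl
  have ho : ∀ i j, Sp.bf m F₀ (![u, v, z] i) (![u, v, z] j) = 0 := by
    have h01 : Sp.bf m F₀ v u = 0 := by rw [Sp.bf_swap, huv, neg_zero]
    have h02 : Sp.bf m F₀ z u = 0 := by rw [Sp.bf_swap, huz, neg_zero]
    have h12 : Sp.bf m F₀ z v = 0 := by rw [Sp.bf_swap, hvz, neg_zero]
    intro i j
    fin_cases i <;> fin_cases j <;> simp [huv, huz, hvz, h01, h02, h12, Sp.bf_self]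
  obtain ⟨h', hh', hc⟩ := transport hm M hM hh (std (F₀ := F₀) hm) ![u, v, z] (std_indep hm) hind
    (std_orth hm) ho ![![1, 0, 0], ![l, 1, 0], ![0, 0, 1]] (fun i => by
      fin_cases i
      · simp [Fin.sum_univ_three, h0]
      · simp [Fin.sum_univ_three, h1, add_comm]
      · simp [Fin.sum_univ_three, h2])
  refine ⟨h', hh', ?_, ?_, ?_⟩
  · simpa [Fin.sum_univ_three] using hc 0
  · simpa [Fin.sum_univ_three, add_comm] using hc 1
  · simpa [Fin.sum_univ_three] using hc 2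

omit hMS in
theorem perm3 (σ : Equiv.Perm (Fin 3)) :
    LinearIndependent F₀ ![std (F₀ := F₀) hm (σ 0), std (F₀ := F₀) hm (σ 1), std (F₀ := F₀) hm (σ 2)] := by
  have e : ![std (F₀ := F₀) hm (σ 0), std (F₀ := F₀) hm (σ 1), std (F₀ := F₀) hm (σ 2)] = std (F₀ := F₀) hm ∘ σ := by
    funext i; fin_cases i <;> rfl
  rw [e]; exact (std_indep hm).comp _ σ.injective

omit hMS in
/-- an element of the more general shape gives one of the standard shape -/
theorem G3_mk {h : GL (Fin m ⊕ Fin m) F} (hh : h ∈ M) (u v z : Sp.V m F₀)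
    (hind : LinearIndependent F₀ ![u, v, z]) (huv : Sp.bf m F₀ u v = 0) (huz : Sp.bf m F₀ u z = 0)
    (hvz : Sp.bf m F₀ v z = 0) (l β : F) (h0 : (h : Matrix (Fin m ⊕ Fin m) (Fin m ⊕ Fin m) F) *ᵥ inc u = inc u)
    (h1 : (h : Matrix (Fin m ⊕ Fin m) (Fin m ⊕ Fin m) F) *ᵥ inc v = inc v + l • inc u)
    (h2 : (h : Matrix (Fin m ⊕ Fin m) (Fin m ⊕ Fin m) F) *ᵥ inc z = inc z + β • inc u) : G3 hm M (F₀ := F₀) l := by
  have ho : ∀ i j, Sp.bf m F₀ (![u, v, z] i) (![u, v, z] j) = 0 := by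
    have h01 : Sp.bf m F₀ v u = 0 := by rw [Sp.bf_swap, huv, neg_zero]
    have h02 : Sp.bf m F₀ z u = 0 := by rw [Sp.bf_swap, huz, neg_zero]
    have h12 : Sp.bf m F₀ z v = 0 := by rw [Sp.bf_swap, hvz, neg_zero]
    intro i j
    fin_cases i <;> fin_cases j <;> simp [huv, huz, hvz, h01, h02, h12, Sp.bf_self]
  obtain ⟨a, haM, hc⟩ := transport hm M hM hh ![u, v, z] (std (F₀ := F₀) hm) hind (std_indep hm)
    ho (std_orth hm) ![![1, 0, 0], ![l, 1, 0], ![β, 0, 1]] (fun i => by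
      fin_cases i
      · simp [Fin.sum_univ_three, h0]
      · simp [Fin.sum_univ_three, h1, add_comm]
      · simp [Fin.sum_univ_three, h2, add_comm])
  have a0 : (a : Matrix (Fin m ⊕ Fin m) (Fin m ⊕ Fin m) F) *ᵥ inc (std (F₀ := F₀) hm 0) = inc (std (F₀ := F₀) hm 0) := by
    simpa [Fin.sum_univ_three] using hc 0
  have a1 : (a : Matrix (Fin m ⊕ Fin m) (Fin m ⊕ Fin m) F) *ᵥ inc (std (F₀ := F₀) hm 1) = inc (std (F₀ := F₀) hm 1) + l • inc (std (F₀ := F₀) hm 0) := by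
    simpa [Fin.sum_univ_three, add_comm] using hc 1
  have a2 : (a : Matrix (Fin m ⊕ Fin m) (Fin m ⊕ Fin m) F) *ᵥ inc (std (F₀ := F₀) hm 2) = inc (std (F₀ := F₀) hm 2) + β • inc (std (F₀ := F₀) hm 0) := by
    simpa [Fin.sum_univ_three, add_comm] using hc 2
  clear hc h0 h1 h2 ho
  set E0 := std (F₀ := F₀) hm 0
  set E1 := std (F₀ := F₀) hm 1
  set E2 := std (F₀ := F₀) hm 2
  -- a rational element
  have hind2 : LinearIndependent F₀ ![E0, E1, E2 + E1] := by
    rw [Fintype.linearIndependent_iff]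
    intro g hg
    rw [Fin.sum_univ_three] at hg
    have hg' := Fintype.linearIndependent_iff.1 (std_indep (F₀ := F₀) hm) ![g 0, g 1 + g 2, g 2] (by
      rw [Fin.sum_univ_three]
      simp only [Matrix.cons_val, add_smul]
      simp only [Matrix.cons_val, smul_add] at hg
      rw [← hg]
      abel)
    have e0 := hg' 0
    have e1 := hg' 1
    have e2 := hg' 2
    simp at e0 e1 e2
    intro i
    fin_cases i
    · exact e0
    · simpa [e2] using e1
    · exact e2
  obtain ⟨k, hk, hkR, hk'⟩ := exists_lift (std (F₀ := F₀) hm) ![E0, E1, E2 + E1] (std_indep hm) hind2 (fun i j => by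
    rw [std_orth hm]
    have o := std_orth (F₀ := F₀) hm
    fin_cases i <;> fin_cases j <;> simp [E0, E1, E2, o, map_add])
  have k0 : (k : Matrix (Fin m ⊕ Fin m) (Fin m ⊕ Fin m) F) *ᵥ inc E0 = inc E0 := by simpa using hk' 0
  have k1 : (k : Matrix (Fin m ⊕ Fin m) (Fin m ⊕ Fin m) F) *ᵥ inc E1 = inc E1 := by simpa using hk' 1
  have k2 : (k : Matrix (Fin m ⊕ Fin m) (Fin m ⊕ Fin m) F) *ᵥ inc E2 = inc E2 + inc E1 := by simpa [inc_add] using hk' 2
  have back : ∀ (g : GL (Fin m ⊕ Fin m) F) x y, (g : Matrix (Fin m ⊕ Fin m) (Fin m ⊕ Fin m) F) *ᵥ x = y →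
      ((g⁻¹ : GL (Fin m ⊕ Fin m) F) : Matrix (Fin m ⊕ Fin m) (Fin m ⊕ Fin m) F) *ᵥ y = x := fun g x y h => by
    rw [← h, FormMaxSL.inv_mulVec_mulVec]
  have ki0 := back k _ _ k0
  have ki1 := back k _ _ k1
  have ki2 : ((k⁻¹ : GL (Fin m ⊕ Fin m) F) : Matrix (Fin m ⊕ Fin m) (Fin m ⊕ Fin m) F) *ᵥ inc E2 = inc E2 - inc E1 := by
    have := back k _ _ k2
    rw [Matrix.mulVec_add, ki1] at this
    rw [eq_sub_iff_add_eq]; exact this
  have ai0 := back a _ _ a0
  have ai1 : ((a⁻¹ : GL (Fin m ⊕ Fin m) F) : Matrix (Fin m ⊕ Fin m) (Fin m ⊕ Fin m) F) *ᵥ inc E1 = inc E1 - l • inc E0 := by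
    have := back a _ _ a1
    rw [Matrix.mulVec_add, Matrix.mulVec_smul, ai0] at this
    rw [eq_sub_iff_add_eq]; exact this
  have ai2 : ((a⁻¹ : GL (Fin m ⊕ Fin m) F) : Matrix (Fin m ⊕ Fin m) (Fin m ⊕ Fin m) F) *ᵥ inc E2 = inc E2 - β • inc E0 := by
    have := back a _ _ a2
    rw [Matrix.mulVec_add, Matrix.mulVec_smul, ai0] at this
    rw [eq_sub_iff_add_eq]; exact this
  have hkM := hM k hk hkR
  obtain ⟨b, hb⟩ : ∃ b, b = a * k * a⁻¹ * k⁻¹ := ⟨_, rfl⟩
  have hbM : b ∈ M := hb ▸ M.mul_mem (M.mul_mem (M.mul_mem haM hkM) (M.inv_mem haM)) (M.inv_mem hkM)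
  have bmul : ∀ x, (b : Matrix (Fin m ⊕ Fin m) (Fin m ⊕ Fin m) F) *ᵥ x = (a : Matrix (Fin m ⊕ Fin m) (Fin m ⊕ Fin m) F) *ᵥ ((k : Matrix (Fin m ⊕ Fin m) (Fin m ⊕ Fin m) F) *ᵥ
      (((a⁻¹ : GL (Fin m ⊕ Fin m) F) : Matrix (Fin m ⊕ Fin m) (Fin m ⊕ Fin m) F) *ᵥ (((k⁻¹ : GL (Fin m ⊕ Fin m) F) : Matrix (Fin m ⊕ Fin m) (Fin m ⊕ Fin m) F) *ᵥ x))) := by
    intro x
    rw [hb]
    simp only [Units.val_mul, ← Matrix.mulVec_mulVec]
  have b0 : (b : Matrix (Fin m ⊕ Fin m) (Fin m ⊕ Fin m) F) *ᵥ inc E0 = inc E0 := by rw [bmul, ki0, ai0, k0, a0]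
  have b1 : (b : Matrix (Fin m ⊕ Fin m) (Fin m ⊕ Fin m) F) *ᵥ inc E1 = inc E1 := by
    rw [bmul, ki1, ai1, Matrix.mulVec_sub, Matrix.mulVec_smul, k1, k0, Matrix.mulVec_sub,
      Matrix.mulVec_smul, a1, a0, add_sub_cancel_right]
  have b2 : (b : Matrix (Fin m ⊕ Fin m) (Fin m ⊕ Fin m) F) *ᵥ inc E2 = inc E2 + l • inc E0 := by
    rw [bmul, ki2, Matrix.mulVec_sub, ai2, ai1]
    simp only [Matrix.mulVec_sub, Matrix.mulVec_smul, k0, k1, k2, Matrix.mulVec_add, a0, a1, a2]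
    abel
  -- exchange the last two
  obtain ⟨h', hh', hc'⟩ := transport hm M hM hbM ![E0, E2, E1] (std (F₀ := F₀) hm) (by
    have h9 := perm3 (F₀ := F₀) hm M hM (Equiv.swap 1 2); simpa [Equiv.swap_apply_def] using h9) (std_indep hm) (fun i j => by
    have o := std_orth (F₀ := F₀) hm
    fin_cases i <;> fin_cases j <;> simp [E0, E1, E2, o]) (std_orth hm) ![![1, 0, 0], ![l, 1, 0], ![0, 0, 1]] (fun i => by
      fin_cases i
      · simp [Fin.sum_univ_three, b0]
      · simp [Fin.sum_univ_three, b2, add_comm]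
      · simp [Fin.sum_univ_three, b1])
  exact ⟨h', hh', by simpa [Fin.sum_univ_three] using hc' 0,
    by simpa [Fin.sum_univ_three, add_comm, E0, E1] using hc' 1,
    by simpa [Fin.sum_univ_three] using hc' 2⟩

omit hMS in
theorem G3_rat {a : F} (ha : a ∈ F₀) : G3 hm M (F₀ := F₀) a := by
  have hind : LinearIndependent F₀
      ![std (F₀ := F₀) hm 0, std (F₀ := F₀) hm 1 + (⟨a, ha⟩ : F₀) • std (F₀ := F₀) hm 0, std (F₀ := F₀) hm 2] := by
    rw [Fintype.linearIndependent_iff]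
    intro g hg
    rw [Fin.sum_univ_three] at hg
    have hg' := Fintype.linearIndependent_iff.1 (std_indep (F₀ := F₀) hm) ![g 0 + g 1 * ⟨a, ha⟩, g 1, g 2] (by
      rw [Fin.sum_univ_three]
      simp only [Matrix.cons_val, add_smul, mul_smul]
      simp only [Matrix.cons_val, smul_add] at hg
      rw [← hg]
      abel)
    have e0 := hg' 0
    have e1 := hg' 1
    have e2 := hg' 2
    simp at e0 e1 e2
    intro i
    fin_cases i
    · simpa [e1] using e0
    · exact e1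
    · exact e2
  have o := std_orth (F₀ := F₀) hm
  obtain ⟨k, hk, hkR, hk'⟩ := exists_lift (std (F₀ := F₀) hm) _ (std_indep hm) hind (fun i j => by
    rw [o]
    fin_cases i <;> fin_cases j <;> simp [o, map_add, map_smul])
  exact ⟨k, hM k hk hkR, by simpa using hk' 0, by simpa [inc_add, inc_smul] using hk' 1,
    by simpa using hk' 2⟩

theorem G3_all [Finite F] {r : ℕ} (hr : r.Prime) (hcard : Nat.card F = Nat.card F₀ ^ r)
    {μ : F} (hμ : μ ∉ F₀) (hg : G3 hm M (F₀ := F₀) μ) (a : F) : G3 hm M (F₀ := F₀) a := by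
  have hadd : ∀ x y, G3 hm M (F₀ := F₀) x → G3 hm M (F₀ := F₀) y → G3 hm M (F₀ := F₀) (x + y) := by
    rintro x y ⟨p, hp, p0, p1, p2⟩ ⟨q, hq, q0, q1, q2⟩
    refine ⟨p * q, M.mul_mem hp hq, ?_, ?_, ?_⟩ <;> rw [Units.val_mul, ← Matrix.mulVec_mulVec]
    · rw [q0, p0]
    · rw [q1, Matrix.mulVec_add, Matrix.mulVec_smul, p1, p0, add_smul, add_assoc]
    · rw [q2, p2]
  have hneg : ∀ x, G3 hm M (F₀ := F₀) x → G3 hm M (F₀ := F₀) (-x) := by
    rintro x ⟨p, hp, p0, p1, p2⟩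
    have hp0 : ((p⁻¹ : GL (Fin m ⊕ Fin m) F) : Matrix (Fin m ⊕ Fin m) (Fin m ⊕ Fin m) F) *ᵥ inc (std (F₀ := F₀) hm 0) = inc (std (F₀ := F₀) hm 0) := by
      conv_lhs => rw [← p0]
      rw [FormMaxSL.inv_mulVec_mulVec]
    refine ⟨p⁻¹, M.inv_mem hp, hp0, ?_, ?_⟩
    · have h9 := congrArg (fun w => ((p⁻¹ : GL (Fin m ⊕ Fin m) F) : Matrix (Fin m ⊕ Fin m) (Fin m ⊕ Fin m) F) *ᵥ w) p1
      simp only [FormMaxSL.inv_mulVec_mulVec, Matrix.mulVec_add, Matrix.mulVec_smul, hp0] at h9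
      rw [neg_smul, ← sub_eq_add_neg, eq_sub_iff_add_eq]
      exact h9.symm
    · conv_lhs => rw [← p2]
      rw [FormMaxSL.inv_mulVec_mulVec]
  have hmul : ∀ x y, G3 hm M (F₀ := F₀) x → G3 hm M (F₀ := F₀) y → G3 hm M (F₀ := F₀) (x * y) := by
    intro x y hx hy
    have o := std_orth (F₀ := F₀) hm
    obtain ⟨p, hp, p0, p1, p2⟩ := hx
    have hσ : LinearIndependent F₀ ![std (F₀ := F₀) hm 1, std (F₀ := F₀) hm 2, std (F₀ := F₀) hm 0] := by
      have h9 := perm3 (F₀ := F₀) hm M hM (finRotate 3); simpa using h9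
    obtain ⟨q, hq, q1, q2, q0⟩ := G3_of hm M hM hy _ _ _ hσ (o 1 2) (o 1 0) (o 2 0)
    set E0 := std (F₀ := F₀) hm 0
    set E1 := std (F₀ := F₀) hm 1
    set E2 := std (F₀ := F₀) hm 2
    have back : ∀ (g : GL (Fin m ⊕ Fin m) F) x y, (g : Matrix (Fin m ⊕ Fin m) (Fin m ⊕ Fin m) F) *ᵥ x = y →
        ((g⁻¹ : GL (Fin m ⊕ Fin m) F) : Matrix (Fin m ⊕ Fin m) (Fin m ⊕ Fin m) F) *ᵥ y = x := fun g x y h => by
      rw [← h, FormMaxSL.inv_mulVec_mulVec]
    have qi0 := back q _ _ q0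
    have qi1 := back q _ _ q1
    have qi2 : ((q⁻¹ : GL (Fin m ⊕ Fin m) F) : Matrix (Fin m ⊕ Fin m) (Fin m ⊕ Fin m) F) *ᵥ inc E2 = inc E2 - y • inc E1 := by
      have := back q _ _ q2
      rw [Matrix.mulVec_add, Matrix.mulVec_smul, qi1] at this
      rw [eq_sub_iff_add_eq]; exact this
    have pi0 := back p _ _ p0
    have pi2 := back p _ _ p2
    have pi1 : ((p⁻¹ : GL (Fin m ⊕ Fin m) F) : Matrix (Fin m ⊕ Fin m) (Fin m ⊕ Fin m) F) *ᵥ inc E1 = inc E1 - x • inc E0 := by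
      have := back p _ _ p1
      rw [Matrix.mulVec_add, Matrix.mulVec_smul, pi0] at this
      rw [eq_sub_iff_add_eq]; exact this
    obtain ⟨b, hb⟩ : ∃ b, b = p * q * p⁻¹ * q⁻¹ := ⟨_, rfl⟩
    have hbM : b ∈ M := hb ▸ M.mul_mem (M.mul_mem (M.mul_mem hp hq) (M.inv_mem hp)) (M.inv_mem hq)
    have bmul : ∀ w, (b : Matrix (Fin m ⊕ Fin m) (Fin m ⊕ Fin m) F) *ᵥ w = (p : Matrix (Fin m ⊕ Fin m) (Fin m ⊕ Fin m) F) *ᵥ ((q : Matrix (Fin m ⊕ Fin m) (Fin m ⊕ Fin m) F) *ᵥ
        (((p⁻¹ : GL (Fin m ⊕ Fin m) F) : Matrix (Fin m ⊕ Fin m) (Fin m ⊕ Fin m) F) *ᵥ (((q⁻¹ : GL (Fin m ⊕ Fin m) F) : Matrix (Fin m ⊕ Fin m) (Fin m ⊕ Fin m) F) *ᵥ w))) := by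
      intro w
      rw [hb]
      simp only [Units.val_mul, ← Matrix.mulVec_mulVec]
    have b0 : (b : Matrix (Fin m ⊕ Fin m) (Fin m ⊕ Fin m) F) *ᵥ inc E0 = inc E0 := by rw [bmul, qi0, pi0, q0, p0]
    have b1 : (b : Matrix (Fin m ⊕ Fin m) (Fin m ⊕ Fin m) F) *ᵥ inc E1 = inc E1 := by
      rw [bmul, qi1, pi1, Matrix.mulVec_sub, Matrix.mulVec_smul, q1, q0, Matrix.mulVec_sub,
        Matrix.mulVec_smul, p1, p0, add_sub_cancel_right]
    have b2 : (b : Matrix (Fin m ⊕ Fin m) (Fin m ⊕ Fin m) F) *ᵥ inc E2 = inc E2 + (x * y) • inc E0 := by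
      rw [bmul, qi2]
      simp only [Matrix.mulVec_sub, Matrix.mulVec_smul, Matrix.mulVec_add, pi2, pi1, q0, q1, q2, p0, p1, p2]
      module
    exact G3_mk hm M hM hbM E0 E2 E1 (by have h9 := perm3 (F₀ := F₀) hm M hM (Equiv.swap 1 2); simpa [Equiv.swap_apply_def] using h9) (o 0 2) (o 0 1)
      (o 2 1) (x * y) 0 b0 b2 (by rw [b1, zero_smul, add_zero])
  let R : Subring F :=
    { carrier := {x | G3 hm M (F₀ := F₀) x}
      zero_mem' := G3_rat hm M hM F₀.zero_mem
      one_mem' := G3_rat hm M hM F₀.one_mem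
      add_mem' := fun {x y} hx hy => hadd x y hx hy
      neg_mem' := fun {x} hx => hneg x hx
      mul_mem' := fun {x y} hx hy => hmul x y hx hy }
  exact subring_eq_top hr hcard R (fun x hx => G3_rat hm M hM hx) hμ hg a

/-- The conclusion from one irrational entry. -/
theorem sp_le [Finite F] {r : ℕ} (hr : r.Prime) (hcard : Nat.card F = Nat.card F₀ ^ r)
    {μ : F} (hμ : μ ∉ F₀) (hg : G3 hm M (F₀ := F₀) μ) : Cfsg.spGL m F ≤ M := by
  haveI : Fintype F := Fintype.ofFinite F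
  have hall := G3_all hm M hM hMS hr hcard hμ hg
  have o := std_orth (F₀ := F₀) hm
  have hrat : ∀ u : Sp.V m F₀, tvGL (inc u) (1 : F) ∈ M := fun u => hM _ (tvGL_mem _ _) ⟨1, one_ne_zero, by
    intro i j
    rw [one_smul]
    have h9 := congrFun (tvGL_mulVec (inc u) (1 : F) (inc (Pi.single j (1 : F₀)))) i
    rw [bf_inc, inc_single, Matrix.mulVec_single_one] at h9
    simp only [Matrix.col_apply, Pi.add_apply, Pi.smul_apply, smul_eq_mul, one_mul] at h9
    rw [h9, ← inc_single (F₀ := F₀) j]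
    exact F₀.add_mem ((Pi.single j (1 : F₀) : Sp.V m F₀) i).2 (F₀.mul_mem (Sp.bf m F₀ _ _).2 (u i).2)⟩
  have hΩ : ∀ g ∈ M, ∀ w, tvGL w (1 : F) ∈ M →
      tvGL ((g : Matrix (Fin m ⊕ Fin m) (Fin m ⊕ Fin m) F) *ᵥ w) (1 : F) ∈ M := fun g hg w hw => by
    rw [← conj_tvGL (hMS hg)]; exact M.mul_mem (M.mul_mem hg hw) (M.inv_mem hg)
  set E0 := std (F₀ := F₀) hm 0
  set E1 := std (F₀ := F₀) hm 1
  -- all multiples of one rational vector
  have hsq : ∀ a : F, tvGL (inc E1) (a * a) ∈ M := by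
    intro a
    by_cases ha : a = 0
    · rw [ha, mul_zero, tvGL_zero]; exact M.one_mem
    obtain ⟨p, hp, p0, p1, -⟩ := hall 1
    obtain ⟨q, hq, q1, q0, -⟩ := G3_of hm M hM (hall (a - 1)) E1 E0 (std (F₀ := F₀) hm 2)
      (by have h9 := perm3 (F₀ := F₀) hm M hM (Equiv.swap 0 1); simpa [Equiv.swap_apply_def] using h9) (o 1 0) (o 1 2) (o 0 2)
    obtain ⟨s, hs, s0, s1, -⟩ := hall a⁻¹
    have h1 := hΩ _ hq _ (hΩ _ hp _ (hrat E1))
    rw [p1, Matrix.mulVec_add, Matrix.mulVec_smul, q1, q0] at h1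
    have e : inc E1 + (1 : F) • (inc E0 + (a - 1) • inc E1) = (s : Matrix (Fin m ⊕ Fin m) (Fin m ⊕ Fin m) F) *ᵥ (a • inc E1) := by
      rw [Matrix.mulVec_smul, s1]
      simp only [E0, E1]
      match_scalars <;> field_simp <;> ring
    rw [e] at h1
    have h2 := hΩ _ (M.inv_mem hs) _ h1
    rw [FormMaxSL.inv_mulVec_mulVec, tvGL_smul, mul_one] at h2
    exact h2
  have hline : ∀ c : F, tvGL (inc E1) c ∈ M := by
    intro c
    by_cases h2 : (2 : F) = 0
    · have hc : ringChar F = 2 := by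
        have h3 : ((2 : ℕ) : F) = 0 := by exact_mod_cast h2
        have h4 := ringChar.dvd h3
        rcases (Nat.dvd_prime Nat.prime_two).1 h4 with h5 | h5
        · exact absurd h5 (CharP.ringChar_ne_one)
        · exact h5
      obtain ⟨s, hs⟩ := FiniteField.isSquare_of_char_two hc c
      rw [hs]; exact hsq s
    · have e : c = ((c + 1) / 2) * ((c + 1) / 2) + -(((c - 1) / 2) * ((c - 1) / 2)) := by
        field_simp; ring
      rw [e, ← tvGL_mul]
      refine M.mul_mem (hsq _) ?_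
      have h9 := M.inv_mem (hsq ((c - 1) / 2))
      rwa [inv_eq_of_mul_eq_one_right (b := tvGL (inc E1) (-(((c - 1) / 2) * ((c - 1) / 2))))
        (by rw [tvGL_mul, add_neg_cancel, tvGL_zero])] at h9
  -- all rational lines are full
  have hfull : ∀ u : Sp.V m F₀, inc u ∈ SpMax.Full M := by
    intro u
    by_cases hu : u = 0
    · rw [hu, inc_zero]; exact SpMax.full_zero
    intro c
    obtain ⟨k, hk, hkR, hk'⟩ := exists_lift ![E1] ![u]
      (by
        have : ![E1] = std (F₀ := F₀) hm ∘ fun _ : Fin 1 => (1 : Fin 3) := by funext i; fin_cases i; rfl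
        rw [this]; exact (std_indep hm).comp _ (fun i j _ => Subsingleton.elim i j))
      (Fintype.linearIndependent_iff.2 fun g hg i => by
        fin_cases i; simpa [hu] using hg) (fun i j => by
        fin_cases i; fin_cases j; simp [Sp.bf_self])
    have hkM := hM k hk hkR
    have h1 := M.mul_mem (M.mul_mem hkM (hline c)) (M.inv_mem hkM)
    rw [conj_tvGL hk] at h1
    simpa using (show tvGL ((k : Matrix (Fin m ⊕ Fin m) (Fin m ⊕ Fin m) F) *ᵥ inc E1) c ∈ M from h1) |> fun h => by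
      have h0 := hk' 0
      simp only [Matrix.cons_val_zero] at h0
      rwa [h0] at h
  refine SpMax.le_of_full fun v => ?_
  -- planes
  have hsgl : ∀ (j : Fin m ⊕ Fin m) (a : F), (Pi.single j a : Sp.V m F) ∈ SpMax.Full M := by
    intro j a
    have := SpMax.full_smul (hfull (Pi.single j 1)) a
    rwa [inc_single, ← Pi.single_smul, smul_eq_mul, mul_one] at this
  let P : Fin m → Sp.V m F := fun i => Pi.single (.inl i) (v (.inl i)) + Pi.single (.inr i) (v (.inr i))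
  have hbe : ∀ i j : Fin m, ∀ a b : F, Sp.bf m F (Pi.single (.inl i) a) (Pi.single (.inr j) b) =
      if i = j then -(a * b) else 0 := by
    intro i j a b
    have e1 : (Pi.single (.inl i) a : Sp.V m F) = a • Sp.e i := by rw [Sp.e, ← Pi.single_smul, smul_eq_mul, mul_one]
    rw [e1, map_smul, LinearMap.smul_apply, Sp.bf_e_left, smul_eq_mul]
    by_cases h : i = j
    · subst h; simp
    · simp [h]
  have hplane : ∀ (i : Fin m) (a b : F), (Pi.single (.inl i) a + Pi.single (.inr i) b : Sp.V m F) ∈ SpMax.Full M := by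
    intro i a b
    by_cases ha : a = 0
    · simpa [ha] using hsgl (.inr i) b
    by_cases hb : b = 0
    · simpa [hb] using hsgl (.inl i) a
    have := SpMax.full_move (hsgl (.inl i) a) (hsgl (.inr i) b) (by simp [hbe, ha, hb]) 1
    rwa [one_smul] at this
  -- induction over planes
  suffices hind : ∀ s : Finset (Fin m), (∑ i ∈ s, P i) ∈ SpMax.Full M by
    have e : v = ∑ i, P i := by
      funext k
      rcases k with k | k <;> simp [P, Finset.sum_apply, Pi.single_apply]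
    rw [e]; exact hind _
  intro s
  induction s using Finset.induction with
  | empty => simpa using SpMax.full_zero
  | @insert i s his ih =>
    rw [Finset.sum_insert his]
    set w := ∑ j ∈ s, P j with hw
    by_cases hp : P i = 0
    · rwa [hp, zero_add]
    by_cases hw0 : w = 0
    · rw [hw0, add_zero]; exact hplane i _ _
    -- a standard vector in another plane
    obtain ⟨x, hxi, hxw⟩ : ∃ x : Fin m ⊕ Fin m, (∀ b, Sp.bf m F (Pi.single x 1) (Pi.single (.inl i) b) = 0 ∧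
        Sp.bf m F (Pi.single x 1) (Pi.single (.inr i) b) = 0) ∧ Sp.bf m F w (Pi.single x 1) ≠ 0 := by
      obtain ⟨j, hj, hwj⟩ : ∃ j ∈ s, Sp.bf m F w (Sp.e j) ≠ 0 ∨ Sp.bf m F w (Sp.f j) ≠ 0 := by
        by_contra h
        push Not at h
        apply hw0
        funext k
        have e1 : ∀ j, Sp.bf m F w (Sp.e j) = w (.inr j) := fun j => by
          rw [Sp.bf_swap, Sp.bf_e_left, neg_neg]
        have e2 : ∀ j, Sp.bf m F w (Sp.f j) = - w (.inl j) := fun j => by
          rw [Sp.bf_swap, Sp.bf_f_left]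
        rcases k with k | k
        · by_cases hk : k ∈ s
          · have := (h k hk).2; rw [e2, neg_eq_zero] at this; exact this
          · simp only [hw, Finset.sum_apply, Pi.zero_apply]
            refine Finset.sum_eq_zero fun j hj => ?_
            have : j ≠ k := fun h => hk (h ▸ hj)
            simp [P, this.symm]
        · by_cases hk : k ∈ s
          · have := (h k hk).1; rw [e1] at this; exact this
          · simp only [hw, Finset.sum_apply, Pi.zero_apply]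
            refine Finset.sum_eq_zero fun j hj => ?_
            have : j ≠ k := fun h => hk (h ▸ hj)
            simp [P, this.symm]
      have hji : j ≠ i := fun h => his (h ▸ hj)
      rcases hwj with h | h
      · refine ⟨.inl j, fun b => ⟨?_, ?_⟩, h⟩
        · rw [show (Pi.single (Sum.inl j) 1 : Sp.V m F) = Sp.e j from rfl, Sp.bf_e_left]; simp
        · rw [show (Pi.single (Sum.inl j) 1 : Sp.V m F) = Sp.e j from rfl, Sp.bf_e_left]; simp [hji]
      · refine ⟨.inr j, fun b => ⟨?_, ?_⟩, h⟩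
        · rw [show (Pi.single (Sum.inr j) 1 : Sp.V m F) = Sp.f j from rfl, Sp.bf_f_left]; simp [hji]
        · rw [show (Pi.single (Sum.inr j) 1 : Sp.V m F) = Sp.f j from rfl, Sp.bf_f_left]; simp
    -- a rational vector of the plane `i` not orthogonal to `P i`
    obtain ⟨y, hy, hPy, hyx, hyF⟩ : ∃ y : Fin m ⊕ Fin m, (y = .inl i ∨ y = .inr i) ∧
        Sp.bf m F (Pi.single y (1 : F) : Sp.V m F) (P i) ≠ 0 ∧ Sp.bf m F (Pi.single x (1 : F) : Sp.V m F) (Pi.single y (1 : F)) = 0 ∧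
        (∀ a : F, P i + a • (Pi.single y (1 : F) : Sp.V m F) ∈ SpMax.Full M) := by
      have hcase : v (.inl i) ≠ 0 ∨ v (.inr i) ≠ 0 := by
        by_contra h; push Not at h
        exact hp (by simp [P, h.1, h.2])
      rcases hcase with h | h
      · refine ⟨.inr i, Or.inr rfl, ?_, (hxi 1).2, fun a => ?_⟩
        · rw [show (Pi.single (Sum.inr i) 1 : Sp.V m F) = Sp.f i from rfl, Sp.bf_f_left]; simpa [P] using h
        · rw [← Pi.single_smul, smul_eq_mul, mul_one, add_assoc, ← Pi.single_add]; exact hplane i _ _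
      · refine ⟨.inl i, Or.inl rfl, ?_, (hxi 1).1, fun a => ?_⟩
        · rw [show (Pi.single (Sum.inl i) 1 : Sp.V m F) = Sp.e i from rfl, Sp.bf_e_left]; simpa [P] using h
        · rw [← Pi.single_smul, smul_eq_mul, mul_one, add_right_comm, ← Pi.single_add]; exact hplane i _ _
    have hxP : Sp.bf m F (Pi.single x 1) (P i) = 0 := by
      simp only [P, map_add, (hxi _).1, (hxi _).2, add_zero]
    have hwP : Sp.bf m F w (P i) = 0 := by
      rw [hw, map_sum, LinearMap.sum_apply]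
      refine Finset.sum_eq_zero fun j hj => ?_
      have hji : j ≠ i := fun h => his (h ▸ hj)
      simp only [P, map_add, LinearMap.add_apply, hbe]
      have hbe2 : ∀ a b : F, Sp.bf m F (Pi.single (.inr j) a) (Pi.single (.inl i) b) = 0 := fun a b => by
        rw [Sp.bf_swap, hbe]; simp [hji.symm]
      have hee : ∀ a b : F, Sp.bf m F (Pi.single (.inl j) a) (Pi.single (.inl i) b) = 0 := fun a b => by
        rw [show (Pi.single (.inl j) a : Sp.V m F) = a • Sp.e j by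
          rw [Sp.e, ← Pi.single_smul, smul_eq_mul, mul_one], map_smul, LinearMap.smul_apply, Sp.bf_e_left]
        simp
      have hff : ∀ a b : F, Sp.bf m F (Pi.single (.inr j) a) (Pi.single (.inr i) b) = 0 := fun a b => by
        rw [show (Pi.single (.inr j) a : Sp.V m F) = a • Sp.f j by
          rw [Sp.f, ← Pi.single_smul, smul_eq_mul, mul_one], map_smul, LinearMap.smul_apply, Sp.bf_f_left]
        simp
      simp [hji, hbe2, hee, hff]
    -- `x + P i` is full
    have hq : P i - Pi.single x (1 : F) ∈ SpMax.Full M := by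
      have h1 : (-1 : F) • (Pi.single x 1 + Pi.single y 1) ∈ SpMax.Full M := by
        refine SpMax.full_smul ?_ _
        have := hfull (Pi.single x 1 + Pi.single y 1)
        rwa [inc_add, inc_single, inc_single] at this
      have h2 := SpMax.full_move h1 (hyF 1) (by
        simp only [one_smul, map_smul, LinearMap.smul_apply, map_add, LinearMap.add_apply, Sp.bf_self,
          hxP, hyx, zero_add, add_zero, smul_eq_mul, neg_one_mul, neg_ne_zero]
        simpa using hPy) 1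
      rw [one_smul, one_smul] at h2
      convert h2 using 1
      rw [neg_one_smul]; abel
    have h1 := SpMax.full_move ih (hsgl x 1) hxw 1
    rw [one_smul] at h1
    have h2 := SpMax.full_move h1 hq (by
      simp only [map_sub, map_add, LinearMap.add_apply, LinearMap.sub_apply, hwP, hxP, Sp.bf_self]
      simpa using hxw) 1
    rw [one_smul] at h2
    convert h2 using 1
    abel

end

end CfsgLib.Lie.SubfieldSp
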