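import Cfsg.Agent.Lie.SUStab
import Cfsg.Agent.Lie.SubfieldSU
import Cfsg.Agent.Lie.SubfieldSp
import Cfsg.Agent.Lie.PolDecompSU2

/-!
Subfield subgroups of odd prime degree of the special unitary group, first part: the group is
everything once one root element is irrational.
-/

set_option autoImplicit false
set_option linter.unusedSimpArgs false
set_option linter.unusedSectionVars false

namespace CfsgLib.Lie.SubfieldSUOdd

open Matrix
open CfsgLib.Lie.Herm (form_add_left form_add_right form_smul_left form_smul_right form_comm form_single mem_GU)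
open CfsgLib.Lie.SUGen (tu tu_mulVec tu_mem_T tu_smul tu_mul tu_zero tu_inv conj_tu Tz form_sub_left form_sub_right)
open CfsgLib.Lie.SUFull (Full form_eq_zero_symm form_zero_left)
open CfsgLib.Lie.SubfieldSU (incn incn_add incn_sub incn_smul rv_incn exists_incn)
open CfsgLib.Lie.SubfieldMax (RV RM RS)

variable {F : Type*} [Field F] [Fintype F] {n q q0 r : ℕ} {F₀ : Subfield F} [Fintype F₀]

/-- standing hypotheses -/
structure Ctx (n q q0 r : ℕ) (F₀ : Subfield F) [Fintype F₀] (M : Subgroup (GL (Fin n) F)) : Prop where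
  hF : Fintype.card F = q ^ 2
  hF0 : Fintype.card F₀ = q0 ^ 2
  real : ∀ a : F₀, (a : F) ^ q = ((a ^ q0 : F₀) : F)
  hr : r.Prime
  hr2 : 2 < r
  hcard : Nat.card F = Nat.card F₀ ^ r
  hn : 13 ≤ n
  hM : ∀ g ∈ Cfsg.GU n F q ⊓ Cfsg.Geo.specialLinear (Fin n) F,
    RM F₀ (g : Matrix (Fin n) (Fin n) F) → g ∈ M
  hMS : M ≤ Cfsg.GU n F q ⊓ Cfsg.Geo.specialLinear (Fin n) F

theorem incn_zero : incn (0 : Fin n → F₀) = 0 := rfl

theorem incn_neg (u : Fin n → F₀) : incn (-u) = -incn u := rfl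

theorem incn_single (i : Fin n) : incn (Pi.single i (1 : F₀)) = Pi.single i (1 : F) := by
  funext j
  by_cases hj : j = i
  · subst hj; simp [incn]
  · simp [incn, hj]

theorem incn_injective : Function.Injective (incn : (Fin n → F₀) → Fin n → F) :=
  fun _ _ h => funext fun i => Subtype.ext (congrFun h i)

theorem rm_of_incn {X : Matrix (Fin n) (Fin n) F}
    (h : ∀ x : Fin n → F₀, RV F₀ (X *ᵥ incn x)) : RM F₀ X := by
  intro i j
  have h1 := h (Pi.single j 1) i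
  rw [incn_single, Matrix.mulVec_single_one] at h1
  exact h1

/-- a root element with given parameters lies in the group -/
def EM (q : ℕ) (M : Subgroup (GL (Fin n) F)) (x y : Fin n → F) (c : F) : Prop :=
  ∃ e ∈ M, ∀ v, (e : Matrix (Fin n) (Fin n) F) *ᵥ v =
    v + (c * Cfsg.hermForm n F q v y) • x - (c ^ q * Cfsg.hermForm n F q v x) • y

/-- the pair is admissible -/
def Pair (q0 : ℕ) (u v : Fin n → F₀) : Prop :=
  Cfsg.hermForm n F₀ q0 u u = 0 ∧ Cfsg.hermForm n F₀ q0 v v = 0 ∧ Cfsg.hermForm n F₀ q0 u v = 0 ∧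
    LinearIndependent F₀ ![u, v]

/-- the scalars of the root elements in the group -/
def Good (q q0 : ℕ) (F₀ : Subfield F) [Fintype F₀] (M : Subgroup (GL (Fin n) F)) (c : F) : Prop :=
  ∀ u v : Fin n → F₀, Pair q0 u v → EM q M (incn u) (incn v) c

/-- the vectors of the standard hyperbolic pairs -/
def vv {m : ℕ} (hm : 2 * m ≤ n) (π : Equiv.Perm (Fin n)) (γ : F₀) (k : Fin m) : Fin n → F₀ :=
  Pi.single (π ⟨2 * k, by omega⟩) 1 + γ • Pi.single (π ⟨2 * k + 1, by omega⟩) 1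

variable {M : Subgroup (GL (Fin n) F)}

namespace Ctx

theorem form_incn (C : Ctx n q q0 r F₀ M) (u v : Fin n → F₀) :
    Cfsg.hermForm n F q (incn u) (incn v) = ((Cfsg.hermForm n F₀ q0 u v : F₀) : F) := by
  simp only [Cfsg.hermForm, incn]
  rw [AddSubmonoidClass.coe_finsetSum]
  exact Finset.sum_congr rfl fun i _ => by rw [MulMemClass.coe_mul, ← C.real]

theorem mem_pow (C : Ctx n q q0 r F₀ M) {c : F} (hc : c ∈ F₀) : c ^ q ∈ F₀ :=
  (C.real ⟨c, hc⟩) ▸ ((⟨c, hc⟩ : F₀) ^ q0).2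

theorem mem_of_pow (C : Ctx n q q0 r F₀ M) {c : F} (hc : c ^ q ∈ F₀) : c ∈ F₀ := by
  have := C.mem_pow hc
  rwa [Herm.pow_pow_q C.hF] at this

theorem tz_coe (C : Ctx n q q0 r F₀ M) {d : F₀} (hd : Tz q0 d) : Tz q (d : F) := by
  unfold SUGen.Tz at hd ⊢
  rw [C.real, ← AddMemClass.coe_add, hd]
  rfl

theorem hMU (C : Ctx n q q0 r F₀ M) {g : GL (Fin n) F} (hg : g ∈ M) : g ∈ Cfsg.GU n F q := (C.hMS hg).1

theorem tu_rat (C : Ctx n q q0 r F₀ M) {u : Fin n → F₀} (hu : Cfsg.hermForm n F₀ q0 u u = 0) {d : F₀}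
    (hd : Tz q0 d) : tu q (incn u) (d : F) ∈ M := by
  have hu' : Cfsg.hermForm n F q (incn u) (incn u) = 0 := by rw [C.form_incn, hu]; rfl
  refine C.hM _ (SUGen.T_le C.hF (tu_mem_T hu' (C.tz_coe hd))) (rm_of_incn fun x => ?_)
  rw [tu_mulVec hu', C.form_incn]
  exact fun i => F₀.add_mem (x i).2 (F₀.mul_mem (F₀.mul_mem d.2 (SetLike.coe_mem _)) (u i).2)

theorem em_rat (C : Ctx n q q0 r F₀ M) {u v : Fin n → F₀} (hu : Cfsg.hermForm n F₀ q0 u u = 0)
    (hv : Cfsg.hermForm n F₀ q0 v v = 0) (huv : Cfsg.hermForm n F₀ q0 u v = 0) {c : F} (hc : c ∈ F₀) :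
    EM q M (incn u) (incn v) c := by
  have hu' : Cfsg.hermForm n F q (incn u) (incn u) = 0 := by rw [C.form_incn, hu]; rfl
  have hv' : Cfsg.hermForm n F q (incn v) (incn v) = 0 := by rw [C.form_incn, hv]; rfl
  have huv' : Cfsg.hermForm n F q (incn u) (incn v) = 0 := by rw [C.form_incn, huv]; rfl
  obtain ⟨e, he, hev⟩ := SUFull.exists_E C.hF hu' hv' huv' c
  refine ⟨e, C.hM _ (SUGen.T_le C.hF he) (rm_of_incn fun x => ?_), hev⟩
  rw [hev, C.form_incn, C.form_incn]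
  exact fun i => F₀.sub_mem (F₀.add_mem (x i).2 (F₀.mul_mem (F₀.mul_mem hc (SetLike.coe_mem _)) (u i).2))
    (F₀.mul_mem (F₀.mul_mem (C.mem_pow hc) (SetLike.coe_mem _)) (v i).2)

theorem em_conj (C : Ctx n q q0 r F₀ M) {g : GL (Fin n) F} (hg : g ∈ M) {x y : Fin n → F} {c : F}
    (h : EM q M x y c) :
    EM q M ((g : Matrix (Fin n) (Fin n) F) *ᵥ x) ((g : Matrix (Fin n) (Fin n) F) *ᵥ y) c := by
  obtain ⟨e, he, hev⟩ := h
  exact ⟨g * e * g⁻¹, M.mul_mem (M.mul_mem hg he) (M.inv_mem hg), PolDecompSU.root_conj (C.hMU hg) hev⟩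

theorem em_smul_right (C : Ctx n q q0 r F₀ M) {x y : Fin n → F} {μ c : F} (h : EM q M x (μ • y) c) :
    EM q M x y (c * μ ^ q) := by
  obtain ⟨e, he, hev⟩ := h
  refine ⟨e, he, fun v => ?_⟩
  rw [hev, form_smul_right, mul_pow, Herm.pow_pow_q C.hF]
  module

/-- lifting of rational partial isometries -/
theorem lift (C : Ctx n q q0 r F₀ M) {k : ℕ} (hk : k ≤ 3) (a b : Fin k → Fin n → F₀)
    (ha : LinearIndependent F₀ a) (hb : LinearIndependent F₀ b)
    (h : ∀ i j, Cfsg.hermForm n F₀ q0 (a i) (a j) = Cfsg.hermForm n F₀ q0 (b i) (b j)) :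
    ∃ g ∈ M, RM F₀ (g : Matrix (Fin n) (Fin n) F) ∧
      ∀ i, (g : Matrix (Fin n) (Fin n) F) *ᵥ incn (a i) = incn (b i) := by
  obtain ⟨e, hedef⟩ : ∃ e, e = Module.Basis.span ha := ⟨_, rfl⟩
  let φ : Submodule.span F₀ (Set.range a) →ₗ[F₀] (Fin n → F₀) := e.constr F₀ b
  have hφ : ∀ i, φ (e i) = b i := fun i => Module.Basis.constr_basis _ _ _ _
  have hea : ∀ i, (e i : Fin n → F₀) = a i := fun i => by
    rw [hedef]; exact congrArg Subtype.val (Module.Basis.span_apply ha i)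
  have hinj : Function.Injective φ := by
    rw [← LinearMap.ker_eq_bot, Submodule.eq_bot_iff]
    intro x hx
    rw [LinearMap.mem_ker, Module.Basis.constr_apply_fintype] at hx
    have := Fintype.linearIndependent_iff.1 hb _ hx
    rw [← e.sum_equivFun x]
    exact Finset.sum_eq_zero fun i _ => by rw [this i, zero_smul]
  have hiso : ∀ x y : Submodule.span F₀ (Set.range a),
      Cfsg.hermForm n F₀ q0 (φ x) (φ y) = Cfsg.hermForm n F₀ q0 (x : Fin n → F₀) (y : Fin n → F₀) := by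
    have := Herm.conj_surjective C.hF0
    have key : ((Herm.hb n C.hF0).comp φ).compl₂ φ =
        ((Herm.hb n C.hF0).comp (Submodule.subtype _)).compl₂ (Submodule.subtype _) :=
      LinearMap.ext_basis e e fun i j => by simp [hφ, hea, Herm.hb_apply, h]
    intro x y
    exact LinearMap.congr_fun (LinearMap.congr_fun key y) x
  -- an anisotropic vector orthogonal to the image
  obtain ⟨z, hz, hzz⟩ : ∃ z ∈ SUStab.perp C.hF0 (Submodule.span F₀ (Set.range b)),
      Cfsg.hermForm n F₀ q0 z z ≠ 0 := by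
    by_contra hcon
    push Not at hcon
    have h1 : SUStab.perp C.hF0 (Submodule.span F₀ (Set.range b)) ≤
        SUStab.perp C.hF0 (SUStab.perp C.hF0 (Submodule.span F₀ (Set.range b))) := fun x hx =>
      (SUStab.mem_perp C.hF0).2 fun y hy => SUStab.totally_of_iso C.hF0 hcon hx hy
    have h2 := Submodule.finrank_mono h1
    have h3 := SUStab.finrank_perp C.hF0 (Submodule.span F₀ (Set.range b))
    have h4 := SUStab.finrank_perp C.hF0 (SUStab.perp C.hF0 (Submodule.span F₀ (Set.range b)))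
    have h5 : Module.finrank F₀ (Submodule.span F₀ (Set.range b)) = k := by
      rw [finrank_span_eq_card hb, Fintype.card_fin]
    have := C.hn
    omega
  obtain ⟨g, hg, hgx⟩ := SUStab.exists_su C.hF0 _ φ hinj hiso hzz (fun x => by
    refine SUStab.mem_perp' C.hF0 hz ?_
    rw [Module.Basis.constr_apply_fintype]
    exact Submodule.sum_mem _ fun i _ => Submodule.smul_mem _ _ (Submodule.subset_span ⟨i, rfl⟩))
  obtain ⟨G, hG⟩ : ∃ G, G = Matrix.GeneralLinearGroup.map (F₀.subtype : F₀ →+* F) g := ⟨_, rfl⟩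
  have hGv : ∀ v, (G : Matrix (Fin n) (Fin n) F) *ᵥ incn v = incn ((g : Matrix (Fin n) (Fin n) F₀) *ᵥ v) := by
    intro v
    funext i
    rw [hG]
    exact ((F₀.subtype).map_mulVec (g : Matrix (Fin n) (Fin n) F₀) v i).symm
  have hGR : RM F₀ (G : Matrix (Fin n) (Fin n) F) := rm_of_incn fun x => by rw [hGv]; exact rv_incn _
  have hGU : G ∈ Cfsg.GU n F q := by
    rw [mem_GU]
    intro x y
    have := Herm.conj_surjective C.hF
    obtain ⟨L, hL⟩ : ∃ L, L = Matrix.toLin' (G : Matrix (Fin n) (Fin n) F) := ⟨_, rfl⟩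
    have key : ((Herm.hb n C.hF).comp L).compl₂ L = Herm.hb n C.hF := by
      refine LinearMap.ext_basis (Pi.basisFun F _) (Pi.basisFun F _) fun i j => ?_
      simp only [LinearMap.compl₂_apply, LinearMap.coe_comp, Function.comp_apply, Pi.basisFun_apply,
        Herm.hb_apply, hL, Matrix.toLin'_apply]
      rw [← incn_single (F₀ := F₀) i, ← incn_single (F₀ := F₀) j, hGv, hGv, C.form_incn, C.form_incn,
        mem_GU.1 hg.1]
    have h1 := LinearMap.congr_fun (LinearMap.congr_fun key y) x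
    simpa [Herm.hb_apply, hL] using h1
  have hGS : G ∈ Cfsg.Geo.specialLinear (Fin n) F := by
    refine Units.ext ?_
    have h1 : ((g : GL (Fin n) F₀) : Matrix (Fin n) (Fin n) F₀).det = 1 := congrArg Units.val hg.2
    show (G : Matrix (Fin n) (Fin n) F).det = 1
    rw [hG]
    show ((F₀.subtype).mapMatrix (g : Matrix (Fin n) (Fin n) F₀)).det = 1
    rw [← RingHom.map_det, h1, map_one]
  refine ⟨G, C.hM G ⟨hGU, hGS⟩ hGR, hGR, fun i => ?_⟩
  rw [hGv, ← hea, hgx, hφ]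

theorem transport (C : Ctx n q q0 r F₀ M) {u v u' v' : Fin n → F₀} (h : Pair q0 u v) (h' : Pair q0 u' v')
    {c : F} (he : EM q M (incn u) (incn v) c) : EM q M (incn u') (incn v') c := by
  obtain ⟨hu, hv, huv, hind⟩ := h
  obtain ⟨hu', hv', huv', hind'⟩ := h'
  have hvu := form_eq_zero_symm C.hF0 huv
  have hvu' := form_eq_zero_symm C.hF0 huv'
  obtain ⟨g, hg, -, hgv⟩ := C.lift (by norm_num) ![u, v] ![u', v'] hind hind' (fun i j => by
    fin_cases i <;> fin_cases j <;> simp [hu, hv, huv, hu', hv', huv', hvu, hvu'])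
  have h0 := hgv 0
  have h1 := hgv 1
  simp only [Matrix.cons_val_zero, Matrix.cons_val_one] at h0 h1
  rw [← h0, ← h1]
  exact C.em_conj hg he

theorem good_of_one (C : Ctx n q q0 r F₀ M) {u v : Fin n → F₀} (h : Pair q0 u v) {c : F}
    (he : EM q M (incn u) (incn v) c) : Good q q0 F₀ M c :=
  fun _ _ h' => C.transport h h' he

theorem good_rat (C : Ctx n q q0 r F₀ M) {c : F} (hc : c ∈ F₀) : Good q q0 F₀ M c :=
  fun _ _ h => C.em_rat h.1 h.2.1 h.2.2.1 hc

theorem good_add (C : Ctx n q q0 r F₀ M) {c d : F} (hc : Good q q0 F₀ M c) (hd : Good q q0 F₀ M d) :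
    Good q q0 F₀ M (c + d) := by
  intro u v h
  obtain ⟨e, he, hev⟩ := hc u v h
  obtain ⟨e', he', hev'⟩ := hd u v h
  have hu : Cfsg.hermForm n F q (incn u) (incn u) = 0 := by rw [C.form_incn, h.1]; rfl
  have hv : Cfsg.hermForm n F q (incn v) (incn v) = 0 := by rw [C.form_incn, h.2.1]; rfl
  have huv : Cfsg.hermForm n F q (incn u) (incn v) = 0 := by rw [C.form_incn, h.2.2.1]; rfl
  have hvu := form_eq_zero_symm C.hF huv
  refine ⟨e * e', M.mul_mem he he', fun x => ?_⟩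
  rw [Units.val_mul, ← Matrix.mulVec_mulVec, hev', hev, form_sub_left, form_sub_left, form_add_left,
    form_add_left, form_smul_left, form_smul_left, form_smul_left, form_smul_left, hu, hv, huv, hvu,
    Herm.add_pow_q C.hF]
  module

theorem exists_params (C : Ctx n q q0 r F₀ M) :
    ∃ α α' : F₀, α * α ^ q0 = -1 ∧ α' * α' ^ q0 = -1 ∧ α ≠ α' ∧ 1 + α * α' ^ q0 ≠ 0 := by
  have hm1 : (-1 : F₀) ^ q0 = -1 := by rw [← Herm.conj_apply C.hF0, map_neg, map_one]
  obtain ⟨α, hα⟩ := SUStab.exists_norm' C.hF0 (-1 : F₀) hm1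
  obtain ⟨θ, hθ⟩ := SUFull.exists_not_fixed C.hF0
  have hθ0 : θ ≠ 0 := fun h => hθ (by
    rw [h, zero_pow (by have := Herm.two_le C.hF0; omega), sub_zero])
  obtain ⟨ζ, hζ⟩ : ∃ ζ, ζ = θ ^ q0 / θ := ⟨_, rfl⟩
  have hζN : ζ * ζ ^ q0 = 1 := by
    rw [hζ, div_pow, Herm.pow_pow_q C.hF0]
    field_simp
  have hζ1 : ζ ≠ 1 := fun h => hθ (by rw [hζ, div_eq_one_iff_eq hθ0] at h; rw [h, sub_self])
  refine ⟨α, α * ζ, hα, ?_, fun h => ?_, fun h => ?_⟩
  · rw [mul_pow]; linear_combination (ζ * ζ ^ q0) * hα + (-1 : F₀) * hζN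
  · apply hζ1
    have hα0 : α ≠ 0 := fun h0 => by rw [h0, zero_mul] at hα; exact one_ne_zero (neg_eq_zero.1 hα.symm)
    exact mul_left_cancel₀ hα0 (h.symm.trans (mul_one α).symm)
  · apply hζ1
    rw [mul_pow] at h
    have h1 : ζ ^ q0 = 1 := by linear_combination -h + ζ ^ q0 * hα
    have h2 := congrArg (fun x => x ^ q0) h1
    simpa [Herm.pow_pow_q C.hF0] using h2

theorem form_vv (C : Ctx n q q0 r F₀ M) {m : ℕ} (hm : 2 * m ≤ n) (π : Equiv.Perm (Fin n)) (γ γ' : F₀)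
    (k l : Fin m) :
    Cfsg.hermForm n F₀ q0 (vv hm π γ k) (vv hm π γ' l) = if k = l then 1 + γ * γ' ^ q0 else 0 := by
  have e : ∀ i j : Fin n, Cfsg.hermForm n F₀ q0 (Pi.single i 1) (Pi.single j 1) = if i = j then 1 else 0 := by
    intro i j
    rw [form_single C.hF0, Pi.single_apply]
    simp only [eq_comm]
  simp only [vv, form_add_left, form_add_right C.hF0, form_smul_left, form_smul_right, e,
    π.injective.eq_iff, Fin.mk.injEq]
  by_cases hkl : k = l
  · subst hkl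
    simp [mul_comm]
  · have h' : (k : ℕ) ≠ (l : ℕ) := fun h => hkl (Fin.ext h)
    rw [if_neg hkl, if_neg (by omega), if_neg (by omega), if_neg (by omega), if_neg (by omega)]
    simp

theorem vv_iso (C : Ctx n q q0 r F₀ M) {m : ℕ} (hm : 2 * m ≤ n) (π : Equiv.Perm (Fin n)) {γ : F₀}
    (hγ : γ * γ ^ q0 = -1) (k : Fin m) : Cfsg.hermForm n F₀ q0 (vv hm π γ k) (vv hm π γ k) = 0 := by
  rw [C.form_vv, if_pos rfl, hγ, add_neg_cancel]

theorem vv_ne (C : Ctx n q q0 r F₀ M) {m : ℕ} (hm : 2 * m ≤ n) (π : Equiv.Perm (Fin n)) (γ : F₀)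
    (k : Fin m) : vv hm π γ k ≠ 0 := by
  intro h
  have := congrFun h (π ⟨2 * k, by omega⟩)
  simp [vv, Pi.single_apply, π.injective.eq_iff] at this

theorem vv_pair (C : Ctx n q q0 r F₀ M) {m : ℕ} (hm : 2 * m ≤ n) (π : Equiv.Perm (Fin n)) {γ γ' : F₀}
    (hγ : γ * γ ^ q0 = -1) (hγ' : γ' * γ' ^ q0 = -1) {k l : Fin m} (hkl : k ≠ l) :
    Pair q0 (vv hm π γ k) (vv hm π γ' l) := by
  refine ⟨C.vv_iso hm π hγ k, C.vv_iso hm π hγ' l, by rw [C.form_vv, if_neg hkl], ?_⟩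
  have h' : (k : ℕ) ≠ (l : ℕ) := fun h => hkl (Fin.ext h)
  rw [LinearIndependent.pair_iff]
  intro s t h
  have h1 := congrFun h (π ⟨2 * k, by omega⟩)
  have h2 := congrFun h (π ⟨2 * l, by omega⟩)
  simp [vv, Pi.single_apply, π.injective.eq_iff, h', h'.symm, show ¬ 2 * (k : ℕ) = 2 * (l : ℕ) + 1 by omega,
    show ¬ 2 * (l : ℕ) = 2 * (k : ℕ) + 1 by omega] at h1 h2
  exact ⟨h1, h2⟩

theorem good_mul (C : Ctx n q q0 r F₀ M) {c d : F} (hc : Good q q0 F₀ M c) (hd : Good q q0 F₀ M d) :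
    Good q q0 F₀ M (c * d) := by
  obtain ⟨α, α', hα, hα', -, hκ⟩ := C.exists_params
  have hn := C.hn
  have hm : 2 * 3 ≤ n := by omega
  obtain ⟨s, hs⟩ : ∃ s : F₀, s = ((1 + α * α' ^ q0)⁻¹) ^ q0 := ⟨_, rfl⟩
  obtain ⟨a, ha⟩ : ∃ a, a = vv hm 1 α (0 : Fin 3) := ⟨_, rfl⟩
  obtain ⟨b, hb⟩ : ∃ b, b = vv hm 1 α (1 : Fin 3) := ⟨_, rfl⟩
  obtain ⟨d', hd'⟩ : ∃ d', d' = vv hm 1 α (2 : Fin 3) := ⟨_, rfl⟩
  obtain ⟨b', hb'⟩ : ∃ b', b' = s • vv hm 1 α' (1 : Fin 3) := ⟨_, rfl⟩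
  have h01 : (0 : Fin 3) ≠ 1 := by decide
  have h12 : (1 : Fin 3) ≠ 2 := by decide
  have h02 : (0 : Fin 3) ≠ 2 := by decide
  have pad : Pair q0 a d' := ha ▸ hd' ▸ C.vv_pair hm 1 hα hα h02
  have pbd : Pair q0 b d' := hb ▸ hd' ▸ C.vv_pair hm 1 hα hα h12
  have hs0 : s ≠ 0 := hs ▸ pow_ne_zero _ (inv_ne_zero hκ)
  have pab : Pair q0 a b' := by
    obtain ⟨p1, p2, p3, p4⟩ := C.vv_pair hm 1 hα hα' h01
    refine ⟨ha ▸ p1, ?_, ?_, ?_⟩
    · rw [hb', form_smul_left, form_smul_right, p2]; simp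
    · rw [hb', ha, form_smul_right, p3, mul_zero]
    · rw [LinearIndependent.pair_iff] at p4 ⊢
      intro x y h
      rw [hb', ha, smul_smul] at h
      obtain ⟨hx, hy⟩ := p4 _ _ h
      exact ⟨hx, (mul_eq_zero.1 hy).resolve_right hs0⟩
  obtain ⟨E1, hE1, hE1v⟩ := hc a b' pab
  obtain ⟨E2, hE2, hE2v⟩ := hd b d' pbd
  refine C.good_of_one pad ⟨E1 * E2 * (E2 * E1)⁻¹, M.mul_mem (M.mul_mem hE1 hE2) (M.inv_mem (M.mul_mem hE2 hE1)),
    fun v => ?_⟩
  obtain ⟨w, rfl⟩ : ∃ w, ((E2 * E1 : GL (Fin n) F) : Matrix (Fin n) (Fin n) F) *ᵥ w = v :=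
    ⟨_, FormMaxSL.mulVec_inv_mulVec _ v⟩
  have i0 : ∀ x y : Fin n → F₀, Cfsg.hermForm n F₀ q0 x y = 0 →
      Cfsg.hermForm n F q (incn x) (incn y) = 0 ∧ Cfsg.hermForm n F q (incn y) (incn x) = 0 := fun x y h => by
    have h1 : Cfsg.hermForm n F q (incn x) (incn y) = 0 := by rw [C.form_incn, h]; rfl
    exact ⟨h1, form_eq_zero_symm C.hF h1⟩
  obtain ⟨raa, -⟩ := i0 a a pad.1
  obtain ⟨rdd, -⟩ := i0 d' d' pad.2.1
  obtain ⟨rad, rda⟩ := i0 a d' pad.2.2.1
  obtain ⟨rab', rb'a⟩ := i0 a b' pab.2.2.1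
  obtain ⟨rbd, rdb⟩ := i0 b d' pbd.2.2.1
  obtain ⟨rbb, -⟩ := i0 b b pbd.1
  obtain ⟨rb'b', -⟩ := i0 b' b' pab.2.1
  obtain ⟨rab, rba⟩ := i0 a b (by rw [ha, hb, C.form_vv, if_neg h01])
  obtain ⟨rb'd, rdb'⟩ := i0 b' d' (by rw [hb', hd', form_smul_left, C.form_vv, if_neg h12, mul_zero])
  have rbb' : Cfsg.hermForm n F q (incn b) (incn b') = 1 := by
    rw [C.form_incn, hb, hb', form_smul_right, C.form_vv, if_pos rfl, hs, Herm.pow_pow_q C.hF0,
      inv_mul_cancel₀ hκ]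
    rfl
  have rb'b : Cfsg.hermForm n F q (incn b') (incn b) = 1 := by rw [← form_comm C.hF, rbb', one_pow]
  rw [Matrix.mulVec_mulVec, ← Units.val_mul, inv_mul_cancel_right]
  simp only [Units.val_mul, ← Matrix.mulVec_mulVec, hE1v, hE2v, form_add_left, form_sub_left, form_smul_left,
    raa, rdd, rad, rda, rab', rb'a, rbd, rdb, rbb, rb'b', rab, rba, rb'd, rdb', rbb', rb'b, mul_zero,
    mul_one, add_zero, sub_zero, Matrix.mulVec_add, Matrix.mulVec_sub, Matrix.mulVec_smul, mul_pow]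
  module

theorem good_all (C : Ctx n q q0 r F₀ M) {μ : F} (hμ : μ ∉ F₀) (hg : Good q q0 F₀ M μ) (a : F) :
    Good q q0 F₀ M a := by
  let R : Subring F :=
    { carrier := {x | Good q q0 F₀ M x}
      zero_mem' := C.good_rat F₀.zero_mem
      one_mem' := C.good_rat F₀.one_mem
      add_mem' := fun {x y} hx hy => C.good_add hx hy
      neg_mem' := fun {x} hx => by
        have h := C.good_mul (C.good_rat (F₀.neg_mem F₀.one_mem)) hx
        show Good q q0 F₀ M (-x)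
        rwa [neg_one_mul] at h
      mul_mem' := fun {x y} hx hy => C.good_mul hx hy }
  exact SubfieldSp.subring_eq_top C.hr C.hcard R (fun x hx => C.good_rat hx) hμ hg a

/-- all rational lines are full -/
theorem full_rat (C : Ctx n q q0 r F₀ M) (hall : ∀ c, Good q q0 F₀ M c) {v u u' : Fin n → F₀}
    (hvu : Pair q0 v u) (hvu' : Pair q0 v u') (huu' : Cfsg.hermForm n F₀ q0 u u' = 1) :
    incn v ∈ Full q M := by
  obtain ⟨d, hd, hd0⟩ := SUGen.exists_tz C.hF0
  have hdF := C.tz_coe hd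
  have hd0' : (d : F) ≠ 0 := fun h => hd0 (Subtype.ext h)
  have i0 : ∀ x y : Fin n → F₀, Cfsg.hermForm n F₀ q0 x y = 0 →
      Cfsg.hermForm n F q (incn x) (incn y) = 0 ∧ Cfsg.hermForm n F q (incn y) (incn x) = 0 := fun x y h => by
    have h1 : Cfsg.hermForm n F q (incn x) (incn y) = 0 := by rw [C.form_incn, h]; rfl
    exact ⟨h1, form_eq_zero_symm C.hF h1⟩
  obtain ⟨rvv, -⟩ := i0 v v hvu.1
  obtain ⟨ruu, -⟩ := i0 u u hvu.2.1
  obtain ⟨rvu, ruv⟩ := i0 v u hvu.2.2.1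
  refine ⟨rvv, fun c hc => ?_⟩
  obtain ⟨l, hl⟩ := SUStab.exists_norm' C.hF (c / (d : F)) (by
    rw [div_pow, eq_neg_of_add_eq_zero_left hc, eq_neg_of_add_eq_zero_left hdF, neg_div_neg_eq])
  have hll : l * l ^ q * (d : F) = c := by rw [hl, div_mul_cancel₀ _ hd0']
  obtain ⟨e, he, hev⟩ := hall l v u' hvu'
  obtain ⟨e2, he2, he2v⟩ := hall ((d : F) * l) v u hvu
  have heu : (e : Matrix (Fin n) (Fin n) F) *ᵥ incn u = incn u + l • incn v := by
    rw [hev, ruv, C.form_incn, huu']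
    simp
  have h1 : tu q (incn u + l • incn v) (d : F) ∈ M := by
    rw [← heu, ← conj_tu (C.hMU he) ruu]
    exact M.mul_mem (M.mul_mem he (C.tu_rat hvu.2.1 hd)) (M.inv_mem he)
  have hw : Cfsg.hermForm n F q (incn u + l • incn v) (incn u + l • incn v) = 0 := by
    simp only [form_add_left, form_add_right C.hF, form_smul_left, form_smul_right, rvv, ruu, rvu, ruv,
      mul_zero, add_zero]
  have key : tu q (incn v) c = tu q (incn u + l • incn v) (d : F) * (tu q (incn u) (d : F))⁻¹ * e2⁻¹ := by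
    rw [eq_mul_inv_iff_mul_eq, eq_mul_inv_iff_mul_eq]
    refine FormMaxSL.gl_ext fun x => ?_
    simp only [Units.val_mul, ← Matrix.mulVec_mulVec, tu_mulVec rvv, tu_mulVec ruu, tu_mulVec hw, he2v,
      form_add_left, form_sub_left, form_smul_left, form_add_right C.hF, form_smul_right, rvv, ruu, rvu,
      ruv, mul_zero, add_zero, sub_zero]
    have hdq : (d : F) ^ q = -(d : F) := eq_neg_of_add_eq_zero_left hdF
    rw [mul_pow, hdq, ← hll]
    module
  rw [key]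
  exact M.mul_mem (M.mul_mem h1 (M.inv_mem (C.tu_rat hvu.2.1 hd))) (M.inv_mem he2)

/-- vectors in the span of one half -/
theorem full_half (C : Ctx n q q0 r F₀ M) {m : ℕ} (E E' : Fin m → Fin n → F)
    (hE : ∀ i, E i ∈ Full q M) (hEE : ∀ i j, Cfsg.hermForm n F q (E i) (E j) = 0)
    (hEE' : ∀ i j, Cfsg.hermForm n F q (E i) (E' j) = 0 ↔ i ≠ j)
    (hroot : ∀ i j, i ≠ j → ∀ c, EM q M (E i) (E' j) c) (a : Fin m → F) :
    (∑ i, a i • E i) ∈ Full q M := by
  classical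
  by_cases hz : ∀ i, a i = 0
  · simp only [hz, zero_smul, Finset.sum_const_zero]; exact SUFull.full_zero
  push Not at hz
  obtain ⟨j, hj⟩ := hz
  suffices hind : ∀ s : Finset (Fin m), j ∉ s → (a j • E j + ∑ i ∈ s, a i • E i) ∈ Full q M by
    rw [← Finset.add_sum_erase Finset.univ (fun i => a i • E i) (Finset.mem_univ j)]
    exact hind _ (Finset.notMem_erase j _)
  intro s
  induction s using Finset.induction with
  | empty => intro _; rw [Finset.sum_empty, add_zero]; exact SUFull.full_smul C.hF (hE j) _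
  | @insert i s his ih =>
    intro hjs
    have hji : j ≠ i := fun h => hjs (h ▸ Finset.mem_insert_self _ _)
    have hjs' : j ∉ s := fun h => hjs (Finset.mem_insert_of_mem h)
    have hfull := ih hjs'
    obtain ⟨w, hw⟩ : ∃ w, w = a j • E j + ∑ l ∈ s, a l • E l := ⟨_, rfl⟩
    have hk0 : Cfsg.hermForm n F q (E j) (E' j) ≠ 0 := fun h => ((hEE' j j).1 h) rfl
    have hwlin : ∀ y, Cfsg.hermForm n F q w y =
        a j * Cfsg.hermForm n F q (E j) y + ∑ l ∈ s, a l * Cfsg.hermForm n F q (E l) y := fun y => by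
      rw [hw, form_add_left, form_smul_left, ← Herm.hb_apply C.hF y (∑ l ∈ s, a l • E l), map_sum]
      simp only [map_smul, smul_eq_mul, Herm.hb_apply]
    have h1 : Cfsg.hermForm n F q w (E i) = 0 := by
      rw [hwlin, hEE, mul_zero, zero_add]
      exact Finset.sum_eq_zero fun l _ => by rw [hEE, mul_zero]
    have h2 : Cfsg.hermForm n F q w (E' j) = a j * Cfsg.hermForm n F q (E j) (E' j) := by
      rw [hwlin, Finset.sum_eq_zero, add_zero]
      intro l hl
      rw [(hEE' l j).2 (fun h => hjs' (h ▸ hl)), mul_zero]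
    obtain ⟨e, he, hev⟩ := hroot i j hji.symm (a i / (a j * Cfsg.hermForm n F q (E j) (E' j)))
    have h3 := SUFull.full_map he (C.hMU he) (v := w) (hw ▸ hfull)
    rw [hev, h1, h2, div_mul_cancel₀ _ (mul_ne_zero hj hk0), mul_zero, zero_smul, sub_zero] at h3
    rw [Finset.sum_insert his]
    convert h3 using 1
    rw [hw]; abel

/-- vectors supported on paired coordinates -/
theorem full_supported (C : Ctx n q q0 r F₀ M) (hall : ∀ c, Good q q0 F₀ M c) {m : ℕ} (hm : 2 * m ≤ n)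
    (h6 : 6 ≤ m) (π : Equiv.Perm (Fin n)) (v : Fin n → F) (hv : Cfsg.hermForm n F q v v = 0)
    (hsupp : ∀ i : Fin n, 2 * m ≤ (i : ℕ) → v (π i) = 0) : v ∈ Full q M := by
  classical
  obtain ⟨α, α', hα, hα', hne, hκ⟩ := C.exists_params
  have hfull : ∀ γ γ' : F₀, γ * γ ^ q0 = -1 → γ' * γ' ^ q0 = -1 → 1 + γ * γ' ^ q0 ≠ 0 → ∀ k : Fin m,
      incn (vv hm π γ k) ∈ Full q M := by
    intro γ γ' hγ hγ' hk0 k
    obtain ⟨l, hl⟩ : ∃ l : Fin m, k ≠ l := by
      by_cases h : (k : ℕ) = 0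
      · exact ⟨⟨1, by omega⟩, fun h' => by have := congrArg Fin.val h'; simp at this; omega⟩
      · exact ⟨⟨0, by omega⟩, fun h' => by have := congrArg Fin.val h'; simp at this; omega⟩
    obtain ⟨s, hs⟩ : ∃ s : F₀, s = ((1 + γ * γ' ^ q0)⁻¹) ^ q0 := ⟨_, rfl⟩
    have hs0 : s ≠ 0 := hs ▸ pow_ne_zero _ (inv_ne_zero hk0)
    obtain ⟨p1, p2, p3, p4⟩ := C.vv_pair hm π hγ hγ' hl
    refine C.full_rat hall (u := vv hm π γ l) (u' := s • vv hm π γ' l) (C.vv_pair hm π hγ hγ hl)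
      ⟨p1, ?_, ?_, ?_⟩ ?_
    · rw [form_smul_left, form_smul_right, p2]; simp
    · rw [form_smul_right, p3, mul_zero]
    · rw [LinearIndependent.pair_iff] at p4 ⊢
      intro x y h
      rw [smul_smul] at h
      obtain ⟨hx, hy⟩ := p4 _ _ h
      exact ⟨hx, (mul_eq_zero.1 hy).resolve_right hs0⟩
    · rw [form_smul_right, C.form_vv, if_pos rfl, hs, Herm.pow_pow_q C.hF0, inv_mul_cancel₀ hk0]
  have hκ' : 1 + α' * α ^ q0 ≠ 0 := fun h => hκ (by
    have h1 := congrArg (Herm.conj C.hF0) h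
    simp only [map_add, map_mul, map_one, map_zero, Herm.conj_apply, Herm.pow_pow_q C.hF0] at h1
    linear_combination h1)
  obtain ⟨E, hEd⟩ : ∃ E : Fin m → Fin n → F, E = fun k => incn (vv hm π α k) := ⟨_, rfl⟩
  obtain ⟨E', hEd'⟩ : ∃ E' : Fin m → Fin n → F, E' = fun k => incn (vv hm π α' k) := ⟨_, rfl⟩
  have eEE : ∀ i j, Cfsg.hermForm n F q (E i) (E j) = 0 := fun i j => by
    simp only [hEd, C.form_incn, C.form_vv]; split <;> simp [hα]
  have eE'E' : ∀ i j, Cfsg.hermForm n F q (E' i) (E' j) = 0 := fun i j => by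
    simp only [hEd', C.form_incn, C.form_vv]; split <;> simp [hα']
  have eEE' : ∀ i j, Cfsg.hermForm n F q (E i) (E' j) = 0 ↔ i ≠ j := fun i j => by
    simp only [hEd, hEd', C.form_incn, C.form_vv]
    by_cases h : i = j
    · simp only [h, if_pos, ne_eq, not_true_eq_false, iff_false]
      exact fun h1 => hκ (Subtype.ext h1)
    · simp [h]
  have eE'E : ∀ i j, Cfsg.hermForm n F q (E' i) (E j) = 0 ↔ i ≠ j := fun i j => by
    rw [ne_comm, ← eEE']
    exact ⟨form_eq_zero_symm C.hF, form_eq_zero_symm C.hF⟩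
  obtain ⟨D, hD⟩ : ∃ D : F, D = (α' : F) - (α : F) := ⟨_, rfl⟩
  have hD0 : D ≠ 0 := by rw [hD]; exact sub_ne_zero.2 fun h => hne (Subtype.ext h).symm
  obtain ⟨a, ha⟩ : ∃ a : Fin m → F, a = fun k : Fin m =>
      ((α' : F) * v (π ⟨2 * k, by omega⟩) - v (π ⟨2 * k + 1, by omega⟩)) / D := ⟨_, rfl⟩
  obtain ⟨b, hb⟩ : ∃ b : Fin m → F, b = fun k : Fin m =>
      (v (π ⟨2 * k + 1, by omega⟩) - (α : F) * v (π ⟨2 * k, by omega⟩)) / D := ⟨_, rfl⟩
  obtain ⟨u, hu⟩ : ∃ u, u = ∑ k, a k • E k := ⟨_, rfl⟩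
  obtain ⟨w, hw⟩ : ∃ w, w = ∑ k, b k • E' k := ⟨_, rfl⟩
  have hvuw : v = u + w := by
    funext i
    obtain ⟨i, rfl⟩ := π.surjective i
    simp only [hu, hw, hEd, hEd', Pi.add_apply, Finset.sum_apply, Pi.smul_apply, smul_eq_mul, incn, vv,
      Pi.single_apply, π.injective.eq_iff, AddMemClass.coe_add, MulMemClass.coe_mul, apply_ite Subtype.val,
      ZeroMemClass.coe_zero, OneMemClass.coe_one, Fin.ext_iff]
    by_cases hi : 2 * m ≤ (i : ℕ)
    · rw [hsupp i hi]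
      have hz : ∀ k : Fin m, ¬ (i : ℕ) = 2 * k ∧ ¬ (i : ℕ) = 2 * k + 1 := fun k => by
        have := k.2; constructor <;> omega
      simp [hz]
    obtain ⟨k0, hk0⟩ : ∃ k0 : Fin m, (i : ℕ) = 2 * k0 ∨ (i : ℕ) = 2 * k0 + 1 :=
      ⟨⟨(i : ℕ) / 2, by omega⟩, by simp only; omega⟩
    rw [Finset.sum_eq_single k0, Finset.sum_eq_single k0]
    · rcases hk0 with h | h
      · have e0 : (⟨2 * k0, by omega⟩ : Fin n) = i := Fin.ext h.symm
        simp only [h, if_pos, show ¬ 2 * (k0 : ℕ) = 2 * k0 + 1 by omega, if_false, mul_zero, add_zero, mul_one,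
          ha, hb, e0]
        rw [eq_comm, ← add_div, div_eq_iff hD0, hD]; ring
      · have e1 : (⟨2 * k0 + 1, by omega⟩ : Fin n) = i := Fin.ext h.symm
        simp only [h, if_pos, show ¬ 2 * (k0 : ℕ) + 1 = 2 * k0 by omega, if_false, mul_zero, zero_add, mul_one,
          ha, hb, e1]
        rw [eq_comm, div_mul_eq_mul_div, div_mul_eq_mul_div, ← add_div, div_eq_iff hD0, hD]; ring
    · intro k _ hk
      have h' : (k : ℕ) ≠ (k0 : ℕ) := fun h => hk (Fin.ext h)
      rw [if_neg (by omega), if_neg (by omega)]; simp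
    · simp
    · intro k _ hk
      have h' : (k : ℕ) ≠ (k0 : ℕ) := fun h => hk (Fin.ext h)
      rw [if_neg (by omega), if_neg (by omega)]; simp
    · simp
  have hU : ∀ c : Fin m → F, (∑ k, c k • E k) ∈ Full q M := fun c =>
    C.full_half E E' (fun k => by rw [hEd]; exact hfull α α' hα hα' hκ k) eEE eEE'
      (fun i j hij x => by rw [hEd, hEd']; exact hall x _ _ (C.vv_pair hm π hα hα' hij)) c
  have hW : ∀ c : Fin m → F, (∑ k, c k • E' k) ∈ Full q M := fun c =>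
    C.full_half E' E (fun k => by rw [hEd']; exact hfull α' α hα' hα hκ' k) eE'E' eE'E
      (fun i j hij x => by rw [hEd, hEd']; exact hall x _ _ (C.vv_pair hm π hα' hα hij)) c
  have huF : u ∈ Full q M := hu ▸ hU a
  have hwF : w ∈ Full q M := hw ▸ hW b
  have huw : Tz q (Cfsg.hermForm n F q u w) := by
    unfold SUGen.Tz
    rw [hvuw, form_add_left, form_add_right C.hF, form_add_right C.hF, huF.1, hwF.1] at hv
    rw [form_comm C.hF]
    linear_combination hv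
  by_cases h0 : Cfsg.hermForm n F q u w ≠ 0
  · have h := SUFull.full_move C.hF huF hwF (SUGen.tz_inv C.hF huw h0)
    rw [inv_mul_cancel₀ h0, one_smul, ← hvuw] at h
    exact h
  push Not at h0
  by_cases hb0 : ∀ k, b k = 0
  · have hw0 : w = 0 := by rw [hw]; simp [hb0]
    rw [hvuw, hw0, add_zero]; exact huF
  push Not at hb0
  obtain ⟨k, hk⟩ := hb0
  have hwlin : Cfsg.hermForm n F q w (E k) = b k * Cfsg.hermForm n F q (E' k) (E k) := by
    rw [hw, ← Herm.hb_apply C.hF, map_sum, Finset.sum_eq_single k]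
    · simp [map_smul, Herm.hb_apply]
    · intro l _ hl; simp [map_smul, Herm.hb_apply, (eE'E l k).2 hl]
    · simp
  have hwk : Cfsg.hermForm n F q w (E k) ≠ 0 := by
    rw [hwlin]; exact mul_ne_zero hk fun h => (eE'E k k).1 h rfl
  obtain ⟨c, hc, hc0⟩ := SUGen.exists_tz C.hF
  obtain ⟨t, ht⟩ : ∃ t, t = c * Cfsg.hermForm n F q w (E k) := ⟨_, rfl⟩
  have hu1 : u + t • E k ∈ Full q M := by
    have : u + t • E k = ∑ l, (a l + if l = k then t else 0) • E l := by
      simp [hu, add_smul, Finset.sum_add_distrib, ite_smul]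
    rw [this]; exact hU _
  have hd : Cfsg.hermForm n F q (u + t • E k) w = Cfsg.hermForm n F q w (E k) * Cfsg.hermForm n F q w (E k) ^ q * c := by
    rw [form_add_left, form_smul_left, h0, ← form_comm C.hF w (E k), ht]; ring
  have hd0 : Cfsg.hermForm n F q (u + t • E k) w ≠ 0 := by
    rw [hd]; exact mul_ne_zero (mul_ne_zero hwk (pow_ne_zero _ hwk)) hc0
  have hdz : Tz q (Cfsg.hermForm n F q (u + t • E k) w) := by
    rw [hd]; exact SUFull.tz_norm_mul C.hF hc _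
  have h1 := SUFull.full_move C.hF hu1 hwF (SUGen.tz_inv C.hF hdz hd0)
  rw [inv_mul_cancel₀ hd0, one_smul] at h1
  have hEk : E k ∈ Full q M := by rw [hEd]; exact hfull α α' hα hα' hκ k
  have h2 := SUFull.full_map (hEk.2 _ (SUGen.tz_neg C.hF hc)) (SUGen.tu_mem_GU C.hF _ (SUGen.tz_neg C.hF hc)) h1
  have huk : Cfsg.hermForm n F q u (E k) = 0 := by
    rw [hu, ← Herm.hb_apply C.hF, map_sum]
    exact Finset.sum_eq_zero fun l _ => by simp [map_smul, Herm.hb_apply, eEE]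
  rw [tu_mulVec hEk.1, form_add_left, form_add_left, form_smul_left, huk, eEE] at h2
  rw [hvuw]
  convert h2 using 1
  rw [ht]
  module

/-- The conclusion from one irrational scalar. -/
theorem su_le (C : Ctx n q q0 r F₀ M) {μ : F} (hμ : μ ∉ F₀) (hg : Good q q0 F₀ M μ) :
    Cfsg.GU n F q ⊓ Cfsg.Geo.specialLinear (Fin n) F ≤ M := by
  have hall := C.good_all hμ hg
  have hn := C.hn
  refine SUFull.le_of_full C.hF (by omega) (by omega) fun v hv => ?_
  obtain ⟨m, hmd⟩ : ∃ m, m = n / 2 := ⟨_, rfl⟩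
  have hm : 2 * m ≤ n := by omega
  have h6 : 6 ≤ m := by omega
  rcases Nat.lt_or_ge (2 * m) n with hodd | heven
  swap
  · exact C.full_supported hall hm h6 1 v hv fun i hi => absurd i.2 (by omega)
  obtain ⟨α, α', hα, hα', hne, hκ⟩ := C.exists_params
  obtain ⟨E, hEd⟩ : ∃ E : Fin m → Fin n → F, E = fun k => incn (vv hm 1 α k) := ⟨_, rfl⟩
  obtain ⟨E', hEd'⟩ : ∃ E' : Fin m → Fin n → F, E' = fun k => incn (vv hm 1 α' k) := ⟨_, rfl⟩
  have eEE : ∀ i j, Cfsg.hermForm n F q (E i) (E j) = 0 := fun i j => by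
    simp only [hEd, C.form_incn, C.form_vv]; split <;> simp [hα]
  have eE'E' : ∀ i j, Cfsg.hermForm n F q (E' i) (E' j) = 0 := fun i j => by
    simp only [hEd', C.form_incn, C.form_vv]; split <;> simp [hα']
  obtain ⟨κ, hκd⟩ : ∃ κ : F, κ = ((1 + α * α' ^ q0 : F₀) : F) := ⟨_, rfl⟩
  have hκ0 : κ ≠ 0 := by rw [hκd]; exact fun h => hκ (Subtype.ext h)
  have eEE' : ∀ i j, Cfsg.hermForm n F q (E i) (E' j) = if i = j then κ else 0 := fun i j => by
    simp only [hEd, hEd', hκd, C.form_incn, C.form_vv]; split <;> simp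
  have eE'E : ∀ i j, Cfsg.hermForm n F q (E' i) (E j) = if i = j then κ ^ q else 0 := fun i j => by
    rw [← form_comm C.hF, eEE']
    by_cases h : i = j
    · subst h; simp
    · simp [h, Ne.symm h, zero_pow (show q ≠ 0 by have := Herm.two_le C.hF; omega)]
  -- coordinates
  obtain ⟨A, hA⟩ : ∃ A : Fin m → (Fin n → F) → F, A = fun k x => Cfsg.hermForm n F q x (E' k) := ⟨_, rfl⟩
  obtain ⟨B, hB⟩ : ∃ B : Fin m → (Fin n → F) → F, B = fun k x => Cfsg.hermForm n F q x (E k) := ⟨_, rfl⟩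
  have move : ∀ (x : Fin n → F) (i j : Fin m) (c : F), i ≠ j → Cfsg.hermForm n F q x x = 0 →
      ∃ x' : Fin n → F, Cfsg.hermForm n F q x' x' = 0 ∧ (x' ∈ Full q M → x ∈ Full q M) ∧
        (∀ l, A l x' = A l x + if l = i then c * κ * A j x else 0) ∧
        (∀ l, B l x' = B l x - if l = j then c ^ q * κ ^ q * B i x else 0) := by
    intro x i j c hij hx
    obtain ⟨e, he, hev⟩ : EM q M (E i) (E' j) c := by
      rw [hEd, hEd']; exact hall c _ _ (C.vv_pair hm 1 hα hα' hij)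
    refine ⟨(e : Matrix (Fin n) (Fin n) F) *ᵥ x, by rw [mem_GU.1 (C.hMU he), hx], fun h => ?_, fun l => ?_,
      fun l => ?_⟩
    · have := SUFull.full_map (M.inv_mem he) (C.hMU (M.inv_mem he)) h
      rwa [FormMaxSL.inv_mulVec_mulVec] at this
    · simp only [hA, hev, form_sub_left, form_add_left, form_smul_left, eEE', eE'E', mul_zero, sub_zero]
      by_cases h : l = i
      · subst h; simp; ring
      · simp [h, Ne.symm h]
    · simp only [hB, hev, form_sub_left, form_add_left, form_smul_left, eEE, eE'E, mul_zero, add_zero]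
      by_cases h : l = j
      · subst h; simp; ring
      · simp [h, Ne.symm h]
  obtain ⟨z, hz⟩ : ∃ z : Fin m, z = ⟨0, by omega⟩ := ⟨_, rfl⟩
  obtain ⟨o, ho⟩ : ∃ o : Fin m, o = ⟨1, by omega⟩ := ⟨_, rfl⟩
  obtain ⟨w2, hw2⟩ : ∃ w2 : Fin m, w2 = ⟨2, by omega⟩ := ⟨_, rfl⟩
  have hzo : z ≠ o := by rw [hz, ho]; exact fun h => by simp at h
  have hzw : z ≠ w2 := by rw [hz, hw2]; exact fun h => by simp at h
  have how : o ≠ w2 := by rw [ho, hw2]; exact fun h => by simp at h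
  -- both coordinates of the first pair vanish
  have base : ∀ x, Cfsg.hermForm n F q x x = 0 → A z x = 0 → B z x = 0 → x ∈ Full q M := by
    intro x hx h1 h2
    simp only [hA, hB, hEd, hEd', vv, hz] at h1 h2
    rw [incn_add, incn_smul, incn_single, incn_single, form_add_right C.hF, form_smul_right,
      form_single C.hF, form_single C.hF] at h1 h2
    simp only [Equiv.Perm.one_apply, mul_zero, zero_add] at h1 h2
    have hd : ((α' : F) ^ q - (α : F) ^ q) ≠ 0 := by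
      rw [← Herm.conj_apply C.hF, ← Herm.conj_apply C.hF, ← map_sub]
      exact fun h => hne (Subtype.ext (sub_eq_zero.1 ((map_eq_zero _).1 h))).symm
    have e1 : x ⟨1, by omega⟩ = 0 := by
      refine (mul_eq_zero.1 ?_).resolve_left hd
      linear_combination h1 - h2
    have e0 : x ⟨0, by omega⟩ = 0 := by linear_combination h1 - (α' : F) ^ q * e1
    refine C.full_supported hall hm h6 (Equiv.swap ⟨0, by omega⟩ ⟨n - 1, by omega⟩) x hx fun i hi => ?_
    have : i = (⟨n - 1, by omega⟩ : Fin n) := Fin.ext (by have := i.2; simp only; omega)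
    rw [this, Equiv.swap_apply_right, e0]
  -- the first step
  have step2 : ∀ x, Cfsg.hermForm n F q x x = 0 → A z x = 0 → x ∈ Full q M := by
    have kill : ∀ x, Cfsg.hermForm n F q x x = 0 → A z x = 0 → ∀ i, i ≠ z → B i x ≠ 0 → x ∈ Full q M := by
      intro x hx hA0 i hi hBi
      obtain ⟨c, hc⟩ : ∃ c : F, c ^ q * κ ^ q * B i x = B z x := by
        refine ⟨(B z x / (κ ^ q * B i x)) ^ q, ?_⟩
        rw [Herm.pow_pow_q C.hF, mul_assoc, div_mul_cancel₀ _ (mul_ne_zero (pow_ne_zero _ hκ0) hBi)]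
      obtain ⟨x', hx', hback, hAx, hBx⟩ := move x i z c hi hx
      refine hback (base x' hx' (by rw [hAx, if_neg hi.symm, hA0, add_zero]) ?_)
      rw [hBx, if_pos rfl, hc, sub_self]
    intro x hx hA0
    by_cases hB0 : B z x = 0
    · exact base x hx hA0 hB0
    by_cases hBs : ∃ i, i ≠ z ∧ B i x ≠ 0
    · obtain ⟨i, hi, hBi⟩ := hBs; exact kill x hx hA0 i hi hBi
    push Not at hBs
    have go : ∀ x, Cfsg.hermForm n F q x x = 0 → A z x = 0 → B z x ≠ 0 → ∀ i, i ≠ z → A i x = 0 →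
        B i x = 0 → x ∈ Full q M := by
      intro x hx hA0 hB0 i hi hAi hBi
      obtain ⟨x', hx', hback, hAx, hBx⟩ := move x z i 1 hi.symm hx
      refine hback (kill x' hx' (by rw [hAx, if_pos rfl, hAi, mul_zero, add_zero, hA0]) i hi ?_)
      rw [hBx, if_pos rfl, hBi, one_pow, one_mul, zero_sub, neg_ne_zero]
      exact mul_ne_zero (pow_ne_zero _ hκ0) hB0
    by_cases hA1 : A o x = 0
    · exact go x hx hA0 hB0 o hzo.symm hA1 (hBs o hzo.symm)
    obtain ⟨x', hx', hback, hAx, hBx⟩ := move x w2 o (-(A w2 x) / (κ * A o x)) how.symm hx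
    refine hback (go x' hx' (by rw [hAx, if_neg hzw, hA0, add_zero]) (by rw [hBx, if_neg hzo, sub_zero]; exact hB0)
      w2 hzw.symm ?_ ?_)
    · rw [hAx, if_pos rfl, mul_assoc, div_mul_cancel₀ _ (mul_ne_zero hκ0 hA1), add_neg_cancel]
    · rw [hBx, if_neg how.symm, hBs w2 hzw.symm, sub_zero]
  have step1 : ∀ x, Cfsg.hermForm n F q x x = 0 → ∀ j, j ≠ z → A j x ≠ 0 → x ∈ Full q M := by
    intro x hx j hj hAj
    obtain ⟨x', hx', hback, hAx, -⟩ := move x z j (-(A z x) / (κ * A j x)) hj.symm hx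
    refine hback (step2 x' hx' ?_)
    rw [hAx, if_pos rfl, mul_assoc, div_mul_cancel₀ _ (mul_ne_zero hκ0 hAj), add_neg_cancel]
  by_cases hA0 : A z v = 0
  · exact step2 v hv hA0
  by_cases hA1 : A o v = 0
  · obtain ⟨x', hx', hback, hAx, -⟩ := move v o z 1 hzo.symm hv
    refine hback (step1 x' hx' o hzo.symm ?_)
    rw [hAx, if_pos rfl, hA1, zero_add, one_mul]
    exact mul_ne_zero hκ0 hA0
  · exact step1 v hv o hzo.symm hA1

end Ctx

end CfsgLib.Lie.SubfieldSUOdd
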