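import Cfsg.Agent.Lie.SubfieldSUOdd

/-!
Subfield subgroups of odd prime degree of the special unitary group, second part: an irrational
root element, and maximality.
-/

set_option autoImplicit false
set_option linter.unusedSimpArgs false
set_option linter.unusedSectionVars false

namespace CfsgLib.Lie.SubfieldSUOdd

open Matrix
open CfsgLib.Lie.Herm (form_add_left form_add_right form_smul_left form_smul_right form_comm form_single mem_GU)
open CfsgLib.Lie.SUGen (tu tu_mulVec tu_mem_T tu_smul tu_mul tu_zero tu_inv conj_tu Tz form_sub_left form_sub_right)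
open CfsgLib.Lie.SUFull (form_eq_zero_symm form_zero_left)
open CfsgLib.Lie.SubfieldSU (incn incn_add incn_sub incn_smul rv_incn exists_incn)
open CfsgLib.Lie.SubfieldMax (RV RM RS)

variable {F : Type*} [Field F] [Fintype F] {n q q0 r : ℕ} {F₀ : Subfield F} [Fintype F₀]

/-- an element of the unipotent radical of the stabiliser of `e` -/
def QE (q : ℕ) (M : Subgroup (GL (Fin n) F)) (e a : Fin n → F) (c C : F) : Prop :=
  ∃ g ∈ M, ∀ x, (g : Matrix (Fin n) (Fin n) F) *ᵥ x =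
    x + (c * Cfsg.hermForm n F q x a) • e - (c ^ q * Cfsg.hermForm n F q x e) • a +
      (C * Cfsg.hermForm n F q x e) • e

/-- a vector outside the rational lines -/
def Irr (F₀ : Subfield F) (w : Fin n → F) : Prop := ∀ c : F, c ≠ 0 → ¬ RV F₀ (c • w)

theorem rv_mulVec_inv {k : GL (Fin n) F} (hk : RM F₀ (k : Matrix (Fin n) (Fin n) F)) {v : Fin n → F}
    (hv : RV F₀ v) : RV F₀ (((k⁻¹ : GL (Fin n) F) : Matrix (Fin n) (Fin n) F) *ᵥ v) := by
  rw [Matrix.coe_units_inv]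
  exact SubfieldMax.rm_mulVec (SubfieldMax.rm_inv hk) hv

variable {M : Subgroup (GL (Fin n) F)}

namespace Ctx

theorem incn_form_zero (C : Ctx n q q0 r F₀ M) {x y : Fin n → F₀} (h : Cfsg.hermForm n F₀ q0 x y = 0) :
    Cfsg.hermForm n F q (incn x) (incn y) = 0 ∧ Cfsg.hermForm n F q (incn y) (incn x) = 0 := by
  have h1 : Cfsg.hermForm n F q (incn x) (incn y) = 0 := by rw [C.form_incn, h]; rfl
  exact ⟨h1, form_eq_zero_symm C.hF h1⟩

theorem qe_conj (C : Ctx n q q0 r F₀ M) {k : GL (Fin n) F} (hk : k ∈ M) {e a : Fin n → F} {c D : F}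
    (hke : (k : Matrix (Fin n) (Fin n) F) *ᵥ e = e) (h : QE q M e a c D) :
    QE q M e ((k : Matrix (Fin n) (Fin n) F) *ᵥ a) c D := by
  obtain ⟨g, hg, hgv⟩ := h
  refine ⟨k * g * k⁻¹, M.mul_mem (M.mul_mem hk hg) (M.inv_mem hk), fun x => ?_⟩
  obtain ⟨z, rfl⟩ : ∃ z, (k : Matrix (Fin n) (Fin n) F) *ᵥ z = x := ⟨_, FormMaxSL.mulVec_inv_mulVec k x⟩
  have hf := mem_GU.1 (C.hMU hk) z e
  rw [hke] at hf
  rw [Units.val_mul, Units.val_mul, ← Matrix.mulVec_mulVec, ← Matrix.mulVec_mulVec, FormMaxSL.inv_mulVec_mulVec,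
    hgv, Matrix.mulVec_add, Matrix.mulVec_sub, Matrix.mulVec_add, Matrix.mulVec_smul, Matrix.mulVec_smul,
    Matrix.mulVec_smul, hke, mem_GU.1 (C.hMU hk), hf]

theorem qe_sub (C : Ctx n q q0 r F₀ M) {e a₁ a₂ : Fin n → F} {c C₁ C₂ : F}
    (hee : Cfsg.hermForm n F q e e = 0) (h1e : Cfsg.hermForm n F q a₁ e = 0)
    (h2e : Cfsg.hermForm n F q a₂ e = 0) (h₁ : QE q M e a₁ c C₁) (h₂ : QE q M e a₂ c C₂) :
    QE q M e (a₁ - a₂) c
      (C₁ - C₂ + c * c ^ q * (Cfsg.hermForm n F q a₂ a₁ - Cfsg.hermForm n F q a₂ a₂)) := by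
  obtain ⟨g₁, hg₁, hv₁⟩ := h₁
  obtain ⟨g₂, hg₂, hv₂⟩ := h₂
  refine ⟨g₁ * g₂⁻¹, M.mul_mem hg₁ (M.inv_mem hg₂), fun x => ?_⟩
  obtain ⟨y, rfl⟩ : ∃ y, (g₂ : Matrix (Fin n) (Fin n) F) *ᵥ y = x := ⟨_, FormMaxSL.mulVec_inv_mulVec g₂ x⟩
  rw [Units.val_mul, ← Matrix.mulVec_mulVec, FormMaxSL.inv_mulVec_mulVec, hv₁, hv₂]
  simp only [form_sub_right C.hF, form_add_left, form_sub_left, form_smul_left, form_eq_zero_symm C.hF h1e,
    form_eq_zero_symm C.hF h2e, hee, h2e, mul_zero, sub_zero, add_zero]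
  module

theorem qe_tu (C : Ctx n q q0 r F₀ M) {e w : Fin n → F} {b d : F} (hee : Cfsg.hermForm n F q e e = 0)
    (hww : Cfsg.hermForm n F q w w = 0) (hwe : Cfsg.hermForm n F q w e = 0) (hd : Tz q d)
    (h1 : tu q (w + b • e) d ∈ M) (h2 : tu q w d ∈ M) : QE q M e w (d * b) (d * (b * b ^ q)) := by
  have hew := form_eq_zero_symm C.hF hwe
  have hs : Cfsg.hermForm n F q (w + b • e) (w + b • e) = 0 := by
    simp only [form_add_left, form_add_right C.hF, form_smul_left, form_smul_right, hee, hww, hwe, hew,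
      mul_zero, add_zero]
  refine ⟨tu q (w + b • e) d * (tu q w d)⁻¹, M.mul_mem h1 (M.inv_mem h2), fun x => ?_⟩
  rw [tu_inv hww, Units.val_mul, ← Matrix.mulVec_mulVec, tu_mulVec hww, tu_mulVec hs]
  simp only [form_add_left, form_add_right C.hF, form_smul_left, form_smul_right, hww, hwe, mul_zero,
    add_zero, mul_pow, show d ^ q = -d from eq_neg_of_add_eq_zero_left hd]
  module

/-- the scalars coming from one element of the unipotent radical -/
theorem good_of_qe (C : Ctx n q q0 r F₀ M) (hm : 2 * 6 ≤ n) {α α' : F₀} (hα : α * α ^ q0 = -1)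
    (hα' : α' * α' ^ q0 = -1) (hκ : 1 + α * α' ^ q0 ≠ 0) (π : Equiv.Perm (Fin n))
    (h0 : π ⟨0, by omega⟩ = ⟨0, by omega⟩) (h1 : π ⟨1, by omega⟩ = ⟨1, by omega⟩)
    {γ : F₀} (hγ : γ * γ ^ q0 = -1) {a : Fin n → F} {c D : F}
    (hae : Cfsg.hermForm n F q a (incn (vv hm 1 α (0 : Fin 6))) = 0)
    (h : QE q M (incn (vv hm 1 α (0 : Fin 6))) a c D) :
    Good q q0 F₀ M (c * Cfsg.hermForm n F q a (incn (vv hm π γ (1 : Fin 6))) ^ q) := by
  have he : vv hm 1 α (0 : Fin 6) = vv hm π α (0 : Fin 6) := by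
    simp [vv, h0, h1]
  rw [he] at h hae
  obtain ⟨e, hed⟩ : ∃ e, e = incn (vv hm π α (0 : Fin 6)) := ⟨_, rfl⟩
  obtain ⟨d, hdd⟩ : ∃ d, d = incn (vv hm π γ (1 : Fin 6)) := ⟨_, rfl⟩
  obtain ⟨p, hpd⟩ : ∃ p, p = incn (vv hm π α (2 : Fin 6)) := ⟨_, rfl⟩
  obtain ⟨p', hp'd⟩ : ∃ p', p' = incn (vv hm π α' (2 : Fin 6)) := ⟨_, rfl⟩
  obtain ⟨z, hzd⟩ : ∃ z, z = incn (vv hm π α (3 : Fin 6)) := ⟨_, rfl⟩
  obtain ⟨z', hz'd⟩ : ∃ z', z' = incn (vv hm π α' (3 : Fin 6)) := ⟨_, rfl⟩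
  obtain ⟨z2, hz2d⟩ : ∃ z2, z2 = incn (vv hm π α (4 : Fin 6)) := ⟨_, rfl⟩
  obtain ⟨κ, hκd⟩ : ∃ κ : F, κ = ((1 + α * α' ^ q0 : F₀) : F) := ⟨_, rfl⟩
  have hκm : κ ∈ F₀ := hκd ▸ (1 + α * α' ^ q0 : F₀).2
  have hκ0 : κ ≠ 0 := hκd ▸ fun h => hκ (Subtype.ext h)
  rw [← hed] at h hae
  rw [← hdd]
  have hor : ∀ (i j : Fin 6) (x y : F₀), i ≠ j →
      Cfsg.hermForm n F q (incn (vv hm π x i)) (incn (vv hm π y j)) = 0 := fun i j x y hij => by
    rw [C.form_incn, C.form_vv, if_neg hij]; rfl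
  have hso : ∀ (i : Fin 6) (x : F₀), x * x ^ q0 = -1 →
      Cfsg.hermForm n F q (incn (vv hm π x i)) (incn (vv hm π x i)) = 0 := fun i x hx =>
    (C.incn_form_zero (C.vv_iso hm π hx i)).1
  have hee : Cfsg.hermForm n F q e e = 0 := hed ▸ hso 0 α hα
  have pz : Cfsg.hermForm n F q p z = 0 := hpd ▸ hzd ▸ hor 2 3 _ _ (by decide)
  have pp' : Cfsg.hermForm n F q p p' = κ := by
    rw [hpd, hp'd, hκd, C.form_incn, C.form_vv, if_pos rfl]
  have dp' : Cfsg.hermForm n F q d p' = 0 := hdd ▸ hp'd ▸ hor 1 2 _ _ (by decide)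
  have dz : Cfsg.hermForm n F q d z = 0 := hdd ▸ hzd ▸ hor 1 3 _ _ (by decide)
  have zz' : Cfsg.hermForm n F q z z' = κ := by
    rw [hzd, hz'd, hκd, C.form_incn, C.form_vv, if_pos rfl]
  have zz2 : Cfsg.hermForm n F q z z2 = 0 := hzd ▸ hz2d ▸ hor 3 4 _ _ (by decide)
  have zz : Cfsg.hermForm n F q z z = 0 := hzd ▸ hso 3 α hα
  have ze : Cfsg.hermForm n F q z e = 0 := hzd ▸ hed ▸ hor 3 0 _ _ (by decide)
  have ez' : Cfsg.hermForm n F q e z' = 0 := hed ▸ hz'd ▸ hor 0 3 _ _ (by decide)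
  have ez2 : Cfsg.hermForm n F q e z2 = 0 := hed ▸ hz2d ▸ hor 0 4 _ _ (by decide)
  have ez : Cfsg.hermForm n F q e z = 0 := hed ▸ hzd ▸ hor 0 3 _ _ (by decide)
  have ep' : Cfsg.hermForm n F q e p' = 0 := hed ▸ hp'd ▸ hor 0 2 _ _ (by decide)
  have ep : Cfsg.hermForm n F q e p = 0 := hed ▸ hpd ▸ hor 0 2 _ _ (by decide)
  have ed : Cfsg.hermForm n F q e d = 0 := hed ▸ hdd ▸ hor 0 1 _ _ (by decide)
  have one_q : (1 : F) ^ q = 1 := one_pow q
  -- three rational elements fixing `e`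
  obtain ⟨k1, hk1, hk1v⟩ : EM q M p d 1 := by
    rw [hpd, hdd]; exact C.good_rat F₀.one_mem _ _ (C.vv_pair hm π hα hγ (by decide))
  obtain ⟨k2, hk2, hk2v⟩ : EM q M z p' 1 := by
    rw [hzd, hp'd]; exact C.good_rat F₀.one_mem _ _ (C.vv_pair hm π hα hα' (by decide))
  obtain ⟨k3, hk3, hk3v⟩ : EM q M z2 z' 1 := by
    rw [hz2d, hz'd]; exact C.good_rat F₀.one_mem _ _ (C.vv_pair hm π hα hα' (by decide))
  have k1e : (k1 : Matrix (Fin n) (Fin n) F) *ᵥ e = e := by rw [hk1v, ed, ep]; simp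
  have k2e : (k2 : Matrix (Fin n) (Fin n) F) *ᵥ e = e := by rw [hk2v, ep', ez]; simp
  have k3e : (k3 : Matrix (Fin n) (Fin n) F) *ᵥ e = e := by rw [hk3v, ez', ez2]; simp
  have keep : ∀ {k : GL (Fin n) F}, k ∈ M → (k : Matrix (Fin n) (Fin n) F) *ᵥ e = e → ∀ {x : Fin n → F},
      Cfsg.hermForm n F q x e = 0 → Cfsg.hermForm n F q ((k : Matrix (Fin n) (Fin n) F) *ᵥ x) e = 0 := by
    intro k hk hke x hx
    rw [← hke, mem_GU.1 (C.hMU hk), hx]
  -- first commutator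
  obtain ⟨a1, ha1⟩ : ∃ a1, a1 = (k1 : Matrix (Fin n) (Fin n) F) *ᵥ a - a := ⟨_, rfl⟩
  have q1 := C.qe_sub hee (keep hk1 k1e hae) hae (C.qe_conj hk1 k1e h) h
  have ha1e : Cfsg.hermForm n F q a1 e = 0 := by
    rw [ha1, form_sub_left, keep hk1 k1e hae, hae, sub_zero]
  rw [← ha1] at q1
  have ea1 : a1 = Cfsg.hermForm n F q a d • p - Cfsg.hermForm n F q a p • d := by
    rw [ha1, hk1v, one_q, one_mul, one_mul]; abel
  -- second commutator
  have q2 := C.qe_sub hee (keep hk2 k2e ha1e) ha1e (C.qe_conj hk2 k2e q1) q1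
  obtain ⟨β, hβ⟩ : ∃ β, β = Cfsg.hermForm n F q a d * κ := ⟨_, rfl⟩
  have ea2 : (k2 : Matrix (Fin n) (Fin n) F) *ᵥ a1 - a1 = β • z := by
    have e1 : Cfsg.hermForm n F q a1 p' = β := by
      rw [ea1, form_sub_left, form_smul_left, form_smul_left, pp', dp', hβ]; ring
    have e2 : Cfsg.hermForm n F q a1 z = 0 := by
      rw [ea1, form_sub_left, form_smul_left, form_smul_left, pz, dz]; ring
    rw [hk2v, e1, e2, one_q, one_mul, one_mul, zero_smul, sub_zero, add_sub_cancel_left]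
  rw [ea2] at q2
  have hbze : Cfsg.hermForm n F q (β • z) e = 0 := by rw [form_smul_left, ze, mul_zero]
  -- third commutator
  have q3 := C.qe_sub hee (keep hk3 k3e hbze) hbze (C.qe_conj hk3 k3e q2) q2
  have ea3 : (k3 : Matrix (Fin n) (Fin n) F) *ᵥ (β • z) = β • z + (β * κ) • z2 := by
    rw [hk3v, one_q, one_mul, one_mul, form_smul_left, form_smul_left, zz', zz2, mul_zero, zero_smul, sub_zero]
  rw [ea3, add_sub_cancel_left] at q3
  simp only [form_add_right C.hF, form_smul_right, form_smul_left, zz, zz2, mul_zero, add_zero, sub_self] at q3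
  obtain ⟨g, hg, hgv⟩ := q3
  have hem : EM q M e z2 (c * (β * κ) ^ q) := C.em_smul_right ⟨g, hg, fun x => by
    rw [hgv, zero_mul, zero_smul, add_zero]⟩
  rw [hed, hz2d] at hem
  have hgood := C.good_of_one (C.vv_pair hm π hα hα (show (0 : Fin 6) ≠ 4 by decide)) hem
  have h2 := C.good_mul hgood (C.good_rat (F₀.inv_mem (C.mem_pow (F₀.mul_mem hκm hκm))))
  convert h2 using 1
  have hq0 : (κ * κ) ^ q ≠ 0 := pow_ne_zero _ (mul_ne_zero hκ0 hκ0)
  rw [hβ, show Cfsg.hermForm n F q a d * κ * κ = Cfsg.hermForm n F q a d * (κ * κ) by ring, mul_pow]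
  field_simp

theorem coord_mem (C : Ctx n q q0 r F₀ M) (hm : 2 * 6 ≤ n) {α α' : F₀} (hα : α * α ^ q0 = -1)
    (hα' : α' * α' ^ q0 = -1) (hne : α ≠ α') (a : Fin n → F) (κ : F)
    (h : ∀ (π : Equiv.Perm (Fin n)), π ⟨0, by omega⟩ = ⟨0, by omega⟩ → π ⟨1, by omega⟩ = ⟨1, by omega⟩ →
      ∀ γ : F₀, γ * γ ^ q0 = -1 → κ * Cfsg.hermForm n F q a (incn (vv hm π γ (1 : Fin 6))) ∈ F₀)
    (i : Fin n) (hi : 2 ≤ (i : ℕ)) : κ * a i ∈ F₀ := by
  classical
  obtain ⟨j, hj, hji⟩ : ∃ j : Fin n, 2 ≤ (j : ℕ) ∧ j ≠ i := by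
    by_cases h9 : (i : ℕ) = 2
    · exact ⟨⟨3, by omega⟩, by simp, fun h' => by simp [← h'] at h9⟩
    · exact ⟨⟨2, by omega⟩, le_rfl, fun h' => h9 (by rw [← h'])⟩
  obtain ⟨j1, hj1⟩ : ∃ j1 : Fin n, j1 = Equiv.swap (⟨2, by omega⟩ : Fin n) i ⟨3, by omega⟩ := ⟨_, rfl⟩
  obtain ⟨π, hπ⟩ : ∃ π : Equiv.Perm (Fin n),
      π = Equiv.swap j1 j * Equiv.swap (⟨2, by omega⟩ : Fin n) i := ⟨_, rfl⟩
  have hj1i : j1 ≠ i := by
    intro h9
    have h8 : Equiv.swap (⟨2, by omega⟩ : Fin n) i ⟨3, by omega⟩ =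
        Equiv.swap (⟨2, by omega⟩ : Fin n) i ⟨2, by omega⟩ := by rw [← hj1, h9, Equiv.swap_apply_left]
    simpa using (Equiv.swap _ _).injective h8
  have hj12 : 2 ≤ (j1 : ℕ) := by
    rw [hj1, Equiv.swap_apply_def]
    split_ifs <;> first | exact hi | simp
  have p2 : π ⟨2 * ((1 : Fin 6) : ℕ), by simp; omega⟩ = i := by
    have e : (⟨2 * ((1 : Fin 6) : ℕ), by simp; omega⟩ : Fin n) = ⟨2, by omega⟩ := Fin.ext (by simp)
    rw [e, hπ, Equiv.Perm.mul_apply, Equiv.swap_apply_left, Equiv.swap_apply_of_ne_of_ne hj1i.symm hji.symm]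
  have p3 : π ⟨2 * ((1 : Fin 6) : ℕ) + 1, by simp; omega⟩ = j := by
    have e : (⟨2 * ((1 : Fin 6) : ℕ) + 1, by simp; omega⟩ : Fin n) = ⟨3, by omega⟩ := Fin.ext (by simp)
    rw [e, hπ, Equiv.Perm.mul_apply, ← hj1, Equiv.swap_apply_left]
  have hfix : ∀ k : Fin n, (k : ℕ) < 2 → π k = k := by
    intro k hk
    have f1 : ∀ l : Fin n, 2 ≤ (l : ℕ) → k ≠ l := fun l hl h' => by
      have := congrArg Fin.val h'; omega
    rw [hπ, Equiv.Perm.mul_apply, Equiv.swap_apply_of_ne_of_ne (f1 _ le_rfl) (f1 _ hi),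
      Equiv.swap_apply_of_ne_of_ne (f1 _ hj12) (f1 _ hj)]
  have hX : ∀ γ : F₀, γ * γ ^ q0 = -1 → κ * a i + ((γ ^ q0 : F₀) : F) * (κ * a j) ∈ F₀ := by
    intro γ hγ
    have h1 := h π (hfix _ (by simp)) (hfix _ (by simp)) γ hγ
    simp only [vv, p2, p3, incn_add, incn_smul, incn_single, form_add_right C.hF, form_smul_right,
      form_single C.hF, C.real] at h1
    convert h1 using 1
    ring
  have h1 := hX α hα
  have h2 := hX α' hα'
  obtain ⟨u, hu⟩ : ∃ u : F, u = ((α ^ q0 : F₀) : F) := ⟨_, rfl⟩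
  obtain ⟨u', hu'⟩ : ∃ u' : F, u' = ((α' ^ q0 : F₀) : F) := ⟨_, rfl⟩
  rw [← hu] at h1
  rw [← hu'] at h2
  have hd : u' - u ≠ 0 := by
    rw [hu, hu']
    refine sub_ne_zero.2 fun h9 => hne ?_
    have := congrArg (fun x : F₀ => x ^ q0) (Subtype.ext h9)
    simpa [Herm.pow_pow_q C.hF0] using this.symm
  have hum : u ∈ F₀ := hu ▸ SetLike.coe_mem _
  have hu'm : u' ∈ F₀ := hu' ▸ SetLike.coe_mem _
  have h3 := F₀.mul_mem (F₀.inv_mem (F₀.sub_mem hu'm hum))
    (F₀.sub_mem (F₀.mul_mem hu'm h1) (F₀.mul_mem hum h2))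
  convert h3 using 1
  field_simp
  ring

/-- An irrational line orthogonal to a rational isotropic vector is impossible. -/
theorem no_dep (C : Ctx n q q0 r F₀ M) (hcon : ∀ μ, Good q q0 F₀ M μ → μ ∈ F₀) {d : F₀} (hd : Tz q0 d)
    (hd0 : d ≠ 0) {w : Fin n → F} (hw : Irr F₀ w) (hww : Cfsg.hermForm n F q w w = 0)
    (htw : tu q w (d : F) ∈ M) {y : Fin n → F₀} (hy : y ≠ 0) (hyy : Cfsg.hermForm n F₀ q0 y y = 0)
    (hwy : Cfsg.hermForm n F q w (incn y) = 0) : False := by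
  have hn := C.hn
  have hm : 2 * 6 ≤ n := by omega
  obtain ⟨α, α', hα, hα', hne, hκ⟩ := C.exists_params
  obtain ⟨e0, he0⟩ : ∃ e0, e0 = vv hm 1 α (0 : Fin 6) := ⟨_, rfl⟩
  have he0n : e0 ≠ 0 := he0 ▸ C.vv_ne hm 1 α 0
  have he0i : Cfsg.hermForm n F₀ q0 e0 e0 = 0 := he0 ▸ C.vv_iso hm 1 hα 0
  obtain ⟨k, hk, hkR, hky⟩ := C.lift (show 1 ≤ 3 by norm_num) ![y] ![e0]
    (Fintype.linearIndependent_iff.2 fun g hg i => by fin_cases i; simpa [hy] using hg)
    (Fintype.linearIndependent_iff.2 fun g hg i => by fin_cases i; simpa [he0n] using hg)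
    (fun i j => by fin_cases i; fin_cases j; simp [hyy, he0i])
  have hky0 := hky 0
  simp only [Matrix.cons_val_zero] at hky0
  obtain ⟨v, hv⟩ : ∃ v, v = (k : Matrix (Fin n) (Fin n) F) *ᵥ w := ⟨_, rfl⟩
  obtain ⟨e, he⟩ : ∃ e, e = incn e0 := ⟨_, rfl⟩
  have hvv : Cfsg.hermForm n F q v v = 0 := by rw [hv, mem_GU.1 (C.hMU hk), hww]
  have hve : Cfsg.hermForm n F q v e = 0 := by rw [hv, he, ← hky0, mem_GU.1 (C.hMU hk), hwy]
  have hev := form_eq_zero_symm C.hF hve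
  have hee : Cfsg.hermForm n F q e e = 0 := he ▸ (C.incn_form_zero he0i).1
  have hvI : Irr F₀ v := by
    intro c hc h
    apply hw c hc
    have := rv_mulVec_inv hkR h
    rwa [hv, ← Matrix.mulVec_smul, FormMaxSL.inv_mulVec_mulVec] at this
  have htv : tu q v (d : F) ∈ M := by
    rw [hv, ← conj_tu (C.hMU hk) hww]
    exact M.mul_mem (M.mul_mem hk htw) (M.inv_mem hk)
  have hdF := C.tz_coe hd
  have hd0' : (d : F) ≠ 0 := fun h => hd0 (Subtype.ext h)
  have hdq : (d : F) ^ q = -(d : F) := eq_neg_of_add_eq_zero_left hdF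
  -- products of coordinates
  have hstep : ∀ (π : Equiv.Perm (Fin n)), π ⟨0, by omega⟩ = ⟨0, by omega⟩ → π ⟨1, by omega⟩ = ⟨1, by omega⟩ →
      ∀ γ : F₀, γ * γ ^ q0 = -1 → ∀ i : Fin n, 2 ≤ (i : ℕ) →
        Cfsg.hermForm n F q v (incn (vv hm π γ (1 : Fin 6))) ^ q * v i ∈ F₀ := by
    intro π h0 h1 γ hγ i hi
    obtain ⟨b, hb⟩ : ∃ b, b = Cfsg.hermForm n F q v (incn (vv hm π γ (1 : Fin 6))) := ⟨_, rfl⟩
    rw [← hb]
    have he' : e0 = vv hm π α (0 : Fin 6) := by rw [he0]; simp [vv, h0, h1]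
    obtain ⟨k0, hk0, hk0v⟩ : EM q M (incn (vv hm π α (0 : Fin 6))) (incn (vv hm π γ (1 : Fin 6))) 1 :=
      C.good_rat F₀.one_mem _ _ (C.vv_pair hm π hα hγ (by decide))
    have hk0w : (k0 : Matrix (Fin n) (Fin n) F) *ᵥ v = v + b • e := by
      rw [hk0v, ← he', ← he, ← hb, hve, one_pow, one_mul, one_mul, zero_smul, sub_zero]
    have hq1 : tu q (v + b • e) (d : F) ∈ M := by
      rw [← hk0w, ← conj_tu (C.hMU hk0) hvv]
      exact M.mul_mem (M.mul_mem hk0 htv) (M.inv_mem hk0)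
    have hQ := C.qe_tu hee hvv hve hdF hq1 htv
    refine coord_mem C hm hα hα' hne v (b ^ q) (fun π' h0' h1' γ' hγ' => ?_) i hi
    have hg := hcon _ (C.good_of_qe hm hα hα' hκ π' h0' h1' hγ' (a := v) (c := (d : F) * b)
      (by rw [← he0, ← he]; exact hve) (by rw [← he0, ← he]; exact hQ))
    refine C.mem_of_pow ?_
    rw [mul_pow, Herm.pow_pow_q C.hF]
    have h9 := F₀.mul_mem (F₀.inv_mem d.2) hg
    rwa [← mul_assoc, ← mul_assoc, inv_mul_cancel₀ hd0', one_mul] at h9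
  have hprod : ∀ i l : Fin n, 2 ≤ (i : ℕ) → 2 ≤ (l : ℕ) → v i ^ q * v l ∈ F₀ := by
    intro i l hi hl
    refine coord_mem C hm hα hα' hne v (v i ^ q) (fun π h0 h1 γ hγ => ?_) l hl
    refine C.mem_of_pow ?_
    rw [mul_pow, Herm.pow_pow_q C.hF, mul_comm]
    exact hstep π h0 h1 γ hγ i hi
  -- the two first coordinates
  have hcoord : v ⟨0, by omega⟩ + (α : F) ^ q * v ⟨1, by omega⟩ = 0 := by
    have h9 := hve
    rw [he, he0] at h9
    simpa [vv, incn_add, incn_smul, incn_single, form_add_right C.hF, form_smul_right, form_single C.hF]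
      using h9
  have h01 : v ⟨1, by omega⟩ = (α : F) * v ⟨0, by omega⟩ := by
    have hαN : (α : F) * (α : F) ^ q = -1 := by
      rw [C.real, ← MulMemClass.coe_mul, hα]; rfl
    linear_combination -(α : F) * hcoord + v ⟨1, by omega⟩ * hαN
  by_cases hz : ∀ i : Fin n, 2 ≤ (i : ℕ) → v i = 0
  · -- a rational line
    by_cases hv0 : v ⟨0, by omega⟩ = 0
    · refine hvI 1 one_ne_zero fun l => ?_
      rw [one_smul]
      by_cases hl : 2 ≤ (l : ℕ)
      · rw [hz l hl]; exact F₀.zero_mem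
      · rcases (show (l : ℕ) = 0 ∨ (l : ℕ) = 1 by omega) with h9 | h9
        · rw [show l = ⟨0, by omega⟩ from Fin.ext h9, hv0]; exact F₀.zero_mem
        · rw [show l = ⟨1, by omega⟩ from Fin.ext h9, h01, hv0, mul_zero]; exact F₀.zero_mem
    · refine hvI (v ⟨0, by omega⟩)⁻¹ (inv_ne_zero hv0) fun l => ?_
      rw [Pi.smul_apply, smul_eq_mul]
      by_cases hl : 2 ≤ (l : ℕ)
      · rw [hz l hl, mul_zero]; exact F₀.zero_mem
      · rcases (show (l : ℕ) = 0 ∨ (l : ℕ) = 1 by omega) with h9 | h9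
        · rw [show l = ⟨0, by omega⟩ from Fin.ext h9, inv_mul_cancel₀ hv0]; exact F₀.one_mem
        · rw [show l = ⟨1, by omega⟩ from Fin.ext h9, h01, mul_comm (α : F), ← mul_assoc, inv_mul_cancel₀ hv0,
            one_mul]
          exact α.2
  push Not at hz
  obtain ⟨i0, hi0, hβ0⟩ := hz
  obtain ⟨β, hβ⟩ : ∃ β, β = v i0 := ⟨_, rfl⟩
  rw [← hβ] at hβ0
  have hN : β ^ q * β ∈ F₀ := hβ ▸ hprod i0 i0 hi0 hi0
  have hN0 : β ^ q * β ≠ 0 := mul_ne_zero (pow_ne_zero _ hβ0) hβ0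
  have hrat : ∀ l : Fin n, 2 ≤ (l : ℕ) → v l / β ∈ F₀ := by
    intro l hl
    have h9 := F₀.mul_mem (F₀.inv_mem hN) (hprod i0 l hi0 hl)
    rw [← hβ] at h9
    convert h9 using 1
    field_simp
  obtain ⟨x0, hx0⟩ : ∃ x0 : Fin n → F₀, ∀ l : Fin n, (x0 l : F) = if 2 ≤ (l : ℕ) then v l / β else 0 :=
    ⟨fun l => if hl : 2 ≤ (l : ℕ) then ⟨_, hrat l hl⟩ else 0, fun l => by by_cases h9 : 2 ≤ (l : ℕ) <;> simp [h9]⟩
  obtain ⟨ρ, hρ⟩ : ∃ ρ, ρ = v ⟨0, by omega⟩ / β := ⟨_, rfl⟩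
  have hvdec : v = β • (incn x0 + ρ • e) := by
    funext l
    simp only [Pi.smul_apply, Pi.add_apply, smul_eq_mul, incn, he, he0, vv, Equiv.Perm.one_apply,
      Pi.single_apply, Fin.ext_iff, hx0, Fin.val_zero, mul_zero, zero_add, AddMemClass.coe_add,
      MulMemClass.coe_mul, apply_ite Subtype.val, OneMemClass.coe_one, ZeroMemClass.coe_zero]
    by_cases hl : 2 ≤ (l : ℕ)
    · rw [if_pos hl, if_neg (by omega), if_neg (by omega)]
      field_simp
      ring
    · rw [if_neg hl]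
      rcases (show (l : ℕ) = 0 ∨ (l : ℕ) = 1 by omega) with h9 | h9
      · rw [if_pos h9, if_neg (by omega), show l = ⟨0, by omega⟩ from Fin.ext h9, hρ]
        field_simp
        ring
      · rw [if_neg (by omega), if_pos h9, show l = ⟨1, by omega⟩ from Fin.ext h9, h01, hρ]
        field_simp
        ring
  have hρm : ρ ∉ F₀ := by
    intro h9
    refine hvI β⁻¹ (inv_ne_zero hβ0) ?_
    rw [hvdec, smul_smul, inv_mul_cancel₀ hβ0, one_smul, he]
    exact fun l => F₀.add_mem (x0 l).2 (F₀.mul_mem h9 (e0 l).2)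
  have hx0e : Cfsg.hermForm n F q (incn x0) e = 0 := by
    have h9 : Cfsg.hermForm n F q v e = β * Cfsg.hermForm n F q (incn x0) e := by
      rw [hvdec, form_smul_left, form_add_left, form_smul_left, hee, mul_zero, add_zero]
    rw [hve] at h9
    exact (mul_eq_zero.1 h9.symm).resolve_left hβ0
  have hex0 := form_eq_zero_symm C.hF hx0e
  have hx0i : Cfsg.hermForm n F q (incn x0) (incn x0) = 0 := by
    have h9 := hvv
    rw [hvdec] at h9
    simp only [form_smul_left, form_smul_right, form_add_left, form_add_right C.hF, hee, hx0e, hex0, mul_zero,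
      add_zero] at h9
    exact ((mul_eq_zero.1 h9).resolve_left (pow_ne_zero _ hβ0) |> mul_eq_zero.1).resolve_left hβ0
  have hx0i' : Cfsg.hermForm n F₀ q0 x0 x0 = 0 := Subtype.ext (by rw [← C.form_incn]; exact hx0i)
  obtain ⟨d', hd'⟩ : ∃ d' : F₀, d' = ⟨_, hN⟩ * d := ⟨_, rfl⟩
  have hd'v : (d' : F) = β ^ q * β * (d : F) := by rw [hd']; rfl
  have hd'z : Tz q (d' : F) := by
    rw [hd'v, mul_comm (β ^ q)]
    exact SUFull.tz_norm_mul C.hF hdF β
  have hd'0 : Tz q0 d' := by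
    unfold SUGen.Tz at hd'z ⊢
    rw [C.real] at hd'z
    exact Subtype.ext hd'z
  have hs : Cfsg.hermForm n F q (incn x0 + ρ • e) (incn x0 + ρ • e) = 0 := by
    simp only [form_add_left, form_add_right C.hF, form_smul_left, form_smul_right, hee, hx0e, hex0, hx0i,
      mul_zero, add_zero]
  have hts : tu q (incn x0 + ρ • e) (d' : F) ∈ M := by
    have h9 := htv
    rwa [hvdec, tu_smul C.hF hs, mul_comm β, ← hd'v] at h9
  have hQ := C.qe_tu hee hx0i hx0e hd'z hts (C.tu_rat hx0i' hd'0)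
  have hfin := coord_mem C hm hα hα' hne (incn x0) (((d' : F) * ρ) ^ q) (fun π h0 h1 γ hγ => by
    refine C.mem_of_pow ?_
    rw [mul_pow, Herm.pow_pow_q C.hF]
    exact hcon _ (C.good_of_qe hm hα hα' hκ π h0 h1 hγ (a := incn x0) (c := (d' : F) * ρ)
      (by rw [← he0, ← he]; exact hx0e) (by rw [← he0, ← he]; exact hQ))) i0 hi0
  have e1 : incn x0 i0 = 1 := by
    show (x0 i0 : F) = 1
    rw [hx0, if_pos hi0, ← hβ, div_self hβ0]
  rw [e1, mul_one] at hfin
  apply hρm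
  have hd'0' : (d' : F) ≠ 0 := by rw [hd'v]; exact mul_ne_zero hN0 hd0'
  have h9 := F₀.mul_mem (F₀.inv_mem d'.2) (C.mem_of_pow hfin)
  rwa [← mul_assoc, inv_mul_cancel₀ hd'0', one_mul] at h9

/-- rationality from the isotropic rational lines -/
theorem rs_of_iso_lines (C : Ctx n q q0 r F₀ M) {g : GL (Fin n) F} (hgU : g ∈ Cfsg.GU n F q)
    (h : ∀ x : Fin n → F₀, x ≠ 0 → Cfsg.hermForm n F₀ q0 x x = 0 →
      ∃ c : F, c ≠ 0 ∧ RV F₀ (c • ((g : Matrix (Fin n) (Fin n) F) *ᵥ incn x))) : RS F₀ g := by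
  refine SubfieldMax.rs_of_lines g fun x hx => ?_
  obtain ⟨v, rfl⟩ := exists_incn hx
  by_cases hv : v = 0
  · refine ⟨1, one_ne_zero, ?_⟩
    rw [hv, incn_zero, Matrix.mulVec_zero, smul_zero]
    exact fun i => F₀.zero_mem
  by_cases hvv : Cfsg.hermForm n F₀ q0 v v = 0
  · exact h v hv hvv
  obtain ⟨α, α', hα, hα', hne, hκ⟩ := C.exists_params
  have hn := C.hn
  -- an isotropic vector not orthogonal to `v`
  obtain ⟨e, hee, hve⟩ : ∃ e, Cfsg.hermForm n F₀ q0 e e = 0 ∧ Cfsg.hermForm n F₀ q0 v e ≠ 0 := by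
    by_contra hcon
    push Not at hcon
    apply hv
    funext i
    obtain ⟨j, hj⟩ : ∃ j : Fin n, j ≠ i := by
      by_cases h9 : (i : ℕ) = 0
      · exact ⟨⟨1, by omega⟩, fun h' => by simp [← h'] at h9⟩
      · exact ⟨⟨0, by omega⟩, fun h' => h9 (by rw [← h'])⟩
    have hE : ∀ γ : F₀, γ * γ ^ q0 = -1 → v i + γ ^ q0 * v j = 0 := by
      intro γ hγ
      have hz : Cfsg.hermForm n F₀ q0 (Pi.single i 1 + γ • Pi.single j 1) (Pi.single i 1 + γ • Pi.single j 1) = 0 := by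
        simp only [form_add_left, form_add_right C.hF0, form_smul_left, form_smul_right, form_single C.hF0,
          Pi.add_apply, Pi.smul_apply, smul_eq_mul, Pi.single_eq_same, Pi.single_eq_of_ne hj, Pi.single_eq_of_ne hj.symm]
        linear_combination hγ
      have h9 := hcon _ hz
      rwa [form_add_right C.hF0, form_smul_right, form_single C.hF0, form_single C.hF0] at h9
    have h1 := hE α hα
    have h2 := hE α' hα'
    have hd : α' ^ q0 - α ^ q0 ≠ 0 := sub_ne_zero.2 fun h9 => hne (by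
      simpa [Herm.pow_pow_q C.hF0] using (congrArg (fun x => x ^ q0) h9).symm)
    have hvj : v j = 0 := (mul_eq_zero.1 (show (α' ^ q0 - α ^ q0) * v j = 0 by linear_combination h2 - h1)).resolve_left hd
    rw [hvj, mul_zero, add_zero] at h1
    exact h1
  have hev : Cfsg.hermForm n F₀ q0 e v ≠ 0 := fun h9 => hve (form_eq_zero_symm C.hF0 h9)
  obtain ⟨t, ht⟩ := SUStab.adjust C.hF0 hee hev
  obtain ⟨f, hf⟩ : ∃ f, f = v + t • e := ⟨_, rfl⟩
  rw [← hf] at ht
  have hfe : Cfsg.hermForm n F₀ q0 f e ≠ 0 := by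
    rw [hf, form_add_left, form_smul_left, hee, mul_zero, add_zero]; exact hve
  obtain ⟨d, hd, hd0⟩ := SUGen.exists_tz C.hF0
  obtain ⟨μ, hμ⟩ : ∃ μ, μ = (d / Cfsg.hermForm n F₀ q0 f e) ^ q0 := ⟨_, rfl⟩
  have hμ0 : μ ≠ 0 := hμ ▸ pow_ne_zero _ (div_ne_zero hd0 hfe)
  have hh : Cfsg.hermForm n F₀ q0 (f + μ • e) (f + μ • e) = 0 := by
    rw [form_add_left, form_add_right C.hF0, form_add_right C.hF0, form_smul_left, form_smul_left,
      form_smul_right, form_smul_right, ht, hee, hμ, Herm.pow_pow_q C.hF0, ← form_comm C.hF0 f e, ← mul_pow,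
      div_mul_cancel₀ _ hfe]
    unfold SUGen.Tz at hd
    linear_combination hd
  have hf0 : f ≠ 0 := fun h9 => hfe (by rw [h9, form_zero_left])
  have he0 : e ≠ 0 := fun h9 => hev (by rw [h9, form_zero_left])
  have hh0 : f + μ • e ≠ 0 := fun h9 => hfe (by
    have h8 : Cfsg.hermForm n F₀ q0 (f + μ • e) e = 0 := by rw [h9, form_zero_left]
    rwa [form_add_left, form_smul_left, hee, mul_zero, add_zero] at h8)
  obtain ⟨cf, hcf, hF1⟩ := h f hf0 ht
  obtain ⟨ce, hce, hE1⟩ := h e he0 hee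
  obtain ⟨ch, hch, hH1⟩ := h _ hh0 hh
  obtain ⟨X, hX⟩ := exists_incn hF1
  obtain ⟨Y, hY⟩ := exists_incn hE1
  obtain ⟨Z, hZ⟩ := exists_incn hH1
  have hgf : ∀ a b : Fin n → F₀, ∀ x y : F,
      Cfsg.hermForm n F q (x • ((g : Matrix (Fin n) (Fin n) F) *ᵥ incn a)) (y • ((g : Matrix (Fin n) (Fin n) F) *ᵥ incn b)) =
        x * y ^ q * ((Cfsg.hermForm n F₀ q0 a b : F₀) : F) := fun a b x y => by
    rw [form_smul_left, form_smul_right, mem_GU.1 hgU, C.form_incn]; ring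
  have m1 : ((Cfsg.hermForm n F₀ q0 X Y : F₀) : F) = cf * ce ^ q * ((Cfsg.hermForm n F₀ q0 f e : F₀) : F) := by
    rw [← C.form_incn, hX, hY, hgf]
  have m2 : ((Cfsg.hermForm n F₀ q0 Z Y : F₀) : F) = ch * ce ^ q * ((Cfsg.hermForm n F₀ q0 f e : F₀) : F) := by
    rw [← C.form_incn, hZ, hY, hgf, form_add_left, form_smul_left, hee, mul_zero, add_zero]
  have m3 : ((Cfsg.hermForm n F₀ q0 Y X : F₀) : F) = ce * cf ^ q * ((Cfsg.hermForm n F₀ q0 e f : F₀) : F) := by
    rw [← C.form_incn, hX, hY, hgf]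
  have m4 : ((Cfsg.hermForm n F₀ q0 Z X : F₀) : F) = ch * cf ^ q * ((μ : F) * ((Cfsg.hermForm n F₀ q0 e f : F₀) : F)) := by
    rw [← C.form_incn, hZ, hX, hgf, form_add_left, form_smul_left, ht, zero_add, MulMemClass.coe_mul]
  have nfe : ((Cfsg.hermForm n F₀ q0 f e : F₀) : F) ≠ 0 := fun h9 => hfe (Subtype.ext h9)
  have nef : ((Cfsg.hermForm n F₀ q0 e f : F₀) : F) ≠ 0 := fun h9 =>
    hfe (form_eq_zero_symm C.hF0 (Subtype.ext h9))
  have hcpow : ∀ x : F, x ≠ 0 → x ^ q ≠ 0 := fun x hx => pow_ne_zero _ hx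
  have nμ : (μ : F) ≠ 0 := fun h9 => hμ0 (Subtype.ext h9)
  have r1 : ch / cf ∈ F₀ := by
    have h9 := F₀.div_mem (Cfsg.hermForm n F₀ q0 Z Y).2 (Cfsg.hermForm n F₀ q0 X Y).2
    rw [m1, m2] at h9
    convert h9 using 1
    have := hcpow ce hce
    field_simp
  have r2 : ch / ce ∈ F₀ := by
    have h9 := F₀.div_mem (Cfsg.hermForm n F₀ q0 Z X).2 (F₀.mul_mem μ.2 (Cfsg.hermForm n F₀ q0 Y X).2)
    rw [m3, m4] at h9
    convert h9 using 1
    have := hcpow cf hcf
    field_simp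
  refine ⟨ch, hch, ?_⟩
  have e2 : ch • ((g : Matrix (Fin n) (Fin n) F) *ᵥ incn v) =
      (ch / cf) • incn X - ((t : F) * (ch / ce)) • incn Y := by
    rw [hX, hY, smul_smul, smul_smul, div_mul_cancel₀ _ hcf, mul_assoc, div_mul_cancel₀ _ hce,
      show v = f - t • e by rw [hf, add_sub_cancel_right], incn_sub, incn_smul, Matrix.mulVec_sub,
      Matrix.mulVec_smul, smul_sub, smul_smul, mul_comm ch (t : F)]
  rw [e2]
  exact fun l => F₀.sub_mem (F₀.mul_mem r1 (X l).2) (F₀.mul_mem (F₀.mul_mem t.2 r2) (Y l).2)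

/-- a matrix with entries in the subfield acts on the rational vectors -/
theorem exists_act (_C : Ctx n q q0 r F₀ M) {X : Matrix (Fin n) (Fin n) F} (hX : RM F₀ X) :
    ∃ L : (Fin n → F₀) →ₗ[F₀] (Fin n → F₀), ∀ v, X *ᵥ incn v = incn (L v) := by
  obtain ⟨X0, hX0⟩ : ∃ X0 : Matrix (Fin n) (Fin n) F₀, X0 = fun i j => ⟨X i j, hX i j⟩ := ⟨_, rfl⟩
  refine ⟨Matrix.toLin' X0, fun v => funext fun i => ?_⟩
  rw [Matrix.toLin'_apply]
  show (X *ᵥ incn v) i = (((X0 *ᵥ v) i : F₀) : F)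
  simp only [Matrix.mulVec, dotProduct, AddSubmonoidClass.coe_finsetSum, MulMemClass.coe_mul, incn, hX0]

/-- a rational isotropic vector in the image of `X - 1` -/
theorem exists_minus (C : Ctx n q q0 r F₀ M) {X : GL (Fin n) F} (hXM : X ∈ M)
    (hX : RM F₀ (X : Matrix (Fin n) (Fin n) F)) (hX2 : X * X = 1) (hX1 : X ≠ 1) :
    ∃ y v : Fin n → F₀, y ≠ 0 ∧ Cfsg.hermForm n F₀ q0 y y = 0 ∧
      incn y = (X : Matrix (Fin n) (Fin n) F) *ᵥ incn v - incn v := by
  obtain ⟨L, hL⟩ := C.exists_act hX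
  have hXX : ∀ x, (X : Matrix (Fin n) (Fin n) F) *ᵥ ((X : Matrix (Fin n) (Fin n) F) *ᵥ x) = x := fun x => by
    rw [Matrix.mulVec_mulVec, ← Units.val_mul, hX2, Units.val_one, Matrix.one_mulVec]
  obtain ⟨K, hK⟩ : ∃ K, K = LinearMap.range (L - LinearMap.id) := ⟨_, rfl⟩
  have hout : ∀ y ∈ K, ∃ v : Fin n → F₀, incn y = (X : Matrix (Fin n) (Fin n) F) *ᵥ incn v - incn v := by
    intro y hy
    rw [hK] at hy
    obtain ⟨v, rfl⟩ := hy
    exact ⟨v, by rw [hL, LinearMap.sub_apply, LinearMap.id_apply, incn_sub]⟩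
  suffices h : ∃ y ∈ K, y ≠ 0 ∧ Cfsg.hermForm n F₀ q0 y y = 0 by
    obtain ⟨y, hy, hy0, hyy⟩ := h
    obtain ⟨v, hv⟩ := hout y hy
    exact ⟨y, v, hy0, hyy, hv⟩
  by_cases hdim : 2 ≤ Module.finrank F₀ K
  · exact SUStab.exists_iso C.hF0 K hdim
  obtain ⟨j, hj⟩ : ∃ j, L (Pi.single j 1) - Pi.single j 1 ≠ 0 := by
    by_contra h9
    push Not at h9
    refine hX1 (Units.ext (Matrix.ext_of_mulVec_single fun j => ?_))
    rw [Units.val_one, Matrix.one_mulVec, ← incn_single (F₀ := F₀) j, hL, sub_eq_zero.1 (h9 j)]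
  obtain ⟨y, hy⟩ : ∃ y, y = L (Pi.single j 1) - Pi.single j 1 := ⟨_, rfl⟩
  rw [← hy] at hj
  have hyK : y ∈ K := by rw [hK, hy]; exact ⟨Pi.single j 1, rfl⟩
  by_cases hyy : Cfsg.hermForm n F₀ q0 y y = 0
  · exact ⟨y, hyK, hj, hyy⟩
  exfalso
  have hsub : Submodule.span F₀ {y} = K := Submodule.eq_of_le_of_finrank_le
    (by rwa [Submodule.span_singleton_le_iff_mem]) (by rw [finrank_span_singleton hj]; omega)
  obtain ⟨N, hN⟩ : ∃ N : F, N = ((Cfsg.hermForm n F₀ q0 y y : F₀) : F) := ⟨_, rfl⟩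
  have hN0 : N ≠ 0 := hN ▸ fun h9 => hyy (Subtype.ext h9)
  have hXy : (X : Matrix (Fin n) (Fin n) F) *ᵥ incn y = -incn y := by
    rw [hy, incn_sub, ← hL, Matrix.mulVec_sub, hXX, neg_sub]
  have hform : ∀ x, Cfsg.hermForm n F q ((X : Matrix (Fin n) (Fin n) F) *ᵥ x) (incn y) = -Cfsg.hermForm n F q x (incn y) := by
    intro x
    have h9 := mem_GU.1 (C.hMU hXM) x (incn y)
    rw [hXy, show -incn y = (-1 : F) • incn y by rw [neg_one_smul], form_smul_right,
      show (-1 : F) ^ q = -1 by rw [← Herm.conj_apply C.hF, map_neg, map_one], neg_one_mul] at h9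
    linear_combination -h9
  have hform1 : (X : Matrix (Fin n) (Fin n) F) =
      1 + (-2 / N) • Matrix.vecMulVec (incn y) (fun l => incn y l ^ q) := by
    refine Matrix.ext_of_mulVec_single fun l => ?_
    rw [SUGen.upd_mulVec, ← incn_single (F₀ := F₀) l]
    obtain ⟨s, hs⟩ := Submodule.mem_span_singleton.1
      (show L (Pi.single l 1) - Pi.single l 1 ∈ Submodule.span F₀ {y} by rw [hsub, hK]; exact ⟨_, rfl⟩)
    have e1 : (X : Matrix (Fin n) (Fin n) F) *ᵥ incn (Pi.single l (1 : F₀)) =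
        incn (Pi.single l (1 : F₀)) + (s : F) • incn y := by
      rw [← incn_smul, hs, incn_sub, hL]; abel
    have h9 := hform (incn (Pi.single l (1 : F₀)))
    rw [e1, form_add_left, form_smul_left, show Cfsg.hermForm n F q (incn y) (incn y) = N by rw [C.form_incn, hN]] at h9
    rw [e1]
    congr 2
    field_simp
    linear_combination h9
  have hdet : ((X : GL (Fin n) F) : Matrix (Fin n) (Fin n) F).det = 1 := congrArg Units.val (C.hMS hXM).2
  rw [hform1, SUGen.det_upd, show Cfsg.hermForm n F q (incn y) (incn y) = N by rw [C.form_incn, hN],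
    div_mul_cancel₀ _ hN0] at hdet
  have h2 : (2 : F) = 0 := by linear_combination -hdet
  apply hX1
  refine Units.ext ?_
  rw [hform1, h2, neg_zero, zero_div, zero_smul, add_zero, Units.val_one]

/-- a rational isotropic vector fixed by `Y` -/
theorem exists_plus (C : Ctx n q q0 r F₀ M) {Y : GL (Fin n) F} (hY : RM F₀ (Y : Matrix (Fin n) (Fin n) F))
    (hfix : 2 ≤ Module.finrank F (LinearMap.ker (Matrix.toLin' (Y : Matrix (Fin n) (Fin n) F) - LinearMap.id))) :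
    ∃ x : Fin n → F₀, x ≠ 0 ∧ Cfsg.hermForm n F₀ q0 x x = 0 ∧
      (Y : Matrix (Fin n) (Fin n) F) *ᵥ incn x = incn x := by
  classical
  obtain ⟨L, hL⟩ := C.exists_act hY
  obtain ⟨K, hK⟩ : ∃ K, K = LinearMap.ker (L - LinearMap.id) := ⟨_, rfl⟩
  obtain ⟨b, hb⟩ : ∃ b, b = Module.finBasis F₀ F := ⟨_, rfl⟩
  obtain ⟨c, hc⟩ : ∃ c, c = Module.finBasis F₀ K := ⟨_, rfl⟩
  have hle : LinearMap.ker (Matrix.toLin' (Y : Matrix (Fin n) (Fin n) F) - LinearMap.id) ≤
      Submodule.span F (Set.range fun i => incn (c i : Fin n → F₀)) := by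
    intro v hv
    rw [LinearMap.mem_ker, LinearMap.sub_apply, Matrix.toLin'_apply, LinearMap.id_apply, sub_eq_zero] at hv
    obtain ⟨co, hco⟩ : ∃ co : Fin (Module.finrank F₀ F) → Fin n → F₀, co = fun j i => b.repr (v i) j := ⟨_, rfl⟩
    have hvsum : v = ∑ j, (b j) • incn (co j) := by
      funext i
      conv_lhs => rw [← b.sum_repr (v i)]
      simp only [hco, Finset.sum_apply, Pi.smul_apply, smul_eq_mul, incn, Subfield.smul_def, mul_comm]
    have hcK : ∀ j, co j ∈ K := by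
      intro j
      rw [hK, LinearMap.mem_ker, LinearMap.sub_apply, LinearMap.id_apply, sub_eq_zero]
      have h9 : ∑ j, (b j) • incn (L (co j) - co j) = 0 := by
        simp only [incn_sub, ← hL, smul_sub, Finset.sum_sub_distrib, ← Matrix.mulVec_smul]
        rw [← Matrix.mulVec_sum, ← hvsum, hv, sub_self]
      funext i
      have h8 := congrFun h9 i
      rw [Finset.sum_apply] at h8
      have h7 : ∑ j, (L (co j) - co j) i • b j = 0 := by
        rw [← Pi.zero_apply (M := fun _ : Fin n => F) i, ← h8]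
        exact Finset.sum_congr rfl fun j _ => by
          simp only [Pi.smul_apply, smul_eq_mul, incn, Subfield.smul_def, mul_comm]
      exact sub_eq_zero.1 (Fintype.linearIndependent_iff.1 b.linearIndependent _ h7 j)
    rw [hvsum]
    refine Submodule.sum_mem _ fun j _ => Submodule.smul_mem _ _ ?_
    have e : co j = ∑ i, c.repr ⟨co j, hcK j⟩ i • (c i : Fin n → F₀) := by
      have h9 := congrArg Subtype.val (c.sum_repr ⟨co j, hcK j⟩)
      rw [Submodule.coe_sum] at h9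
      exact h9.symm
    have e' : incn (co j) = ∑ i, ((c.repr ⟨co j, hcK j⟩ i : F₀) : F) • incn (c i : Fin n → F₀) := by
      conv_lhs => rw [e]
      funext l
      simp [incn, Finset.sum_apply, AddSubmonoidClass.coe_finsetSum]
    rw [e']
    exact Submodule.sum_mem _ fun i _ => Submodule.smul_mem _ _ (Submodule.subset_span ⟨i, rfl⟩)
  have hdim : 2 ≤ Module.finrank F₀ K := by
    refine hfix.trans ((Submodule.finrank_mono hle).trans ?_)
    refine (finrank_range_le_card _).trans ?_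
    rw [Fintype.card_fin]
  obtain ⟨x, hx, hx0, hxx⟩ := SUStab.exists_iso C.hF0 K hdim
  rw [hK, LinearMap.mem_ker, LinearMap.sub_apply, LinearMap.id_apply, sub_eq_zero] at hx
  exact ⟨x, hx0, hxx, by rw [hL, hx]⟩

/-- two involutions in different classes -/
theorem exists_invols (C : Ctx n q q0 r F₀ M) :
    ∃ t s : GL (Fin n) F, t ∈ M ∧ s ∈ M ∧ RM F₀ (t : Matrix (Fin n) (Fin n) F) ∧
      RM F₀ (s : Matrix (Fin n) (Fin n) F) ∧ t * t = 1 ∧ s * s = 1 ∧ t ≠ 1 ∧ s ≠ 1 ∧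
      n ≤ Module.finrank F (LinearMap.ker (Matrix.toLin' (t : Matrix (Fin n) (Fin n) F) - LinearMap.id)) + 2 ∧
      n ≤ Module.finrank F (LinearMap.ker (Matrix.toLin' (s : Matrix (Fin n) (Fin n) F) - LinearMap.id)) + 4 ∧
      ∀ h : GL (Fin n) F, h * s * h⁻¹ ≠ t := by
  classical
  have hn := C.hn
  obtain ⟨I, hI⟩ : ∃ I : ℕ → Fin n, ∀ k, k < n → (I k : ℕ) = k :=
    ⟨fun k => if hk : k < n then ⟨k, hk⟩ else ⟨0, by omega⟩, fun k hk => by simp [hk]⟩
  obtain ⟨σ, hσ⟩ : ∃ σ : ℕ → Equiv.Perm (Fin n), σ = fun k => Equiv.swap (I (2 * k)) (I (2 * k + 1)) := ⟨_, rfl⟩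
  have key : ∀ τ : Equiv.Perm (Fin n), τ * τ = 1 → Equiv.Perm.sign τ = 1 → ∃ g : GL (Fin n) F,
      g ∈ M ∧ RM F₀ (g : Matrix (Fin n) (Fin n) F) ∧ g * g = 1 ∧
      ∀ x, (g : Matrix (Fin n) (Fin n) F) *ᵥ x = x ∘ τ := by
    intro τ hτ hsgn
    have hmv : ∀ x : Fin n → F, τ.permMatrix F *ᵥ x = x ∘ τ := fun x => Matrix.permMatrix_mulVec _
    have hPP : τ.permMatrix F * τ.permMatrix F = 1 := by
      refine Matrix.ext_of_mulVec_single fun j => ?_
      rw [← Matrix.mulVec_mulVec, hmv, hmv, Matrix.one_mulVec, Function.comp_assoc, ← Equiv.Perm.coe_mul, hτ,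
        Equiv.Perm.coe_one, Function.comp_id]
    obtain ⟨g, hg⟩ : ∃ g : GL (Fin n) F, g = ⟨τ.permMatrix F, τ.permMatrix F, hPP, hPP⟩ := ⟨_, rfl⟩
    have hgv : ∀ x, (g : Matrix (Fin n) (Fin n) F) *ᵥ x = x ∘ τ := fun x => by rw [hg]; exact hmv x
    have hgU : g ∈ Cfsg.GU n F q := by
      rw [mem_GU]
      intro x y
      rw [hgv, hgv]
      exact Equiv.sum_comp τ (fun l => x l * y l ^ q)
    have hgS : g ∈ Cfsg.Geo.specialLinear (Fin n) F := by
      refine Units.ext ?_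
      show (g : Matrix (Fin n) (Fin n) F).det = 1
      rw [hg]
      show (τ.permMatrix F).det = 1
      rw [Matrix.det_permutation, hsgn]
      simp
    have hgR : RM F₀ (g : Matrix (Fin n) (Fin n) F) := rm_of_incn fun x => by
      rw [hgv]; exact fun l => (x (τ l)).2
    exact ⟨g, C.hM g ⟨hgU, hgS⟩ hgR, hgR, by rw [hg]; exact Units.ext hPP, hgv⟩
  have hne : ∀ a b, a < n → b < n → a ≠ b → I a ≠ I b := fun a b ha hb hab h9 =>
    hab (by rw [← hI a ha, ← hI b hb, h9])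
  have happ : ∀ k x, (σ k) x = if x = I (2 * k) then I (2 * k + 1) else if x = I (2 * k + 1) then I (2 * k) else x := by
    intro k x; rw [hσ]; exact Equiv.swap_apply_def _ _ _
  obtain ⟨τt, hτt⟩ : ∃ τ, τ = σ 0 * σ 1 := ⟨_, rfl⟩
  obtain ⟨τs, hτs⟩ : ∃ τ, τ = σ 0 * σ 1 * σ 2 * σ 3 := ⟨_, rfl⟩
  have hsg : ∀ k, k < 4 → Equiv.Perm.sign (σ k) = -1 := fun k hk => by
    rw [hσ]; exact Equiv.Perm.sign_swap (hne _ _ (by omega) (by omega) (by omega))
  have hdisj : ∀ k l, k < 4 → l < 4 → k ≠ l → Equiv.Perm.Disjoint (σ k) (σ l) := by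
    intro k l hk hl hkl x
    rw [happ, happ]
    by_cases h1 : x = I (2 * k) ∨ x = I (2 * k + 1)
    · right
      rcases h1 with h1 | h1 <;> rw [h1, if_neg (hne _ _ (by omega) (by omega) (by omega)),
        if_neg (hne _ _ (by omega) (by omega) (by omega))]
    · left
      push Not at h1
      rw [if_neg h1.1, if_neg h1.2]
  have hc : ∀ k l, k < 4 → l < 4 → Commute (σ k) (σ l) := fun k l hk hl => by
    by_cases hkl : k = l
    · rw [hkl]
    · exact (hdisj k l hk hl hkl).commute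
  have hs2 : ∀ k, σ k * σ k = 1 := fun k => by rw [hσ]; exact Equiv.swap_mul_self _ _
  have ht2 : τt * τt = 1 := by
    rw [hτt, (hc 1 0 (by norm_num) (by norm_num)).mul_mul_mul_comm, hs2, hs2, one_mul]
  have hss2 : τs * τs = 1 := by
    have c1 : Commute (σ 2) (σ 0 * σ 1) := (hc 2 0 (by norm_num) (by norm_num)).mul_right (hc 2 1 (by norm_num) (by norm_num))
    have c2 : Commute (σ 3) (σ 0 * σ 1 * σ 2) :=
      ((hc 3 0 (by norm_num) (by norm_num)).mul_right (hc 3 1 (by norm_num) (by norm_num))).mul_right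
        (hc 3 2 (by norm_num) (by norm_num))
    rw [hτs, c2.mul_mul_mul_comm, hs2, mul_one, c1.mul_mul_mul_comm, hs2, mul_one, ← hτt, ht2]
  obtain ⟨t, htM, htR, htt, htv⟩ := key τt ht2 (by
    rw [hτt, map_mul, hsg 0 (by norm_num), hsg 1 (by norm_num)]; decide)
  obtain ⟨s, hsM, hsR, hst, hsv⟩ := key τs hss2 (by
    rw [hτs, map_mul, map_mul, map_mul, hsg 0 (by norm_num), hsg 1 (by norm_num), hsg 2 (by norm_num),
      hsg 3 (by norm_num)]; decide)
  obtain ⟨u, hu⟩ : ∃ u : ℕ → Fin n → F, u = fun k => Pi.single (I (2 * k)) 1 - Pi.single (I (2 * k + 1)) 1 := ⟨_, rfl⟩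
  have htrange : ∀ x : Fin n → F, x ∘ τt - x =
      (x (I 1) - x (I 0)) • u 0 + (x (I 3) - x (I 2)) • u 1 := by
    intro x
    funext l
    simp only [hτt, hu, Pi.sub_apply, Pi.add_apply, Pi.smul_apply, smul_eq_mul, Function.comp_apply,
      Equiv.Perm.mul_apply, happ, Pi.single_apply]
    by_cases e0 : l = I 0
    · subst e0
      simp [hne 0 2 (by omega) (by omega) (by omega), hne 0 3 (by omega) (by omega) (by omega),
        hne 0 1 (by omega) (by omega) (by omega)]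
    by_cases e1 : l = I 1
    · subst e1
      simp [hne 1 2 (by omega) (by omega) (by omega), hne 1 3 (by omega) (by omega) (by omega),
        hne 1 0 (by omega) (by omega) (by omega)]
    by_cases e2 : l = I 2
    · subst e2
      simp [e0, e1, hne 3 0 (by omega) (by omega) (by omega), hne 3 1 (by omega) (by omega) (by omega),
        hne 2 3 (by omega) (by omega) (by omega)]
    by_cases e3 : l = I 3
    · subst e3
      simp [e0, e1, e2, hne 2 0 (by omega) (by omega) (by omega), hne 2 1 (by omega) (by omega) (by omega)]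
    simp [e0, e1, e2, e3]
  have hsbnd : ∀ k, k < 4 → (s : Matrix (Fin n) (Fin n) F) *ᵥ Pi.single (I (2 * k + 1)) 1 -
      Pi.single (I (2 * k + 1)) 1 = u k := by
    intro k hk
    rw [hsv, hu]
    funext l
    have hfixk : ∀ j, j < 4 → j ≠ k → (σ j) (I (2 * k)) = I (2 * k) ∧ (σ j) (I (2 * k + 1)) = I (2 * k + 1) := by
      intro j hj hjk
      constructor <;> rw [happ, if_neg (hne _ _ (by omega) (by omega) (by omega)),
        if_neg (hne _ _ (by omega) (by omega) (by omega))]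
    have himg : τs (I (2 * k)) = I (2 * k + 1) := by
      have hk' : (σ k) (I (2 * k)) = I (2 * k + 1) := by rw [happ, if_pos rfl]
      rw [hτs, Equiv.Perm.mul_apply, Equiv.Perm.mul_apply, Equiv.Perm.mul_apply]
      interval_cases k
      · rw [(hfixk 3 (by norm_num) (by norm_num)).1, (hfixk 2 (by norm_num) (by norm_num)).1,
          (hfixk 1 (by norm_num) (by norm_num)).1, hk']
      · rw [(hfixk 3 (by norm_num) (by norm_num)).1, (hfixk 2 (by norm_num) (by norm_num)).1, hk',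
          (hfixk 0 (by norm_num) (by norm_num)).2]
      · rw [(hfixk 3 (by norm_num) (by norm_num)).1, hk', (hfixk 1 (by norm_num) (by norm_num)).2,
          (hfixk 0 (by norm_num) (by norm_num)).2]
      · rw [hk', (hfixk 2 (by norm_num) (by norm_num)).2, (hfixk 1 (by norm_num) (by norm_num)).2,
          (hfixk 0 (by norm_num) (by norm_num)).2]
    have hiff : τs l = I (2 * k + 1) ↔ l = I (2 * k) := by rw [← himg]; exact τs.injective.eq_iff
    simp only [Pi.sub_apply, Function.comp_apply, Pi.single_apply, hiff]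
  have rankle : ∀ (g : GL (Fin n) F) (τ : Equiv.Perm (Fin n)) (S : Submodule F (Fin n → F)) (d : ℕ),
      (∀ x, (g : Matrix (Fin n) (Fin n) F) *ᵥ x = x ∘ τ) → (∀ x, x ∘ τ - x ∈ S) → Module.finrank F S ≤ d →
      n ≤ Module.finrank F (LinearMap.ker (Matrix.toLin' (g : Matrix (Fin n) (Fin n) F) - LinearMap.id)) + d := by
    intro g τ S d hgv hS hd
    have h1 := LinearMap.finrank_range_add_finrank_ker (Matrix.toLin' (g : Matrix (Fin n) (Fin n) F) - LinearMap.id)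
    rw [Module.finrank_fin_fun] at h1
    have h2 : LinearMap.range (Matrix.toLin' (g : Matrix (Fin n) (Fin n) F) - LinearMap.id) ≤ S := by
      rintro _ ⟨x, rfl⟩
      rw [LinearMap.sub_apply, Matrix.toLin'_apply, LinearMap.id_apply, hgv]
      exact hS x
    have h3 := Submodule.finrank_mono h2
    omega
  have hs_range : ∀ x : Fin n → F, x ∘ τs - x ∈ Submodule.span F (Set.range fun k : Fin 4 => u k) := by
    intro x
    have e1 : x ∘ τs - x = ((x ∘ σ 3) ∘ σ 2 ∘ τt - (x ∘ σ 3) ∘ σ 2) + ((x ∘ σ 3) ∘ σ 2 - x ∘ σ 3) + (x ∘ σ 3 - x) := by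
      rw [hτs, ← hτt]
      have hcm : τt * σ 2 * σ 3 = σ 3 * (σ 2 * τt) := by
        have c1 : Commute (σ 3) (τt * σ 2) := by
          rw [hτt]
          exact ((hc 3 0 (by norm_num) (by norm_num)).mul_right (hc 3 1 (by norm_num) (by norm_num))).mul_right
            (hc 3 2 (by norm_num) (by norm_num))
        have c2 : Commute (σ 2) τt := by
          rw [hτt]; exact (hc 2 0 (by norm_num) (by norm_num)).mul_right (hc 2 1 (by norm_num) (by norm_num))
        rw [← c1.eq, c2.eq]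
      rw [hcm, Equiv.Perm.coe_mul, Equiv.Perm.coe_mul, ← Function.comp_assoc]
      abel
    have hone : ∀ (y : Fin n → F) (k : Fin 4), y ∘ σ k - y = (y (I (2 * k + 1)) - y (I (2 * k))) • u k := by
      intro y k
      funext l
      simp only [hu, Pi.sub_apply, Pi.smul_apply, smul_eq_mul, Function.comp_apply, happ, Pi.single_apply]
      by_cases e0 : l = I (2 * k)
      · subst e0; simp [hne (2 * k) (2 * k + 1) (by omega) (by omega) (by omega)]
      by_cases e1 : l = I (2 * k + 1)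
      · subst e1; simp [hne (2 * k + 1) (2 * k) (by omega) (by omega) (by omega)]
      simp [e0, e1]
    rw [e1, ← Function.comp_assoc, htrange]
    refine add_mem (add_mem (add_mem (Submodule.smul_mem _ _ ?_) (Submodule.smul_mem _ _ ?_)) ?_) ?_
    · exact Submodule.subset_span ⟨0, rfl⟩
    · exact Submodule.subset_span ⟨1, rfl⟩
    · rw [show ((x ∘ σ 3) ∘ σ 2 - x ∘ σ 3) = (x ∘ σ 3) ∘ σ ((2 : Fin 4) : ℕ) - x ∘ σ 3 from rfl, hone]
      exact Submodule.smul_mem _ _ (Submodule.subset_span ⟨2, rfl⟩)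
    · rw [show (x ∘ σ 3 - x) = x ∘ σ ((3 : Fin 4) : ℕ) - x from rfl, hone]
      exact Submodule.smul_mem _ _ (Submodule.subset_span ⟨3, rfl⟩)
  have hind : LinearIndependent F (fun k : Fin 4 => u k) := by
    rw [Fintype.linearIndependent_iff]
    intro g hg k
    have h9 := congrFun hg (I (2 * k))
    rw [Finset.sum_apply, Finset.sum_eq_single k] at h9
    · simpa [hu, hne (2 * k) (2 * k + 1) (by omega) (by omega) (by omega)] using h9
    · intro j _ hj
      have hj' : (j : ℕ) ≠ (k : ℕ) := fun h' => hj (Fin.ext h')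
      simp [hu, hne (2 * k) (2 * j) (by omega) (by omega) (by omega),
        hne (2 * k) (2 * j + 1) (by omega) (by omega) (by omega)]
    · simp
  obtain ⟨T2, hT2⟩ : ∃ T2, T2 = Submodule.span F (Set.range fun k : Fin 2 => u k) := ⟨_, rfl⟩
  have hT2r : ∀ x, x ∘ τt - x ∈ T2 := fun x => by
    rw [htrange, hT2]
    exact add_mem (Submodule.smul_mem _ _ (Submodule.subset_span ⟨0, rfl⟩))
      (Submodule.smul_mem _ _ (Submodule.subset_span ⟨1, rfl⟩))
  have hT2d : Module.finrank F T2 ≤ 2 := by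
    rw [hT2]; exact (finrank_range_le_card _).trans (le_of_eq (Fintype.card_fin 2))
  have notone : ∀ (g : GL (Fin n) F) (k : ℕ), k < 4 → (g : Matrix (Fin n) (Fin n) F) *ᵥ Pi.single (I (2 * k + 1)) 1 -
      Pi.single (I (2 * k + 1)) 1 = u k → g ≠ 1 := by
    intro g k hk h9 h1
    rw [h1, Units.val_one, Matrix.one_mulVec, sub_self, hu] at h9
    have := congrFun h9 (I (2 * k))
    simp [hne (2 * k) (2 * k + 1) (by omega) (by omega) (by omega)] at this
  refine ⟨t, s, htM, hsM, htR, hsR, htt, hst, ?_, notone s 0 (by norm_num) (hsbnd 0 (by norm_num)),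
    rankle t τt T2 2 htv hT2r hT2d,
    rankle s τs _ 4 hsv hs_range ((finrank_range_le_card _).trans (le_of_eq (Fintype.card_fin 4))), ?_⟩
  · refine notone t 0 (by norm_num) ?_
    rw [htv, htrange]
    simp [hne 1 0 (by omega) (by omega) (by omega), hne 3 1 (by omega) (by omega) (by omega),
      hne 2 1 (by omega) (by omega) (by omega), hne 0 1 (by omega) (by omega) (by omega)]
  · intro h heq
    have hmem : ∀ k : Fin 4, (h : Matrix (Fin n) (Fin n) F) *ᵥ u k ∈ T2 := by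
      intro k
      have h9 := hT2r ((h : Matrix (Fin n) (Fin n) F) *ᵥ Pi.single (I (2 * k + 1)) 1)
      rw [← htv, ← heq, Units.val_mul, Units.val_mul, ← Matrix.mulVec_mulVec, ← Matrix.mulVec_mulVec,
        FormMaxSL.inv_mulVec_mulVec, ← Matrix.mulVec_sub, hsbnd k k.2] at h9
      exact h9
    have hi : LinearIndependent F (fun k : Fin 4 => (⟨_, hmem k⟩ : T2)) := by
      refine LinearIndependent.of_comp T2.subtype ?_
      have h9 := hind.map' (Matrix.toLin' (h : Matrix (Fin n) (Fin n) F)) (LinearMap.ker_eq_bot.2 fun a b hab => by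
        have := congrArg (fun z => ((h⁻¹ : GL (Fin n) F) : Matrix (Fin n) (Fin n) F) *ᵥ z) hab
        simpa [Matrix.mulVec_mulVec, ← Units.val_mul] using this)
      simpa [Function.comp_def] using h9
    have := hi.fintype_card_le_finrank
    rw [Fintype.card_fin] at this
    omega

/-- The main step: an element outside the subfield group gives everything. -/
theorem su_le_of_not_rs (C : Ctx n q q0 r F₀ M) {g : GL (Fin n) F} (hg : g ∈ M) (hgR : ¬ RS F₀ g) :
    Cfsg.GU n F q ⊓ Cfsg.Geo.specialLinear (Fin n) F ≤ M := by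
  suffices h : ∃ μ ∉ F₀, Good q q0 F₀ M μ by
    obtain ⟨μ, hμ, hgood⟩ := h
    exact C.su_le hμ hgood
  by_contra hcon
  have hcon' : ∀ μ, Good q q0 F₀ M μ → μ ∈ F₀ := fun μ h => by
    by_contra h9; exact hcon ⟨μ, h9, h⟩
  have hn := C.hn
  obtain ⟨d, hd, hd0⟩ := SUGen.exists_tz C.hF0
  have nodep : ∀ h ∈ M, ∀ x y : Fin n → F₀, Cfsg.hermForm n F₀ q0 x x = 0 →
      Irr F₀ ((h : Matrix (Fin n) (Fin n) F) *ᵥ incn x) → y ≠ 0 → Cfsg.hermForm n F₀ q0 y y = 0 →
      Cfsg.hermForm n F q ((h : Matrix (Fin n) (Fin n) F) *ᵥ incn x) (incn y) = 0 → False := by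
    intro h hh x y hxx hirr hy hyy h0
    refine C.no_dep hcon' hd hd0 hirr (by rw [mem_GU.1 (C.hMU hh), (C.incn_form_zero hxx).1]) ?_ hy hyy h0
    rw [← conj_tu (C.hMU hh) (C.incn_form_zero hxx).1]
    exact M.mul_mem (M.mul_mem hh (C.tu_rat hxx hd)) (M.inv_mem hh)
  have hirr : ∀ h ∈ M, ¬ RS F₀ h → ∀ x : Fin n → F₀, x ≠ 0 → Cfsg.hermForm n F₀ q0 x x = 0 →
      Irr F₀ ((h : Matrix (Fin n) (Fin n) F) *ᵥ incn x) := by
    intro h hh hhR x hx hxx c hc hrv
    obtain ⟨v, hv, hvv, hvI⟩ : ∃ v : Fin n → F₀, v ≠ 0 ∧ Cfsg.hermForm n F₀ q0 v v = 0 ∧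
        Irr F₀ ((h : Matrix (Fin n) (Fin n) F) *ᵥ incn v) := by
      by_contra h9
      push Not at h9
      refine hhR (C.rs_of_iso_lines (C.hMU hh) fun v hv hvv => ?_)
      by_contra h8
      push Not at h8
      exact h9 v hv hvv h8
    obtain ⟨x1, hx1m, hx10, hx11⟩ := SUStab.exists_iso C.hF0
      (SUStab.perp C.hF0 (Submodule.span F₀ (Set.range ![x, v]))) (by
        have h1 := SUStab.finrank_perp C.hF0 (Submodule.span F₀ (Set.range ![x, v]))
        have h2 : Module.finrank F₀ (Submodule.span F₀ (Set.range ![x, v])) ≤ 2 :=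
          (finrank_range_le_card _).trans (le_of_eq (Fintype.card_fin 2))
        omega)
    have hx1x : Cfsg.hermForm n F₀ q0 x1 x = 0 :=
      (SUStab.mem_perp C.hF0).1 hx1m x (Submodule.subset_span ⟨0, rfl⟩)
    have hvx1 : Cfsg.hermForm n F₀ q0 v x1 = 0 :=
      SUStab.mem_perp' C.hF0 hx1m (Submodule.subset_span ⟨1, rfl⟩)
    obtain ⟨x0, hx0⟩ := exists_incn hrv
    by_cases hI1 : Irr F₀ ((h : Matrix (Fin n) (Fin n) F) *ᵥ incn x1)
    · refine nodep h hh x1 x0 hx11 hI1 (fun h0 => ?_) ?_ ?_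
      · rw [h0, incn_zero, eq_comm, smul_eq_zero, or_iff_right hc] at hx0
        have := congrArg (fun z => ((h⁻¹ : GL (Fin n) F) : Matrix (Fin n) (Fin n) F) *ᵥ z) hx0
        simp only [FormMaxSL.inv_mulVec_mulVec, Matrix.mulVec_zero] at this
        exact hx (incn_injective this)
      · refine Subtype.ext ?_
        rw [← C.form_incn, hx0, form_smul_left, form_smul_right, mem_GU.1 (C.hMU hh),
          (C.incn_form_zero hxx).1]
        simp
      · rw [hx0, form_smul_right, mem_GU.1 (C.hMU hh), (C.incn_form_zero hx1x).1, mul_zero]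
    · unfold Irr at hI1
      push Not at hI1
      obtain ⟨c1, hc1, hrv1⟩ := hI1
      obtain ⟨y, hy⟩ := exists_incn hrv1
      refine nodep h hh v y hvv hvI (fun h0 => ?_) ?_ ?_
      · rw [h0, incn_zero, eq_comm, smul_eq_zero, or_iff_right hc1] at hy
        have := congrArg (fun z => ((h⁻¹ : GL (Fin n) F) : Matrix (Fin n) (Fin n) F) *ᵥ z) hy
        simp only [FormMaxSL.inv_mulVec_mulVec, Matrix.mulVec_zero] at this
        exact hx10 (incn_injective this)
      · refine Subtype.ext ?_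
        rw [← C.form_incn, hy, form_smul_left, form_smul_right, mem_GU.1 (C.hMU hh),
          (C.incn_form_zero hx11).1]
        simp
      · rw [hy, form_smul_right, mem_GU.1 (C.hMU hh), (C.incn_form_zero hvx1).1, mul_zero]
  have hinv : ∀ z : GL (Fin n) F, z * z = 1 → RS F₀ z → RM F₀ (z : Matrix (Fin n) (Fin n) F) := by
    rintro z hz ⟨c, hc0, hc⟩
    have h1 : RM F₀ ((c * c) • (1 : Matrix (Fin n) (Fin n) F)) := by
      have h2 := SubfieldMax.rm_mul hc hc
      rwa [smul_mul_smul_comm, ← Units.val_mul, hz, Units.val_one] at h2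
    have h2 := h1 ⟨0, by omega⟩ ⟨0, by omega⟩
    simp at h2
    have hcF := SubfieldMax.mem_of_sq_mem C.hr C.hr2 C.hcard h2
    intro i j
    have h3 := F₀.mul_mem (F₀.inv_mem hcF) (hc i j)
    rwa [Matrix.smul_apply, smul_eq_mul, ← mul_assoc, inv_mul_cancel₀ hc0, one_mul] at h3
  have twine : ∀ h ∈ M, ¬ RS F₀ h → ∀ X Y : GL (Fin n) F, X ∈ M → RM F₀ (X : Matrix (Fin n) (Fin n) F) →
      RM F₀ (Y : Matrix (Fin n) (Fin n) F) → X * X = 1 → X ≠ 1 →
      2 ≤ Module.finrank F (LinearMap.ker (Matrix.toLin' (Y : Matrix (Fin n) (Fin n) F) - LinearMap.id)) →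
      X * h = h * Y → False := by
    intro h hh hhR X Y hXM hXR hYR hX2 hX1 hYf heq
    obtain ⟨y, v, hy, hyy, hyv⟩ := C.exists_minus hXM hXR hX2 hX1
    obtain ⟨x, hx, hxx, hxY⟩ := C.exists_plus hYR hYf
    refine nodep h hh x y hxx (hirr h hh hhR x hx hxx) hy hyy ?_
    have hfx : (X : Matrix (Fin n) (Fin n) F) *ᵥ ((h : Matrix (Fin n) (Fin n) F) *ᵥ incn x) =
        (h : Matrix (Fin n) (Fin n) F) *ᵥ incn x := by
      rw [Matrix.mulVec_mulVec, ← Units.val_mul, heq, Units.val_mul, ← Matrix.mulVec_mulVec, hxY]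
    rw [hyv, form_sub_right C.hF]
    conv_lhs => rw [← hfx, mem_GU.1 (C.hMU hXM), hfx]
    rw [sub_self]
  obtain ⟨t, s, htM, hsM, htr, hsr, ht2, hs2, ht1, hs1, htf, hsf, hne⟩ := C.exists_invols
  obtain ⟨t', ht'⟩ : ∃ t', t' = g * s * g⁻¹ := ⟨_, rfl⟩
  have ht'2 : t' * t' = 1 := by
    rw [ht']
    calc g * s * g⁻¹ * (g * s * g⁻¹) = g * (s * s) * g⁻¹ := by group
      _ = 1 := by rw [hs2, mul_one, mul_inv_cancel]
  have ht'M : t' ∈ M := ht' ▸ M.mul_mem (M.mul_mem hg hsM) (M.inv_mem hg)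
  have ht'R : ¬ RS F₀ t' := by
    intro hR
    refine twine g hg hgR t' s ht'M (hinv t' ht'2 hR) hsr ht'2 (fun h => hs1 ?_) (by omega)
      (by rw [ht', inv_mul_cancel_right])
    rw [ht', mul_inv_eq_one, mul_eq_left] at h
    exact h
  obtain ⟨R, hR⟩ : ∃ R, R = t * t' := ⟨_, rfl⟩
  have hti : t⁻¹ = t := inv_eq_of_mul_eq_one_right ht2
  have ht'i : t'⁻¹ = t' := inv_eq_of_mul_eq_one_right ht'2
  have hRinv : R⁻¹ = t' * t := by rw [hR, _root_.mul_inv_rev, hti, ht'i]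
  have hflipt : ∀ k : ℕ, t * R ^ k = (R ^ k)⁻¹ * t := by
    intro k
    induction k with
    | zero => simp
    | succ k ih =>
      have e : t * R = R⁻¹ * t := by
        rw [hRinv, mul_assoc, ht2, mul_one, hR, ← mul_assoc, ht2, one_mul]
      have e2 : (R ^ (k + 1))⁻¹ = (R ^ k)⁻¹ * R⁻¹ := by rw [pow_succ', _root_.mul_inv_rev]
      rw [pow_succ, ← mul_assoc, ih, mul_assoc, e, ← mul_assoc, ← e2, pow_succ]
  have ht'eq : t' = t * R := by rw [hR, ← mul_assoc, ht2, one_mul]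
  have hconj : ∀ j : ℕ, R ^ j * t' * (R ^ j)⁻¹ = R ^ (2 * j) * t' := by
    intro j
    have e : t' * (R ^ j)⁻¹ = R ^ j * t' := by
      have e1 : t * (R ^ j)⁻¹ = R ^ j * t := by
        rw [mul_inv_eq_iff_eq_mul, mul_assoc, hflipt, ← mul_assoc, mul_inv_cancel, one_mul]
      have e2 : R * (R ^ j)⁻¹ = (R ^ j)⁻¹ * R := ((Commute.self_pow R j).inv_right).eq
      rw [ht'eq, mul_assoc, e2, ← mul_assoc, e1, mul_assoc]
    rw [mul_assoc, e, ← mul_assoc, ← pow_add, two_mul]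
  haveI : Finite (GL (Fin n) F) := inferInstance
  have hord := pow_orderOf_eq_one R
  have hmpos : 0 < orderOf R := orderOf_pos R
  have htR : R * t' = t := by rw [hR, mul_assoc, ht'2, mul_one]
  rcases Nat.even_or_odd (orderOf R) with ⟨k, hk⟩ | ⟨k, hk⟩
  swap
  · refine hne (R ^ (k + 1) * g) ?_
    rw [show R ^ (k + 1) * g * s * (R ^ (k + 1) * g)⁻¹ = R ^ (k + 1) * t' * (R ^ (k + 1))⁻¹ by
      rw [ht']; group, hconj, show 2 * (k + 1) = orderOf R + 1 by omega, pow_succ, hord, one_mul, htR]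
  -- a central involution
  rw [← two_mul] at hk
  obtain ⟨z, hz⟩ : ∃ z, z = R ^ k := ⟨_, rfl⟩
  have hz1 : z ≠ 1 := hz ▸ pow_ne_one_of_lt_orderOf (by omega) (by omega)
  have hz2 : z * z = 1 := by rw [hz, ← pow_add, ← two_mul, ← hk, hord]
  have hzi : z⁻¹ = z := inv_eq_of_mul_eq_one_right hz2
  have hzt : t * z = z * t := by rw [hz, hflipt, ← hz, hzi]
  have hzt' : z * t' = t' * z := by
    rw [ht'eq, mul_assoc t, ← mul_assoc z, ← hzt, mul_assoc, hz, ← pow_succ, ← pow_succ']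
  have hzM : z ∈ M := hz ▸ M.pow_mem (hR ▸ M.mul_mem htM ht'M) k
  have hzR : RM F₀ (z : Matrix (Fin n) (Fin n) F) := by
    refine hinv z hz2 ?_
    by_contra h
    exact twine z hzM h t t htM htr htr ht2 ht1 (by omega) hzt
  obtain ⟨h, u, hu, hconju⟩ : ∃ h u : GL (Fin n) F,
      n ≤ Module.finrank F (LinearMap.ker (Matrix.toLin' (u : Matrix (Fin n) (Fin n) F) - LinearMap.id)) + 4 ∧
      h * u * h⁻¹ = z * t := by
    rcases Nat.even_or_odd k with ⟨l, hl⟩ | ⟨l, hl⟩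
    · rw [← two_mul] at hl
      refine ⟨R ^ l, t, by omega, ?_⟩
      rw [mul_assoc, hz, hl, two_mul, pow_add, mul_assoc]
      congr 1
      rw [mul_inv_eq_iff_eq_mul, mul_assoc, hflipt, ← mul_assoc, mul_inv_cancel, one_mul]
    · refine ⟨R ^ (l + 1) * g, s, hsf, ?_⟩
      rw [show R ^ (l + 1) * g * s * (R ^ (l + 1) * g)⁻¹ = R ^ (l + 1) * t' * (R ^ (l + 1))⁻¹ by
        rw [ht']; group, hconj, show 2 * (l + 1) = k + 1 by omega, pow_succ, mul_assoc, htR, hz]
  -- the fixed space of the central involution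
  have hzf : 2 ≤ Module.finrank F (LinearMap.ker (Matrix.toLin' (z : Matrix (Fin n) (Fin n) F) - LinearMap.id)) := by
    obtain ⟨H, hH⟩ : ∃ H, H = Matrix.toLin' (h : Matrix (Fin n) (Fin n) F) := ⟨_, rfl⟩
    have hHinj : Function.Injective H := fun a b hab => by
      rw [hH] at hab
      have := congrArg (fun w => ((h⁻¹ : GL (Fin n) F) : Matrix (Fin n) (Fin n) F) *ᵥ w) hab
      simpa [Matrix.mulVec_mulVec, ← Units.val_mul] using this
    obtain ⟨K1, hK1⟩ : ∃ K1, K1 = (LinearMap.ker (Matrix.toLin' (u : Matrix (Fin n) (Fin n) F) - LinearMap.id)).map H := ⟨_, rfl⟩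
    obtain ⟨K2, hK2⟩ : ∃ K2, K2 = LinearMap.ker (Matrix.toLin' (t : Matrix (Fin n) (Fin n) F) - LinearMap.id) := ⟨_, rfl⟩
    have hd1 : Module.finrank F K1 = Module.finrank F (LinearMap.ker (Matrix.toLin' (u : Matrix (Fin n) (Fin n) F) - LinearMap.id)) := by
      rw [hK1]; exact (Submodule.equivMapOfInjective H hHinj _).finrank_eq.symm
    have hsum := Submodule.finrank_sup_add_finrank_inf_eq K1 K2
    have hle := (K1 ⊔ K2).finrank_le
    rw [Module.finrank_fin_fun] at hle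
    have hle2 : K1 ⊓ K2 ≤ LinearMap.ker (Matrix.toLin' (z : Matrix (Fin n) (Fin n) F) - LinearMap.id) := by
      rintro x ⟨hx1, hx2⟩
      rw [SetLike.mem_coe, hK1] at hx1
      obtain ⟨w, hw, rfl⟩ := hx1
      rw [SetLike.mem_coe, LinearMap.mem_ker, LinearMap.sub_apply, Matrix.toLin'_apply, LinearMap.id_apply,
        sub_eq_zero] at hw
      rw [SetLike.mem_coe, hK2, LinearMap.mem_ker, LinearMap.sub_apply, Matrix.toLin'_apply, LinearMap.id_apply,
        sub_eq_zero] at hx2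
      rw [LinearMap.mem_ker, LinearMap.sub_apply, Matrix.toLin'_apply, LinearMap.id_apply, sub_eq_zero]
      conv_lhs => rw [← hx2, Matrix.mulVec_mulVec, ← Units.val_mul, ← hconju, hH, Matrix.toLin'_apply,
        Units.val_mul, Units.val_mul, ← Matrix.mulVec_mulVec, ← Matrix.mulVec_mulVec,
        FormMaxSL.inv_mulVec_mulVec, hw]
      rw [hH, Matrix.toLin'_apply]
    have := Submodule.finrank_mono hle2
    rw [← hK2] at htf
    omega
  exact twine t' ht'M ht'R z z hzM hzR hzR hz2 hz1 hzf hzt'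

end Ctx

theorem card_split {c q r : ℕ} {p : ℕ} (hp : p.Prime) {a e : ℕ} (hc : c = p ^ a) (hq : q = p ^ e) (hro : Odd r)
    (h : c ^ r = q ^ 2) : ∃ q0, c = q0 ^ 2 ∧ q = q0 ^ r := by
  rw [hc, hq, ← pow_mul, ← pow_mul] at h
  have h1 : a * r = e * 2 := Nat.pow_right_injective hp.two_le h
  obtain ⟨b, hb⟩ : 2 ∣ a := by
    rcases (Nat.prime_two.dvd_mul).1 ⟨e, by rw [h1, mul_comm]⟩ with h2 | h2
    · exact h2
    · exact absurd h2 (by rw [← even_iff_two_dvd, Nat.not_even_iff_odd]; exact hro)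
  refine ⟨p ^ b, by rw [hc, hb, ← pow_mul, mul_comm], ?_⟩
  rw [hq, ← pow_mul]
  congr 1
  subst hb
  linarith

theorem maximal {F : Type*} [Field F] [Fintype F] (n q : ℕ) (hF : Fintype.card F = q ^ 2) (hn : 13 ≤ n)
    (F₀ : Subfield F) (r : ℕ) (hr : r.Prime) (hro : Odd r) (hcard : Fintype.card F = Nat.card F₀ ^ r)
    (P : GL (Fin n) F) (hP : Cfsg.Geo.IsFormRationalStructure (Cfsg.hermForm n F q) F₀ 1 P) :
    Cfsg.Geo.IsMaximalIn (Cfsg.GU n F q ⊓ Cfsg.Geo.specialLinear (Fin n) F)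
      (Cfsg.Geo.subfieldSubgroup F₀ P ⊓ (Cfsg.GU n F q ⊓ Cfsg.Geo.specialLinear (Fin n) F)) := by
  classical
  letI : Fintype F₀ := Fintype.ofFinite _
  have hr2 : 2 < r := by
    rcases hr.two_le.eq_or_lt with h | h
    · rw [← h] at hro; exact absurd hro (by decide)
    · exact h
  -- the small field
  obtain ⟨p, e2, hp, he2, hpk⟩ : ∃ p e : ℕ, p.Prime ∧ 0 < e ∧ Fintype.card F = p ^ e := by
    obtain ⟨k, hp, hk⟩ := FiniteField.card F (ringChar F)
    exact ⟨_, k, hp, k.2, hk⟩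
  obtain ⟨e, -, he⟩ := (Nat.dvd_prime_pow hp).1 (show q ∣ p ^ e2 from hpk ▸ hF ▸ dvd_pow_self q two_ne_zero)
  obtain ⟨a, -, ha⟩ := (Nat.dvd_prime_pow hp).1
    (show Nat.card F₀ ∣ p ^ e2 from hpk ▸ hcard ▸ dvd_pow_self _ hr.ne_zero)
  obtain ⟨q0, hq0, hqq0⟩ := card_split hp ha he hro (hcard.symm.trans hF)
  have hF0 : Fintype.card F₀ = q0 ^ 2 := by rw [← Nat.card_eq_fintype_card, hq0]
  have real : ∀ x : F₀, (x : F) ^ q = ((x ^ q0 : F₀) : F) := by
    intro x
    have key : ∀ l : ℕ, x ^ (q0 ^ (2 * l + 1)) = x ^ q0 := by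
      intro l
      induction l with
      | zero => simp
      | succ l ih =>
        rw [show 2 * (l + 1) + 1 = 2 + (2 * l + 1) by ring, pow_add, pow_mul, ← hF0, FiniteField.pow_card, ih]
    obtain ⟨l, hl⟩ := hro
    rw [← key l, ← hl, ← hqq0]
    rfl
  -- an orthonormal rational basis
  obtain ⟨rr', hrr⟩ : ∃ rr' : (Fin n → F₀) → Fin n → F, rr' = fun u => (P : Matrix (Fin n) (Fin n) F) *ᵥ incn u := ⟨_, rfl⟩
  have hval : ∀ u v, Cfsg.hermForm n F q (rr' u) (rr' v) ∈ F₀ := fun u v => by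
    have := hP _ _ (rv_incn u) (rv_incn v); rw [one_mul] at this; rw [hrr]; exact this
  have hadd : ∀ u v, rr' (u + v) = rr' u + rr' v := fun u v => by simp only [hrr, incn_add, Matrix.mulVec_add]
  have hsmul : ∀ (c : F₀) u, rr' (c • u) = (c : F) • rr' u := fun c u => by
    simp only [hrr, incn_smul, Matrix.mulVec_smul]
  obtain ⟨B, hB⟩ : ∃ B : (Fin n → F₀) →ₛₗ[Herm.conj hF0] (Fin n → F₀) →ₗ[F₀] F₀,
      ∀ u v, ((B u v : F₀) : F) = Cfsg.hermForm n F q (rr' v) (rr' u) :=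
    ⟨LinearMap.mk₂'ₛₗ (Herm.conj hF0) (RingHom.id F₀) (fun u v => ⟨_, hval v u⟩)
      (fun a b v => Subtype.ext (by simp [hadd, form_add_right hF]))
      (fun c u v => Subtype.ext (by simp [hsmul, form_smul_right, real]))
      (fun u a b => Subtype.ext (by simp [hadd, form_add_left]))
      (fun c u v => Subtype.ext (by simp [hsmul, form_smul_left])), fun u v => rfl⟩
  have hS : ∀ u v, Herm.conj hF0 (B u v) = B v u := fun u v => Subtype.ext (by
    rw [Herm.conj_apply, ← real, hB, hB, form_comm hF])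
  have hBnd : B.SeparatingLeft := by
    intro u hu
    have h1 : ∀ z, Cfsg.hermForm n F q ((P : Matrix (Fin n) (Fin n) F) *ᵥ z) (rr' u) = 0 := by
      intro z
      rw [pi_eq_sum_univ' z, Matrix.mulVec_sum, ← Herm.hb_apply hF, map_sum]
      refine Finset.sum_eq_zero fun i _ => ?_
      rw [Matrix.mulVec_smul, map_smul, smul_eq_mul, Herm.hb_apply, ← incn_single (F₀ := F₀) i]
      have h9 := congrArg Subtype.val (hu (Pi.single i 1))
      rw [hB] at h9
      have e : (P : Matrix (Fin n) (Fin n) F) *ᵥ incn (Pi.single i (1 : F₀)) = rr' (Pi.single i 1) := by rw [hrr]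
      rw [e, h9]
      simp
    have h2 : rr' u = 0 := SUFull.eq_zero_of_orth hF fun z => by
      have := h1 (((P⁻¹ : GL (Fin n) F) : Matrix (Fin n) (Fin n) F) *ᵥ z)
      rwa [FormMaxSL.mulVec_inv_mulVec] at this
    have h3 := congrArg (fun z => ((P⁻¹ : GL (Fin n) F) : Matrix (Fin n) (Fin n) F) *ᵥ z) h2
    simp only [hrr, FormMaxSL.inv_mulVec_mulVec, Matrix.mulVec_zero] at h3
    exact incn_injective h3
  have hσ : ∃ x, Herm.conj hF0 x ≠ x := by
    by_contra h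
    push Not at h
    exact Herm.conj_ne_id hF0 (RingHom.ext h)
  obtain ⟨b, hb⟩ := OrthBasis.exists_orthonormal B hS hBnd (OrthBasis.hpol_herm B hσ hS)
    (OrthBasis.exists_norm _ (Herm.conj_ne_id hF0) (Herm.conj_conj hF0)) n (by rw [Module.finrank_fin_fun])
  have hbind : LinearIndependent F₀ b := OrthBasis.indep B (fun i j hij => by rw [hb, if_neg hij])
    (fun i => by rw [hb, if_pos rfl]; exact one_ne_zero)
  have hbn : IsUnit (Matrix.transpose (Matrix.of b)) := by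
    rw [← Matrix.linearIndependent_cols_iff_isUnit]
    exact hbind
  obtain ⟨Q, hQ⟩ : ∃ Q, Q = P * Matrix.GeneralLinearGroup.map (F₀.subtype : F₀ →+* F) hbn.unit := ⟨_, rfl⟩
  have hQcol : ∀ i, (Q : Matrix (Fin n) (Fin n) F) *ᵥ Pi.single i 1 = rr' (b i) := by
    intro i
    rw [hQ, Units.val_mul, ← Matrix.mulVec_mulVec, hrr]
    show (P : Matrix (Fin n) (Fin n) F) *ᵥ _ = (P : Matrix (Fin n) (Fin n) F) *ᵥ incn (b i)
    congr 1
    funext l
    rw [Matrix.mulVec_single_one]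
    show ((hbn.unit : Matrix (Fin n) (Fin n) F₀) l i : F) = (b i l : F)
    rw [IsUnit.unit_spec]
    rfl
  have hQU : Q ∈ Cfsg.GU n F q := by
    rw [mem_GU]
    intro x y
    have := Herm.conj_surjective hF
    obtain ⟨L, hL⟩ : ∃ L, L = Matrix.toLin' (Q : Matrix (Fin n) (Fin n) F) := ⟨_, rfl⟩
    have key : ((Herm.hb n hF).comp L).compl₂ L = Herm.hb n hF := by
      refine LinearMap.ext_basis (Pi.basisFun F _) (Pi.basisFun F _) fun i j => ?_
      simp only [LinearMap.compl₂_apply, LinearMap.coe_comp, Function.comp_apply, Pi.basisFun_apply,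
        Herm.hb_apply, hL, Matrix.toLin'_apply, hQcol]
      rw [← hB, hb, form_single hF, Pi.single_apply]
      split <;> simp_all
    have h1 := LinearMap.congr_fun (LinearMap.congr_fun key y) x
    simpa [Herm.hb_apply, hL] using h1
  have hconj : ∀ h ∈ Cfsg.GU n F q, ∀ g ∈ Cfsg.GU n F q ⊓ Cfsg.Geo.specialLinear (Fin n) F,
      h * g * h⁻¹ ∈ Cfsg.GU n F q ⊓ Cfsg.Geo.specialLinear (Fin n) F := by
    intro h hh g hg
    refine ⟨Subgroup.mul_mem _ (Subgroup.mul_mem _ hh hg.1) (Subgroup.inv_mem _ hh), ?_⟩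
    have h9 : g ∈ Cfsg.Geo.specialLinear (Fin n) F := hg.2
    show h * g * h⁻¹ ∈ Cfsg.Geo.specialLinear (Fin n) F
    rw [Cfsg.Geo.specialLinear, MonoidHom.mem_ker] at h9 ⊢
    rw [map_mul, map_mul, h9, mul_one, map_inv, mul_inv_cancel]
  obtain ⟨B1, hB1⟩ : ∃ B1, B1 = Matrix.GeneralLinearGroup.map (F₀.subtype : F₀ →+* F) hbn.unit := ⟨_, rfl⟩
  rw [← hB1] at hQ
  have hB1m : B1 ∈ (Matrix.GeneralLinearGroup.map (F₀.subtype : F₀ →+* F)).range ⊔ Cfsg.Geo.scalars (Fin n) F :=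
    hB1 ▸ Subgroup.mem_sup_left ⟨_, rfl⟩
  have hmem : ∀ g ∈ Cfsg.GU n F q ⊓ Cfsg.Geo.specialLinear (Fin n) F,
      Q * g * Q⁻¹ ∈ Cfsg.Geo.subfieldSubgroup F₀ P ↔ RS F₀ g := by
    intro g _
    rw [← SubfieldMax.mem_sup_iff F₀, Cfsg.Geo.subfieldSubgroup, Subgroup.mem_map]
    constructor
    · rintro ⟨g', hg', he9⟩
      simp only [MulEquiv.toMonoidHom_eq_coe, MonoidHom.coe_coe, MulAut.conj_apply] at he9
      have e9 : g = B1⁻¹ * g' * B1 := by
        calc g = Q⁻¹ * (Q * g * Q⁻¹) * Q := by group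
          _ = _ := by rw [← he9, hQ]; group
      rw [e9]
      exact Subgroup.mul_mem _ (Subgroup.mul_mem _ (Subgroup.inv_mem _ hB1m) hg') hB1m
    · intro hg
      refine ⟨B1 * g * B1⁻¹, Subgroup.mul_mem _ (Subgroup.mul_mem _ hB1m hg) (Subgroup.inv_mem _ hB1m), ?_⟩
      simp only [MulEquiv.toMonoidHom_eq_coe, MonoidHom.coe_coe, MulAut.conj_apply]
      rw [hQ]; group
  refine ⟨lt_of_le_of_ne inf_le_right fun heq => ?_, fun M hHM hMS => ?_⟩
  · -- a transvection with an irrational entry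
    obtain ⟨c, hc, hcn⟩ : ∃ c : F, Tz q c ∧ c ∉ F₀ := by
      obtain ⟨d, hd, hd0⟩ := SUGen.exists_tz hF0
      have hd' : Tz q (d : F) := by
        unfold SUGen.Tz at hd ⊢
        rw [real, ← AddMemClass.coe_add, hd]; rfl
      obtain ⟨x, hx⟩ : ∃ x : F, x + x ^ q ∉ F₀ := by
        by_contra h
        push Not at h
        -- every fixed element would lie in the subfield
        have hfix : ∀ x : F, x ^ q = x → x ∈ F₀ := fun x hx => by
          obtain ⟨μ, hμ⟩ := Witt.exists_trace (Herm.conj hF) (Herm.conj_ne_id hF) (Herm.conj_conj hF) x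
            (by rw [Herm.conj_apply]; exact hx)
          rw [Herm.conj_apply] at hμ
          exact hμ ▸ h μ
        have hall : ∀ x : F, x ∈ F₀ := fun x => by
          obtain ⟨θ, hθ⟩ := SUFull.exists_not_fixed hF0
          have hθ' : (θ : F) - (θ : F) ^ q ≠ 0 := by
            rw [real, ← AddSubgroupClass.coe_sub]; exact fun h9 => hθ (Subtype.ext h9)
          obtain ⟨y, hy⟩ : ∃ y, y = (x - x ^ q) / ((θ : F) - (θ : F) ^ q) := ⟨_, rfl⟩
          have hyf : y ^ q = y := by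
            rw [hy, div_pow, eq_neg_of_add_eq_zero_left (SUFull.tz_sub_conj hF x),
              eq_neg_of_add_eq_zero_left (SUFull.tz_sub_conj hF (θ : F)), neg_div_neg_eq]
          have hxy : (x - y * (θ : F)) ^ q = x - y * (θ : F) := by
            rw [← Herm.conj_apply hF, map_sub, map_mul]
            simp only [Herm.conj_apply, hyf]
            have : y * ((θ : F) - (θ : F) ^ q) = x - x ^ q := by rw [hy, div_mul_cancel₀ _ hθ']
            linear_combination this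
          have h9 := F₀.add_mem (hfix _ hxy) (F₀.mul_mem (hfix _ hyf) θ.2)
          rwa [sub_add_cancel] at h9
        have h2 := hr.two_le
        have hq1 : 2 ≤ Nat.card F₀ := Finite.one_lt_card
        have hcd : Nat.card F₀ = Fintype.card F :=
          (Nat.card_congr (Equiv.subtypeUnivEquiv hall)).trans Nat.card_eq_fintype_card
        rw [← hcd] at hcard
        have h3 := Nat.pow_right_injective hq1 ((pow_one _).trans hcard)
        omega
      refine ⟨(d : F) * (x + x ^ q), ?_, fun h => hx ?_⟩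
      · unfold SUGen.Tz at hd' ⊢
        rw [mul_pow, Herm.add_pow_q hF, Herm.pow_pow_q hF]
        linear_combination (x + x ^ q) * hd'
      · have hd0' : (d : F) ≠ 0 := fun h9 => hd0 (Subtype.ext h9)
        have h9 := F₀.mul_mem (F₀.inv_mem d.2) h
        rwa [← mul_assoc, inv_mul_cancel₀ hd0', one_mul] at h9
    obtain ⟨α, hα⟩ := SUStab.exists_norm' hF0 (-1 : F₀) (by rw [← Herm.conj_apply hF0, map_neg, map_one])
    obtain ⟨u, hu⟩ : ∃ u : Fin n → F₀, u = Pi.single (⟨0, by omega⟩ : Fin n) 1 + α • Pi.single (⟨1, by omega⟩ : Fin n) 1 := ⟨_, rfl⟩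
    have huu : Cfsg.hermForm n F q (incn u) (incn u) = 0 := by
      have hα' : (α : F) * (α : F) ^ q = -1 := by rw [real, ← MulMemClass.coe_mul, hα]; rfl
      rw [hu, incn_add, incn_smul, incn_single, incn_single]
      simp [form_add_left, form_add_right hF, form_smul_left, form_smul_right, form_single hF]
      linear_combination hα'
    have hmemt := SUGen.T_le hF (tu_mem_T huu hc)
    obtain ⟨⟨c0, hc0, hcR⟩, -⟩ : RS F₀ (tu q (incn u) c) ∧ True :=
      ⟨(hmem _ hmemt).1 (heq.ge (hconj Q hQU _ hmemt)).1, trivial⟩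
    have ent : ∀ i j : Fin n, ((tu q (incn u) c : GL (Fin n) F) : Matrix (Fin n) (Fin n) F) i j =
        (Pi.single j (1 : F) : Fin n → F) i + c * Cfsg.hermForm n F q (Pi.single j 1) (incn u) * incn u i := by
      intro i j
      have h9 := congrFun (tu_mulVec huu c (Pi.single j 1)) i
      rw [Matrix.mulVec_single_one] at h9
      simpa using h9
    have hf : ∀ j, Cfsg.hermForm n F q (Pi.single j 1) (incn u) = incn u j ^ q := fun j => by
      rw [← form_comm hF, form_single hF]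
    have h22 := hcR ⟨2, by omega⟩ ⟨2, by omega⟩
    have h10 := hcR ⟨0, by omega⟩ ⟨0, by omega⟩
    rw [Matrix.smul_apply, ent, hf, smul_eq_mul] at h22 h10
    simp [hu, incn, Pi.single_apply] at h22 h10
    apply hcn
    have h9 := F₀.sub_mem (F₀.mul_mem (F₀.inv_mem h22) h10) F₀.one_mem
    rwa [mul_add, mul_one, mul_add, inv_mul_cancel₀ hc0, ← mul_assoc, inv_mul_cancel₀ hc0, one_mul,
      add_sub_cancel_left] at h9
  by_cases hMH : M ≤ Cfsg.Geo.subfieldSubgroup F₀ P ⊓ (Cfsg.GU n F q ⊓ Cfsg.Geo.specialLinear (Fin n) F)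
  · exact Or.inl (le_antisymm hMH hHM)
  right
  refine le_antisymm hMS ?_
  obtain ⟨g, hgM, hgH⟩ := SetLike.not_le_iff_exists.1 hMH
  have hQi : Q⁻¹ ∈ Cfsg.GU n F q := inv_mem hQU
  obtain ⟨g', hg'⟩ : ∃ g', g' = Q⁻¹ * g * Q := ⟨_, rfl⟩
  have hg'' : Q * g' * Q⁻¹ = g := by rw [hg']; group
  have hg'S : g' ∈ Cfsg.GU n F q ⊓ Cfsg.Geo.specialLinear (Fin n) F := by
    have := hconj Q⁻¹ hQi g (hMS hgM)
    rwa [inv_inv, ← hg'] at this
  have hgR : ¬ RS F₀ g' := fun h => hgH ⟨hg'' ▸ (hmem g' hg'S).2 h, hMS hgM⟩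
  have C : Ctx n q q0 r F₀ (M.comap (MulAut.conj Q).toMonoidHom) :=
    { hF := hF, hF0 := hF0, real := real, hr := hr, hr2 := hr2,
      hcard := by rw [Nat.card_eq_fintype_card]; exact hcard
      hn := hn
      hM := fun x hx hxR => hHM ⟨(hmem x hx).2 ⟨1, one_ne_zero, by rwa [one_smul]⟩, hconj Q hQU x hx⟩
      hMS := fun x hx => by
        have := hconj Q⁻¹ hQi _ (hMS (Subgroup.mem_comap.1 hx))
        simpa [mul_assoc] using this }
  have h := C.su_le_of_not_rs (g := g') (show Q * g' * Q⁻¹ ∈ M by rw [hg'']; exact hgM) hgR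
  intro x hx
  have h1 := h (by have := hconj Q⁻¹ hQi x hx; rwa [inv_inv] at this : Q⁻¹ * x * Q ∈ _)
  rw [Subgroup.mem_comap] at h1
  simpa [mul_assoc] using h1

end CfsgLib.Lie.SubfieldSUOdd
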