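import Cfsg.Agent.Lie.SubfieldSp
import Cfsg.Agent.Lie.OrthBasis

/-!
The subfield subgroups of prime degree of the symplectic group, second part: a new scalar from
a dependency.
-/

set_option autoImplicit false
set_option linter.unusedSimpArgs false
set_option linter.unusedSectionVars false

namespace CfsgLib.Lie.SubfieldSp

open Matrix
open CfsgLib.Lie.OrthMaxSp (tvGL tvGL_mulVec tvGL_mem tvGL_smul tvGL_mul tvGL_zero conj_tvGL mem_spGL)

variable {m : ℕ} {F : Type*} [Field F] {F₀ : Subfield F}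

theorem rm_mulVec_inc {X : Matrix (Fin m ⊕ Fin m) (Fin m ⊕ Fin m) F} (hX : RM F₀ X) (v : Sp.V m F₀) :
    ∃ w : Sp.V m F₀, X *ᵥ inc v = inc w := by
  refine ⟨(show Matrix (Fin m ⊕ Fin m) (Fin m ⊕ Fin m) F₀ from fun i j => ⟨X i j, hX i j⟩) *ᵥ v, ?_⟩
  funext i
  show ∑ j, X i j * (v j : F) = ((∑ j, (⟨X i j, hX i j⟩ : F₀) * v j : F₀) : F)
  push_cast
  rfl

theorem rm_one : RM F₀ (1 : Matrix (Fin m ⊕ Fin m) (Fin m ⊕ Fin m) F) := fun i j => by
  rw [Matrix.one_apply]; split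
  · exact F₀.one_mem
  · exact F₀.zero_mem

theorem rm_mul {X Y : Matrix (Fin m ⊕ Fin m) (Fin m ⊕ Fin m) F} (hX : RM F₀ X) (hY : RM F₀ Y) :
    RM F₀ (X * Y) := fun i j => by
  show ∑ k, X i k * Y k j ∈ F₀
  exact F₀.sum_mem fun k _ => F₀.mul_mem (hX i k) (hY k j)

theorem rm_add {X Y : Matrix (Fin m ⊕ Fin m) (Fin m ⊕ Fin m) F} (hX : RM F₀ X) (hY : RM F₀ Y) :
    RM F₀ (X + Y) := fun i j => F₀.add_mem (hX i j) (hY i j)

theorem rm_sub {X Y : Matrix (Fin m ⊕ Fin m) (Fin m ⊕ Fin m) F} (hX : RM F₀ X) (hY : RM F₀ Y) :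
    RM F₀ (X - Y) := fun i j => F₀.sub_mem (hX i j) (hY i j)

/-- a matrix mapping rational vectors to rational vectors -/
theorem rm_of_inc {X : Matrix (Fin m ⊕ Fin m) (Fin m ⊕ Fin m) F}
    (h : ∀ v : Sp.V m F₀, ∃ w : Sp.V m F₀, X *ᵥ inc v = inc w) : RM F₀ X := by
  intro i j
  obtain ⟨w, hw⟩ := h (Pi.single j 1)
  rw [inc_single, Matrix.mulVec_single_one] at hw
  have := congrFun hw i
  simp only [Matrix.col_apply] at this
  rw [this]; exact (w i).2

theorem rm_tv (u : Sp.V m F₀) {s : F} (hs : s ∈ F₀) :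
    RM F₀ ((tvGL (inc u) s : GL (Fin m ⊕ Fin m) F) : Matrix (Fin m ⊕ Fin m) (Fin m ⊕ Fin m) F) :=
  rm_of_inc fun v => ⟨v + (⟨s, hs⟩ * Sp.bf m F₀ v u) • u, by
    rw [tvGL_mulVec, bf_inc, inc_add, inc_smul]
    push_cast
    rfl⟩

theorem rm_rs {g : GL (Fin m ⊕ Fin m) F} (h : RM F₀ (g : Matrix (Fin m ⊕ Fin m) (Fin m ⊕ Fin m) F)) :
    RS F₀ g := ⟨1, one_ne_zero, by rwa [one_smul]⟩

/-- The short root element. -/
theorem short_mulVec (p y : Sp.V m F) (s : F) (hpy : Sp.bf m F p y = 0) (x : Sp.V m F) :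
    ((tvGL (p + y) s * tvGL p (-s) * tvGL y (-s) : GL (Fin m ⊕ Fin m) F) :
      Matrix (Fin m ⊕ Fin m) (Fin m ⊕ Fin m) F) *ᵥ x =
      x + (s * Sp.bf m F x p) • y + (s * Sp.bf m F x y) • p := by
  have hyp : Sp.bf m F y p = 0 := by rw [Sp.bf_swap, hpy, neg_zero]
  simp only [Units.val_mul, ← Matrix.mulVec_mulVec, tvGL_mulVec]
  simp only [map_add, map_smul, LinearMap.add_apply, LinearMap.smul_apply, smul_eq_mul, hpy, hyp,
    Sp.bf_self]
  module

theorem exists_perp_notMem (hm : 7 ≤ m) (a b : Sp.V m F₀) (S : Submodule F₀ (Sp.V m F₀))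
    (hS : Module.finrank F₀ S ≤ 2) :
    ∃ z, Sp.bf m F₀ z a = 0 ∧ Sp.bf m F₀ z b = 0 ∧ z ∉ S := by
  let φ : Sp.V m F₀ →ₗ[F₀] F₀ × F₀ := ((Sp.bf m F₀).flip a).prod ((Sp.bf m F₀).flip b)
  by_contra h
  push Not at h
  have hle : LinearMap.ker φ ≤ S := fun z hz => by
    rw [LinearMap.mem_ker, Prod.ext_iff] at hz
    exact h z hz.1 hz.2
  have h1 := Submodule.finrank_mono hle
  have h2 := LinearMap.finrank_range_add_finrank_ker φ
  have h3 := Submodule.finrank_le (LinearMap.range φ)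
  rw [Module.finrank_prod, Module.finrank_self] at h3
  rw [Module.finrank_fintype_fun_eq_card, Fintype.card_sum, Fintype.card_fin] at h2
  omega

theorem finrank_span_le_one (a : Sp.V m F₀) : Module.finrank F₀ (Submodule.span F₀ {a}) ≤ 2 :=
  le_trans (finrank_span_le_card ({a} : Set (Sp.V m F₀))) (by simp)

theorem finrank_span_le_two (a b : Sp.V m F₀) : Module.finrank F₀ (Submodule.span F₀ {a, b}) ≤ 2 := by
  classical
  refine le_trans (finrank_span_le_card ({a, b} : Set (Sp.V m F₀))) ?_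
  have : ({a, b} : Set (Sp.V m F₀)).toFinset = {a, b} := by ext; simp
  rw [this]; exact Finset.card_le_two

theorem indep3 {a b c : Sp.V m F₀} (ha : a ≠ 0) (hb : b ∉ Submodule.span F₀ {a})
    (hc : c ∉ Submodule.span F₀ {a, b}) : LinearIndependent F₀ ![a, b, c] := by
  rw [Fintype.linearIndependent_iff]
  intro g hg
  rw [Fin.sum_univ_three] at hg
  simp only [Matrix.cons_val] at hg
  have h2 : g 2 = 0 := by
    by_contra h
    apply hc
    rw [← Submodule.smul_mem_iff _ h, eq_neg_of_add_eq_zero_right hg]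
    exact neg_mem (add_mem (Submodule.smul_mem _ _ (Submodule.subset_span (by simp)))
      (Submodule.smul_mem _ _ (Submodule.subset_span (by simp))))
  rw [h2, zero_smul, add_zero] at hg
  obtain ⟨h0, h1⟩ := LinearIndependent.pair_iff.1 (linearIndependent_cons2 ha hb) _ _ hg
  intro i
  fin_cases i <;> assumption

/-- rationality of the transvection -/
def TvRat (F₀ : Subfield F) (w : Sp.V m F) (c : F) : Prop :=
  ∃ x : Sp.V m F₀, ∃ s ∈ F₀, tvGL w c = tvGL (inc x) s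

section

variable (hm : 7 ≤ m) (M : Subgroup (GL (Fin m ⊕ Fin m) F))
  (hM : ∀ g ∈ Cfsg.spGL m F, RS F₀ g → g ∈ M) (hMS : M ≤ Cfsg.spGL m F)
include hm hM hMS

theorem tv_rat_mem (u : Sp.V m F₀) {s : F} (hs : s ∈ F₀) : tvGL (inc u) s ∈ M :=
  hM _ (tvGL_mem _ _) (rm_rs (rm_tv u hs))

theorem short_mem (p y : Sp.V m F₀) :
    tvGL (inc p + inc y) (1 : F) * tvGL (inc p) (-1) * tvGL (inc y) (-1) ∈ M := by
  rw [← inc_add]
  exact M.mul_mem (M.mul_mem (tv_rat_mem hm M hM hMS _ F₀.one_mem)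
    (tv_rat_mem hm M hM hMS _ (F₀.neg_mem F₀.one_mem))) (tv_rat_mem hm M hM hMS _ (F₀.neg_mem F₀.one_mem))

/-- A transvection with rational centre. -/
theorem G3_of_axis {u : Sp.V m F₀} (hu : u ≠ 0) {μ : F} (h : tvGL (inc u) μ ∈ M) :
    G3 hm M (F₀ := F₀) μ := by
  let i1 : Fin m := ⟨1, by omega⟩
  have hall : ∀ v : Sp.V m F₀, v ≠ 0 → ∀ a : F, a = μ ∨ a = -μ → tvGL (inc v) a ∈ M := by
    intro v hv
    obtain ⟨k, hk, hkR, hk'⟩ := exists_lift ![u] ![v]
      (Fintype.linearIndependent_iff.2 fun g hg i => by fin_cases i; simpa [hu] using hg)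
      (Fintype.linearIndependent_iff.2 fun g hg i => by fin_cases i; simpa [hv] using hg)
      (fun i j => by fin_cases i; fin_cases j; simp [Sp.bf_self])
    have hkM := hM k hk hkR
    have h1 := M.mul_mem (M.mul_mem hkM h) (M.inv_mem hkM)
    rw [conj_tvGL hk] at h1
    have h0 := hk' 0
    simp only [Matrix.cons_val_zero] at h0
    rw [h0] at h1
    rintro a (rfl | rfl)
    · exact h1
    · have h2 := M.inv_mem h1
      rwa [inv_eq_of_mul_eq_one_right (b := tvGL (inc v) (-μ))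
        (by rw [tvGL_mul, add_neg_cancel, tvGL_zero])] at h2
  let p : Sp.V m F₀ := -Sp.f i1
  set E0 := std (F₀ := F₀) hm 0 with hE0
  have h01 : (0 : Fin 3) ≠ 1 := by decide
  have hp0 : p ≠ 0 := fun h9 => by
    have := congrFun h9 (.inr i1)
    simp [p, Sp.f] at this
  have hE00 : E0 ≠ 0 := (std_indep hm).ne_zero 0
  have hsum0 : p + E0 ≠ 0 := fun h9 => by
    have := congrFun h9 (.inr i1)
    simp [p, E0, std, Sp.e, Sp.f] at this
  have hpE : Sp.bf m F₀ p E0 = 0 := by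
    simp only [p, map_neg, LinearMap.neg_apply, E0, std, Sp.bf_f_left]
    simp [Sp.e, i1]
  have b2 : ∀ i : Fin 3, Sp.bf m F₀ (std (F₀ := F₀) hm i) p = if i = 1 then 1 else 0 := by
    intro i
    simp only [p, map_neg, std, Sp.bf_e_left, neg_neg]
    fin_cases i <;> simp [Sp.f, i1, Fin.ext_iff]
  obtain ⟨q, hq⟩ : ∃ q, q = tvGL (inc p + inc E0) μ * tvGL (inc p) (-μ) * tvGL (inc E0) (-μ) :=
    ⟨_, rfl⟩
  have hqM : q ∈ M := by
    rw [hq, ← inc_add]
    exact M.mul_mem (M.mul_mem (hall _ hsum0 _ (Or.inl rfl)) (hall _ hp0 _ (Or.inr rfl)))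
      (hall _ hE00 _ (Or.inr rfl))
  have hqv : ∀ i : Fin 3, (q : Matrix (Fin m ⊕ Fin m) (Fin m ⊕ Fin m) F) *ᵥ inc (std (F₀ := F₀) hm i) =
      inc (std (F₀ := F₀) hm i) + (if i = 1 then μ else 0) • inc E0 := by
    intro i
    rw [hq, short_mulVec _ _ _ (by rw [bf_inc, hpE]; rfl), bf_inc, bf_inc, b2, hE0, std_orth]
    by_cases hi : i = 1 <;> simp [hi]
  exact ⟨q, hqM, by simpa using hqv 0, by simpa using hqv 1, by simpa using hqv 2⟩

/-- A dependency of a transvection. -/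
theorem G3_of_dep {w : Sp.V m F} {c : F} (h : tvGL w c ∈ M) (hrat : ¬ TvRat F₀ w c) {y : Sp.V m F₀}
    (hy : y ≠ 0) (hwy : Sp.bf m F w (inc y) = 0) : ∃ μ ∉ F₀, G3 hm M (F₀ := F₀) μ := by
  by_contra hcon
  push Not at hcon
  have hyw : Sp.bf m F (inc y) w = 0 := by rw [Sp.bf_swap, hwy, neg_zero]
  -- the element fixing `y` attached to a rational vector
  have hY : ∀ p : Sp.V m F₀, Sp.bf m F₀ p y = 0 → tvGL (w + Sp.bf m F w (inc p) • inc y) c ∈ M := by
    intro p hp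
    have hh := short_mem hm M hM hMS p y
    have h1 := M.mul_mem (M.mul_mem hh h) (M.inv_mem hh)
    rw [conj_tvGL (hMS hh), short_mulVec _ _ _ (by rw [bf_inc, hp]; rfl), hwy, mul_zero, zero_smul,
      add_zero, one_mul] at h1
    exact h1
  -- products in the subfield
  have hprod : ∀ p q : Sp.V m F₀, Sp.bf m F₀ p y = 0 → Sp.bf m F₀ q y = 0 →
      c * Sp.bf m F w (inc p) * Sp.bf m F (inc q) w ∈ F₀ := by
    intro p q hp hq
    by_cases hq0 : Sp.bf m F (inc q) w = 0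
    · rw [hq0, mul_zero]; exact F₀.zero_mem
    by_contra hμ
    refine hcon _ hμ ?_
    set b := Sp.bf m F w (inc p) with hb
    obtain ⟨z, hzy, hzq, hzS⟩ := exists_perp_notMem hm y q _ (finrank_span_le_two y q)
    have hqn : q ∉ Submodule.span F₀ {y} := by
      intro h9
      obtain ⟨a, rfl⟩ := Submodule.mem_span_singleton.1 h9
      rw [inc_smul, map_smul, LinearMap.smul_apply, hyw, smul_zero] at hq0
      exact hq0 rfl
    have hind := indep3 hy hqn hzS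
    obtain ⟨Y, hYd⟩ : ∃ Y, Y = tvGL (w + b • inc y) c * tvGL w (-c) := ⟨_, rfl⟩
    have hYM : Y ∈ M := by
      rw [hYd]
      refine M.mul_mem (hY p hp) ?_
      have h2 := M.inv_mem h
      rwa [inv_eq_of_mul_eq_one_right (b := tvGL w (-c))
        (by rw [tvGL_mul, add_neg_cancel, tvGL_zero])] at h2
    have hYv : ∀ x : Sp.V m F₀, Sp.bf m F₀ x y = 0 →
        (Y : Matrix (Fin m ⊕ Fin m) (Fin m ⊕ Fin m) F) *ᵥ inc x =
          inc x + (c * b * Sp.bf m F (inc x) w) • inc y := by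
      intro x hx
      have hx' : Sp.bf m F (inc x) (inc y) = 0 := by rw [bf_inc, hx]; rfl
      rw [hYd, Units.val_mul, ← Matrix.mulVec_mulVec, tvGL_mulVec, tvGL_mulVec]
      simp only [map_add, map_smul, LinearMap.add_apply, LinearMap.smul_apply, smul_eq_mul,
        Sp.bf_self, hwy, hx', mul_zero, add_zero]
      module
    refine G3_mk hm M hM hYM y q z hind (by rw [Sp.bf_swap, hq, neg_zero])
      (by rw [Sp.bf_swap, hzy, neg_zero]) (by rw [Sp.bf_swap, hzq, neg_zero]) _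
      (c * b * Sp.bf m F (inc z) w) ?_ (hYv q hq) (hYv z hzy)
    rw [hYv y (Sp.bf_self y), hyw, mul_zero, zero_smul, add_zero]
  obtain ⟨v0, hv0⟩ := Sp.exists_bf_eq_one hy
  obtain ⟨v, hv⟩ : ∃ v, v = -v0 := ⟨_, rfl⟩
  have hvy : Sp.bf m F₀ v y = 1 := by
    rw [hv, map_neg, LinearMap.neg_apply, Sp.bf_swap, hv0, neg_neg]
  set κ := Sp.bf m F (inc v) w with hκ
  obtain ⟨w', hw'⟩ : ∃ w', w' = w - κ • inc y := ⟨_, rfl⟩
  -- projection to the hyperplane
  have hproj : ∀ q : Sp.V m F₀, Sp.bf m F (inc q) w' =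
      Sp.bf m F (inc (q - Sp.bf m F₀ q y • v)) w ∧ Sp.bf m F₀ (q - Sp.bf m F₀ q y • v) y = 0 := by
    intro q
    refine ⟨?_, by rw [map_sub, map_smul, LinearMap.sub_apply, LinearMap.smul_apply, hvy, smul_eq_mul, mul_one, sub_self]⟩
    rw [hw', inc_sub, inc_smul, map_sub, map_sub, map_smul, map_smul, LinearMap.sub_apply,
      LinearMap.smul_apply, bf_inc, hκ, smul_eq_mul, smul_eq_mul]
    ring
  have hcoord : ∀ (a : F) (i : Fin m), Sp.bf m F (inc (Sp.e i : Sp.V m F₀)) w' * a = -(w' (.inr i) * a) ∧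
      Sp.bf m F (inc (Sp.f i : Sp.V m F₀)) w' * a = w' (.inl i) * a := by
    intro a i
    constructor
    · rw [show inc (Sp.e i : Sp.V m F₀) = (Sp.e i : Sp.V m F) from inc_single _, Sp.bf_e_left, neg_mul]
    · rw [show inc (Sp.f i : Sp.V m F₀) = (Sp.f i : Sp.V m F) from inc_single _, Sp.bf_f_left]
  by_cases hall : ∀ p : Sp.V m F₀, Sp.bf m F₀ p y = 0 → Sp.bf m F (inc p) w = 0
  · -- rational centre
    have hw0 : w' = 0 := by
      funext k
      rcases k with i | i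
      · have h1 := (hcoord 1 i).2
        rw [(hproj _).1, hall _ (hproj _).2, zero_mul, mul_one] at h1
        exact h1.symm
      · have h1 := (hcoord 1 i).1
        rw [(hproj _).1, hall _ (hproj _).2, zero_mul, mul_one] at h1
        exact neg_eq_zero.1 h1.symm
    rw [hw', sub_eq_zero] at hw0
    by_cases hs : κ * κ * c ∈ F₀
    · exact hrat ⟨y, _, hs, by rw [hw0, tvGL_smul]⟩
    · refine hcon _ hs (G3_of_axis hm M hM hMS hy ?_)
      rwa [← tvGL_smul, ← hw0]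
  push Not at hall
  obtain ⟨p0, hp0, hβ0⟩ := hall
  set β := Sp.bf m F (inc p0) w with hβ
  have hwp : Sp.bf m F w (inc p0) = -β := by rw [Sp.bf_swap]
  have hs0 : c * β * β ∈ F₀ := by
    have h9 := F₀.neg_mem (hprod p0 p0 hp0 hp0)
    rwa [hwp, mul_neg, neg_mul, neg_neg] at h9
  have hc0 : c ≠ 0 := by
    rintro rfl
    exact hrat ⟨0, 0, F₀.zero_mem, by rw [tvGL_zero, tvGL_zero]⟩
  have hratio : ∀ q : Sp.V m F₀, Sp.bf m F (inc q) w' * β⁻¹ ∈ F₀ := by
    intro q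
    have h9 := F₀.neg_mem (F₀.mul_mem (hprod p0 _ hp0 (hproj q).2) (F₀.inv_mem hs0))
    rw [hwp, ← (hproj q).1] at h9
    convert h9 using 1
    field_simp
  have hmem : ∀ k, β⁻¹ * w' k ∈ F₀ := by
    rintro (i | i)
    · rw [mul_comm, ← (hcoord β⁻¹ i).2]; exact hratio _
    · have h1 := hratio (Sp.e i)
      rw [(hcoord β⁻¹ i).1] at h1
      rw [mul_comm]
      simpa using F₀.neg_mem h1
  obtain ⟨x0, hx0⟩ : ∃ x0 : Sp.V m F₀, inc x0 = β⁻¹ • w' := ⟨fun k => ⟨_, hmem k⟩, rfl⟩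
  have hwe : w = β • (inc x0 + (κ * β⁻¹) • inc y) := by
    rw [hx0, smul_add, smul_smul, smul_smul, mul_inv_cancel₀ hβ0, one_smul, hw']
    rw [show β * (κ * β⁻¹) = κ by field_simp]
    abel
  set ρ := κ * β⁻¹ with hρ
  set s0 := c * β * β with hs0d
  have htv : tvGL w c = tvGL (inc x0 + ρ • inc y) s0 := by
    rw [hwe, tvGL_smul, hs0d]; congr 1; ring
  by_cases hρ0 : ρ ∈ F₀
  · exact hrat ⟨x0 + (⟨ρ, hρ0⟩ : F₀) • y, _, hs0, by rw [htv, inc_add, inc_smul]⟩
  have hx0y : Sp.bf m F₀ x0 y = 0 := by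
    have h9 : ((Sp.bf m F₀ x0 y : F₀) : F) = 0 := by
      rw [← bf_inc, hx0, hw', map_smul, map_sub, map_smul, LinearMap.smul_apply, LinearMap.sub_apply,
        LinearMap.smul_apply, hwy, Sp.bf_self, smul_zero, sub_zero, smul_zero]
    exact Subtype.ext h9
  obtain ⟨S, hSd⟩ : ∃ S, S = tvGL (inc x0 + ρ • inc y) s0 * tvGL (inc x0) (-s0) := ⟨_, rfl⟩
  have hSM : S ∈ M := hSd ▸ M.mul_mem (htv ▸ h) (tv_rat_mem hm M hM hMS x0 (F₀.neg_mem hs0))
  have hSv : ∀ x : Sp.V m F₀, Sp.bf m F₀ x y = 0 →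
      (S : Matrix (Fin m ⊕ Fin m) (Fin m ⊕ Fin m) F) *ᵥ inc x =
        inc x + (s0 * ρ * Sp.bf m F (inc x) (inc x0)) • inc y := by
    intro x hx
    have hx' : Sp.bf m F (inc x) (inc y) = 0 := by rw [bf_inc, hx]; rfl
    have hxy : Sp.bf m F (inc x0) (inc y) = 0 := by rw [bf_inc, hx0y]; rfl
    rw [hSd, Units.val_mul, ← Matrix.mulVec_mulVec, tvGL_mulVec, tvGL_mulVec]
    simp only [map_add, map_smul, LinearMap.add_apply, LinearMap.smul_apply, smul_eq_mul,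
      Sp.bf_self, hxy, hx', mul_zero, add_zero]
    module
  set q := p0 with hq
  set t : F := Sp.bf m F (inc q) (inc x0) with ht
  have ht0 : t ≠ 0 := by
    rw [ht, hx0, hw', map_smul, map_sub, map_smul, bf_inc q y, hp0]
    show β⁻¹ • (β - κ • (0 : F)) ≠ 0
    simp [hβ0]
  have hμ : s0 * ρ * t ∉ F₀ := by
    intro h9
    apply hρ0
    have htm : t ∈ F₀ := by rw [ht, bf_inc]; exact (Sp.bf m F₀ _ _).2
    have h10 := F₀.mul_mem (F₀.mul_mem (F₀.inv_mem hs0) h9) (F₀.inv_mem htm)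
    have hs00 : s0 ≠ 0 := by rw [hs0d]; exact mul_ne_zero (mul_ne_zero hc0 hβ0) hβ0
    convert h10 using 1
    field_simp
  obtain ⟨z, hzy, hzq, hzS⟩ := exists_perp_notMem hm y q _ (finrank_span_le_two y q)
  have hqn : q ∉ Submodule.span F₀ {y} := by
    intro h9
    obtain ⟨a, ha⟩ := Submodule.mem_span_singleton.1 h9
    apply hβ0
    rw [hβ, ← ha, inc_smul, map_smul, LinearMap.smul_apply, hyw, smul_zero]
  refine hcon _ hμ (G3_mk hm M hM hSM y q z (indep3 hy hqn hzS) (by rw [Sp.bf_swap, hp0, neg_zero])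
      (by rw [Sp.bf_swap, hzy, neg_zero]) (by rw [Sp.bf_swap, hzq, neg_zero]) _
      (s0 * ρ * Sp.bf m F (inc z) (inc x0)) ?_ (hSv q hp0) (hSv z hzy))
  rw [hSv y (Sp.bf_self y), bf_inc, Sp.bf_swap, hx0y]
  simp

end

end CfsgLib.Lie.SubfieldSp
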