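import Cfsg.Agent.Lie.SubfieldSp2

/-!
The subfield subgroups of prime degree of the symplectic group, third part: maximality.
-/

set_option autoImplicit false
set_option linter.unusedSimpArgs false
set_option linter.unusedSectionVars false

namespace CfsgLib.Lie.SubfieldSp

open Matrix
open CfsgLib.Lie.OrthMaxSp (tvGL tvGL_mulVec tvGL_mem tvGL_smul tvGL_mul tvGL_zero conj_tvGL mem_spGL)

variable {m : ℕ} {F : Type*} [Field F] {F₀ : Subfield F}

/-- a vector on a rational line -/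
def RL (F₀ : Subfield F) (w : Sp.V m F) : Prop := ∃ (c : F) (x : Sp.V m F₀), w = c • inc x

theorem rm_inv {X : Matrix (Fin m ⊕ Fin m) (Fin m ⊕ Fin m) F} (hX : RM F₀ X) : RM F₀ X⁻¹ := by
  let X0 : Matrix (Fin m ⊕ Fin m) (Fin m ⊕ Fin m) F₀ := fun i j => ⟨X i j, hX i j⟩
  have e : (F₀.subtype).mapMatrix X0 = X := rfl
  have hdet : X.det ∈ F₀ := by
    have h := RingHom.map_det (F₀.subtype) X0
    rw [e] at h
    rw [← h]; exact (X0.det).2
  have hadj : ∀ i j, X.adjugate i j ∈ F₀ := fun i j => by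
    have h := RingHom.map_adjugate (F₀.subtype) X0
    rw [e] at h
    rw [← h]; exact (X0.adjugate i j).2
  intro i j
  rw [Matrix.inv_def, Matrix.smul_apply, Ring.inverse_eq_inv, smul_eq_mul]
  exact F₀.mul_mem (F₀.inv_mem hdet) (hadj i j)

theorem rs_of_lines (g : GL (Fin m ⊕ Fin m) F)
    (h : ∀ x : Sp.V m F₀, RL F₀ ((g : Matrix (Fin m ⊕ Fin m) (Fin m ⊕ Fin m) F) *ᵥ inc x)) :
    RS F₀ g := by
  rcases isEmpty_or_nonempty (Fin m ⊕ Fin m) with he | ⟨⟨i₀⟩⟩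
  · exact ⟨1, one_ne_zero, fun i => isEmptyElim i⟩
  choose c x hcx using fun i => h (Pi.single i 1)
  obtain ⟨b, y, hby⟩ := h (fun _ => 1)
  have hne : ∀ v : Sp.V m F₀, v ≠ 0 → (g : Matrix (Fin m ⊕ Fin m) (Fin m ⊕ Fin m) F) *ᵥ inc v ≠ 0 := by
    intro v hv h9
    have := congrArg (fun w => ((g⁻¹ : GL (Fin m ⊕ Fin m) F) : Matrix (Fin m ⊕ Fin m) (Fin m ⊕ Fin m) F) *ᵥ w) h9
    simp only [FormMaxSL.inv_mulVec_mulVec, Matrix.mulVec_zero] at this
    exact hv (inc_injective (this.trans inc_zero.symm))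
  have hc0 : ∀ i, c i ≠ 0 := by
    intro i h9
    have h1 := hcx i
    rw [h9, zero_smul] at h1
    exact hne _ (fun h2 => one_ne_zero (α := F₀) (by simpa using congrFun h2 i)) h1
  let U : Matrix (Fin m ⊕ Fin m) (Fin m ⊕ Fin m) F :=
    (g : Matrix (Fin m ⊕ Fin m) (Fin m ⊕ Fin m) F) * Matrix.diagonal fun i => (c i)⁻¹
  have hU : RM F₀ U := fun i j => by
    have h1 := congrFun (hcx j) i
    rw [inc_single, Matrix.mulVec_single_one] at h1
    simp only [Matrix.col_apply, Pi.smul_apply, smul_eq_mul] at h1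
    simp only [U, Matrix.mul_diagonal, h1]
    rw [mul_comm, ← mul_assoc, inv_mul_cancel₀ (hc0 j), one_mul]
    exact (x j i).2
  have hUunit : IsUnit U.det := by
    rw [Matrix.det_mul, Matrix.det_diagonal]
    exact IsUnit.mul (g.isUnit.map Matrix.detMonoidHom)
      (IsUnit.mk0 _ (Finset.prod_ne_zero_iff.2 fun i _ => inv_ne_zero (hc0 i)))
  have hb0 : b ≠ 0 := by
    intro h9
    rw [h9, zero_smul] at hby
    exact hne _ (fun h2 => one_ne_zero (α := F₀) (congrFun h2 i₀)) hby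
  have hsol : ∀ i, b⁻¹ * c i ∈ F₀ := by
    have e : (fun i => b⁻¹ * c i) = U⁻¹ *ᵥ inc y := by
      have e1 : U *ᵥ (fun i => b⁻¹ * c i) = inc y := by
        have e2 : (fun i => b⁻¹ * c i) = b⁻¹ • c := rfl
        rw [e2, Matrix.mulVec_smul, show U = (g : Matrix (Fin m ⊕ Fin m) (Fin m ⊕ Fin m) F) * Matrix.diagonal fun i => (c i)⁻¹ from rfl,
          ← Matrix.mulVec_mulVec]
        have e3 : (Matrix.diagonal fun i => (c i)⁻¹) *ᵥ c = inc (fun _ => (1 : F₀)) := by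
          funext i
          rw [Matrix.mulVec_diagonal, inv_mul_cancel₀ (hc0 i)]
          rfl
        rw [e3, hby, smul_smul, inv_mul_cancel₀ hb0, one_smul]
      rw [← e1, Matrix.mulVec_mulVec, Matrix.nonsing_inv_mul _ hUunit, Matrix.one_mulVec]
    intro i
    obtain ⟨w, hw⟩ := rm_mulVec_inc (rm_inv hU) y
    rw [hw] at e
    rw [congrFun e i]
    exact (w i).2
  refine ⟨b⁻¹, inv_ne_zero hb0, fun i j => ?_⟩
  have e : (b⁻¹ • (g : Matrix (Fin m ⊕ Fin m) (Fin m ⊕ Fin m) F)) i j = (b⁻¹ * c j) * U i j := by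
    have := hc0 j
    simp only [U, Matrix.mul_diagonal, Matrix.smul_apply, smul_eq_mul]
    field_simp
  rw [e]
  exact F₀.mul_mem (hsol j) (hU i j)

theorem RL_of_tvRat {w : Sp.V m F} (hw : w ≠ 0) (h : TvRat F₀ w 1) : RL F₀ w := by
  obtain ⟨x, s, -, hxs⟩ := h
  obtain ⟨v, hv⟩ := Sp.exists_bf_eq_one hw
  have h1 := congrArg (fun g : GL (Fin m ⊕ Fin m) F => (g : Matrix (Fin m ⊕ Fin m) (Fin m ⊕ Fin m) F) *ᵥ v) hxs
  simp only [tvGL_mulVec] at h1
  rw [Sp.bf_swap w v, hv, one_mul, neg_one_smul] at h1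
  exact ⟨-(s * Sp.bf m F v (inc x)), x, by rw [neg_smul, ← add_left_cancel h1, neg_neg]⟩

/-- a rational vector representing a rational functional -/
theorem exists_bf_rep (a : Fin m ⊕ Fin m → F₀) :
    ∃ y : Sp.V m F₀, (a ≠ 0 → y ≠ 0) ∧ ∀ z : Sp.V m F, Sp.bf m F z (inc y) = ∑ k, (a k : F) * z k := by
  refine ⟨Sum.elim (fun i => a (.inr i)) (fun i => -a (.inl i)), fun h0 h9 => h0 ?_, fun z => ?_⟩
  · funext k
    rcases k with i | i
    · simpa using congrFun h9 (.inr i)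
    · simpa using congrFun h9 (.inl i)
  · rw [Sp.bf_apply, Fintype.sum_sum_type, ← Finset.sum_add_distrib]
    refine Finset.sum_congr rfl fun i _ => ?_
    simp only [inc, Sum.elim_inl, Sum.elim_inr]
    push_cast
    ring

theorem dep_of_intertwine {X Y G : Matrix (Fin m ⊕ Fin m) (Fin m ⊕ Fin m) F} (hX : RM F₀ X) (hY : RM F₀ Y)
    (hX1 : X ≠ 1) (hY1 : Y ≠ -1) (hY2 : Y * Y = 1) (h : X * G = G * Y) :
    ∃ x y : Sp.V m F₀, x ≠ 0 ∧ y ≠ 0 ∧ Sp.bf m F (G *ᵥ inc x) (inc y) = 0 := by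
  obtain ⟨i, j0, hi⟩ : ∃ i j, (X - 1) i j ≠ 0 := by
    by_contra h9; push Not at h9
    exact hX1 (sub_eq_zero.1 (Matrix.ext fun i j => h9 i j))
  obtain ⟨i', j, hj⟩ : ∃ i j, (Y + 1) i j ≠ 0 := by
    by_contra h9; push Not at h9
    exact hY1 (eq_neg_of_add_eq_zero_left (Matrix.ext fun i j => h9 i j))
  obtain ⟨x, hx⟩ := rm_mulVec_inc (rm_add hY rm_one) (Pi.single j 1)
  obtain ⟨y, hy0, hy⟩ := exists_bf_rep (fun k => (⟨(X - 1) i k, rm_sub hX rm_one i k⟩ : F₀))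
  refine ⟨x, y, fun h9 => hj ?_, hy0 fun h9 => hi ?_, ?_⟩
  · rw [h9, inc_zero, inc_single, Matrix.mulVec_single_one] at hx
    exact congrFun hx i'
  · exact congrArg Subtype.val (congrFun h9 j0)
  · have e : (X - 1) * G * (Y + 1) = 0 := by
      rw [sub_mul, one_mul, h]
      calc (G * Y - G) * (Y + 1) = G * (Y * Y) - G := by noncomm_ring
        _ = 0 := by rw [hY2, mul_one, sub_self]
    rw [hy, ← hx]
    have e2 : ((X - 1) *ᵥ (G *ᵥ ((Y + 1) *ᵥ inc (Pi.single j (1 : F₀))))) i = 0 := by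
      rw [Matrix.mulVec_mulVec, Matrix.mulVec_mulVec, e, Matrix.zero_mulVec, Pi.zero_apply]
    exact e2

theorem mem_of_sq_mem [Finite F] {r : ℕ} (hr : r.Prime) (hr2 : 2 < r)
    (hcard : Nat.card F = Nat.card F₀ ^ r) {c : F} (hc : c * c ∈ F₀) : c ∈ F₀ :=
  SubfieldMax.mem_of_sq_mem hr hr2 hcard hc

/-- Two classes of rational involutions. -/
theorem exists_invols (hm : 7 ≤ m) :
    ∃ t s : GL (Fin m ⊕ Fin m) F, t ∈ Cfsg.spGL m F ∧ s ∈ Cfsg.spGL m F ∧
      RM F₀ (t : Matrix (Fin m ⊕ Fin m) (Fin m ⊕ Fin m) F) ∧ RM F₀ (s : Matrix (Fin m ⊕ Fin m) (Fin m ⊕ Fin m) F) ∧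
      t * t = 1 ∧ s * s = 1 ∧
      (t : Matrix (Fin m ⊕ Fin m) (Fin m ⊕ Fin m) F) ≠ 1 ∧ (t : Matrix (Fin m ⊕ Fin m) (Fin m ⊕ Fin m) F) ≠ -1 ∧
      (s : Matrix (Fin m ⊕ Fin m) (Fin m ⊕ Fin m) F) ≠ 1 ∧ (s : Matrix (Fin m ⊕ Fin m) (Fin m ⊕ Fin m) F) ≠ -1 ∧
      (∀ h : GL (Fin m ⊕ Fin m) F, h * s * h⁻¹ ≠ t) ∧
      ((2 : F) ≠ 0 → ∀ h : GL (Fin m ⊕ Fin m) F,
        ((h * s * h⁻¹ : GL (Fin m ⊕ Fin m) F) : Matrix (Fin m ⊕ Fin m) (Fin m ⊕ Fin m) F) ≠ -(t : Matrix (Fin m ⊕ Fin m) (Fin m ⊕ Fin m) F) ∧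
        ((h * t * h⁻¹ : GL (Fin m ⊕ Fin m) F) : Matrix (Fin m ⊕ Fin m) (Fin m ⊕ Fin m) F) ≠ -(t : Matrix (Fin m ⊕ Fin m) (Fin m ⊕ Fin m) F)) := by
  let i0 : Fin m := ⟨0, by omega⟩
  let i1 : Fin m := ⟨1, by omega⟩
  let i2 : Fin m := ⟨2, by omega⟩
  have h01 : i0 ≠ i1 := by simp [i0, i1]
  by_cases h2 : (2 : F) = 0
  · -- unipotent involutions
    have hneg : -(1 : Matrix (Fin m ⊕ Fin m) (Fin m ⊕ Fin m) F) = 1 := by
      ext i j
      rw [Matrix.neg_apply]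
      linear_combination -(1 : Matrix (Fin m ⊕ Fin m) (Fin m ⊕ Fin m) F) i j * h2
    let e0 : Sp.V m F := Sp.e i0
    let e1 : Sp.V m F := Sp.e i1
    have ei : ∀ i, inc (Sp.e i : Sp.V m F₀) = (Sp.e i : Sp.V m F) := fun i => inc_single _
    have o01 : Sp.bf m F e0 e1 = 0 := by simp only [e0, e1, Sp.bf_e_left]; simp [Sp.e]
    have o10 : Sp.bf m F e1 e0 = 0 := by rw [Sp.bf_swap, o01, neg_zero]
    let t := tvGL e0 (1 : F)
    let u := tvGL e1 (1 : F)
    have hs : ∀ x, ((t * u : GL (Fin m ⊕ Fin m) F) : Matrix (Fin m ⊕ Fin m) (Fin m ⊕ Fin m) F) *ᵥ x =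
        x + (Sp.bf m F x e0 • e0 + Sp.bf m F x e1 • e1) := by
      intro x
      rw [Units.val_mul, ← Matrix.mulVec_mulVec, tvGL_mulVec, tvGL_mulVec]
      simp only [one_mul, map_add, map_smul, LinearMap.add_apply, LinearMap.smul_apply, o10, smul_zero, add_zero]
      abel
    have htt : ∀ w : Sp.V m F, tvGL w (1 : F) * tvGL w 1 = 1 := fun w => by
      rw [tvGL_mul, show (1 : F) + 1 = 0 by linear_combination h2, tvGL_zero]
    have hf0 : Sp.bf m F (Sp.f i0) e0 = 1 ∧ Sp.bf m F (Sp.f i0) e1 = 0 ∧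
        Sp.bf m F (Sp.f i1) e0 = 0 ∧ Sp.bf m F (Sp.f i1) e1 = 1 := by
      simp [e0, e1, Sp.bf_f_left, Sp.e, h01, h01.symm]
    have hne_t : (t : Matrix (Fin m ⊕ Fin m) (Fin m ⊕ Fin m) F) ≠ 1 := by
      intro h
      have := congrArg (fun X : Matrix (Fin m ⊕ Fin m) (Fin m ⊕ Fin m) F => (X *ᵥ Sp.f i0) (.inl i0)) h
      simp only [t, tvGL_mulVec, Matrix.one_mulVec, hf0.1, mul_one, one_smul] at this
      simp [e0, Sp.e, Sp.f] at this
    have hne_s : ((t * u : GL (Fin m ⊕ Fin m) F) : Matrix (Fin m ⊕ Fin m) (Fin m ⊕ Fin m) F) ≠ 1 := by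
      intro h
      have := congrArg (fun X : Matrix (Fin m ⊕ Fin m) (Fin m ⊕ Fin m) F => (X *ᵥ Sp.f i0) (.inl i0)) h
      simp only [hs, Matrix.one_mulVec, hf0.1, hf0.2.1, one_smul, zero_smul, add_zero] at this
      simp [e0, Sp.e, Sp.f] at this
    have hrm : ∀ i, RM F₀ ((tvGL (Sp.e i : Sp.V m F) (1 : F) : GL (Fin m ⊕ Fin m) F) : Matrix (Fin m ⊕ Fin m) (Fin m ⊕ Fin m) F) :=
      fun i => by rw [← ei]; exact rm_tv _ F₀.one_mem
    refine ⟨t, t * u, tvGL_mem _ _, Subgroup.mul_mem _ (tvGL_mem _ _) (tvGL_mem _ _), hrm i0, ?_,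
      htt _, ?_, hne_t, by rw [hneg]; exact hne_t, hne_s, by rw [hneg]; exact hne_s, ?_,
      fun h => absurd h2 h⟩
    · rw [Units.val_mul]; exact rm_mul (hrm i0) (hrm i1)
    · refine OrthMaxSp.gl_ext fun x => ?_
      rw [Units.val_mul, ← Matrix.mulVec_mulVec, hs, hs, Units.val_one, Matrix.one_mulVec]
      simp only [map_add, map_smul, LinearMap.add_apply, LinearMap.smul_apply, o01, o10, Sp.bf_self,
        smul_zero, add_zero]
      funext k
      simp only [Pi.add_apply, Pi.smul_apply, smul_eq_mul]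
      linear_combination (Sp.bf m F x e0 * e0 k + Sp.bf m F x e1 * e1 k) * h2
    · intro h heq
      have key : ∀ x, (h : Matrix (Fin m ⊕ Fin m) (Fin m ⊕ Fin m) F) *ᵥ (Sp.bf m F x e0 • e0 + Sp.bf m F x e1 • e1) =
          Sp.bf m F ((h : Matrix (Fin m ⊕ Fin m) (Fin m ⊕ Fin m) F) *ᵥ x) e0 • e0 := by
        intro x
        have := congrArg (fun g : GL (Fin m ⊕ Fin m) F =>
          (g : Matrix (Fin m ⊕ Fin m) (Fin m ⊕ Fin m) F) *ᵥ ((h : Matrix (Fin m ⊕ Fin m) (Fin m ⊕ Fin m) F) *ᵥ x)) heq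
        simp only [Units.val_mul (h * (t * u)), Units.val_mul h, ← Matrix.mulVec_mulVec,
          FormMaxSL.inv_mulVec_mulVec, hs] at this
        simp only [t, tvGL_mulVec, one_mul, Matrix.mulVec_add] at this
        rw [← Matrix.mulVec_add] at this
        exact add_left_cancel this
      have k0 := congrArg (fun v => ((h⁻¹ : GL (Fin m ⊕ Fin m) F) : Matrix (Fin m ⊕ Fin m) (Fin m ⊕ Fin m) F) *ᵥ v) (key (Sp.f i0))
      have k1 := congrArg (fun v => ((h⁻¹ : GL (Fin m ⊕ Fin m) F) : Matrix (Fin m ⊕ Fin m) (Fin m ⊕ Fin m) F) *ᵥ v) (key (Sp.f i1))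
      simp only [FormMaxSL.inv_mulVec_mulVec, hf0.1, hf0.2.1, hf0.2.2.1, hf0.2.2.2, one_smul, zero_smul,
        add_zero, zero_add, Matrix.mulVec_smul] at k0 k1
      have a00 := congrFun k0 (.inl i0)
      have a01 := congrFun k0 (.inl i1)
      have a11 := congrFun k1 (.inl i1)
      simp [e0, e1, Sp.e, h01, h01.symm] at a00 a01 a11
      rcases a01 with e | e
      · simp [e] at a00
      · simp [e] at a11
  · -- diagonal involutions
    let z : Fin m ⊕ Fin m → ℕ := Sum.elim (fun i => (i : ℕ)) (fun i => (i : ℕ))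
    let d : ℕ → GL (Fin m ⊕ Fin m) F := fun k =>
      { val := Matrix.diagonal fun i => if z i < k then -1 else 1
        inv := Matrix.diagonal fun i => if z i < k then -1 else 1
        val_inv := by
          rw [Matrix.diagonal_mul_diagonal, ← Matrix.diagonal_one]; congr 1; funext i; split <;> ring
        inv_val := by
          rw [Matrix.diagonal_mul_diagonal, ← Matrix.diagonal_one]; congr 1; funext i; split <;> ring }
    have hcard : ∀ k ≤ m, (Finset.univ.filter fun i : Fin m ⊕ Fin m => z i < k).card = 2 * k := by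
      intro k hk
      have h1 : (Finset.univ.filter fun i : Fin m ⊕ Fin m => z i < k) =
          (Finset.univ : Finset (Fin k ⊕ Fin k)).map ⟨Sum.map (Fin.castLE hk) (Fin.castLE hk),
            Sum.map_injective.2 ⟨Fin.castLE_injective hk, Fin.castLE_injective hk⟩⟩ := by
        ext i
        simp only [Finset.mem_filter, Finset.mem_univ, true_and, Finset.mem_map]
        rcases i with i | i
        · exact ⟨fun h => ⟨.inl ⟨i, h⟩, rfl⟩, fun ⟨j, hj⟩ => by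
            rcases j with j | j <;> simp at hj; rw [← hj]; exact j.2⟩
        · exact ⟨fun h => ⟨.inr ⟨i, h⟩, rfl⟩, fun ⟨j, hj⟩ => by
            rcases j with j | j <;> simp at hj; rw [← hj]; exact j.2⟩
      rw [h1]; simp [two_mul]
    have hsp : ∀ k, d k ∈ Cfsg.spGL m F := by
      intro k
      rw [mem_spGL]
      intro u v
      simp only [d, Sp.bf_apply, Matrix.mulVec_diagonal]
      refine Finset.sum_congr rfl fun i _ => ?_
      simp only [z, Sum.elim_inl, Sum.elim_inr]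
      by_cases hi : (i : ℕ) < k <;> simp [hi]
    have hne : ∀ k, 0 < k → k < m → ((d k : GL (Fin m ⊕ Fin m) F) : Matrix (Fin m ⊕ Fin m) (Fin m ⊕ Fin m) F) ≠ 1 ∧
        ((d k : GL (Fin m ⊕ Fin m) F) : Matrix (Fin m ⊕ Fin m) (Fin m ⊕ Fin m) F) ≠ -1 := by
      intro k hk hkn
      constructor <;> intro h
      · have := congrFun (congrFun h (.inl i0)) (.inl i0)
        simp [d, z, i0, hk] at this
        exact h2 (by linear_combination -this)
      · have := congrFun (congrFun h (.inl ⟨k, hkn⟩)) (.inl ⟨k, hkn⟩)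
        simp [d, z] at this
        exact h2 (by linear_combination this)
    have hrm : ∀ k, RM F₀ ((d k : GL (Fin m ⊕ Fin m) F) : Matrix (Fin m ⊕ Fin m) (Fin m ⊕ Fin m) F) := by
      intro k i j
      simp only [d, Matrix.diagonal_apply]
      split_ifs
      · exact F₀.neg_mem F₀.one_mem
      · exact F₀.one_mem
      · exact F₀.zero_mem
    have hrank : ∀ k ≤ m, (((d k : GL (Fin m ⊕ Fin m) F) : Matrix (Fin m ⊕ Fin m) (Fin m ⊕ Fin m) F) - 1).rank = 2 * k ∧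
        (-((d k : GL (Fin m ⊕ Fin m) F) : Matrix (Fin m ⊕ Fin m) (Fin m ⊕ Fin m) F) - 1).rank = 2 * m - 2 * k := by
      intro k hk
      classical
      have hm2 : (-1 - 1 : F) ≠ 0 := fun h => h2 (by linear_combination -h)
      constructor
      · simp only [d, ← Matrix.diagonal_one, Matrix.diagonal_sub, Matrix.rank_diagonal,
          Fintype.card_subtype]
        refine Eq.trans ?_ (hcard k hk)
        congr 1
        ext i
        by_cases h : z i < k <;> simp [h, hm2]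
      · simp only [d, ← Matrix.diagonal_one, Matrix.diagonal_neg, Matrix.diagonal_sub,
          Matrix.rank_diagonal, Fintype.card_subtype]
        have hcompl : (Finset.univ.filter fun i : Fin m ⊕ Fin m => ¬ z i < k).card = 2 * m - 2 * k := by
          have h1 := Finset.card_filter_add_card_filter_not
            (s := (Finset.univ : Finset (Fin m ⊕ Fin m))) (fun i => z i < k)
          rw [hcard k hk, Finset.card_univ, Fintype.card_sum, Fintype.card_fin] at h1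
          omega
        refine Eq.trans ?_ hcompl
        congr 1
        ext i
        by_cases h : z i < k <;> simp [h, hm2] <;> omega
    have hconj : ∀ (h : GL (Fin m ⊕ Fin m) F) (k : ℕ),
        ((((h * d k * h⁻¹ : GL (Fin m ⊕ Fin m) F)) : Matrix (Fin m ⊕ Fin m) (Fin m ⊕ Fin m) F) - 1).rank =
          (((d k : GL (Fin m ⊕ Fin m) F) : Matrix (Fin m ⊕ Fin m) (Fin m ⊕ Fin m) F) - 1).rank := by
      intro h k
      have e : (((h * d k * h⁻¹ : GL (Fin m ⊕ Fin m) F)) : Matrix (Fin m ⊕ Fin m) (Fin m ⊕ Fin m) F) - 1 =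
          (h : Matrix (Fin m ⊕ Fin m) (Fin m ⊕ Fin m) F) * (((d k : GL (Fin m ⊕ Fin m) F) : Matrix (Fin m ⊕ Fin m) (Fin m ⊕ Fin m) F) - 1) *
            ((h⁻¹ : GL (Fin m ⊕ Fin m) F) : Matrix (Fin m ⊕ Fin m) (Fin m ⊕ Fin m) F) := by
        rw [mul_sub, sub_mul, mul_one, ← Units.val_mul h h⁻¹, mul_inv_cancel, Units.val_one,
          Units.val_mul, Units.val_mul]
      rw [e, Matrix.rank_mul_eq_left_of_isUnit_det _ _ ((h⁻¹).isUnit.map Matrix.detMonoidHom),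
        Matrix.rank_mul_eq_right_of_isUnit_det _ _ (h.isUnit.map Matrix.detMonoidHom)]
    have hsq : ∀ k, d k * d k = 1 := fun k => Units.ext (d k).val_inv
    refine ⟨d 1, d 2, hsp 1, hsp 2, hrm 1, hrm 2,
      hsq 1, hsq 2, (hne 1 (by omega) (by omega)).1, (hne 1 (by omega) (by omega)).2,
      (hne 2 (by omega) (by omega)).1, (hne 2 (by omega) (by omega)).2, ?_, fun _ h => ⟨?_, ?_⟩⟩
    · intro h heq
      have h1 := hconj h 2
      rw [heq, (hrank 1 (by omega)).1, (hrank 2 (by omega)).1] at h1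
      omega
    · intro heq
      have h1 := hconj h 2
      rw [heq, (hrank 1 (by omega)).2, (hrank 2 (by omega)).1] at h1
      omega
    · intro heq
      have h1 := hconj h 1
      rw [heq, (hrank 1 (by omega)).2, (hrank 1 (by omega)).1] at h1
      omega

section

variable (hm : 7 ≤ m) (M : Subgroup (GL (Fin m ⊕ Fin m) F))
  (hM : ∀ g ∈ Cfsg.spGL m F, RS F₀ g → g ∈ M) (hMS : M ≤ Cfsg.spGL m F)
include hm hM hMS

theorem dep {g : GL (Fin m ⊕ Fin m) F} (hg : g ∈ M) (hgR : ¬ RS F₀ g) {x y : Sp.V m F₀} (hx : x ≠ 0)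
    (hy : y ≠ 0) (h : Sp.bf m F ((g : Matrix (Fin m ⊕ Fin m) (Fin m ⊕ Fin m) F) *ᵥ inc x) (inc y) = 0) :
    ∃ μ ∉ F₀, G3 hm M (F₀ := F₀) μ := by
  by_contra hcon
  have key : ∀ v z : Sp.V m F₀, v ≠ 0 → z ≠ 0 →
      Sp.bf m F ((g : Matrix (Fin m ⊕ Fin m) (Fin m ⊕ Fin m) F) *ᵥ inc v) (inc z) = 0 →
      RL F₀ ((g : Matrix (Fin m ⊕ Fin m) (Fin m ⊕ Fin m) F) *ᵥ inc v) := by
    intro v z hv hz h0
    have h1 := M.mul_mem (M.mul_mem hg (tv_rat_mem hm M hM hMS v F₀.one_mem)) (M.inv_mem hg)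
    rw [conj_tvGL (hMS hg)] at h1
    refine RL_of_tvRat (fun h9 => hv ?_) (by_contra fun hr => hcon (G3_of_dep hm M hM hMS h1 hr hz h0))
    have := congrArg (fun w => ((g⁻¹ : GL (Fin m ⊕ Fin m) F) : Matrix (Fin m ⊕ Fin m) (Fin m ⊕ Fin m) F) *ᵥ w) h9
    simp only [FormMaxSL.inv_mulVec_mulVec, Matrix.mulVec_zero] at this
    exact inc_injective (this.trans inc_zero.symm)
  -- orthogonal vectors of a vector on a rational line
  have prop : ∀ v u : Sp.V m F₀, v ≠ 0 → u ≠ 0 → Sp.bf m F₀ u v = 0 →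
      RL F₀ ((g : Matrix (Fin m ⊕ Fin m) (Fin m ⊕ Fin m) F) *ᵥ inc v) →
      RL F₀ ((g : Matrix (Fin m ⊕ Fin m) (Fin m ⊕ Fin m) F) *ᵥ inc u) := by
    intro v u hv hu huv ⟨c, z, hcz⟩
    have hcz0 : c • inc z ≠ 0 := by
      rw [← hcz]
      intro h9
      have := congrArg (fun w => ((g⁻¹ : GL (Fin m ⊕ Fin m) F) : Matrix (Fin m ⊕ Fin m) (Fin m ⊕ Fin m) F) *ᵥ w) h9
      simp only [FormMaxSL.inv_mulVec_mulVec, Matrix.mulVec_zero] at this
      exact hv (inc_injective (this.trans inc_zero.symm))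
    rw [smul_ne_zero_iff] at hcz0
    have h0 := mem_spGL.1 (hMS hg) (inc u) (inc v)
    rw [hcz, map_smul, bf_inc u v, huv, smul_eq_mul] at h0
    exact key u z hu (fun h9 => hcz0.2 (by rw [h9, inc_zero]))
      ((mul_eq_zero.1 h0).resolve_left hcz0.1)
  apply hgR
  refine rs_of_lines g fun u => ?_
  by_cases hu : u = 0
  · exact ⟨0, 0, by rw [hu, inc_zero, Matrix.mulVec_zero, zero_smul]⟩
  obtain ⟨v, hvx, hvu, hv0⟩ := exists_perp_notMem hm x u ⊥ (by rw [finrank_bot]; omega)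
  rw [Submodule.mem_bot] at hv0
  refine prop v u hv0 hu (by rw [Sp.bf_swap, hvu, neg_zero]) ?_
  exact prop x v hx hv0 hvx (key x y hx hy h)

theorem sp_le_of_not_rs [Finite F] {r : ℕ} (hr : r.Prime) (hcard : Nat.card F = Nat.card F₀ ^ r)
    {g : GL (Fin m ⊕ Fin m) F} (hg : g ∈ M) (hgR : ¬ RS F₀ g) : Cfsg.spGL m F ≤ M := by
  suffices h : ∃ μ ∉ F₀, G3 hm M (F₀ := F₀) μ by
    obtain ⟨μ, hμ, hgood⟩ := h
    exact sp_le hm M hM hMS hr hcard hμ hgood
  by_cases hrn : r < 2 * m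
  · -- coordinates are dependent
    obtain ⟨x, hline⟩ : ∃ x : Sp.V m F₀, ¬ RL F₀ ((g : Matrix (Fin m ⊕ Fin m) (Fin m ⊕ Fin m) F) *ᵥ inc x) := by
      by_contra h
      push Not at h
      exact hgR (rs_of_lines g h)
    have hx0 : x ≠ 0 := by
      rintro rfl
      exact hline ⟨0, 0, by rw [inc_zero, Matrix.mulVec_zero, zero_smul]⟩
    set w := (g : Matrix (Fin m ⊕ Fin m) (Fin m ⊕ Fin m) F) *ᵥ inc x with hw
    have hli : ¬ LinearIndependent F₀ w := by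
      intro hli
      have h1 := hli.fintype_card_le_finrank
      have hq0 : 2 ≤ Nat.card F₀ := Finite.one_lt_card
      have hc1 : Nat.card F = Nat.card F₀ ^ Module.finrank F₀ F := Module.natCard_eq_pow_finrank
      have hfr : Module.finrank F₀ F = r := Nat.pow_right_injective hq0 (hc1.symm.trans hcard)
      rw [Fintype.card_sum, Fintype.card_fin, hfr] at h1
      omega
    rw [Fintype.not_linearIndependent_iff] at hli
    obtain ⟨a, hasum, i, hai⟩ := hli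
    obtain ⟨y, hy0, hy⟩ := exists_bf_rep a
    refine dep hm M hM hMS hg hgR hx0 (hy0 fun h => hai (congrFun h i)) ?_
    rw [← hw, hy]
    exact hasum
  -- odd prime degree
  have hr2 : 2 < r := by omega
  by_contra hcon
  have hdep : ∀ g ∈ M, ¬ RS F₀ g → ∀ x y : Sp.V m F₀, x ≠ 0 → y ≠ 0 →
      Sp.bf m F ((g : Matrix (Fin m ⊕ Fin m) (Fin m ⊕ Fin m) F) *ᵥ inc x) (inc y) ≠ 0 := fun g hg hgR x y hx hy h =>
    hcon (dep hm M hM hMS hg hgR hx hy h)
  -- rationality of involutions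
  have hinv : ∀ z : GL (Fin m ⊕ Fin m) F, z * z = 1 → RS F₀ z → RM F₀ (z : Matrix (Fin m ⊕ Fin m) (Fin m ⊕ Fin m) F) := by
    rintro z hz ⟨c, hc0, hc⟩
    have h1 : RM F₀ ((c * c) • (1 : Matrix (Fin m ⊕ Fin m) (Fin m ⊕ Fin m) F)) := by
      have h2 := rm_mul hc hc
      rwa [smul_mul_smul_comm, ← Units.val_mul, hz, Units.val_one] at h2
    have h2 := h1 (.inl ⟨0, by omega⟩) (.inl ⟨0, by omega⟩)
    simp at h2
    have hcF := mem_of_sq_mem hr hr2 hcard h2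
    intro i j
    have h3 := F₀.mul_mem (F₀.inv_mem hcF) (hc i j)
    rwa [Matrix.smul_apply, smul_eq_mul, ← mul_assoc, inv_mul_cancel₀ hc0, one_mul] at h3
  -- centralisers of rational involutions
  have hcent : ∀ z : GL (Fin m ⊕ Fin m) F, RM F₀ (z : Matrix (Fin m ⊕ Fin m) (Fin m ⊕ Fin m) F) → z * z = 1 →
      (z : Matrix (Fin m ⊕ Fin m) (Fin m ⊕ Fin m) F) ≠ 1 → (z : Matrix (Fin m ⊕ Fin m) (Fin m ⊕ Fin m) F) ≠ -1 →
      ∀ h ∈ M, z * h = h * z → RS F₀ h := by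
    intro z hz hz2 hz1 hzm h hh hcomm
    by_contra hR
    obtain ⟨x, y, hx, hy, h0⟩ := dep_of_intertwine hz hz hz1 hzm
      (by rw [← Units.val_mul, hz2, Units.val_one])
      (show (z : Matrix (Fin m ⊕ Fin m) (Fin m ⊕ Fin m) F) * h = h * z by rw [← Units.val_mul, hcomm, Units.val_mul])
    exact hdep h hh hR x y hx hy h0
  obtain ⟨t, s, htS, hsS, htr, hsr, ht2, hs2, ht1, htm, hs1, hsm, hne, hne2⟩ :=
    exists_invols (F := F) (F₀ := F₀) hm
  have htM : t ∈ M := hM t htS (rm_rs htr)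
  have hsM : s ∈ M := hM s hsS (rm_rs hsr)
  obtain ⟨t', ht'⟩ : ∃ t', t' = g * s * g⁻¹ := ⟨_, rfl⟩
  have ht'2 : t' * t' = 1 := by
    rw [ht']
    calc g * s * g⁻¹ * (g * s * g⁻¹) = g * (s * s) * g⁻¹ := by group
      _ = 1 := by rw [hs2, mul_one, mul_inv_cancel]
  have ht'M : t' ∈ M := ht' ▸ M.mul_mem (M.mul_mem hg hsM) (M.inv_mem hg)
  have ht'R : ¬ RS F₀ t' := by
    intro hR
    have hrm := hinv t' ht'2 hR
    have h1 : (t' : Matrix (Fin m ⊕ Fin m) (Fin m ⊕ Fin m) F) ≠ 1 := by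
      intro h
      apply hs1
      have h9 : t' = 1 := Units.ext h
      rw [ht', mul_inv_eq_one, mul_eq_left] at h9
      rw [h9, Units.val_one]
    obtain ⟨x, y, hx, hy, h0⟩ := dep_of_intertwine hrm hsr h1 hsm
      (by rw [← Units.val_mul, hs2, Units.val_one])
      (show (t' : Matrix (Fin m ⊕ Fin m) (Fin m ⊕ Fin m) F) * g = g * s by
        rw [← Units.val_mul, ← Units.val_mul, ht', inv_mul_cancel_right])
    exact hdep g hg hgR x y hx hy h0
  obtain ⟨R, hR⟩ : ∃ R, R = t * t' := ⟨_, rfl⟩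
  have hti : t⁻¹ = t := inv_eq_of_mul_eq_one_right ht2
  have ht'i : t'⁻¹ = t' := inv_eq_of_mul_eq_one_right ht'2
  have hRinv : R⁻¹ = t' * t := by rw [hR, _root_.mul_inv_rev, hti, ht'i]
  have hflipt : ∀ k : ℕ, t * R ^ k = (R ^ k)⁻¹ * t := by
    intro k
    induction k with
    | zero => simp
    | succ k ih =>
      have e : t * R = R⁻¹ * t := by
        rw [hRinv, mul_assoc, ht2, mul_one, hR, ← mul_assoc, ht2, one_mul]
      have e2 : (R ^ (k + 1))⁻¹ = (R ^ k)⁻¹ * R⁻¹ := by rw [pow_succ', _root_.mul_inv_rev]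
      rw [pow_succ, ← mul_assoc, ih, mul_assoc, e, ← mul_assoc, ← e2, pow_succ]
  have ht'eq : t' = t * R := by rw [hR, ← mul_assoc, ht2, one_mul]
  have hconj : ∀ j : ℕ, R ^ j * t' * (R ^ j)⁻¹ = R ^ (2 * j) * t' := by
    intro j
    have e : t' * (R ^ j)⁻¹ = R ^ j * t' := by
      have e1 : t * (R ^ j)⁻¹ = R ^ j * t := by
        rw [mul_inv_eq_iff_eq_mul, mul_assoc, hflipt, ← mul_assoc, mul_inv_cancel, one_mul]
      have e2 : R * (R ^ j)⁻¹ = (R ^ j)⁻¹ * R := ((Commute.self_pow R j).inv_right).eq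
      rw [ht'eq, mul_assoc, e2, ← mul_assoc, e1, mul_assoc]
    rw [mul_assoc, e, ← mul_assoc, ← pow_add, two_mul]
  haveI : Finite (GL (Fin m ⊕ Fin m) F) := inferInstance
  have hord := pow_orderOf_eq_one R
  have hmpos : 0 < orderOf R := orderOf_pos R
  have htR : R * t' = t := by rw [hR, mul_assoc, ht'2, mul_one]
  rcases Nat.even_or_odd (orderOf R) with ⟨k, hk⟩ | ⟨k, hk⟩
  · -- a central involution
    rw [← two_mul] at hk
    obtain ⟨z, hz⟩ : ∃ z, z = R ^ k := ⟨_, rfl⟩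
    have hz1 : z ≠ 1 := hz ▸ pow_ne_one_of_lt_orderOf (by omega) (by omega)
    have hz2 : z * z = 1 := by rw [hz, ← pow_add, ← two_mul, ← hk, hord]
    have hzi : z⁻¹ = z := inv_eq_of_mul_eq_one_right hz2
    have hzt : t * z = z * t := by
      rw [hz, hflipt, ← hz, hzi]
    have hzt' : z * t' = t' * z := by
      rw [ht'eq, mul_assoc t, ← mul_assoc z, ← hzt, mul_assoc, hz, ← pow_succ, ← pow_succ']
    by_cases hzm : (z : Matrix (Fin m ⊕ Fin m) (Fin m ⊕ Fin m) F) = -1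
    · have h2 : (2 : F) ≠ 0 := by
        intro h2
        apply hz1
        refine Units.ext ?_
        rw [hzm, Units.val_one]
        ext i j
        rw [Matrix.neg_apply]
        linear_combination -(1 : Matrix (Fin m ⊕ Fin m) (Fin m ⊕ Fin m) F) i j * h2
      rcases Nat.even_or_odd k with ⟨l, hl⟩ | ⟨l, hl⟩
      · rw [← two_mul] at hl
        have hy : R ^ l * t * (R ^ l)⁻¹ = z * t := by
          rw [mul_assoc, hz, hl, two_mul, pow_add, mul_assoc]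
          congr 1
          rw [mul_inv_eq_iff_eq_mul, mul_assoc, hflipt, ← mul_assoc, mul_inv_cancel, one_mul]
        refine ((hne2 h2) (R ^ l)).2 ?_
        rw [hy, Units.val_mul, hzm, neg_one_mul]
      · refine ((hne2 h2) (R ^ (l + 1) * g)).1 ?_
        have : R ^ (l + 1) * g * s * (R ^ (l + 1) * g)⁻¹ = z * t := by
          rw [show R ^ (l + 1) * g * s * (R ^ (l + 1) * g)⁻¹ = R ^ (l + 1) * t' * (R ^ (l + 1))⁻¹ by
            rw [ht']; group, hconj, show 2 * (l + 1) = k + 1 by omega, pow_succ, mul_assoc, htR, hz]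
        rw [this, Units.val_mul, hzm, neg_one_mul]
    · have hzM : z ∈ M := hz ▸ M.pow_mem (hR ▸ M.mul_mem htM ht'M) k
      have hzR := hinv z hz2 (hcent t htr ht2 ht1 htm z hzM hzt)
      exact ht'R (hcent z hzR hz2 (fun h => hz1 (Units.ext h)) hzm t' ht'M hzt')
  · refine hne (R ^ (k + 1) * g) ?_
    rw [show R ^ (k + 1) * g * s * (R ^ (k + 1) * g)⁻¹ = R ^ (k + 1) * t' * (R ^ (k + 1))⁻¹ by
      rw [ht']; group, hconj, show 2 * (k + 1) = orderOf R + 1 by omega, pow_succ, hord, one_mul, htR]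

end

/-! ### An arbitrary rational structure -/

theorem mem_sup_iff (g : GL (Fin m ⊕ Fin m) F) :
    g ∈ (Matrix.GeneralLinearGroup.map (F₀.subtype : F₀ →+* F)).range ⊔ Cfsg.Geo.scalars (Fin m ⊕ Fin m) F ↔
      RS F₀ g := by
  haveI : (Cfsg.Geo.scalars (Fin m ⊕ Fin m) F).Normal := by
    refine ⟨fun a ha h => ?_⟩
    obtain ⟨c, hc⟩ := (Cfsg.Geo.mem_scalars_iff _).1 ha
    refine (Cfsg.Geo.mem_scalars_iff _).2 ⟨c, ?_⟩
    rw [Units.val_mul, Units.val_mul, hc, Matrix.mul_smul, mul_one, Matrix.smul_mul,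
      ← Units.val_mul, mul_inv_cancel, Units.val_one]
  constructor
  · intro hg
    rw [Subgroup.mem_sup_of_normal_right] at hg
    obtain ⟨_, ⟨h, rfl⟩, a, ha, rfl⟩ := hg
    obtain ⟨c, hc⟩ := (Cfsg.Geo.mem_scalars_iff _).1 ha
    refine ⟨(c : F)⁻¹, inv_ne_zero c.ne_zero, fun i j => ?_⟩
    rw [Units.val_mul, hc, Matrix.mul_smul, mul_one, smul_smul, inv_mul_cancel₀ c.ne_zero, one_smul]
    exact ((h : Matrix (Fin m ⊕ Fin m) (Fin m ⊕ Fin m) F₀) i j).2
  · rintro ⟨c, hc0, hc⟩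
    let X0 : Matrix (Fin m ⊕ Fin m) (Fin m ⊕ Fin m) F₀ := fun i j =>
      ⟨(c • (g : Matrix (Fin m ⊕ Fin m) (Fin m ⊕ Fin m) F)) i j, hc i j⟩
    have hX : (F₀.subtype).mapMatrix X0 = c • (g : Matrix (Fin m ⊕ Fin m) (Fin m ⊕ Fin m) F) := rfl
    have hdet : IsUnit X0.det := by
      rw [isUnit_iff_ne_zero]
      intro h
      have h1 := RingHom.map_det (F₀.subtype) X0
      rw [hX, h, map_zero, Matrix.det_smul] at h1
      have hg : (g : Matrix (Fin m ⊕ Fin m) (Fin m ⊕ Fin m) F).det ≠ 0 := (g.isUnit.map Matrix.detMonoidHom).ne_zero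
      exact mul_ne_zero (pow_ne_zero _ hc0) hg h1.symm
    have hX0 : IsUnit X0 := (Matrix.isUnit_iff_isUnit_det X0).2 hdet
    let s : GL (Fin m ⊕ Fin m) F := Units.map (Matrix.scalar (Fin m ⊕ Fin m) : F →+* Matrix (Fin m ⊕ Fin m) (Fin m ⊕ Fin m) F).toMonoidHom
      (Units.mk0 c hc0)⁻¹
    have e : g = Matrix.GeneralLinearGroup.map (F₀.subtype : F₀ →+* F) hX0.unit * s := by
      refine Units.ext ?_
      rw [Units.val_mul]
      show (g : Matrix (Fin m ⊕ Fin m) (Fin m ⊕ Fin m) F) = (F₀.subtype).mapMatrix (hX0.unit : Matrix (Fin m ⊕ Fin m) (Fin m ⊕ Fin m) F₀) *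
        Matrix.scalar (Fin m ⊕ Fin m) ((Units.mk0 c hc0)⁻¹ : Fˣ).val
      rw [IsUnit.unit_spec, hX, Units.val_inv_eq_inv_val, Units.val_mk0]
      ext i j
      simp [Matrix.mul_diagonal]
      field_simp
    rw [e]
    exact Subgroup.mul_mem _ (Subgroup.mem_sup_left ⟨_, rfl⟩) (Subgroup.mem_sup_right ⟨_, rfl⟩)

/-- A similitude with the same subfield group. -/
theorem exists_similitude (P : GL (Fin m ⊕ Fin m) F) {ζ : F} (hζ : ζ ≠ 0)
    (hP : Cfsg.Geo.IsFormRationalStructure (Cfsg.sympForm m F) F₀ ζ P) :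
    ∃ B : GL (Fin m ⊕ Fin m) F₀, ∀ u v : Sp.V m F,
      ζ * Sp.bf m F (((P * Matrix.GeneralLinearGroup.map (F₀.subtype : F₀ →+* F) B : GL (Fin m ⊕ Fin m) F) : Matrix (Fin m ⊕ Fin m) (Fin m ⊕ Fin m) F) *ᵥ u)
        (((P * Matrix.GeneralLinearGroup.map (F₀.subtype : F₀ →+* F) B : GL (Fin m ⊕ Fin m) F) : Matrix (Fin m ⊕ Fin m) (Fin m ⊕ Fin m) F) *ᵥ v) =
        Sp.bf m F u v := by
  classical
  have hval : ∀ u v : Sp.V m F₀, ζ * Sp.bf m F ((P : Matrix (Fin m ⊕ Fin m) (Fin m ⊕ Fin m) F) *ᵥ inc u)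
      ((P : Matrix (Fin m ⊕ Fin m) (Fin m ⊕ Fin m) F) *ᵥ inc v) ∈ F₀ := fun u v => by
    rw [Sp.bf_eq]; exact hP _ _ (fun i => (u i).2) (fun i => (v i).2)
  have add_r : ∀ u v w : Sp.V m F₀, (⟨_, hval u (v + w)⟩ : F₀) = ⟨_, hval u v⟩ + ⟨_, hval u w⟩ := fun u v w =>
    Subtype.ext (by simp [inc_add, Matrix.mulVec_add, mul_add])
  let A : Sp.V m F₀ →ₗ[F₀] Sp.V m F₀ →ₗ[F₀] F₀ := LinearMap.mk₂ F₀ (fun u v => ⟨_, hval u v⟩)
    (fun u v w => Subtype.ext (by simp [inc_add, Matrix.mulVec_add, mul_add]))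
    (fun a u v => Subtype.ext (by simp [inc_smul, Matrix.mulVec_smul]; ring))
    add_r
    (fun a u v => Subtype.ext (by simp [inc_smul, Matrix.mulVec_smul]; ring))
  have hA : ∀ u v, ((A u v : F₀) : F) = ζ * Sp.bf m F ((P : Matrix (Fin m ⊕ Fin m) (Fin m ⊕ Fin m) F) *ᵥ inc u)
      ((P : Matrix (Fin m ⊕ Fin m) (Fin m ⊕ Fin m) F) *ᵥ inc v) := fun u v => rfl
  have hAA : ∀ v, A v v = 0 := fun v => Subtype.ext (by rw [hA, Sp.bf_self, mul_zero]; rfl)
  obtain ⟨m', k, b, h1, h2, h3, h4⟩ := OrthBasis.exists_symplectic A hAA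
  have hk : k = 0 := by
    by_contra hk
    let j : Fin k := ⟨0, by omega⟩
    have h5 : ∀ x, Sp.bf m F ((P : Matrix (Fin m ⊕ Fin m) (Fin m ⊕ Fin m) F) *ᵥ inc (b (.inr j))) x = 0 := by
      intro x
      obtain ⟨y, rfl⟩ : ∃ y, (P : Matrix (Fin m ⊕ Fin m) (Fin m ⊕ Fin m) F) *ᵥ y = x :=
        ⟨_, FormMaxSL.mulVec_inv_mulVec P x⟩
      have h6 : ((Sp.bf m F ((P : Matrix (Fin m ⊕ Fin m) (Fin m ⊕ Fin m) F) *ᵥ inc (b (.inr j)))) ∘ₗ
          Matrix.toLin' (P : Matrix (Fin m ⊕ Fin m) (Fin m ⊕ Fin m) F)) = 0 := by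
        refine (Pi.basisFun F _).ext fun i => ?_
        have h7 := congrArg Subtype.val (h4 j (Pi.single i 1))
        rw [hA, inc_single] at h7
        simpa [hζ] using h7
      exact LinearMap.congr_fun h6 y
    have h8 := SpMax.bf_nondeg.1 _ h5
    have h9 := congrArg (fun w => ((P⁻¹ : GL (Fin m ⊕ Fin m) F) : Matrix (Fin m ⊕ Fin m) (Fin m ⊕ Fin m) F) *ᵥ w) h8
    simp only [FormMaxSL.inv_mulVec_mulVec, Matrix.mulVec_zero] at h9
    exact b.ne_zero (.inr j) (inc_injective (h9.trans inc_zero.symm))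
  subst hk
  have hm' : m' = m := by
    have h5 := Module.finrank_eq_card_basis b
    rw [Module.finrank_fintype_fun_eq_card] at h5
    simp at h5
    omega
  subst hm'
  let σ : (Fin m' ⊕ Fin m') ⊕ Fin 0 ≃ Fin m' ⊕ Fin m' := (Equiv.sumEmpty _ _).trans (Equiv.sumComm _ _)
  let b' := b.reindex σ
  have hb : ∀ i j, A (b' i) (b' j) = Sp.bf m' F₀ (Pi.single i 1) (Pi.single j 1) := by
    have hswap : ∀ x y, A y x = - A x y := fun x y => by
      have h9 := hAA (x + y)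
      simp only [map_add, LinearMap.add_apply, hAA] at h9
      linear_combination h9
    rintro (i | i) (j | j)
    · rw [show (Pi.single (Sum.inl i) 1 : Sp.V m' F₀) = Sp.e i from rfl, Sp.bf_e_left]
      simp [b', σ, h3]
    · rw [show (Pi.single (Sum.inl i) 1 : Sp.V m' F₀) = Sp.e i from rfl, Sp.bf_e_left]
      simp [b', σ, hswap (b (Sum.inl (Sum.inl j))), h1, Pi.single_apply, eq_comm]
    · rw [show (Pi.single (Sum.inr i) 1 : Sp.V m' F₀) = Sp.f i from rfl, Sp.bf_f_left]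
      simp [b', σ, h1, Pi.single_apply, eq_comm]
    · rw [show (Pi.single (Sum.inr i) 1 : Sp.V m' F₀) = Sp.f i from rfl, Sp.bf_f_left]
      simp [b', σ, h2]
  let T : Sp.V m' F₀ ≃ₗ[F₀] Sp.V m' F₀ := b'.equivFun.symm
  let B : GL (Fin m' ⊕ Fin m') F₀ :=
    { val := LinearMap.toMatrix' T.toLinearMap
      inv := LinearMap.toMatrix' T.symm.toLinearMap
      val_inv := by rw [← LinearMap.toMatrix'_comp]; simp
      inv_val := by rw [← LinearMap.toMatrix'_comp]; simp }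
  refine ⟨B, fun u v => ?_⟩
  set G := Matrix.GeneralLinearGroup.map (F₀.subtype : F₀ →+* F) B with hG
  have hGv : ∀ i, (G : Matrix (Fin m' ⊕ Fin m') (Fin m' ⊕ Fin m') F) *ᵥ Pi.single i 1 = inc (b' i) := by
    intro i
    have e1 : (B : Matrix (Fin m' ⊕ Fin m') (Fin m' ⊕ Fin m') F₀) *ᵥ Pi.single i 1 = b' i := by
      show LinearMap.toMatrix' T.toLinearMap *ᵥ Pi.single i 1 = b' i
      rw [LinearMap.toMatrix'_mulVec]
      show b'.equivFun.symm (Pi.single i 1) = b' i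
      rw [Module.Basis.equivFun_symm_apply]
      simp [Pi.single_apply]
    rw [← e1, ← inc_single (F₀ := F₀) i]
    funext k
    exact ((F₀.subtype).map_mulVec (B : Matrix (Fin m' ⊕ Fin m') (Fin m' ⊕ Fin m') F₀) _ k).symm
  have key : ζ • (Sp.bf m' F).compl₁₂ (Matrix.toLin' ((P * G : GL (Fin m' ⊕ Fin m') F) : Matrix (Fin m' ⊕ Fin m') (Fin m' ⊕ Fin m') F))
      (Matrix.toLin' ((P * G : GL (Fin m' ⊕ Fin m') F) : Matrix (Fin m' ⊕ Fin m') (Fin m' ⊕ Fin m') F)) = Sp.bf m' F := by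
    refine LinearMap.ext_basis (Pi.basisFun F _) (Pi.basisFun F _) fun i j => ?_
    simp only [LinearMap.smul_apply, LinearMap.compl₁₂_apply, Pi.basisFun_apply, Matrix.toLin'_apply,
      Units.val_mul, ← Matrix.mulVec_mulVec, hGv, smul_eq_mul]
    rw [← hA, hb, ← inc_single (F₀ := F₀) i, ← inc_single (F₀ := F₀) j, bf_inc]
  exact LinearMap.congr_fun (LinearMap.congr_fun key u) v

theorem maximal [Finite F] (hm : 7 ≤ m) {r : ℕ} (hr : r.Prime)
    (hcard : Nat.card F = Nat.card F₀ ^ r) (P : GL (Fin m ⊕ Fin m) F) {ζ : F} (hζ : ζ ≠ 0)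
    (hP : Cfsg.Geo.IsFormRationalStructure (Cfsg.sympForm m F) F₀ ζ P) :
    Cfsg.Geo.IsMaximalIn (Cfsg.spGL m F) (Cfsg.Geo.subfieldSubgroup F₀ P ⊓ Cfsg.spGL m F) := by
  obtain ⟨B, hB⟩ := exists_similitude P hζ hP
  obtain ⟨B1, hB1⟩ : ∃ B1, B1 = Matrix.GeneralLinearGroup.map (F₀.subtype : F₀ →+* F) B := ⟨_, rfl⟩
  rw [← hB1] at hB
  obtain ⟨Q, hQ⟩ : ∃ Q, Q = P * B1 := ⟨_, rfl⟩
  rw [← hQ] at hB
  have hconj : ∀ g : GL (Fin m ⊕ Fin m) F, Q * g * Q⁻¹ ∈ Cfsg.spGL m F ↔ g ∈ Cfsg.spGL m F := by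
    intro g
    rw [mem_spGL, mem_spGL]
    constructor
    · intro h u v
      have h1 := h ((Q : Matrix (Fin m ⊕ Fin m) (Fin m ⊕ Fin m) F) *ᵥ u) ((Q : Matrix (Fin m ⊕ Fin m) (Fin m ⊕ Fin m) F) *ᵥ v)
      simp only [Units.val_mul, ← Matrix.mulVec_mulVec, FormMaxSL.inv_mulVec_mulVec] at h1
      rw [← hB u v, ← h1, hB]
    · intro h u v
      obtain ⟨u, rfl⟩ : ∃ w, (Q : Matrix (Fin m ⊕ Fin m) (Fin m ⊕ Fin m) F) *ᵥ w = u := ⟨_, FormMaxSL.mulVec_inv_mulVec Q u⟩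
      obtain ⟨v, rfl⟩ : ∃ w, (Q : Matrix (Fin m ⊕ Fin m) (Fin m ⊕ Fin m) F) *ᵥ w = v := ⟨_, FormMaxSL.mulVec_inv_mulVec Q v⟩
      simp only [Units.val_mul, ← Matrix.mulVec_mulVec, FormMaxSL.inv_mulVec_mulVec]
      have h1 := h u v
      rw [← hB u v, ← hB] at h1
      exact mul_left_cancel₀ hζ h1
  have hB1m : B1 ∈ (Matrix.GeneralLinearGroup.map (F₀.subtype : F₀ →+* F)).range ⊔ Cfsg.Geo.scalars (Fin m ⊕ Fin m) F :=
    hB1 ▸ Subgroup.mem_sup_left ⟨B, rfl⟩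
  have hmem : ∀ g, Q * g * Q⁻¹ ∈ Cfsg.Geo.subfieldSubgroup F₀ P ⊓ Cfsg.spGL m F ↔
      RS F₀ g ∧ g ∈ Cfsg.spGL m F := by
    intro g
    rw [Subgroup.mem_inf, hconj, ← mem_sup_iff, Cfsg.Geo.subfieldSubgroup, Subgroup.mem_map]
    constructor
    · rintro ⟨⟨g', hg', he⟩, hS⟩
      refine ⟨?_, hS⟩
      simp only [MulEquiv.toMonoidHom_eq_coe, MonoidHom.coe_coe, MulAut.conj_apply] at he
      have e : g = B1⁻¹ * g' * B1 := by
        calc g = Q⁻¹ * (Q * g * Q⁻¹) * Q := by group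
          _ = _ := by rw [← he, hQ]; group
      rw [e]
      exact Subgroup.mul_mem _ (Subgroup.mul_mem _ (Subgroup.inv_mem _ hB1m) hg') hB1m
    · rintro ⟨hg, hS⟩
      refine ⟨⟨B1 * g * B1⁻¹, Subgroup.mul_mem _ (Subgroup.mul_mem _ hB1m hg) (Subgroup.inv_mem _ hB1m), ?_⟩, hS⟩
      simp only [MulEquiv.toMonoidHom_eq_coe, MonoidHom.coe_coe, MulAut.conj_apply]
      rw [hQ]; group
  refine ⟨lt_of_le_of_ne inf_le_right ?_, ?_⟩
  · intro heq
    obtain ⟨a, ha⟩ : ∃ a : F, a ∉ F₀ := by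
      by_contra h
      push Not at h
      have h2 := hr.two_le
      have hq0 : 2 ≤ Nat.card F₀ := Finite.one_lt_card
      have : Nat.card F₀ = Nat.card F := Nat.card_congr (Equiv.subtypeUnivEquiv h)
      rw [← this] at hcard
      have h3 := Nat.pow_right_injective hq0 ((pow_one _).trans hcard)
      omega
    let i0 : Fin m := ⟨0, by omega⟩
    let i1 : Fin m := ⟨1, by omega⟩
    obtain ⟨⟨c, hc0, hc⟩, -⟩ := (hmem _).1 (heq.ge ((hconj _).2 (tvGL_mem (Sp.e i0) a)))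
    have e : ∀ i j, ((tvGL (Sp.e i0) a : GL (Fin m ⊕ Fin m) F) : Matrix (Fin m ⊕ Fin m) (Fin m ⊕ Fin m) F) i j =
        (Pi.single j (1 : F) : Sp.V m F) i + (a * Sp.bf m F (Pi.single j (1 : F)) (Sp.e i0)) * (Sp.e i0 : Sp.V m F) i := by
      intro i j
      have := congrFun (tvGL_mulVec (Sp.e i0) a (Pi.single j 1)) i
      rw [Matrix.mulVec_single_one] at this
      simpa using this
    have h1 := hc (.inl i1) (.inl i1)
    have h2 := hc (.inl i0) (.inr i0)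
    rw [Matrix.smul_apply, e, smul_eq_mul] at h1 h2
    rw [show (Pi.single (Sum.inr i0) 1 : Sp.V m F) = Sp.f i0 from rfl, Sp.bf_f_e] at h2
    simp [i0, i1, Sp.e, Sp.f] at h1 h2
    apply ha
    have := F₀.mul_mem (F₀.inv_mem h1) h2
    rwa [← mul_assoc, inv_mul_cancel₀ hc0, one_mul] at this
  intro M hHM hMS
  by_cases hMH : M ≤ Cfsg.Geo.subfieldSubgroup F₀ P ⊓ Cfsg.spGL m F
  · exact Or.inl (le_antisymm hMH hHM)
  right
  refine le_antisymm hMS ?_
  obtain ⟨g, hgM, hgH⟩ := SetLike.not_le_iff_exists.1 hMH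
  let g' := Q⁻¹ * g * Q
  have hg' : Q * g' * Q⁻¹ = g := by simp only [g']; group
  have hgR : ¬ RS F₀ g' := by
    intro h
    apply hgH
    rw [← hg']
    exact (hmem g').2 ⟨h, (hconj g').1 (hg'.symm ▸ hMS hgM)⟩
  have h := sp_le_of_not_rs hm (M.comap (MulAut.conj Q).toMonoidHom)
    (fun x hx hxR => hHM ((hmem x).2 ⟨hxR, hx⟩))
    (fun x hx => (hconj x).1 (hMS hx)) hr hcard
    (g := g') (show Q * g' * Q⁻¹ ∈ M by rw [hg']; exact hgM) hgR
  intro x hx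
  have h1 := h ((hconj (Q⁻¹ * x * Q)).1 (by simpa [mul_assoc] using hx))
  rw [Subgroup.mem_comap] at h1
  simpa [mul_assoc] using h1

end CfsgLib.Lie.SubfieldSp
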