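import Mathlib

/-!
Subgroups of small index in symmetric groups.
-/

set_option autoImplicit false

namespace CfsgLib.Lie.SymIndex

open Equiv MulAction

variable {Ω : Type*} [Fintype Ω] [DecidableEq Ω]

theorem normal_cases (h5 : 5 ≤ Fintype.card Ω) (N : Subgroup (Perm Ω)) (hN : N.Normal) :
    N = ⊥ ∨ alternatingGroup Ω ≤ N := by
  have hs : IsSimpleGroup (alternatingGroup Ω) :=
    alternatingGroup.isSimpleGroup (by rwa [Nat.card_eq_fintype_card])
  rcases (Subgroup.Normal.subgroupOf hN (alternatingGroup Ω)).eq_bot_or_eq_top with h | h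
  · left
    rw [Subgroup.eq_bot_iff_forall]
    intro g hg
    by_contra hne
    obtain ⟨x, hx⟩ : ∃ x, g x ≠ x := by
      by_contra hc
      push_neg at hc
      exact hne (Equiv.ext hc)
    have hcard : ({x, g x} : Finset Ω).card < Fintype.card Ω := by
      have : ({x, g x} : Finset Ω).card ≤ 2 := Finset.card_le_two
      omega
    obtain ⟨z, -, hz⟩ := Finset.exists_mem_notMem_of_card_lt_card
      (s := ({x, g x} : Finset Ω)) (t := Finset.univ) (by rwa [Finset.card_univ])
    simp only [Finset.mem_insert, Finset.mem_singleton, not_or] at hz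
    set s := Equiv.swap (g x) z with hs'
    have h1 : s * g * s⁻¹ * g⁻¹ ∈ N := mul_mem (hN.conj_mem g hg s) (inv_mem hg)
    have h2 : s * g * s⁻¹ * g⁻¹ ∈ alternatingGroup Ω := by
      rw [Equiv.Perm.mem_alternatingGroup]
      simp only [map_mul, map_inv]
      rw [mul_right_comm (Equiv.Perm.sign s), mul_inv_cancel, one_mul, mul_inv_cancel]
    have h3 : s * g * s⁻¹ * g⁻¹ = 1 := by
      have : (⟨_, h2⟩ : alternatingGroup Ω) ∈ N.subgroupOf (alternatingGroup Ω) := h1
      rw [h, Subgroup.mem_bot] at this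
      exact congrArg Subtype.val this
    rw [mul_inv_eq_one, mul_inv_eq_iff_eq_mul] at h3
    have h4 := congrArg (fun f : Perm Ω => f x) h3
    simp only [Equiv.Perm.mul_apply, hs', Equiv.swap_apply_left,
      Equiv.swap_apply_of_ne_of_ne hx.symm (Ne.symm hz.1)] at h4
    exact hz.2 h4
  · exact Or.inr (Subgroup.subgroupOf_eq_top.1 h)

theorem factorial_le_of_hom (H : Subgroup (Perm Ω)) (h5 : 5 ≤ Fintype.card Ω)
    (hH : ¬ alternatingGroup Ω ≤ H) : (Fintype.card Ω).factorial ≤ H.index.factorial := by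
  classical
  let φ := MulAction.toPermHom (Perm Ω) (Perm Ω ⧸ H)
  have hker : φ.ker = ⊥ := by
    rcases normal_cases h5 φ.ker (MonoidHom.normal_ker φ) with h | h
    · exact h
    · exfalso
      refine hH (le_trans h fun g hg => ?_)
      have := congrArg (fun f : Perm (Perm Ω ⧸ H) => f ((1 : Perm Ω) : Perm Ω ⧸ H))
        (MonoidHom.mem_ker.1 hg)
      simp only [φ, MulAction.toPermHom_apply, MulAction.toPerm_apply, Equiv.Perm.one_apply,
        MulAction.Quotient.smul_coe, smul_eq_mul, mul_one] at this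
      simpa using (QuotientGroup.eq.1 this)
  have h := Nat.card_le_card_of_injective φ ((MonoidHom.ker_eq_bot_iff φ).1 hker)
  rwa [Nat.card_perm, Nat.card_perm, Nat.card_eq_fintype_card, ← Subgroup.index] at h

theorem two_le_index {H : Subgroup (Perm Ω)} (hH : H ≠ ⊤) : 2 ≤ H.index := by
  have h0 : H.index ≠ 0 := Subgroup.index_ne_zero_of_finite
  have h1 : H.index ≠ 1 := fun h => hH (Subgroup.index_eq_one.1 h)
  omega

theorem le_index (h4 : Fintype.card Ω ≠ 4) {H : Subgroup (Perm Ω)} (hH : H ≠ ⊤)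
    (hA : H ≠ alternatingGroup Ω) : Fintype.card Ω ≤ H.index := by
  have h2 := two_le_index hH
  by_cases h5 : 5 ≤ Fintype.card Ω
  · by_cases hle : alternatingGroup Ω ≤ H
    · exfalso
      have : Nontrivial Ω := Fintype.one_lt_card_iff_nontrivial.1 (by omega)
      have hd := Subgroup.index_dvd_of_le hle
      rw [alternatingGroup.index_eq_two] at hd
      have := Nat.le_of_dvd two_pos hd
      exact hA (Equiv.Perm.eq_alternatingGroup_of_index_eq_two (by omega))
    · by_contra hlt
      have h := factorial_le_of_hom H h5 hle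
      exact absurd h (not_le.2 ((Nat.factorial_lt (by omega)).2 (not_le.1 hlt)))
  · by_contra hlt
    have h3 : Fintype.card Ω = 3 ∧ H.index = 2 := by omega
    have : Nontrivial Ω := Fintype.one_lt_card_iff_nontrivial.1 (by omega)
    exact hA (Equiv.Perm.eq_alternatingGroup_of_index_eq_two h3.2)

theorem choose_gt : ∀ n k : ℕ, 2 ≤ k → k + 2 ≤ n → n < n.choose k := by
  intro n
  induction n with
  | zero => intro k h1 h2; omega
  | succ n ih =>
    intro k h1 h2
    obtain ⟨j, rfl⟩ : ∃ j, k = j + 1 := ⟨k - 1, by omega⟩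
    rw [Nat.choose_succ_succ]
    have ha : n ≤ n.choose j := by
      rcases Nat.eq_or_lt_of_le (show 1 ≤ j by omega) with h | h
      · subst h; simp
      · exact (ih j (by omega) (by omega)).le
    have hb : n ≤ n.choose (j + 1) := by
      rcases Nat.lt_or_ge n (j + 1 + 2) with h | h
      · have hn : n = j + 1 + 1 := by omega
        subst hn
        rw [Nat.choose_succ_self_right]
      · exact (ih (j + 1) h1 h).le
    change n + 1 < n.choose j + n.choose (j + 1)
    omega

theorem eq_stabilizer_of_fix {H : Subgroup (Perm Ω)} (hH : H.index = Fintype.card Ω) (x : Ω)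
    (hx : ∀ h ∈ H, h x = x) : H = stabilizer (Perm Ω) x := by
  refine Subgroup.eq_of_le_of_card_ge (fun h hh => hx h hh) ?_
  have h1 := H.card_mul_index
  have h2 := (stabilizer (Perm Ω) x).card_mul_index
  rw [index_stabilizer_of_transitive, Nat.card_eq_fintype_card (α := Ω)] at h2
  rw [hH, ← h2] at h1
  have : 0 < Fintype.card Ω := Fintype.card_pos_iff.2 ⟨x⟩
  exact (Nat.eq_of_mul_eq_mul_right this h1).ge

theorem card_of_index {H : Subgroup (Perm Ω)} (hH : H.index = Fintype.card Ω)
    (hpos : 1 ≤ Fintype.card Ω) : Nat.card H = (Fintype.card Ω - 1).factorial := by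
  have h1 := H.card_mul_index
  rw [hH, Nat.card_perm, Nat.card_eq_fintype_card (α := Ω),
    ← Nat.mul_factorial_pred (n := Fintype.card Ω) (by omega), mul_comm] at h1
  exact Nat.eq_of_mul_eq_mul_left (by omega) h1

/-- An invariant set of size k in a subgroup of index n gives k ∈ {0,1,n-1,n}. -/
theorem invariant_small {H : Subgroup (Perm Ω)} (hH : H.index = Fintype.card Ω) (O : Finset Ω)
    (hO : ∀ h ∈ H, ∀ x, h x ∈ O ↔ x ∈ O) :
    O.card ≤ 1 ∨ Fintype.card Ω ≤ O.card + 1 := by
  by_contra hc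
  have h1 : 2 ≤ O.card ∧ O.card + 2 ≤ Fintype.card Ω := by omega
  have hgt := choose_gt (Fintype.card Ω) O.card h1.1 h1.2
  let f : H → Perm {x // x ∈ O} × Perm {x // x ∉ O} := fun h =>
    ((h : Perm Ω).subtypePerm (fun x => hO _ h.2 x),
      (h : Perm Ω).subtypePerm (fun x => not_congr (hO _ h.2 x)))
  have hf : Function.Injective f := by
    intro a b hab
    refine Subtype.ext (Equiv.ext fun x => ?_)
    by_cases hx : x ∈ O
    · exact congrArg Subtype.val (Equiv.congr_fun (congrArg Prod.fst hab) (⟨x, hx⟩ : {x // x ∈ O}))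
    · exact congrArg Subtype.val (Equiv.congr_fun (congrArg Prod.snd hab) (⟨x, hx⟩ : {x // x ∉ O}))
  have h2 := Nat.card_le_card_of_injective f hf
  rw [Nat.card_prod, Nat.card_perm, Nat.card_perm, Nat.card_eq_fintype_card (α := {x // x ∈ O}),
    Nat.card_eq_fintype_card (α := {x // x ∉ O}), Fintype.card_subtype_compl, Fintype.card_coe,
    card_of_index hH (by omega)] at h2
  have h3 := Nat.choose_mul_factorial_mul_factorial (show O.card ≤ Fintype.card Ω by omega)
  rw [mul_assoc, ← Nat.mul_factorial_pred (n := Fintype.card Ω) (by omega)] at h3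
  have h4 : Fintype.card Ω * (O.card.factorial * (Fintype.card Ω - O.card).factorial) <
      (Fintype.card Ω).choose O.card * (O.card.factorial * (Fintype.card Ω - O.card).factorial) :=
    Nat.mul_lt_mul_of_pos_right hgt (Nat.mul_pos (Nat.factorial_pos _) (Nat.factorial_pos _))
  rw [h3] at h4
  exact absurd h2 (not_le.2 (Nat.lt_of_mul_lt_mul_left h4))

theorem eq_stabilizer_of_not_transitive {H : Subgroup (Perm Ω)} (hH : H.index = Fintype.card Ω)
    (ht : ¬ IsPretransitive H Ω) : ∃ x : Ω, H = stabilizer (Perm Ω) x := by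
  classical
  obtain ⟨a, b, hab⟩ : ∃ a b : Ω, ∀ h : H, (h : Perm Ω) a ≠ b := by
    by_contra hc
    push_neg at hc
    exact ht ⟨fun a b => hc a b⟩
  let O : Finset Ω := Finset.univ.filter (fun y => ∃ h : H, (h : Perm Ω) a = y)
  have hO : ∀ h ∈ H, ∀ x, h x ∈ O ↔ x ∈ O := by
    intro h hh x
    simp only [O, Finset.mem_filter, Finset.mem_univ, true_and]
    constructor
    · rintro ⟨k, hk⟩
      refine ⟨⟨h⁻¹, H.inv_mem hh⟩ * k, ?_⟩
      simp [hk]
    · rintro ⟨k, rfl⟩
      exact ⟨⟨h, hh⟩ * k, rfl⟩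
  have ha : a ∈ O := Finset.mem_filter.2 ⟨Finset.mem_univ _, 1, rfl⟩
  have hb : b ∉ O := fun hb => by
    obtain ⟨-, h, hh⟩ := Finset.mem_filter.1 hb
    exact hab h hh
  rcases invariant_small hH O hO with h | h
  · refine ⟨a, eq_stabilizer_of_fix hH a fun g hg => ?_⟩
    exact Finset.card_le_one.1 h _ ((hO g hg a).2 ha) _ ha
  · refine ⟨b, eq_stabilizer_of_fix hH b fun g hg => ?_⟩
    have h1 : Oᶜ.card ≤ 1 := by rw [Finset.card_compl]; omega
    exact Finset.card_le_one.1 h1 _ (Finset.mem_compl.2 ((hO g hg b).not.2 hb)) _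
      (Finset.mem_compl.2 hb)

theorem falling_ne (n : ℕ) (h5 : 5 ≤ n) (h6 : n ≠ 6) : ∀ k : ℕ, 2 ≤ k → 2 * k ≤ n →
    n.factorial ≠ n.choose 2 * ((n - 2 * k).factorial * 2 ^ k * k.factorial) := by
  intro k hk hn he
  have key : (n - 2).descFactorial (2 * k - 2) = 2 ^ (k - 1) * k.factorial := by
    have h1 := Nat.choose_mul_factorial_mul_factorial (show 2 ≤ n by omega)
    have h2 := Nat.factorial_mul_descFactorial (show 2 * k - 2 ≤ n - 2 by omega)
    rw [show n - 2 - (2 * k - 2) = n - 2 * k by omega] at h2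
    rw [← h1, mul_assoc] at he
    have h3 := Nat.eq_of_mul_eq_mul_left (Nat.choose_pos (show 2 ≤ n by omega)) he
    rw [← h2, Nat.factorial_two] at h3
    obtain ⟨j, rfl⟩ : ∃ j, k = j + 1 := ⟨k - 1, by omega⟩
    rw [pow_succ] at h3
    rw [Nat.add_sub_cancel]
    refine Nat.eq_of_mul_eq_mul_left (Nat.mul_pos two_pos (Nat.factorial_pos (n - 2 * (j + 1)))) ?_
    linear_combination h3
  have hbig : ∀ j, 2 ^ (j + 3) * (j + 4).factorial < (2 * j + 6).factorial := by
    intro j
    induction j with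
    | zero => decide
    | succ j ih =>
      rw [show 2 * (j + 1) + 6 = (2 * j + 6) + 1 + 1 by omega, Nat.factorial_succ (2 * j + 6 + 1),
        Nat.factorial_succ (2 * j + 6), show j + 1 + 4 = (j + 4) + 1 by omega,
        Nat.factorial_succ (j + 4), show j + 1 + 3 = (j + 3) + 1 by omega, pow_succ]
      calc 2 ^ (j + 3) * 2 * ((j + 4 + 1) * (j + 4).factorial)
          = (2 * (j + 5)) * (2 ^ (j + 3) * (j + 4).factorial) := by ring
        _ < (2 * (j + 5)) * (2 * j + 6).factorial := Nat.mul_lt_mul_of_pos_left ih (by omega)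
        _ ≤ ((2 * j + 8) * (2 * j + 7)) * (2 * j + 6).factorial :=
          Nat.mul_le_mul_right _ (by nlinarith)
        _ = _ := by ring
  rcases Nat.lt_or_ge k 4 with h | h
  · interval_cases k
    · obtain ⟨d, rfl⟩ : ∃ d, n = d + 5 := ⟨n - 5, by omega⟩
      rw [show d + 5 - 2 = d + 3 by omega] at key
      simp [Nat.descFactorial_succ, Nat.descFactorial_zero, Nat.factorial] at key
      nlinarith
    · obtain ⟨d, rfl⟩ : ∃ d, n = d + 7 := ⟨n - 7, by omega⟩
      rw [show d + 7 - 2 = d + 5 by omega] at key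
      have : (0 + 5).descFactorial (2 * 3 - 2) ≤ (d + 5).descFactorial (2 * 3 - 2) :=
        Nat.descFactorial_le _ (by omega)
      rw [key] at this
      simp [Nat.descFactorial_succ, Nat.descFactorial_zero, Nat.factorial] at this
  · obtain ⟨j, rfl⟩ : ∃ j, k = j + 4 := ⟨k - 4, by omega⟩
    have h1 : (2 * (j + 4) - 2).descFactorial (2 * (j + 4) - 2) ≤
        (n - 2).descFactorial (2 * (j + 4) - 2) := Nat.descFactorial_le _ (by omega)
    rw [Nat.descFactorial_self, key, show 2 * (j + 4) - 2 = 2 * j + 6 by omega,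
      show j + 4 - 1 = j + 3 by omega] at h1
    exact absurd h1 (not_le.2 (hbig j))

/-- Automorphisms of S_n preserve transpositions, n ≥ 5, n ≠ 6. -/
theorem map_isSwap (ψ : Perm Ω ≃* Perm Ω) (h5 : 5 ≤ Fintype.card Ω) (h6 : Fintype.card Ω ≠ 6)
    {σ : Perm Ω} (hσ : σ.IsSwap) : (ψ σ).IsSwap := by
  classical
  have hct : σ.cycleType = {2} := Perm.isSwap_iff_cycleType.1 hσ
  have ho : orderOf (ψ σ) = 2 := by rw [MulEquiv.orderOf_eq, hσ.orderOf]
  obtain ⟨j, hj⟩ := Perm.cycleType_prime_order (σ := ψ σ) (by rw [ho]; exact Nat.prime_two)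
  rw [ho] at hj
  have heq : ({g | g.cycleType = σ.cycleType} : Finset (Perm Ω)).card =
      ({g | g.cycleType = (ψ σ).cycleType} : Finset (Perm Ω)).card := by
    refine Finset.card_equiv ψ.toEquiv fun g => ?_
    simp only [Finset.mem_filter, Finset.mem_univ, true_and, ← Perm.isConj_iff_cycleType_eq]
    refine ⟨fun h => ψ.toMonoidHom.map_isConj h, fun h => ?_⟩
    simpa using ψ.symm.toMonoidHom.map_isConj h
  rw [Perm.isSwap_iff_cycleType, hj]
  by_contra hne
  have hj1 : 2 ≤ j + 1 := by
    rcases Nat.eq_zero_or_pos j with h | h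
    · subst h; simp at hne
    · omega
  generalize j + 1 = k at hj hj1
  have hk0 : k ≠ 0 := by omega
  have hsum := (ψ σ).sum_cycleType
  have hle : 2 * k ≤ Fintype.card Ω := by
    have := Finset.card_le_univ (ψ σ).support
    rw [← hsum, hj, Multiset.sum_replicate, smul_eq_mul] at this
    omega
  rw [Perm.card_of_cycleType, Perm.card_of_cycleType, hct, hj] at heq
  have e1 : ∀ a ∈ ({2} : Multiset ℕ), 2 ≤ a := fun a ha => by simp at ha; omega
  have e2 : ∀ a ∈ Multiset.replicate k 2, 2 ≤ a := fun a ha => by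
    rw [Multiset.eq_of_mem_replicate ha]
  rw [if_pos ⟨by simp; omega, e1⟩, if_pos ⟨by simp; omega, e2⟩] at heq
  simp [Multiset.toFinset_replicate, hk0] at heq
  set n := Fintype.card Ω with hn
  refine falling_ne n h5 h6 k hj1 hle ?_
  have hc2 : n.choose 2 = n.factorial / ((n - 2).factorial * 2) := by
    rw [Nat.choose_eq_factorial_div_factorial (by omega), Nat.factorial_two, mul_comm]
  have hd2 : (n - 2 * k).factorial * 2 ^ k * k.factorial ∣ n.factorial := by
    have hh := Perm.card_isConj_mul_eq (ψ σ)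
    rw [hj] at hh
    refine Dvd.intro_left (Nat.card {h : Perm Ω | IsConj (ψ σ) h}) ?_
    simpa [Multiset.toFinset_replicate, hk0, mul_comm, mul_assoc, mul_left_comm, hn] using hh
  rw [show k * 2 = 2 * k by ring, ← hc2] at heq
  rw [heq, Nat.mul_comm, Nat.mul_div_cancel' hd2]

/-- Subgroups of index n are point stabilisers, n ≠ 6. -/
theorem eq_stabilizer (h6 : Fintype.card Ω ≠ 6) (H : Subgroup (Perm Ω))
    (hH : H.index = Fintype.card Ω) : ∃ x : Ω, H = stabilizer (Perm Ω) x := by
  classical
  have hpos : 1 ≤ Fintype.card Ω := by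
    rw [← hH]; exact Nat.one_le_iff_ne_zero.2 Subgroup.index_ne_zero_of_finite
  by_cases h5 : 5 ≤ Fintype.card Ω
  · have hA : ¬ alternatingGroup Ω ≤ H := fun hle => by
      have : Nontrivial Ω := Fintype.one_lt_card_iff_nontrivial.1 (by omega)
      have hd := Subgroup.index_dvd_of_le hle
      rw [alternatingGroup.index_eq_two, hH] at hd
      have := Nat.le_of_dvd two_pos hd
      omega
    have hker : (MulAction.toPermHom (Perm Ω) (Perm Ω ⧸ H)).ker = ⊥ := by
      rcases normal_cases h5 _ (MonoidHom.normal_ker (MulAction.toPermHom (Perm Ω) (Perm Ω ⧸ H))) with h | h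
      · exact h
      · refine absurd (le_trans h ?_) hA
        rw [← Subgroup.normalCore_eq_ker]
        exact Subgroup.normalCore_le H
    let e : (Perm Ω ⧸ H) ≃ Ω := Fintype.equivOfCardEq (by
      rw [← Nat.card_eq_fintype_card, ← Subgroup.index, hH])
    let f := e.permCongrHom.toMonoidHom.comp (MulAction.toPermHom (Perm Ω) (Perm Ω ⧸ H))
    have hf : Function.Injective f :=
      e.permCongrHom.injective.comp ((MonoidHom.ker_eq_bot_iff _).1 hker)
    let ψ : Perm Ω ≃* Perm Ω := MulEquiv.ofBijective f (Finite.injective_iff_bijective.1 hf)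
    set a := e ((1 : Perm Ω) : Perm Ω ⧸ H)
    have hmem : ∀ g, g ∈ H ↔ ψ g a = a := by
      intro g
      have : ψ g a = e (g • ((1 : Perm Ω) : Perm Ω ⧸ H)) := by
        change e (MulAction.toPermHom (Perm Ω) (Perm Ω ⧸ H) g (e.symm a)) = _
        simp [a]
      rw [this, e.injective.eq_iff, MulAction.Quotient.smul_coe, smul_eq_mul, mul_one, QuotientGroup.eq,
        mul_one, inv_mem_iff]
    by_contra hno
    push_neg at hno
    have ht : IsPretransitive H Ω := by
      by_contra ht
      obtain ⟨x, hx⟩ := eq_stabilizer_of_not_transitive hH ht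
      exact hno x hx
    let S : Set (Perm Ω) := {g | g.IsSwap ∧ g ∈ H}
    have hgen : H ≤ Subgroup.closure S := by
      intro g hg
      have hfix := (hmem g).1 hg
      have hsub : {x : Perm {x // x ≠ a} | True} ⊆ Set.univ := fun _ _ => trivial
      let ρ : Perm {x // x ≠ a} →* Perm Ω := Perm.ofSubtype
      have hρ : ψ g = ρ ((ψ g).subtypePerm (p := fun x => x ≠ a)
          (fun x => not_congr ⟨fun h => by rw [← hfix] at h; exact (ψ g).injective h,
            fun h => by rw [h, hfix]⟩)) := by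
        rw [Perm.ofSubtype_subtypePerm]
        intro x hx hxa
        exact hx (hxa ▸ hfix)
      have hin : ψ g ∈ (Subgroup.closure {x : Perm {x // x ≠ a} | x.IsSwap}).map ρ := by
        rw [Perm.closure_isSwap, hρ]
        exact ⟨_, Subgroup.mem_top _, rfl⟩
      rw [MonoidHom.map_closure] at hin
      have hin2 : g ∈ (Subgroup.closure (ρ '' {x : Perm {x // x ≠ a} | x.IsSwap})).map
          ψ.symm.toMonoidHom := ⟨ψ g, hin, ψ.symm_apply_apply g⟩
      rw [MonoidHom.map_closure] at hin2
      refine Subgroup.closure_mono ?_ hin2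
      rintro _ ⟨_, ⟨s, hs, rfl⟩, rfl⟩
      refine ⟨map_isSwap ψ.symm h5 h6 hs.of_subtype_isSwap, (hmem _).2 ?_⟩
      change ψ (ψ.symm (ρ s)) a = a
      rw [ψ.apply_symm_apply]
      exact Perm.ofSubtype_apply_of_not_mem s (not_not.2 rfl)
    have htc : IsPretransitive (Subgroup.closure S) Ω := ⟨fun x y => by
      obtain ⟨h, hh⟩ := exists_smul_eq H x y
      exact ⟨⟨h, hgen h.2⟩, hh⟩⟩
    have htop := _root_.closure_of_isSwap_of_isPretransitive (S := S) (fun _ h => h.1)
    have : H = ⊤ := top_le_iff.1 (htop ▸ (Subgroup.closure_le H).2 (fun _ h => h.2))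
    rw [this, Subgroup.index_top] at hH
    omega
  by_cases ht : IsPretransitive H Ω
  swap
  · exact eq_stabilizer_of_not_transitive hH ht
  obtain ⟨x⟩ : Nonempty Ω := Fintype.card_pos_iff.1 (by omega)
  have hd : (stabilizer H x).index = Fintype.card Ω := by
    rw [index_stabilizer_of_transitive, Nat.card_eq_fintype_card]
  have h1 := (stabilizer H x).index_dvd_card
  rw [hd, card_of_index hH hpos] at h1
  refine ⟨x, eq_stabilizer_of_fix hH x ?_⟩
  intro h hh
  have hn : Fintype.card Ω = 1 := by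
    rcases Nat.lt_or_ge (Fintype.card Ω) 2 with h2 | h2
    · omega
    · exfalso
      generalize Fintype.card Ω = n at h1 h5 h2
      interval_cases n <;> revert h1 <;> decide
  exact (Fintype.card_le_one_iff.1 hn.le) _ _

end CfsgLib.Lie.SymIndex
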