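import Mathlib

/-!
Odd characteristic: an isometry of a symplectic space squaring to a scalar splits the space into invariant planes.
-/

set_option autoImplicit false
set_option linter.unusedSectionVars false

namespace CfsgLib.Lie.SympInvolution

open Module Submodule

variable {F : Type*} [Field F] {V : Type*} [AddCommGroup V] [Module F V] [FiniteDimensional F V]

/-- an invariant plane with an adapted pair -/
def Plane (B : LinearMap.BilinForm F V) (T : V →ₗ[F] V) (z : F) (e g : V) : Prop :=
  B e g ≠ 0 ∧ ((∃ c c' : F, c ≠ 0 ∧ c' ≠ 0 ∧ T e = c • e ∧ T g = c' • g) ∨ (T e = g ∧ T g = z • e))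

variable {B : LinearMap.BilinForm F V} {T : V →ₗ[F] V} {z : F}

theorem exists_plane (h2 : (2 : F) ≠ 0) (halt : ∀ v, B v v = 0) (hBT : ∀ u v, B (T u) (T v) = B u v)
    (hT : ∀ v, T (T v) = z • v) (hz : z = 1 ∨ z = -1) {S : Submodule F V} (hST : ∀ v ∈ S, T v ∈ S)
    (hnd : ∀ v ∈ S, v ≠ 0 → ∃ w ∈ S, B v w ≠ 0) (hS : S ≠ ⊥) :
    ∃ e ∈ S, ∃ g ∈ S, Plane B T z e g := by
  have hswap : ∀ u v, B u v = - B v u := fun u v => by
    have := halt (u + v)
    simp [halt] at this
    linear_combination this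
  obtain ⟨s, hs, hs0⟩ := S.ne_bot_iff.1 hS
  rcases hz with rfl | rfl
  · obtain ⟨v, hv, hv0, c, hc, hTv⟩ : ∃ v ∈ S, v ≠ 0 ∧ ∃ c : F, (c = 1 ∨ c = -1) ∧ T v = c • v := by
      by_cases h : s + T s = 0
      · exact ⟨s, hs, hs0, -1, Or.inr rfl, by rw [neg_one_smul]; exact eq_neg_of_add_eq_zero_right h⟩
      · exact ⟨_, add_mem hs (hST s hs), h, 1, Or.inl rfl, by rw [map_add, hT, one_smul, one_smul, add_comm]⟩
    obtain ⟨w, hw, hvw⟩ := hnd v hv hv0
    have hcc : c * c = 1 := by rcases hc with rfl | rfl <;> ring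
    have hc0 : c ≠ 0 := left_ne_zero_of_mul_eq_one hcc
    refine ⟨v, hv, w + c • T w, add_mem hw (smul_mem _ _ (hST w hw)), ?_, Or.inl ⟨c, c, hc0, hc0, hTv, ?_⟩⟩
    · have h1 : B v (T w) = c * B v w := by
        have := hBT v w
        rw [hTv, map_smul, LinearMap.smul_apply, smul_eq_mul] at this
        linear_combination c * this - B v (T w) * hcc
      rw [map_add, map_smul, smul_eq_mul, h1, ← mul_assoc, hcc, one_mul, ← two_mul]
      exact mul_ne_zero h2 hvw
    · rw [map_add, map_smul, hT, one_smul, smul_add, smul_smul, hcc, one_smul, add_comm]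
  · by_cases hi : ∃ i : F, i * i = -1
    · obtain ⟨i, hi⟩ := hi
      obtain ⟨v, hv, hv0, c, hcc, hTv⟩ : ∃ v ∈ S, v ≠ 0 ∧ ∃ c : F, c * c = -1 ∧ T v = c • v := by
        by_cases h : T s + i • s = 0
        · exact ⟨s, hs, hs0, -i, by linear_combination hi, by rw [neg_smul]; exact eq_neg_of_add_eq_zero_left h⟩
        · refine ⟨_, add_mem (hST s hs) (smul_mem _ i hs), h, i, hi, ?_⟩
          rw [map_add, map_smul, hT, smul_add, smul_smul, hi, add_comm]
      obtain ⟨w, hw, hvw⟩ := hnd v hv hv0
      have hc0 : c ≠ 0 := fun h => by rw [h, mul_zero] at hcc; exact one_ne_zero (neg_eq_zero.1 hcc.symm)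
      refine ⟨v, hv, w + c • T w, add_mem hw (smul_mem _ _ (hST w hw)), ?_,
        Or.inl ⟨c, -c, hc0, neg_ne_zero.2 hc0, hTv, ?_⟩⟩
      · have h1 : B v (T w) = -c * B v w := by
          have := hBT v w
          rw [hTv, map_smul, LinearMap.smul_apply, smul_eq_mul] at this
          linear_combination -c * this + B v (T w) * hcc
        rw [map_add, map_smul, smul_eq_mul, h1, ← mul_assoc, mul_neg, hcc, neg_neg, one_mul, ← two_mul]
        exact mul_ne_zero h2 hvw
      · rw [map_add, map_smul, hT, smul_add, smul_smul, smul_smul, neg_mul, hcc, neg_neg, one_smul, mul_neg_one,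
          add_comm]
    · by_cases hex : ∃ v ∈ S, B v (T v) ≠ 0
      · obtain ⟨v, hv, h⟩ := hex
        exact ⟨v, hv, T v, hST v hv, h, Or.inr ⟨rfl, hT v⟩⟩
      · push Not at hex
        exfalso
        obtain ⟨w, hw, hsw⟩ := hnd s hs hs0
        have h1 := hex _ (add_mem hs (hST w hw))
        have h3 : B (T w) (T s) = - B s w := by rw [hBT, hswap]
        have h0 : B (T w) w = 0 := by
          have := hex _ (hST w hw)
          rw [hT] at this
          simpa using this
        simp [hex s hs, hT, h0] at h1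
        refine hsw ((mul_eq_zero.1 (?_ : 2 * B s w = 0)).resolve_left h2)
        linear_combination h3 - h1

theorem exists_planes (h2 : (2 : F) ≠ 0) (halt : ∀ v, B v v = 0) (hBT : ∀ u v, B (T u) (T v) = B u v)
    (hT : ∀ v, T (T v) = z • v) (hz : z = 1 ∨ z = -1) :
    ∀ (N : ℕ) (S : Submodule F V), finrank F S = N → (∀ v ∈ S, T v ∈ S) →
      (∀ v ∈ S, v ≠ 0 → ∃ w ∈ S, B v w ≠ 0) →
      ∃ (k : ℕ) (e g : Fin k → V), span F (Set.range e) ⊔ span F (Set.range g) = S ∧
        (∀ j, Plane B T z (e j) (g j)) ∧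
        (∀ i j, B (e i) (e j) = 0) ∧ (∀ i j, B (g i) (g j) = 0) ∧ (∀ i j, i ≠ j → B (e i) (g j) = 0) := by
  have hswap : ∀ u v, B u v = - B v u := fun u v => by
    have := halt (u + v)
    simp [halt] at this
    linear_combination this
  intro N
  induction N using Nat.strong_induction_on with
  | _ N ih =>
    intro S hN hST hnd
    by_cases hS : S = ⊥
    · exact ⟨0, Fin.elim0, Fin.elim0, by simp [hS, Set.range_eq_empty], fun j => j.elim0, fun i => i.elim0,
        fun i => i.elim0, fun i => i.elim0⟩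
    obtain ⟨e, he, g, hg, hP⟩ := exists_plane h2 halt hBT hT hz hST hnd hS
    obtain ⟨S', hS'⟩ : ∃ S', S' = S ⊓ LinearMap.ker (B e) ⊓ LinearMap.ker (B g) := ⟨_, rfl⟩
    have hmem : ∀ v, v ∈ S' ↔ v ∈ S ∧ B e v = 0 ∧ B g v = 0 := fun v => by simp [hS', and_assoc]
    have hz0 : z ≠ 0 := by rcases hz with rfl | rfl <;> simp
    have hST' : ∀ v ∈ S', T v ∈ S' := by
      intro v hv
      obtain ⟨h1, h3, h4⟩ := (hmem v).1 hv
      refine (hmem _).2 ⟨hST v h1, ?_⟩
      rcases hP.2 with ⟨c, c', hc, hc', hTe, hTg⟩ | ⟨hTe, hTg⟩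
      · constructor
        · have := hBT e v
          rw [hTe, map_smul, LinearMap.smul_apply, h3, smul_eq_mul] at this
          exact (mul_eq_zero.1 this).resolve_left hc
        · have := hBT g v
          rw [hTg, map_smul, LinearMap.smul_apply, h4, smul_eq_mul] at this
          exact (mul_eq_zero.1 this).resolve_left hc'
      · constructor
        · have := hBT g v
          rw [hTg, map_smul, LinearMap.smul_apply, h4, smul_eq_mul] at this
          exact (mul_eq_zero.1 this).resolve_left hz0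
        · have := hBT e v
          rw [hTe, h3] at this
          exact this
    obtain ⟨d, hd⟩ : ∃ d, d = B e g := ⟨_, rfl⟩
    have hd0 : d ≠ 0 := hd ▸ hP.1
    have hproj : ∀ v ∈ S, v - (B v g / d) • e + (B v e / d) • g ∈ S' := fun v hv => by
      refine (hmem _).2 ⟨add_mem (sub_mem hv (smul_mem _ _ he)) (smul_mem _ _ hg), ?_, ?_⟩
      · rw [map_add, map_sub, map_smul, map_smul, halt, smul_zero, sub_zero, smul_eq_mul, ← hd,
          div_mul_cancel₀ _ hd0, hswap e v, neg_add_cancel]
      · rw [map_add, map_sub, map_smul, map_smul, halt, smul_zero, add_zero, smul_eq_mul, hswap g e, ← hd,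
          hswap g v, mul_neg, div_mul_cancel₀ _ hd0, sub_self]
    have hnd' : ∀ v ∈ S', v ≠ 0 → ∃ w ∈ S', B v w ≠ 0 := by
      intro v hv hv0
      obtain ⟨h1, h3, h4⟩ := (hmem v).1 hv
      obtain ⟨w, hw, hvw⟩ := hnd v h1 hv0
      refine ⟨_, hproj w hw, ?_⟩
      rw [map_add, map_sub, map_smul, map_smul, hswap v e, hswap v g, h3, h4]
      simpa using hvw
    have hlt : finrank F S' < N := by
      rw [← hN]
      refine Submodule.finrank_lt_finrank_of_lt (lt_of_le_of_ne (fun v hv => ((hmem v).1 hv).1) fun h => ?_)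
      exact hP.1 ((hmem g).1 (h ▸ hg)).2.1
    obtain ⟨k, E, G, hspan, hpl, hee, hgg, heg⟩ := ih _ hlt S' rfl hST' hnd'
    have hE : ∀ i, E i ∈ S' := fun i => hspan ▸ mem_sup_left (subset_span ⟨i, rfl⟩)
    have hG : ∀ i, G i ∈ S' := fun i => hspan ▸ mem_sup_right (subset_span ⟨i, rfl⟩)
    refine ⟨k + 1, Fin.cons e E, Fin.cons g G, ?_, ?_, ?_, ?_, ?_⟩
    · rw [Fin.range_cons, Fin.range_cons, span_insert, span_insert]
      refine le_antisymm (sup_le (sup_le ?_ ?_) (sup_le ?_ ?_)) fun v hv => ?_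
      · exact (span_singleton_le_iff_mem _ _).2 he
      · exact span_le.2 (by rintro - ⟨i, rfl⟩; exact ((hmem _).1 (hE i)).1)
      · exact (span_singleton_le_iff_mem _ _).2 hg
      · exact span_le.2 (by rintro - ⟨i, rfl⟩; exact ((hmem _).1 (hG i)).1)
      · have h := hproj v hv
        rw [← hspan] at h
        rw [show v = (v - (B v g / d) • e + (B v e / d) • g) + ((B v g / d) • e - (B v e / d) • g) by abel]
        refine add_mem ?_ (sub_mem (mem_sup_left (mem_sup_left (smul_mem _ _ (mem_span_singleton_self e))))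
          (mem_sup_right (mem_sup_left (smul_mem _ _ (mem_span_singleton_self g)))))
        exact (sup_le (le_sup_right.trans le_sup_left) (le_sup_right.trans le_sup_right) :
          span F (Set.range E) ⊔ span F (Set.range G) ≤ _) h
    · intro j
      refine Fin.cases ?_ (fun j => ?_) j
      · simpa using hP
      · simpa using hpl j
    · intro i j
      refine Fin.cases ?_ (fun i => ?_) i <;> refine Fin.cases ?_ (fun j => ?_) j <;> simp [halt, hee]
      · exact ((hmem _).1 (hE j)).2.1
      · rw [hswap, ((hmem _).1 (hE i)).2.1, neg_zero]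
    · intro i j
      refine Fin.cases ?_ (fun i => ?_) i <;> refine Fin.cases ?_ (fun j => ?_) j <;> simp [halt, hgg]
      · exact ((hmem _).1 (hG j)).2.2
      · rw [hswap, ((hmem _).1 (hG i)).2.2, neg_zero]
    · intro i j
      refine Fin.cases ?_ (fun i => ?_) i <;> refine Fin.cases ?_ (fun j => ?_) j
      · simp
      · simp; intro _; exact ((hmem _).1 (hG j)).2.1
      · simp; rw [hswap, ((hmem _).1 (hE i)).2.2, neg_zero]
      · simp; exact heg i j

/-- odd characteristic: a preserved polar pair -/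
theorem exists_polar (h2 : (2 : F) ≠ 0) (halt : ∀ v, B v v = 0) (hnd : ∀ v, v ≠ 0 → ∃ w, B v w ≠ 0)
    (hBT : ∀ u v, B (T u) (T v) = B u v) (hT : ∀ v, T (T v) = z • v) (hz : z = 1 ∨ z = -1) :
    ∃ U W : Submodule F V, IsCompl U W ∧ (∀ u ∈ U, ∀ v ∈ U, B u v = 0) ∧ (∀ u ∈ W, ∀ v ∈ W, B u v = 0) ∧
      ((U.map T = U ∧ W.map T = W) ∨ (U.map T = W ∧ W.map T = U)) := by
  classical
  have hz0 : z ≠ 0 := by rcases hz with rfl | rfl <;> simp
  by_cases hsq : (∃ i : F, i * i = z)
  · obtain ⟨k, e, g, hspan, hpl, hee, hgg, heg⟩ :=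
      exists_planes h2 halt hBT hT hz _ ⊤ rfl (fun v _ => trivial) (fun v _ hv => by
        obtain ⟨w, hw⟩ := hnd v hv; exact ⟨w, trivial, hw⟩)
    obtain ⟨i, hi⟩ := hsq
    -- replace a swapped pair by eigenvectors
    have hnew : ∀ j, ∃ a b : V, a ∈ span F {e j, g j} ∧ b ∈ span F {e j, g j} ∧ e j ∈ span F {a, b} ∧
        g j ∈ span F {a, b} ∧ ∃ c c' : F, c ≠ 0 ∧ c' ≠ 0 ∧ T a = c • a ∧ T b = c' • b := by
      intro j
      rcases (hpl j).2 with ⟨c, c', h⟩ | ⟨h1, h3⟩
      · exact ⟨e j, g j, subset_span (by simp), subset_span (by simp), subset_span (by simp), subset_span (by simp),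
          c, c', h⟩
      · have hi0 : i ≠ 0 := fun h => hz0 (by rw [← hi, h, mul_zero])
        refine ⟨g j + i • e j, g j - i • e j, add_mem (subset_span (by simp)) (smul_mem _ _ (subset_span (by simp))),
          sub_mem (subset_span (by simp)) (smul_mem _ _ (subset_span (by simp))), ?_, ?_, i, -i, hi0,
          neg_ne_zero.2 hi0, ?_, ?_⟩
        · exact mem_span_pair.2 ⟨(2 * i)⁻¹, -(2 * i)⁻¹, by
            rw [show (2 * i)⁻¹ • (g j + i • e j) + -(2 * i)⁻¹ • (g j - i • e j) = ((2 * i)⁻¹ * (2 * i)) • e j by module,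
              inv_mul_cancel₀ (mul_ne_zero h2 hi0), one_smul]⟩
        · exact mem_span_pair.2 ⟨(2 : F)⁻¹, (2 : F)⁻¹, by
            rw [show (2 : F)⁻¹ • (g j + i • e j) + (2 : F)⁻¹ • (g j - i • e j) = ((2 : F)⁻¹ * 2) • g j by module,
              inv_mul_cancel₀ h2, one_smul]⟩
        · rw [map_add, map_smul, h1, h3, ← hi]; module
        · rw [map_sub, map_smul, h1, h3, ← hi]; module
    choose a b haS hbS hea hga c c' hc hc' hTa hTb using hnew
    have hAB : ∀ {x y : V} {i j : Fin k}, i ≠ j → x ∈ span F {e i, g i} → y ∈ span F {e j, g j} → B x y = 0 := by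
      intro x y i j hij hx hy
      obtain ⟨p, q, rfl⟩ := mem_span_pair.1 hx
      obtain ⟨r, s, rfl⟩ := mem_span_pair.1 hy
      have hge : B (g i) (e j) = 0 := by
        have := halt (g i + e j)
        simp [halt] at this
        rw [heg j i hij.symm] at this
        simpa using this
      simp [hee, hgg, heg i j hij, hge]
    refine ⟨span F (Set.range a), span F (Set.range b), ⟨?_, ?_⟩, ?_, ?_, Or.inl ⟨?_, ?_⟩⟩
    · rw [disjoint_def]
      intro v hv hv'
      obtain ⟨p, hp⟩ := mem_span_range_iff_exists_fun (R := F) |>.1 hv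
      obtain ⟨r, hr⟩ := mem_span_range_iff_exists_fun (R := F) |>.1 hv'
      by_contra hne
      obtain ⟨w, hw⟩ := hnd v hne
      have hiso : ∀ j, B v (a j) = 0 ∧ B v (b j) = 0 := by
        intro j
        constructor
        · rw [← hp, map_sum, LinearMap.sum_apply]
          refine Finset.sum_eq_zero fun l _ => ?_
          by_cases hlj : l = j
          · subst hlj; simp [halt]
          · simp [hAB hlj (haS l) (haS j)]
        · rw [← hr, map_sum, LinearMap.sum_apply]
          refine Finset.sum_eq_zero fun l _ => ?_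
          by_cases hlj : l = j
          · subst hlj; simp [halt]
          · simp [hAB hlj (hbS l) (hbS j)]
      have hall : ∀ x, B v x = 0 := by
        intro x
        have hx : x ∈ span F (Set.range a) ⊔ span F (Set.range b) := by
          have : (⊤ : Submodule F V) ≤ span F (Set.range a) ⊔ span F (Set.range b) := by
            rw [← hspan]
            refine sup_le (span_le.2 ?_) (span_le.2 ?_) <;> rintro - ⟨j, rfl⟩
            · exact (span_le.2 (by
                rintro y (rfl | rfl)
                exacts [mem_sup_left (subset_span ⟨j, rfl⟩), mem_sup_right (subset_span ⟨j, rfl⟩)]) :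
                span F {a j, b j} ≤ _) (hea j)
            · exact (span_le.2 (by
                rintro y (rfl | rfl)
                exacts [mem_sup_left (subset_span ⟨j, rfl⟩), mem_sup_right (subset_span ⟨j, rfl⟩)]) :
                span F {a j, b j} ≤ _) (hga j)
          exact this trivial
        refine (sup_le (span_le.2 ?_) (span_le.2 ?_) :
          span F (Set.range a) ⊔ span F (Set.range b) ≤ LinearMap.ker (B v)) hx <;> rintro - ⟨j, rfl⟩
        · exact (hiso j).1
        · exact (hiso j).2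
      exact hw (hall w)
    · rw [codisjoint_iff, eq_top_iff, ← hspan]
      refine sup_le (span_le.2 ?_) (span_le.2 ?_) <;> rintro - ⟨j, rfl⟩
      · exact (span_le.2 (by
          rintro y (rfl | rfl)
          exacts [mem_sup_left (subset_span ⟨j, rfl⟩), mem_sup_right (subset_span ⟨j, rfl⟩)]) :
          span F {a j, b j} ≤ _) (hea j)
      · exact (span_le.2 (by
          rintro y (rfl | rfl)
          exacts [mem_sup_left (subset_span ⟨j, rfl⟩), mem_sup_right (subset_span ⟨j, rfl⟩)]) :
          span F {a j, b j} ≤ _) (hga j)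
    · intro u hu v hv
      obtain ⟨p, rfl⟩ := mem_span_range_iff_exists_fun (R := F) |>.1 hu
      obtain ⟨r, rfl⟩ := mem_span_range_iff_exists_fun (R := F) |>.1 hv
      simp only [map_sum, LinearMap.sum_apply, map_smul, LinearMap.smul_apply]
      refine Finset.sum_eq_zero fun l _ => smul_eq_zero_of_right _ (Finset.sum_eq_zero fun j _ => ?_)
      rcases eq_or_ne j l with rfl | h
      · simp [halt]
      · simp [hAB h (haS j) (haS l)]
    · intro u hu v hv
      obtain ⟨p, rfl⟩ := mem_span_range_iff_exists_fun (R := F) |>.1 hu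
      obtain ⟨r, rfl⟩ := mem_span_range_iff_exists_fun (R := F) |>.1 hv
      simp only [map_sum, LinearMap.sum_apply, map_smul, LinearMap.smul_apply]
      refine Finset.sum_eq_zero fun l _ => smul_eq_zero_of_right _ (Finset.sum_eq_zero fun j _ => ?_)
      rcases eq_or_ne j l with rfl | h
      · simp [halt]
      · simp [hAB h (hbS j) (hbS l)]
    · rw [map_span]
      refine le_antisymm (span_le.2 ?_) (span_le.2 ?_)
      · rintro - ⟨-, ⟨j, rfl⟩, rfl⟩
        rw [hTa]; exact smul_mem _ _ (subset_span ⟨j, rfl⟩)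
      · rintro - ⟨j, rfl⟩
        rw [show a j = (c j)⁻¹ • T (a j) by rw [hTa, smul_smul, inv_mul_cancel₀ (hc j), one_smul]]
        exact smul_mem _ _ (subset_span ⟨_, ⟨j, rfl⟩, rfl⟩)
    · rw [map_span]
      refine le_antisymm (span_le.2 ?_) (span_le.2 ?_)
      · rintro - ⟨-, ⟨j, rfl⟩, rfl⟩
        rw [hTb]; exact smul_mem _ _ (subset_span ⟨j, rfl⟩)
      · rintro - ⟨j, rfl⟩
        rw [show b j = (c' j)⁻¹ • T (b j) by rw [hTb, smul_smul, inv_mul_cancel₀ (hc' j), one_smul]]
        exact smul_mem _ _ (subset_span ⟨_, ⟨j, rfl⟩, rfl⟩)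
  · obtain ⟨k, e, g, hspan, hpl, hee, hgg, heg⟩ :=
      exists_planes h2 halt hBT hT hz _ ⊤ rfl (fun v _ => trivial) (fun v _ hv => by
        obtain ⟨w, hw⟩ := hnd v hv; exact ⟨w, trivial, hw⟩)
    push Not at hsq
    have hsw : ∀ j, T (e j) = g j ∧ T (g j) = z • e j := by
      intro j
      refine (hpl j).2.resolve_left fun ⟨c, c', hc, hc', h1, h3⟩ => hsq c ?_
      have h := hT (e j)
      rw [h1, map_smul, h1, smul_smul] at h
      by_contra hne
      have : (c * c - z) • e j = 0 := by rw [sub_smul, h, sub_self]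
      rcases smul_eq_zero.1 this with h4 | h4
      · exact hne (sub_eq_zero.1 h4)
      · exact (hpl j).1 (by rw [h4, map_zero, LinearMap.zero_apply])
    refine ⟨span F (Set.range e), span F (Set.range g), ⟨?_, codisjoint_iff.2 hspan⟩, ?_, ?_, Or.inr ⟨?_, ?_⟩⟩
    · rw [disjoint_def]
      intro v hv hv'
      by_contra hne
      obtain ⟨w, hw⟩ := hnd v hne
      obtain ⟨p, hp⟩ := mem_span_range_iff_exists_fun (R := F) |>.1 hv
      obtain ⟨r, hr⟩ := mem_span_range_iff_exists_fun (R := F) |>.1 hv'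
      refine hw ((sup_le (span_le.2 ?_) (span_le.2 ?_) :
        span F (Set.range e) ⊔ span F (Set.range g) ≤ LinearMap.ker (B v)) (hspan.ge trivial))
      · rintro - ⟨j, rfl⟩
        show B v (e j) = 0
        rw [← hp]; simp [hee]
      · rintro - ⟨j, rfl⟩
        show B v (g j) = 0
        rw [← hr]; simp [hgg]
    · intro u hu v hv
      obtain ⟨p, rfl⟩ := mem_span_range_iff_exists_fun (R := F) |>.1 hu
      obtain ⟨r, rfl⟩ := mem_span_range_iff_exists_fun (R := F) |>.1 hv
      simp [hee]
    · intro u hu v hv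
      obtain ⟨p, rfl⟩ := mem_span_range_iff_exists_fun (R := F) |>.1 hu
      obtain ⟨r, rfl⟩ := mem_span_range_iff_exists_fun (R := F) |>.1 hv
      simp [hgg]
    · rw [map_span, ← Set.range_comp]
      exact congrArg (span F) (congrArg Set.range (funext fun j => (hsw j).1))
    · rw [map_span, ← Set.range_comp]
      refine le_antisymm (span_le.2 ?_) (span_le.2 ?_)
      · rintro - ⟨j, rfl⟩
        show T (g j) ∈ _
        rw [(hsw j).2]; exact smul_mem _ _ (subset_span ⟨j, rfl⟩)
      · rintro - ⟨j, rfl⟩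
        rw [show e j = z⁻¹ • T (g j) by rw [(hsw j).2, smul_smul, inv_mul_cancel₀ hz0, one_smul]]
        exact smul_mem _ _ (subset_span ⟨j, rfl⟩)

end CfsgLib.Lie.SympInvolution
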