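import Cfsg.Agent.Lie.SzModels
import Cfsg.Prelude.Def_Solvable
import Cfsg.Prelude.Def_Transfer
import Mathlib.Algebra.CharP.Two
import Mathlib.FieldTheory.Finite.GaloisField
import Mathlib.LinearAlgebra.Dimension.Free

/-!
The automorphism group of the Sylow 2-subgroup of a Suzuki group.
-/

set_option autoImplicit false
set_option linter.unusedSimpArgs false
set_option linter.unusedSectionVars false
set_option linter.style.haveILetI false

namespace CfsgLib.Lie.SzAut

open CfsgLib.Suz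
open scoped commutatorElement

/-- Hua: an additive map with additive inverse-conjugate is multiplicative. -/
theorem mul_of_inv {L : Type*} [Field L] [CharP L 2] [Finite L] (S f : L → L) (hS : ∀ a b, S (a + b) = S a + S b)
    (hf : ∀ a b, f (a + b) = f a + f b) (hS1 : S 1 = 1) (hne : ∀ a, a ≠ 0 → S a ≠ 0)
    (hinv : ∀ a, a ≠ 0 → f a⁻¹ = (S a)⁻¹) : ∀ x y, S (x * y) = S x * S y := by
  have hS0 : S 0 = 0 := by
    have := hS 0 0
    rw [add_zero] at this
    linear_combination -this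
  have key : ∀ z y, y ≠ 0 → S (z ^ 2 / y) = S z ^ 2 / S y := by
    intro z y hy
    by_cases hz : z = 0
    · subst hz; rw [hS0]; simp [hS0]
    by_cases hzy : z + y = 0
    · have hy' : y = z := by linear_combination hzy - z * (CharTwo.two_eq_zero (R := L))
      subst hy'
      rw [pow_two, mul_div_assoc, div_self hy, mul_one, pow_two, mul_div_assoc, div_self (hne y hy), mul_one]
    obtain ⟨w, hw⟩ : ∃ w, w = z + y := ⟨_, rfl⟩
    rw [← hw] at hzy
    have h1 : z⁻¹ + w⁻¹ = (z + z ^ 2 / y)⁻¹ := by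
      apply eq_inv_of_mul_eq_one_left
      field_simp
      rw [hw]
      linear_combination (z ^ 2 + z * y) * (CharTwo.two_eq_zero (R := L))
    have hne2 : z + z ^ 2 / y ≠ 0 := fun h => by
      have e : z * (y + z) = 0 := by field_simp at h; linear_combination h
      rcases mul_eq_zero.1 e with e | e
      · exact hz e
      · exact hzy (by rw [hw]; linear_combination e)
    have h2 := congrArg f h1
    rw [hf, hinv z hz, hinv w hzy, hinv _ hne2] at h2
    have h3 : S (z + z ^ 2 / y) = S z * S w / (S w + S z) := by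
      rw [← inv_inv (S (z + z ^ 2 / y)), ← h2, inv_add_inv (hne z hz) (hne w hzy), inv_div]
      rw [add_comm (S w)]
    rw [hS, hw, hS] at h3
    have e : S z + S y + S z = S y := by linear_combination S z * (CharTwo.two_eq_zero (R := L))
    rw [e] at h3
    have hSy := hne y hy
    have h5 : S (z ^ 2 / y) = S z * (S z + S y) / S y - S z := by linear_combination h3
    rw [h5]
    field_simp
    ring
  intro x y
  haveI : Fact (Nat.Prime 2) := ⟨Nat.prime_two⟩
  obtain ⟨z, rfl⟩ : ∃ z, z ^ 2 = x := by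
    obtain ⟨z, hz⟩ := (frobenius_inj L 2).bijective_of_finite.2 x
    exact ⟨z, by rw [← hz, frobenius_def]⟩
  have hz2 : S (z ^ 2) = S z ^ 2 := by
    have := key z 1 one_ne_zero
    rwa [div_one, hS1, div_one] at this
  by_cases hy : y = 0
  · subst hy; rw [mul_zero, hS0, mul_zero]
  have h := key z y⁻¹ (inv_ne_zero hy)
  rw [div_inv_eq_mul] at h
  have h1 : S y⁻¹ = (S y)⁻¹ := by
    have := key 1 y hy
    rwa [one_pow, hS1, one_pow, one_div, one_div] at this
  rw [h, h1, div_inv_eq_mul, hz2]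

variable {F : Type*} [Field F] [Fintype F] [CharP F 2] {m : ℕ}

/-- The model. -/
@[ext]
structure V (F : Type*) [Field F] (m : ℕ) where
  a : F
  b : F

variable [hA : Fact (Setup F m)]

theorem sgadd (x y : F) : sg m (x + y) = sg m x + sg m y := hA.out.sg_add x y

theorem sgmul (x y : F) : sg m (x * y) = sg m x * sg m y := hA.out.sg_mul x y

theorem sgz : sg m (0 : F) = 0 := hA.out.sg_zero

instance : Group (V F m) where
  one := ⟨0, 0⟩
  mul x y := ⟨x.a + y.a, x.b + y.b + y.a * sg m x.a⟩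
  inv x := ⟨x.a, x.b + x.a * sg m x.a⟩
  mul_assoc x y z := V.ext (add_assoc _ _ _) (by
    show (x.b + y.b + y.a * sg m x.a) + z.b + z.a * sg m (x.a + y.a) =
      x.b + (y.b + z.b + z.a * sg m y.a) + (y.a + z.a) * sg m x.a
    rw [sgadd]; ring)
  one_mul x := V.ext (zero_add _) (by
    show 0 + x.b + x.a * sg m (0 : F) = x.b
    rw [sgz, mul_zero, add_zero, zero_add])
  mul_one x := V.ext (add_zero _) (by
    show x.b + 0 + 0 * sg m x.a = x.b
    ring)
  inv_mul_cancel x := V.ext (CharTwo.add_self_eq_zero _) (by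
    show x.b + x.a * sg m x.a + x.b + x.a * sg m x.a = 0
    linear_combination CharTwo.add_self_eq_zero (x.b + x.a * sg m x.a))

theorem mul_a (x y : V F m) : (x * y).a = x.a + y.a := rfl
theorem mul_b (x y : V F m) : (x * y).b = x.b + y.b + y.a * sg m x.a := rfl
theorem inv_a (x : V F m) : x⁻¹.a = x.a := rfl
theorem inv_b (x : V F m) : x⁻¹.b = x.b + x.a * sg m x.a := rfl

theorem sg0 {x : F} : sg m x = 0 ↔ x = 0 := ⟨fun h => hA.out.sg_eq_zero h, fun h => by rw [h, sgz]⟩

theorem sg_fixed {x : F} (h : sg m x = x) : x = 0 ∨ x = 1 := by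
  have := hA.out.sg_sg x
  rw [h, h] at this
  rcases mul_eq_zero.1 (show x * (x - 1) = 0 by linear_combination -this) with h | h
  · exact Or.inl h
  · exact Or.inr (sub_eq_zero.1 h)

include hA in
theorem exists_big : ∃ c : F, c ≠ 0 ∧ c ≠ 1 := by
  obtain ⟨k, hk, -⟩ := hA.out.exists_unit
  exact ⟨k, k.ne_zero, hk⟩

/-- the model is the translation group -/
noncomputable def toU : V F m ≃* hA.out.U where
  toFun x := ⟨hA.out.T x.a x.b, hA.out.T_mem_U _ _⟩
  invFun g := ⟨(hA.out.uEquiv.symm g).1, (hA.out.uEquiv.symm g).2⟩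
  left_inv x := by
    have h : hA.out.uEquiv.symm ⟨hA.out.T x.a x.b, hA.out.T_mem_U _ _⟩ = (x.a, x.b) :=
      (Equiv.symm_apply_eq _).2 rfl
    exact V.ext (congrArg Prod.fst h) (congrArg Prod.snd h)
  right_inv g := hA.out.uEquiv.apply_symm_apply g
  map_mul' x y := Subtype.ext (by
    show hA.out.T (x.a + y.a) (x.b + y.b + y.a * sg m x.a) = hA.out.T x.a x.b * hA.out.T y.a y.b
    rw [hA.out.T_mul]
    congr 1 <;> ring)

theorem mem_center {x : V F m} : x ∈ Subgroup.center (V F m) ↔ x.a = 0 := by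
  rw [Subgroup.mem_center_iff]
  refine ⟨fun h => ?_, fun h y => V.ext (add_comm _ _) (by rw [mul_b, mul_b, h, zero_mul, sgz, mul_zero]; ring)⟩
  have key : ∀ a : F, x.a * sg m a = a * sg m x.a := fun a => by
    have := congrArg V.b (h ⟨a, 0⟩)
    rw [mul_b, mul_b] at this
    linear_combination this
  by_contra hx
  have h1 := key 1
  rw [hA.out.sg_one, mul_one, one_mul] at h1
  obtain ⟨c, hc0, hc1⟩ := exists_big (F := F) (m := m)
  rcases sg_fixed (show sg m c = c from mul_left_cancel₀ hx (by rw [key c, ← h1, mul_comm])) with h | h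
  · exact hc0 h
  · exact hc1 h

theorem sq_b (x : V F m) : (x * x).a = 0 ∧ (x * x).b = x.a * sg m x.a :=
  ⟨CharTwo.add_self_eq_zero _, by rw [mul_b, CharTwo.add_self_eq_zero, zero_add]⟩

theorem comm_a (x y : V F m) : ⁅x, y⁆.a = 0 := by
  rw [commutatorElement_def, mul_a, mul_a, mul_a, inv_a, inv_a]
  linear_combination (x.a + y.a) * (CharTwo.two_eq_zero (R := F))

theorem comm_b (x y : V F m) : ⁅x, y⁆.b = x.a * sg m y.a + y.a * sg m x.a := by
  simp only [commutatorElement_def, mul_b, mul_a, inv_a, inv_b, sgadd]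
  linear_combination (x.b + y.b + x.a * sg m x.a + y.a * sg m y.a + y.a * sg m x.a) * (CharTwo.two_eq_zero (R := F))

theorem q_surj (c : F) : ∃ a : F, a * sg m a = c := by
  by_cases hc : c = 0
  · exact ⟨0, by rw [hc, zero_mul]⟩
  obtain ⟨k, hk⟩ := hA.out.u_surj hc
  exact ⟨k, by rw [mul_comm]; exact hk⟩

theorem q_inj {a b : F} (h : a * sg m a = b * sg m b) : a = b := by
  have e2 := congrArg (sg m) h
  rw [sgmul, sgmul, hA.out.sg_sg, hA.out.sg_sg] at e2
  rcases mul_eq_zero.1 (show (a - b) * (a * sg m a) = 0 by linear_combination e2 - b * h) with h' | h'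
  · exact sub_eq_zero.1 h'
  · rw [h'] at h
    rcases mul_eq_zero.1 h' with ha | ha <;> rcases mul_eq_zero.1 h.symm with hb | hb <;>
      (try rw [sg0] at ha) <;> (try rw [sg0] at hb) <;> rw [ha, hb]

theorem mem_center_aut (α : MulAut (V F m)) {x : V F m} (hx : x.a = 0) : (α x).a = 0 := by
  refine mem_center.1 (Subgroup.mem_center_iff.2 fun g => ?_)
  obtain ⟨y, rfl⟩ := α.surjective g
  rw [← map_mul, ← map_mul, Subgroup.mem_center_iff.1 (mem_center.2 hx) y]

/-- induced map on the first coordinate -/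
def indA (α : MulAut (V F m)) (a : F) : F := (α ⟨a, 0⟩).a

theorem aut_a (α : MulAut (V F m)) (x : V F m) : (α x).a = indA α x.a := by
  have h1 : ((⟨x.a, 0⟩ : V F m)⁻¹ * x).a = 0 := by rw [mul_a, inv_a, CharTwo.add_self_eq_zero]
  have h2 := mem_center_aut α h1
  rw [map_mul, mul_a, map_inv, inv_a] at h2
  rw [indA]
  linear_combination h2 - (α ⟨x.a, 0⟩).a * (CharTwo.two_eq_zero (R := F))

/-- induced permutations -/
def indHom : MulAut (V F m) →* Equiv.Perm F where
  toFun α :=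
    { toFun := indA α
      invFun := indA α⁻¹
      left_inv := fun a => by
        show indA α⁻¹ (indA α a) = a
        rw [show indA α a = (α ⟨a, 0⟩).a from rfl, ← aut_a, MulAut.inv_apply_self]
      right_inv := fun a => by
        show indA α (indA α⁻¹ a) = a
        rw [show indA α⁻¹ a = (α⁻¹ ⟨a, 0⟩).a from rfl, ← aut_a, MulAut.apply_inv_self] }
  map_one' := Equiv.ext fun a => rfl
  map_mul' α β := Equiv.ext fun a => by
    show (α (β ⟨a, 0⟩)).a = indA α (indA β a)
    rw [aut_a α]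
    rfl

theorem indHom_apply (α : MulAut (V F m)) (x : V F m) : indHom α x.a = (α x).a := (aut_a α x).symm

theorem range_semilinear (α : MulAut (V F m)) :
    ∃ (c : Fˣ) (σ : F ≃+* F), ∀ a, indHom α a = (c : F) * σ a := by
  classical
  set A : F → F := fun a => indHom α a with hAdef
  have hAx : ∀ x : V F m, (α x).a = A x.a := fun x => (indHom_apply α x).symm
  have hAadd : ∀ a b, A (a + b) = A a + A b := fun a b => by
    conv_lhs => rw [show a + b = ((⟨a, 0⟩ : V F m) * ⟨b, 0⟩).a from rfl]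
    rw [← hAx, map_mul, mul_a, hAx, hAx]
  have hA0 : A 0 = 0 := by
    have := hAadd 0 0
    rw [add_zero] at this
    linear_combination -this
  have hAinj : Function.Injective A := (indHom α).injective
  obtain ⟨T, hT⟩ : ∃ T : F → F, ∀ x : V F m, x.a = 0 → (α x).b = T x.b :=
    ⟨fun c => (α ⟨0, c⟩).b, fun x hx => by rw [show x = ⟨0, x.b⟩ from V.ext hx rfl]⟩
  have hTadd : ∀ a b, T (a + b) = T a + T b := fun a b => by
    have h := hT ((⟨0, a⟩ : V F m) * ⟨0, b⟩) (by rw [mul_a, add_zero])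
    rw [mul_b, map_mul, mul_b, mem_center_aut α (x := ⟨0, b⟩) rfl, zero_mul, add_zero, zero_mul, add_zero,
      hT _ rfl, hT _ rfl] at h
    exact h.symm
  have hN : ∀ a, T (a * sg m a) = A a * sg m (A a) := fun a => by
    have h1 := hT _ (sq_b (⟨a, 0⟩ : V F m)).1
    rw [(sq_b (⟨a, 0⟩ : V F m)).2, map_mul, (sq_b _).2, hAx] at h1
    exact h1.symm
  have hB : ∀ a b, T (a * sg m b + b * sg m a) = A a * sg m (A b) + A b * sg m (A a) := fun a b => by
    have h1 := hT _ (comm_a (⟨a, 0⟩ : V F m) ⟨b, 0⟩)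
    rw [map_commutatorElement, comm_b, comm_b, hAx, hAx] at h1
    exact h1.symm
  obtain ⟨C, hC⟩ : ∃ C, C = A 1 := ⟨_, rfl⟩
  have hC0 : C ≠ 0 := fun h => one_ne_zero (hAinj ((hC.symm.trans h).trans hA0.symm))
  obtain ⟨κ, hκ⟩ : ∃ κ, κ = C * sg m C := ⟨_, rfl⟩
  have hκ0 : κ ≠ 0 := hκ ▸ mul_ne_zero hC0 (fun h => hC0 (sg0.1 h))
  obtain ⟨B, hBd⟩ : ∃ B : F → F, ∀ a, B a = A a / C := ⟨_, fun _ => rfl⟩
  obtain ⟨S, hSd⟩ : ∃ S : F → F, ∀ a, S a = T a / κ := ⟨_, fun _ => rfl⟩
  have hAB : ∀ a, A a = C * B a := fun a => by rw [hBd, mul_div_cancel₀ _ hC0]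
  have hN' : ∀ a, S (a * sg m a) = B a * sg m (B a) := fun a => by
    rw [hSd, hN, hAB, sgmul, div_eq_iff hκ0, hκ]; ring
  have hB' : ∀ a b, S (a * sg m b + b * sg m a) = B a * sg m (B b) + B b * sg m (B a) := fun a b => by
    rw [hSd, hB, hAB, hAB, sgmul, sgmul, div_eq_iff hκ0, hκ]; ring
  have hSadd : ∀ a b, S (a + b) = S a + S b := fun a b => by rw [hSd, hSd, hSd, hTadd, add_div]
  have hS0 : S 0 = 0 := by
    have := hSadd 0 0
    rw [add_zero] at this
    linear_combination -this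
  have hB1 : B 1 = 1 := by rw [hBd, ← hC, div_self hC0]
  have hS1 : S 1 = 1 := by
    have := hN' 1
    rwa [hA.out.sg_one, one_mul, hB1, hA.out.sg_one, one_mul] at this
  have hBne : ∀ a, a ≠ 0 → B a ≠ 0 := fun a ha h => by
    rw [hBd, div_eq_zero_iff] at h
    exact ha (hAinj ((h.resolve_right hC0).trans hA0.symm))
  have hBsurj : Function.Surjective B := fun y => by
    obtain ⟨a, ha⟩ := (indHom α).surjective (C * y)
    exact ⟨a, mul_left_cancel₀ hC0 ((hAB a).symm.trans ha)⟩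
  have hqne : ∀ a : F, a ≠ 0 → a * sg m a ≠ 0 := fun a ha => mul_ne_zero ha fun h => ha (sg0.1 h)
  have hSne : ∀ z, z ≠ 0 → S z ≠ 0 := fun z hz => by
    obtain ⟨a, rfl⟩ := q_surj (m := m) z
    rw [hN']
    exact hqne _ (hBne a fun h => hz (by rw [h, zero_mul]))
  have hSsurj : Function.Surjective S := fun y => by
    obtain ⟨a, rfl⟩ := q_surj (m := m) y
    obtain ⟨x, rfl⟩ := hBsurj a
    exact ⟨_, hN' x⟩
  -- the hyperplane
  let P : F →+ F := AddMonoidHom.mk' (fun b => b + sg m b) fun x y => by rw [sgadd]; ring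
  have hidx : P.range.index = 2 := by
    have hk : (P.ker : Set F) = {0, 1} := by
      ext x
      rw [SetLike.mem_coe, AddMonoidHom.mem_ker, Set.mem_insert_iff, Set.mem_singleton_iff]
      show x + sg m x = 0 ↔ _
      constructor
      · intro h
        exact sg_fixed (by linear_combination h - x * (CharTwo.two_eq_zero (R := F)))
      · rintro (rfl | rfl)
        · rw [sgz, add_zero]
        · rw [hA.out.sg_one, CharTwo.add_self_eq_zero]
    have hker : Nat.card P.ker = 2 := by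
      have : Nat.card (P.ker : Set F) = 2 := by rw [Nat.card_coe_set_eq, hk, Set.ncard_pair zero_ne_one]
      exact this
    have h1 := P.ker.card_mul_index
    rw [AddSubgroup.index_ker, hker] at h1
    have h2 := P.range.card_mul_index
    have h3 : 0 < Nat.card P.range := Nat.card_pos
    nlinarith
  have hP : ∀ x : F, x ∈ P.range ↔ ∃ b, b + sg m b = x := fun x => Iff.rfl
  -- membership is transported
  have hmem : ∀ z x, z ≠ 0 → (z⁻¹ * x ∈ P.range ↔ (S z)⁻¹ * S x ∈ P.range) := by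
    intro z x hz
    obtain ⟨a, rfl⟩ := q_surj (m := m) z
    have ha : a ≠ 0 := fun h => hz (by rw [h, zero_mul])
    rw [hP, hP, hN']
    constructor
    · rintro ⟨b, hb⟩
      rw [eq_inv_mul_iff_mul_eq₀ hz] at hb
      refine ⟨B (a * b) / B a, ?_⟩
      have e := hB' a (a * b)
      rw [sgmul, show a * (sg m a * sg m b) + a * b * sg m a = x by rw [← hb]; ring] at e
      rw [eq_inv_mul_iff_mul_eq₀ (hqne _ (hBne a ha)), e]
      have hsb : sg m (B a) ≠ 0 := fun h => hBne a ha (sg0.1 h)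
      have h' : sg m (B (a * b) / B a) = sg m (B (a * b)) / sg m (B a) := by
        rw [eq_div_iff hsb, ← sgmul, div_mul_cancel₀ _ (hBne a ha)]
      rw [h']
      field_simp [hBne a ha]
      ring
    · rintro ⟨d, hd⟩
      rw [eq_inv_mul_iff_mul_eq₀ (hqne _ (hBne a ha))] at hd
      obtain ⟨w, hw⟩ := hBsurj (B a * d)
      obtain ⟨b, rfl⟩ : ∃ b, a * b = w := ⟨w / a, mul_div_cancel₀ _ ha⟩
      have e := hB' a (a * b)
      rw [hw, sgmul, sgmul, show B a * (sg m (B a) * sg m d) + B a * d * sg m (B a) = S x by rw [← hd]; ring] at e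
      have hx : a * (sg m a * sg m b) + a * b * sg m a = x := by
        by_contra hne
        apply hSne (a * (sg m a * sg m b) + a * b * sg m a + x)
          (fun h => hne (by linear_combination h - x * (CharTwo.two_eq_zero (R := F))))
        rw [hSadd, e, CharTwo.add_self_eq_zero]
      refine ⟨b, ?_⟩
      rw [eq_inv_mul_iff_mul_eq₀ hz, ← hx]
      ring
  obtain ⟨f, hfd⟩ : ∃ f : F → F, ∀ u, f u = (S u⁻¹)⁻¹ := ⟨_, fun _ => rfl⟩
  have hmem' : ∀ u x, u * x ∈ P.range ↔ f u * S x ∈ P.range := by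
    intro u x
    by_cases hu : u = 0
    · rw [hu, hfd, inv_zero, hS0, inv_zero, zero_mul, zero_mul]
    · have := hmem u⁻¹ x (inv_ne_zero hu)
      rw [inv_inv] at this
      rw [hfd]
      exact this
  have hfadd : ∀ u v, f (u + v) = f u + f v := by
    intro u v
    have h : ∀ y, (f (u + v) + (f u + f v)) * y ∈ P.range := by
      intro y
      obtain ⟨x, rfl⟩ := hSsurj y
      rw [add_mul, AddSubgroup.add_mem_iff_of_index_two hidx, add_mul, AddSubgroup.add_mem_iff_of_index_two hidx,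
        ← hmem', ← hmem', ← hmem', add_mul, AddSubgroup.add_mem_iff_of_index_two hidx]
    by_contra hne
    obtain ⟨c, hc⟩ : ∃ c, c ∉ P.range := by
      by_contra hh
      push Not at hh
      have : P.range = ⊤ := (AddSubgroup.eq_top_iff' _).2 hh
      rw [this, AddSubgroup.index_top] at hidx
      omega
    have hw : f (u + v) + (f u + f v) ≠ 0 := fun h0 => hne
      (by linear_combination h0 - (f u + f v) * (CharTwo.two_eq_zero (R := F)))
    apply hc
    have := h (c / (f (u + v) + (f u + f v)))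
    rwa [mul_div_cancel₀ _ hw] at this
  have hSmul := mul_of_inv S f hSadd hfadd hS1 hSne (fun a ha => by rw [hfd, inv_inv])
  have hSinj : Function.Injective S := fun a b h => by
    by_contra hne
    exact hSne (a + b) (fun h0 => hne (by linear_combination h0 - b * (CharTwo.two_eq_zero (R := F))))
      (by rw [hSadd, h, CharTwo.add_self_eq_zero])
  let σ : F →+* F := { toFun := S, map_one' := hS1, map_mul' := hSmul, map_zero' := hS0, map_add' := hSadd }
  refine ⟨Units.mk0 C hC0, RingEquiv.ofBijective σ hSinj.bijective_of_finite, fun a => ?_⟩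
  show A a = C * S a
  rw [hAB]
  congr 1
  refine q_inj (m := m) ?_
  rw [← hN', hSmul]
  congr 1
  rw [sg, sg]
  exact map_pow σ a _

/-- semilinear automorphisms -/
def semiAut (c : Fˣ) (σ : F ≃+* F) : MulAut (V F m) where
  toFun x := ⟨(c : F) * σ x.a, (c : F) * sg m (c : F) * σ x.b⟩
  invFun x := ⟨σ.symm (((c⁻¹ : Fˣ) : F) * x.a), σ.symm (((c⁻¹ : Fˣ) : F) * sg m ((c⁻¹ : Fˣ) : F) * x.b)⟩
  left_inv x := V.ext (by simp [← mul_assoc]) (by
    show σ.symm (((c⁻¹ : Fˣ) : F) * sg m ((c⁻¹ : Fˣ) : F) * ((c : F) * sg m (c : F) * σ x.b)) = x.b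
    rw [show ((c⁻¹ : Fˣ) : F) * sg m ((c⁻¹ : Fˣ) : F) * ((c : F) * sg m (c : F) * σ x.b) =
      (((c⁻¹ : Fˣ) : F) * c) * sg m (((c⁻¹ : Fˣ) : F) * c) * σ x.b by rw [sgmul]; ring, Units.inv_mul,
      hA.out.sg_one, one_mul, one_mul, RingEquiv.symm_apply_apply])
  right_inv x := V.ext (by simp [← mul_assoc]) (by
    show (c : F) * sg m (c : F) * σ (σ.symm (((c⁻¹ : Fˣ) : F) * sg m ((c⁻¹ : Fˣ) : F) * x.b)) = x.b
    rw [RingEquiv.apply_symm_apply, show (c : F) * sg m (c : F) * (((c⁻¹ : Fˣ) : F) * sg m ((c⁻¹ : Fˣ) : F) * x.b) =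
      ((c : F) * ((c⁻¹ : Fˣ) : F)) * sg m ((c : F) * ((c⁻¹ : Fˣ) : F)) * x.b by rw [sgmul]; ring, Units.mul_inv,
      hA.out.sg_one, one_mul, one_mul])
  map_mul' x y := V.ext (by show (c : F) * σ (x.a + y.a) = (c : F) * σ x.a + (c : F) * σ y.a; rw [map_add, mul_add]) (by
    show (c : F) * sg m (c : F) * σ (x.b + y.b + y.a * sg m x.a) =
      (c : F) * sg m (c : F) * σ x.b + (c : F) * sg m (c : F) * σ y.b + (c : F) * σ y.a * sg m ((c : F) * σ x.a)
    rw [map_add, map_add, map_mul, sgmul, sg, sg, sg, map_pow]; ring)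

theorem indHom_semiAut (c : Fˣ) (σ : F ≃+* F) (a : F) : indHom (semiAut (m := m) c σ) a = (c : F) * σ a := rfl

theorem finrank_eq [Algebra (ZMod 2) F] : Module.finrank (ZMod 2) F = 2 * m + 1 := by
  haveI : Fact (Nat.Prime 2) := ⟨Nat.prime_two⟩
  have h := Module.natCard_eq_pow_finrank (K := ZMod 2) (V := F)
  have hc : Nat.card F = 2 ^ (2 * m + 1) := by rw [Nat.card_eq_fintype_card, hA.out.card]
  rw [hc, Nat.card_zmod] at h
  exact (Nat.pow_right_injective le_rfl h).symm

theorem card_range :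
    Nat.card (indHom (F := F) (m := m)).range = (2 * m + 1) * (2 ^ (2 * m + 1) - 1) := by
  classical
  haveI : Fact (Nat.Prime 2) := ⟨Nat.prime_two⟩
  letI : Algebra (ZMod 2) F := ZMod.algebra F 2
  let f : Fˣ × (F ≃+* F) → (indHom (F := F) (m := m)).range := fun p => ⟨indHom (semiAut p.1 p.2), _, rfl⟩
  have hf : Function.Bijective f := by
    refine ⟨?_, ?_⟩
    · rintro ⟨c, σ⟩ ⟨d, τ⟩ h
      have h' : ∀ a, (c : F) * σ a = (d : F) * τ a := fun a => by
        have := congrArg (fun e : (indHom (F := F) (m := m)).range => e.1 a) h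
        simpa [f, indHom_semiAut] using this
      have hcd : c = d := Units.ext (by simpa using h' 1)
      subst hcd
      exact Prod.ext rfl (RingEquiv.ext fun a => mul_left_cancel₀ c.ne_zero (h' a))
    · rintro ⟨_, α, rfl⟩
      obtain ⟨c, σ, h⟩ := range_semilinear α
      exact ⟨(c, σ), Subtype.ext (Equiv.ext fun a => (indHom_semiAut c σ a).trans (h a).symm)⟩
  have hg : Nat.card (F ≃+* F) = 2 * m + 1 := by
    have e : (F ≃+* F) ≃ (F ≃ₐ[ZMod 2] F) :=
      { toFun := fun σ => AlgEquiv.ofRingEquiv (f := σ) fun x => by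
          have := Subsingleton.elim ((σ : F →+* F).comp (algebraMap (ZMod 2) F)) (algebraMap (ZMod 2) F)
          exact RingHom.congr_fun this x
        invFun := fun σ => σ.toRingEquiv
        left_inv := fun σ => RingEquiv.ext fun x => rfl
        right_inv := fun σ => AlgEquiv.ext fun x => rfl }
    rw [Nat.card_congr e, IsGalois.card_aut_eq_finrank, finrank_eq (m := m)]
  rw [← Nat.card_congr (Equiv.ofBijective f hf), Nat.card_prod, hg, Nat.card_units, Nat.card_eq_fintype_card,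
    hA.out.card, mul_comm]

theorem mem_ker_ind {α : MulAut (V F m)} : α ∈ (indHom (F := F) (m := m)).ker ↔ ∀ x, (α x).a = x.a := by
  rw [MonoidHom.mem_ker]
  refine ⟨fun h x => by rw [← indHom_apply, h]; rfl, fun h => Equiv.ext fun a => h ⟨a, 0⟩⟩

theorem ker_fix {α : MulAut (V F m)} (h : ∀ x, (α x).a = x.a) {z : V F m} (hz : z.a = 0) : α z = z := by
  obtain ⟨a, ha⟩ := q_surj (m := m) z.b
  have hzz : z = (⟨a, 0⟩ : V F m) * ⟨a, 0⟩ := V.ext (hz.trans (sq_b _).1.symm) (by rw [(sq_b _).2, ha])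
  rw [hzz, map_mul]
  exact V.ext (by rw [(sq_b _).1, (sq_b _).1]) (by rw [(sq_b _).2, (sq_b _).2, h])

/-- central automorphisms -/
def cenAut (f : F →+ F) : MulAut (V F m) where
  toFun x := ⟨x.a, x.b + f x.a⟩
  invFun x := ⟨x.a, x.b + f x.a⟩
  left_inv x := V.ext rfl (by
    show x.b + f x.a + f x.a = x.b
    linear_combination f x.a * (CharTwo.two_eq_zero (R := F)))
  right_inv x := V.ext rfl (by
    show x.b + f x.a + f x.a = x.b
    linear_combination f x.a * (CharTwo.two_eq_zero (R := F)))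
  map_mul' x y := V.ext rfl (by
    show x.b + y.b + y.a * sg m x.a + f (x.a + y.a) = x.b + f x.a + (y.b + f y.a) + y.a * sg m x.a
    rw [map_add]; ring)

theorem card_ker : Nat.card (indHom (F := F) (m := m)).ker = 2 ^ ((2 * m + 1) ^ 2) := by
  classical
  haveI : Fact (Nat.Prime 2) := ⟨Nat.prime_two⟩
  letI : Algebra (ZMod 2) F := ZMod.algebra F 2
  have e : (indHom (F := F) (m := m)).ker ≃ (F →+ F) :=
    { toFun := fun α => AddMonoidHom.mk' (fun a => (α.1 ⟨a, 0⟩).b) fun a b => by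
        have hk := mem_ker_ind.1 α.2
        have h1 : (⟨a, 0⟩ : V F m) * ⟨b, 0⟩ = (⟨a + b, 0⟩ : V F m) * ⟨0, b * sg m a⟩ :=
          V.ext (add_zero _).symm (by rw [mul_b, mul_b]; ring)
        have h2 := congrArg (fun x => (α.1 x).b) h1
        simp only [map_mul, mul_b, hk, ker_fix hk (z := ⟨0, b * sg m a⟩) rfl, zero_mul, add_zero] at h2
        linear_combination -h2
      invFun := fun f => ⟨cenAut f, mem_ker_ind.2 fun x => rfl⟩
      left_inv := fun α => Subtype.ext (MulEquiv.ext fun x => by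
        have hk := mem_ker_ind.1 α.2
        have h1 : x = (⟨x.a, 0⟩ : V F m) * ⟨0, x.b⟩ := V.ext (add_zero _).symm (by rw [mul_b]; ring)
        have h2 := congrArg (fun y => (α.1 y).b) h1
        simp only [map_mul, mul_b, hk, ker_fix hk (z := ⟨0, x.b⟩) rfl, zero_mul, add_zero] at h2
        exact V.ext (hk x).symm (by
          show x.b + (α.1 ⟨x.a, 0⟩).b = (α.1 x).b
          rw [h2, add_comm]))
      right_inv := fun f => AddMonoidHom.ext fun a => by
        show (0 : F) + f a = f a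
        rw [zero_add] }
  rw [Nat.card_congr e]
  have e' : (F →+ F) ≃ (F →ₗ[ZMod 2] F) :=
    { toFun := fun f => f.toZModLinearMap 2
      invFun := fun f => f.toAddMonoidHom
      left_inv := fun f => AddMonoidHom.ext fun x => rfl
      right_inv := fun f => LinearMap.ext fun x => rfl }
  rw [Nat.card_congr (e'.trans ((Module.finBasis (ZMod 2) F).constr (ZMod 2)).symm.toEquiv), Nat.card_fun,
    Nat.card_fin, finrank_eq (m := m), Nat.card_eq_fintype_card, hA.out.card, ← pow_mul, sq]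

theorem pCore_eq : Cfsg.pCore 2 (MulAut (V F m)) = (indHom (F := F) (m := m)).ker := by
  classical
  haveI : Fact (Nat.Prime 2) := ⟨Nat.prime_two⟩
  refine le_antisymm (sSup_le ?_) (le_sSup ⟨MonoidHom.normal_ker _, IsPGroup.of_card (card_ker)⟩)
  rintro N ⟨hN, hP⟩ α hα
  rw [MonoidHom.mem_ker]
  have hodd : ∀ d : Fˣ, ∀ j : ℕ, d ^ 2 ^ j = 1 → d = 1 := fun d j hd => by
    have h1 : ((d : F)) ^ 2 ^ j = 1 := by rw [← Units.val_pow_eq_pow_val, hd, Units.val_one]
    exact Units.ext (iterateFrobenius_inj F 2 j (by rw [iterateFrobenius_def, iterateFrobenius_def, Units.val_one, one_pow, h1]))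
  obtain ⟨c, σ, h⟩ := range_semilinear α
  have hμ : ∀ μ : Fˣ, σ (μ : F) = μ := by
    intro μ
    let τ : MulAut (V F m) := semiAut μ (RingEquiv.refl F)
    have hβ : α * τ * α⁻¹ * τ⁻¹ ∈ N := by
      rw [mul_assoc, mul_assoc, ← mul_assoc τ]
      exact mul_mem hα (hN.conj_mem _ (inv_mem hα) τ)
    obtain ⟨j, hj⟩ := hP ⟨_, hβ⟩
    obtain ⟨d, hd⟩ : ∃ d : Fˣ, d = Units.map σ.toMonoidHom μ * μ⁻¹ := ⟨_, rfl⟩
    have hact : ∀ a, indHom (α * τ * α⁻¹ * τ⁻¹) a = (d : F) * a := by
      intro a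
      obtain ⟨y, hy⟩ := (indHom α).surjective (((μ⁻¹ : Fˣ) : F) * a)
      have h1 : indHom τ⁻¹ a = ((μ⁻¹ : Fˣ) : F) * a := by
        rw [map_inv, Equiv.Perm.inv_eq_iff_eq]
        show a = indHom τ _
        rw [indHom_semiAut, RingEquiv.refl_apply, Units.mul_inv_cancel_left]
      rw [map_mul, map_mul, map_mul, Equiv.Perm.mul_apply, Equiv.Perm.mul_apply, Equiv.Perm.mul_apply, h1, ← hy]
      have h2 : indHom α⁻¹ (indHom α y) = y := by
        rw [← Equiv.Perm.mul_apply, ← map_mul, inv_mul_cancel, map_one]; rfl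
      rw [h2, indHom_semiAut, h, RingEquiv.refl_apply, map_mul]
      rw [h] at hy
      rw [hd, Units.val_mul]
      show (c : F) * (σ (μ : F) * σ y) = σ (μ : F) * ((μ⁻¹ : Fˣ) : F) * a
      linear_combination σ (μ : F) * hy
    have hpow : ∀ k : ℕ, ∀ a, indHom ((α * τ * α⁻¹ * τ⁻¹) ^ k) a = (d : F) ^ k * a := by
      intro k
      induction k with
      | zero => intro a; rw [pow_zero, map_one, pow_zero, one_mul]; rfl
      | succ k ih => intro a; rw [pow_succ, map_mul, Equiv.Perm.mul_apply, hact, ih, pow_succ]; ring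
    have h3 := hpow (2 ^ j) 1
    rw [show (α * τ * α⁻¹ * τ⁻¹) ^ 2 ^ j = 1 from congrArg Subtype.val hj, map_one (indHom (F := F) (m := m)),
      Equiv.Perm.one_apply, mul_one] at h3
    have h4 : d = 1 := hodd d j (Units.ext (by rw [Units.val_pow_eq_pow_val, Units.val_one]; exact h3.symm))
    rw [hd, mul_inv_eq_one] at h4
    exact congrArg Units.val h4
  have hσ : ∀ a, indHom α a = (c : F) * a := fun a => by
    rw [h]
    by_cases ha : a = 0
    · rw [ha, map_zero]
    · rw [show σ a = a from hμ (Units.mk0 a ha)]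
  have hpow : ∀ k : ℕ, ∀ a, indHom (α ^ k) a = (c : F) ^ k * a := by
    intro k
    induction k with
    | zero => intro a; rw [pow_zero, map_one, pow_zero, one_mul]; rfl
    | succ k ih => intro a; rw [pow_succ, map_mul, Equiv.Perm.mul_apply, hσ, ih, pow_succ]; ring
  obtain ⟨j, hj⟩ := hP ⟨α, hα⟩
  have h3 := hpow (2 ^ j) 1
  rw [show α ^ 2 ^ j = 1 from congrArg Subtype.val hj, map_one (indHom (F := F) (m := m)), Equiv.Perm.one_apply,
    mul_one] at h3
  have h4 : c = 1 := hodd c j (Units.ext (by rw [Units.val_pow_eq_pow_val, Units.val_one]; exact h3.symm))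
  exact Equiv.ext fun a => by rw [hσ, h4, Units.val_one, one_mul]; rfl

theorem aut_structure :
    Cfsg.IsElementaryAbelian 2 (Cfsg.pCore 2 (MulAut (V F m))) ∧
      Nat.card (Cfsg.pCore 2 (MulAut (V F m))) = 2 ^ ((2 * m + 1) ^ 2) ∧
      Nat.card (MulAut (V F m)) = 2 ^ ((2 * m + 1) ^ 2) * ((2 * m + 1) * (2 ^ (2 * m + 1) - 1)) := by
  rw [pCore_eq]
  have hz : ∀ {α : MulAut (V F m)}, α ∈ (indHom (F := F) (m := m)).ker → ∀ x,
      ∃ z : V F m, z.a = 0 ∧ α x = x * z := fun {α} hα x =>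
    ⟨x⁻¹ * α x, by rw [mul_a, inv_a, mem_ker_ind.1 hα, CharTwo.add_self_eq_zero], by rw [mul_inv_cancel_left]⟩
  refine ⟨⟨⟨⟨fun α β => Subtype.ext (MulEquiv.ext fun x => ?_)⟩⟩, fun α hα => MulEquiv.ext fun x => ?_⟩,
    card_ker, ?_⟩
  · obtain ⟨a, ha, hax⟩ := hz α.2 x
    obtain ⟨b, hb, hbx⟩ := hz β.2 x
    show α.1 (β.1 x) = β.1 (α.1 x)
    rw [hbx, hax, map_mul, map_mul, ker_fix (mem_ker_ind.1 α.2) hb, ker_fix (mem_ker_ind.1 β.2) ha, hax, hbx,
      mul_assoc, mul_assoc, Subgroup.mem_center_iff.1 (mem_center.2 hb) a]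
  · obtain ⟨a, ha, hax⟩ := hz hα x
    show (α ^ 2) x = x
    rw [pow_two, MulAut.mul_apply, hax, map_mul, ker_fix (mem_ker_ind.1 hα) ha, hax, mul_assoc]
    rw [show a * a = 1 from V.ext ((sq_b a).1) (by rw [(sq_b a).2, ha, zero_mul]; rfl), mul_one]
  · rw [← (indHom (F := F) (m := m)).ker.card_mul_index, Subgroup.index_ker, card_range, card_ker]

theorem pCore_congr {P P' : Type*} [Group P] [Group P'] (e : P ≃* P') :
    (Cfsg.pCore 2 P).map e.toMonoidHom = Cfsg.pCore 2 P' := by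
  refine le_antisymm ?_ ?_
  · rw [Cfsg.pCore, Subgroup.map_le_iff_le_comap]
    refine sSup_le ?_
    rintro N ⟨hN, hP⟩
    rw [← Subgroup.map_le_iff_le_comap]
    exact le_sSup ⟨hN.map _ e.surjective, hP.map _⟩
  · refine sSup_le ?_
    rintro N ⟨hN, hP⟩
    have h1 : N = (N.comap e.toMonoidHom).map e.toMonoidHom :=
      (Subgroup.map_comap_eq_self_of_surjective e.surjective N).symm
    rw [h1]
    exact Subgroup.map_mono (le_sSup ⟨hN.comap _, hP.comap_of_injective _ e.injective⟩)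

theorem aut_structure_of_iso {S : Type*} [Group S] (e : S ≃* V F m) :
    Cfsg.IsElementaryAbelian 2 (Cfsg.pCore 2 (MulAut S)) ∧
      Nat.card (Cfsg.pCore 2 (MulAut S)) = 2 ^ ((2 * m + 1) ^ 2) ∧
      Nat.card (MulAut S) = 2 ^ ((2 * m + 1) ^ 2) * ((2 * m + 1) * (2 ^ (2 * m + 1) - 1)) := by
  obtain ⟨⟨hc, hs⟩, h1, h2⟩ := aut_structure (F := F) (m := m)
  obtain ⟨E, hE⟩ : ∃ E, E = MulAut.congr e := ⟨_, rfl⟩
  have hmap := pCore_congr E
  have hmem : ∀ x ∈ Cfsg.pCore 2 (MulAut S), E x ∈ Cfsg.pCore 2 (MulAut (V F m)) :=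
    fun x hx => hmap ▸ Subgroup.mem_map_of_mem _ hx
  refine ⟨⟨⟨⟨fun a b => Subtype.ext (E.injective ?_)⟩⟩, fun a ha => E.injective ?_⟩, ?_, ?_⟩
  · show E (a.1 * b.1) = E (b.1 * a.1)
    rw [map_mul, map_mul]
    exact congrArg Subtype.val (hc.1.1 ⟨_, hmem _ a.2⟩ ⟨_, hmem _ b.2⟩)
  · rw [map_pow, map_one]; exact hs _ (hmem _ ha)
  · rw [← h1, ← hmap]
    exact Nat.card_congr (Subgroup.equivMapOfInjective _ _ E.injective).toEquiv
  · rw [Nat.card_congr E.toEquiv, h2]

end CfsgLib.Lie.SzAut
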