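import Cfsg.Agent.Base.Laws.Suzuki

/-!
Arbitrarily large groups with the prime graph of a Suzuki group.
-/

set_option autoImplicit false
set_option linter.unusedSectionVars false
set_option linter.unusedSimpArgs false

namespace CfsgLib.Lie.SzGraph

open Matrix CfsgLib.Base.Laws

variable {F : Type*} [Field F]

/-- the minor of two rows at two columns -/
def mn (A : Matrix (Fin 4) (Fin 4) F) (k l i j : Fin 4) : F := A k i * A l j - A l i * A k j

/-- principal two-minors -/
def e2 (A : Matrix (Fin 4) (Fin 4) F) : F :=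
  mn A 0 1 0 1 + mn A 0 2 0 2 + mn A 0 3 0 3 + mn A 1 2 1 2 + mn A 1 3 1 3 + mn A 2 3 2 3

set_option maxHeartbeats 4000000 in
theorem charpoly_four (A : Matrix (Fin 4) (Fin 4) F) :
    A.charpoly = Polynomial.X ^ 4 - Polynomial.C A.trace * Polynomial.X ^ 3 +
      Polynomial.C (e2 A) * Polynomial.X ^ 2 - Polynomial.C A.adjugate.trace * Polynomial.X +
      Polynomial.C A.det := by
  simp [Matrix.charpoly, Matrix.trace, Matrix.det_succ_row_zero, Fin.sum_univ_succ, e2, mn,
    Matrix.adjugate_fin_succ_eq_det_submatrix, Fin.succAbove, Matrix.charmatrix_apply]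
  ring

theorem star_mul_general (A B : Matrix (Fin 4) (Fin 4) F) (p r : Fin 4) :
    Cfsg.Lie.star4 (A * B) p r = (Cfsg.Lie.star4 A * Cfsg.Lie.star4 B) p r +
      mn A (Cfsg.Lie.pairOf p).1 (Cfsg.Lie.pairOf p).2 0 3 *
        mn B 0 3 (Cfsg.Lie.pairOf r).1 (Cfsg.Lie.pairOf r).2 +
      mn A (Cfsg.Lie.pairOf p).1 (Cfsg.Lie.pairOf p).2 1 2 *
        mn B 1 2 (Cfsg.Lie.pairOf r).1 (Cfsg.Lie.pairOf r).2 := by
  simp only [Cfsg.Lie.star4, Matrix.of_apply, Matrix.mul_apply, Fin.sum_univ_four, mn]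
  generalize (Cfsg.Lie.pairOf p).1 = k, (Cfsg.Lie.pairOf p).2 = l
  generalize (Cfsg.Lie.pairOf r).1 = i, (Cfsg.Lie.pairOf r).2 = j
  simp [Cfsg.Lie.pairOf]
  ring

section Sp

variable {e : ℕ}

theorem altForm_single (A : Matrix (Fin 4) (Fin 4) F) (i j : Fin 4) :
    Cfsg.Lie.altForm4 (A *ᵥ Pi.single i 1) (A *ᵥ Pi.single j 1) =
      A 0 i * A 3 j + A 1 i * A 2 j + A 2 i * A 1 j + A 3 i * A 0 j := by
  simp [Cfsg.Lie.altForm4]

theorem gram {g : GL (Fin 4) F} (hg : g ∈ Cfsg.Lie.Sp4 F) :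
    (g : Matrix (Fin 4) (Fin 4) F)ᵀ * szJ * (g : Matrix (Fin 4) (Fin 4) F) = szJ := by
  ext i j
  have h := hg (Pi.single i 1) (Pi.single j 1)
  change Cfsg.Lie.altForm4 ((g : Matrix (Fin 4) (Fin 4) F) *ᵥ _) ((g : Matrix (Fin 4) (Fin 4) F) *ᵥ _) = _ at h
  rw [altForm_single] at h
  have h' : Cfsg.Lie.altForm4 (Pi.single i (1 : F)) (Pi.single j 1) = (szJ : Matrix (Fin 4) (Fin 4) F) i j := by
    fin_cases i <;> fin_cases j <;> simp [Cfsg.Lie.altForm4, szJ, Pi.single_apply]
  rw [h'] at h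
  rw [← h]
  simp [Matrix.mul_apply, Fin.sum_univ_four, szJ]
  ring

theorem inv_eq {g : GL (Fin 4) F} (hg : g ∈ Cfsg.Lie.Sp4 F) :
    (g : Matrix (Fin 4) (Fin 4) F) * (szJ * (g : Matrix (Fin 4) (Fin 4) F)ᵀ * szJ) = 1 :=
  mul_eq_one_comm.1 (by
    rw [Matrix.mul_assoc, Matrix.mul_assoc, ← Matrix.mul_assoc (g : Matrix (Fin 4) (Fin 4) F)ᵀ,
      gram hg, szJ_mul_self])

theorem gram' {g : GL (Fin 4) F} (hg : g ∈ Cfsg.Lie.Sp4 F) :
    (g : Matrix (Fin 4) (Fin 4) F) * szJ * (g : Matrix (Fin 4) (Fin 4) F)ᵀ = szJ := by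
  have h := congrArg (· * (szJ : Matrix (Fin 4) (Fin 4) F)) (inv_eq hg)
  simp only [Matrix.mul_assoc, szJ_mul_self, Matrix.mul_one, Matrix.one_mul] at h
  rwa [← Matrix.mul_assoc] at h

theorem row_form {g : GL (Fin 4) F} (hg : g ∈ Cfsg.Lie.Sp4 F) (k l : Fin 4) :
    (g : Matrix (Fin 4) (Fin 4) F) k 0 * (g : Matrix (Fin 4) (Fin 4) F) l 3 +
      (g : Matrix (Fin 4) (Fin 4) F) k 1 * (g : Matrix (Fin 4) (Fin 4) F) l 2 +
      (g : Matrix (Fin 4) (Fin 4) F) k 2 * (g : Matrix (Fin 4) (Fin 4) F) l 1 +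
      (g : Matrix (Fin 4) (Fin 4) F) k 3 * (g : Matrix (Fin 4) (Fin 4) F) l 0 =
      (szJ : Matrix (Fin 4) (Fin 4) F) k l := by
  rw [← congrFun (congrFun (gram' hg) k) l]
  simp [Matrix.mul_apply, Fin.sum_univ_four, szJ]
  ring

theorem col_form {g : GL (Fin 4) F} (hg : g ∈ Cfsg.Lie.Sp4 F) (i j : Fin 4) :
    (g : Matrix (Fin 4) (Fin 4) F) 0 i * (g : Matrix (Fin 4) (Fin 4) F) 3 j +
      (g : Matrix (Fin 4) (Fin 4) F) 1 i * (g : Matrix (Fin 4) (Fin 4) F) 2 j +
      (g : Matrix (Fin 4) (Fin 4) F) 2 i * (g : Matrix (Fin 4) (Fin 4) F) 1 j +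
      (g : Matrix (Fin 4) (Fin 4) F) 3 i * (g : Matrix (Fin 4) (Fin 4) F) 0 j =
      (szJ : Matrix (Fin 4) (Fin 4) F) i j := by
  rw [← congrFun (congrFun (gram hg) i) j]
  simp [Matrix.mul_apply, Fin.sum_univ_four, szJ]
  ring

theorem pair_off (p : Fin 4) :
    (szJ : Matrix (Fin 4) (Fin 4) F) (Cfsg.Lie.pairOf p).1 (Cfsg.Lie.pairOf p).2 = 0 := by
  fin_cases p <;> simp [Cfsg.Lie.pairOf, szJ]

theorem star_mul (h : SzExp F e) {a b : GL (Fin 4) F} (ha : a ∈ Cfsg.Lie.Sp4 F)
    (hb : b ∈ Cfsg.Lie.Sp4 F) :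
    Cfsg.Lie.star4 ((a * b : GL (Fin 4) F) : Matrix (Fin 4) (Fin 4) F) =
      Cfsg.Lie.star4 (a : Matrix (Fin 4) (Fin 4) F) * Cfsg.Lie.star4 (b : Matrix (Fin 4) (Fin 4) F) := by
  ext p r
  rw [Units.val_mul, star_mul_general, add_assoc, add_eq_left]
  have h1 := row_form ha (Cfsg.Lie.pairOf p).1 (Cfsg.Lie.pairOf p).2
  have h2 := col_form hb (Cfsg.Lie.pairOf r).1 (Cfsg.Lie.pairOf r).2
  rw [pair_off] at h1 h2
  set A := (a : Matrix (Fin 4) (Fin 4) F)
  set B := (b : Matrix (Fin 4) (Fin 4) F)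
  set k := (Cfsg.Lie.pairOf p).1
  set l := (Cfsg.Lie.pairOf p).2
  set i := (Cfsg.Lie.pairOf r).1
  set j := (Cfsg.Lie.pairOf r).2
  have m1 : mn A k l 1 2 = mn A k l 0 3 := by
    simp only [mn]
    linear_combination h1 - (A k 0 * A l 3 + A l 1 * A k 2) * h.two
  have m2 : mn B 1 2 i j = mn B 0 3 i j := by
    simp only [mn]
    linear_combination h2 - (B 0 i * B 3 j + B 2 i * B 1 j) * h.two
  rw [m1, m2]
  linear_combination (mn A k l 0 3 * mn B 0 3 i j) * h.two

/-- The defining condition. -/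
def Good (e : ℕ) (g : GL (Fin 4) F) : Prop :=
  g ∈ Cfsg.Lie.Sp4 F ∧ Cfsg.Lie.star4 (g : Matrix (Fin 4) (Fin 4) F) =
    (g : Matrix (Fin 4) (Fin 4) F).map (fun x => x ^ e)

theorem good_of_mem [Finite F] (h : SzExp F e) (he : e ≠ 0) {g : GL (Fin 4) F}
    (hg : g ∈ Cfsg.Lie.Sz F e) : Good e g := by
  have : Finite (GL (Fin 4) F) := inferInstance
  have hone : Good e (1 : GL (Fin 4) F) := by
    refine ⟨one_mem _, ?_⟩
    ext p r
    fin_cases p <;> fin_cases r <;> simp [Cfsg.Lie.star4, Cfsg.Lie.pairOf, he, Matrix.one_apply]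
  have hmul : ∀ a b : GL (Fin 4) F, Good e a → Good e b → Good e (a * b) := by
    intro a b ha hb
    refine ⟨mul_mem ha.1 hb.1, ?_⟩
    rw [star_mul h ha.1 hb.1, ha.2, hb.2, Units.val_mul]
    let φ : F →+* F := { powMonoidHom e with map_zero' := zero_pow he, map_add' := h.add }
    exact (Matrix.map_mul (f := φ)).symm
  induction hg using Subgroup.closure_induction with
  | mem x hx => exact hx
  | one => exact hone
  | mul a b _ _ ha hb => exact hmul a b ha hb
  | inv a _ ha =>
    have hp : ∀ n : ℕ, Good e (a ^ n) := fun n => by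
      induction n with
      | zero => rw [pow_zero]; exact hone
      | succ n ih => rw [pow_succ]; exact hmul _ _ ih ha
    have hpos := orderOf_pos a
    have hinv : a⁻¹ = a ^ (orderOf a - 1) := by
      refine inv_eq_of_mul_eq_one_right ?_
      rw [← pow_succ', Nat.sub_add_cancel hpos, pow_orderOf_eq_one]
    rw [hinv]; exact hp _

theorem pow_four_of_fixed (h : SzExp F e) (he : e ≠ 0) {g : GL (Fin 4) F} (hg : Good e g) {v : Fin 4 → F}
    (hv : v ≠ 0) (hgv : (g : Matrix (Fin 4) (Fin 4) F) *ᵥ v = v) : g ^ 4 = 1 := by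
  set A := (g : Matrix (Fin 4) (Fin 4) F) with hA
  have h2 := h.two
  have hdet : A.det = 1 := by
    have hh := congrArg Matrix.det (gram hg.1)
    rw [Matrix.det_mul, Matrix.det_mul, Matrix.det_transpose] at hh
    have hJ : (szJ : Matrix (Fin 4) (Fin 4) F).det ≠ 0 := fun h0 => by
      have := congrArg Matrix.det (szJ_mul_self (F := F))
      rw [Matrix.det_mul, h0, zero_mul, Matrix.det_one] at this
      exact zero_ne_one this
    have h1 : A.det * A.det = 1 := mul_left_cancel₀ hJ (by rw [mul_one]; linear_combination hh)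
    rcases mul_self_eq_one_iff.1 h1 with h3 | h3
    · exact h3
    · rw [h3]; linear_combination -h2
  have hadj : A.adjugate = szJ * Aᵀ * szJ := by
    have e1 := inv_eq hg.1
    rw [← hA] at e1
    calc A.adjugate = A.adjugate * (A * (szJ * Aᵀ * szJ)) := by rw [e1, Matrix.mul_one]
      _ = _ := by rw [← Matrix.mul_assoc A.adjugate, Matrix.adjugate_mul, hdet, one_smul, Matrix.one_mul]
  have htr : A.adjugate.trace = A.trace := by
    rw [hadj, Matrix.trace_mul_comm, ← Matrix.mul_assoc, szJ_mul_self, Matrix.one_mul, Matrix.trace_transpose]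
  have hstar : e2 A = A.trace ^ e := by
    have ht := congrArg Matrix.trace hg.2
    have r := row_form hg.1 1 2
    have c := col_form hg.1 0 3
    simp [szJ] at r c
    rw [← hA] at r c ht
    simp [Matrix.trace, Fin.sum_univ_four, Cfsg.Lie.star4, Cfsg.Lie.pairOf] at ht
    simp only [Matrix.trace, Fin.sum_univ_four, Matrix.diag, h.add, e2, mn]
    linear_combination ht + r + c - (A 1 0 * A 2 3 + A 2 0 * A 1 3 + A 2 1 * A 1 2 + A 3 0 * A 0 3) * h2 + h2
  have heval : (A.charpoly).eval 1 = 0 := by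
    rw [Matrix.eval_charpoly]
    refine Matrix.exists_mulVec_eq_zero_iff.1 ⟨v, hv, ?_⟩
    rw [Matrix.sub_mulVec, map_one, Matrix.one_mulVec, hgv, sub_self]
  rw [charpoly_four, htr, hdet] at heval
  simp at heval
  have he2 : e2 A = 0 := by linear_combination heval + (A.trace - 1) * h2
  have ht0 : A.trace = 0 := by
    rw [hstar] at he2
    exact (pow_eq_zero_iff he).1 he2
  have hch := Matrix.aeval_self_charpoly A
  rw [charpoly_four, htr, hdet, ht0, he2] at hch
  simp at hch
  refine Units.ext ?_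
  rw [Units.val_pow_eq_pow_val, Units.val_one, ← hA, eq_neg_of_add_eq_zero_left hch]
  ext i j
  rw [Matrix.neg_apply]
  linear_combination -((1 : Matrix (Fin 4) (Fin 4) F) i j) * h2

theorem fixed_eq_zero [Finite F] (h : SzExp F e) (he : e ≠ 0) {g : GL (Fin 4) F}
    (hg : g ∈ Cfsg.Lie.Sz F e) {p : ℕ} (hp : p.Prime) (hp2 : p ≠ 2) (hord : orderOf g = p) {v : Fin 4 → F}
    (hgv : (g : Matrix (Fin 4) (Fin 4) F) *ᵥ v = v) : v = 0 := by
  by_contra hv
  have h4 := orderOf_dvd_of_pow_eq_one (pow_four_of_fixed h he (good_of_mem h he hg) hv hgv)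
  rw [hord] at h4
  have := (Nat.prime_dvd_prime_iff_eq hp Nat.prime_two).1 (hp.dvd_of_dvd_pow (show p ∣ 2 ^ 2 from h4))
  exact hp2 this

end Sp

/-- The coordinatewise action on several copies of the natural module. -/
def actHom (k : ℕ) (S : Subgroup (GL (Fin 4) F)) : S →* MulAut (Multiplicative (Fin k → Fin 4 → F)) where
  toFun g :=
    { toFun := fun v => Multiplicative.ofAdd fun i => ((g : GL (Fin 4) F) : Matrix (Fin 4) (Fin 4) F) *ᵥ v.toAdd i
      invFun := fun v => Multiplicative.ofAdd fun i =>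
        (((g⁻¹ : S) : GL (Fin 4) F) : Matrix (Fin 4) (Fin 4) F) *ᵥ v.toAdd i
      left_inv := fun v => by simp [Matrix.mulVec_mulVec, ← Units.val_mul]
      right_inv := fun v => by simp [Matrix.mulVec_mulVec, ← Units.val_mul]
      map_mul' := fun v w => congrArg Multiplicative.ofAdd (funext fun i => Matrix.mulVec_add _ _ _) }
  map_one' := by ext v; simp
  map_mul' a b := by ext v; simp [Matrix.mulVec_mulVec]

theorem main [Fintype F] {m : ℕ} (hF : Fintype.card F = 2 ^ (2 * m + 1)) (N : ℕ) :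
    ∃ (H : Type) (_ : Group H) (_ : Fintype H), N < Fintype.card H ∧
      ((∀ r : ℕ, r.Prime → (r ∣ Nat.card ↥(Cfsg.Lie.Sz F (2 ^ (m + 1))) ↔ r ∣ Nat.card H)) ∧
      (∀ r s : ℕ, r.Prime → s.Prime → r ≠ s →
        ((∃ x : ↥(Cfsg.Lie.Sz F (2 ^ (m + 1))), orderOf x = r * s) ↔ (∃ y : H, orderOf y = r * s)))) := by
  classical
  set e := 2 ^ (m + 1) with hedef
  have he : e ≠ 0 := pow_ne_zero _ two_ne_zero
  have h : SzExp F e := SzExp.of_card hF
  set S := Cfsg.Lie.Sz F e
  let M := Multiplicative (Fin N → Fin 4 → F)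
  let G := M ⋊[actHom N S] S
  let inr : S →* G := SemidirectProduct.inr
  let pr : G →* S := SemidirectProduct.rightHom
  have hfin : Finite G := Finite.of_equiv _ SemidirectProduct.equivProd.symm
  have hsmall : Small.{0} G := small_of_injective (Finite.equivFin G).injective
  let H := Shrink.{0} G
  let gH : Group H := inferInstanceAs (Group (Shrink.{0} G))
  let E : H ≃* G := Shrink.mulEquiv
  have hfinH : Finite H := Finite.of_equiv G E.symm.toEquiv
  let fH : Fintype H := Fintype.ofFinite H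
  have hM : Nat.card M = (2 ^ (2 * m + 1)) ^ (4 * N) := by
    rw [Nat.card_congr Multiplicative.toAdd, Nat.card_fun, Nat.card_fun, Nat.card_eq_fintype_card (α := F), hF]
    simp [← pow_mul, mul_comm, mul_assoc, mul_left_comm]
  have hcard : Nat.card H = Nat.card M * Nat.card S := by
    rw [Nat.card_congr E.toEquiv, SemidirectProduct.card]
  have h2S : 2 ∣ Nat.card S := by
    have hJ : orderOf (⟨szJUnit, szJUnit_mem h he⟩ : S) = 2 := by
      refine orderOf_eq_prime (Subtype.ext (Units.ext ?_)) ?_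
      · simp [pow_two, szJUnit, szJ_mul_self]
      · intro hc
        have h' := congrArg (fun x : S => ((x : GL (Fin 4) F) : Matrix (Fin 4) (Fin 4) F)) hc
        dsimp only at h'
        have := congrFun (congrFun h' 0) 0
        simp [szJUnit, szJ] at this
    exact hJ ▸ orderOf_dvd_natCard _
  refine ⟨H, gH, fH, ?_, ?_, ?_⟩
  · rw [← Nat.card_eq_fintype_card, hcard]
    have h1 : N < (2 ^ (2 * m + 1)) ^ (4 * N) ∨ N = 0 := by
      rcases Nat.eq_zero_or_pos N with h0 | h0
      · exact Or.inr h0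
      · left
        rw [← pow_mul]
        exact lt_of_le_of_lt (by nlinarith) (Nat.lt_two_pow_self)
    have hS : 1 ≤ Nat.card S := Nat.card_pos
    rcases h1 with h1 | h1
    · rw [← hM] at h1; nlinarith
    · rw [h1]; exact Nat.mul_pos Nat.card_pos Nat.card_pos
  · intro r hr
    rw [hcard, hr.dvd_mul, hM]
    refine ⟨Or.inr, fun h' => h'.elim (fun h3 => ?_) id⟩
    rw [← pow_mul] at h3
    exact (Nat.prime_dvd_prime_iff_eq hr Nat.prime_two).1 (hr.dvd_of_dvd_pow h3) ▸ h2S
  · intro r s hr hs hrs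
    have hinr : Function.Injective inr := SemidirectProduct.inr_injective
    constructor
    · rintro ⟨x, hx⟩
      refine ⟨E.symm (inr x), ?_⟩
      exact ((orderOf_injective E.symm.toMonoidHom E.symm.injective _).trans (orderOf_injective inr hinr x)).trans hx
    rintro ⟨y', hy'⟩
    obtain ⟨y, hy⟩ : ∃ y : G, orderOf y = r * s := ⟨E y', (orderOf_injective E.toMonoidHom E.injective y').trans hy'⟩
    refine ⟨pr y, ?_⟩
    set d := orderOf (pr y) with hd
    have hdvd : d ∣ r * s := hy ▸ orderOf_map_dvd pr y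
    have hker : pr (y ^ d) = 1 := by rw [map_pow, pow_orderOf_eq_one]
    have hsq : (y ^ d) ^ 2 = 1 := by
      obtain ⟨v, hv⟩ : y ^ d ∈ (SemidirectProduct.inl : M →* G).range := by
        rw [SemidirectProduct.range_inl_eq_ker_rightHom]; exact hker
      rw [← hv, ← map_pow, show v ^ 2 = 1 from by
        change Multiplicative.ofAdd (2 • v.toAdd) = 1
        rw [show 2 • v.toAdd = 0 from funext fun i => funext fun j => by
          simp only [Pi.smul_apply, Pi.zero_apply, nsmul_eq_mul]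
          push_cast
          rw [h.two, zero_mul]]
        rfl, map_one]
    have hdiv : r * s ∣ d * 2 := hy ▸ orderOf_dvd_of_pow_eq_one (by rw [pow_mul, hsq])
    -- reduce to one odd factor
    have key : ∀ p : ℕ, p.Prime → p ≠ 2 → d = p → r * s = 2 * p → False := by
      intro p hp hp2 hdp hrsp
      have hw : y ^ d ≠ 1 := fun h1 => by
        have := Nat.le_of_dvd hp.pos (hdp ▸ hy ▸ orderOf_dvd_of_pow_eq_one h1)
        rw [hrsp] at this
        have := hp.pos
        omega
      obtain ⟨v, hv⟩ : y ^ d ∈ (SemidirectProduct.inl : M →* G).range := by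
        rw [SemidirectProduct.range_inl_eq_ker_rightHom]; exact hker
      have hcomm : y * (y ^ d) = y ^ d * y := (Commute.self_pow y d).eq
      rw [← hv] at hcomm
      have hfix : actHom N S (pr y) v = v := by
        have := congrArg (fun g : G => g.left) hcomm
        rw [SemidirectProduct.mul_left, SemidirectProduct.mul_left, SemidirectProduct.right_inl, map_one,
          MulAut.one_apply, SemidirectProduct.left_inl, mul_comm v] at this
        exact mul_left_cancel this
      refine hw ?_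
      rw [← hv, show v = 1 from ?_, map_one]
      refine Multiplicative.toAdd.injective (funext fun i => ?_)
      have hgv := congrFun (congrArg Multiplicative.toAdd hfix) i
      refine fixed_eq_zero h he (pr y).2 hp hp2 ?_ hgv
      rw [Subgroup.orderOf_coe, ← hd, hdp]
    obtain ⟨a, b, ha, hb, hab⟩ := (Nat.dvd_mul.1 hdvd)
    rcases (Nat.dvd_prime hr).1 ha with rfl | rfl <;> rcases (Nat.dvd_prime hs).1 hb with rfl | rfl
    · -- trivial image
      exfalso
      rw [← hab, mul_one, one_mul] at hdiv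
      have h2r := (Nat.prime_dvd_prime_iff_eq hr Nat.prime_two).1 (dvd_trans (dvd_mul_right r s) hdiv)
      have h2s := (Nat.prime_dvd_prime_iff_eq hs Nat.prime_two).1 (dvd_trans (dvd_mul_left s r) hdiv)
      exact hrs (h2r.trans h2s.symm)
    · exfalso
      rw [one_mul] at hab
      rw [← hab] at hdiv
      have h2r : r = 2 := by
        rcases hr.dvd_mul.1 (dvd_trans (dvd_mul_right r b) hdiv) with h' | h'
        · exact absurd ((Nat.prime_dvd_prime_iff_eq hr hs).1 h') hrs
        · exact (Nat.prime_dvd_prime_iff_eq hr Nat.prime_two).1 h'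
      exact key b hs (fun h' => hrs (h2r.trans h'.symm)) hab.symm (by rw [h2r])
    · exfalso
      rw [mul_one] at hab
      rw [← hab] at hdiv
      have h2s : s = 2 := by
        rcases hs.dvd_mul.1 (dvd_trans (dvd_mul_left s a) hdiv) with h' | h'
        · exact absurd ((Nat.prime_dvd_prime_iff_eq hs hr).1 h').symm hrs
        · exact (Nat.prime_dvd_prime_iff_eq hs Nat.prime_two).1 h'
      exact key a hr (fun h' => hrs (h'.trans h2s.symm)) hab.symm (by rw [h2s, mul_comm])
    · exact hab.symm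

end CfsgLib.Lie.SzGraph
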