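import Cfsg.Prelude.Def_Sz
import Cfsg.Agent.Suz.Props

/-!
The twisted description of the Suzuki groups agrees with the stabiliser of the ovoid.
-/

set_option autoImplicit false
set_option linter.unusedSectionVars false
set_option linter.unusedSimpArgs false

namespace CfsgLib.Lie.SzModels

open Matrix Cfsg.Lie CfsgLib.Suz

variable {F : Type*} [Field F]

/-- the twisted condition -/
def Ok (e : ℕ) (g : GL (Fin 4) F) : Prop :=
  g ∈ Sp4 F ∧ star4 (g : Matrix (Fin 4) (Fin 4) F) = (g : Matrix (Fin 4) (Fin 4) F).map (fun x => x ^ e)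

/-- a two-minor -/
def mn (g : Matrix (Fin 4) (Fin 4) F) (k l i j : Fin 4) : F := g k i * g l j - g l i * g k j

theorem star4_apply (g : Matrix (Fin 4) (Fin 4) F) (p r : Fin 4) :
    star4 g p r = mn g (pairOf p).1 (pairOf p).2 (pairOf r).1 (pairOf r).2 := rfl

theorem altForm4_eq (u v : Fin 4 → F) : altForm4 u v = u ⬝ᵥ (Cfsg.suzukiForm F *ᵥ v) := by
  simp [altForm4, Cfsg.suzukiForm, Matrix.mulVec, dotProduct, Fin.sum_univ_four]

theorem mem_Sp4_iff (g : GL (Fin 4) F) : g ∈ Sp4 F ↔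
    (g : Matrix (Fin 4) (Fin 4) F)ᵀ * Cfsg.suzukiForm F * (g : Matrix (Fin 4) (Fin 4) F) = Cfsg.suzukiForm F := by
  set A := (g : Matrix (Fin 4) (Fin 4) F)
  have e : ∀ u v, altForm4 (A *ᵥ u) (A *ᵥ v) = u ⬝ᵥ ((Aᵀ * Cfsg.suzukiForm F * A) *ᵥ v) := fun u v => by
    rw [altForm4_eq, Matrix.mul_assoc, ← Matrix.mulVec_mulVec, ← Matrix.mulVec_mulVec, Matrix.dotProduct_mulVec u,
      Matrix.vecMul_transpose]
  constructor
  · intro h
    refine Matrix.ext fun i j => ?_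
    have := h (Pi.single i 1) (Pi.single j 1)
    change altForm4 (A *ᵥ _) (A *ᵥ _) = _ at this
    rw [e, altForm4_eq] at this
    simpa [Matrix.mulVec_single, single_dotProduct] using this
  · intro h u v
    show altForm4 (A *ᵥ u) (A *ᵥ v) = _
    rw [e, h, altForm4_eq]

theorem form_sq : Cfsg.suzukiForm F * Cfsg.suzukiForm F = 1 := by
  ext i j
  fin_cases i <;> fin_cases j <;> simp [Cfsg.suzukiForm, Matrix.mul_apply, Fin.sum_univ_four]

theorem row_form {g : GL (Fin 4) F} (hg : g ∈ Sp4 F) :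
    (g : Matrix (Fin 4) (Fin 4) F) * Cfsg.suzukiForm F * (g : Matrix (Fin 4) (Fin 4) F)ᵀ = Cfsg.suzukiForm F := by
  rw [mem_Sp4_iff] at hg
  set A := (g : Matrix (Fin 4) (Fin 4) F)
  have h1 : (Cfsg.suzukiForm F * Aᵀ * Cfsg.suzukiForm F) * A = 1 := by
    rw [Matrix.mul_assoc, Matrix.mul_assoc, ← Matrix.mul_assoc Aᵀ, hg, form_sq]
  have h2 : A * (Cfsg.suzukiForm F * Aᵀ * Cfsg.suzukiForm F) = 1 := mul_eq_one_comm.1 h1
  calc A * Cfsg.suzukiForm F * Aᵀ
      = A * Cfsg.suzukiForm F * Aᵀ * (Cfsg.suzukiForm F * Cfsg.suzukiForm F) := by rw [form_sq, Matrix.mul_one]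
    _ = (A * (Cfsg.suzukiForm F * Aᵀ * Cfsg.suzukiForm F)) * Cfsg.suzukiForm F := by simp only [Matrix.mul_assoc]
    _ = _ := by rw [h2, Matrix.one_mul]

theorem pair_zero (r : Fin 4) : (Cfsg.suzukiForm F) (pairOf r).1 (pairOf r).2 = 0 := by
  fin_cases r <;> simp [pairOf, Cfsg.suzukiForm]

theorem cols_zero (h2 : (2 : F) = 0) {g : GL (Fin 4) F} (hg : g ∈ Sp4 F) (r : Fin 4) :
    mn (g : Matrix (Fin 4) (Fin 4) F) 0 3 (pairOf r).1 (pairOf r).2 +
      mn (g : Matrix (Fin 4) (Fin 4) F) 1 2 (pairOf r).1 (pairOf r).2 = 0 := by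
  have h := congrFun (congrFun ((mem_Sp4_iff g).1 hg) (pairOf r).1) (pairOf r).2
  rw [pair_zero] at h
  simp [Matrix.mul_apply, Cfsg.suzukiForm, Fin.sum_univ_four] at h
  simp only [mn]
  generalize (g : Matrix (Fin 4) (Fin 4) F) = A at h ⊢
  linear_combination h - (A 3 (pairOf r).1 * A 0 (pairOf r).2 + A 2 (pairOf r).1 * A 1 (pairOf r).2) * h2

theorem rows_zero (h2 : (2 : F) = 0) {g : GL (Fin 4) F} (hg : g ∈ Sp4 F) (r : Fin 4) :
    mn (g : Matrix (Fin 4) (Fin 4) F) (pairOf r).1 (pairOf r).2 0 3 +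
      mn (g : Matrix (Fin 4) (Fin 4) F) (pairOf r).1 (pairOf r).2 1 2 = 0 := by
  have h := congrFun (congrFun (row_form hg) (pairOf r).1) (pairOf r).2
  rw [pair_zero] at h
  simp [Matrix.mul_apply, Cfsg.suzukiForm, Fin.sum_univ_four] at h
  simp only [mn]
  generalize (g : Matrix (Fin 4) (Fin 4) F) = A at h ⊢
  linear_combination h - (A (pairOf r).2 0 * A (pairOf r).1 3 + A (pairOf r).2 1 * A (pairOf r).1 2) * h2

theorem binet (A B : Matrix (Fin 4) (Fin 4) F) (k l i j : Fin 4) :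
    mn (A * B) k l i j = mn A k l 0 1 * mn B 0 1 i j + mn A k l 0 2 * mn B 0 2 i j + mn A k l 1 3 * mn B 1 3 i j +
      mn A k l 2 3 * mn B 2 3 i j + mn A k l 0 3 * mn B 0 3 i j + mn A k l 1 2 * mn B 1 2 i j := by
  simp only [mn, Matrix.mul_apply, Fin.sum_univ_four]
  ring

theorem ok_mul {e : ℕ} (h2 : (2 : F) = 0) (hadd : ∀ x y : F, (x + y) ^ e = x ^ e + y ^ e) {g s : GL (Fin 4) F}
    (hg : Ok e g) (hs : Ok e s) : Ok e (g * s) := by
  refine ⟨mul_mem hg.1 hs.1, ?_⟩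
  ext p r
  have hA : ∀ p r, mn (g : Matrix (Fin 4) (Fin 4) F) (pairOf p).1 (pairOf p).2 (pairOf r).1 (pairOf r).2 =
      ((g : Matrix (Fin 4) (Fin 4) F) p r) ^ e := fun p r => congrFun (congrFun hg.2 p) r
  have hB : ∀ p r, mn (s : Matrix (Fin 4) (Fin 4) F) (pairOf p).1 (pairOf p).2 (pairOf r).1 (pairOf r).2 =
      ((s : Matrix (Fin 4) (Fin 4) F) p r) ^ e := fun p r => congrFun (congrFun hs.2 p) r
  have a0 : mn (g : Matrix (Fin 4) (Fin 4) F) (pairOf p).1 (pairOf p).2 0 1 = _ := hA p 0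
  have a1 : mn (g : Matrix (Fin 4) (Fin 4) F) (pairOf p).1 (pairOf p).2 0 2 = _ := hA p 1
  have a2 : mn (g : Matrix (Fin 4) (Fin 4) F) (pairOf p).1 (pairOf p).2 1 3 = _ := hA p 2
  have a3 : mn (g : Matrix (Fin 4) (Fin 4) F) (pairOf p).1 (pairOf p).2 2 3 = _ := hA p 3
  have b0 : mn (s : Matrix (Fin 4) (Fin 4) F) 0 1 (pairOf r).1 (pairOf r).2 = _ := hB 0 r
  have b1 : mn (s : Matrix (Fin 4) (Fin 4) F) 0 2 (pairOf r).1 (pairOf r).2 = _ := hB 1 r
  have b2 : mn (s : Matrix (Fin 4) (Fin 4) F) 1 3 (pairOf r).1 (pairOf r).2 = _ := hB 2 r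
  have b3 : mn (s : Matrix (Fin 4) (Fin 4) F) 2 3 (pairOf r).1 (pairOf r).2 = _ := hB 3 r
  rw [star4_apply, Units.val_mul, binet, a0, a1, a2, a3, b0, b1, b2, b3, Matrix.map_apply, Matrix.mul_apply,
    Fin.sum_univ_four, hadd, hadd, hadd, mul_pow, mul_pow, mul_pow, mul_pow]
  linear_combination (mn (g : Matrix (Fin 4) (Fin 4) F) (pairOf p).1 (pairOf p).2 0 3) * cols_zero h2 hs.1 r +
    (mn (s : Matrix (Fin 4) (Fin 4) F) 1 2 (pairOf r).1 (pairOf r).2) * rows_zero h2 hg.1 p -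
    (mn (g : Matrix (Fin 4) (Fin 4) F) (pairOf p).1 (pairOf p).2 0 3 *
      mn (s : Matrix (Fin 4) (Fin 4) F) 1 2 (pairOf r).1 (pairOf r).2) * h2

variable [Fintype F] {m : ℕ}

/-- the first column of a twisted element spans a point of the ovoid -/
theorem first_column (A : Setup F m) {g : GL (Fin 4) F} (hg : Ok (2 ^ (m + 1)) g) :
    (∃ c : F, c ≠ 0 ∧ (fun i => (g : Matrix (Fin 4) (Fin 4) F) i 0) = c • (![1, 0, 0, 0] : Fin 4 → F)) ∨
      ∃ c x y : F, c ≠ 0 ∧ (fun i => (g : Matrix (Fin 4) (Fin 4) F) i 0) = c • vP m x y := by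
  set G := (g : Matrix (Fin 4) (Fin 4) F) with hG
  have h2 := A.two0
  have hA : ∀ p r, mn G (pairOf p).1 (pairOf p).2 (pairOf r).1 (pairOf r).2 = sg m (G p r) :=
    fun p r => congrFun (congrFun hg.2 p) r
  have p01 : mn G 0 1 0 1 = sg m (G 0 0) := hA 0 0
  have p02 : mn G 0 2 0 1 = sg m (G 1 0) := hA 1 0
  have p13 : mn G 1 3 0 1 = sg m (G 2 0) := hA 2 0
  have p23 : mn G 2 3 0 1 = sg m (G 3 0) := hA 3 0
  have hB : mn G 0 3 0 1 + mn G 1 2 0 1 = 0 := cols_zero h2 hg.1 0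
  simp only [mn] at p01 p02 p13 p23 hB
  set t := G 1 0 * G 2 1 - G 2 0 * G 1 1 with ht
  have e1 : G 1 0 * sg m (G 3 0) + G 2 0 * sg m (G 2 0) + G 3 0 * t = 0 := by
    rw [← p23, ← p13, ht]; linear_combination (G 1 0 * G 2 0 * G 3 1 - G 3 0 * G 2 0 * G 1 1) * h2
  have e3 : G 0 0 * sg m (G 3 0) + G 2 0 * t + G 3 0 * sg m (G 1 0) = 0 := by
    rw [← p23, ← p02, ht]
    linear_combination G 2 0 * hB + (G 0 0 * G 2 0 * G 3 1 * 0) * h2 +
      (G 3 0 * G 0 0 * G 2 1 * 0) * h2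
  have e4 : G 0 0 * t + G 1 0 * sg m (G 1 0) + G 2 0 * sg m (G 0 0) = 0 := by
    rw [← p02, ← p01, ht]; linear_combination (G 0 0 * G 1 0 * G 2 1 - G 2 0 * G 1 0 * G 0 1) * h2
  by_cases h3 : G 3 0 = 0
  · left
    have hs3 : sg m (G 3 0) = 0 := by rw [h3]; exact A.sg_zero
    have hv2 : G 2 0 = 0 := by
      rw [h3, A.sg_zero] at e1
      rcases mul_eq_zero.1 (show G 2 0 * sg m (G 2 0) = 0 by linear_combination e1) with h | h
      · exact h
      · exact A.sg_eq_zero h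
    have hv1 : G 1 0 = 0 := by
      by_contra hne
      have h' : G 1 0 * sg m (G 1 0) + G 0 0 * t = 0 := by rw [hv2] at e4; linear_combination e4
      have h5 : G 1 0 * t = 0 := by
        have hp : G 2 0 * (G 0 0 * G 3 1 - G 3 0 * G 0 1) = 0 := by rw [hv2]; ring
        have q1 : G 0 0 * sg m (G 2 0) + G 1 0 * t + G 3 0 * sg m (G 0 0) = 0 := by
          rw [← p13, ← p01, ht]
          linear_combination G 1 0 * hB + (G 0 0 * G 1 0 * G 3 1 * 0) * h2
        rw [hv2, A.sg_zero, h3] at q1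
        linear_combination q1
      rw [(mul_eq_zero.1 h5).resolve_left hne, mul_zero, add_zero] at h'
      exact hne ((mul_eq_zero.1 h').elim id A.sg_eq_zero)
    refine ⟨G 0 0, fun h0 => ?_, ?_⟩
    · exact (Matrix.GeneralLinearGroup.det_ne_zero g) (Matrix.det_eq_zero_of_column_eq_zero 0 fun i => by
        fin_cases i <;> first | exact h0 | exact hv1 | exact hv2 | exact h3)
    · funext i
      fin_cases i <;> simp [hv1, hv2, h3]
  · right
    refine ⟨G 3 0, G 2 0 / G 3 0, G 1 0 / G 3 0, h3, ?_⟩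
    have hs3 : sg m (G 3 0) ≠ 0 := fun h => h3 (A.sg_eq_zero h)
    have hfn : G 0 0 = G 3 0 * fn m (G 2 0 / G 3 0) (G 1 0 / G 3 0) := by
      have hd : ∀ u, sg m (u / G 3 0) = sg m u / sg m (G 3 0) := fun u => div_pow _ _ _
      rw [fn, hd, hd]
      field_simp
      linear_combination (G 3 0) * e3 - (G 2 0) * e1 + (- (G 3 0 ^ 2 * sg m (G 1 0))) * h2
    funext i
    fin_cases i
    · simpa [vP] using hfn
    all_goals simp [vP, mul_div_cancel₀ _ h3]

theorem exp_add (A : Setup F m) (x y : F) : (x + y) ^ 2 ^ (m + 1) = x ^ 2 ^ (m + 1) + y ^ 2 ^ (m + 1) :=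
  A.sg_add x y

theorem ok_T (A : Setup F m) (a b : F) : Ok (2 ^ (m + 1)) (SpecialLinearGroup.toGL (tSL m a b)) := by
  refine ⟨(mem_Sp4_iff _).2 (A.form_T a b), ?_⟩
  have hb : ∀ x : F, x ^ 2 ^ (m + 1) = sg m x := fun x => rfl
  show star4 (tMat m a b) = (tMat m a b).map (fun x => x ^ 2 ^ (m + 1))
  have h2 := A.two0
  ext i j
  fin_cases i <;> fin_cases j <;>
    simp [tMat, star4, pairOf, hb, fn, A.sg_add, A.sg_mul, A.sg_sg, A.sg_sq, A.sg_zero, A.sg_one] <;> grind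

theorem ok_H (A : Setup F m) (k : Fˣ) : Ok (2 ^ (m + 1)) (SpecialLinearGroup.toGL (hSL m k)) := by
  have hk := k.ne_zero
  have h2 := A.two0
  have e : sg m ((k : F) ^ 2 ^ m) = (k : F) := by
    rw [sg, ← pow_mul, ← pow_add, show m + (m + 1) = 2 * m + 1 by ring, ← A.card]
    exact FiniteField.pow_card _
  have e0 : sg m (k : F) = ((k : F) ^ 2 ^ m) ^ 2 := by rw [sg, ← pow_mul, pow_succ]
  have e1 : sg m ((k : F) ^ (2 ^ m + 1)) = (k : F) * ((k : F) ^ 2 ^ m) ^ 2 := by rw [pow_succ, A.sg_mul, e, e0]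
  refine ⟨(mem_Sp4_iff _).2 ?_, ?_⟩
  · show (hMat m k)ᵀ * Cfsg.suzukiForm F * hMat m k = _
    ext i j
    fin_cases i <;> fin_cases j <;>
      simp [hMat, Cfsg.suzukiForm, Matrix.diagonal_transpose, Matrix.diagonal_mul, Matrix.mul_diagonal, hk]
  · have hb : ∀ x : F, x ^ 2 ^ (m + 1) = sg m x := fun x => rfl
    have hinv : ∀ x : F, sg m x⁻¹ = (sg m x)⁻¹ := fun x => inv_pow _ _
    show star4 (hMat m k) = (hMat m k).map (fun x => x ^ 2 ^ (m + 1))
    ext i j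
    fin_cases i <;> fin_cases j <;>
      simp [hMat, star4, pairOf, hb, hinv, e, e1, A.sg_zero] <;> field_simp <;> ring

theorem ok_W (A : Setup F m) : Ok (2 ^ (m + 1)) (SpecialLinearGroup.toGL (wSL F)) := by
  have h2 := A.two0
  have hn : (-1 : F) = 1 := by linear_combination -h2
  refine ⟨(mem_Sp4_iff _).2 ?_, ?_⟩
  · show (Cfsg.suzukiForm F)ᵀ * Cfsg.suzukiForm F * Cfsg.suzukiForm F = _
    rw [Matrix.mul_assoc, form_sq, Matrix.mul_one]
    ext i j
    fin_cases i <;> fin_cases j <;> simp [Cfsg.suzukiForm]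
  · show star4 (Cfsg.suzukiForm F) = (Cfsg.suzukiForm F).map (fun x => x ^ 2 ^ (m + 1))
    ext i j
    fin_cases i <;> fin_cases j <;> simp [star4, pairOf, Cfsg.suzukiForm, hn]

theorem det_eq_one (A : Setup F m) {g : GL (Fin 4) F} (hg : g ∈ Sp4 F) :
    (g : Matrix (Fin 4) (Fin 4) F).det = 1 := by
  haveI := A.char2
  have h := congrArg Matrix.det ((mem_Sp4_iff g).1 hg)
  rw [Matrix.det_mul, Matrix.det_mul, Matrix.det_transpose, det_wMat, mul_one, ← pow_two] at h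
  exact CharTwo.sq_injective (h.trans (one_pow 2).symm)

theorem ok_preserves (A : Setup F m) {g : GL (Fin 4) F} (hg : Ok (2 ^ (m + 1)) g)
    (g' : Matrix.SpecialLinearGroup (Fin 4) F) (hgg : SpecialLinearGroup.toGL g' = g) : g' ∈ Cfsg.Sz F m := by
  have h2 := A.two0
  have hadd := exp_add A
  have first : ∀ s : Matrix.SpecialLinearGroup (Fin 4) F, Ok (2 ^ (m + 1)) (SpecialLinearGroup.toGL s) →
      s • (inf F m : Projectivization F (Fin 4 → F)) ∈ Cfsg.suzukiOvoid F m := by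
    intro s hs
    have he : (s : Matrix (Fin 4) (Fin 4) F) *ᵥ ![1, 0, 0, 0] = fun i => (s : Matrix (Fin 4) (Fin 4) F) i 0 := by
      funext i; simp [Matrix.mulVec, dotProduct, Fin.sum_univ_four]
    rcases first_column A hs with ⟨c, hc, h⟩ | ⟨c, x, y, hc, h⟩
    · rw [show s • (inf F m : Projectivization F (Fin 4 → F)) = inf F m from
        smul_mk' _ _ _ (c := c) (he.trans h)]
      exact (inf F m).2
    · rw [show s • (inf F m : Projectivization F (Fin 4 → F)) = pt m x y from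
        smul_mk' _ _ _ (c := c) (he.trans h)]
      exact (pt m x y).2
  refine A.mem_sz_of g' fun p => ?_
  rcases cases_pt p with rfl | ⟨x, y, rfl⟩
  · exact first g' (hgg ▸ hg)
  · have e : (pt m x y : Projectivization F (Fin 4 → F)) = (tSL m x y * wSL F) • (inf F m : Projectivization F (Fin 4 → F)) := by
      rw [mul_smul, A.wSL_inf, A.tSL_pt]
      simp [sg, zero_pow]
    rw [e, ← mul_smul]
    refine first _ ?_
    rw [map_mul, map_mul, hgg]
    exact ok_mul h2 hadd hg (ok_mul h2 hadd (ok_T A x y) (ok_W A))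

theorem range_eq (A : Setup F m) :
    (Cfsg.Sz F m).map SpecialLinearGroup.toGL = Cfsg.Lie.Sz F (2 ^ (m + 1)) := by
  refine le_antisymm ?_ ((Subgroup.closure_le _).2 fun g hg => ?_)
  · rw [Subgroup.map_le_iff_le_comap]
    intro g hg
    have := A.eq_top_of_gens ((Cfsg.Lie.Sz F (2 ^ (m + 1))).comap
      (SpecialLinearGroup.toGL.comp (Cfsg.Sz F m).subtype)) (fun a b => Subgroup.subset_closure (ok_T A a b))
      (fun k => Subgroup.subset_closure (ok_H A k)) (Subgroup.subset_closure (ok_W A))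
    have h := Subgroup.mem_top (⟨g, hg⟩ : Cfsg.Sz F m)
    rw [← this] at h
    exact h
  · refine ⟨⟨(g : Matrix (Fin 4) (Fin 4) F), det_eq_one A hg.1⟩, ?_, Units.ext rfl⟩
    exact ok_preserves A hg _ (Units.ext rfl)

/-- the two models are isomorphic -/
noncomputable def iso (A : Setup F m) : Cfsg.Sz F m ≃* ↥(Cfsg.Lie.Sz F (2 ^ (m + 1))) :=
  ((Cfsg.Sz F m).equivMapOfInjective _ SpecialLinearGroup.toGL_injective).trans
    (MulEquiv.subgroupCongr (range_eq A))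

end CfsgLib.Lie.SzModels
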