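import Cfsg.Agent.Lie.OrthFrame
import Cfsg.Agent.Lie.NonMax
import Cfsg.Agent.Lie.Herm
import Cfsg.Agent.Lie.Sp
import Cfsg.Prelude.Def_GeometricClasses

/-!
Tensor decompositions whose small factor has a frame permuted by all similarities: the stabiliser lies in a larger
decomposition stabiliser.
-/

set_option autoImplicit false
set_option linter.unusedSectionVars false
set_option linter.unusedSimpArgs false
set_option linter.unusedVariables false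

namespace CfsgLib.Lie.TensorFrame

open Matrix
open scoped Kronecker
open CfsgLib.Lie.NonMax (tvGL tvGL_mulVec tvGL_mem_SL)

variable {F : Type*} [Field F]

section Forms

variable {ι : Type} [Fintype ι] [DecidableEq ι]

/-- a sesquilinear map is the form of its Gram matrix -/
theorem eq_formOfGram (σ : F → F) (f : (ι → F) → (ι → F) → F)
    (h1 : ∀ x y v, f (x + y) v = f x v + f y v) (h2 : ∀ (c : F) x v, f (c • x) v = c * f x v)
    (h3 : ∀ v x y, f v (x + y) = f v x + f v y) (h4 : ∀ (c : F) v x, f v (c • x) = σ c * f v x) (u v : ι → F) :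
    f u v = Cfsg.Geo.formOfGram σ (Cfsg.Geo.gramMatrix f) u v := by
  classical
  let L : ∀ z, (ι → F) →+ F := fun z => AddMonoidHom.mk' (fun x => f x z) (fun x y => h1 x y z)
  let R : ∀ z, (ι → F) →+ F := fun z => AddMonoidHom.mk' (fun x => f z x) (fun x y => h3 z x y)
  have hu : f u v = ∑ a, u a * f (Pi.single a 1) v := by
    conv_lhs => rw [pi_eq_sum_univ' u]
    refine (map_sum (L v) _ _).trans (Finset.sum_congr rfl fun a _ => ?_)
    exact h2 _ _ _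
  have hv : ∀ z, f z v = ∑ b, σ (v b) * f z (Pi.single b 1) := by
    intro z
    conv_lhs => rw [pi_eq_sum_univ' v]
    refine (map_sum (R z) _ _).trans (Finset.sum_congr rfl fun b _ => ?_)
    exact h4 _ _ _
  rw [hu, Cfsg.Geo.formOfGram]
  refine Finset.sum_congr rfl fun a _ => ?_
  rw [hv, Finset.mul_sum]
  refine Finset.sum_congr rfl fun b _ => ?_
  show _ = u a * f (Pi.single a 1) (Pi.single b 1) * σ (v b)
  ring

theorem formOfGram_kron (σ : F → F) (hσ : ∀ a b, σ (a * b) = σ a * σ b) {n₁ n₂ : ℕ} (G₁ : Matrix (Fin n₁) (Fin n₁) F)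
    (G₂ : Matrix (Fin n₂) (Fin n₂) F) (u v : Fin n₁ → F) (y z : Fin n₂ → F) :
    Cfsg.Geo.formOfGram σ (G₁ ⊗ₖ G₂) (fun a => u a.1 * y a.2) (fun a => v a.1 * z a.2) =
      Cfsg.Geo.formOfGram σ G₁ u v * Cfsg.Geo.formOfGram σ G₂ y z := by
  simp only [Cfsg.Geo.formOfGram, Fintype.sum_prod_type, Matrix.kroneckerMap_apply, hσ]
  rw [Finset.sum_mul_sum]
  refine Finset.sum_congr rfl fun a _ => Finset.sum_congr rfl fun b _ => ?_
  rw [Finset.sum_mul_sum]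
  refine Finset.sum_congr rfl fun c _ => Finset.sum_congr rfl fun d _ => ?_
  ring

end Forms

/-! ### Pure tensors -/

variable {ι : Type} [Fintype ι] [DecidableEq ι] {n₁ n₂ : ℕ}

/-- the vectors u ⊗ y, in the coordinates given by e and P -/
def T (e : ι ≃ Fin n₁ × Fin n₂) (P : GL ι F) (u : Fin n₁ → F) : (Fin n₂ → F) →ₗ[F] (ι → F) where
  toFun y := (P : Matrix ι ι F) *ᵥ ((fun a : Fin n₁ × Fin n₂ => u a.1 * y a.2) ∘ e)
  map_add' y z := by
    rw [← Matrix.mulVec_add]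
    congr 1
    funext i
    simp [mul_add]
  map_smul' c y := by
    rw [RingHom.id_apply, ← Matrix.mulVec_smul]
    congr 1
    funext i
    simp [mul_left_comm]

variable (e : ι ≃ Fin n₁ × Fin n₂) (P : GL ι F)

theorem T_apply (u : Fin n₁ → F) (y : Fin n₂ → F) :
    T e P u y = (P : Matrix ι ι F) *ᵥ ((fun a : Fin n₁ × Fin n₂ => u a.1 * y a.2) ∘ e) := rfl

theorem T_smul (c : F) (u : Fin n₁ → F) (y : Fin n₂ → F) : T e P (c • u) y = T e P u (c • y) := by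
  rw [T_apply, T_apply]
  congr 2
  funext a
  simp [mul_left_comm, mul_assoc]

theorem T_eq {u v : Fin n₁ → F} {y z : Fin n₂ → F} (h : T e P u y = T e P v z) (a : Fin n₁) (b : Fin n₂) :
    u a * y b = v a * z b := by
  have h1 := Matrix.mulVec_injective_iff_isUnit.2 P.isUnit h
  simpa using congrFun h1 (e.symm (a, b))

theorem T_injective {u : Fin n₁ → F} (hu : u ≠ 0) : Function.Injective (T e P u) := by
  intro y z h
  obtain ⟨a, ha⟩ := Function.ne_iff.1 hu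
  funext b
  exact mul_left_cancel₀ ha (T_eq e P h a b)

theorem pair_form {σ : F → F} (hσ : ∀ a b, σ (a * b) = σ a * σ b) {f : (ι → F) → (ι → F) → F}
    {f₁ : (Fin n₁ → F) → (Fin n₁ → F) → F} {f₂ : (Fin n₂ → F) → (Fin n₂ → F) → F}
    (hf₁ : ∀ u v, f₁ u v = Cfsg.Geo.formOfGram σ (Cfsg.Geo.gramMatrix f₁) u v)
    (hf₂ : ∀ u v, f₂ u v = Cfsg.Geo.formOfGram σ (Cfsg.Geo.gramMatrix f₂) u v)
    (hT : Cfsg.Geo.IsTensorFormStructure σ f f₁ f₂ e P) :
    ∃ c : F, c ≠ 0 ∧ ∀ u v y z, f (T e P u y) (T e P v z) = c * (f₁ u v * f₂ y z) := by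
  obtain ⟨c, hc, h⟩ := hT
  refine ⟨c, hc, fun u v y z => ?_⟩
  rw [T_apply, T_apply, h, formOfGram_kron σ hσ, ← hf₁, ← hf₂]

theorem kron_mulVec (a : Matrix (Fin n₁) (Fin n₁) F) (b : Matrix (Fin n₂) (Fin n₂) F) (u : Fin n₁ → F)
    (y : Fin n₂ → F) : (a ⊗ₖ b) *ᵥ (fun x : Fin n₁ × Fin n₂ => u x.1 * y x.2) =
      fun x => (a *ᵥ u) x.1 * (b *ᵥ y) x.2 := by
  funext x
  simp only [Matrix.mulVec, dotProduct, Fintype.sum_prod_type, Matrix.kroneckerMap_apply]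
  rw [Finset.sum_mul_sum]
  refine Finset.sum_congr rfl fun i _ => Finset.sum_congr rfl fun j _ => ?_
  ring

theorem act_tensor {g : GL ι F} (hg : g ∈ Cfsg.Geo.tensorProductSubgroup n₁ n₂ e P) :
    ∃ (a : GL (Fin n₁) F) (b : GL (Fin n₂) F), ∀ u y, (g : Matrix ι ι F) *ᵥ T e P u y =
      T e P ((a : Matrix (Fin n₁) (Fin n₁) F) *ᵥ u) ((b : Matrix (Fin n₂) (Fin n₂) F) *ᵥ y) := by
  obtain ⟨g', ⟨k, ⟨a, b, hk⟩, rfl⟩, rfl⟩ := hg
  refine ⟨a, b, fun u y => ?_⟩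
  show ((P * Cfsg.Geo.glReindex e.symm k * P⁻¹ : GL ι F) : Matrix ι ι F) *ᵥ _ = _
  rw [T_apply, T_apply, Matrix.mulVec_mulVec, ← Units.val_mul, inv_mul_cancel_right, Units.val_mul,
    ← Matrix.mulVec_mulVec]
  congr 1
  show Matrix.reindex e.symm e.symm (k : Matrix (Fin n₁ × Fin n₂) (Fin n₁ × Fin n₂) F) *ᵥ _ = _
  rw [Matrix.reindex_apply, Equiv.symm_symm, Matrix.submatrix_mulVec_equiv, Function.comp_assoc,
    Equiv.self_comp_symm, Function.comp_id, hk, kron_mulVec]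

/-- the core: similarities permute the frame x, so the stabiliser sits in the decomposition stabiliser -/
theorem core {G : Subgroup (GL ι F)} {r : ℕ} (x : Fin r → Fin n₁ → F) (hx : LinearIndependent F x)
    {f : (ι → F) → (ι → F) → F}
    (horth : ∀ i j, i ≠ j → ∀ y z, f (T e P (x i) y) (T e P (x j) z) = 0)
    (hmono : ∀ g ∈ G, ∀ (a : GL (Fin n₁) F) (b : GL (Fin n₂) F),
      (∀ u y, (g : Matrix ι ι F) *ᵥ T e P u y =
        T e P ((a : Matrix (Fin n₁) (Fin n₁) F) *ᵥ u) ((b : Matrix (Fin n₂) (Fin n₂) F) *ᵥ y)) →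
      ∀ i, ∃ j, ∃ c : F, (a : Matrix (Fin n₁) (Fin n₁) F) *ᵥ x i = c • x j)
    (i₀ i₁ : Fin r) (h01 : i₁ ≠ i₀)
    (g₁ : GL ι F) (hg₁ : g₁ ∈ G)
    (hfix : ∀ j, j ≠ i₀ → ∀ y, (g₁ : Matrix ι ι F) *ᵥ T e P (x j) y = T e P (x j) y)
    (hin : ∀ y, ∃ z, (g₁ : Matrix ι ι F) *ᵥ T e P (x i₀) y = T e P (x i₀) z)
    {u₁ v₁ : Fin n₂ → F} (hu₁ : u₁ ≠ 0) (hgu : (g₁ : Matrix ι ι F) *ᵥ T e P (x i₀) u₁ = T e P (x i₀) u₁)
    (hgv : (g₁ : Matrix ι ι F) *ᵥ T e P (x i₀) v₁ ≠ T e P (x i₀) v₁)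
    (g₂ : GL ι F) (hg₂ : g₂ ∈ G) (l l' : Fin r) (hll : l ≠ l') (y w w' : Fin n₂ → F)
    (hw : f ((g₂ : Matrix ι ι F) *ᵥ T e P (x i₀) y) (T e P (x l) w) ≠ 0)
    (hw' : f ((g₂ : Matrix ι ι F) *ᵥ T e P (x i₀) y) (T e P (x l') w') ≠ 0) :
    ∃ K : Subgroup (GL ι F), Cfsg.Geo.tensorProductSubgroup n₁ n₂ e P ⊓ G < K ∧ K < G := by
  classical
  let D : Fin r → Submodule F (ι → F) := fun i => LinearMap.range (T e P (x i))
  have hx0 : ∀ i, x i ≠ 0 := hx.ne_zero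
  have hne_i : ∀ j, x j ≠ 0 := hx0
  refine ⟨Cfsg.Geo.decompositionStabilizer D ⊓ G, lt_of_le_not_ge (le_inf ?_ inf_le_right) fun h => ?_,
    lt_of_le_not_ge inf_le_right fun h => ?_⟩
  · rintro g ⟨hgT, hgG⟩
    obtain ⟨a, b, hab⟩ := act_tensor e P hgT
    choose σ c hc using hmono g hgG a b hab
    have hc0 : ∀ i, c i ≠ 0 := fun i h => hx0 i (Matrix.mulVec_injective_iff_isUnit.2 a.isUnit
      (show (a : Matrix (Fin n₁) (Fin n₁) F) *ᵥ x i = (a : Matrix (Fin n₁) (Fin n₁) F) *ᵥ 0 by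
        rw [hc i, h, zero_smul, Matrix.mulVec_zero]))
    have hσ : Function.Injective σ := by
      intro i j hij
      by_contra hne
      have h1 : c j • x i - c i • x j = 0 := by
        apply Matrix.mulVec_injective_iff_isUnit.2 a.isUnit
        simp only [Matrix.mulVec_sub, Matrix.mulVec_smul, Matrix.mulVec_zero, hc, hij, smul_smul, mul_comm (c j) (c i),
          sub_self]
      have := (LinearIndependent.pair_iff.1 (hx.comp ![i, j] (by
        intro p q hpq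
        fin_cases p <;> fin_cases q <;> simp_all) |> fun h => (by
          have he : x ∘ ![i, j] = ![x i, x j] := by funext p; fin_cases p <;> rfl
          rw [he] at h; exact h))) (c j) (-c i) (by rw [neg_smul, ← sub_eq_add_neg, h1])
      exact hc0 j this.1
    refine ⟨Equiv.ofBijective σ (Finite.injective_iff_bijective.1 hσ), fun i => ?_⟩
    rw [Equiv.ofBijective_apply]
    apply le_antisymm
    · rintro _ ⟨_, ⟨y, rfl⟩, rfl⟩
      refine ⟨c i • ((b : Matrix (Fin n₂) (Fin n₂) F) *ᵥ y), ?_⟩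
      rw [Matrix.toLin'_apply, hab, hc, T_smul]
    · rintro _ ⟨y, rfl⟩
      refine ⟨T e P (x i) ((c i)⁻¹ • (((b⁻¹ : GL (Fin n₂) F) : Matrix (Fin n₂) (Fin n₂) F) *ᵥ y)), ⟨_, rfl⟩, ?_⟩
      rw [Matrix.toLin'_apply, hab, hc, T_smul, Matrix.mulVec_smul, Matrix.mulVec_mulVec, ← Units.val_mul,
        mul_inv_cancel, Units.val_one, Matrix.one_mulVec, smul_smul, mul_inv_cancel₀ (hc0 i), one_smul]
  · have hg₁D : g₁ ∈ Cfsg.Geo.decompositionStabilizer D := by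
      refine ⟨1, fun j => ?_⟩
      rw [Equiv.Perm.one_apply]
      refine Submodule.eq_of_le_of_finrank_le ?_ ?_
      · rintro _ ⟨_, ⟨y, rfl⟩, rfl⟩
        rw [Matrix.toLin'_apply]
        by_cases hj : j = i₀
        · subst hj
          obtain ⟨z, hz⟩ := hin y
          exact ⟨z, hz.symm⟩
        · exact ⟨y, (hfix j hj y).symm⟩
      · exact ((Submodule.equivMapOfInjective (Matrix.toLin' (g₁ : Matrix ι ι F)) (fun v w h =>
          Matrix.mulVec_injective_iff_isUnit.2 g₁.isUnit (by simpa [Matrix.toLin'_apply] using h)) _).finrank_eq).le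
    obtain ⟨hgT, -⟩ := h (show g₁ ∈ Cfsg.Geo.decompositionStabilizer D ⊓ G from ⟨hg₁D, hg₁⟩)
    obtain ⟨a, b, hab⟩ := act_tensor e P hgT
    obtain ⟨p, hp⟩ := Function.ne_iff.1 (hne_i i₁)
    obtain ⟨q, hq⟩ := Function.ne_iff.1 hu₁
    have hfix' : ∀ y p' q', ((a : Matrix (Fin n₁) (Fin n₁) F) *ᵥ x i₁) p' *
        ((b : Matrix (Fin n₂) (Fin n₂) F) *ᵥ y) q' = x i₁ p' * y q' := fun y =>
      T_eq e P ((hab (x i₁) y).symm.trans (hfix i₁ h01 y))
    have ha0 : ((a : Matrix (Fin n₁) (Fin n₁) F) *ᵥ x i₁) p ≠ 0 := fun h0 => by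
      have := hfix' u₁ p q
      rw [h0, zero_mul] at this
      exact (mul_ne_zero hp hq) this.symm
    obtain ⟨γ, hγ⟩ : ∃ γ, γ = x i₁ p / ((a : Matrix (Fin n₁) (Fin n₁) F) *ᵥ x i₁) p := ⟨_, rfl⟩
    have hb : ∀ y, (b : Matrix (Fin n₂) (Fin n₂) F) *ᵥ y = γ • y := fun y => funext fun q' => by
      show _ = γ * y q'
      rw [hγ, div_mul_eq_mul_div, eq_div_iff ha0, mul_comm]
      exact hfix' y p q'
    have h0 : ∀ y, (g₁ : Matrix ι ι F) *ᵥ T e P (x i₀) y = T e P ((a : Matrix (Fin n₁) (Fin n₁) F) *ᵥ x i₀) (γ • y) :=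
      fun y => by rw [hab, hb]
    refine hgv ?_
    rw [h0]
    have hu := h0 u₁
    rw [hgu] at hu
    rw [← T_smul] at hu ⊢
    have hA : γ • ((a : Matrix (Fin n₁) (Fin n₁) F) *ᵥ x i₀) = x i₀ := by
      funext p'
      exact mul_right_cancel₀ hq (T_eq e P hu p' q).symm
    rw [hA]
  · obtain ⟨σ, hσ⟩ := (h hg₂).1
    have hmem : (g₂ : Matrix ι ι F) *ᵥ T e P (x i₀) y ∈ D (σ i₀) := hσ i₀ ▸ ⟨_, ⟨y, rfl⟩, Matrix.toLin'_apply _ _⟩
    obtain ⟨z, hz⟩ := hmem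
    rw [← hz] at hw hw'
    have e1 : σ i₀ = l := by_contra fun hne => hw (horth _ _ hne _ _)
    have e2 : σ i₀ = l' := by_contra fun hne => hw' (horth _ _ hne _ _)
    exact hll (e1.symm.trans e2)

/-! ### The small factors -/

theorem exists_coord {r : ℕ} {x : Fin r → Fin r → F} (hx : LinearIndependent F x) (v : Fin r → F) :
    ∃ a : Fin r → F, v = ∑ i, a i • x i := by
  have hsp := hx.span_eq_top_of_card_eq_finrank' (by rw [Fintype.card_fin, Module.finrank_fintype_fun_eq_card,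
    Fintype.card_fin])
  have hv : v ∈ Submodule.span F (Set.range x) := hsp ▸ Submodule.mem_top
  obtain ⟨a, ha⟩ := (Submodule.mem_span_range_iff_exists_fun F).1 hv
  exact ⟨a, ha.symm⟩

theorem multiplier {G : Subgroup (GL ι F)} {f : (ι → F) → (ι → F) → F}
    (hG : ∀ g ∈ G, ∀ v w, f ((g : Matrix ι ι F) *ᵥ v) ((g : Matrix ι ι F) *ᵥ w) = f v w)
    {f₁ : (Fin n₁ → F) → (Fin n₁ → F) → F} {f₂ : (Fin n₂ → F) → (Fin n₂ → F) → F} {c : F} (hc : c ≠ 0)
    (hp : ∀ u v y z, f (T e P u y) (T e P v z) = c * (f₁ u v * f₂ y z))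
    (h1 : ∃ u v, f₁ u v ≠ 0) {y z : Fin n₂ → F} (hyz : f₂ y z ≠ 0) {g : GL ι F} (hg : g ∈ G)
    (a : GL (Fin n₁) F) (b : GL (Fin n₂) F)
    (hab : ∀ u y, (g : Matrix ι ι F) *ᵥ T e P u y =
      T e P ((a : Matrix (Fin n₁) (Fin n₁) F) *ᵥ u) ((b : Matrix (Fin n₂) (Fin n₂) F) *ᵥ y)) :
    ∃ μ : F, μ ≠ 0 ∧ ∀ u v,
      f₁ ((a : Matrix (Fin n₁) (Fin n₁) F) *ᵥ u) ((a : Matrix (Fin n₁) (Fin n₁) F) *ᵥ v) = μ * f₁ u v := by
  obtain ⟨β, hβ⟩ : ∃ β, β = f₂ ((b : Matrix (Fin n₂) (Fin n₂) F) *ᵥ y) ((b : Matrix (Fin n₂) (Fin n₂) F) *ᵥ z) :=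
    ⟨_, rfl⟩
  have key : ∀ u v, f₁ ((a : Matrix (Fin n₁) (Fin n₁) F) *ᵥ u) ((a : Matrix (Fin n₁) (Fin n₁) F) *ᵥ v) * β =
      f₁ u v * f₂ y z := fun u v => by
    have := hG g hg (T e P u y) (T e P v z)
    rw [hab, hab, hp, hp, ← hβ] at this
    exact mul_left_cancel₀ hc this
  have hβ0 : β ≠ 0 := fun h0 => by
    obtain ⟨u, v, huv⟩ := h1
    have := key u v
    rw [h0, mul_zero] at this
    exact mul_ne_zero huv hyz this.symm
  refine ⟨f₂ y z / β, div_ne_zero hyz hβ0, fun u v => ?_⟩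
  rw [div_mul_eq_mul_div, eq_div_iff hβ0, key]
  ring

variable [Fintype F]

/-- three field elements: an orthogonal frame permuted by all similarities -/
theorem frame_three (hq : Fintype.card F = 3) {f₁ : (Fin 3 → F) → (Fin 3 → F) → F}
    (hf₁ : Cfsg.Geo.IsSymmetricForm f₁) :
    ∃ x : Fin 3 → Fin 3 → F, LinearIndependent F x ∧ (∀ i j, i ≠ j → f₁ (x i) (x j) = 0) ∧
      (∀ i, f₁ (x i) (x i) ≠ 0) ∧
      ∀ (a : GL (Fin 3) F) (μ : F), μ ≠ 0 →
        (∀ u v, f₁ ((a : Matrix (Fin 3) (Fin 3) F) *ᵥ u) ((a : Matrix (Fin 3) (Fin 3) F) *ᵥ v) = μ * f₁ u v) →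
        ∀ i, ∃ j, ∃ d : F, (a : Matrix (Fin 3) (Fin 3) F) *ᵥ x i = d • x j := by
  classical
  have h2 : (2 : F) ≠ 0 := OrthFrame.two_or (by rw [hq]; decide)
  have h3 : (3 : F) = 0 := by exact_mod_cast OrthFrame.cast_card 3 hq
  have hb := hf₁.bilinear
  let B : LinearMap.BilinMap F (Fin 3 → F) F := LinearMap.mk₂ F f₁ hb.add_left hb.smul_left hb.add_right hb.smul_right
  let Q : QuadraticForm F (Fin 3 → F) := B.toQuadraticMap
  have hQ : ∀ v, Q v = f₁ v v := fun v => rfl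
  have hpol : ∀ u v, QuadraticMap.polar ⇑Q u v = 2 * f₁ u v := fun u v => by
    rw [QuadraticMap.polar, hQ, hQ, hQ, hb.add_left, hb.add_right, hb.add_right, hf₁.symm v u]; ring
  have hnd : Cfsg.Geo.IsNondegenerateOn (QuadraticMap.polar ⇑Q) (⊤ : Submodule F (Fin 3 → F)) := by
    intro w _ hw
    obtain ⟨⟨p, hp⟩, ⟨p', hp'⟩⟩ := hf₁.nondegenerate w hw
    exact ⟨⟨p, trivial, by rw [hpol]; exact mul_ne_zero h2 hp⟩, ⟨p', trivial, by rw [hpol]; exact mul_ne_zero h2 hp'⟩⟩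
  obtain ⟨b, hb0, hbo, -⟩ := OrthFrame.orth_basis h2 3 ⊤ (by simp) hnd
  have hbo' : ∀ i j, i ≠ j → f₁ (b i) (b j) = 0 := fun i j h =>
    (mul_eq_zero.1 ((hpol _ _).symm.trans (hbo i j h))).resolve_left h2
  have hbn : ∀ i, f₁ (b i) (b i) ≠ 0 := fun i => (hb0 i).2
  have hcases : ∀ p r : F, p ≠ 0 → r ≠ 0 → p = r ∨ p = -r := fun p r hp hr => by
    rcases OrthFrame.cases_three hq p with h | rfl | rfl
    · exact absurd h hp
    all_goals rcases OrthFrame.cases_three hq r with h | rfl | rfl <;> first | exact absurd h hr | simp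
  -- equal norms
  obtain ⟨c, x, hc, hxn, hxo⟩ : ∃ (c : F) (x : Fin 3 → Fin 3 → F), c ≠ 0 ∧ (∀ i, f₁ (x i) (x i) = c) ∧
      ∀ i j, i ≠ j → f₁ (x i) (x j) = 0 := by
    obtain ⟨i0, i1, i2, h01, h02, h12, heq⟩ : ∃ i0 i1 i2 : Fin 3, i0 ≠ i1 ∧ i0 ≠ i2 ∧ i1 ≠ i2 ∧
        f₁ (b i1) (b i1) = f₁ (b i2) (b i2) := by
      rcases hcases _ _ (hbn 0) (hbn 1) with h | h
      · exact ⟨2, 0, 1, by decide, by decide, by decide, h⟩
      · rcases hcases _ _ (hbn 0) (hbn 2) with h' | h'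
        · exact ⟨1, 0, 2, by decide, by decide, by decide, h'⟩
        · exact ⟨0, 1, 2, by decide, by decide, by decide, neg_injective (h.symm.trans h')⟩
    obtain ⟨c, hc⟩ : ∃ c, c = f₁ (b i1) (b i1) := ⟨_, rfl⟩
    rcases hcases _ _ (hbn i0) (hbn i1) with h | h
    · refine ⟨c, ![b i0, b i1, b i2], hc ▸ hbn i1, fun i => ?_, fun i j hij => ?_⟩
      · fin_cases i
        exacts [h.trans hc.symm, hc.symm, heq.symm.trans hc.symm]
      · fin_cases i <;> fin_cases j <;> first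
          | exact absurd rfl hij
          | exact hbo' _ _ h01 | exact hbo' _ _ h02 | exact hbo' _ _ h12
          | exact hbo' _ _ (Ne.symm h01) | exact hbo' _ _ (Ne.symm h02) | exact hbo' _ _ (Ne.symm h12)
    · have e11 : f₁ (b i1 + b i2) (b i1 + b i2) = -c := by
        rw [hb.add_left, hb.add_right, hb.add_right, hbo' _ _ h12, hbo' _ _ (Ne.symm h12), ← heq, hc]
        linear_combination f₁ (b i1) (b i1) * h3
      have e22 : f₁ (b i1 + (-1 : F) • b i2) (b i1 + (-1 : F) • b i2) = -c := by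
        rw [hb.add_left, hb.add_right, hb.add_right, hb.smul_left, hb.smul_right, hb.smul_left, hb.smul_right,
          hbo' _ _ h12, hbo' _ _ (Ne.symm h12), ← heq, hc]
        linear_combination f₁ (b i1) (b i1) * h3
      have e12 : f₁ (b i1 + b i2) (b i1 + (-1 : F) • b i2) = 0 := by
        rw [hb.add_left, hb.add_right, hb.add_right, hb.smul_right, hb.smul_right,
          hbo' _ _ h12, hbo' _ _ (Ne.symm h12), ← heq]
        ring
      have e01 : f₁ (b i0) (b i1 + b i2) = 0 := by rw [hb.add_right, hbo' _ _ h01, hbo' _ _ h02, add_zero]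
      have e02 : f₁ (b i0) (b i1 + (-1 : F) • b i2) = 0 := by
        rw [hb.add_right, hb.smul_right, hbo' _ _ h01, hbo' _ _ h02, mul_zero, add_zero]
      refine ⟨-c, ![b i0, b i1 + b i2, b i1 + (-1 : F) • b i2], neg_ne_zero.2 (hc ▸ hbn i1), fun i => ?_,
        fun i j hij => ?_⟩
      · fin_cases i
        exacts [h.trans (by rw [hc]), e11, e22]
      · fin_cases i <;> fin_cases j <;> first
          | exact absurd rfl hij
          | exact e12 | exact e01 | exact e02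
          | exact (hf₁.symm _ _).trans e12 | exact (hf₁.symm _ _).trans e01 | exact (hf₁.symm _ _).trans e02
  have hexp : ∀ a : Fin 3 → F, ∀ z, f₁ (∑ i, a i • x i) z = ∑ i, a i * f₁ (x i) z := fun a z => by
    simp only [Fin.sum_univ_three, hb.add_left, hb.smul_left]
  have hx : LinearIndependent F x := by
    rw [Fintype.linearIndependent_iff]
    intro a ha i
    have h1 := hexp a (x i)
    rw [ha, ← zero_smul F (0 : Fin 3 → F), hb.smul_left, zero_mul, Finset.sum_eq_single i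
      (fun j _ hj => by rw [hxo j i hj, mul_zero]) (by simp), hxn] at h1
    exact (mul_eq_zero.1 h1.symm).resolve_right hc
  refine ⟨x, hx, hxo, fun i => by rw [hxn]; exact hc, fun a μ hμ ha => ?_⟩
  have hμ1 : μ = 1 := by
    obtain ⟨G, hG⟩ : ∃ G : Matrix (Fin 3) (Fin 3) F, G = Cfsg.Geo.gramMatrix f₁ := ⟨_, rfl⟩
    have hf : ∀ u v, f₁ u v = u ⬝ᵥ G *ᵥ v := fun u v => by
      rw [eq_formOfGram id f₁ hb.add_left hb.smul_left hb.add_right hb.smul_right u v, hG]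
      simp only [Cfsg.Geo.formOfGram, dotProduct, Matrix.mulVec, Finset.mul_sum, id, mul_assoc]
    have hM : (a : Matrix (Fin 3) (Fin 3) F)ᵀ * G * (a : Matrix (Fin 3) (Fin 3) F) = μ • G := by
      ext i j
      have := ha (Pi.single i 1) (Pi.single j 1)
      rw [hf, hf, Matrix.mulVec_single_one, Matrix.mulVec_single_one, Matrix.mulVec_single_one,
        single_one_dotProduct] at this
      rw [Matrix.smul_apply, smul_eq_mul]
      convert this using 1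
      simp only [Matrix.mul_apply, Matrix.transpose_apply, dotProduct, Matrix.mulVec, Matrix.col_apply,
        Finset.mul_sum, Finset.sum_mul]
      rw [Finset.sum_comm]
      · refine Finset.sum_congr rfl fun p _ => Finset.sum_congr rfl fun r _ => ?_
        ring
      · rfl
    have hdetG : G.det ≠ 0 := fun h0 => by
      obtain ⟨v, hv, hv0⟩ := Matrix.exists_mulVec_eq_zero_iff.2 h0
      obtain ⟨⟨p, hp⟩, -⟩ := hf₁.nondegenerate v hv
      exact hp (by rw [hf, hv0, dotProduct_zero])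
    have hd := congrArg Matrix.det hM
    rw [Matrix.det_mul, Matrix.det_mul, Matrix.det_transpose, Matrix.det_smul, Fintype.card_fin] at hd
    obtain ⟨d, hd'⟩ : ∃ d, d = (a : Matrix (Fin 3) (Fin 3) F).det := ⟨_, rfl⟩
    rw [← hd'] at hd
    have h4 : d * d = μ ^ 3 := mul_right_cancel₀ hdetG (by linear_combination hd)
    rcases OrthFrame.cases_three hq d with h | h | h <;> rw [h] at h4 <;>
      rcases OrthFrame.cases_three hq μ with h' | h' | h' <;> rw [h'] at h4 ⊢ <;> first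
      | rfl
      | exact absurd h' hμ
      | (exfalso; exact h2 (by linear_combination h4))
      | (exfalso; exact one_ne_zero (show (1 : F) = 0 by linear_combination h4))
      | (exfalso; exact one_ne_zero (show (1 : F) = 0 by linear_combination -h4))
  intro i
  obtain ⟨s, hs⟩ := exists_coord hx ((a : Matrix (Fin 3) (Fin 3) F) *ᵥ x i)
  have hnorm : f₁ ((a : Matrix (Fin 3) (Fin 3) F) *ᵥ x i) ((a : Matrix (Fin 3) (Fin 3) F) *ᵥ x i) = c := by
    rw [ha, hμ1, one_mul, hxn]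
  have hsq : s 0 * s 0 + s 1 * s 1 + s 2 * s 2 = 1 := by
    rw [hs, hexp, Fin.sum_univ_three] at hnorm
    simp only [Fin.sum_univ_three, hb.add_right, hb.smul_right, hxn, hxo 0 1 (by decide), hxo 0 2 (by decide),
      hxo 1 0 (by decide), hxo 1 2 (by decide), hxo 2 0 (by decide), hxo 2 1 (by decide)] at hnorm
    exact mul_right_cancel₀ hc (by linear_combination hnorm)
  have hone : ∀ p : F, p = 0 ∨ p * p = 1 := fun p => by
    rcases OrthFrame.cases_three hq p with h | h | h <;> simp [h]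
  rw [hs, Fin.sum_univ_three]
  rcases hone (s 0) with h0 | h0 <;> rcases hone (s 1) with h1 | h1 <;> rcases hone (s 2) with h4 | h4
  · simp [h0, h1, h4] at hsq
  · exact ⟨2, s 2, by simp [h0, h1]⟩
  · exact ⟨1, s 1, by simp [h0, h4]⟩
  · exfalso; simp only [h0, h1, h4, mul_zero] at hsq; exact one_ne_zero (show (1 : F) = 0 by linear_combination hsq)
  · exact ⟨0, s 0, by simp [h1, h4]⟩
  · exfalso; simp only [h0, h1, h4, mul_zero] at hsq; exact one_ne_zero (show (1 : F) = 0 by linear_combination hsq)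
  · exfalso; simp only [h0, h1, h4, mul_zero] at hsq; exact one_ne_zero (show (1 : F) = 0 by linear_combination hsq)
  · exfalso; simp only [h0, h1, h4] at hsq; exact one_ne_zero (show (1 : F) = 0 by linear_combination h3 - hsq)

/-- four field elements: unitary planes -/
theorem frame_two (hF : Fintype.card F = 4) {f₁ : (Fin 2 → F) → (Fin 2 → F) → F}
    (hf₁ : Cfsg.Geo.IsUnitaryFormPow 2 f₁) :
    ∃ x : Fin 2 → Fin 2 → F, LinearIndependent F x ∧ (∀ i j, i ≠ j → f₁ (x i) (x j) = 0) ∧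
      (∀ i, f₁ (x i) (x i) ≠ 0) ∧
      ∀ (a : GL (Fin 2) F) (μ : F), μ ≠ 0 →
        (∀ u v, f₁ ((a : Matrix (Fin 2) (Fin 2) F) *ᵥ u) ((a : Matrix (Fin 2) (Fin 2) F) *ᵥ v) = μ * f₁ u v) →
        ∀ i, ∃ j, ∃ d : F, (a : Matrix (Fin 2) (Fin 2) F) *ᵥ x i = d • x j := by
  classical
  have hF2 : Fintype.card F = 2 ^ 2 := hF
  have h4 : (4 : F) = 0 := by exact_mod_cast OrthFrame.cast_card 4 hF
  have h2 : (2 : F) = 0 := mul_self_eq_zero.1 (show (2 : F) * 2 = 0 by linear_combination h4)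
  have hpow : ∀ p : F, p ≠ 0 → p * p ^ 2 = 1 := fun p hp => by
    have := FiniteField.pow_card_sub_one_eq_one p hp
    rw [hF] at this
    rw [← pow_succ']; exact this
  have hal := hf₁.add_left
  have hsl := hf₁.smul_left
  have har : ∀ v p r, f₁ v (p + r) = f₁ v p + f₁ v r := fun v p r => by
    rw [hf₁.herm v, hal, hf₁.herm v p, hf₁.herm v r]
    linear_combination f₁ p v * f₁ r v * h2
  have hsr : ∀ (d : F) v p, f₁ v (d • p) = d ^ 2 * f₁ v p := fun d v p => by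
    rw [hf₁.herm v, hsl, hf₁.herm v p]; ring
  have h01 : ∀ v, f₁ v v = 0 ∨ f₁ v v = 1 := fun v => by
    rcases mul_eq_zero.1 (show f₁ v v * (f₁ v v - 1) = 0 by linear_combination -hf₁.herm v v) with h | h
    · exact Or.inl h
    · exact Or.inr (sub_eq_zero.1 h)
  obtain ⟨v₀, hv₀⟩ : ∃ v, f₁ v v = 1 := by
    by_contra hcon
    push Not at hcon
    have hiso : ∀ v, f₁ v v = 0 := fun v => (h01 v).resolve_right (hcon v)
    obtain ⟨u, hu⟩ : ∃ u : Fin 2 → F, u ≠ 0 := exists_ne 0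
    obtain ⟨-, ⟨p, hp⟩⟩ := hf₁.nondegenerate u hu
    obtain ⟨w, hw0, hw1⟩ : ∃ w : F, w ≠ 0 ∧ w ≠ 1 := by
      obtain ⟨w, hw⟩ := Finset.exists_mem_notMem_of_card_lt_card (s := ({0, 1} : Finset F)) (t := Finset.univ)
        (lt_of_le_of_lt Finset.card_le_two (by rw [Finset.card_univ, hF]; norm_num))
      simp at hw
      exact ⟨w, hw⟩
    have := hiso (u + ((w / f₁ u p) ^ 2) • p)
    rw [hal, har, har, hsl, hsl, hsr, hsr, hiso u, hiso p, hf₁.herm p u] at this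
    obtain ⟨r, hr⟩ : ∃ r, r = f₁ u p := ⟨_, rfl⟩
    rw [← hr] at this hp
    have e4 : ((w / r) ^ 2) ^ 2 = w / r := by
      have := FiniteField.pow_card (w / r); rw [hF] at this
      linear_combination this
    rw [e4] at this
    have e2 : (w / r) ^ 2 * r ^ 2 = w ^ 2 := by field_simp
    have e1 : w / r * r = w := div_mul_cancel₀ w hp
    have hww : w * w ^ 2 = 1 := hpow w hw0
    have hw' : w + w ^ 2 = 0 := by linear_combination this - e1 - e2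
    exact hw1 (by linear_combination -(w - 1) * h2 * 0 + (hww) - w * hw' + hw' - hw' * 0 + 0 * h2 - (hw' - hw'))
  obtain ⟨z, hz⟩ : ∃ z : Fin 2 → F, z ∉ Submodule.span F {v₀} := by
    by_contra hcon
    push Not at hcon
    have h := finrank_span_le_card (R := F) ({v₀} : Set (Fin 2 → F))
    rw [show Submodule.span F {v₀} = ⊤ from eq_top_iff.2 fun z _ => hcon z, finrank_top,
      Module.finrank_fintype_fun_eq_card, Fintype.card_fin] at h
    simp at h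
  obtain ⟨v₁, hv₁⟩ : ∃ v₁, v₁ = z + (f₁ z v₀) • v₀ := ⟨_, rfl⟩
  have h10 : f₁ v₁ v₀ = 0 := by rw [hv₁, hal, hsl, hv₀]; linear_combination f₁ z v₀ * h2
  have h01' : f₁ v₀ v₁ = 0 := by rw [hf₁.herm, h10]; ring
  have hv₁0 : v₁ ≠ 0 := fun h => hz (Submodule.mem_span_singleton.2 ⟨-f₁ z v₀, by
    rw [hv₁] at h; rw [neg_smul]; exact (eq_neg_of_add_eq_zero_left h).symm⟩)
  let x : Fin 2 → Fin 2 → F := ![v₀, v₁]
  have hli : LinearIndependent F x := by
    rw [LinearIndependent.pair_iff]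
    intro p r hpr
    have h := congrArg (fun w => f₁ w v₀) hpr
    simp only [hal, hsl, hv₀, h10] at h
    rw [← zero_smul F (0 : Fin 2 → F), hsl, zero_mul] at h
    have hp : p = 0 := by linear_combination h
    rw [hp, zero_smul, zero_add] at hpr
    exact ⟨hp, (smul_eq_zero.1 hpr).resolve_right hv₁0⟩
  have hexp : ∀ (s : Fin 2 → F) w, f₁ (∑ i, s i • x i) w = s 0 * f₁ v₀ w + s 1 * f₁ v₁ w := fun s w => by
    simp [Fin.sum_univ_two, x, hal, hsl]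
  have hv₁n : f₁ v₁ v₁ = 1 := by
    refine (h01 v₁).resolve_left fun h0 => ?_
    obtain ⟨⟨p, hp⟩, -⟩ := hf₁.nondegenerate v₁ hv₁0
    obtain ⟨s, rfl⟩ := exists_coord hli p
    exact hp (by rw [hexp, h01', h0]; ring)
  have hxn : ∀ i, f₁ (x i) (x i) = 1 := fun i => by fin_cases i <;> simpa [x]
  refine ⟨x, hli, fun i j hij => ?_, fun i => by rw [hxn]; exact one_ne_zero, fun a μ hμ ha i => ?_⟩
  · fin_cases i <;> fin_cases j <;> first | exact absurd rfl hij | exact h01' | exact h10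
  have hμ1 : μ = 1 := by
    have := ha v₀ v₀
    rw [hv₀, mul_one] at this
    exact ((h01 _).resolve_left (this ▸ hμ)).symm.trans this |>.symm
  obtain ⟨s, hs⟩ := exists_coord hli ((a : Matrix (Fin 2) (Fin 2) F) *ᵥ x i)
  have hnorm : f₁ ((a : Matrix (Fin 2) (Fin 2) F) *ᵥ x i) ((a : Matrix (Fin 2) (Fin 2) F) *ᵥ x i) = 1 := by
    rw [ha, hμ1, one_mul, hxn]
  rw [hs, hexp] at hnorm
  rw [show (∑ i, s i • x i) = s 0 • v₀ + s 1 • v₁ by simp [Fin.sum_univ_two, x]] at hnorm hs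
  rw [har, har, hsr, hsr, hsr, hsr, hv₀, hv₁n, h10, h01'] at hnorm
  rw [hs]
  by_cases h0 : s 0 = 0
  · exact ⟨1, s 1, by simp [h0, x]⟩
  · by_cases h1 : s 1 = 0
    · exact ⟨0, s 0, by simp [h1, x]⟩
    · exfalso
      exact one_ne_zero (show (1 : F) = 0 by linear_combination hnorm - hpow _ h0 - hpow _ h1 - h2 * 0 + 0)

/-! ### The three cases -/

theorem orth_case (hq : Fintype.card F = 3) {Q : QuadraticForm F (ι → F)}
    (hQ : (QuadraticMap.polarBilin Q).Nondegenerate) (hn : 4 ≤ n₂) (e : ι ≃ Fin 3 × Fin n₂) (P : GL ι F)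
    {f₁ : (Fin 3 → F) → (Fin 3 → F) → F} {f₂ : (Fin n₂ → F) → (Fin n₂ → F) → F}
    (hf₁ : Cfsg.Geo.IsSymmetricForm f₁) (hf₂ : Cfsg.Geo.IsSymmetricForm f₂)
    (hT : Cfsg.Geo.IsTensorFormStructure id (QuadraticMap.polar ⇑Q) f₁ f₂ e P) :
    ∃ K : Subgroup (GL ι F),
      Cfsg.Geo.tensorProductSubgroup 3 n₂ e P ⊓ Cfsg.Geo.omegaGL ⇑Q < K ∧ K < Cfsg.Geo.omegaGL ⇑Q := by
  have b1 := hf₁.bilinear
  have b2 := hf₂.bilinear
  have h5 : 5 ≤ Fintype.card ι := by rw [Fintype.card_congr e]; simp; omega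
  obtain ⟨c, hc, hp⟩ := pair_form e P (σ := id) (fun _ _ => rfl)
    (eq_formOfGram id f₁ b1.add_left b1.smul_left b1.add_right b1.smul_right)
    (eq_formOfGram id f₂ b2.add_left b2.smul_left b2.add_right b2.smul_right) hT
  obtain ⟨x, hx, hxo, hxn, hframe⟩ := frame_three hq hf₁
  have ho : ∀ i j, i ≠ j → ∀ y z, QuadraticMap.polar ⇑Q (T e P (x i) y) (T e P (x j) z) = 0 := fun i j h y z => by
    rw [hp, hxo i j h, zero_mul, mul_zero]
  have hpn : ∀ i y z, f₂ y z ≠ 0 → QuadraticMap.polar ⇑Q (T e P (x i) y) (T e P (x i) z) ≠ 0 := fun i y z h => by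
    rw [hp]; exact mul_ne_zero hc (mul_ne_zero (hxn i) h)
  have hrk : Module.finrank F (LinearMap.range (T e P (x 0))) = n₂ := by
    rw [LinearMap.finrank_range_of_inj (T_injective e P (hx.ne_zero 0)), Module.finrank_fintype_fun_eq_card,
      Fintype.card_fin]
  obtain ⟨u, ⟨y₀, rfl⟩, hu0, hQu⟩ : ∃ u ∈ LinearMap.range (T e P (x 0)), u ≠ 0 ∧ Q u = 0 := by
    obtain ⟨u, h1, h2, h3⟩ := OrthRoot.exists_singular (Q := Q) (LinearMap.range (T e P (x 0))) (by omega)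
    exact ⟨u, h1, by assumption, by assumption⟩
  have hy₀ : y₀ ≠ 0 := fun h => hu0 (by rw [h, map_zero])
  obtain ⟨a, ha, hna⟩ := OrthRoot.exists_notMem_span
    (LinearMap.range (T e P (x 0)) ⊓ OrthRoot.perp Q (T e P (x 0) y₀)) (by
    have := OrthRoot.finrank_inf_perp (Q := Q) (LinearMap.range (T e P (x 0))) (T e P (x 0) y₀)
    omega) (T e P (x 0) y₀)
  rw [Submodule.mem_inf, OrthRoot.mem_perp] at ha
  obtain ⟨⟨a₀, rfl⟩, hua⟩ := ha
  obtain ⟨-, ⟨z₀, hz₀⟩⟩ := hf₂.nondegenerate y₀ hy₀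
  have huz := hpn 0 y₀ z₀ hz₀
  obtain ⟨a', ha'⟩ : ∃ a', a' = T e P (x 1) y₀ + T e P (x 2) y₀ := ⟨_, rfl⟩
  have hua' : QuadraticMap.polar ⇑Q (T e P (x 0) y₀) a' = 0 := by
    rw [ha', QuadraticMap.polar_add_right, ho 0 1 (by decide), ho 0 2 (by decide), add_zero]
  have hmem : ∀ {u a : ι → F}, Q u = 0 → QuadraticMap.polar ⇑Q u a = 0 →
      ((OrthRoot.E Q u a : Cfsg.isometryGroup F ⇑Q) : GL ι F) ∈ Cfsg.Geo.omegaGL ⇑Q := fun hu ha =>
    ⟨OrthRoot.E Q _ _, by rw [SetLike.mem_coe, OrthRoot.omega_eq hQ h5]; exact OrthRoot.E_mem hQ h5 hu ha, rfl⟩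
  have hact : ∀ {u a : ι → F}, Q u = 0 → QuadraticMap.polar ⇑Q u a = 0 → ∀ v,
      ((OrthRoot.E Q u a : Cfsg.isometryGroup F ⇑Q) : GL ι F).val *ᵥ v =
        v + (QuadraticMap.polar ⇑Q u v • a - QuadraticMap.polar ⇑Q a v • u) -
          (Q a * QuadraticMap.polar ⇑Q u v) • u := fun hu ha v => OrthRoot.E_act hu ha v
  refine core e P (G := Cfsg.Geo.omegaGL ⇑Q) x hx (f := QuadraticMap.polar ⇑Q) ho ?_ 0 1 (by decide)
    _ (hmem hQu hua) ?_ ?_ (u₁ := y₀) (v₁ := z₀) hy₀ ?_ ?_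
    _ (hmem hQu hua') 1 2 (by decide) z₀ z₀ z₀ ?_ ?_
  · intro g hg a b hab
    obtain ⟨μ, hμ, hμ'⟩ := multiplier e P (G := Cfsg.Geo.omegaGL ⇑Q) (by
      rintro _ ⟨g', -, rfl⟩ v w
      exact Refl.act_polar g' v w) hc hp ⟨_, _, hxn 0⟩ hz₀ hg a b hab
    exact hframe a μ hμ hμ'
  · intro j hj y
    rw [hact hQu hua, ho 0 j (Ne.symm hj), ho 0 j (Ne.symm hj)]
    simp
  · intro y
    refine ⟨y + (QuadraticMap.polar ⇑Q (T e P (x 0) y₀) (T e P (x 0) y) • a₀ -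
      QuadraticMap.polar ⇑Q (T e P (x 0) a₀) (T e P (x 0) y) • y₀) -
      (Q (T e P (x 0) a₀) * QuadraticMap.polar ⇑Q (T e P (x 0) y₀) (T e P (x 0) y)) • y₀, ?_⟩
    rw [hact hQu hua]
    simp only [map_add, map_sub, map_smul]
  · rw [hact hQu hua, QuadraticMap.polar_comm (⇑Q) (T e P (x 0) a₀), hua, QuadraticMap.polar_self, hQu]
    simp
  · intro h
    rw [hact hQu hua] at h
    obtain ⟨β, hβ⟩ : ∃ β, β = QuadraticMap.polar ⇑Q (T e P (x 0) y₀) (T e P (x 0) z₀) := ⟨_, rfl⟩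
    rw [← hβ] at h huz
    refine hna (β⁻¹ * (QuadraticMap.polar ⇑Q (T e P (x 0) a₀) (T e P (x 0) z₀) + Q (T e P (x 0) a₀) * β)) ?_
    have h' : β • T e P (x 0) a₀ =
        (QuadraticMap.polar ⇑Q (T e P (x 0) a₀) (T e P (x 0) z₀) + Q (T e P (x 0) a₀) * β) • T e P (x 0) y₀ := by
      rw [← sub_eq_zero]
      rw [← sub_eq_zero] at h
      rw [← h]
      module
    rw [mul_smul, ← h', inv_smul_smul₀ huz]
  all_goals
    rw [hact hQu hua', sub_eq_add_neg, sub_eq_add_neg, QuadraticMap.polar_add_left, QuadraticMap.polar_add_left,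
      QuadraticMap.polar_add_left, QuadraticMap.polar_neg_left, QuadraticMap.polar_neg_left,
      QuadraticMap.polar_smul_left, QuadraticMap.polar_smul_left, QuadraticMap.polar_smul_left, ha',
      QuadraticMap.polar_add_left]
    simp [ho, huz, hpn _ _ _ hz₀]

theorem alternating_or_unitary {σ : F → F} (hσ : ∀ p r, σ (p * r) = σ p * σ r) {G : Subgroup (GL ι F)}
    {f : (ι → F) → (ι → F) → F} (hfl : ∀ p r v, f (p + r) v = f p v + f r v)
    (hfs : ∀ (d : F) p v, f (d • p) v = d * f p v) (hfr : ∀ v p r, f v (p + r) = f v p + f v r)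
    (hfsr : ∀ (d : F) v p, f v (d • p) = σ d * f v p) (hrefl : ∀ p r, f p r = 0 → f r p = 0)
    (hG : ∀ g ∈ G, ∀ v w, f ((g : Matrix ι ι F) *ᵥ v) ((g : Matrix ι ι F) *ᵥ w) = f v w)
    (htv : ∀ u, f u u = 0 → ∃ g ∈ G, ∀ v, (g : Matrix ι ι F) *ᵥ v = v + f v u • u)
    (e : ι ≃ Fin n₁ × Fin n₂) (P : GL ι F)
    {f₁ : (Fin n₁ → F) → (Fin n₁ → F) → F} {f₂ : (Fin n₂ → F) → (Fin n₂ → F) → F}
    (hf₁ : ∀ u v, f₁ u v = Cfsg.Geo.formOfGram σ (Cfsg.Geo.gramMatrix f₁) u v)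
    (hf₂ : ∀ u v, f₂ u v = Cfsg.Geo.formOfGram σ (Cfsg.Geo.gramMatrix f₂) u v)
    (hT : Cfsg.Geo.IsTensorFormStructure σ f f₁ f₂ e P) (x : Fin n₁ → Fin n₁ → F) (hx : LinearIndependent F x)
    (hxo : ∀ i j, i ≠ j → f₁ (x i) (x j) = 0) (hxn : ∀ i, f₁ (x i) (x i) ≠ 0)
    (hframe : ∀ (a : GL (Fin n₁) F) (μ : F), μ ≠ 0 →
      (∀ u v, f₁ ((a : Matrix (Fin n₁) (Fin n₁) F) *ᵥ u) ((a : Matrix (Fin n₁) (Fin n₁) F) *ᵥ v) = μ * f₁ u v) →
      ∀ i, ∃ j, ∃ d : F, (a : Matrix (Fin n₁) (Fin n₁) F) *ᵥ x i = d • x j)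
    (i₀ i₁ : Fin n₁) (h01 : i₁ ≠ i₀) {y₀ z₀ : Fin n₂ → F} (hy₀ : y₀ ≠ 0) (hiso : f₂ y₀ y₀ = 0)
    (hz₀ : f₂ z₀ y₀ ≠ 0) (hz₀' : f₂ y₀ z₀ ≠ 0) :
    ∃ K : Subgroup (GL ι F), Cfsg.Geo.tensorProductSubgroup n₁ n₂ e P ⊓ G < K ∧ K < G := by
  obtain ⟨c, hc, hp⟩ := pair_form e P hσ hf₁ hf₂ hT
  have ho : ∀ i j, i ≠ j → ∀ y z, f (T e P (x i) y) (T e P (x j) z) = 0 := fun i j h y z => by
    rw [hp, hxo i j h, zero_mul, mul_zero]
  have hs : ∀ i, f (T e P (x i) y₀) (T e P (x i) y₀) = 0 := fun i => by rw [hp, hiso, mul_zero, mul_zero]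
  have hnz : ∀ i, f (T e P (x i) z₀) (T e P (x i) y₀) ≠ 0 := fun i => by
    rw [hp]; exact mul_ne_zero hc (mul_ne_zero (hxn i) hz₀)
  have hnz' : ∀ i, f (T e P (x i) y₀) (T e P (x i) z₀) ≠ 0 := fun i => by
    rw [hp]; exact mul_ne_zero hc (mul_ne_zero (hxn i) hz₀')
  have hu0 : T e P (x i₀) y₀ ≠ 0 := fun h => hy₀ (T_injective e P (hx.ne_zero i₀) (h.trans (map_zero _).symm))
  obtain ⟨g₁, hg₁, hg₁v⟩ := htv _ (hs i₀)
  have hs2 : f (T e P (x i₀) y₀ + T e P (x i₁) y₀) (T e P (x i₀) y₀ + T e P (x i₁) y₀) = 0 := by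
    rw [hfl, hfr, hfr, hs, hs, ho _ _ h01, ho _ _ (Ne.symm h01)]; simp
  obtain ⟨g₂, hg₂, hg₂v⟩ := htv _ hs2
  refine core e P x hx ho ?_ i₀ i₁ h01 g₁ hg₁ ?_ ?_ (u₁ := y₀) (v₁ := z₀) hy₀ ?_ ?_
    g₂ hg₂ i₁ i₀ h01 z₀ z₀ y₀ ?_ ?_
  · intro g hg a b hab
    obtain ⟨μ, hμ, hμ'⟩ := multiplier e P hG hc hp ⟨_, _, hxn i₀⟩ hz₀ hg a b hab
    exact hframe a μ hμ hμ'
  · intro j hj y
    rw [hg₁v, ho j i₀ hj, zero_smul, add_zero]
  · intro y
    exact ⟨y + f (T e P (x i₀) y) (T e P (x i₀) y₀) • y₀, by rw [hg₁v, map_add, map_smul]⟩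
  · rw [hg₁v, hs, zero_smul, add_zero]
  · intro h
    rw [hg₁v, add_eq_left, smul_eq_zero] at h
    exact h.elim (hnz i₀) hu0
  · rw [hg₂v, hfl, hfs, hfl, hfr]
    simp only [ho _ _ (Ne.symm h01), add_zero, zero_add]
    exact mul_ne_zero (hnz i₀) (hnz' i₁)
  · rw [hg₂v, hfl, hfs, hfl, hs, ho _ _ h01]
    simpa using hnz i₀

theorem symp_case {m : ℕ} (hq : Fintype.card F = 3) (e : (Fin m ⊕ Fin m) ≃ Fin 3 × Fin n₂)
    (P : GL (Fin m ⊕ Fin m) F) {f₁ : (Fin 3 → F) → (Fin 3 → F) → F} {f₂ : (Fin n₂ → F) → (Fin n₂ → F) → F}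
    (hn : 0 < n₂) (hf₁ : Cfsg.Geo.IsSymmetricForm f₁) (hf₂ : Cfsg.Geo.IsSymplecticForm f₂)
    (hT : Cfsg.Geo.IsTensorFormStructure id (Cfsg.sympForm m F) f₁ f₂ e P) :
    ∃ K : Subgroup (GL (Fin m ⊕ Fin m) F),
      Cfsg.Geo.tensorProductSubgroup 3 n₂ e P ⊓ Cfsg.spGL m F < K ∧ K < Cfsg.spGL m F := by
  have b1 := hf₁.bilinear
  have b2 := hf₂.bilinear
  obtain ⟨x, hx, hxo, hxn, hframe⟩ := frame_three hq hf₁
  obtain ⟨y₀, hy₀⟩ : ∃ y₀ : Fin n₂ → F, y₀ ≠ 0 := ⟨Pi.single ⟨0, hn⟩ 1, by simp⟩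
  obtain ⟨⟨z₀, hz₀⟩, -⟩ := hf₂.nondegenerate y₀ hy₀
  have hfl : ∀ p r v, Cfsg.sympForm m F (p + r) v = Cfsg.sympForm m F p v + Cfsg.sympForm m F r v := fun p r v =>
    add_dotProduct p r _
  have hfs : ∀ (d : F) p v, Cfsg.sympForm m F (d • p) v = d * Cfsg.sympForm m F p v := fun d p v =>
    smul_dotProduct d p _
  have hfr : ∀ v p r, Cfsg.sympForm m F v (p + r) = Cfsg.sympForm m F v p + Cfsg.sympForm m F v r := fun v p r => by
    simp [Cfsg.sympForm, Matrix.mulVec_add, dotProduct_add]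
  have hfsr : ∀ (d : F) v p, Cfsg.sympForm m F v (d • p) = id d * Cfsg.sympForm m F v p := fun d v p => by
    simp [Cfsg.sympForm, Matrix.mulVec_smul, dotProduct_smul]
  have hskew : ∀ p r, Cfsg.sympForm m F r p = -Cfsg.sympForm m F p r := fun p r => by
    rw [← Sp.bf_eq, ← Sp.bf_eq, Sp.bf_swap]
  refine alternating_or_unitary (σ := id) (G := Cfsg.spGL m F) (fun _ _ => rfl) hfl hfs hfr hfsr
    (fun p r h => by rw [hskew p r, h, neg_zero]) (fun g hg => hg) ?_ e P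
    (eq_formOfGram id f₁ b1.add_left b1.smul_left b1.add_right b1.smul_right)
    (eq_formOfGram id f₂ b2.add_left b2.smul_left b2.add_right b2.smul_right) hT x hx hxo hxn hframe 0 1 (by decide)
    hy₀ (hf₂.alternating y₀) hz₀ (fun h => hz₀ (by rw [hf₂.skew, h, neg_zero]))
  intro u hu
  have hv : ∀ v, (Matrix.J (Fin m) F *ᵥ u) ⬝ᵥ v = Cfsg.sympForm m F v u := fun v => dotProduct_comm _ _
  have hgv : ∀ v, (tvGL u (Matrix.J (Fin m) F *ᵥ u) (by rw [hv]; exact hu) : Matrix _ _ F) *ᵥ v =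
      v + Cfsg.sympForm m F v u • u := fun v => by rw [tvGL_mulVec, hv]
  refine ⟨_, fun v w => ?_, hgv⟩
  change Cfsg.sympForm m F ((tvGL u (Matrix.J (Fin m) F *ᵥ u) (by rw [hv]; exact hu) : Matrix _ _ F) *ᵥ v)
    ((tvGL u (Matrix.J (Fin m) F *ᵥ u) (by rw [hv]; exact hu) : Matrix _ _ F) *ᵥ w) = _
  rw [hgv, hgv, hfl, hfs, hfr, hfr, hfsr, hfsr, hu, hskew w u, id_eq]
  ring

theorem unitary_case {n : ℕ} (hF : Fintype.card F = 4) (e : Fin n ≃ Fin 2 × Fin n₂) (P : GL (Fin n) F)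
    {f₁ : (Fin 2 → F) → (Fin 2 → F) → F} {f₂ : (Fin n₂ → F) → (Fin n₂ → F) → F} (hn : 2 ≤ n₂)
    (hf₁ : Cfsg.Geo.IsUnitaryFormPow 2 f₁) (hf₂ : Cfsg.Geo.IsUnitaryFormPow 2 f₂)
    (hT : Cfsg.Geo.IsTensorFormStructure (fun z : F => z ^ 2) (Cfsg.hermForm n F 2) f₁ f₂ e P) :
    ∃ K : Subgroup (GL (Fin n) F),
      Cfsg.Geo.tensorProductSubgroup 2 n₂ e P ⊓ (Cfsg.GU n F 2 ⊓ Cfsg.Geo.specialLinear (Fin n) F) < K ∧
        K < (Cfsg.GU n F 2 ⊓ Cfsg.Geo.specialLinear (Fin n) F) := by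
  classical
  have hF2 : Fintype.card F = 2 ^ 2 := hF
  have h4 : (4 : F) = 0 := by exact_mod_cast OrthFrame.cast_card 4 hF
  have h2 : (2 : F) = 0 := mul_self_eq_zero.1 (show (2 : F) * 2 = 0 by linear_combination h4)
  have har : ∀ {k : ℕ} {g : (Fin k → F) → (Fin k → F) → F}, Cfsg.Geo.IsUnitaryFormPow 2 g →
      (∀ v p r, g v (p + r) = g v p + g v r) ∧ ∀ (d : F) v p, g v (d • p) = d ^ 2 * g v p := fun {k g} hg =>
    ⟨fun v p r => by
      rw [hg.herm v, hg.add_left, hg.herm v p, hg.herm v r]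
      linear_combination g p v * g r v * h2,
     fun d v p => by rw [hg.herm v, hg.smul_left, hg.herm v p]; ring⟩
  obtain ⟨x, hx, hxo, hxn, hframe⟩ := frame_two hF hf₁
  obtain ⟨y₀, hy₀, hiso⟩ : ∃ y : Fin n₂ → F, y ≠ 0 ∧ f₂ y y = 0 := by
    by_contra hcon
    push Not at hcon
    have h1 : ∀ y, y ≠ 0 → f₂ y y = 1 := fun y hy => by
      rcases mul_eq_zero.1 (show f₂ y y * (f₂ y y - 1) = 0 by linear_combination -hf₂.herm y y) with h | h
      · exact absurd h (hcon y hy)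
      · exact sub_eq_zero.1 h
    obtain ⟨j0, j1, hj⟩ : ∃ j0 j1 : Fin n₂, j0 ≠ j1 := ⟨⟨0, by omega⟩, ⟨1, by omega⟩, by simp⟩
    obtain ⟨p, hp⟩ : ∃ p : Fin n₂ → F, p = Pi.single j0 1 := ⟨_, rfl⟩
    obtain ⟨r, hr⟩ : ∃ r : Fin n₂ → F, r = Pi.single j1 1 + f₂ (Pi.single j1 1) p • p :=
      ⟨_, rfl⟩
    have hp0 : p ≠ 0 := by rw [hp]; simp
    have hr0 : r ≠ 0 := fun h => by
      have := congrFun h j1
      rw [hr, hp] at this
      simp [Pi.single_apply, Ne.symm hj] at this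
    have hrp : f₂ r p = 0 := by
      rw [hr, hf₂.add_left, hf₂.smul_left, h1 p hp0]
      linear_combination f₂ (Pi.single j1 1) p * h2
    have hpr : f₂ p r = 0 := by rw [hf₂.herm, hrp]; ring
    have hne : p + r ≠ 0 := fun h => by
      have := congrFun h j1
      rw [hr, hp] at this
      simp [Pi.single_apply, Ne.symm hj] at this
    refine hcon (p + r) hne ?_
    rw [hf₂.add_left, (har hf₂).1, (har hf₂).1, hrp, hpr, h1 p hp0, h1 r hr0]
    linear_combination h2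
  obtain ⟨⟨z₀, hz₀⟩, -⟩ := hf₂.nondegenerate y₀ hy₀
  have hsg : ∀ p r : F, (fun z : F => z ^ 2) (p * r) = (fun z : F => z ^ 2) p * (fun z : F => z ^ 2) r := fun p r =>
    mul_pow p r 2
  refine alternating_or_unitary (σ := fun z : F => z ^ 2)
    (G := Cfsg.GU n F 2 ⊓ Cfsg.Geo.specialLinear (Fin n) F) hsg (Herm.form_add_left (q := 2))
    (Herm.form_smul_left (q := 2)) (Herm.form_add_right hF2) (Herm.form_smul_right (q := 2))
    (fun p r h => by rw [← Herm.form_comm hF2 p r, h]; simp) (fun g hg => hg.1) ?_ e P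
    (eq_formOfGram _ f₁ hf₁.add_left hf₁.smul_left (har hf₁).1 (har hf₁).2)
    (eq_formOfGram _ f₂ hf₂.add_left hf₂.smul_left (har hf₂).1 (har hf₂).2) hT x hx hxo hxn hframe 0 1 (by decide)
    hy₀ hiso hz₀ (fun h => hz₀ (by rw [hf₂.herm, h]; simp))
  intro u hu
  have hv : ∀ v, (fun j => u j ^ 2) ⬝ᵥ v = Cfsg.hermForm n F 2 v u := fun v => by
    simp [Cfsg.hermForm, dotProduct, mul_comm]
  have hgv : ∀ v, (tvGL u (fun j => u j ^ 2) (by rw [hv]; exact hu) : Matrix _ _ F) *ᵥ v =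
      v + Cfsg.hermForm n F 2 v u • u := fun v => by rw [tvGL_mulVec, hv]
  refine ⟨_, ⟨fun v w => ?_, tvGL_mem_SL _ _ _⟩, hgv⟩
  change Cfsg.hermForm n F 2 ((tvGL u (fun j => u j ^ 2) (by rw [hv]; exact hu) : Matrix _ _ F) *ᵥ v)
    ((tvGL u (fun j => u j ^ 2) (by rw [hv]; exact hu) : Matrix _ _ F) *ᵥ w) = _
  rw [hgv, hgv, Herm.form_add_left, Herm.form_add_right hF2, Herm.form_add_right hF2, Herm.form_smul_left,
    Herm.form_smul_left, Herm.form_smul_right, Herm.form_smul_right, hu, ← Herm.form_comm hF2 u w]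
  have hc : (Cfsg.hermForm n F 2 u w ^ 2) ^ 2 = Cfsg.hermForm n F 2 u w := Herm.pow_pow_q hF2 _
  rw [hc]
  linear_combination Cfsg.hermForm n F 2 v u * Cfsg.hermForm n F 2 u w * h2

/-- exchange of the two factors -/
theorem swap_factors {f : (ι → F) → (ι → F) → F} {f₁ : (Fin n₁ → F) → (Fin n₁ → F) → F}
    {f₂ : (Fin n₂ → F) → (Fin n₂ → F) → F} {σ : F → F} (e : ι ≃ Fin n₁ × Fin n₂) (P : GL ι F)
    (h : Cfsg.Geo.IsTensorFormStructure σ f f₁ f₂ e P) :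
    Cfsg.Geo.IsTensorFormStructure σ f f₂ f₁ (e.trans (Equiv.prodComm _ _)) P ∧
      Cfsg.Geo.tensorProductSubgroup n₁ n₂ e P ≤
        Cfsg.Geo.tensorProductSubgroup n₂ n₁ (e.trans (Equiv.prodComm _ _)) P := by
  constructor
  · obtain ⟨c, hc, hf⟩ := h
    refine ⟨c, hc, fun v w => ?_⟩
    have := hf (v ∘ Prod.swap) (w ∘ Prod.swap)
    rw [Function.comp_assoc, Function.comp_assoc] at this
    rw [show (v ∘ ⇑(e.trans (Equiv.prodComm _ _))) = v ∘ (Prod.swap ∘ ⇑e) from rfl,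
      show (w ∘ ⇑(e.trans (Equiv.prodComm _ _))) = w ∘ (Prod.swap ∘ ⇑e) from rfl, this]
    congr 1
    unfold Cfsg.Geo.formOfGram
    rw [← Equiv.sum_comp (Equiv.prodComm (Fin n₂) (Fin n₁))]
    refine Finset.sum_congr rfl fun a _ => ?_
    rw [← Equiv.sum_comp (Equiv.prodComm (Fin n₂) (Fin n₁))]
    refine Finset.sum_congr rfl fun b _ => ?_
    simp [Matrix.kroneckerMap_apply, mul_comm (Cfsg.Geo.gramMatrix f₁ _ _)]
  · rintro _ ⟨_, ⟨k, ⟨a, b, hk⟩, rfl⟩, rfl⟩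
    refine ⟨_, ⟨Cfsg.Geo.glReindex (Equiv.prodComm _ _) k, ⟨b, a, ?_⟩, rfl⟩, ?_⟩
    · show Matrix.reindex _ _ (k : Matrix (Fin n₁ × Fin n₂) (Fin n₁ × Fin n₂) F) = _
      rw [hk]
      ext p r
      simp [Matrix.kroneckerMap_apply, mul_comm]
    · refine congrArg (MulAut.conj P) (Units.ext ?_)
      show Matrix.reindex _ _ (Matrix.reindex _ _ (k : Matrix (Fin n₁ × Fin n₂) (Fin n₁ × Fin n₂) F)) =
        Matrix.reindex _ _ (k : Matrix (Fin n₁ × Fin n₂) (Fin n₁ × Fin n₂) F)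
      ext p r
      simp

end CfsgLib.Lie.TensorFrame
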